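import Mathlib

set_option autoImplicit false

namespace Cfsg.Agent.Lib.Helper19

open Finset

section frob
variable {N : Type*} [Group N]

/-- if `g^r = 1 = h^r`, `g^j = h^j` with `j` coprime to `r`, then `g = h` -/
theorem eq_of_pow_eq_of_coprime {g h : N} {r j : ℕ} (hg : g ^ r = 1) (hh : h ^ r = 1)
    (hr : 1 < r) (hj : Nat.Coprime j r) (hpow : g ^ j = h ^ j) : g = h := by
  obtain ⟨m, -, hm⟩ := Nat.exists_mul_mod_eq_one_of_coprime hj hr
  have e1 : g ^ (j * m) = g := by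
    rw [pow_eq_pow_mod _ hg, hm, pow_one]
  have e2 : h ^ (j * m) = h := by
    rw [pow_eq_pow_mod _ hh, hm, pow_one]
  rw [← e1, ← e2, pow_mul, pow_mul, hpow]

/-- `(k x)^j x^{-j} ∈ K` when `x` normalizes `K` -/
theorem mul_pow_mul_inv_pow_mem (K : Subgroup N) {x : N} (hx : x ∈ Subgroup.normalizer (K : Set N))
    {k : N} (hk : k ∈ K) (j : ℕ) : (k * x) ^ j * (x ^ j)⁻¹ ∈ K := by
  induction j with
  | zero => simp
  | succ j ih =>
    have hxj : x ^ j ∈ Subgroup.normalizer (K : Set N) := Subgroup.pow_mem _ hx j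
    have h1 : x ^ j * k * (x ^ j)⁻¹ ∈ K := (Subgroup.mem_normalizer_iff.mp hxj k).mp hk
    have : (k * x) ^ (j + 1) * (x ^ (j + 1))⁻¹ =
        ((k * x) ^ j * (x ^ j)⁻¹) * (x ^ j * k * (x ^ j)⁻¹) := by
      rw [pow_succ, pow_succ]
      group
    rw [this]
    exact K.mul_mem ih h1

end frob

end Cfsg.Agent.Lib.Helper19
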