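import Mathlib
import Cfsg.Agent.Lib.Helper19.FrobFix0

set_option autoImplicit false

namespace Cfsg.Agent.Lib.Helper19

open Finset

section frob
variable {N : Type*} [Group N]

/-- conjugation on a normal subgroup -/
noncomputable def cn (V : Subgroup N) [V.Normal] (g : N) (v : V) : V := MulAut.conjNormal g v

theorem cn_mul (V : Subgroup N) [V.Normal] (g h : N) (v : V) :
    cn V g (cn V h v) = cn V (g * h) v := by
  simp only [cn, map_mul, MulAut.mul_apply]

open scoped IsMulCommutative in
theorem cn_prod (V : Subgroup N) [V.Normal] [IsMulCommutative V] (g : N) {ι : Type*}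
    (s : Finset ι) (f : ι → V) : cn V g (∏ i ∈ s, f i) = ∏ i ∈ s, cn V g (f i) :=
  map_prod (MulAut.conjNormal g : MulAut V) f s

theorem cn_fix (V : Subgroup N) [V.Normal] (g : N) (v : V) (h : cn V g v = v) :
    g * (v : N) = (v : N) * g := by
  have := congrArg Subtype.val h
  simp only [cn, MulAut.conjNormal_apply] at this
  calc g * (v : N) = g * v * g⁻¹ * g := by group
    _ = v * g := by rw [this]

theorem cn_one (V : Subgroup N) [V.Normal] (v : V) : cn V 1 v = v := by
  simp [cn]

open scoped IsMulCommutative in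
/-- Fixed points in a Frobenius-like action: `K⟨x⟩` acts on the abelian normal `p`-subgroup `V`,
`|K|` prime to `p`, all `k x` of order dividing the prime `r`, some `y ∈ K` fixed-point-free on `V`;
then some `k x` centralizes a nonidentity element of `V`. -/
theorem exists_fixed_of_frobenius_like [Finite N] (p r : ℕ) (hr : r.Prime)
    (V : Subgroup N) [V.Normal] [IsMulCommutative V] (hVp : IsPGroup p V) (hV1 : V ≠ ⊥)
    (K : Subgroup N) (hKp : (Nat.card K).Coprime p)
    (x : N) (hx : x ∈ Subgroup.normalizer (K : Set N))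
    (hord : ∀ k ∈ K, (k * x) ^ r = 1)
    (y : N) (hyK : y ∈ K) (hy : ∀ v ∈ V, y * v = v * y → v = 1) :
    ∃ k ∈ K, ∃ v ∈ V, v ≠ 1 ∧ (k * x) * v = v * (k * x) := by
  classical
  by_contra hcon
  push Not at hcon
  haveI : Fintype K := Fintype.ofFinite K
  -- elements fixed by `y` are trivial
  have y_fix : ∀ v : V, cn V y v = v → v = 1 := by
    intro v h
    exact Subtype.ext (hy v v.2 (cn_fix V y v h))
  -- pick `v ≠ 1`
  obtain ⟨v, hv1⟩ : ∃ v : V, v ≠ 1 := by
    by_contra h
    push Not at h
    apply hV1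
    rw [Subgroup.eq_bot_iff_forall]
    intro a ha
    exact congrArg Subtype.val (h ⟨a, ha⟩)
  have hr1 : 1 < r := hr.one_lt
  have hr0 : 0 < r := hr.pos
  -- the three products
  set T : V := ∏ k : K, ∏ j ∈ range r, cn V ((k : N) * x ^ j) v with hT
  set T₀ : V := ∏ k : K, cn V (k : N) v with hT₀
  set S : V := ∏ k : K, ∏ j ∈ Ico 1 r, cn V ((k : N) * x ^ j) v with hS
  have hTfix : cn V y T = T := by
    rw [hT, cn_prod]
    simp_rw [cn_prod, cn_mul]
    let e : K ≃ K := Equiv.mulLeft ⟨y, hyK⟩
    rw [← Equiv.prod_comp e (fun k : K => ∏ j ∈ range r, cn V ((k : N) * x ^ j) v)]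
    apply Finset.prod_congr rfl
    intro k _
    apply Finset.prod_congr rfl
    intro j _
    simp [e, mul_assoc]
  have hT₀fix : cn V y T₀ = T₀ := by
    rw [hT₀, cn_prod]
    simp_rw [cn_mul]
    let e : K ≃ K := Equiv.mulLeft ⟨y, hyK⟩
    rw [← Equiv.prod_comp e (fun k : K => cn V (k : N) v)]
    apply Finset.prod_congr rfl
    intro k _
    simp [e]
  have hT1 : T = 1 := y_fix T hTfix
  have hT₀1 : T₀ = 1 := y_fix T₀ hT₀fix
  have hTS : T = T₀ * S := by
    rw [hT, hT₀, hS, ← Finset.prod_mul_distrib]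
    apply Finset.prod_congr rfl
    intro k _
    rw [Finset.prod_range_eq_mul_Ico _ hr0, pow_zero, mul_one]
  have hS1 : S = 1 := by
    rw [hT1, hT₀1, one_mul] at hTS
    exact hTS.symm
  -- norms
  have hnorm : ∀ k : K, ∏ j ∈ range r, cn V (((k : N) * x) ^ j) v = 1 := by
    intro k
    set g : N := (k : N) * x with hg
    set n : V := ∏ j ∈ range r, cn V (g ^ j) v with hn
    have hfix : cn V g n = n := by
      rw [hn, cn_prod]
      simp_rw [cn_mul, ← pow_succ']
      have h1 := Finset.prod_range_succ' (fun j => cn V (g ^ j) v) r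
      have h2 := Finset.prod_range_succ (fun j => cn V (g ^ j) v) r
      have h3 : cn V (g ^ r) v = cn V (g ^ 0) v := by
        rw [hg, hord k k.2, pow_zero]
      rw [h1, h3] at h2
      exact mul_right_cancel h2
    by_contra hne
    have h1 := cn_fix V g n hfix
    exact hcon k k.2 n n.2 (fun h => hne (Subtype.ext h)) h1
  -- reindexing the cosets
  have hbij : ∀ j ∈ Ico 1 r, ∏ k : K, cn V (((k : N) * x) ^ j) v =
      ∏ k : K, cn V ((k : N) * x ^ j) v := by
    intro j hj
    rw [Finset.mem_Ico] at hj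
    let ψ : K → K := fun k => ⟨((k : N) * x) ^ j * (x ^ j)⁻¹, mul_pow_mul_inv_pow_mem K hx k.2 j⟩
    have hψ : ∀ k : K, ((k : N) * x) ^ j = (ψ k : N) * x ^ j := by
      intro k
      simp [ψ]
    have hinj : Function.Injective ψ := by
      intro k k' h
      have h' : ((k : N) * x) ^ j = ((k' : N) * x) ^ j := by
        rw [hψ k, hψ k', h]
      have hcop : Nat.Coprime j r :=
        (Nat.coprime_of_lt_prime (by omega) hj.2 hr).symm
      have := eq_of_pow_eq_of_coprime (hord k k.2) (hord k' k'.2) hr1 hcop h'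
      exact Subtype.ext (mul_right_cancel this)
    have hbij := (Finite.injective_iff_bijective.mp hinj)
    rw [← Function.Bijective.prod_comp hbij (fun k : K => cn V ((k : N) * x ^ j) v)]
    apply Finset.prod_congr rfl
    intro k _
    rw [hψ k]
  -- the count
  have hcount : ∏ k : K, ∏ j ∈ range r, cn V (((k : N) * x) ^ j) v = v ^ Nat.card K * S := by
    rw [Finset.prod_comm, Finset.prod_range_eq_mul_Ico _ hr0, hS, Finset.prod_comm (s := univ)]
    congr 1
    · simp [cn_one, Nat.card_eq_fintype_card]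
    · exact Finset.prod_congr rfl hbij
  have hv : v ^ Nat.card K = 1 := by
    rw [hS1, mul_one] at hcount
    rw [← hcount]
    exact Finset.prod_eq_one (fun k _ => hnorm k)
  obtain ⟨a, ha⟩ := hVp v
  have hgcd : v ^ Nat.gcd (p ^ a) (Nat.card K) = 1 := pow_gcd_eq_one.mpr ⟨ha, hv⟩
  have hc : Nat.gcd (p ^ a) (Nat.card K) = 1 := Nat.Coprime.pow_left a hKp.symm
  rw [hc, pow_one] at hgcd
  exact hv1 hgcd

end frob

end Cfsg.Agent.Lib.Helper19
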