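import Mathlib
import Cfsg.Agent.Lib.Helper19.FrobFix1

set_option autoImplicit false

namespace Cfsg.Agent.Lib.Helper19

open Subgroup

section frob2
variable {G : Type*} [Group G]

/-- ambient-group version of `exists_fixed_of_frobenius_like` -/
theorem exists_fixed_of_frobenius_like' [Finite G] (p r : ℕ) (hr : r.Prime)
    (V K : Subgroup G) (x y : G)
    (hVc : ∀ a ∈ V, ∀ b ∈ V, a * b = b * a) (hVp : ∀ v ∈ V, ∃ a : ℕ, v ^ p ^ a = 1)
    (hV1 : V ≠ ⊥) (hKN : K ≤ normalizer (V : Set G)) (hxN : x ∈ normalizer (V : Set G))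
    (hKp : (Nat.card K).Coprime p) (hxK : x ∈ normalizer (K : Set G))
    (hord : ∀ k ∈ K, (k * x) ^ r = 1)
    (hyK : y ∈ K) (hy : ∀ v ∈ V, y * v = v * y → v = 1) :
    ∃ k ∈ K, ∃ v ∈ V, v ≠ 1 ∧ (k * x) * v = v * (k * x) := by
  have hVN : V ≤ normalizer (V : Set G) := le_normalizer
  haveI : IsMulCommutative (V.subgroupOf (normalizer (V : Set G))) := by
    refine ⟨⟨?_⟩⟩
    intro a b
    apply Subtype.ext
    apply Subtype.ext
    exact hVc _ (Subgroup.mem_subgroupOf.mp a.2) _ (Subgroup.mem_subgroupOf.mp b.2)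
  have hVp' : IsPGroup p (V.subgroupOf (normalizer (V : Set G))) := by
    intro v
    obtain ⟨a, ha⟩ := hVp _ (Subgroup.mem_subgroupOf.mp v.2)
    refine ⟨a, ?_⟩
    apply Subtype.ext
    apply Subtype.ext
    simpa using ha
  have hV1' : V.subgroupOf (normalizer (V : Set G)) ≠ ⊥ := by
    intro h
    rw [Subgroup.subgroupOf_eq_bot] at h
    apply hV1
    have := disjoint_iff.mp h
    rwa [inf_of_le_left hVN] at this
  have hKp' : (Nat.card (K.subgroupOf (normalizer (V : Set G)))).Coprime p := by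
    rw [Nat.card_congr (Subgroup.subgroupOfEquivOfLe hKN).toEquiv]
    exact hKp
  have hxK' : (⟨x, hxN⟩ : normalizer (V : Set G)) ∈
      normalizer ((K.subgroupOf (normalizer (V : Set G)) : Subgroup _) : Set _) := by
    rw [mem_normalizer_iff]
    intro h
    rw [Subgroup.mem_subgroupOf, Subgroup.mem_subgroupOf]
    exact mem_normalizer_iff.mp hxK h
  have hord' : ∀ k ∈ K.subgroupOf (normalizer (V : Set G)),
      (k * (⟨x, hxN⟩ : normalizer (V : Set G))) ^ r = 1 := by
    intro k hk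
    apply Subtype.ext
    simpa using hord _ (Subgroup.mem_subgroupOf.mp hk)
  have hy' : ∀ v ∈ V.subgroupOf (normalizer (V : Set G)),
      (⟨y, hKN hyK⟩ : normalizer (V : Set G)) * v = v * ⟨y, hKN hyK⟩ → v = 1 := by
    intro v hv hc
    apply Subtype.ext
    exact hy _ (Subgroup.mem_subgroupOf.mp hv) (congrArg Subtype.val hc)
  obtain ⟨k, hk, v, hv, hv1, hc⟩ := exists_fixed_of_frobenius_like p r hr
    (V.subgroupOf (normalizer (V : Set G))) hVp' hV1'
    (K.subgroupOf (normalizer (V : Set G))) hKp' ⟨x, hxN⟩ hxK' hord' ⟨y, hKN hyK⟩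
    (Subgroup.mem_subgroupOf.mpr hyK) hy'
  refine ⟨k, Subgroup.mem_subgroupOf.mp hk, v, Subgroup.mem_subgroupOf.mp hv, ?_, ?_⟩
  · intro h
    exact hv1 (Subtype.ext h)
  · exact congrArg Subtype.val hc

end frob2

end Cfsg.Agent.Lib.Helper19
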