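import Mathlib

set_option autoImplicit false

namespace Cfsg.Agent.Lib.Helper19

open MulAction

/-- Burnside's lemma stated with `Nat.card`. -/
theorem burnside_natCard {G Ω : Type*} [Group G] [MulAction G Ω] [Fintype G] [Finite Ω] :
    ∑ g : G, Nat.card (fixedBy Ω g) = Nat.card (orbitRel.Quotient G Ω) * Nat.card G := by
  classical
  haveI := Fintype.ofFinite Ω
  have := sum_card_fixedBy_eq_card_orbits_mul_card_group G Ω
  simp only [Nat.card_eq_fintype_card]
  convert this

/-- number of orbits of a transitive action on a nonempty type is one -/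
theorem card_orbits_eq_one {G Ω : Type*} [Group G] [MulAction G Ω] [IsPretransitive G Ω]
    [Nonempty Ω] : Nat.card (orbitRel.Quotient G Ω) = 1 := by
  obtain ⟨u⟩ := (pretransitive_iff_unique_quotient_of_nonempty G Ω).mp inferInstance
  exact Nat.card_unique

/-- Key counting lemma: if `D` contains all derangements of a transitive group on a nonempty finite
set then `D` is transitive, every element outside `D` has exactly one fixed point, and the
fixed-point counts over `D` sum to `|D|`. -/
theorem derangement_subgroup_key {G Ω : Type*} [Group G] [MulAction G Ω] [Fintype G] [Finite Ω]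
    [Nonempty Ω] [IsPretransitive G Ω] (D : Subgroup G) [Fintype D]
    (hD : ∀ g : G, (∀ ω : Ω, g • ω ≠ ω) → g ∈ D) :
    IsPretransitive D Ω ∧ (∀ g : G, g ∉ D → Nat.card (fixedBy Ω g) = 1) ∧
      ∑ d : D, Nat.card (fixedBy Ω (d : G)) = Nat.card D := by
  classical
  set f : G → ℕ := fun g => Nat.card (fixedBy Ω g) with hf
  have hf1 : ∀ g, g ∉ D → 1 ≤ f g := by
    intro g hg
    by_contra h
    have h0 : f g = 0 := by omega
    apply hg; apply hD
    intro ω hω
    rcases Nat.card_eq_zero.mp h0 with h1 | h1
    · exact h1.false ⟨ω, hω⟩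
    · exact h1.not_finite inferInstance
  have hG : ∑ g : G, f g = Nat.card G := by
    rw [hf]
    simp only
    rw [burnside_natCard, card_orbits_eq_one, one_mul]
  have hDsum : ∑ d : D, f (d : G) = Nat.card (orbitRel.Quotient D Ω) * Nat.card D := by
    have := burnside_natCard (G := D) (Ω := Ω)
    exact this
  have hsplit : ∑ g : G, f g = ∑ g ∈ Finset.univ.filter (· ∈ D), f g
      + ∑ g ∈ Finset.univ.filter (fun g => ¬ g ∈ D), f g :=
    (Finset.sum_filter_add_sum_filter_not _ _ _).symm
  have hsub : ∑ g ∈ Finset.univ.filter (· ∈ D), f g = ∑ d : D, f (d : G) := by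
    exact Finset.sum_subtype (Finset.univ.filter (· ∈ D)) (by simp) f
  have hcardsplit : Nat.card G = Nat.card D + (Finset.univ.filter (fun g : G => ¬ g ∈ D)).card := by
    have h1 : (Finset.univ.filter (fun g : G => g ∈ D)).card = Nat.card D := by
      rw [Nat.card_eq_fintype_card, Fintype.card_subtype]
    have h2 := Finset.card_filter_add_card_filter_not (s := (Finset.univ : Finset G)) (fun g : G => g ∈ D)
    rw [Finset.card_univ] at h2
    rw [Nat.card_eq_fintype_card (α := G), ← h2, h1]
  have hlow : (Finset.univ.filter (fun g : G => ¬ g ∈ D)).card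
      ≤ ∑ g ∈ Finset.univ.filter (fun g => ¬ g ∈ D), f g := by
    rw [Finset.card_eq_sum_ones]
    apply Finset.sum_le_sum
    intro g hg
    exact hf1 g (Finset.mem_filter.mp hg).2
  have hDpos : 0 < Nat.card D := Nat.card_pos
  have horb_pos : 0 < Nat.card (orbitRel.Quotient D Ω) := by
    haveI : Nonempty (orbitRel.Quotient D Ω) := (nonempty_quotient_iff _).mpr inferInstance
    exact Nat.card_pos
  -- orbits ≤ 1
  have hle : Nat.card (orbitRel.Quotient D Ω) * Nat.card D ≤ Nat.card D := by
    rw [← hDsum, ← hsub]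
    omega
  have horb1 : Nat.card (orbitRel.Quotient D Ω) = 1 := by
    have : Nat.card (orbitRel.Quotient D Ω) ≤ 1 := by
      by_contra h
      have h2 : 2 ≤ Nat.card (orbitRel.Quotient D Ω) := by omega
      have : 2 * Nat.card D ≤ Nat.card (orbitRel.Quotient D Ω) * Nat.card D :=
        Nat.mul_le_mul_right _ h2
      omega
    omega
  have htr : IsPretransitive D Ω := by
    rw [pretransitive_iff_subsingleton_quotient]
    exact (Nat.card_eq_one_iff_unique.mp horb1).1
  have hDsum' : ∑ d : D, f (d : G) = Nat.card D := by rw [hDsum, horb1, one_mul]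
  refine ⟨htr, ?_, hDsum'⟩
  -- equality case
  have heq : ∑ g ∈ Finset.univ.filter (fun g => ¬ g ∈ D), f g
      = (Finset.univ.filter (fun g : G => ¬ g ∈ D)).card := by
    rw [hsub, hDsum'] at hsplit
    omega
  intro g hg
  by_contra hne
  have hgt : 1 < f g := lt_of_le_of_ne (hf1 g hg) (Ne.symm hne)
  have hmem : g ∈ Finset.univ.filter (fun g : G => ¬ g ∈ D) := by simp [hg]
  have : (Finset.univ.filter (fun g : G => ¬ g ∈ D)).card
      < ∑ g ∈ Finset.univ.filter (fun g => ¬ g ∈ D), f g := by
    rw [Finset.card_eq_sum_ones]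
    apply Finset.sum_lt_sum
    · intro g hg
      exact hf1 g (Finset.mem_filter.mp hg).2
    · exact ⟨g, hmem, hgt⟩
  omega

/-- fixed points on the square -/
theorem card_fixedBy_prod {G Ω : Type*} [Group G] [MulAction G Ω] (g : G) :
    Nat.card (fixedBy (Ω × Ω) g) = Nat.card (fixedBy Ω g) * Nat.card (fixedBy Ω g) := by
  rw [← Nat.card_prod]
  apply Nat.card_congr
  exact
    { toFun := fun x => (⟨x.1.1, by
          have := x.2
          rw [mem_fixedBy] at this ⊢
          exact congrArg Prod.fst this⟩, ⟨x.1.2, by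
          have := x.2
          rw [mem_fixedBy] at this ⊢
          exact congrArg Prod.snd this⟩)
      invFun := fun y => ⟨(y.1.1, y.2.1), by
          rw [mem_fixedBy]
          have h1 := y.1.2
          have h2 := y.2.2
          rw [mem_fixedBy] at h1 h2
          exact Prod.ext h1 h2⟩
      left_inv := fun x => by rfl
      right_inv := fun y => by rfl }

/-- rank formula in additive form -/
theorem rank_formula_add {G Ω : Type*} [Group G] [MulAction G Ω] [Fintype G] [Finite Ω]
    [Nonempty Ω] [IsPretransitive G Ω] (D : Subgroup G) [Fintype D]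
    (hD : ∀ g : G, (∀ ω : Ω, g • ω ≠ ω) → g ∈ D) :
    Nat.card (orbitRel.Quotient G (Ω × Ω)) * Nat.card G + Nat.card D =
      Nat.card (orbitRel.Quotient D (Ω × Ω)) * Nat.card D + Nat.card G := by
  classical
  obtain ⟨_, h2, _⟩ := derangement_subgroup_key (Ω := Ω) D hD
  set f : G → ℕ := fun g => Nat.card (fixedBy (Ω × Ω) g) with hf
  have hG : ∑ g : G, f g = Nat.card (orbitRel.Quotient G (Ω × Ω)) * Nat.card G :=
    burnside_natCard (G := G) (Ω := Ω × Ω)
  have hDsum : ∑ d : D, f (d : G) = Nat.card (orbitRel.Quotient D (Ω × Ω)) * Nat.card D :=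
    burnside_natCard (G := D) (Ω := Ω × Ω)
  have hsplit : ∑ g : G, f g = ∑ g ∈ Finset.univ.filter (· ∈ D), f g
      + ∑ g ∈ Finset.univ.filter (fun g => ¬ g ∈ D), f g :=
    (Finset.sum_filter_add_sum_filter_not _ _ _).symm
  have hsub : ∑ g ∈ Finset.univ.filter (· ∈ D), f g = ∑ d : D, f (d : G) := by
    exact Finset.sum_subtype (Finset.univ.filter (· ∈ D)) (by simp) f
  have hcardsplit : Nat.card G = Nat.card D + (Finset.univ.filter (fun g : G => ¬ g ∈ D)).card := by
    have h1 : (Finset.univ.filter (fun g : G => g ∈ D)).card = Nat.card D := by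
      rw [Nat.card_eq_fintype_card, Fintype.card_subtype]
    have h2 := Finset.card_filter_add_card_filter_not (s := (Finset.univ : Finset G)) (fun g : G => g ∈ D)
    rw [Finset.card_univ] at h2
    rw [Nat.card_eq_fintype_card (α := G), ← h2, h1]
  have hout : ∑ g ∈ Finset.univ.filter (fun g => ¬ g ∈ D), f g
      = (Finset.univ.filter (fun g : G => ¬ g ∈ D)).card := by
    rw [Finset.card_eq_sum_ones]
    apply Finset.sum_congr rfl
    intro g hg
    have := h2 g (Finset.mem_filter.mp hg).2
    simp only [hf, card_fixedBy_prod, this]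
  rw [← hG, ← hDsum, hsplit, hsub, hout]
  omega

end Cfsg.Agent.Lib.Helper19
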