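import Mathlib
/-! Combinatorial core of Brauer's proof of the Brauer–Suzuki theorem for `Q₈` (part (F) of the
lead's plan `notes/brauer_suzuki_q8_plan.md`). Pure Mathlib. -/
set_option autoImplicit false
namespace Cfsg.Agent.Lib.Q8Core

open Finset

/-- a positive weighting cannot be orthogonal to an integer vector of square norm 4 having an
entry of absolute value two -/
theorem aux_L1 {ι : Type*} [Fintype ι] [DecidableEq ι] (x : ι → ℝ) (hxpos : ∀ i, 0 < x i)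
    (z : ι → ℤ) (hz : ∑ i, z i * z i = 4) (m : ι) (hm : 4 ≤ z m * z m)
    (hxz : ∑ i, x i * (z i : ℝ) = 0) : False := by
  have h1 := Finset.add_sum_erase Finset.univ (fun i => z i * z i) (Finset.mem_univ m)
  rw [hz] at h1
  have hnn : ∀ i ∈ Finset.univ.erase m, 0 ≤ z i * z i := fun i _ => mul_self_nonneg _
  have h2 : 0 ≤ ∑ i ∈ Finset.univ.erase m, z i * z i := Finset.sum_nonneg hnn
  have h3 : ∑ i ∈ Finset.univ.erase m, z i * z i = 0 := by linarith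
  have h4 := (Finset.sum_eq_zero_iff_of_nonneg hnn).mp h3
  have h5 : ∀ i, i ≠ m → z i = 0 := by
    intro i hi
    have := h4 i (Finset.mem_erase.mpr ⟨hi, Finset.mem_univ _⟩)
    exact mul_self_eq_zero.mp this
  rw [Finset.sum_eq_single m] at hxz
  · rcases mul_eq_zero.mp hxz with h | h
    · exact absurd h (hxpos m).ne'
    · have : z m = 0 := by exact_mod_cast h
      rw [this] at hm
      norm_num at hm
  · intro i _ hi
    rw [h5 i hi]
    simp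
  · intro h
    exact absurd (Finset.mem_univ m) h

/-- exactly one index where a `0/1`-valued function with sum one takes the value one -/
theorem aux_L2 {ι : Type*} [Fintype ι] [DecidableEq ι] (g : ι → ℤ)
    (hg : ∀ i, g i = 0 ∨ g i = 1) (hsum : ∑ i, g i = 1) :
    ∃ i, g i = 1 ∧ ∀ k, g k = 1 → k = i := by
  have hex : ∃ i, g i ≠ 0 := by
    by_contra hcon
    push Not at hcon
    rw [Finset.sum_eq_zero (fun i _ => hcon i)] at hsum
    norm_num at hsum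
  obtain ⟨i, hi⟩ := hex
  have hi1 : g i = 1 := by
    rcases hg i with h | h
    · exact absurd h hi
    · exact h
  refine ⟨i, hi1, ?_⟩
  intro k hk
  by_contra hne
  have h1 := Finset.add_sum_erase Finset.univ g (Finset.mem_univ i)
  have hnn : ∀ j ∈ Finset.univ.erase i, 0 ≤ g j := by
    intro j _
    rcases hg j with h | h <;> rw [h] <;> norm_num
  have h2 : g k ≤ ∑ j ∈ Finset.univ.erase i, g j :=
    Finset.single_le_sum hnn (Finset.mem_erase.mpr ⟨hne, Finset.mem_univ _⟩)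
  rw [hsum, hi1] at h1
  linarith


/-- parity of a sum of three entries in `{0, 1, -1}` via squares -/
theorem aux_par (e0 e1 e2 : ℤ) (h0 : e0 = 0 ∨ e0 = 1 ∨ e0 = -1) (h1 : e1 = 0 ∨ e1 = 1 ∨ e1 = -1)
    (h2 : e2 = 0 ∨ e2 = 1 ∨ e2 = -1) :
    e0 * e0 + e1 * e1 + e2 * e2 - 2 * (e0 * e0 * (e1 * e1) + e0 * e0 * (e2 * e2) +
      e1 * e1 * (e2 * e2)) + 4 * (e0 * e0 * (e1 * e1) * (e2 * e2)) =
      if Odd (e0 + e1 + e2) then 1 else 0 := by
  rcases h0 with rfl | rfl | rfl <;> rcases h1 with rfl | rfl | rfl <;>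
    rcases h2 with rfl | rfl | rfl <;> decide

/-- entries, pair products and the basic moment sums -/
theorem aux_moments {ι : Type*} [Fintype ι] [DecidableEq ι]
    (d : ι → Fin 3 → ℤ) (a : ι → ℤ) (x : ι → ℝ) (h : Fin 3 → ℤ)
    (hh : ∀ j, h j = 1 ∨ h j = -1)
    (hgram : ∀ j l, ∑ i, d i j * d i l = 2 * ((if j = l then 1 else 0) + h j * h l))
    (hacard : (univ.filter (fun i => a i ≠ 0)).card = 4)
    (hpar : ∀ i, a i ≠ 0 ↔ Odd (∑ j, d i j))
    (hxpos : ∀ i, 0 < x i)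
    (hxd : ∀ j, ∑ i, x i * (d i j : ℝ) = 0) :
    (∀ i j, d i j = 0 ∨ d i j = 1 ∨ d i j = -1) ∧
    (∀ j l, j ≠ l → ∀ i, d i j * d i l = 0 ∨ d i j * d i l = h j * h l) ∧
    (∀ j, ∑ i, d i j * d i j = 4) ∧
    (∀ j l, j ≠ l → ∑ i, d i j * d i j * (d i l * d i l) = 2) ∧
    ∑ i, d i 0 * d i 0 * (d i 1 * d i 1) * (d i 2 * d i 2) = 1 := by
  classical
  have hh2 : ∀ j, h j * h j = 1 := by
    intro j; rcases hh j with e | e <;> rw [e] <;> norm_num
  have hcol : ∀ j, ∑ i, d i j * d i j = 4 := by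
    intro j; rw [hgram j j, if_pos rfl, hh2]; norm_num
  have hent : ∀ i j, d i j = 0 ∨ d i j = 1 ∨ d i j = -1 := by
    intro i j
    by_contra hne
    push Not at hne
    have h1 : d i j ≤ -2 ∨ 2 ≤ d i j := by
      obtain ⟨h0, h1, h2⟩ := hne
      omega
    have h2 : 4 ≤ d i j * d i j := by
      rcases h1 with h1 | h1 <;> nlinarith
    exact aux_L1 x hxpos (fun i => d i j) (hcol j) i h2 (hxd j)
  have hpair : ∀ j l, j ≠ l → ∀ i, d i j * d i l = 0 ∨ d i j * d i l = h j * h l := by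
    intro j l hjl i
    by_contra hne
    push Not at hne
    obtain ⟨hne0, hneε⟩ := hne
    -- z = d_j - ε d_l
    have hz : ∑ k, (d k j - h j * h l * d k l) * (d k j - h j * h l * d k l) = 4 := by
      have h1 : ∀ k, (d k j - h j * h l * d k l) * (d k j - h j * h l * d k l) =
          d k j * d k j - 2 * (h j * h l) * (d k j * d k l) +
            (h j * h j) * (h l * h l) * (d k l * d k l) := by
        intro k; ring
      simp only [h1, Finset.sum_add_distrib, Finset.sum_sub_distrib, ← Finset.mul_sum]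
      rw [hcol j, hcol l, hgram j l, if_neg hjl, hh2 j, hh2 l]
      have := hh2 j
      have := hh2 l
      nlinarith
    have hxz : ∑ k, x k * (((d k j - h j * h l * d k l : ℤ)) : ℝ) = 0 := by
      have h1 : ∀ k, x k * (((d k j - h j * h l * d k l : ℤ)) : ℝ) =
          x k * (d k j : ℝ) - ((h j : ℝ) * (h l : ℝ)) * (x k * (d k l : ℝ)) := by
        intro k; push_cast; ring
      simp only [h1, Finset.sum_sub_distrib, ← Finset.mul_sum]
      rw [hxd j, hxd l]; ring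
    have hm : 4 ≤ (d i j - h j * h l * d i l) * (d i j - h j * h l * d i l) := by
      rcases hent i j with e1 | e1 | e1 <;> rcases hent i l with e2 | e2 | e2 <;>
        rcases hh j with e3 | e3 <;> rcases hh l with e4 | e4 <;>
        (simp only [e1, e2, e3, e4] at hne0 hneε ⊢) <;> omega
    exact aux_L1 x hxpos _ hz i hm hxz
  have hN : ∀ j l, j ≠ l → ∑ i, d i j * d i j * (d i l * d i l) = 2 := by
    intro j l hjl
    have h1 : ∀ i, d i j * d i j * (d i l * d i l) = (h j * h l) * (d i j * d i l) := by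
      intro i
      rcases hpair j l hjl i with e | e
      · have : d i j * d i j * (d i l * d i l) = (d i j * d i l) * (d i j * d i l) := by ring
        rw [this, e]; ring
      · have : d i j * d i j * (d i l * d i l) = (d i j * d i l) * (d i j * d i l) := by ring
        rw [this, e]
    simp only [h1, ← Finset.mul_sum]
    rw [hgram j l, if_neg hjl]
    have := hh2 j
    have := hh2 l
    nlinarith
  refine ⟨hent, hpair, hcol, hN, ?_⟩
  -- parity count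
  have hparsum : ∑ i, (d i 0 * d i 0 + d i 1 * d i 1 + d i 2 * d i 2 -
      2 * (d i 0 * d i 0 * (d i 1 * d i 1) + d i 0 * d i 0 * (d i 2 * d i 2) +
        d i 1 * d i 1 * (d i 2 * d i 2)) +
      4 * (d i 0 * d i 0 * (d i 1 * d i 1) * (d i 2 * d i 2))) = 4 := by
    have h1 : ∀ i, (d i 0 * d i 0 + d i 1 * d i 1 + d i 2 * d i 2 -
      2 * (d i 0 * d i 0 * (d i 1 * d i 1) + d i 0 * d i 0 * (d i 2 * d i 2) +
        d i 1 * d i 1 * (d i 2 * d i 2)) +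
      4 * (d i 0 * d i 0 * (d i 1 * d i 1) * (d i 2 * d i 2))) = if a i ≠ 0 then 1 else 0 := by
      intro i
      rw [aux_par _ _ _ (hent i 0) (hent i 1) (hent i 2)]
      have := hpar i
      rw [Fin.sum_univ_three] at this
      by_cases hai : a i ≠ 0
      · rw [if_pos hai, if_pos (this.mp hai)]
      · rw [if_neg hai, if_neg (fun h => hai (this.mpr h))]
    simp only [h1]
    rw [Finset.sum_boole, hacard]
    norm_num
  simp only [Finset.sum_add_distrib, Finset.sum_sub_distrib, ← Finset.mul_sum] at hparsum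
  rw [hcol 0, hcol 1, hcol 2, hN 0 1 (by decide), hN 0 2 (by decide), hN 1 2 (by decide)] at hparsum
  linarith


/-- the seven rows -/
theorem aux_rows {ι : Type*} [Fintype ι] [DecidableEq ι]
    (d : ι → Fin 3 → ℤ) (a : ι → ℤ) (i₀ : ι) (hd0 : d i₀ = ![1, 0, 0])
    (hent : ∀ i j, d i j = 0 ∨ d i j = 1 ∨ d i j = -1)
    (hcol : ∀ j, ∑ i, d i j * d i j = 4)
    (hN : ∀ j l, j ≠ l → ∑ i, d i j * d i j * (d i l * d i l) = 2)
    (hT : ∑ i, d i 0 * d i 0 * (d i 1 * d i 1) * (d i 2 * d i 2) = 1)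
    (hpar : ∀ i, a i ≠ 0 ↔ Odd (∑ j, d i j))
    (hrow : ∀ i, a i = 0 → d i ≠ 0) :
    ∃ r : Fin 7 → ι, Function.Bijective r ∧ r 0 = i₀ ∧
      (d (r 1) 0 = 0 ∧ d (r 1) 1 ≠ 0 ∧ d (r 1) 2 = 0) ∧
      (d (r 2) 0 = 0 ∧ d (r 2) 1 = 0 ∧ d (r 2) 2 ≠ 0) ∧
      (d (r 3) 0 ≠ 0 ∧ d (r 3) 1 ≠ 0 ∧ d (r 3) 2 = 0) ∧
      (d (r 4) 0 ≠ 0 ∧ d (r 4) 1 = 0 ∧ d (r 4) 2 ≠ 0) ∧
      (d (r 5) 0 = 0 ∧ d (r 5) 1 ≠ 0 ∧ d (r 5) 2 ≠ 0) ∧
      (d (r 6) 0 ≠ 0 ∧ d (r 6) 1 ≠ 0 ∧ d (r 6) 2 ≠ 0) := by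
  classical
  obtain ⟨u, hu⟩ : ∃ u : ι → Fin 3 → ℤ, ∀ i j, u i j = d i j * d i j := ⟨_, fun _ _ => rfl⟩
  have hu01 : ∀ i j, u i j = 0 ∨ u i j = 1 := by
    intro i j
    rw [hu]
    rcases hent i j with e | e | e <;> rw [e] <;> norm_num
  have hu0 : ∀ i j, u i j = 0 → d i j = 0 := by
    intro i j h; rw [hu] at h; exact mul_self_eq_zero.mp h
  have hu1 : ∀ i j, u i j = 1 → d i j ≠ 0 := by
    intro i j h h0; rw [hu, h0] at h; norm_num at h
  have hC : ∀ j, ∑ i, u i j = 4 := by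
    intro j; simp only [hu]; exact hcol j
  have hN' : ∀ j l, j ≠ l → ∑ i, u i j * u i l = 2 := by
    intro j l hjl; simp only [hu]; exact hN j l hjl
  have hT' : ∑ i, u i 0 * u i 1 * u i 2 = 1 := by
    simp only [hu]; exact hT
  have hnz : ∀ i, u i 0 = 1 ∨ u i 1 = 1 ∨ u i 2 = 1 := by
    intro i
    by_contra hcon
    push Not at hcon
    obtain ⟨c0, c1, c2⟩ := hcon
    have z0 : d i 0 = 0 := hu0 i 0 ((hu01 i 0).resolve_right c0)
    have z1 : d i 1 = 0 := hu0 i 1 ((hu01 i 1).resolve_right c1)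
    have z2 : d i 2 = 0 := hu0 i 2 ((hu01 i 2).resolve_right c2)
    have hai : a i = 0 := by
      by_contra hai
      have := (hpar i).mp hai
      rw [Fin.sum_univ_three, z0, z1, z2] at this
      exact absurd this (by decide)
    apply hrow i hai
    funext j
    fin_cases j
    · exact z0
    · exact z1
    · exact z2
  have hi0 : u i₀ 0 = 1 ∧ u i₀ 1 = 0 ∧ u i₀ 2 = 0 := by
    simp [hu, hd0]
  -- the seven indicator sums
  have s0 : ∑ i, u i 0 * (1 - u i 1) * (1 - u i 2) = 1 := by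
    have e : ∀ i, u i 0 * (1 - u i 1) * (1 - u i 2) =
        u i 0 - u i 0 * u i 1 - u i 0 * u i 2 + u i 0 * u i 1 * u i 2 := by intro i; ring
    simp only [e, Finset.sum_add_distrib, Finset.sum_sub_distrib]
    rw [hC 0, hN' 0 1 (by decide), hN' 0 2 (by decide), hT']; norm_num
  have s1 : ∑ i, (1 - u i 0) * u i 1 * (1 - u i 2) = 1 := by
    have e : ∀ i, (1 - u i 0) * u i 1 * (1 - u i 2) =
        u i 1 - u i 0 * u i 1 - u i 1 * u i 2 + u i 0 * u i 1 * u i 2 := by intro i; ring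
    simp only [e, Finset.sum_add_distrib, Finset.sum_sub_distrib]
    rw [hC 1, hN' 0 1 (by decide), hN' 1 2 (by decide), hT']; norm_num
  have s2 : ∑ i, (1 - u i 0) * (1 - u i 1) * u i 2 = 1 := by
    have e : ∀ i, (1 - u i 0) * (1 - u i 1) * u i 2 =
        u i 2 - u i 0 * u i 2 - u i 1 * u i 2 + u i 0 * u i 1 * u i 2 := by intro i; ring
    simp only [e, Finset.sum_add_distrib, Finset.sum_sub_distrib]
    rw [hC 2, hN' 0 2 (by decide), hN' 1 2 (by decide), hT']; norm_num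
  have s01 : ∑ i, u i 0 * u i 1 * (1 - u i 2) = 1 := by
    have e : ∀ i, u i 0 * u i 1 * (1 - u i 2) = u i 0 * u i 1 - u i 0 * u i 1 * u i 2 := by
      intro i; ring
    simp only [e, Finset.sum_sub_distrib]
    rw [hN' 0 1 (by decide), hT']; norm_num
  have s02 : ∑ i, u i 0 * (1 - u i 1) * u i 2 = 1 := by
    have e : ∀ i, u i 0 * (1 - u i 1) * u i 2 = u i 0 * u i 2 - u i 0 * u i 1 * u i 2 := by
      intro i; ring
    simp only [e, Finset.sum_sub_distrib]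
    rw [hN' 0 2 (by decide), hT']; norm_num
  have s12 : ∑ i, (1 - u i 0) * u i 1 * u i 2 = 1 := by
    have e : ∀ i, (1 - u i 0) * u i 1 * u i 2 = u i 1 * u i 2 - u i 0 * u i 1 * u i 2 := by
      intro i; ring
    simp only [e, Finset.sum_sub_distrib]
    rw [hN' 1 2 (by decide), hT']; norm_num
  -- values of products of 0/1
  have key : ∀ (f0 f1 f2 : ℤ → ℤ) (_ : ∀ t, t = 0 ∨ t = 1 → f0 t = 0 ∨ f0 t = 1)
      (_ : ∀ t, t = 0 ∨ t = 1 → f1 t = 0 ∨ f1 t = 1) (_ : ∀ t, t = 0 ∨ t = 1 → f2 t = 0 ∨ f2 t = 1)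
      (i : ι), f0 (u i 0) * f1 (u i 1) * f2 (u i 2) = 0 ∨ f0 (u i 0) * f1 (u i 1) * f2 (u i 2) = 1 := by
    intro f0 f1 f2 h0 h1 h2 i
    rcases h0 _ (hu01 i 0) with e0 | e0 <;> rcases h1 _ (hu01 i 1) with e1 | e1 <;>
      rcases h2 _ (hu01 i 2) with e2 | e2 <;> rw [e0, e1, e2] <;> norm_num
  have hid : ∀ t : ℤ, t = 0 ∨ t = 1 → (fun s : ℤ => s) t = 0 ∨ (fun s : ℤ => s) t = 1 :=
    fun t ht => ht
  have hco : ∀ t : ℤ, t = 0 ∨ t = 1 → (fun s : ℤ => 1 - s) t = 0 ∨ (fun s : ℤ => 1 - s) t = 1 := by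
    intro t ht
    rcases ht with e | e <;> simp [e]
  obtain ⟨w0, hw0, uq0⟩ := aux_L2 _ (key (fun s => s) (fun s => 1 - s) (fun s => 1 - s) hid hco hco) s0
  obtain ⟨r1, hr1, uq1⟩ := aux_L2 _ (key (fun s => 1 - s) (fun s => s) (fun s => 1 - s) hco hid hco) s1
  obtain ⟨r2, hr2, uq2⟩ := aux_L2 _ (key (fun s => 1 - s) (fun s => 1 - s) (fun s => s) hco hco hid) s2
  obtain ⟨r3, hr3, uq3⟩ := aux_L2 _ (key (fun s => s) (fun s => s) (fun s => 1 - s) hid hid hco) s01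
  obtain ⟨r4, hr4, uq4⟩ := aux_L2 _ (key (fun s => s) (fun s => 1 - s) (fun s => s) hid hco hid) s02
  obtain ⟨r5, hr5, uq5⟩ := aux_L2 _ (key (fun s => 1 - s) (fun s => s) (fun s => s) hco hid hid) s12
  obtain ⟨r6, hr6, uq6⟩ := aux_L2 _ (key (fun s => s) (fun s => s) (fun s => s) hid hid hid) hT'
  -- extraction of the values
  have ext : ∀ i (c0 c1 c2 : ℤ), (c0 = 0 ∨ c0 = 1) → (c1 = 0 ∨ c1 = 1) → (c2 = 0 ∨ c2 = 1) →
      (if c0 = 1 then u i 0 else 1 - u i 0) * (if c1 = 1 then u i 1 else 1 - u i 1) *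
        (if c2 = 1 then u i 2 else 1 - u i 2) = 1 → u i 0 = c0 ∧ u i 1 = c1 ∧ u i 2 = c2 := by
    intro i c0 c1 c2 h0 h1 h2 hprod
    rcases hu01 i 0 with e0 | e0 <;> rcases hu01 i 1 with e1 | e1 <;>
      rcases hu01 i 2 with e2 | e2 <;> rcases h0 with rfl | rfl <;> rcases h1 with rfl | rfl <;>
      rcases h2 with rfl | rfl <;> simp [e0, e1, e2] at hprod ⊢
  have v1 := ext r1 0 1 0 (Or.inl rfl) (Or.inr rfl) (Or.inl rfl) (by simpa using hr1)
  have v2 := ext r2 0 0 1 (Or.inl rfl) (Or.inl rfl) (Or.inr rfl) (by simpa using hr2)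
  have v3 := ext r3 1 1 0 (Or.inr rfl) (Or.inr rfl) (Or.inl rfl) (by simpa using hr3)
  have v4 := ext r4 1 0 1 (Or.inr rfl) (Or.inl rfl) (Or.inr rfl) (by simpa using hr4)
  have v5 := ext r5 0 1 1 (Or.inl rfl) (Or.inr rfl) (Or.inr rfl) (by simpa using hr5)
  have v6 := ext r6 1 1 1 (Or.inr rfl) (Or.inr rfl) (Or.inr rfl) (by simpa using hr6)
  have hw0i : i₀ = w0 := by
    apply uq0
    rw [hi0.1, hi0.2.1, hi0.2.2]; norm_num
  subst hw0i
  -- the enumeration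
  let r : Fin 7 → ι := ![i₀, r1, r2, r3, r4, r5, r6]
  have hcode : ∀ k, u (r k) 0 + 2 * u (r k) 1 + 4 * u (r k) 2 =
      (![1, 2, 4, 3, 5, 6, 7] : Fin 7 → ℤ) k := by
    intro k
    fin_cases k
    · show u i₀ 0 + 2 * u i₀ 1 + 4 * u i₀ 2 = 1
      rw [hi0.1, hi0.2.1, hi0.2.2]; norm_num
    · show u r1 0 + 2 * u r1 1 + 4 * u r1 2 = 2
      rw [v1.1, v1.2.1, v1.2.2]; norm_num
    · show u r2 0 + 2 * u r2 1 + 4 * u r2 2 = 4
      rw [v2.1, v2.2.1, v2.2.2]; norm_num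
    · show u r3 0 + 2 * u r3 1 + 4 * u r3 2 = 3
      rw [v3.1, v3.2.1, v3.2.2]; norm_num
    · show u r4 0 + 2 * u r4 1 + 4 * u r4 2 = 5
      rw [v4.1, v4.2.1, v4.2.2]; norm_num
    · show u r5 0 + 2 * u r5 1 + 4 * u r5 2 = 6
      rw [v5.1, v5.2.1, v5.2.2]; norm_num
    · show u r6 0 + 2 * u r6 1 + 4 * u r6 2 = 7
      rw [v6.1, v6.2.1, v6.2.2]; norm_num
  have hinj : Function.Injective (![1, 2, 4, 3, 5, 6, 7] : Fin 7 → ℤ) := by decide
  have hrinj : Function.Injective r := by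
    intro k k' hkk'
    apply hinj
    rw [← hcode k, ← hcode k', hkk']
  have hrsurj : Function.Surjective r := by
    intro i
    rcases hu01 i 0 with e0 | e0 <;> rcases hu01 i 1 with e1 | e1 <;> rcases hu01 i 2 with e2 | e2
    · rcases hnz i with h | h | h
      · rw [e0] at h; norm_num at h
      · rw [e1] at h; norm_num at h
      · rw [e2] at h; norm_num at h
    · exact ⟨2, (uq2 i (by rw [e0, e1, e2]; norm_num)).symm⟩
    · exact ⟨1, (uq1 i (by rw [e0, e1, e2]; norm_num)).symm⟩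
    · exact ⟨5, (uq5 i (by rw [e0, e1, e2]; norm_num)).symm⟩
    · exact ⟨0, (uq0 i (by rw [e0, e1, e2]; norm_num)).symm⟩
    · exact ⟨4, (uq4 i (by rw [e0, e1, e2]; norm_num)).symm⟩
    · exact ⟨3, (uq3 i (by rw [e0, e1, e2]; norm_num)).symm⟩
    · exact ⟨6, (uq6 i (by rw [e0, e1, e2]; norm_num)).symm⟩
  refine ⟨r, ⟨hrinj, hrsurj⟩, rfl, ?_, ?_, ?_, ?_, ?_, ?_⟩
  · exact ⟨hu0 _ _ v1.1, hu1 _ _ v1.2.1, hu0 _ _ v1.2.2⟩
  · exact ⟨hu0 _ _ v2.1, hu0 _ _ v2.2.1, hu1 _ _ v2.2.2⟩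
  · exact ⟨hu1 _ _ v3.1, hu1 _ _ v3.2.1, hu0 _ _ v3.2.2⟩
  · exact ⟨hu1 _ _ v4.1, hu0 _ _ v4.2.1, hu1 _ _ v4.2.2⟩
  · exact ⟨hu0 _ _ v5.1, hu1 _ _ v5.2.1, hu1 _ _ v5.2.2⟩
  · exact ⟨hu1 _ _ v6.1, hu1 _ _ v6.2.1, hu1 _ _ v6.2.2⟩


/-- the linear relations force `p0 * y3 = -1 - aA * y1` -/
theorem aux_lin (s0 e1 e2 aA aB p0 q0 m1 : ℝ) (hs0 : s0 * s0 = 1) (he1 : e1 * e1 = 1)
    (he2 : e2 * e2 = 1) (y1 y2 y3 y4 y5 y6 : ℝ)
    (E0 : 1 + y3 * p0 + y4 * q0 + y6 * s0 = 0)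
    (E1 : y1 * (e1 * aA) + y3 * (e1 * p0) + y5 * m1 + y6 * (e1 * s0) = 0)
    (E2 : y2 * (e2 * aB) + y4 * (e2 * q0) + y5 * (e1 * e2 * m1) + y6 * (e2 * s0) = 0)
    (EA : 1 + y1 * aA + y2 * aB + y6 * (-s0) = 0) :
    p0 * y3 = -1 - aA * y1 := by
  have E1' : y1 * aA + y3 * p0 + y5 * (e1 * m1) + y6 * s0 = 0 := by
    linear_combination e1 * E1 - (y1 * aA + y3 * p0 + y6 * s0) * he1
  have E2' : y2 * aB + y4 * q0 + y5 * (e1 * m1) + y6 * s0 = 0 := by
    linear_combination e2 * E2 - (y2 * aB + y4 * q0 + y5 * (e1 * m1) + y6 * s0) * he2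
  linear_combination (1 / 2) * E1' - (1 / 2) * E2' + (1 / 2) * E0 + (1 / 2) * EA

/-- the final quadratic argument -/
theorem aux_final (s0 e1 e2 aA aB p0 q0 m1 f1 : ℝ) (hs0 : s0 * s0 = 1) (he1 : e1 * e1 = 1)
    (he2 : e2 * e2 = 1) (haA : aA * aA = 1) (hp0 : p0 * p0 = 1)
    (x1 x2 x3 x4 x5 x6 v1 v2 v3 v4 v5 v6 : ℝ)
    (X0 : 1 + x3 * p0 + x4 * q0 + x6 * s0 = 0)
    (X1 : x1 * (e1 * aA) + x3 * (e1 * p0) + x5 * m1 + x6 * (e1 * s0) = 0)
    (X2 : x2 * (e2 * aB) + x4 * (e2 * q0) + x5 * (e1 * e2 * m1) + x6 * (e2 * s0) = 0)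
    (XA : 1 + x1 * aA + x2 * aB + x6 * (-s0) = 0)
    (V0 : 1 + v3 * p0 + v4 * q0 + v6 * s0 = 0)
    (V1 : v1 * (e1 * aA) + v3 * (e1 * p0) + v5 * m1 + v6 * (e1 * s0) = 0)
    (V2 : v2 * (e2 * aB) + v4 * (e2 * q0) + v5 * (e1 * e2 * m1) + v6 * (e2 * s0) = 0)
    (VA : 1 + v1 * aA + v2 * aB + v6 * (-s0) = 0)
    (hv1 : x1 * v1 = f1 * f1)
    (hv3 : x3 * v3 = (1 + e1 * f1) * (1 + e1 * f1)) :
    aA * x1 = e1 * f1 := by
  have hx := aux_lin s0 e1 e2 aA aB p0 q0 m1 hs0 he1 he2 x1 x2 x3 x4 x5 x6 X0 X1 X2 XA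
  have hv := aux_lin s0 e1 e2 aA aB p0 q0 m1 hs0 he1 he2 v1 v2 v3 v4 v5 v6 V0 V1 V2 VA
  -- X = aA x1, V = aA v1
  have hXV : (aA * x1) * (aA * v1) = f1 * f1 := by
    linear_combination (x1 * v1) * haA + hv1
  have h34 : (p0 * x3) * (p0 * v3) = (1 + e1 * f1) * (1 + e1 * f1) := by
    linear_combination (x3 * v3) * hp0 + hv3
  rw [hx, hv] at h34
  have hsum : aA * x1 + aA * v1 = 2 * (e1 * f1) := by
    linear_combination h34 - hXV + (f1 * f1) * he1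
  have hsq : (aA * x1 - aA * v1) ^ 2 = 0 := by
    have : (aA * x1 - aA * v1) ^ 2 = (aA * x1 + aA * v1) ^ 2 - 4 * ((aA * x1) * (aA * v1)) := by
      ring
    rw [this, hsum, hXV]
    linear_combination (4 * f1 * f1) * he1
  have heq : aA * x1 = aA * v1 := by
    have := pow_eq_zero_iff (n := 2) (by norm_num) |>.mp hsq
    linarith
  linarith


/-- Combinatorial core of Brauer's proof of Brauer–Suzuki for `Q₈`. -/
theorem brauer_q8_core {ι : Type*} [Fintype ι] [DecidableEq ι]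
    (d : ι → Fin 3 → ℤ) (a : ι → ℤ) (x : ι → ℝ) (f h : Fin 3 → ℤ) (i₀ : ι)
    (hf0 : f 0 = 1) (hh : ∀ j, h j = 1 ∨ h j = -1)
    (hd0 : d i₀ = ![1, 0, 0]) (ha0 : a i₀ = 1) (hx0 : x i₀ = 1)
    (hgram : ∀ j l, ∑ i, d i j * d i l = 2 * ((if j = l then 1 else 0) + h j * h l))
    (ha : ∀ i, a i = 0 ∨ a i = 1 ∨ a i = -1)
    (hacard : (univ.filter (fun i => a i ≠ 0)).card = 4)
    (hda : ∀ j, ∑ i, a i * d i j = 0)
    (hpar : ∀ i, a i ≠ 0 ↔ Odd (∑ j, d i j))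
    (hrow : ∀ i, a i = 0 → d i ≠ 0)
    (hxpos : ∀ i, 0 < x i)
    (hxd : ∀ j, ∑ i, x i * (d i j : ℝ) = 0)
    (hxa : ∑ i, x i * (a i : ℝ) = 0)
    (hvd : ∀ j, ∑ i, ((∑ l, d i l * f l : ℤ) : ℝ) ^ 2 / x i * (d i j : ℝ) = 0)
    (hva : ∑ i, ((∑ l, d i l * f l : ℤ) : ℝ) ^ 2 / x i * (a i : ℝ) = 0) :
    Fintype.card ι = 7 ∧
      ∃ i, i ≠ i₀ ∧ a i ≠ 0 ∧ x i = |((∑ l, d i l * f l : ℤ) : ℝ)| := by
  classical
  obtain ⟨hent, hpair, hcol, hN, hT⟩ := aux_moments d a x h hh hgram hacard hpar hxpos hxd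
  obtain ⟨r, hrbij, hr0, ⟨z10, n11, z12⟩, ⟨z20, z21, n22⟩, ⟨n30, n31, z32⟩, ⟨n40, z41, n42⟩,
    ⟨z50, n51, n52⟩, ⟨n60, n61, n62⟩⟩ := aux_rows d a i₀ hd0 hent hcol hN hT hpar hrow
  have hcard : Fintype.card ι = 7 := by
    rw [← Fintype.card_of_bijective hrbij, Fintype.card_fin]
  have hh2 : ∀ j, h j * h j = 1 := by
    intro j; rcases hh j with e | e <;> rw [e] <;> norm_num
  -- expansion of sums
  have hexp : ∀ (M : Type) [AddCommMonoid M] (F : ι → M),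
      ∑ i, F i = F (r 0) + F (r 1) + F (r 2) + F (r 3) + F (r 4) + F (r 5) + F (r 6) := by
    intro M _ F
    rw [← (Equiv.ofBijective r hrbij).sum_comp F, Fin.sum_univ_seven]
    rfl
  -- entries of the first row
  have z00 : d (r 0) 0 = 1 := by rw [hr0, hd0]; rfl
  have z01 : d (r 0) 1 = 0 := by rw [hr0, hd0]; rfl
  have z02 : d (r 0) 2 = 0 := by rw [hr0, hd0]; rfl
  have hpm : ∀ i j, d i j ≠ 0 → d i j * d i j = 1 := by
    intro i j hne
    rcases hent i j with e | e | e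
    · exact absurd e hne
    · rw [e]; norm_num
    · rw [e]; norm_num
  have hodd : ∀ i j, d i j ≠ 0 → Odd (d i j) := by
    intro i j hne
    rcases hent i j with e | e | e
    · exact absurd e hne
    · rw [e]; decide
    · rw [e]; decide
  -- the `a` column
  have a0 : a (r 0) = 1 := by rw [hr0]; exact ha0
  have hasq : ∀ i, a i ≠ 0 → a i * a i = 1 := by
    intro i hne
    rcases ha i with e | e | e
    · exact absurd e hne
    · rw [e]; norm_num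
    · rw [e]; norm_num
  have a1 : a (r 1) ≠ 0 := by
    rw [hpar, Fin.sum_univ_three, z10, z12, zero_add, add_zero]; exact hodd _ _ n11
  have a2 : a (r 2) ≠ 0 := by
    rw [hpar, Fin.sum_univ_three, z20, z21, zero_add, zero_add]; exact hodd _ _ n22
  have a3 : a (r 3) = 0 := by
    by_contra hne
    have := (hpar _).mp hne
    rw [Fin.sum_univ_three, z32, add_zero] at this
    exact (Int.not_even_iff_odd.mpr this) ((hodd _ _ n30).add_odd (hodd _ _ n31))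
  have a4 : a (r 4) = 0 := by
    by_contra hne
    have := (hpar _).mp hne
    rw [Fin.sum_univ_three, z41, add_zero] at this
    exact (Int.not_even_iff_odd.mpr this) ((hodd _ _ n40).add_odd (hodd _ _ n42))
  have a5 : a (r 5) = 0 := by
    by_contra hne
    have := (hpar _).mp hne
    rw [Fin.sum_univ_three, z50, zero_add] at this
    exact (Int.not_even_iff_odd.mpr this) ((hodd _ _ n51).add_odd (hodd _ _ n52))
  have a6 : a (r 6) ≠ 0 := by
    rw [hpar, Fin.sum_univ_three]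
    exact ((hodd _ _ n60).add_odd (hodd _ _ n61)).add_odd (hodd _ _ n62)
  -- sign relations from pair products
  have P01 : d (r 3) 0 * d (r 3) 1 = h 0 * h 1 :=
    (hpair 0 1 (by decide) (r 3)).resolve_left (mul_ne_zero n30 n31)
  have S01 : d (r 6) 0 * d (r 6) 1 = h 0 * h 1 :=
    (hpair 0 1 (by decide) (r 6)).resolve_left (mul_ne_zero n60 n61)
  have P02 : d (r 4) 0 * d (r 4) 2 = h 0 * h 2 :=
    (hpair 0 2 (by decide) (r 4)).resolve_left (mul_ne_zero n40 n42)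
  have S02 : d (r 6) 0 * d (r 6) 2 = h 0 * h 2 :=
    (hpair 0 2 (by decide) (r 6)).resolve_left (mul_ne_zero n60 n62)
  have P12 : d (r 5) 1 * d (r 5) 2 = h 1 * h 2 :=
    (hpair 1 2 (by decide) (r 5)).resolve_left (mul_ne_zero n51 n52)
  -- expansions of hda
  have D0 := hda 0
  have D1 := hda 1
  rw [hexp ℤ] at D0 D1
  rw [a0, a3, a4, a5, z00, z10, z20, z50] at D0
  rw [a0, a3, a4, a5, z01, z21, z41] at D1
  have D0' : 1 + a (r 6) * d (r 6) 0 = 0 := by linear_combination D0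
  have D1' : a (r 1) * d (r 1) 1 + a (r 6) * d (r 6) 1 = 0 := by linear_combination D1
  -- abbreviations
  have sq60 := hpm _ _ n60
  have sq30 := hpm _ _ n30
  have sq40 := hpm _ _ n40
  have sq51 := hpm _ _ n51
  have sqa1 := hasq _ a1
  have sqa2 := hasq _ a2
  have hσ : a (r 6) = - d (r 6) 0 := by
    linear_combination (d (r 6) 0) * D0' - (a (r 6)) * sq60
  have hs1 : d (r 6) 1 = h 0 * h 1 * d (r 6) 0 := by
    linear_combination (d (r 6) 0) * S01 - (d (r 6) 1) * sq60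
  have hs2 : d (r 6) 2 = h 0 * h 2 * d (r 6) 0 := by
    linear_combination (d (r 6) 0) * S02 - (d (r 6) 2) * sq60
  have hp1 : d (r 3) 1 = h 0 * h 1 * d (r 3) 0 := by
    linear_combination (d (r 3) 0) * P01 - (d (r 3) 1) * sq30
  have hq2 : d (r 4) 2 = h 0 * h 2 * d (r 4) 0 := by
    linear_combination (d (r 4) 0) * P02 - (d (r 4) 2) * sq40
  have hm2 : d (r 5) 2 = h 0 * h 1 * (h 0 * h 2) * d (r 5) 1 := by
    linear_combination (d (r 5) 1) * P12 - (d (r 5) 2) * sq51 -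
      (h 1 * h 2 * d (r 5) 1) * (hh2 0)
  have D2 := hda 2
  rw [hexp ℤ] at D2
  rw [a0, a3, a4, a5, z02, z12, z32] at D2
  have D2' : a (r 2) * d (r 2) 2 + a (r 6) * d (r 6) 2 = 0 := by linear_combination D2
  have hAα : a (r 1) * d (r 1) 1 = h 0 * h 1 := by
    rw [hσ, hs1] at D1'
    linear_combination D1' + (h 0 * h 1) * sq60
  have hα : d (r 1) 1 = h 0 * h 1 * a (r 1) := by
    linear_combination (a (r 1)) * hAα - (d (r 1) 1) * sqa1
  have hBβ : a (r 2) * d (r 2) 2 = h 0 * h 2 := by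
    rw [hσ, hs2] at D2'
    linear_combination D2' + (h 0 * h 2) * sq60
  have hβ : d (r 2) 2 = h 0 * h 2 * a (r 2) := by
    linear_combination (a (r 2)) * hBβ - (d (r 2) 2) * sqa2
  -- the values `c`
  have hc0 : (∑ l, d (r 0) l * f l) = 1 := by
    rw [Fin.sum_univ_three, z00, z01, z02, hf0]; norm_num
  have hc1 : (∑ l, d (r 1) l * f l) = h 0 * h 1 * a (r 1) * f 1 := by
    rw [Fin.sum_univ_three, z10, z12, hα]; ring
  have hc3 : (∑ l, d (r 3) l * f l) = d (r 3) 0 * (1 + h 0 * h 1 * f 1) := by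
    rw [Fin.sum_univ_three, z32, hp1, hf0]; ring
  have hx0' : x (r 0) = 1 := by rw [hr0]; exact hx0
  obtain ⟨v, hv⟩ : ∃ v : Fin 7 → ℝ, ∀ k, v k = ((∑ l, d (r k) l * f l : ℤ) : ℝ) ^ 2 / x (r k) :=
    ⟨_, fun _ => rfl⟩
  have hv0 : v 0 = 1 := by rw [hv, hc0, hx0']; norm_num
  -- real equations
  have X0 := hxd 0
  have X1 := hxd 1
  have X2 := hxd 2
  have XA := hxa
  have V0 := hvd 0
  have V1 := hvd 1
  have V2 := hvd 2
  have VA := hva
  rw [hexp ℝ] at X0 X1 X2 XA V0 V1 V2 VA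
  simp only [← hv] at V0 V1 V2 VA
  rw [z00, z10, z20, z50, hx0'] at X0
  rw [z01, z21, z41, hα, hp1, hs1] at X1
  rw [z02, z12, z32, hβ, hq2, hm2, hs2] at X2
  rw [a0, a3, a4, a5, hσ, hx0'] at XA
  rw [z00, z10, z20, z50, hv0] at V0
  rw [z01, z21, z41, hα, hp1, hs1] at V1
  rw [z02, z12, z32, hβ, hq2, hm2, hs2] at V2
  rw [a0, a3, a4, a5, hσ, hv0] at VA
  push_cast at X0 X1 X2 XA V0 V1 V2 VA
  have H0 : (h 0 : ℝ) * (h 0 : ℝ) = 1 := by exact_mod_cast hh2 0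
  have H1 : (h 1 : ℝ) * (h 1 : ℝ) = 1 := by exact_mod_cast hh2 1
  have H2 : (h 2 : ℝ) * (h 2 : ℝ) = 1 := by exact_mod_cast hh2 2
  have He1 : ((h 0 : ℝ) * (h 1 : ℝ)) * ((h 0 : ℝ) * (h 1 : ℝ)) = 1 := by
    linear_combination ((h 1 : ℝ) * (h 1 : ℝ)) * H0 + H1
  have He2 : ((h 0 : ℝ) * (h 2 : ℝ)) * ((h 0 : ℝ) * (h 2 : ℝ)) = 1 := by
    linear_combination ((h 2 : ℝ) * (h 2 : ℝ)) * H0 + H2
  have Hs0 : (d (r 6) 0 : ℝ) * (d (r 6) 0 : ℝ) = 1 := by exact_mod_cast sq60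
  have HaA : (a (r 1) : ℝ) * (a (r 1) : ℝ) = 1 := by exact_mod_cast sqa1
  have Hp0 : (d (r 3) 0 : ℝ) * (d (r 3) 0 : ℝ) = 1 := by exact_mod_cast sq30
  have hx1ne : x (r 1) ≠ 0 := (hxpos _).ne'
  have hx3ne : x (r 3) ≠ 0 := (hxpos _).ne'
  have hv1 : x (r 1) * v 1 = (f 1 : ℝ) * (f 1 : ℝ) := by
    rw [hv, hc1]
    push_cast
    have h1 : x (r 1) * (((h 0 : ℝ) * (h 1 : ℝ) * (a (r 1) : ℝ) * (f 1 : ℝ)) ^ 2 / x (r 1)) =
        ((h 0 : ℝ) * (h 1 : ℝ) * (a (r 1) : ℝ) * (f 1 : ℝ)) ^ 2 := by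
      field_simp
    rw [h1]
    linear_combination ((f 1 : ℝ) ^ 2 * (a (r 1) : ℝ) ^ 2) * He1 + ((f 1 : ℝ) ^ 2) * HaA
  have hv3 : x (r 3) * v 3 = (1 + (h 0 : ℝ) * (h 1 : ℝ) * (f 1 : ℝ)) *
      (1 + (h 0 : ℝ) * (h 1 : ℝ) * (f 1 : ℝ)) := by
    rw [hv, hc3]
    push_cast
    have h1 : x (r 3) * (((d (r 3) 0 : ℝ) * (1 + (h 0 : ℝ) * (h 1 : ℝ) * (f 1 : ℝ))) ^ 2 / x (r 3)) =
        ((d (r 3) 0 : ℝ) * (1 + (h 0 : ℝ) * (h 1 : ℝ) * (f 1 : ℝ))) ^ 2 := by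
      field_simp
    rw [h1]
    linear_combination ((1 + (h 0 : ℝ) * (h 1 : ℝ) * (f 1 : ℝ)) ^ 2) * Hp0
  have key := aux_final (d (r 6) 0 : ℝ) ((h 0 : ℝ) * (h 1 : ℝ)) ((h 0 : ℝ) * (h 2 : ℝ))
    (a (r 1) : ℝ) (a (r 2) : ℝ) (d (r 3) 0 : ℝ) (d (r 4) 0 : ℝ) (d (r 5) 1 : ℝ) (f 1 : ℝ)
    Hs0 He1 He2 HaA Hp0
    (x (r 1)) (x (r 2)) (x (r 3)) (x (r 4)) (x (r 5)) (x (r 6))
    (v 1) (v 2) (v 3) (v 4) (v 5) (v 6)
    (by linear_combination X0) (by linear_combination X1) (by linear_combination X2)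
    (by linear_combination XA)
    (by linear_combination V0) (by linear_combination V1) (by linear_combination V2)
    (by linear_combination VA) hv1 hv3
  refine ⟨hcard, r 1, ?_, a1, ?_⟩
  · rw [← hr0]
    intro hcon
    exact absurd (hrbij.1 hcon) (by decide)
  · rw [hc1]
    push_cast
    have h1 : (h 0 : ℝ) * (h 1 : ℝ) * (a (r 1) : ℝ) * (f 1 : ℝ) = x (r 1) := by
      linear_combination (-(a (r 1) : ℝ)) * key + (x (r 1)) * HaA
    rw [h1, abs_of_pos (hxpos _)]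


end Cfsg.Agent.Lib.Q8Core
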