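import Mathlib
import Cfsg.Agent.Lib.Helper8.SmallSimple
import Cfsg.Agent.Lib.Helper8.SmallSimple2

/-!
# No simple group of order 4032, part A (helper19)

The cases of `8` and `36` Sylow `7`-subgroups.
* `8`: an involution centralizing `P` would have `1` or `8` fixed points among the `8` cosets of
  `N(P)`, and the number of moved points must be divisible by `4`.
* `36`: `C(P)` has order `56`; every non-identity element of a subgroup `Q ≤ C(P)` of order `8`
  has exactly `8` fixed points on the `36` cosets, so Burnside's orbit count `36 + 7 * 8 = 92` would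
  be divisible by `8`.
-/

set_option autoImplicit false
set_option linter.unusedSectionVars false
set_option linter.style.haveILetI false

namespace Cfsg.Agent.Lib.Helper19.Ord4032

open MulAction Cfsg.Agent.Lib.Helper8.SmallSimple Cfsg.Agent.Lib.Helper8.SmallSimple2

variable {G : Type*} [Group G] [Finite G]

/-- an element of order 2 in a subgroup of even order -/
theorem exists_invol_mem (K : Subgroup G) (h : 2 ∣ Nat.card ↥K) : ∃ t ∈ K, orderOf t = 2 := by
  haveI : Fact (Nat.Prime 2) := ⟨Nat.prime_two⟩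
  obtain ⟨x, hx⟩ := exists_prime_orderOf_dvd_card' (G := ↥K) 2 h
  exact ⟨(x : G), x.2, by rw [Subgroup.orderOf_coe]; exact hx⟩

/-- an element of order `p` in a subgroup of order divisible by `p` -/
theorem exists_prime_order_mem (K : Subgroup G) (p : ℕ) [Fact p.Prime] (h : p ∣ Nat.card ↥K) :
    ∃ t ∈ K, orderOf t = p := by
  obtain ⟨x, hx⟩ := exists_prime_orderOf_dvd_card' (G := ↥K) p h
  exact ⟨(x : G), x.2, by rw [Subgroup.orderOf_coe]; exact hx⟩

/-- the case of `8` Sylow `7`-subgroups -/
theorem case8 [IsSimpleGroup G] (hG2 : 2 < Nat.card G) [Fact (Nat.Prime 7)] (P : Sylow 7 G)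
    (hP : Nat.card ↥(P : Subgroup G) = 7)
    (hidx : (Subgroup.normalizer ((P : Subgroup G) : Set G)).index = 8)
    (h2 : 2 ∣ Nat.card ↥(Subgroup.centralizer ((P : Subgroup G) : Set G))) : False := by
  set N := Subgroup.normalizer ((P : Subgroup G) : Set G) with hN
  have hNtop : N ≠ ⊤ := by
    intro h
    rw [h, Subgroup.index_top] at hidx
    omega
  obtain ⟨c, hcC, hc⟩ := exists_invol_mem _ h2
  obtain ⟨h1, ⟨s, ⟨k, hk⟩, hs⟩, h3⟩ := invol_fix_data hG2 P hP hNtop c hcC hc
  rw [← hN, hidx] at hs h3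
  rw [← hN] at h1
  omega

/-- a fixed point of `q` is a fixed point of its powers -/
theorem pow_smul_eq_self {X : Type*} [MulAction G X] (q : G) (a : X) (h : q • a = a) (k : ℕ) :
    q ^ k • a = a := by
  induction k with
  | zero => rw [pow_zero, one_smul]
  | succ n ih => rw [pow_succ, mul_smul, h, ih]

/-- a nontrivial element of a group of order `8` has a power of order `2` -/
theorem exists_pow_orderOf_two (Q : Subgroup G) (hQ : Nat.card ↥Q = 8) (q : G) (hq : q ∈ Q)
    (hq1 : q ≠ 1) : ∃ k : ℕ, orderOf (q ^ k) = 2 := by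
  have hdvd : orderOf q ∣ 8 := by
    have := orderOf_dvd_natCard (⟨q, hq⟩ : ↥Q)
    rw [hQ, Subgroup.orderOf_mk] at this
    exact this
  have hle := Nat.le_of_dvd (by norm_num) hdvd
  have hpos : 0 < orderOf q := orderOf_pos q
  have h1 : orderOf q ≠ 1 := by
    intro h
    exact hq1 (orderOf_eq_one_iff.mp h)
  have hcases : orderOf q = 2 ∨ orderOf q = 4 ∨ orderOf q = 8 := by
    interval_cases h : orderOf q <;> simp_all <;> omega
  rcases hcases with h | h | h
  · exact ⟨1, by rw [pow_one]; exact h⟩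
  · refine ⟨2, ?_⟩
    rw [orderOf_pow' q (by norm_num), h]
    decide
  · refine ⟨4, ?_⟩
    rw [orderOf_pow' q (by norm_num), h]
    decide

/-- the case of `36` Sylow `7`-subgroups -/
theorem case36 [IsSimpleGroup G] (hG2 : 2 < Nat.card G) [Fact (Nat.Prime 7)] (P : Sylow 7 G)
    (hP : Nat.card ↥(P : Subgroup G) = 7)
    (hidx : (Subgroup.normalizer ((P : Subgroup G) : Set G)).index = 36)
    (hCc : Nat.card ↥(Subgroup.centralizer ((P : Subgroup G) : Set G)) = 56) : False := by
  classical
  haveI : Fact (Nat.Prime 2) := ⟨Nat.prime_two⟩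
  set N := Subgroup.normalizer ((P : Subgroup G) : Set G) with hN
  set C := Subgroup.centralizer ((P : Subgroup G) : Set G) with hC
  have hNtop : N ≠ ⊤ := by
    intro h
    rw [h, Subgroup.index_top] at hidx
    omega
  have hcardX : Nat.card (G ⧸ N) = 36 := hidx
  -- a subgroup `Q` of order 8 of `C`
  obtain ⟨Q0, hQ0⟩ := Sylow.exists_subgroup_card_pow_prime (G := ↥C) 2 (n := 3)
    (by rw [hCc]; norm_num)
  set Q : Subgroup G := Q0.map C.subtype with hQ
  have hQc : Nat.card ↥Q = 8 := by
    rw [hQ, Subgroup.card_map_of_injective C.subtype_injective, hQ0]; norm_num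
  have hQC : Q ≤ C := by
    rintro _ ⟨y, _, rfl⟩
    exact y.2
  -- every non-identity element of `Q` has exactly 8 fixed points
  have hfix : ∀ q ∈ Q, q ≠ 1 → Nat.card (fixedBy (G ⧸ N) q) = 8 := by
    intro q hq hq1
    obtain ⟨k, hk⟩ := exists_pow_orderOf_two Q hQc q hq hq1
    have htC : q ^ k ∈ C := hQC (Q.pow_mem hq k)
    obtain ⟨h1, ⟨s, ⟨j, hj⟩, hs⟩, h3⟩ := invol_fix_data hG2 P hP hNtop (q ^ k) htC hk
    rw [← hN, hidx] at hs h3
    rw [← hN] at h1
    have ht8 : Nat.card (fixedBy (G ⧸ N) (q ^ k)) = 8 := by omega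
    -- `Fix q ⊆ Fix (q ^ k)`
    have hle : Nat.card (fixedBy (G ⧸ N) q) ≤ Nat.card (fixedBy (G ⧸ N) (q ^ k)) := by
      apply Nat.card_le_card_of_injective
        (fun a : fixedBy (G ⧸ N) q => (⟨a.1, by
          have ha := a.2
          rw [mem_fixedBy] at ha ⊢
          exact pow_smul_eq_self q a.1 ha k⟩ : fixedBy (G ⧸ N) (q ^ k)))
      intro a b hab
      apply Subtype.ext
      exact congrArg (fun u : fixedBy (G ⧸ N) (q ^ k) => (u : G ⧸ N)) hab
    have hmod := card_fixedBy_modEq_one P hP q (hQC hq)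
    rw [← hN] at hmod
    have hpg : IsPGroup 2 (Subgroup.zpowers q) := by
      apply IsPGroup.of_card (n := Nat.log 2 (orderOf q))
      rw [Nat.card_zpowers]
      have hdvd : orderOf q ∣ 8 := by
        have := orderOf_dvd_natCard (⟨q, hq⟩ : ↥Q)
        rw [hQc, Subgroup.orderOf_mk] at this
        exact this
      have hle := Nat.le_of_dvd (by norm_num) hdvd
      have hpos : 0 < orderOf q := orderOf_pos q
      interval_cases h : orderOf q <;> simp_all <;> first | rfl | omega
    have hpar := card_modEq_card_fixedBy (X := G ⧸ N) q hpg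
    rw [hcardX] at hpar
    unfold Nat.ModEq at hmod hpar
    omega
  -- Burnside's orbit counting lemma
  letI : Fintype ↥Q := Fintype.ofFinite _
  letI : Fintype (G ⧸ N) := Fintype.ofFinite _
  letI : Fintype (orbitRel.Quotient ↥Q (G ⧸ N)) := Fintype.ofFinite _
  letI : ∀ a : ↥Q, Fintype (fixedBy (G ⧸ N) a) := fun a => Fintype.ofFinite _
  have hB := MulAction.sum_card_fixedBy_eq_card_orbits_mul_card_group ↥Q (G ⧸ N)
  have hQcard : Fintype.card ↥Q = 8 := by rw [← Nat.card_eq_fintype_card]; exact hQc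
  rw [hQcard] at hB
  have hterm : ∀ a : ↥Q, Fintype.card (fixedBy (G ⧸ N) a) = if a = 1 then 36 else 8 := by
    intro a
    by_cases ha : a = 1
    · rw [if_pos ha, ha, ← Nat.card_eq_fintype_card]
      have : fixedBy (G ⧸ N) (1 : ↥Q) = Set.univ := by
        ext x
        simp [mem_fixedBy]
      rw [this, Nat.card_congr (Equiv.Set.univ _)]
      exact hcardX
    · rw [if_neg ha, ← Nat.card_eq_fintype_card]
      have h8 := hfix (a : G) a.2 (fun h => ha (Subtype.ext h))
      exact h8
  have hsum : ∑ a : ↥Q, Fintype.card (fixedBy (G ⧸ N) a) = 92 := by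
    rw [Finset.sum_congr rfl (fun a _ => hterm a)]
    rw [Finset.sum_ite, Finset.sum_const, Finset.sum_const]
    have e1 : (Finset.univ.filter (fun a : ↥Q => a = 1)).card = 1 := by
      rw [Finset.card_eq_one]
      refine ⟨1, ?_⟩
      ext a
      simp
    have e2 : (Finset.univ.filter (fun a : ↥Q => ¬ a = 1)).card = 7 := by
      have := Finset.card_filter_add_card_filter_not (s := (Finset.univ : Finset ↥Q))
        (fun a : ↥Q => a = 1)
      rw [e1, Finset.card_univ, hQcard] at this
      omega
    rw [e1, e2]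
    rfl
  rw [hsum] at hB
  omega

end Cfsg.Agent.Lib.Helper19.Ord4032
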