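import Mathlib
import Cfsg.Agent.Lib.Helper19.Ord4032A
import Cfsg.Agent.Lib.Helper7.SimpleTools

/-!
# No simple group of order 4032, part B (helper19)

The case of `64` Sylow `7`-subgroups: `|N(P)| = 63`, `|C(P)| = 21`.
-/

set_option autoImplicit false
set_option linter.unusedSectionVars false
set_option linter.style.haveILetI false

namespace Cfsg.Agent.Lib.Helper19.Ord4032

open MulAction Cfsg.Agent.Lib.Helper8.SmallSimple Cfsg.Agent.Lib.Helper8.SmallSimple2
  Cfsg.Agent.Lib.Helper7

variable {G : Type*} [Group G] [Finite G]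

/-- fibre counting: if all fibres of `f` have `k` elements, `|A| = |range f| * k` -/
theorem card_eq_card_range_mul {A B : Type*} [Finite A] (f : A → B) (k : ℕ)
    (h : ∀ a : A, Nat.card {a' : A // f a' = f a} = k) :
    Nat.card A = Nat.card (Set.range f) * k := by
  classical
  haveI : Fintype (Set.range f) := Fintype.ofFinite _
  rw [← Nat.card_congr (Equiv.sigmaFiberEquiv (Set.rangeFactorization f)), Nat.card_sigma]
  have hb : ∀ b : Set.range f, Nat.card {a : A // Set.rangeFactorization f a = b} = k := by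
    rintro ⟨b, a, rfl⟩
    rw [← h a]
    apply Nat.card_congr
    refine Equiv.subtypeEquivRight (fun a' => ?_)
    constructor
    · intro e
      exact congrArg Subtype.val e
    · intro e
      exact Subtype.ext e
  rw [Finset.sum_congr rfl (fun b _ => hb b), Finset.sum_const, Finset.card_univ, smul_eq_mul,
    Nat.card_eq_fintype_card]

/-- the fixed point argument for a subgroup of index `8` containing commuting elements of orders `7`
and `3` -/
theorem index_eight_contra [IsSimpleGroup G] (H : Subgroup G) (hidx : H.index = 8) (y c : G)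
    (hy : orderOf y = 7) (hc : orderOf c = 3) (hcomm : c * y = y * c) : False := by
  haveI : Fact (Nat.Prime 7) := ⟨by norm_num⟩
  haveI : Fact (Nat.Prime 3) := ⟨by norm_num⟩
  have hH : H ≠ ⊤ := by
    intro h
    rw [h, Subgroup.index_top] at hidx
    omega
  have hX : Nat.card (G ⧸ H) = 8 := hidx
  have hpg7 : IsPGroup 7 (Subgroup.zpowers y) := by
    apply IsPGroup.of_card (n := 1)
    rw [Nat.card_zpowers, hy, pow_one]
  have hpg3 : IsPGroup 3 (Subgroup.zpowers c) := by
    apply IsPGroup.of_card (n := 1)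
    rw [Nat.card_zpowers, hc, pow_one]
  have hle : ∀ g : G, Nat.card (fixedBy (G ⧸ H) g) ≤ 8 := by
    intro g
    rw [← hX]
    exact Nat.card_le_card_of_injective _ Subtype.val_injective
  have hy1 : y ≠ 1 := by
    intro h
    rw [h, orderOf_one] at hy
    omega
  have hc1 : c ≠ 1 := by
    intro h
    rw [h, orderOf_one] at hc
    omega
  -- `y` has exactly one fixed point
  have hfy : Nat.card (fixedBy (G ⧸ H) y) = 1 := by
    have h1 := card_modEq_card_fixedBy (X := G ⧸ H) y hpg7
    rw [hX] at h1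
    unfold Nat.ModEq at h1
    have h2 := hle y
    have h3 : Nat.card (fixedBy (G ⧸ H) y) ≠ 8 := by
      intro h
      apply hy1
      apply eq_one_of_smul_eq H hH
      apply smul_eq_of_card_fixedBy
      rw [h, hX]
    omega
  -- the fixed points of `c`
  have hfc : Nat.card (fixedBy (G ⧸ H) c) ≠ 8 := by
    intro h
    apply hc1
    apply eq_one_of_smul_eq H hH
    apply smul_eq_of_card_fixedBy
    rw [h, hX]
  have h3 := card_modEq_card_fixedBy (X := G ⧸ H) c hpg3
  rw [hX] at h3
  unfold Nat.ModEq at h3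
  have hinv : ∀ z ∈ Subgroup.zpowers y, ∀ a ∈ fixedBy (G ⧸ H) c, z • a ∈ fixedBy (G ⧸ H) c := by
    rintro z ⟨k, rfl⟩ a ha
    rw [mem_fixedBy] at ha ⊢
    have hck : c * y ^ k = y ^ k * c := by
      have : Commute c y := hcomm
      exact (this.zpow_right k).eq
    rw [smul_smul, hck, ← smul_smul, ha]
  have h7 := card_invariant_modEq (Subgroup.zpowers y) hpg7 (fixedBy (G ⧸ H) c) hinv
  have hle1 : Nat.card {a : G ⧸ H // a ∈ fixedBy (G ⧸ H) c ∧ ∀ z ∈ Subgroup.zpowers y, z • a = a} ≤ 1 := by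
    rw [← hfy]
    apply Nat.card_le_card_of_injective
      (fun a : {a : G ⧸ H // a ∈ fixedBy (G ⧸ H) c ∧ ∀ z ∈ Subgroup.zpowers y, z • a = a} =>
        (⟨a.1, a.2.2 y (Subgroup.mem_zpowers y)⟩ : fixedBy (G ⧸ H) y))
    intro a b hab
    apply Subtype.ext
    exact congrArg (fun u : fixedBy (G ⧸ H) y => (u : G ⧸ H)) hab
  unfold Nat.ModEq at h7
  have h8 := hle c
  generalize Nat.card {a : G ⧸ H // a ∈ fixedBy (G ⧸ H) c ∧ ∀ z ∈ Subgroup.zpowers y, z • a = a} = k
    at h7 hle1
  generalize Nat.card (fixedBy (G ⧸ H) c) = f at h7 h8 h3 hfc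
  interval_cases f <;> omega

/-- a subgroup `S` of order `9` of `N(P)`, and an element `c` of order `3` of `S ∩ C(P)` centralized
by `N(P)` -/
theorem exists_three_central [Fact (Nat.Prime 7)] (P : Sylow 7 G)
    (hP : Nat.card ↥(P : Subgroup G) = 7)
    (hN : Nat.card ↥(Subgroup.normalizer ((P : Subgroup G) : Set G)) = 63)
    (hC : Nat.card ↥(Subgroup.centralizer ((P : Subgroup G) : Set G)) = 21)
    (hr : (Subgroup.centralizer ((P : Subgroup G) : Set G)).relIndex
      (Subgroup.normalizer ((P : Subgroup G) : Set G)) = 3) :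
    ∃ (S : Subgroup G) (c : G), S ≤ Subgroup.normalizer ((P : Subgroup G) : Set G) ∧
      Nat.card ↥S = 9 ∧ (∀ a ∈ S, ∀ b ∈ S, a * b = b * a) ∧ c ∈ S ∧
      c ∈ Subgroup.centralizer ((P : Subgroup G) : Set G) ∧ orderOf c = 3 ∧
      Subgroup.normalizer ((P : Subgroup G) : Set G) ≤ Subgroup.centralizer ({c} : Set G) ∧
      Nat.card ↥(Subgroup.centralizer ((P : Subgroup G) : Set G) ⊓ S) = 3 := by
  haveI : Fact (Nat.Prime 3) := ⟨by norm_num⟩
  set N := Subgroup.normalizer ((P : Subgroup G) : Set G) with hNdef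
  set C := Subgroup.centralizer ((P : Subgroup G) : Set G) with hCdef
  obtain ⟨Q0, hQ0⟩ := Sylow.exists_subgroup_card_pow_prime (G := ↥N) 3 (n := 2)
    (by rw [hN]; norm_num)
  set S : Subgroup G := Q0.map N.subtype with hS
  have hSc : Nat.card ↥S = 9 := by
    rw [hS, Subgroup.card_map_of_injective N.subtype_injective, hQ0]; norm_num
  have hSN : S ≤ N := by
    rintro _ ⟨y, _, rfl⟩
    exact y.2
  have hScomm : ∀ a ∈ S, ∀ b ∈ S, a * b = b * a := by
    intro a ha b hb
    have := IsPGroup.commutative_of_card_eq_prime_sq (p := 3) (G := ↥S) (by rw [hSc]; norm_num)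
      ⟨a, ha⟩ ⟨b, hb⟩
    exact congrArg Subtype.val this
  have hrel : C.relIndex S ∣ 3 := by
    have := relIndex_centralizer_dvd (P : Subgroup G) S hSN
    rwa [← hCdef, ← hNdef, hr] at this
  have hmul : Nat.card ↥(C ⊓ S) * C.relIndex S = 9 := by
    rw [card_inf_mul_relIndex C S, hSc]
  have hdvd : Nat.card ↥(C ⊓ S) ∣ 21 := by
    rw [← hC]
    exact Subgroup.card_dvd_of_le inf_le_left
  have hD : Nat.card ↥(C ⊓ S) = 3 := by
    have h13 : C.relIndex S = 1 ∨ C.relIndex S = 3 := (Nat.dvd_prime (by norm_num)).mp hrel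
    rcases h13 with h | h
    · rw [h, mul_one] at hmul
      rw [hmul] at hdvd
      omega
    · rw [h] at hmul
      omega
  obtain ⟨c, hcD, hc⟩ := exists_prime_order_mem (C ⊓ S) 3 (by rw [hD])
  have hcC : c ∈ C := hcD.1
  have hcS : c ∈ S := hcD.2
  refine ⟨S, c, hSN, hSc, hScomm, hcS, hcC, hc, ?_, hD⟩
  -- `N ⊓ C(c)` contains `P` and `S`
  set H := Subgroup.centralizer ({c} : Set G) with hH
  have hPH : (P : Subgroup G) ≤ H := by
    intro y hy
    rw [hH, Subgroup.mem_centralizer_singleton_iff]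
    rw [hCdef, Subgroup.mem_centralizer_iff] at hcC
    exact hcC y hy
  have hSH : S ≤ H := by
    intro s hs
    rw [hH, Subgroup.mem_centralizer_singleton_iff]
    exact hScomm s hs c hcS
  have hPN : (P : Subgroup G) ≤ N := Subgroup.le_normalizer
  have h7 : 7 ∣ Nat.card ↥(N ⊓ H) := by
    have := Subgroup.card_dvd_of_le (le_inf hPN hPH)
    have hP7 : 7 ∣ Nat.card ↥(P : Subgroup G) := by rw [hP]
    exact dvd_trans hP7 this
  have h9 : 9 ∣ Nat.card ↥(N ⊓ H) := by
    rw [← hSc]
    exact Subgroup.card_dvd_of_le (le_inf hSN hSH)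
  have h63 : Nat.card ↥(N ⊓ H) ∣ 63 := by
    rw [← hN]
    exact Subgroup.card_dvd_of_le inf_le_left
  have hcard : Nat.card ↥(N ⊓ H) = 63 := by
    have h1 : 63 ∣ Nat.card ↥(N ⊓ H) := by
      have : Nat.Coprime 7 9 := by norm_num
      exact this.mul_dvd_of_dvd_of_dvd h7 h9
    exact Nat.dvd_antisymm h63 h1
  have heq : N ⊓ H = N := by
    apply Subgroup.eq_of_le_of_card_ge inf_le_left
    rw [hcard, hN]
  rw [← heq]
  exact inf_le_right

/-- the centralizer of `c` is `N(P)` -/
theorem centralizer_eq_normalizer [IsSimpleGroup G] (hnc : ¬ IsMulCommutative G)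
    (hG : Nat.card G = 4032) [Fact (Nat.Prime 7)] (P : Sylow 7 G)
    (hP : Nat.card ↥(P : Subgroup G) = 7)
    (hN : Nat.card ↥(Subgroup.normalizer ((P : Subgroup G) : Set G)) = 63) (c : G)
    (hc : orderOf c = 3) (hcC : c ∈ Subgroup.centralizer ((P : Subgroup G) : Set G))
    (hNH : Subgroup.normalizer ((P : Subgroup G) : Set G) ≤ Subgroup.centralizer ({c} : Set G)) :
    Subgroup.centralizer ({c} : Set G) = Subgroup.normalizer ((P : Subgroup G) : Set G) := by
  set N := Subgroup.normalizer ((P : Subgroup G) : Set G) with hNdef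
  set H := Subgroup.centralizer ({c} : Set G) with hH
  have hPH : (P : Subgroup G) ≤ H := le_trans Subgroup.le_normalizer hNH
  have hmul := card_sylow_subgroup_mul P H hPH
  rw [← hNdef, inf_eq_left.mpr hNH, hN] at hmul
  have hmod := card_sylow_modEq_one 7 ↥H
  have hdvd : Nat.card ↥H ∣ 4032 := by
    rw [← hG]
    exact Subgroup.card_subgroup_dvd_card H
  have hc1 : c ≠ 1 := by
    intro h
    rw [h, orderOf_one] at hc
    omega
  generalize Nat.card (Sylow 7 ↥H) = n7 at hmul hmod
  have hn7 : n7 ∣ 64 := by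
    rw [← hmul] at hdvd
    exact (Nat.mul_dvd_mul_iff_right (by norm_num : 0 < 63)).mp hdvd
  have hle := Nat.le_of_dvd (by norm_num) hn7
  unfold Nat.ModEq at hmod
  have hcases : n7 = 1 ∨ n7 = 8 ∨ n7 = 64 := by
    interval_cases n7 <;> simp_all <;> omega
  rcases hcases with h | h | h
  · -- `|H| = 63`
    rw [h, one_mul] at hmul
    symm
    apply Subgroup.eq_of_le_of_card_ge hNH
    rw [← hmul, hN]
  · -- `|H| = 504`, index `8`
    exfalso
    rw [h] at hmul
    have hidx : H.index = 8 := by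
      have := Subgroup.card_mul_index H
      rw [← hmul, hG] at this
      omega
    obtain ⟨y, hyP, hy⟩ := exists_prime_order_mem (P : Subgroup G) 7 (by rw [hP])
    have hcomm : c * y = y * c := by
      rw [Subgroup.mem_centralizer_iff] at hcC
      exact (hcC y hyP).symm
    exact index_eight_contra H hidx y c hy hc hcomm
  · -- `H = G`
    exfalso
    rw [h] at hmul
    have htop : H = ⊤ := by
      apply Subgroup.eq_top_of_card_eq
      rw [← hmul, hG]
    apply hc1
    have hcen : c ∈ Subgroup.center G := by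
      rw [Subgroup.mem_center_iff]
      intro g
      have hg : g ∈ H := by rw [htop]; trivial
      rw [hH, Subgroup.mem_centralizer_singleton_iff] at hg
      exact hg
    rw [center_eq_bot hnc, Subgroup.mem_bot] at hcen
    exact hcen

/-- an element conjugating a subgroup `H ⊇ P` of `N(P)` into `N(P)` normalizes `P` -/
theorem mem_normalizer_of_conj_le [Fact (Nat.Prime 7)] (P : Sylow 7 G) (g : G)
    (h : ∀ x ∈ (P : Subgroup G), g * x * g⁻¹ ∈ Subgroup.normalizer ((P : Subgroup G) : Set G)) :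
    g ∈ Subgroup.normalizer ((P : Subgroup G) : Set G) := by
  set Q : Subgroup G := (P : Subgroup G).map (MulAut.conj g).toMonoidHom with hQ
  have hQp : IsPGroup 7 Q := P.isPGroup'.map _
  have hQN : Q ≤ Subgroup.normalizer ((P : Subgroup G) : Set G) := by
    rintro _ ⟨x, hx, rfl⟩
    exact h x hx
  have h2 := hQp.inf_normalizer_sylow P
  have h3 : Q ⊓ Subgroup.normalizer ((P : Subgroup G) : Set G) = Q := inf_eq_left.mpr hQN
  have h2' : Q ⊓ Subgroup.normalizer ((P : Subgroup G) : Set G) = Q ⊓ (P : Subgroup G) := h2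
  rw [h3] at h2'
  have hQP : Q ≤ (P : Subgroup G) := by
    rw [h2']; exact inf_le_right
  have hQc : Nat.card ↥Q = Nat.card ↥(P : Subgroup G) := by
    rw [hQ]
    exact Subgroup.card_map_of_injective (MulAut.conj g).injective
  have hEq : Q = (P : Subgroup G) := Subgroup.eq_of_le_of_card_ge hQP (le_of_eq hQc.symm)
  rw [Subgroup.mem_normalizer_iff]
  intro x
  constructor
  · intro hx
    rw [← hEq]
    exact ⟨x, hx, rfl⟩
  · intro hx
    rw [← hEq] at hx
    obtain ⟨x', hx', e⟩ := hx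
    have : x' = x := by
      have e' : g * x' * g⁻¹ = g * x * g⁻¹ := e
      have := congrArg (fun z => g⁻¹ * z * g) e'
      simpa [mul_assoc] using this
    rw [← this]
    exact hx'

/-- `c` is not conjugate to its inverse -/
theorem not_conj_inv [Fact (Nat.Prime 7)] (P : Sylow 7 G) (c : G) (hc : orderOf c = 3)
    (hH : Subgroup.centralizer ({c} : Set G) = Subgroup.normalizer ((P : Subgroup G) : Set G))
    (g : G) : g * c * g⁻¹ ≠ c⁻¹ := by
  intro hg
  have hgN : g ∈ Subgroup.normalizer ((P : Subgroup G) : Set G) := by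
    apply mem_normalizer_of_conj_le P g
    intro x hx
    have hxH : x ∈ Subgroup.centralizer ({c} : Set G) := by
      rw [hH]
      exact Subgroup.le_normalizer hx
    rw [← hH, Subgroup.mem_centralizer_singleton_iff]
    rw [Subgroup.mem_centralizer_singleton_iff] at hxH
    -- `g x g⁻¹` commutes with `g c g⁻¹ = c⁻¹`
    have h1 : (g * c * g⁻¹) * (g * x * g⁻¹) = (g * x * g⁻¹) * (g * c * g⁻¹) := by
      calc (g * c * g⁻¹) * (g * x * g⁻¹) = g * (c * x) * g⁻¹ := by group
        _ = g * (x * c) * g⁻¹ := by rw [hxH]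
        _ = (g * x * g⁻¹) * (g * c * g⁻¹) := by group
    rw [hg] at h1
    calc g * x * g⁻¹ * c = c * (c⁻¹ * (g * x * g⁻¹)) * c := by group
      _ = c * ((g * x * g⁻¹) * c⁻¹) * c := by rw [h1]
      _ = c * (g * x * g⁻¹) := by group
  rw [← hH, Subgroup.mem_centralizer_singleton_iff] at hgN
  have h2 : g * c * g⁻¹ = c := by
    calc g * c * g⁻¹ = c * g * g⁻¹ := by rw [hgN]
      _ = c := by group
  rw [h2] at hg
  have h3 : c ^ 2 = 1 := by
    rw [pow_two]
    nth_rewrite 2 [hg]
    exact mul_inv_cancel c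
  have := orderOf_dvd_of_pow_eq_one h3
  rw [hc] at this
  omega

/-- `N(S) ∩ N(P) = S` -/
theorem normalizer_inf_eq [Fact (Nat.Prime 7)] (P : Sylow 7 G)
    (hP : Nat.card ↥(P : Subgroup G) = 7)
    (hN : Nat.card ↥(Subgroup.normalizer ((P : Subgroup G) : Set G)) = 63)
    (S : Subgroup G) (hSN : S ≤ Subgroup.normalizer ((P : Subgroup G) : Set G))
    (hSc : Nat.card ↥S = 9)
    (hD : Nat.card ↥(Subgroup.centralizer ((P : Subgroup G) : Set G) ⊓ S) = 3) :
    Subgroup.normalizer (S : Set G) ⊓ Subgroup.normalizer ((P : Subgroup G) : Set G) = S := by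
  set N := Subgroup.normalizer ((P : Subgroup G) : Set G) with hNdef
  set W := Subgroup.normalizer (S : Set G) with hWdef
  have hSK : S ≤ W ⊓ N := le_inf Subgroup.le_normalizer hSN
  have h63 : Nat.card ↥(W ⊓ N) ∣ 63 := by
    rw [← hN]
    exact Subgroup.card_dvd_of_le inf_le_right
  have h9 : 9 ∣ Nat.card ↥(W ⊓ N) := by
    rw [← hSc]
    exact Subgroup.card_dvd_of_le hSK
  have hcases : Nat.card ↥(W ⊓ N) = 9 ∨ Nat.card ↥(W ⊓ N) = 63 := by
    generalize Nat.card ↥(W ⊓ N) = k at h63 h9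
    have hle := Nat.le_of_dvd (by norm_num) h63
    obtain ⟨j, rfl⟩ := h9
    have hj : j ≤ 7 := by omega
    interval_cases j <;> simp_all <;> omega
  rcases hcases with h | h
  · symm
    apply Subgroup.eq_of_le_of_card_ge hSK
    rw [h, hSc]
  · exfalso
    have hKN : W ⊓ N = N := by
      apply Subgroup.eq_of_le_of_card_ge inf_le_right
      rw [h, hN]
    have hNW : N ≤ W := by
      rw [← hKN]
      exact inf_le_left
    have hPW : (P : Subgroup G) ≤ W := le_trans Subgroup.le_normalizer hNW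
    have hbot : (P : Subgroup G) ⊓ S = ⊥ := by
      apply Subgroup.inf_eq_bot_of_coprime
      rw [hP, hSc]
      norm_num
    have hSC : S ≤ Subgroup.centralizer ((P : Subgroup G) : Set G) := by
      intro s hs
      rw [Subgroup.mem_centralizer_iff]
      intro y hy
      have hz1 : y * s * y⁻¹ * s⁻¹ ∈ S := by
        have := (Subgroup.mem_normalizer_iff.mp (hPW hy) s).mp hs
        exact S.mul_mem this (S.inv_mem hs)
      have hz2 : y * s * y⁻¹ * s⁻¹ ∈ (P : Subgroup G) := by
        have h1 : s * y⁻¹ * s⁻¹ ∈ (P : Subgroup G) :=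
          (Subgroup.mem_normalizer_iff.mp (hSN hs) y⁻¹).mp ((P : Subgroup G).inv_mem hy)
        have h2 : y * s * y⁻¹ * s⁻¹ = y * (s * y⁻¹ * s⁻¹) := by group
        rw [h2]
        exact (P : Subgroup G).mul_mem hy h1
      have hz : y * s * y⁻¹ * s⁻¹ ∈ (P : Subgroup G) ⊓ S := ⟨hz2, hz1⟩
      rw [hbot, Subgroup.mem_bot] at hz
      calc y * s = (y * s * y⁻¹ * s⁻¹) * s * y := by group
        _ = s * y := by rw [hz, one_mul]
    have : Subgroup.centralizer ((P : Subgroup G) : Set G) ⊓ S = S := inf_eq_right.mpr hSC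
    rw [this, hSc] at hD
    omega

/-- the conjugates of `c` under `N(S)`: their number `k` satisfies `|N(S)| = 9 k`, `k ≤ 4`, and for
`k = 4` every non-identity element of `S` is conjugate to `c` or to `c⁻¹` -/
theorem orbit_count (S : Subgroup G) (hSc : Nat.card ↥S = 9)
    (hScomm : ∀ a ∈ S, ∀ b ∈ S, a * b = b * a) (c : G) (hcS : c ∈ S) (hc1 : c ≠ 1)
    (hstab : ∀ w ∈ Subgroup.normalizer (S : Set G), w * c * w⁻¹ = c → w ∈ S)
    (hnot : ∀ g : G, g * c * g⁻¹ ≠ c⁻¹) :
    ∃ k : ℕ, 1 ≤ k ∧ k ≤ 4 ∧ Nat.card ↥(Subgroup.normalizer (S : Set G)) = k * 9 ∧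
      (k = 4 → ∀ s ∈ S, s ≠ 1 → ∃ w ∈ Subgroup.normalizer (S : Set G),
        w * c * w⁻¹ = s ∨ w * c * w⁻¹ = s⁻¹) := by
  classical
  set W := Subgroup.normalizer (S : Set G) with hW
  have hSW : S ≤ W := Subgroup.le_normalizer
  let f : ↥W → ↥S := fun w => ⟨(w : G) * c * (w : G)⁻¹, (Subgroup.mem_normalizer_iff.mp w.2 c).mp hcS⟩
  have hfib : ∀ w : ↥W, Nat.card {w' : ↥W // f w' = f w} = 9 := by
    intro w
    rw [← hSc]
    refine Nat.card_congr
      { toFun := fun w' => ⟨(w : G)⁻¹ * (w'.1 : G), ?_⟩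
        invFun := fun s => ⟨⟨(w : G) * (s : G), W.mul_mem w.2 (hSW s.2)⟩, ?_⟩
        left_inv := fun w' => ?_
        right_inv := fun s => ?_ }
    · apply hstab _ (W.mul_mem (W.inv_mem w.2) w'.1.2)
      have e : (w'.1 : G) * c * (w'.1 : G)⁻¹ = (w : G) * c * (w : G)⁻¹ :=
        congrArg (fun z : ↥S => (z : G)) w'.2
      calc (w : G)⁻¹ * (w'.1 : G) * c * ((w : G)⁻¹ * (w'.1 : G))⁻¹
          = (w : G)⁻¹ * ((w'.1 : G) * c * (w'.1 : G)⁻¹) * (w : G) := by group
        _ = c := by rw [e]; group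
    · apply Subtype.ext
      show (w : G) * (s : G) * c * ((w : G) * (s : G))⁻¹ = (w : G) * c * (w : G)⁻¹
      have e : (s : G) * c = c * (s : G) := hScomm s s.2 c hcS
      calc (w : G) * (s : G) * c * ((w : G) * (s : G))⁻¹
          = (w : G) * ((s : G) * c) * (s : G)⁻¹ * (w : G)⁻¹ := by group
        _ = (w : G) * (c * (s : G)) * (s : G)⁻¹ * (w : G)⁻¹ := by rw [e]
        _ = (w : G) * c * (w : G)⁻¹ := by group
    · apply Subtype.ext
      apply Subtype.ext
      show (w : G) * ((w : G)⁻¹ * (w'.1 : G)) = (w'.1 : G)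
      group
    · apply Subtype.ext
      show (w : G)⁻¹ * ((w : G) * (s : G)) = (s : G)
      group
  have hcard := card_eq_card_range_mul f 9 hfib
  rw [Nat.card_coe_set_eq] at hcard
  set R : Set ↥S := Set.range f with hR
  set Rinv : Set ↥S := (fun x : ↥S => x⁻¹) '' R with hRinv
  have hone : ∀ w : ↥W, f w ≠ 1 := by
    intro w h
    have e : (w : G) * c * (w : G)⁻¹ = 1 := congrArg (fun z : ↥S => (z : G)) h
    apply hc1
    calc c = (w : G)⁻¹ * ((w : G) * c * (w : G)⁻¹) * (w : G) := by group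
      _ = 1 := by rw [e]; group
  have hRi : Rinv.ncard = R.ncard := Set.ncard_image_of_injective _ inv_injective
  have hdisj : Disjoint R Rinv := by
    rw [Set.disjoint_left]
    rintro x ⟨w, rfl⟩ ⟨_, ⟨w', rfl⟩, e⟩
    have e' : ((w' : G) * c * (w' : G)⁻¹)⁻¹ = (w : G) * c * (w : G)⁻¹ :=
      congrArg (fun z : ↥S => (z : G)) e
    apply hnot ((w : G)⁻¹ * (w' : G))
    calc (w : G)⁻¹ * (w' : G) * c * ((w : G)⁻¹ * (w' : G))⁻¹
        = (w : G)⁻¹ * (((w' : G) * c * (w' : G)⁻¹)⁻¹)⁻¹ * (w : G) := by group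
      _ = (w : G)⁻¹ * ((w : G) * c * (w : G)⁻¹)⁻¹ * (w : G) := by rw [e']
      _ = c⁻¹ := by group
  have hsub : R ∪ Rinv ⊆ Set.univ \ {1} := by
    rintro x (⟨w, rfl⟩ | ⟨_, ⟨w, rfl⟩, rfl⟩)
    · exact ⟨Set.mem_univ _, fun h => hone w h⟩
    · refine ⟨Set.mem_univ _, fun h => hone w ?_⟩
      have h' : (f w)⁻¹ = 1 := h
      exact inv_eq_one.mp h'
  have h8 : (Set.univ \ {(1 : ↥S)}).ncard = 8 := by
    rw [Set.ncard_diff_singleton_of_mem (Set.mem_univ _), Set.ncard_univ, hSc]
  have hun : (R ∪ Rinv).ncard = R.ncard + Rinv.ncard := Set.ncard_union_eq hdisj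
  have hle : (R ∪ Rinv).ncard ≤ 8 := by
    rw [← h8]
    exact Set.ncard_le_ncard hsub
  have hpos : 0 < R.ncard := by
    rw [Set.ncard_pos]
    exact ⟨f 1, 1, rfl⟩
  refine ⟨R.ncard, hpos, by omega, hcard, ?_⟩
  intro h4 s hs hs1
  have heq : R ∪ Rinv = Set.univ \ {1} := by
    apply Set.eq_of_subset_of_ncard_le hsub
    rw [h8, hun, hRi, h4]
  have hmem : (⟨s, hs⟩ : ↥S) ∈ R ∪ Rinv := by
    rw [heq]
    refine ⟨Set.mem_univ _, fun h => hs1 ?_⟩
    exact congrArg (fun z : ↥S => (z : G)) h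
  rcases hmem with ⟨w, e⟩ | ⟨_, ⟨w, rfl⟩, e⟩
  · exact ⟨w, w.2, Or.inl (congrArg (fun z : ↥S => (z : G)) e)⟩
  · refine ⟨w, w.2, Or.inr ?_⟩
    have e' : ((w : G) * c * (w : G)⁻¹)⁻¹ = s := congrArg (fun z : ↥S => (z : G)) e
    rw [← e', inv_inv]

theorem factorization_4032_three : (4032 : ℕ).factorization 3 = 2 := by
  have h : (4032 : ℕ) = 3 ^ 2 * 448 := by norm_num
  rw [h, Nat.factorization_mul (by norm_num) (by norm_num),
    Nat.Prime.factorization_pow (by norm_num)]
  have : (448 : ℕ).factorization 3 = 0 := Nat.factorization_eq_zero_of_not_dvd (by norm_num)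
  simp [this]

/-- the case of `64` Sylow `7`-subgroups -/
theorem case64 [IsSimpleGroup G] (hnc : ¬ IsMulCommutative G) (hG : Nat.card G = 4032)
    [Fact (Nat.Prime 7)] (P : Sylow 7 G) (hP : Nat.card ↥(P : Subgroup G) = 7)
    (hN : Nat.card ↥(Subgroup.normalizer ((P : Subgroup G) : Set G)) = 63)
    (hC : Nat.card ↥(Subgroup.centralizer ((P : Subgroup G) : Set G)) = 21)
    (hr : (Subgroup.centralizer ((P : Subgroup G) : Set G)).relIndex
      (Subgroup.normalizer ((P : Subgroup G) : Set G)) = 3) : False := by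
  haveI : Fact (Nat.Prime 3) := ⟨by norm_num⟩
  obtain ⟨S, c, hSN, hSc, hScomm, hcS, hcC, hc, hNH, hD⟩ := exists_three_central P hP hN hC hr
  have hH := centralizer_eq_normalizer hnc hG P hP hN c hc hcC hNH
  have hnot := not_conj_inv P c hc hH
  have hWN := normalizer_inf_eq P hP hN S hSN hSc hD
  have hc1 : c ≠ 1 := by
    intro h
    rw [h, orderOf_one] at hc
    omega
  have hHc : Nat.card ↥(Subgroup.centralizer ({c} : Set G)) = 63 := by rw [hH, hN]
  set W := Subgroup.normalizer (S : Set G) with hW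
  have hstab : ∀ w ∈ W, w * c * w⁻¹ = c → w ∈ S := by
    intro w hw h
    have hwN : w ∈ Subgroup.normalizer ((P : Subgroup G) : Set G) := by
      rw [← hH, Subgroup.mem_centralizer_singleton_iff]
      calc w * c = (w * c * w⁻¹) * w := by group
        _ = c * w := by rw [h]
    have hmem : w ∈ W ⊓ Subgroup.normalizer ((P : Subgroup G) : Set G) := ⟨hw, hwN⟩
    rwa [hWN] at hmem
  obtain ⟨k, hk1, hk4, hWc, hall⟩ := orbit_count S hSc hScomm c hcS hc1 hstab hnot
  have hWdvd : Nat.card ↥W ∣ 4032 := by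
    rw [← hG]
    exact Subgroup.card_subgroup_dvd_card W
  -- the Sylow `3`-subgroup
  let T : Sylow 3 G := Sylow.ofCard S (by rw [hSc, hG, factorization_4032_three]; norm_num)
  have hT : (T : Subgroup G) = S := Sylow.coe_ofCard S _
  have hk3 : k ≠ 3 := by
    rintro rfl
    rw [hWc] at hWdvd
    omega
  have hcases : k = 1 ∨ k = 2 ∨ k = 4 := by omega
  rcases hcases with rfl | rfl | rfl
  · -- `N(S) = S`: Burnside
    have hWS : W = S := by
      symm
      apply Subgroup.eq_of_le_of_card_ge Subgroup.le_normalizer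
      rw [hWc, hSc]
    apply not_normalizer_le_centralizer hnc T (by rw [hT, hSc]; norm_num)
      (by rw [hT]; exact hScomm)
    rw [hT, ← hW, hWS]
    intro s hs
    rw [Subgroup.mem_centralizer_iff]
    intro t ht
    exact hScomm t ht s hs
  · -- `224` Sylow `3`-subgroups
    have h1 : Nat.card (Sylow 3 G) = (Subgroup.normalizer ((T : Subgroup G) : Set G)).index :=
      Sylow.card_eq_index_normalizer T
    rw [hT, ← hW] at h1
    have h2 := W.card_mul_index
    rw [hWc, hG] at h2
    have h3 := card_sylow_modEq_one 3 G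
    unfold Nat.ModEq at h3
    omega
  · -- an involution of `N(S)` inverts `c`
    obtain ⟨z, hzW, hz⟩ := exists_invol_mem W (by rw [hWc]; norm_num)
    have hzz : z * z = 1 := mul_self_of_orderOf_two hz
    have hzi : z⁻¹ = z := inv_of_orderOf_two hz
    have hzcS : z * c * z⁻¹ ∈ S := (Subgroup.mem_normalizer_iff.mp hzW c).mp hcS
    set t := c * (z * c * z⁻¹) with ht
    have htS : t ∈ S := S.mul_mem hcS hzcS
    have hzt : z * t * z⁻¹ = t := by
      have e : z * t * z⁻¹ = (z * c * z⁻¹) * ((z * z) * c * (z⁻¹ * z⁻¹)) := by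
        rw [ht]; group
      have e2 : (z * z) * c * (z⁻¹ * z⁻¹) = c := by rw [hzz, hzi, hzz, one_mul, mul_one]
      rw [e, e2, ht]
      exact hScomm _ hzcS c hcS
    by_cases ht1 : t = 1
    · apply hnot z
      have : c * (z * c * z⁻¹) = 1 := by rw [← ht, ht1]
      exact (eq_inv_of_mul_eq_one_right this)
    · obtain ⟨w, _, hw⟩ := hall rfl t htS ht1
      -- `w⁻¹ z w` is an involution centralizing `c`
      have hcomm : (w⁻¹ * z * w) * c = c * (w⁻¹ * z * w) := by
        have hzt' : z * t = t * z := by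
          calc z * t = (z * t * z⁻¹) * z := by group
            _ = t * z := by rw [hzt]
        have hzti : z * t⁻¹ = t⁻¹ * z := by
          calc z * t⁻¹ = t⁻¹ * (t * z) * t⁻¹ := by group
            _ = t⁻¹ * (z * t) * t⁻¹ := by rw [hzt']
            _ = t⁻¹ * z := by group
        rcases hw with hw | hw
        · calc (w⁻¹ * z * w) * c = w⁻¹ * (z * (w * c * w⁻¹)) * w := by group
            _ = w⁻¹ * (z * t) * w := by rw [hw]
            _ = w⁻¹ * (t * z) * w := by rw [hzt']
            _ = w⁻¹ * ((w * c * w⁻¹) * z) * w := by rw [hw]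
            _ = c * (w⁻¹ * z * w) := by group
        · calc (w⁻¹ * z * w) * c = w⁻¹ * (z * (w * c * w⁻¹)) * w := by group
            _ = w⁻¹ * (z * t⁻¹) * w := by rw [hw]
            _ = w⁻¹ * (t⁻¹ * z) * w := by rw [hzti]
            _ = w⁻¹ * ((w * c * w⁻¹) * z) * w := by rw [hw]
            _ = c * (w⁻¹ * z * w) := by group
      have hmem : w⁻¹ * z * w ∈ Subgroup.centralizer ({c} : Set G) := by
        rw [Subgroup.mem_centralizer_singleton_iff]
        exact hcomm
      have hord : orderOf (w⁻¹ * z * w) = 2 := by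
        have : w⁻¹ * z * w = MulAut.conj w⁻¹ z := by simp
        rw [this, MulEquiv.orderOf_eq, hz]
      have hdvd : orderOf (⟨w⁻¹ * z * w, hmem⟩ : ↥(Subgroup.centralizer ({c} : Set G))) ∣ 63 := by
        rw [← hHc]
        exact orderOf_dvd_natCard _
      rw [Subgroup.orderOf_mk, hord] at hdvd
      omega

end Cfsg.Agent.Lib.Helper19.Ord4032
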