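import Mathlib
import Cfsg.Agent.Lib.Helper19.Ord4032B
import Cfsg.Agent.Lib.Helper6.IndFun
import Cfsg.Agent.Lib.Lead.BrLeo16

/-!
# No simple group of order 4032, part C (helper19)

The case of `288` Sylow `7`-subgroups, group-theoretic part: `N(P)` is dihedral of order `14`, and the
number of pairs of conjugates of an involution `t ∈ N(P)` with product a generator `y` of `P` is
`7 |C(t)|²`.
-/

set_option autoImplicit false
set_option linter.unusedSectionVars false
set_option linter.style.haveILetI false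

namespace Cfsg.Agent.Lib.Helper19.Ord4032

open MulAction Cfsg.Agent.Lib.Helper8.SmallSimple Cfsg.Agent.Lib.Helper8.SmallSimple2
  Cfsg.Agent.Lib.Helper7 Cfsg.Agent.Lib.Helper6 Cfsg.Agent.CharLib

universe u

variable {G : Type u} [Group G]

open Classical in
/-- the pair function counts pairs of conjugates -/
theorem pairFun_eq_card [Fintype G] (t y : G) :
    pairFun t y = (Nat.card (Subgroup.centralizer ({t} : Set G)) : ℂ) ^ 2 *
      ((Finset.univ.filter (fun u : G => IsConj t u ∧ IsConj t (u⁻¹ * y))).card : ℂ) := by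
  unfold pairFun
  have inner : ∀ a : G, (∑ b : G, if a⁻¹ * t * a * (b⁻¹ * t * b) = y then (1 : ℂ) else 0) =
      (Nat.card (Subgroup.centralizer ({t} : Set G)) : ℂ) *
        (if IsConj t ((a⁻¹ * t * a)⁻¹ * y) then 1 else 0) := by
    intro a
    rw [sum_conj_eq t (fun v => if a⁻¹ * t * a * v = y then (1 : ℂ) else 0)]
    congr 1
    have h1 : ∀ v ∈ Finset.univ.image (fun x : G => x⁻¹ * t * x),
        (if a⁻¹ * t * a * v = y then (1 : ℂ) else 0) =
          if v = (a⁻¹ * t * a)⁻¹ * y then 1 else 0 := by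
      intro v _
      exact if_congr eq_inv_mul_iff_mul_eq.symm rfl rfl
    rw [Finset.sum_congr rfl h1, Finset.sum_ite_eq']
    exact if_congr (mem_image_conj_iff t _) rfl rfl
  rw [Finset.sum_congr rfl (fun a _ => inner a), ← Finset.mul_sum,
    sum_conj_eq t (fun u => if IsConj t (u⁻¹ * y) then (1 : ℂ) else 0), Finset.sum_boole, pow_two,
    mul_assoc]
  congr 4
  ext u
  simp only [Finset.mem_filter, Finset.mem_univ, true_and]
  rw [mem_image_conj_iff]

theorem centralizer_zpowers_eq' (z : G) :
    Subgroup.centralizer ((Subgroup.zpowers z : Subgroup G) : Set G) =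
      Subgroup.centralizer ({z} : Set G) := by
  ext g
  rw [Subgroup.mem_centralizer_iff, Subgroup.mem_centralizer_singleton_iff]
  constructor
  · intro h
    exact (h z (Subgroup.mem_zpowers z)).symm
  · intro h w hw
    obtain ⟨i, rfl⟩ := hw
    have : Commute g z := h
    exact ((this.zpow_right i).eq).symm

/-- the dihedral structure of `N(P)` when `|N(P)| = 14` and `|C(P)| = 7` -/
theorem dihedral_data [Finite G] [Fact (Nat.Prime 7)] (P : Sylow 7 G)
    (hP : Nat.card ↥(P : Subgroup G) = 7)
    (hN : Nat.card ↥(Subgroup.normalizer ((P : Subgroup G) : Set G)) = 14)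
    (hC : Nat.card ↥(Subgroup.centralizer ((P : Subgroup G) : Set G)) = 7) :
    ∃ t y : G, orderOf t = 2 ∧ t ∈ Subgroup.normalizer ((P : Subgroup G) : Set G) ∧
      t ∉ (P : Subgroup G) ∧ orderOf y = 7 ∧ y ∈ (P : Subgroup G) ∧
      (P : Subgroup G) = Subgroup.zpowers y ∧ t * y * t⁻¹ = y⁻¹ ∧
      Subgroup.centralizer ({y} : Set G) = (P : Subgroup G) ∧
      Subgroup.centralizer ((P : Subgroup G) : Set G) = (P : Subgroup G) ∧
      ∀ u ∈ Subgroup.normalizer ((P : Subgroup G) : Set G), u ∉ (P : Subgroup G) → IsConj t u := by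
  haveI : Fact (Nat.Prime 2) := ⟨Nat.prime_two⟩
  set N := Subgroup.normalizer ((P : Subgroup G) : Set G) with hNdef
  set C := Subgroup.centralizer ((P : Subgroup G) : Set G) with hCdef
  have hcommP := comm_of_card_prime (P : Subgroup G) hP
  have hPC : (P : Subgroup G) ≤ C := by
    intro x hx
    rw [hCdef, Subgroup.mem_centralizer_iff]
    intro z hz
    exact hcommP z hz x hx
  have hCP : C = (P : Subgroup G) := by
    symm
    apply Subgroup.eq_of_le_of_card_ge hPC
    rw [hC, hP]
  obtain ⟨t, htN, ht⟩ := exists_invol_mem N (by rw [hN]; norm_num)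
  have htP : t ∉ (P : Subgroup G) := by
    intro h
    have := orderOf_dvd_natCard (⟨t, h⟩ : ↥(P : Subgroup G))
    rw [hP, Subgroup.orderOf_mk, ht] at this
    omega
  obtain ⟨y, hyP, hy⟩ := exists_prime_order_mem (P : Subgroup G) 7 (by rw [hP])
  have hPy : (P : Subgroup G) = Subgroup.zpowers y := by
    symm
    apply Subgroup.eq_of_le_of_card_ge
    · rw [Subgroup.zpowers_le]; exact hyP
    · rw [Nat.card_zpowers, hy, hP]
  have htt : t * t = 1 := mul_self_of_orderOf_two ht
  have htyP : t * y * t⁻¹ ∈ (P : Subgroup G) := (Subgroup.mem_normalizer_iff.mp htN y).mp hyP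
  have hcy : Subgroup.centralizer ({y} : Set G) = (P : Subgroup G) := by
    rw [← centralizer_zpowers_eq', ← hPy]
    exact hCP
  have hinv : t * y * t⁻¹ = y⁻¹ := by
    rcases conj_eq_or_eq_inv (p := 7) y t hy htt (by rw [← hPy]; exact htyP) with h | h
    · exfalso
      apply htP
      have := mem_centralizer_zpowers y t h
      rw [← hPy] at this
      rw [← hCP]
      exact this
    · exact h
  refine ⟨t, y, ht, htN, htP, hy, hyP, hPy, hinv, hcy, hCP, ?_⟩
  intro u huN huP
  -- `P` has index two in `N`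
  have hPN : (P : Subgroup G) ≤ N := Subgroup.le_normalizer
  have hrel : (P : Subgroup G).relIndex N = 2 := by
    have h1 := card_inf_mul_relIndex (P : Subgroup G) N
    rw [inf_eq_left.mpr hPN, hP, hN] at h1
    omega
  have hidx : ((P : Subgroup G).subgroupOf N).index = 2 := hrel
  have hmem : (⟨t⁻¹, N.inv_mem htN⟩ : ↥N) * ⟨u, huN⟩ ∈ (P : Subgroup G).subgroupOf N := by
    rw [Subgroup.mul_mem_iff_of_index_two hidx, Subgroup.mem_subgroupOf, Subgroup.mem_subgroupOf]
    constructor
    · intro h
      exact absurd ((P : Subgroup G).inv_mem_iff.mp h) htP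
    · intro h
      exact absurd h huP
  rw [Subgroup.mem_subgroupOf] at hmem
  have hmem' : t⁻¹ * u ∈ Subgroup.zpowers y := by
    rw [← hPy]
    exact hmem
  obtain ⟨k, hk⟩ := hmem'
  have hk' : y ^ k = t⁻¹ * u := hk
  have hu : u = t * y ^ k := by rw [hk']; group
  -- `y ^ j * t = t * y ^ (-j)`
  have hconj : ∀ j : ℤ, y ^ j * t = t * y ^ (-j) := by
    intro j
    have h1 : t * y ^ (-j) * t⁻¹ = y ^ j := by
      rw [← conj_zpow, hinv, inv_zpow, zpow_neg, inv_inv]
    calc y ^ j * t = (t * y ^ (-j) * t⁻¹) * t := by rw [h1]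
      _ = t * y ^ (-j) := by group
  have h7 : y ^ (7 : ℤ) = 1 := by
    have := pow_orderOf_eq_one y
    rw [hy] at this
    exact_mod_cast this
  rw [isConj_iff]
  refine ⟨y ^ (3 * k), ?_⟩
  rw [hu, hconj (3 * k), mul_assoc, ← zpow_neg, ← zpow_add]
  congr 1
  have e : -(3 * k) + -(3 * k) = k + 7 * (-k) := by ring
  rw [e, zpow_add, zpow_mul, h7, one_zpow, mul_one]

theorem mul_self_of_isConj {t u : G} (ht : t * t = 1) (h : IsConj t u) : u * u = 1 := by
  obtain ⟨c, rfl⟩ := isConj_iff.mp h
  calc c * t * c⁻¹ * (c * t * c⁻¹) = c * (t * t) * c⁻¹ := by group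
    _ = 1 := by rw [ht]; group

open Classical in
/-- the pairs of conjugates of `t` with product `y` correspond to the elements of `N(P) \ P` -/
theorem card_pairs [Fintype G] [Fact (Nat.Prime 7)] (P : Sylow 7 G)
    (hP : Nat.card ↥(P : Subgroup G) = 7)
    (hN : Nat.card ↥(Subgroup.normalizer ((P : Subgroup G) : Set G)) = 14) (t y : G)
    (ht : orderOf t = 2) (hy : orderOf y = 7)
    (hyP : y ∈ (P : Subgroup G)) (hPy : (P : Subgroup G) = Subgroup.zpowers y)
    (hconjN : ∀ u ∈ Subgroup.normalizer ((P : Subgroup G) : Set G), u ∉ (P : Subgroup G) →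
      IsConj t u) :
    (Finset.univ.filter (fun u : G => IsConj t u ∧ IsConj t (u⁻¹ * y))).card = 7 := by
  set N := Subgroup.normalizer ((P : Subgroup G) : Set G) with hNdef
  have hPN : (P : Subgroup G) ≤ N := Subgroup.le_normalizer
  have htt : t * t = 1 := mul_self_of_orderOf_two ht
  have hset : Finset.univ.filter (fun u : G => IsConj t u ∧ IsConj t (u⁻¹ * y)) =
      Finset.univ.filter (fun u : G => u ∈ N) \ Finset.univ.filter (fun u : G => u ∈ (P : Subgroup G)) := by
    ext u
    simp only [Finset.mem_filter, Finset.mem_univ, true_and, Finset.mem_sdiff]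
    constructor
    · rintro ⟨h1, h2⟩
      have huu : u * u = 1 := mul_self_of_isConj htt h1
      have hui : u⁻¹ = u := inv_eq_of_mul_eq_one_left huu
      have hvv : (u⁻¹ * y) * (u⁻¹ * y) = 1 := mul_self_of_isConj htt h2
      rw [hui] at hvv
      have hinv : u * y * u⁻¹ = y⁻¹ := by
        rw [hui]
        calc u * y * u = (u * y * (u * y)) * y⁻¹ := by group
          _ = y⁻¹ := by rw [hvv, one_mul]
      refine ⟨?_, ?_⟩
      · apply mem_normalizer_of_conj_le P u
        intro x hx
        apply hPN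
        rw [hPy] at hx ⊢
        obtain ⟨k, rfl⟩ := hx
        rw [← conj_zpow, hinv]
        exact Subgroup.zpow_mem _ (Subgroup.inv_mem _ (Subgroup.mem_zpowers y)) k
      · intro huP
        have h7 := orderOf_dvd_natCard (⟨u, huP⟩ : ↥(P : Subgroup G))
        rw [hP, Subgroup.orderOf_mk] at h7
        have h2' : orderOf u ∣ 2 := orderOf_dvd_of_pow_eq_one (by rw [pow_two]; exact huu)
        have h1' : orderOf u = 1 := by
          have := Nat.dvd_gcd h7 h2'
          simpa using this
        rw [orderOf_eq_one_iff] at h1'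
        rw [h1', isConj_one_left] at h1
        rw [h1, orderOf_one] at ht
        omega
    · rintro ⟨huN, huP⟩
      refine ⟨hconjN u huN huP, hconjN _ (N.mul_mem (N.inv_mem huN) (hPN hyP)) ?_⟩
      intro h
      apply huP
      have h3 : u⁻¹ ∈ (P : Subgroup G) := by
        have := (P : Subgroup G).mul_mem h ((P : Subgroup G).inv_mem hyP)
        simpa using this
      exact (P : Subgroup G).inv_mem_iff.mp h3
  rw [hset, Finset.card_sdiff_of_subset]
  · have e1 : (Finset.univ.filter (fun u : G => u ∈ N)).card = 14 := by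
      rw [← Fintype.card_subtype, ← Nat.card_eq_fintype_card]
      exact hN
    have e2 : (Finset.univ.filter (fun u : G => u ∈ (P : Subgroup G))).card = 7 := by
      rw [← Fintype.card_subtype, ← Nat.card_eq_fintype_card]
      exact hP
    rw [e1, e2]
  · intro u hu
    simp only [Finset.mem_filter, Finset.mem_univ, true_and] at hu ⊢
    exact hPN hu

end Cfsg.Agent.Lib.Helper19.Ord4032
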