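import Mathlib
import Cfsg.Agent.Lib.Helper19.Ord4032C
import Cfsg.Agent.Lib.Helper6.Knoerr

/-!
# No simple group of order 4032, part D (helper19)

The case of `288` Sylow `7`-subgroups, character-theoretic part: the Brauer–Leonard description of the
principal `7`-block (`[N(P) : C(P)] = 2`) and the class multiplication coefficient of an involution of
`N(P)` give `|C(t)|² F (F + 1) = (24 (F - c))²` with `F ≠ 0, -1`, which is impossible.
-/

set_option autoImplicit false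
set_option linter.unusedSectionVars false
set_option linter.style.haveILetI false

namespace Cfsg.Agent.Lib.Helper19.Ord4032

open MulAction Cfsg Cfsg.Agent.Lib.Helper8.SmallSimple Cfsg.Agent.Lib.Helper8.SmallSimple2
  Cfsg.Agent.Lib.Helper7 Cfsg.Agent.Lib.Helper6 Cfsg.Agent.CharLib
open scoped ComplexConjugate

universe u

/-- `c² m` is not a square when `m = F (F + 1)` with `F ≠ 0, -1` and `c ≠ 0` -/
theorem not_sq_mul (c F k : ℤ) (hc : c ≠ 0) (hF0 : F ≠ 0) (hF1 : F ≠ -1)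
    (h : c ^ 2 * (F * (F + 1)) = k ^ 2) : False := by
  have hdvd : c ^ 2 ∣ k ^ 2 := ⟨F * (F + 1), h.symm⟩
  have hck : c ∣ k := (Int.pow_dvd_pow_iff (by norm_num)).mp hdvd
  obtain ⟨j, rfl⟩ := hck
  have hj : F * (F + 1) = j ^ 2 := by
    have h2 : c ^ 2 * (F * (F + 1)) = c ^ 2 * j ^ 2 := by rw [h]; ring
    exact mul_left_cancel₀ (pow_ne_zero 2 hc) h2
  -- `F (F + 1)` lies strictly between two consecutive squares
  rcases lt_or_gt_of_ne hF0 with hneg | hpos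
  · have hF2 : F ≤ -2 := by omega
    -- put `E = -F - 1 ≥ 1`
    have h1 : (-F - 1) ^ 2 < j ^ 2 := by nlinarith
    have h2 : j ^ 2 < (-F) ^ 2 := by nlinarith
    have h3 : |(-F - 1)| < |j| := sq_lt_sq.mp h1
    have h4 : |j| < |(-F)| := sq_lt_sq.mp h2
    rw [abs_of_nonneg (by omega : (0 : ℤ) ≤ -F - 1)] at h3
    rw [abs_of_nonneg (by omega : (0 : ℤ) ≤ -F)] at h4
    omega
  · have h1 : F ^ 2 < j ^ 2 := by nlinarith
    have h2 : j ^ 2 < (F + 1) ^ 2 := by nlinarith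
    have h3 : |F| < |j| := sq_lt_sq.mp h1
    have h4 : |j| < |F + 1| := sq_lt_sq.mp h2
    rw [abs_of_nonneg (by omega : (0 : ℤ) ≤ F)] at h3
    rw [abs_of_nonneg (by omega : (0 : ℤ) ≤ F + 1)] at h4
    omega

section hyps

variable {G : Type u} [Group G] [Finite G]

/-- the hypotheses of the Brauer–Leonard theorem -/
theorem bl_hyps [Fact (Nat.Prime 7)] (P : Sylow 7 G) (hP : Nat.card ↥(P : Subgroup G) = 7)
    (hN : Nat.card ↥(Subgroup.normalizer ((P : Subgroup G) : Set G)) = 14)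
    (hC : Nat.card ↥(Subgroup.centralizer ((P : Subgroup G) : Set G)) = 7) :
    IsMulCommutative ↥P ∧
    (∃ g : G, g ∈ Subgroup.normalizer ((P : Subgroup G) : Set G) ∧
      Subgroup.centralizer ((P : Subgroup G) : Set G) ⊔ Subgroup.zpowers g =
        Subgroup.normalizer ((P : Subgroup G) : Set G)) ∧
    (∀ y : G, y ∈ (P : Subgroup G) → y ≠ 1 →
      Subgroup.centralizer ({y} : Set G) ⊓ Subgroup.normalizer ((P : Subgroup G) : Set G) =
        Subgroup.centralizer ((P : Subgroup G) : Set G)) := by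
  obtain ⟨t, y, ht, htN, htP, hy, hyP, hPy, hinv, hcy, hCP, hconjN⟩ := dihedral_data P hP hN hC
  set N := Subgroup.normalizer ((P : Subgroup G) : Set G) with hNdef
  set C := Subgroup.centralizer ((P : Subgroup G) : Set G) with hCdef
  have hCN : C ≤ N := by
    rw [hCP]; exact Subgroup.le_normalizer
  refine ⟨?_, ⟨t, htN, ?_⟩, ?_⟩
  · have hcyc : IsCyclic ↥(P : Subgroup G) := isCyclic_of_prime_card hP
    exact IsCyclic.isMulCommutative
  · have hKN : C ⊔ Subgroup.zpowers t ≤ N := by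
      apply sup_le hCN
      rw [Subgroup.zpowers_le]; exact htN
    have h7 : 7 ∣ Nat.card ↥(C ⊔ Subgroup.zpowers t) := by
      rw [← hC]
      exact Subgroup.card_dvd_of_le le_sup_left
    have h14 : Nat.card ↥(C ⊔ Subgroup.zpowers t) ∣ 14 := by
      rw [← hN]
      exact Subgroup.card_dvd_of_le hKN
    have hne : Nat.card ↥(C ⊔ Subgroup.zpowers t) ≠ 7 := by
      intro h
      apply htP
      have hCK : C = C ⊔ Subgroup.zpowers t := by
        apply Subgroup.eq_of_le_of_card_ge le_sup_left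
        rw [h, hC]
      rw [← hCP, hCK]
      exact (le_sup_right : Subgroup.zpowers t ≤ C ⊔ Subgroup.zpowers t) (Subgroup.mem_zpowers t)
    have hcard : Nat.card ↥(C ⊔ Subgroup.zpowers t) = 14 := by
      generalize Nat.card ↥(C ⊔ Subgroup.zpowers t) = k at h7 h14 hne
      have hle := Nat.le_of_dvd (by norm_num) h14
      obtain ⟨j, rfl⟩ := h7
      have : j ≤ 2 := by omega
      interval_cases j <;> simp_all
    apply Subgroup.eq_of_le_of_card_ge hKN
    rw [hcard, hN]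
  · intro y' hy'P hy'1
    have hzy : Subgroup.zpowers y' = (P : Subgroup G) := by
      apply Subgroup.eq_of_le_of_card_ge
      · rw [Subgroup.zpowers_le]; exact hy'P
      · rw [hP, Nat.card_zpowers]
        have h1 := orderOf_dvd_natCard (⟨y', hy'P⟩ : ↥(P : Subgroup G))
        rw [hP, Subgroup.orderOf_mk] at h1
        rcases (Nat.dvd_prime (by norm_num : Nat.Prime 7)).mp h1 with h | h
        · exact absurd (orderOf_eq_one_iff.mp h) hy'1
        · rw [h]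
    rw [← centralizer_zpowers_eq', hzy]
    exact inf_eq_left.mpr hCN

end hyps

section main

variable {G : Type u} [Group G] [Finite G]

/-- the case of `288` Sylow `7`-subgroups -/
theorem case288 [IsSimpleGroup G] (hnc : ¬ IsMulCommutative G) (hG : Nat.card G = 4032)
    [Fact (Nat.Prime 7)] (P : Sylow 7 G) (hP : Nat.card ↥(P : Subgroup G) = 7)
    (hN : Nat.card ↥(Subgroup.normalizer ((P : Subgroup G) : Set G)) = 14)
    (hC : Nat.card ↥(Subgroup.centralizer ((P : Subgroup G) : Set G)) = 7)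
    (hr : (Subgroup.centralizer ((P : Subgroup G) : Set G)).relIndex
      (Subgroup.normalizer ((P : Subgroup G) : Set G)) = 2) : False := by
  classical
  obtain ⟨t, y, ht, htN, htP, hy, hyP, hPy, hinv, hcy, hCP, hconjN⟩ := dihedral_data P hP hN hC
  obtain ⟨hab, hcyc, hfrob⟩ := bl_hyps P hP hN hC
  obtain ⟨M, hM⟩ := exists_isPModular 7
  have hcardP : Nat.card P = 7 := hP
  obtain ⟨s, X, Y, hs, hB, hdisj, hXc, hYc, ⟨χ₁, hχ₁X, hχ₁⟩, a, d, δ, ζ, hδ, hX, -, -, -, -, heq,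
    hYreg, hrel⟩ := brauer_leonard_main 7 M hM P hab 2 (by norm_num) (by rw [hcardP]; norm_num) hr
      hcyc hfrob
  rw [hcardP] at hYc heq hrel
  have heq' : (d - δ) ^ 2 + 2 * d ^ 2 + ∑ᶠ (χ : IrrCharacter G) (_ : χ ∈ X), a χ ^ 2 = 3 := by
    have e : (((7 : ℕ) : ℤ) - 1) / ((2 : ℕ) : ℤ) - 1 = 2 := by norm_num
    rw [e] at heq
    push_cast at heq
    linarith
  have hYc' : Y.ncard = 3 := by rw [← Nat.card_coe_set_eq, hYc]
  have hrel' : ∀ η ∈ Y, ∀ g : G, ¬ 7 ∣ orderOf g →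
      ((3 : ℂ) * d - δ) * (η : G → ℂ) g +
        ∑ᶠ (χ : IrrCharacter G) (_ : χ ∈ X), (a χ : ℂ) * (χ : G → ℂ) g = 0 := by
    intro η hη g hg
    have := hrel η hη g hg
    have e : (((7 - 1) / 2 : ℕ) : ℂ) = 3 := by norm_num
    rw [e] at this
    exact this
  have hy1 : y ≠ 1 := by
    intro h
    rw [h, orderOf_one] at hy
    omega
  have hpp : IsPPart 7 y y :=
    ⟨1, mul_one y, Commute.one_right y, ⟨1, by rw [hy, pow_one]⟩, by rw [orderOf_one]; norm_num⟩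
  have ha1 : a χ₁ = 1 := by
    have h1 := (hX χ₁ hχ₁X).2 y y hpp hyP hy1
    rw [hχ₁] at h1
    have h2 : ((a χ₁ : ℤ) : ℂ) = ((1 : ℤ) : ℂ) := by rw [← h1]; norm_num
    exact_mod_cast h2
  obtain ⟨η₀, hη₀⟩ := Set.nonempty_of_ncard_ne_zero (by rw [hYc']; norm_num : Y.ncard ≠ 0)
  have hreg1 : ¬ 7 ∣ orderOf (1 : G) := by rw [orderOf_one]; norm_num
  have hregt : ¬ 7 ∣ orderOf t := by rw [ht]; norm_num
  have hXn : X.ncard = s := by rw [← Nat.card_coe_set_eq, hXc]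
  have hs1 : 1 ≤ s := by
    rw [← hXn]
    exact (Set.ncard_pos (Set.toFinite X)).mpr ⟨χ₁, hχ₁X⟩
  have hδ2 : δ ^ 2 = 1 := by rcases hδ with h | h <;> rw [h] <;> norm_num
  -- the set `X` has two elements and `d = 0`
  have hkey : d = 0 ∧ ∃ χ₂ : IrrCharacter G, χ₂ ≠ χ₁ ∧ X = {χ₁, χ₂} ∧ (a χ₂ = 1 ∨ a χ₂ = -1) := by
    have hs12 : s = 1 ∨ s = 2 := by omega
    rcases hs12 with hs1' | hs2
    · exfalso
      rw [hs1'] at hXn
      obtain ⟨x, hx⟩ := Set.ncard_eq_one.mp hXn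
      have hx1 : χ₁ = x := by
        have : χ₁ ∈ ({x} : Set (IrrCharacter G)) := by rw [← hx]; exact hχ₁X
        exact this
      rw [← hx1] at hx
      rw [hx, finsum_mem_singleton, ha1] at heq'
      have hdδ : d = δ := by
        rcases hδ with h | h
        · rw [h] at heq' ⊢
          have h1 : d ^ 2 ≤ 1 := by nlinarith [sq_nonneg (d - 1)]
          have h2 : -1 ≤ d := by nlinarith
          have h3 : d ≤ 1 := by nlinarith
          interval_cases d <;> simp_all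
        · rw [h] at heq' ⊢
          have h1 : d ^ 2 ≤ 1 := by nlinarith [sq_nonneg (d - -1)]
          have h2 : -1 ≤ d := by nlinarith
          have h3 : d ≤ 1 := by nlinarith
          interval_cases d <;> simp_all
      have h4 := hrel' η₀ hη₀ 1 hreg1
      rw [hx, finsum_mem_singleton, ha1, hdδ, hχ₁] at h4
      obtain ⟨n, hn, hn1⟩ := IsIrrCharacter.apply_one_pos η₀.2
      rw [hn1] at h4
      have h5 : ((2 * δ * n + 1 : ℤ) : ℂ) = ((0 : ℤ) : ℂ) := by
        push_cast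
        linear_combination h4
      have h6 : 2 * δ * n + 1 = 0 := by exact_mod_cast h5
      rcases hδ with h | h <;> rw [h] at h6 <;> omega
    · rw [hs2] at hXn
      obtain ⟨x, x', hne, hxx⟩ := Set.ncard_eq_two.mp hXn
      have hmem : χ₁ ∈ ({x, x'} : Set (IrrCharacter G)) := by rw [← hxx]; exact hχ₁X
      have hex : ∃ χ₂ : IrrCharacter G, χ₂ ≠ χ₁ ∧ X = {χ₁, χ₂} := by
        rcases hmem with h | h
        · exact ⟨x', by rw [h]; exact hne.symm, by rw [hxx, h]⟩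
        · have h' : χ₁ = x' := h
          exact ⟨x, by rw [h']; exact hne, by rw [hxx, h', Set.pair_comm]⟩
      obtain ⟨χ₂, hχ₂ne, hXeq⟩ := hex
      have ha2 : a χ₂ ≠ 0 := (hX χ₂ (by rw [hXeq]; exact Set.mem_insert_of_mem _ rfl)).1
      rw [hXeq, finsum_mem_pair hχ₂ne.symm, ha1] at heq'
      have hpos : 1 ≤ a χ₂ ^ 2 := by
        have : 0 < a χ₂ ^ 2 := by positivity
        omega
      have hd0 : d = 0 := by
        by_contra hd
        have : 1 ≤ d ^ 2 := by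
          have : 0 < d ^ 2 := by positivity
          omega
        nlinarith [sq_nonneg (d - δ)]
      refine ⟨hd0, χ₂, hχ₂ne, hXeq, ?_⟩
      rw [hd0] at heq'
      have h1 : a χ₂ ^ 2 = 1 := by nlinarith
      have h2 : (a χ₂ - 1) * (a χ₂ + 1) = 0 := by nlinarith
      rcases mul_eq_zero.mp h2 with h | h
      · left; omega
      · right; omega
  obtain ⟨hd0, χ₂, hχ₂ne, hXeq, hε⟩ := hkey
  have hχ₂X : χ₂ ∈ X := by rw [hXeq]; exact Set.mem_insert_of_mem _ rfl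
  set ε := a χ₂ with hεdef
  obtain ⟨n₂, hn₂pos, hn₂⟩ := IsIrrCharacter.apply_one_pos χ₂.2
  obtain ⟨k₂, hk₂⟩ := IsCharacter.apply_involution_int (IsIrrCharacter.isCharacter χ₂.2) t ht
  have hχ₂y : (χ₂ : G → ℂ) y = (ε : ℂ) := (hX χ₂ hχ₂X).2 y y hpp hyP hy1
  have hδc : (δ : ℂ) ^ 2 = 1 := by exact_mod_cast hδ2
  -- the exceptional characters on `7`-regular elements
  have hηval : ∀ η ∈ Y, ∀ g : G, ¬ 7 ∣ orderOf g →
      (η : G → ℂ) g = (δ : ℂ) * (1 + (ε : ℂ) * (χ₂ : G → ℂ) g) := by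
    intro η hη g hg
    have h1 := hrel' η hη g hg
    rw [hXeq, finsum_mem_pair hχ₂ne.symm, ha1, hd0, hχ₁] at h1
    push_cast at h1
    linear_combination (-(δ : ℂ)) * h1 - ((η : G → ℂ) g) * hδc
  set e₁ : ℤ := δ * (1 + ε * n₂) with he₁
  set eₜ : ℤ := δ * (1 + ε * k₂) with heₜ
  have hη1 : ∀ η ∈ Y, (η : G → ℂ) 1 = (e₁ : ℂ) := by
    intro η hη
    rw [hηval η hη 1 hreg1, hn₂, he₁]
    push_cast
    ring
  have hηt : ∀ η ∈ Y, (η : G → ℂ) t = (eₜ : ℂ) := by
    intro η hη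
    rw [hηval η hη t hregt, hk₂, heₜ]
    push_cast
    ring
  have he₁0 : e₁ ≠ 0 := by
    intro h
    obtain ⟨m, hm, hm1⟩ := IsIrrCharacter.apply_one_pos η₀.2
    have h1 := hη1 η₀ hη₀
    rw [hm1, h] at h1
    have : (m : ℂ) = 0 := by rw [h1]; norm_num
    have : m = 0 := by exact_mod_cast this
    omega
  -- block orthogonality: the sum of the exceptional characters at `y`
  have hpp1 : IsPPart 7 (1 : G) 1 :=
    ⟨1, mul_one 1, Commute.one_right 1, ⟨0, by rw [orderOf_one, pow_zero]⟩, hreg1⟩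
  have hppy : IsPPart 7 y⁻¹ y⁻¹ :=
    ⟨1, mul_one _, Commute.one_right _, ⟨1, by rw [orderOf_inv, hy, pow_one]⟩, hreg1⟩
  have hnc1 : ¬ IsConj (1 : G) y⁻¹ := by
    rw [isConj_one_right]
    intro h
    exact hy1 (inv_eq_one.mp h)
  have hbo := block_orthogonality hM (1 : G) y⁻¹ 1 y⁻¹ hpp1 hppy hnc1 (principalBlock M G)
    (isPBlock_principalBlock M G)
  rw [inv_inv, hB, finsum_mem_union hdisj (Set.toFinite X) (Set.toFinite Y), hXeq,
    finsum_mem_pair hχ₂ne.symm, hχ₁, hn₂, hχ₂y] at hbo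
  have hYsum1 : ∑ᶠ (η : IrrCharacter G) (_ : η ∈ Y), (η : G → ℂ) 1 * (η : G → ℂ) y =
      (e₁ : ℂ) * ∑ᶠ (η : IrrCharacter G) (_ : η ∈ Y), (η : G → ℂ) y := by
    rw [mul_finsum_mem]
    exact finsum_mem_congr rfl (fun η hη => by rw [hη1 η hη])
  rw [hYsum1] at hbo
  set Sy := ∑ᶠ (η : IrrCharacter G) (_ : η ∈ Y), (η : G → ℂ) y with hSy
  have he₁c : (e₁ : ℂ) ≠ 0 := by exact_mod_cast he₁0
  have hSyval : Sy = -(δ : ℂ) := by
    have h1 : (e₁ : ℂ) * (Sy + δ) = 0 := by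
      have e : (e₁ : ℂ) = (δ : ℂ) * (1 + (ε : ℂ) * (n₂ : ℂ)) := by rw [he₁]; push_cast; ring
      have h2 : (e₁ : ℂ) * δ = 1 + (ε : ℂ) * (n₂ : ℂ) := by
        rw [e]
        linear_combination (1 + (ε : ℂ) * (n₂ : ℂ)) * hδc
      rw [mul_add, h2]
      linear_combination hbo
    rcases mul_eq_zero.mp h1 with h | h
    · exact absurd h he₁c
    · linear_combination h
  -- the class multiplication coefficient
  letI : Fintype G := Fintype.ofFinite G
  have hCycard : Nat.card ↥(Subgroup.centralizer ({y} : Set G)) = 7 := by rw [hcy]; exact hP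
  have hKcard : Nat.card ↥(pPrimeCore 7 ↥(Subgroup.centralizer ({y} : Set G))) = 1 := by
    have h1 : (Nat.card ↥(pPrimeCore 7 ↥(Subgroup.centralizer ({y} : Set G)))).Coprime 7 :=
      Cfsg.Agent.Lib.Helper12.pPrimeCore_coprime 7
    have h2 : Nat.card ↥(pPrimeCore 7 ↥(Subgroup.centralizer ({y} : Set G))) ∣ 7 := by
      rw [← hCycard]
      exact Subgroup.card_subgroup_dvd_card _
    rcases (Nat.dvd_prime (by norm_num)).mp h2 with h | h
    · exact h
    · rw [h] at h1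
      norm_num at h1
  have hk : ∃ k : ℕ, (pPrimeCore 7 ↥(Subgroup.centralizer ({y} : Set G))).index = 7 ^ k := by
    refine ⟨1, ?_⟩
    have := Subgroup.card_mul_index (pPrimeCore 7 ↥(Subgroup.centralizer ({y} : Set G)))
    rw [hKcard, hCycard] at this
    omega
  have hps := sum_pairFun_section' hM t y ⟨1, by rw [hy, pow_one]⟩ hk
  have hKbot : pPrimeCore 7 ↥(Subgroup.centralizer ({y} : Set G)) = ⊥ :=
    Subgroup.eq_bot_of_card_eq _ hKcard
  have hlhs : ∑ᶠ n : pPrimeCore 7 ↥(Subgroup.centralizer ({y} : Set G)),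
      pairFun t (y * ((n : Subgroup.centralizer ({y} : Set G)) : G)) = pairFun t y := by
    haveI : Unique ↥(pPrimeCore 7 ↥(Subgroup.centralizer ({y} : Set G))) := by
      rw [hKbot]
      infer_instance
    rw [finsum_unique]
    have h1 : ((default : ↥(pPrimeCore 7 ↥(Subgroup.centralizer ({y} : Set G)))) :
        ↥(Subgroup.centralizer ({y} : Set G))) = 1 :=
      (Subgroup.eq_bot_iff_forall _).mp hKbot _
        (default : ↥(pPrimeCore 7 ↥(Subgroup.centralizer ({y} : Set G)))).2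
    rw [h1, Subgroup.coe_one, mul_one]
  rw [hlhs, pairFun_eq_card, card_pairs P hP hN t y ht hy hyP hPy hconjN, hKcard, hG, hB,
    finsum_mem_union hdisj (Set.toFinite X) (Set.toFinite Y), hXeq, finsum_mem_pair hχ₂ne.symm,
    hχ₁, hn₂, hχ₂y, hk₂] at hps
  have hYsum2 : ∑ᶠ (η : IrrCharacter G) (_ : η ∈ Y),
      conj ((η : G → ℂ) t) ^ 2 * (η : G → ℂ) y / (η : G → ℂ) 1 =
        ((eₜ : ℂ) ^ 2 / (e₁ : ℂ)) * Sy := by
    rw [hSy, mul_finsum_mem]
    apply finsum_mem_congr rfl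
    intro η hη
    rw [hηt η hη, hη1 η hη, map_intCast]
    ring
  rw [hYsum2, hSyval, map_intCast] at hps
  set cₜ := Nat.card ↥(Subgroup.centralizer ({t} : Set G)) with hcₜ
  have hcₜ0 : cₜ ≠ 0 := Nat.card_pos.ne'
  have hn₂c : (n₂ : ℂ) ≠ 0 := by exact_mod_cast hn₂pos.ne'
  have E : (cₜ : ℂ) ^ 2 * 7 * ((n₂ : ℂ) * e₁) =
      4032 * ((n₂ : ℂ) * e₁ + (k₂ : ℂ) ^ 2 * ε * e₁ - (eₜ : ℂ) ^ 2 * δ * n₂) := by
    have h1 : (cₜ : ℂ) ^ 2 * ((7 : ℕ) : ℂ) * ((n₂ : ℂ) * e₁) =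
        ((4032 : ℕ) : ℂ) * ((1 : ℕ) : ℂ) * ((starRingEnd ℂ) 1 ^ 2 * 1 / 1 + (k₂ : ℂ) ^ 2 * ε / n₂ +
          (eₜ : ℂ) ^ 2 / e₁ * -(δ : ℂ)) * ((n₂ : ℂ) * e₁) := by rw [hps]
    rw [map_one] at h1
    push_cast at h1
    rw [h1]
    field_simp
    ring
  have EZ : (cₜ : ℤ) ^ 2 * 7 * ((n₂ : ℤ) * e₁) =
      4032 * ((n₂ : ℤ) * e₁ + k₂ ^ 2 * ε * e₁ - eₜ ^ 2 * δ * n₂) := by exact_mod_cast E
  have h7 : 7 * ((cₜ : ℤ) ^ 2 * ((ε * n₂) * (ε * n₂ + 1))) = 7 * (24 * ((n₂ : ℤ) - k₂)) ^ 2 := by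
    rw [he₁, heₜ] at EZ
    rcases hδ with hδ' | hδ' <;> rcases hε with hε' | hε' <;> rw [hδ', hε'] at EZ <;> rw [hε']
    · linear_combination EZ
    · linear_combination (-1 : ℤ) * EZ
    · linear_combination (-1 : ℤ) * EZ
    · linear_combination EZ
  have hfin : (cₜ : ℤ) ^ 2 * ((ε * n₂) * (ε * n₂ + 1)) = (24 * ((n₂ : ℤ) - k₂)) ^ 2 :=
    mul_left_cancel₀ (by norm_num : (7 : ℤ) ≠ 0) h7
  have hF0 : ε * (n₂ : ℤ) ≠ 0 := by
    rcases hε with hε' | hε' <;> rw [hε'] <;> omega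
  have hF1 : ε * (n₂ : ℤ) ≠ -1 := by
    intro h
    apply he₁0
    rw [he₁, h]
    ring
  exact not_sq_mul (cₜ : ℤ) (ε * n₂) (24 * ((n₂ : ℤ) - k₂)) (by exact_mod_cast hcₜ0) hF0 hF1 hfin

end main

end Cfsg.Agent.Lib.Helper19.Ord4032
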