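import Mathlib
import Cfsg.Agent.Lib.Helper8.SmallSimple
import Cfsg.Agent.Lib.Helper8.SmallSimple2
import Cfsg.Agent.Lib.Helper7.SimpleTools

/-!
# Simple groups of order 5616, part A (helper19): the Sylow 13-subgroups

For a simple group `G` of order `5616 = 2^4 * 3^3 * 13` and a Sylow `13`-subgroup `P`:
`|P| = 13`, there are `144` Sylow `13`-subgroups, `C_G(P) = P` and `|N_G(P)| = 39`.

The case of `27` Sylow `13`-subgroups: `|N(P)| = 208`, so `C(P)` has even order; an involution
centralizing `P` has `1`, `14` or `27` fixed points on the `27` cosets of `N(P)`, and the number of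
moved points must be divisible by `4` (the group is simple, hence acts by even permutations).
-/

set_option autoImplicit false
set_option linter.unusedSectionVars false
set_option linter.style.haveILetI false

namespace Cfsg.Agent.Lib.Helper19.L33

open MulAction Cfsg.Agent.Lib.Helper8.SmallSimple Cfsg.Agent.Lib.Helper8.SmallSimple2

variable {G : Type*} [Group G] [Finite G]

theorem not_comm_of_card [IsSimpleGroup G] (hG : Nat.card G = 5616) : ¬ IsMulCommutative G := by
  apply Cfsg.Agent.Lib.Helper7.not_comm_of_card_not_prime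
  rw [hG]; norm_num

/-- an element of order 2 in a subgroup of even order -/
theorem exists_invol_mem (K : Subgroup G) (h : 2 ∣ Nat.card ↥K) : ∃ t ∈ K, orderOf t = 2 := by
  haveI : Fact (Nat.Prime 2) := ⟨Nat.prime_two⟩
  obtain ⟨x, hx⟩ := exists_prime_orderOf_dvd_card' (G := ↥K) 2 h
  exact ⟨(x : G), x.2, by rw [Subgroup.orderOf_coe]; exact hx⟩

/-- **Sylow 13 data** in a simple group of order `5616` -/
theorem sylow13_data [IsSimpleGroup G] (hG : Nat.card G = 5616) [Fact (Nat.Prime 13)]
    (P : Sylow 13 G) :
    Nat.card ↥(P : Subgroup G) = 13 ∧ Nat.card (Sylow 13 G) = 144 ∧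
      Nat.card ↥(Subgroup.normalizer ((P : Subgroup G) : Set G)) = 39 ∧
      Nat.card ↥(Subgroup.centralizer ((P : Subgroup G) : Set G)) = 13 ∧
      (Subgroup.normalizer ((P : Subgroup G) : Set G)).index = 144 := by
  have hnc := not_comm_of_card hG
  have hG' : Nat.card G = 13 * 432 := by rw [hG]
  obtain ⟨hP, n, k, c, r, hn, hN, hC, hr, hnk, hcr, hmod, hn1, hrd, hr1, hidx, -⟩ :=
    sylow_prime_data hnc hG' (by norm_num) P
  have hnd : n ∣ 432 := ⟨k, hnk.symm⟩
  have hnle : n ≤ 432 := Nat.le_of_dvd (by norm_num) hnd
  have hrle : r ≤ 12 := Nat.le_of_dvd (by norm_num) hrd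
  -- the possible numbers of Sylow subgroups
  have hcases : n = 27 ∨ n = 144 := by
    clear hidx hn
    interval_cases n <;> first | omega | (exfalso; revert hnd; decide)
  rcases hcases with h27 | h144
  · -- 27 Sylow subgroups: impossible
    exfalso
    subst h27
    have hk : k = 16 := by omega
    subst hk
    have hc2 : 2 ∣ c := by
      clear hr hidx
      interval_cases r <;> first | omega | (exfalso; revert hrd; decide)
    have h2C : 2 ∣ Nat.card ↥(Subgroup.centralizer ((P : Subgroup G) : Set G)) := by
      rw [hC]; exact Dvd.dvd.mul_left hc2 13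
    obtain ⟨u, huC, hu⟩ := exists_invol_mem _ h2C
    have hNtop : Subgroup.normalizer ((P : Subgroup G) : Set G) ≠ ⊤ := by
      intro h
      rw [h, Subgroup.index_top] at hidx
      omega
    obtain ⟨h1, ⟨s, ⟨j, hj⟩, hs⟩, h3⟩ :=
      invol_fix_data (by rw [hG]; norm_num) P hP hNtop u huC hu
    rw [hidx] at hs h3
    omega
  · subst h144
    have hk : k = 3 := by omega
    subst hk
    have hc1 : c = 1 := by
      clear hr hidx
      interval_cases r <;> first | omega | (exfalso; revert hrd; decide)
    subst hc1
    exact ⟨hP, hn, by rw [hN], by rw [hC], hidx⟩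

end Cfsg.Agent.Lib.Helper19.L33
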