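import Mathlib
import Cfsg.Agent.Lib.Helper19.Ord4032D
import Cfsg.Agent.Lib.Helper12.BSFDeg
import Cfsg.Agent.Lib.Lead.KGVRegular

/-!
# No simple group of order 1008 (helper19)

`1008 = 2^4 * 3^2 * 7`.  The number of Sylow `7`-subgroups is `8` or `36`.
* `8`: `|N(P)| = 126`, so `C(P)` contains an involution or an element of order `3`; both are killed by
  counting fixed points on the `8` cosets of `N(P)`.
* `36`: `|N(P)| = 28`, `C(P)` is cyclic of order `14`; its involution `t` has `C(t) = N(P)`.  The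
  Brauer–Leonard description of the principal `7`-block (`[N(P) : C(P)] = 2`) gives a non-exceptional
  character `χ₂` which is constant `ε = ± 1` on the elements whose `7`-part is a non-identity element of
  `P`; the degrees dividing `1008` force `χ₂ 1 = 8`, `ε = 1`.  Summing `χ₂` over `C(P)` gives
  `χ₂ t ≡ -6 (mod 14)`, against `1 + (χ₂ t)² ≤ |C(t)| = 28`.
-/

set_option autoImplicit false
set_option linter.unusedSectionVars false
set_option linter.style.haveILetI false

namespace Cfsg.Agent.Lib.Helper19.Ord1008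

open MulAction Cfsg Cfsg.Agent.Lib.Helper8.SmallSimple Cfsg.Agent.Lib.Helper8.SmallSimple2
  Cfsg.Agent.Lib.Helper7 Cfsg.Agent.Lib.Helper6 Cfsg.Agent.CharLib Cfsg.Agent.Lib.Helper19.Ord4032
open scoped ComplexConjugate

universe u

variable {G : Type u} [Group G] [Finite G]

/-- a `p`-element centralizing a Sylow `p`-subgroup lies in it -/
theorem mem_sylow_of_mem_centralizer {p : ℕ} [Fact p.Prime] (P : Sylow p G) (x : G)
    (hx : x ∈ Subgroup.centralizer ((P : Subgroup G) : Set G))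
    (hp : IsPGroup p (Subgroup.zpowers x)) : x ∈ (P : Subgroup G) := by
  have hle : Subgroup.zpowers x ≤ Subgroup.normalizer ((P : Subgroup G) : Set G) := by
    rw [Subgroup.zpowers_le]
    exact Subgroup.centralizer_le_normalizer _ hx
  have hsup : IsPGroup p (Subgroup.zpowers x ⊔ (P : Subgroup G) : Subgroup G) :=
    IsPGroup.to_sup_of_normal_right' hp P.2 hle
  have h := P.is_maximal' hsup le_sup_right
  rw [← h]
  exact (le_sup_left : Subgroup.zpowers x ≤ _) (Subgroup.mem_zpowers x)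

/-- the case of `8` Sylow `7`-subgroups, with `3 ∣ |C(P)|` -/
theorem case8_three [IsSimpleGroup G] [Fact (Nat.Prime 7)] (P : Sylow 7 G)
    (hP : Nat.card ↥(P : Subgroup G) = 7)
    (hidx : (Subgroup.normalizer ((P : Subgroup G) : Set G)).index = 8)
    (h3 : 3 ∣ Nat.card ↥(Subgroup.centralizer ((P : Subgroup G) : Set G))) : False := by
  haveI : Fact (Nat.Prime 3) := ⟨by norm_num⟩
  set N := Subgroup.normalizer ((P : Subgroup G) : Set G) with hN
  have hNtop : N ≠ ⊤ := by
    intro h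
    rw [h, Subgroup.index_top] at hidx
    omega
  have hcardX : Nat.card (G ⧸ N) = 8 := hidx
  obtain ⟨g, hgC, hg⟩ := exists_prime_order_mem _ 3 h3
  have h7 := card_fixedBy_modEq_one P hP g hgC
  rw [← hN] at h7
  have hgp : IsPGroup 3 (Subgroup.zpowers g) := by
    apply IsPGroup.of_card (n := 1)
    rw [Nat.card_zpowers, hg, pow_one]
  have h3' := card_modEq_card_fixedBy (X := G ⧸ N) g hgp
  rw [hcardX] at h3'
  have hle : Nat.card (fixedBy (G ⧸ N) g) ≤ 8 := by
    rw [← hcardX]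
    exact Nat.card_le_card_of_injective _ Subtype.val_injective
  have hne : Nat.card (fixedBy (G ⧸ N) g) ≠ 8 := by
    intro h
    have hg1 : g = 1 := by
      apply eq_one_of_smul_eq N hNtop
      apply smul_eq_of_card_fixedBy
      rw [h, hcardX]
    rw [hg1, orderOf_one] at hg
    omega
  unfold Nat.ModEq at h7 h3'
  omega

/-- the centralizer of the involution of `C(P)` is `N(P)` (`36` Sylow `7`-subgroups) -/
theorem card_centralizer_invol [IsSimpleGroup G] (hG : Nat.card G = 1008)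
    [Fact (Nat.Prime 7)] (P : Sylow 7 G) (hP : Nat.card ↥(P : Subgroup G) = 7)
    (hNc : Nat.card ↥(Subgroup.normalizer ((P : Subgroup G) : Set G)) = 28)
    (hCc : Nat.card ↥(Subgroup.centralizer ((P : Subgroup G) : Set G)) = 14)
    (t : G) (htC : t ∈ Subgroup.centralizer ((P : Subgroup G) : Set G)) (ht : orderOf t = 2) :
    Nat.card ↥(Subgroup.centralizer ({t} : Set G)) = 28 := by
  set N := Subgroup.normalizer ((P : Subgroup G) : Set G) with hN
  set C := Subgroup.centralizer ((P : Subgroup G) : Set G) with hC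
  have hG2 : 2 < Nat.card G := by rw [hG]; norm_num
  have hidx : N.index = 36 := by
    have := N.card_mul_index
    rw [hNc, hG] at this
    omega
  have hNtop : N ≠ ⊤ := by
    intro h
    rw [h, Subgroup.index_top] at hidx
    omega
  have huniq : ∀ s ∈ C, orderOf s = 2 → s = t := fun s hs hs2 =>
    invol_unique_of_card (p := 7) (by norm_num) (P : Subgroup G) hP (by rw [← hC, hCc]) s t hs htC
      hs2 ht
  set M := Subgroup.centralizer ({t} : Set G) with hMdef
  have hNM : N ≤ M := by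
    intro n hn
    have h1 : n * t * n⁻¹ ∈ C := conj_mem_centralizer_of_mem_normalizer (P : Subgroup G) hn htC
    have h2 : orderOf (n * t * n⁻¹) = 2 := by
      have := MulEquiv.orderOf_eq (MulAut.conj n) t
      rw [MulAut.conj_apply] at this
      rw [this, ht]
    have h3 := huniq _ h1 h2
    rw [hMdef, Subgroup.mem_centralizer_singleton_iff]
    calc n * t = n * t * n⁻¹ * n := by group
      _ = t * n := by rw [h3]
  have hPM : (P : Subgroup G) ≤ M := (Subgroup.le_normalizer (H := (P : Subgroup G))).trans hNM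
  have hcount := card_sylow_subgroup_mul P M hPM
  rw [← hN, inf_eq_left.mpr hNM, hNc] at hcount
  have hmodM : Nat.card (Sylow 7 ↥M) % 7 = 1 := by
    have := card_sylow_modEq_one 7 ↥M
    unfold Nat.ModEq at this
    omega
  have hMdvd : Nat.card ↥M ∣ 1008 := by
    rw [← hG]; exact Subgroup.card_subgroup_dvd_card M
  obtain ⟨h1, ⟨s, ⟨k, hk⟩, hs⟩, h3⟩ := invol_fix_data hG2 P hP hNtop t htC ht
  rw [← hN, hidx] at hs h3
  rw [← hN] at h1
  have hf : Nat.card (fixedBy (G ⧸ N) t) = 8 := by omega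
  have hformula := card_fixedBy_mul_card N t
  rw [hf, hNc, ← hMdef] at hformula
  have hMdvd2 : Nat.card ↥M ∣ 8 * 28 := by rw [hformula]; exact dvd_mul_left _ _
  have hfin : ∀ a : ℕ, a ≤ 8 → (a * 28) ∣ 8 * 28 → (a * 28) ∣ 1008 → a % 7 = 1 → a = 1 := by
    intro a ha h1 h2 h3
    interval_cases a <;> first | rfl | omega | (exfalso; revert h1 h2; decide)
  have hMle : Nat.card ↥M ≤ 224 := Nat.le_of_dvd (by norm_num) hMdvd2
  have ha1 : Nat.card (Sylow 7 ↥M) = 1 := by
    apply hfin _ (by omega) _ _ hmodM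
    · rw [hcount]; exact hMdvd2
    · rw [hcount]; exact hMdvd
  rw [ha1, one_mul] at hcount
  exact hcount.symm

/-- the elements of `C(P)` other than `1` and the involution have a non-identity `7`-part in `P` -/
theorem ppart_of_mem_centralizer [Fact (Nat.Prime 7)] (P : Sylow 7 G)
    (hP : Nat.card ↥(P : Subgroup G) = 7)
    (hCc : Nat.card ↥(Subgroup.centralizer ((P : Subgroup G) : Set G)) = 14)
    (t : G) (htC : t ∈ Subgroup.centralizer ((P : Subgroup G) : Set G)) (ht : orderOf t = 2)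
    (c : G) (hc : c ∈ Subgroup.centralizer ((P : Subgroup G) : Set G)) (hc1 : c ≠ 1)
    (hct : c ≠ t) : ∃ y : G, y ∈ (P : Subgroup G) ∧ y ≠ 1 ∧ IsPPart 7 c y := by
  set C := Subgroup.centralizer ((P : Subgroup G) : Set G) with hC
  have hc14 : c ^ 14 = 1 := by
    have h := pow_card_eq_one' (G := ↥C) (x := ⟨c, hc⟩)
    rw [hCc] at h
    have h' := congrArg (fun w : ↥C => (w : G)) h
    simpa using h'
  have h87 : (c ^ 8) ^ 7 = 1 := by
    rw [← pow_mul, show 8 * 7 = 14 * 4 from rfl, pow_mul, hc14, one_pow]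
  have hd8 : orderOf (c ^ 8) ∣ 7 := orderOf_dvd_of_pow_eq_one h87
  have hcases : orderOf (c ^ 8) = 1 ∨ orderOf (c ^ 8) = 7 :=
    (Nat.dvd_prime (by norm_num : Nat.Prime 7)).mp hd8
  refine ⟨c ^ 8, ?_, ?_, c ^ 7, ?_, ?_, ?_, ?_⟩
  · apply mem_sylow_of_mem_centralizer P _ (C.pow_mem hc 8)
    rcases hcases with h | h
    · apply IsPGroup.of_card (n := 0)
      rw [Nat.card_zpowers, h, pow_zero]
    · apply IsPGroup.of_card (n := 1)
      rw [Nat.card_zpowers, h, pow_one]
  · intro h8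
    have h16 : c ^ 16 = 1 := by rw [show 16 = 8 * 2 from rfl, pow_mul, h8, one_pow]
    have h2 : c ^ 2 = 1 := by
      have e : c ^ 16 = c ^ 14 * c ^ 2 := by rw [← pow_add]
      rw [h16, hc14, one_mul] at e
      exact e.symm
    have ho : orderOf c = 2 := orderOf_eq_prime h2 hc1
    exact hct (invol_unique_of_card (p := 7) (by norm_num) (P : Subgroup G) hP
      (by rw [← hC, hCc]) c t hc htC ho ht)
  · rw [← pow_add, show 8 + 7 = 14 + 1 from rfl, pow_add, hc14, one_mul, pow_one]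
  · exact (Commute.refl c).pow_pow 8 7
  · rcases hcases with h | h
    · exact ⟨0, by rw [h, pow_zero]⟩
    · exact ⟨1, by rw [h, pow_one]⟩
  · intro h7
    have h72 : (c ^ 7) ^ 2 = 1 := by rw [← pow_mul]; exact hc14
    have hd : orderOf (c ^ 7) ∣ 2 := orderOf_dvd_of_pow_eq_one h72
    have := Nat.le_of_dvd (by norm_num) (Nat.dvd_trans h7 hd)
    omega

/-- a function constant off one point: its sum -/
theorem sum_const_except_one {α : Type*} [Fintype α] [DecidableEq α] (f : α → ℂ) (a : α) (e : ℂ)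
    (h : ∀ x, x ≠ a → f x = e) : ∑ x, f x = (Fintype.card α : ℂ) * e + (f a - e) := by
  have h1 : ∀ x, f x = e + (if x = a then f a - e else 0) := by
    intro x
    by_cases hx : x = a
    · rw [if_pos hx, hx]; ring
    · rw [if_neg hx, h x hx, add_zero]
  rw [Finset.sum_congr rfl (fun x _ => h1 x), Finset.sum_add_distrib, Finset.sum_ite_eq']
  simp only [Finset.sum_const, Finset.card_univ, nsmul_eq_mul, Finset.mem_univ, if_true]

/-- a function constant off two points: its sum -/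
theorem sum_const_except_two {α : Type*} [Fintype α] [DecidableEq α] (f : α → ℂ) (a b : α)
    (hab : a ≠ b) (e : ℂ) (h : ∀ x, x ≠ a → x ≠ b → f x = e) :
    ∑ x, f x = (Fintype.card α : ℂ) * e + (f a - e) + (f b - e) := by
  have h1 : ∀ x, f x = e + (if x = a then f a - e else 0) + (if x = b then f b - e else 0) := by
    intro x
    by_cases hx : x = a
    · rw [if_pos hx, if_neg (by rw [hx]; exact hab), hx]; ring
    · by_cases hx' : x = b
      · rw [if_neg hx, if_pos hx', hx']; ring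
      · rw [if_neg hx, if_neg hx', h x hx hx', add_zero, add_zero]
  rw [Finset.sum_congr rfl (fun x _ => h1 x), Finset.sum_add_distrib, Finset.sum_add_distrib,
    Finset.sum_ite_eq', Finset.sum_ite_eq']
  simp only [Finset.sum_const, Finset.card_univ, nsmul_eq_mul, Finset.mem_univ, if_true]

/-- the Brauer–Leonard description of the principal `7`-block when `[N(P) : C(P)] = 2` -/
theorem bl_extract [Fact (Nat.Prime 7)] (P : Sylow 7 G)
    (hP : Nat.card ↥(P : Subgroup G) = 7)
    (hr : (Subgroup.centralizer ((P : Subgroup G) : Set G)).relIndex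
      (Subgroup.normalizer ((P : Subgroup G) : Set G)) = 2) :
    ∃ (χ₁ χ₂ η : IrrCharacter G) (ε δ : ℤ), (χ₁ : G → ℂ) = (fun _ => 1) ∧ χ₂ ≠ χ₁ ∧
      (ε = 1 ∨ ε = -1) ∧ (δ = 1 ∨ δ = -1) ∧
      (∀ z y : G, IsPPart 7 z y → y ∈ (P : Subgroup G) → y ≠ 1 → (χ₂ : G → ℂ) z = (ε : ℂ)) ∧
      (η : G → ℂ) 1 = (δ : ℂ) * (1 + (ε : ℂ) * (χ₂ : G → ℂ) 1) := by
  classical
  set N := Subgroup.normalizer ((P : Subgroup G) : Set G) with hNdef
  set C := Subgroup.centralizer ((P : Subgroup G) : Set G) with hCdef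
  have hCN : C ≤ N := Subgroup.centralizer_le_normalizer _
  have hab : IsMulCommutative ↥P := by
    have hcyc : IsCyclic ↥(P : Subgroup G) := isCyclic_of_prime_card hP
    exact IsCyclic.isMulCommutative
  have hcyc := Cfsg.Agent.Lib.Helper12.BSF.exists_cyc_of_relIndex_prime C N hCN 2 Nat.prime_two hr
  have hfrob : ∀ y : G, y ∈ (P : Subgroup G) → y ≠ 1 →
      Subgroup.centralizer ({y} : Set G) ⊓ N = C := by
    intro y' hy'P hy'1
    have hzy : Subgroup.zpowers y' = (P : Subgroup G) := by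
      apply Subgroup.eq_of_le_of_card_ge
      · rw [Subgroup.zpowers_le]; exact hy'P
      · rw [hP, Nat.card_zpowers]
        have h1 := orderOf_dvd_natCard (⟨y', hy'P⟩ : ↥(P : Subgroup G))
        rw [hP, Subgroup.orderOf_mk] at h1
        rcases (Nat.dvd_prime (by norm_num : Nat.Prime 7)).mp h1 with h | h
        · exact absurd (orderOf_eq_one_iff.mp h) hy'1
        · rw [h]
    rw [← centralizer_zpowers_eq', hzy]
    exact inf_eq_left.mpr hCN
  obtain ⟨y, hyP, hy⟩ := exists_prime_order_mem (P : Subgroup G) 7 (by rw [hP])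
  obtain ⟨M, hM⟩ := exists_isPModular 7
  have hcardP : Nat.card P = 7 := hP
  obtain ⟨s, X, Y, hs, hB, hdisj, hXc, hYc, ⟨χ₁, hχ₁X, hχ₁⟩, a, d, δ, ζ, hδ, hX, -, -, -, -, heq,
    hYreg, hrel⟩ := brauer_leonard_main 7 M hM P hab 2 (by norm_num) (by rw [hcardP]; norm_num) hr
      hcyc hfrob
  rw [hcardP] at hYc heq hrel
  have heq' : (d - δ) ^ 2 + 2 * d ^ 2 + ∑ᶠ (χ : IrrCharacter G) (_ : χ ∈ X), a χ ^ 2 = 3 := by
    have e : (((7 : ℕ) : ℤ) - 1) / ((2 : ℕ) : ℤ) - 1 = 2 := by norm_num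
    rw [e] at heq
    push_cast at heq
    linarith
  have hYc' : Y.ncard = 3 := by rw [← Nat.card_coe_set_eq, hYc]
  have hrel' : ∀ η ∈ Y, ∀ g : G, ¬ 7 ∣ orderOf g →
      ((3 : ℂ) * d - δ) * (η : G → ℂ) g +
        ∑ᶠ (χ : IrrCharacter G) (_ : χ ∈ X), (a χ : ℂ) * (χ : G → ℂ) g = 0 := by
    intro η hη g hg
    have := hrel η hη g hg
    have e : (((7 - 1) / 2 : ℕ) : ℂ) = 3 := by norm_num
    rw [e] at this
    exact this
  have hy1 : y ≠ 1 := by
    intro h
    rw [h, orderOf_one] at hy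
    omega
  have hpp : IsPPart 7 y y :=
    ⟨1, mul_one y, Commute.one_right y, ⟨1, by rw [hy, pow_one]⟩, by rw [orderOf_one]; norm_num⟩
  have ha1 : a χ₁ = 1 := by
    have h1 := (hX χ₁ hχ₁X).2 y y hpp hyP hy1
    rw [hχ₁] at h1
    have h2 : ((a χ₁ : ℤ) : ℂ) = ((1 : ℤ) : ℂ) := by rw [← h1]; norm_num
    exact_mod_cast h2
  obtain ⟨η₀, hη₀⟩ := Set.nonempty_of_ncard_ne_zero (by rw [hYc']; norm_num : Y.ncard ≠ 0)
  have hreg1 : ¬ 7 ∣ orderOf (1 : G) := by rw [orderOf_one]; norm_num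
  have hXn : X.ncard = s := by rw [← Nat.card_coe_set_eq, hXc]
  have hs1 : 1 ≤ s := by
    rw [← hXn]
    exact (Set.ncard_pos (Set.toFinite X)).mpr ⟨χ₁, hχ₁X⟩
  have hδ2 : δ ^ 2 = 1 := by rcases hδ with h | h <;> rw [h] <;> norm_num
  -- the set `X` has two elements and `d = 0`
  have hkey : d = 0 ∧ ∃ χ₂ : IrrCharacter G, χ₂ ≠ χ₁ ∧ X = {χ₁, χ₂} ∧ (a χ₂ = 1 ∨ a χ₂ = -1) := by
    have hs12 : s = 1 ∨ s = 2 := by omega
    rcases hs12 with hs1' | hs2
    · exfalso
      rw [hs1'] at hXn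
      obtain ⟨x, hx⟩ := Set.ncard_eq_one.mp hXn
      have hx1 : χ₁ = x := by
        have : χ₁ ∈ ({x} : Set (IrrCharacter G)) := by rw [← hx]; exact hχ₁X
        exact this
      rw [← hx1] at hx
      rw [hx, finsum_mem_singleton, ha1] at heq'
      have hdδ : d = δ := by
        rcases hδ with h | h
        · rw [h] at heq' ⊢
          have h1 : d ^ 2 ≤ 1 := by nlinarith [sq_nonneg (d - 1)]
          have h2 : -1 ≤ d := by nlinarith
          have h3 : d ≤ 1 := by nlinarith
          interval_cases d <;> simp_all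
        · rw [h] at heq' ⊢
          have h1 : d ^ 2 ≤ 1 := by nlinarith [sq_nonneg (d - -1)]
          have h2 : -1 ≤ d := by nlinarith
          have h3 : d ≤ 1 := by nlinarith
          interval_cases d <;> simp_all
      have h4 := hrel' η₀ hη₀ 1 hreg1
      rw [hx, finsum_mem_singleton, ha1, hdδ, hχ₁] at h4
      obtain ⟨n, hn, hn1⟩ := IsIrrCharacter.apply_one_pos η₀.2
      rw [hn1] at h4
      have h5 : ((2 * δ * n + 1 : ℤ) : ℂ) = ((0 : ℤ) : ℂ) := by
        push_cast
        linear_combination h4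
      have h6 : 2 * δ * n + 1 = 0 := by exact_mod_cast h5
      rcases hδ with h | h <;> rw [h] at h6 <;> omega
    · rw [hs2] at hXn
      obtain ⟨x, x', hne, hxx⟩ := Set.ncard_eq_two.mp hXn
      have hmem : χ₁ ∈ ({x, x'} : Set (IrrCharacter G)) := by rw [← hxx]; exact hχ₁X
      have hex : ∃ χ₂ : IrrCharacter G, χ₂ ≠ χ₁ ∧ X = {χ₁, χ₂} := by
        rcases hmem with h | h
        · exact ⟨x', by rw [h]; exact hne.symm, by rw [hxx, h]⟩
        · have h' : χ₁ = x' := h
          exact ⟨x, by rw [h']; exact hne, by rw [hxx, h', Set.pair_comm]⟩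
      obtain ⟨χ₂, hχ₂ne, hXeq⟩ := hex
      have ha2 : a χ₂ ≠ 0 := (hX χ₂ (by rw [hXeq]; exact Set.mem_insert_of_mem _ rfl)).1
      rw [hXeq, finsum_mem_pair hχ₂ne.symm, ha1] at heq'
      have hpos : 1 ≤ a χ₂ ^ 2 := by
        have : 0 < a χ₂ ^ 2 := by positivity
        omega
      have hd0 : d = 0 := by
        by_contra hd
        have : 1 ≤ d ^ 2 := by
          have : 0 < d ^ 2 := by positivity
          omega
        nlinarith [sq_nonneg (d - δ)]
      refine ⟨hd0, χ₂, hχ₂ne, hXeq, ?_⟩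
      rw [hd0] at heq'
      have h1 : a χ₂ ^ 2 = 1 := by nlinarith
      have h2 : (a χ₂ - 1) * (a χ₂ + 1) = 0 := by nlinarith
      rcases mul_eq_zero.mp h2 with h | h
      · left; omega
      · right; omega
  obtain ⟨hd0, χ₂, hχ₂ne, hXeq, hε⟩ := hkey
  have hχ₂X : χ₂ ∈ X := by rw [hXeq]; exact Set.mem_insert_of_mem _ rfl
  have hδc : (δ : ℂ) ^ 2 = 1 := by exact_mod_cast hδ2
  refine ⟨χ₁, χ₂, η₀, a χ₂, δ, hχ₁, hχ₂ne, hε, hδ, (hX χ₂ hχ₂X).2, ?_⟩
  have h1 := hrel' η₀ hη₀ 1 hreg1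
  rw [hXeq, finsum_mem_pair hχ₂ne.symm, ha1, hd0, hχ₁] at h1
  push_cast at h1
  linear_combination (-(δ : ℂ)) * h1 - ((η₀ : G → ℂ) 1) * hδc

set_option maxRecDepth 100000 in
theorem arith_pos : ∀ n < 1009, 1008 % n = 0 → n % 7 = 1 → 1008 % (n + 1) = 0 → n = 1 ∨ n = 8 := by
  decide

set_option maxRecDepth 100000 in
theorem arith_neg : ∀ n < 1009, 1008 % n = 0 → n % 7 = 6 → 1008 % (n - 1) = 0 → False := by
  decide

/-- the case of `36` Sylow `7`-subgroups -/
theorem case36 [IsSimpleGroup G] (hnc : ¬ IsMulCommutative G) (hG : Nat.card G = 1008)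
    [Fact (Nat.Prime 7)] (P : Sylow 7 G) (hP : Nat.card ↥(P : Subgroup G) = 7)
    (hNc : Nat.card ↥(Subgroup.normalizer ((P : Subgroup G) : Set G)) = 28)
    (hCc : Nat.card ↥(Subgroup.centralizer ((P : Subgroup G) : Set G)) = 14)
    (hr : (Subgroup.centralizer ((P : Subgroup G) : Set G)).relIndex
      (Subgroup.normalizer ((P : Subgroup G) : Set G)) = 2) : False := by
  classical
  set C := Subgroup.centralizer ((P : Subgroup G) : Set G) with hCdef
  obtain ⟨t, htC, ht⟩ := exists_invol_mem C (by rw [hCc]; norm_num)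
  have hM := card_centralizer_invol hG P hP hNc hCc t htC ht
  obtain ⟨χ₁, χ₂, η, ε, δ, hχ₁, hχ₂ne, hε, hδ, hval, hη⟩ := bl_extract P hP hr
  obtain ⟨n₂, hn₂pos, hn₂⟩ := IsIrrCharacter.apply_one_pos χ₂.2
  obtain ⟨e, hepos, he⟩ := IsIrrCharacter.apply_one_pos η.2
  obtain ⟨k₂, hk₂⟩ := IsCharacter.apply_involution_int (IsIrrCharacter.isCharacter χ₂.2) t ht
  have ht1 : t ≠ 1 := by
    intro h
    rw [h, orderOf_one] at ht
    omega
  -- the degrees divide the group order
  have hn₂d : n₂ ∣ 1008 := by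
    have h1 := Cfsg.Agent.Lib.Helper24.irr_charDegree_dvd_card χ₂
    have h2 := Cfsg.Agent.Lib.Helper24.irr_apply_one χ₂
    rw [hn₂] at h2
    have h3 : n₂ = charDegree (χ₂ : G → ℂ) := by exact_mod_cast h2
    rw [← h3, hG] at h1
    exact h1
  have hed : e ∣ 1008 := by
    have h1 := Cfsg.Agent.Lib.Helper24.irr_charDegree_dvd_card η
    have h2 := Cfsg.Agent.Lib.Helper24.irr_apply_one η
    rw [he] at h2
    have h3 : e = charDegree (η : G → ℂ) := by exact_mod_cast h2
    rw [← h3, hG] at h1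
    exact h1
  have heZ : (e : ℤ) = δ * (1 + ε * n₂) := by
    rw [he, hn₂] at hη
    exact_mod_cast hη
  -- `χ₂` is not linear
  have hn₂1 : n₂ ≠ 1 := by
    intro h
    apply hχ₂ne
    have h2 := Cfsg.Agent.Lib.Helper24.irr_apply_one χ₂
    rw [hn₂, h] at h2
    have h3 : charDegree (χ₂ : G → ℂ) = 1 := by exact_mod_cast h2.symm
    have h4 := Cfsg.Agent.Lib.Helper12.BSF.eq_one_of_charDegree_one
      (Cfsg.Agent.Lib.Helper12.BSF.commutator_eq_top_of_simple hnc) χ₂ h3
    exact Subtype.ext (h4.trans hχ₁.symm)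
  -- the sum of `χ₂` over `P`
  letI : Fintype ↥(P : Subgroup G) := Fintype.ofFinite _
  letI : Fintype ↥C := Fintype.ofFinite _
  have hcardP : Fintype.card ↥(P : Subgroup G) = 7 := by rw [← Nat.card_eq_fintype_card]; exact hP
  have hcardC : Fintype.card ↥C = 14 := by rw [← Nat.card_eq_fintype_card]; exact hCc
  obtain ⟨m₁, hm₁⟩ := Cfsg.Agent.Lib.Helper12.BSF.sum_subgroup_irr (P : Subgroup G) χ₂
  have hsumP := sum_const_except_one (fun y : ↥(P : Subgroup G) => (χ₂ : G → ℂ) (y : G)) 1 (ε : ℂ)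
    (by
      intro y hy
      have hy1 : (y : G) ≠ 1 := fun h => hy (Subtype.ext h)
      have hord : orderOf (y : G) = 7 :=
        Cfsg.Agent.Lib.Helper12.BSF.orderOf_eq_of_card_prime 7 (P : Subgroup G) hP (y : G) y.2 hy1
      exact hval (y : G) (y : G) ⟨1, mul_one _, Commute.one_right _, ⟨1, by rw [hord, pow_one]⟩,
        by rw [orderOf_one]; norm_num⟩ y.2 hy1)
  simp only [Subgroup.coe_one] at hsumP
  rw [hm₁, hcardP, hn₂] at hsumP
  have hH1 : 7 * (m₁ : ℤ) = 7 * ε + (n₂ - ε) := by exact_mod_cast hsumP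
  -- the sum of `χ₂` over `C`
  obtain ⟨m₂, hm₂⟩ := Cfsg.Agent.Lib.Helper12.BSF.sum_subgroup_irr C χ₂
  have hsumC := sum_const_except_two (fun c : ↥C => (χ₂ : G → ℂ) (c : G)) 1 ⟨t, htC⟩
    (by
      intro h
      exact ht1 (congrArg (fun w : ↥C => (w : G)) h).symm) (ε : ℂ)
    (by
      intro c hc1 hct
      have hc1' : (c : G) ≠ 1 := fun h => hc1 (Subtype.ext h)
      have hct' : (c : G) ≠ t := fun h => hct (Subtype.ext h)
      obtain ⟨y, hyP, hy1, hpp⟩ := ppart_of_mem_centralizer P hP hCc t htC ht (c : G) c.2 hc1' hct'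
      exact hval (c : G) y hpp hyP hy1)
  simp only [Subgroup.coe_one] at hsumC
  rw [hm₂, hcardC, hn₂, hk₂] at hsumC
  have hH2 : 14 * (m₂ : ℤ) = 14 * ε + (n₂ - ε) + (k₂ - ε) := by exact_mod_cast hsumC
  -- column orthogonality at `t`
  letI : Fintype G := Fintype.ofFinite G
  letI : Fintype (IrrCharacter G) := fintypeIrr G
  have hcol := sum_irr_normSq (G := G) t
  rw [hM] at hcol
  have hle : ∑ χ ∈ ({χ₁, χ₂} : Finset (IrrCharacter G)), ‖(χ : G → ℂ) t‖ ^ 2 ≤
      ∑ χ : IrrCharacter G, ‖(χ : G → ℂ) t‖ ^ 2 :=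
    Finset.sum_le_sum_of_subset_of_nonneg (Finset.subset_univ _) (fun _ _ _ => sq_nonneg _)
  rw [hcol, Finset.sum_pair hχ₂ne.symm, hχ₁, hk₂] at hle
  have hH4 : 1 + k₂ ^ 2 ≤ 28 := by
    have h1 : ‖(1 : ℂ)‖ ^ 2 + ‖(k₂ : ℂ)‖ ^ 2 = ((1 + k₂ ^ 2 : ℤ) : ℝ) := by
      rw [norm_one, Complex.norm_intCast]
      push_cast
      rw [sq_abs]
      ring
    have hle' : ‖(1 : ℂ)‖ ^ 2 + ‖(k₂ : ℂ)‖ ^ 2 ≤ ((28 : ℕ) : ℝ) := hle
    rw [h1] at hle'
    exact_mod_cast hle'
  have hk₂lo : -5 ≤ k₂ := by nlinarith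
  have hk₂hi : k₂ ≤ 5 := by nlinarith
  -- arithmetic
  have hn₂le : n₂ < 1009 := by
    have := Nat.le_of_dvd (by norm_num) hn₂d
    omega
  have hn₂m : 1008 % n₂ = 0 := Nat.mod_eq_zero_of_dvd hn₂d
  rcases hε with hε1 | hε1
  · rw [hε1] at heZ hH1 hH2
    have hmod : n₂ % 7 = 1 := by omega
    have hδ1 : δ = 1 := by
      rcases hδ with h | h
      · exact h
      · rw [h] at heZ
        have : (0 : ℤ) < e := by exact_mod_cast hepos
        have : (0 : ℤ) < n₂ := by exact_mod_cast hn₂pos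
        omega
    rw [hδ1] at heZ
    have hen : e = n₂ + 1 := by omega
    rw [hen] at hed
    rcases arith_pos n₂ hn₂le hn₂m hmod (Nat.mod_eq_zero_of_dvd hed) with h | h
    · exact hn₂1 h
    · rw [h] at hH2
      push_cast at hH2
      omega
  · rw [hε1] at heZ hH1 hH2
    have hmod : n₂ % 7 = 6 := by omega
    have hn6 : 6 ≤ n₂ := by omega
    have hδ1 : δ = -1 := by
      rcases hδ with h | h
      · rw [h] at heZ
        have : (0 : ℤ) < e := by exact_mod_cast hepos
        have : (6 : ℤ) ≤ n₂ := by exact_mod_cast hn6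
        omega
      · exact h
    rw [hδ1] at heZ
    have hen : e = n₂ - 1 := by omega
    rw [hen] at hed
    exact arith_neg n₂ hn₂le hn₂m hmod (Nat.mod_eq_zero_of_dvd hed)

/-- **No simple group has order `1008 = 2^4 * 3^2 * 7`.** -/
theorem no_simple_1008 {G : Type*} [Group G] [Finite G] [IsSimpleGroup G] : Nat.card G ≠ 1008 := by
  intro hG
  have hnc : ¬ IsMulCommutative G := by
    apply not_comm_of_card_not_prime
    rw [hG]; norm_num
  have hG2 : 2 < Nat.card G := by rw [hG]; norm_num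
  haveI : Fact (Nat.Prime 7) := ⟨by norm_num⟩
  obtain ⟨P⟩ : Nonempty (Sylow 7 G) := inferInstance
  obtain ⟨hP, n, k, c, r, hn, hNc, hCc, hr, hnk, hcr, hmod, hn1, hr6, hr1, hidx, hfac⟩ :=
    sylow_prime_data hnc (p := 7) (m := 144) (by rw [hG]) (by norm_num) P
  have hkpos : 0 < k := by
    rcases Nat.eq_zero_or_pos k with h | h
    · rw [h] at hnk; omega
    · exact h
  have hnle : n ≤ 144 := by
    calc n ≤ n * k := Nat.le_mul_of_pos_right _ hkpos
      _ = 144 := hnk
  have hndvd : n ∣ 144 := ⟨k, hnk.symm⟩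
  have hn836 : n = 8 ∨ n = 36 := by
    clear hfac hidx hn
    interval_cases n <;> first | omega | (exfalso; revert hndvd; decide)
  have hr' : r = 2 ∨ r = 3 ∨ r = 6 := by
    have hle := Nat.le_of_dvd (by norm_num) hr6
    have : r ∣ 6 := hr6
    interval_cases r <;> simp_all
  rcases hn836 with h | h
  · rw [h] at hnk hidx
    have hk18 : k = 18 := by omega
    rw [hk18] at hcr
    rcases hr' with h' | h' | h'
    · rw [h'] at hcr
      have hc9 : c = 9 := by omega
      exact case8_three P hP hidx (by rw [hCc, hc9]; norm_num)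
    · rw [h'] at hcr
      have hc6 : c = 6 := by omega
      exact case8 hG2 P hP hidx (by rw [hCc, hc6]; norm_num)
    · rw [h'] at hcr
      have hc3 : c = 3 := by omega
      exact case8_three P hP hidx (by rw [hCc, hc3]; norm_num)
  · rw [h] at hnk
    have hk4 : k = 4 := by omega
    rw [hk4] at hcr hNc
    rcases hr' with h' | h' | h'
    · rw [h'] at hcr hr
      have hc2 : c = 2 := by omega
      rw [hc2] at hCc
      exact case36 hnc hG P hP hNc hCc hr
    · rw [h'] at hcr; omega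
    · rw [h'] at hcr; omega

end Cfsg.Agent.Lib.Helper19.Ord1008
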