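import Mathlib
import Cfsg.Agent.Lib.Helper19.Ord1008
import Cfsg.Agent.Lib.Helper6.DetChar
import Cfsg.Agent.Lib.Helper6.LinChar
import Cfsg.Agent.Lib.Lead.KleinBlock2

/-!
# No simple group of order 720, part A (helper19)

Tools for the main case `N(P) = F₂₀` (a Sylow `5`-subgroup `P` with `C(P) = P`, `|N(P)| = 20`):
* an element of order `4` in `N(P)`;
* the elements of a coset `n P`, `n ∈ N(P) \ P`, are conjugate to `n`;
* a character whose restriction to `P` has no trivial constituent vanishes on `N(P) \ P`;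
* a character of degree `4` vanishing at `u` and `u ^ 2`, `u ^ 4 = 1`, has determinant `-1` at `u`
  (Newton's identities);
* the determinantal character of a perfect group is trivial.
-/

set_option autoImplicit false
set_option linter.unusedSectionVars false
set_option linter.style.haveILetI false

namespace Cfsg.Agent.Lib.Helper19.Ord720

open MulAction Cfsg Cfsg.Agent.Lib.Helper8.SmallSimple Cfsg.Agent.Lib.Helper8.SmallSimple2
  Cfsg.Agent.Lib.Helper7 Cfsg.Agent.Lib.Helper6 Cfsg.Agent.CharLib Cfsg.Agent.Lib.Helper19.Ord4032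
open scoped ComplexConjugate

universe u

variable {G : Type u} [Group G] [Finite G]

section group

variable [Fact (Nat.Prime 5)] (P : Sylow 5 G)

/-- `C(P) = P` when `|C(P)| = |P| = 5` -/
theorem centralizer_eq_of_card (hP : Nat.card ↥(P : Subgroup G) = 5)
    (hCc : Nat.card ↥(Subgroup.centralizer ((P : Subgroup G) : Set G)) = 5) :
    Subgroup.centralizer ((P : Subgroup G) : Set G) = (P : Subgroup G) := by
  symm
  apply Subgroup.eq_of_le_of_card_ge
  · intro x hx
    rw [Subgroup.mem_centralizer_iff]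
    intro w hw
    exact comm_of_card_prime (P : Subgroup G) hP w hw x hx
  · rw [hCc, hP]

/-- an element commuting with a non-identity element of `P` centralizes `P` -/
theorem mem_centralizer_of_commute (hP : Nat.card ↥(P : Subgroup G) = 5) (w : G)
    (hw : w ∈ (P : Subgroup G)) (hw1 : w ≠ 1) (n : G) (hn : n * w = w * n) :
    n ∈ Subgroup.centralizer ((P : Subgroup G) : Set G) := by
  have hle := Cfsg.Agent.Lib.Helper12.BSF.le_zpowers_of_card_prime 5 (P : Subgroup G) hP w hw hw1
  rw [Subgroup.mem_centralizer_iff]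
  intro x hx
  obtain ⟨k, rfl⟩ := Subgroup.mem_zpowers_iff.mp (hle hx)
  have hc : Commute n w := hn
  exact (hc.zpow_right k).eq.symm

/-- a `2`-element of `P` is trivial -/
theorem eq_one_of_mem_of_sq (hP : Nat.card ↥(P : Subgroup G) = 5) (t : G)
    (ht : t ∈ (P : Subgroup G)) (h2 : t ^ 4 = 1) : t = 1 := by
  have h5 : t ^ 5 = 1 := by
    have h := pow_card_eq_one' (G := ↥(P : Subgroup G)) (x := ⟨t, ht⟩)
    rw [hP] at h
    have h' := congrArg (fun w : ↥(P : Subgroup G) => (w : G)) h
    simpa using h'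
  have h := pow_succ t 4
  rw [h2, one_mul] at h
  rw [← h, h5]

/-- an element of order `4` in `N(P)` -/
theorem exists_order_four (hP : Nat.card ↥(P : Subgroup G) = 5)
    (hNc : Nat.card ↥(Subgroup.normalizer ((P : Subgroup G) : Set G)) = 20)
    (hC : Subgroup.centralizer ((P : Subgroup G) : Set G) = (P : Subgroup G)) :
    ∃ u ∈ Subgroup.normalizer ((P : Subgroup G) : Set G), orderOf u = 4 := by
  haveI : Fact (Nat.Prime 2) := ⟨Nat.prime_two⟩
  set N := Subgroup.normalizer ((P : Subgroup G) : Set G) with hN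
  obtain ⟨T0, hT0⟩ := Sylow.exists_subgroup_card_pow_prime (G := ↥N) 2 (n := 2)
    (by rw [hNc]; norm_num)
  set T : Subgroup G := T0.map N.subtype with hT
  have hTc : Nat.card ↥T = 4 := by
    rw [hT, Subgroup.card_map_of_injective N.subtype_injective, hT0]; norm_num
  have hTN : T ≤ N := by
    rintro _ ⟨y, _, rfl⟩
    exact y.2
  by_contra hno
  push Not at hno
  -- every element of `T` squares to one
  have hsq : ∀ t ∈ T, t * t = 1 := by
    intro t ht
    have hd : orderOf t ∣ 4 := by
      have := Subgroup.orderOf_dvd_natCard T ht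
      rwa [hTc] at this
    have hle := Nat.le_of_dvd (by norm_num) hd
    have hpos := orderOf_pos t
    have h4 := hno t (hTN ht)
    have h12 : orderOf t = 1 ∨ orderOf t = 2 := by
      interval_cases h : orderOf t <;> simp_all
    rw [← pow_two]
    rcases h12 with h | h
    · rw [orderOf_eq_one_iff.mp h, one_pow]
    · rw [← h]; exact pow_orderOf_eq_one t
  obtain ⟨y, hyP, hy⟩ := exists_prime_order_mem (P : Subgroup G) 5 (by rw [hP])
  have hy1 : y ≠ 1 := by
    intro h
    rw [h, orderOf_one] at hy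
    omega
  have hzy : (P : Subgroup G) ≤ Subgroup.zpowers y :=
    Cfsg.Agent.Lib.Helper12.BSF.le_zpowers_of_card_prime 5 (P : Subgroup G) hP y hyP hy1
  -- a non-identity element of `T` inverts `y`
  have hinv : ∀ t ∈ T, t ≠ 1 → t * y * t⁻¹ = y⁻¹ := by
    intro t ht ht1
    have hmem : t * y * t⁻¹ ∈ (P : Subgroup G) :=
      (Subgroup.mem_normalizer_iff.mp (hTN ht) y).mp hyP
    rcases conj_eq_or_eq_inv (p := 5) y t hy (hsq t ht) (hzy hmem) with h | h
    · exfalso
      apply ht1
      have hcomm : t * y = y * t := by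
        calc t * y = t * y * t⁻¹ * t := by group
          _ = y * t := by rw [h]
      have htC := mem_centralizer_of_commute P hP y hyP hy1 t hcomm
      rw [hC] at htC
      apply eq_one_of_mem_of_sq P hP t htC
      rw [show 4 = 2 + 2 from rfl, pow_add, pow_two, hsq t ht, one_mul]
    · exact h
  -- two distinct non-identity elements of `T`
  have hnt : Nontrivial ↥T := by
    rw [← Finite.one_lt_card_iff_nontrivial, hTc]; norm_num
  obtain ⟨t₁, ht₁⟩ := exists_ne (1 : ↥T)
  have hlt : Subgroup.zpowers (t₁ : G) < T := by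
    apply lt_of_le_of_ne
    · rw [Subgroup.zpowers_le]; exact t₁.2
    · intro h
      have hc : Nat.card ↥(Subgroup.zpowers (t₁ : G)) = 4 := by rw [h, hTc]
      rw [Nat.card_zpowers] at hc
      exact hno (t₁ : G) (hTN t₁.2) hc
  obtain ⟨t₂, ht₂T, ht₂⟩ := SetLike.exists_of_lt hlt
  have ht₁1 : (t₁ : G) ≠ 1 := fun h => ht₁ (Subtype.ext h)
  have ht₂1 : t₂ ≠ 1 := by
    intro h
    apply ht₂
    rw [h]
    exact Subgroup.one_mem _
  have h12 : (t₁ : G) * t₂ ∈ T := T.mul_mem t₁.2 ht₂T
  have hprod : (t₁ : G) * t₂ = 1 := by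
    by_contra hne
    have h1 := hinv _ h12 hne
    have h2 := hinv _ t₁.2 ht₁1
    have h3 := hinv _ ht₂T ht₂1
    have h4 : (t₁ : G) * t₂ * y * ((t₁ : G) * t₂)⁻¹ = y := by
      calc (t₁ : G) * t₂ * y * ((t₁ : G) * t₂)⁻¹ = (t₁ : G) * (t₂ * y * t₂⁻¹) * (t₁ : G)⁻¹ := by
            group
        _ = ((t₁ : G) * y * (t₁ : G)⁻¹)⁻¹ := by rw [h3]; group
        _ = y := by rw [h2, inv_inv]
    rw [h4] at h1
    -- `y = y⁻¹` is impossible for an element of order 5
    have h5 : y ^ 2 = 1 := by
      rw [pow_two]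
      nth_rewrite 2 [h1]
      exact mul_inv_cancel y
    have := orderOf_dvd_of_pow_eq_one h5
    rw [hy] at this
    omega
  apply ht₂
  have h5 : t₂ = (t₁ : G)⁻¹ := (inv_eq_of_mul_eq_one_right hprod).symm
  have h6 : (t₁ : G)⁻¹ = (t₁ : G) := inv_eq_of_mul_eq_one_left (hsq _ t₁.2)
  rw [h5, h6]
  exact Subgroup.mem_zpowers _

/-- the elements of the coset `n P`, `n ∈ N(P) \ P`, are conjugate to `n` -/
theorem isConj_mul_of_not_mem (hP : Nat.card ↥(P : Subgroup G) = 5)
    (hC : Subgroup.centralizer ((P : Subgroup G) : Set G) = (P : Subgroup G)) (n : G)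
    (hnN : n ∈ Subgroup.normalizer ((P : Subgroup G) : Set G)) (hnP : n ∉ (P : Subgroup G)) (g : G)
    (hg : g ∈ (P : Subgroup G)) : IsConj n (n * g) := by
  have hnN' : n⁻¹ ∈ Subgroup.normalizer ((P : Subgroup G) : Set G) := Subgroup.inv_mem _ hnN
  let κ : ↥(P : Subgroup G) → ↥(P : Subgroup G) := fun h =>
    ⟨n⁻¹ * (h : G) * n * (h : G)⁻¹, by
      apply Subgroup.mul_mem _ _ (Subgroup.inv_mem _ h.2)
      have := (Subgroup.mem_normalizer_iff.mp hnN' (h : G)).mp h.2
      rwa [inv_inv] at this⟩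
  have hinj : Function.Injective κ := by
    intro h h' hκ
    have h1 : n⁻¹ * (h : G) * n * (h : G)⁻¹ = n⁻¹ * (h' : G) * n * (h' : G)⁻¹ :=
      congrArg (fun w : ↥(P : Subgroup G) => (w : G)) hκ
    set w : G := (h' : G)⁻¹ * (h : G) with hw
    have hwP : w ∈ (P : Subgroup G) := Subgroup.mul_mem _ (Subgroup.inv_mem _ h'.2) h.2
    have hcomm : n * w = w * n := by
      have h2 : (h : G) * n * (h : G)⁻¹ = (h' : G) * n * (h' : G)⁻¹ := by
        have := congrArg (fun z => n * z) h1
        simpa [mul_assoc] using this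
      rw [hw]
      calc n * ((h' : G)⁻¹ * (h : G)) = (h' : G)⁻¹ * ((h' : G) * n * (h' : G)⁻¹) * (h : G) := by group
        _ = (h' : G)⁻¹ * ((h : G) * n * (h : G)⁻¹) * (h : G) := by rw [h2]
        _ = (h' : G)⁻¹ * (h : G) * n := by group
    by_contra hne
    have hw1 : w ≠ 1 := by
      intro h0
      apply hne
      apply Subtype.ext
      rw [hw] at h0
      have : (h : G) = (h' : G) := by
        calc (h : G) = (h' : G) * ((h' : G)⁻¹ * (h : G)) := by group
          _ = (h' : G) := by rw [h0, mul_one]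
      exact this
    have := mem_centralizer_of_commute P hP w hwP hw1 n hcomm
    rw [hC] at this
    exact hnP this
  have hsurj : Function.Surjective κ := Finite.surjective_of_injective hinj
  obtain ⟨h, hh⟩ := hsurj ⟨g, hg⟩
  have h1 : n⁻¹ * (h : G) * n * (h : G)⁻¹ = g := congrArg (fun w : ↥(P : Subgroup G) => (w : G)) hh
  rw [isConj_iff]
  refine ⟨(h : G), ?_⟩
  rw [← h1]
  group

end group

section rep

/-- a character whose restriction to `P` has no trivial constituent vanishes on `N(P) \ P` -/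
theorem char_eq_zero_of_sum_eq_zero [Fact (Nat.Prime 5)] (P : Sylow 5 G)
    (hP : Nat.card ↥(P : Subgroup G) = 5)
    (hC : Subgroup.centralizer ((P : Subgroup G) : Set G) = (P : Subgroup G))
    [Fintype ↥(P : Subgroup G)] {χ : G → ℂ} (hχ : IsCharacter G χ)
    (hsum : ∑ g : ↥(P : Subgroup G), χ (g : G) = 0) (n : G)
    (hnN : n ∈ Subgroup.normalizer ((P : Subgroup G) : Set G)) (hnP : n ∉ (P : Subgroup G)) :
    χ n = 0 := by
  classical
  have hcl : IsClassFunction G χ := IsCharacter.isClassFunction hχ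
  obtain ⟨k, ρ, rfl⟩ := hχ
  set e : Module.End ℂ (Fin k → ℂ) := ∑ g : ↥(P : Subgroup G), ρ (g : G) with he
  have hcard : Fintype.card ↥(P : Subgroup G) = 5 := by
    rw [← Nat.card_eq_fintype_card]; exact hP
  have hmul : ∀ h : ↥(P : Subgroup G), ρ (h : G) * e = e := by
    intro h
    rw [he, Finset.mul_sum]
    have : ∀ g : ↥(P : Subgroup G), ρ (h : G) * ρ (g : G) = ρ ((h * g : ↥(P : Subgroup G)) : G) := by
      intro g
      rw [← map_mul]
      rfl
    rw [Finset.sum_congr rfl (fun g _ => this g)]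
    exact Fintype.sum_equiv (Equiv.mulLeft h) _ _ (fun g => rfl)
  have hee : e * e = (5 : ℂ) • e := by
    nth_rewrite 1 [he]
    rw [Finset.sum_mul, Finset.sum_congr rfl (fun h _ => hmul h), Finset.sum_const, Finset.card_univ,
      hcard]
    rw [← Nat.cast_smul_eq_nsmul ℂ]
    norm_num
  have htr : LinearMap.trace ℂ _ e = 0 := by
    rw [he, map_sum]
    exact hsum
  set f : Module.End ℂ (Fin k → ℂ) := (5 : ℂ)⁻¹ • e with hf
  have hidem : IsIdempotentElem f := by
    unfold IsIdempotentElem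
    rw [hf, smul_mul_smul_comm, hee, smul_smul]
    congr 1
    norm_num
  have hftr : LinearMap.trace ℂ _ f = 0 := by
    rw [hf, map_smul, htr, smul_zero]
  have hf0 : f = 0 := LinearMap.IsIdempotentElem.eq_zero_of_trace_eq_zero hidem hftr
  have he0 : e = 0 := by
    have : e = (5 : ℂ) • f := by rw [hf, smul_smul]; norm_num
    rw [this, hf0, smul_zero]
  -- the sum of the character over the coset `n P` vanishes
  have hcoset : ∑ g : ↥(P : Subgroup G), ρ.character (n * (g : G)) = 0 := by
    have h1 : ∀ g : ↥(P : Subgroup G), ρ.character (n * (g : G)) =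
        LinearMap.trace ℂ _ (ρ n * ρ (g : G)) := by
      intro g
      unfold Representation.character
      rw [map_mul]
    rw [Finset.sum_congr rfl (fun g _ => h1 g), ← map_sum, ← Finset.mul_sum, ← he, he0, mul_zero,
      map_zero]
  have hconst : ∀ g : ↥(P : Subgroup G), ρ.character (n * (g : G)) = ρ.character n := by
    intro g
    exact (apply_eq_of_isConj hcl (isConj_mul_of_not_mem P hP hC n hnN hnP (g : G) g.2)).symm
  rw [Finset.sum_congr rfl (fun g _ => hconst g), Finset.sum_const, Finset.card_univ, hcard] at hcoset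
  rw [← Nat.cast_smul_eq_nsmul ℂ, smul_eq_mul] at hcoset
  rcases mul_eq_zero.mp hcoset with h | h
  · norm_num at h
  · exact h

/-- Newton's identities for four fourth roots of unity with vanishing first and second power sums -/
theorem prod_eq_neg_one (a b c d : ℂ) (ha : a ^ 4 = 1) (hb : b ^ 4 = 1) (hc : c ^ 4 = 1)
    (hd : d ^ 4 = 1) (h1 : a + b + c + d = 0) (h2 : a ^ 2 + b ^ 2 + c ^ 2 + d ^ 2 = 0) :
    a * b * c * d = -1 := by
  have h : 24 * (a * b * c * d) + 24 = 0 := by
    linear_combination ((a + b + c + d) ^ 3 - 6 * (a + b + c + d) * (a ^ 2 + b ^ 2 + c ^ 2 + d ^ 2) +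
      8 * (a ^ 3 + b ^ 3 + c ^ 3 + d ^ 3)) * h1 + 3 * (a ^ 2 + b ^ 2 + c ^ 2 + d ^ 2) * h2 -
      6 * (ha + hb + hc + hd)
  linear_combination h / 24

/-- a character of degree `4` vanishing at `u` and `u ^ 2`, where `u ^ 4 = 1`, has determinant `-1`
at `u` -/
theorem detChar_eq_neg_one {ψ : G → ℂ} (hψ : IsCharacter G ψ) (h1 : ψ 1 = 4) (u : G)
    (hu4 : u ^ 4 = 1) (h₁ : ψ u = 0) (h₂ : ψ (u ^ 2) = 0) : detChar ψ u = -1 := by
  classical
  obtain ⟨k, ρ, rfl⟩ := hψ
  rw [detChar_eq_of_rep]
  have hk : k = 4 := by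
    rw [Representation.char_one, Module.finrank_fin_fun] at h1
    exact_mod_cast h1
  subst hk
  have hf4 : (ρ u) ^ 4 = 1 := by rw [← map_pow, hu4, map_one]
  obtain ⟨ι, hι, b, μ, hμ, hb⟩ := exists_eigenbasis_of_pow_eq_one (ρ u) 4 (by norm_num) hf4
  have hcardι : Fintype.card ι = 4 := by
    rw [← Module.finrank_eq_card_basis b, Module.finrank_fin_fun]
  have hpow : ∀ (j : ℕ) (i : ι), ((ρ u) ^ j) (b i) = μ i ^ j • b i := by
    intro j i
    induction j with
    | zero => simp
    | succ j ih =>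
      rw [pow_succ, Module.End.mul_apply, hb i, map_smul, ih, smul_smul, pow_succ, mul_comm]
  have ht1 : ∑ i, μ i = 0 := by
    rw [← trace_eq_sum_of_eigenbasis b (ρ u) μ hb]
    exact h₁
  have ht2 : ∑ i, μ i ^ 2 = 0 := by
    rw [← trace_eq_sum_of_eigenbasis b ((ρ u) ^ 2) (fun i => μ i ^ 2) (hpow 2), ← map_pow]
    exact h₂
  have hdet : LinearMap.det (ρ u) = ∏ i, μ i := by
    rw [← LinearMap.det_toMatrix b]
    have : LinearMap.toMatrix b b (ρ u) = Matrix.diagonal μ := by
      ext i j
      rw [LinearMap.toMatrix_apply, hb j, map_smul, Finsupp.smul_apply, Module.Basis.repr_self,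
        Matrix.diagonal_apply, Finsupp.single_apply]
      by_cases hij : i = j
      · rw [if_pos hij.symm, if_pos hij, smul_eq_mul, mul_one, hij]
      · rw [if_neg (fun h => hij h.symm), if_neg hij, smul_zero]
    rw [this, Matrix.det_diagonal]
  show LinearMap.det (ρ u) = -1
  rw [hdet]
  let ε : ι ≃ Fin 4 := Fintype.equivFinOfCardEq hcardι
  have e1 : ∑ i, μ i = ∑ j : Fin 4, μ (ε.symm j) := (Equiv.sum_comp ε.symm μ).symm
  have e2 : ∑ i, μ i ^ 2 = ∑ j : Fin 4, μ (ε.symm j) ^ 2 :=
    (Equiv.sum_comp ε.symm (fun i => μ i ^ 2)).symm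
  have e3 : ∏ i, μ i = ∏ j : Fin 4, μ (ε.symm j) := (Equiv.prod_comp ε.symm μ).symm
  rw [e1, Fin.sum_univ_four] at ht1
  rw [e2, Fin.sum_univ_four] at ht2
  rw [e3, Fin.prod_univ_four]
  exact prod_eq_neg_one _ _ _ _ (hμ _) (hμ _) (hμ _) (hμ _) ht1 ht2

/-- the determinantal character of a perfect group is trivial -/
theorem detChar_eq_one_of_perfect (hperf : commutator G = ⊤) {ψ : G → ℂ} (hψ : IsCharacter G ψ)
    (g : G) : detChar ψ g = 1 := by
  obtain ⟨hd, hd1⟩ := detChar_isCharacter hψ
  have hφ := linCharUnitsHom_apply hd hd1 g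
  rw [← hφ]
  have hk : g ∈ (linCharUnitsHom hd hd1).ker := by
    have := Abelianization.commutator_subset_ker (linCharUnitsHom hd hd1)
    rw [hperf] at this
    exact this (Subgroup.mem_top g)
  rw [MonoidHom.mem_ker] at hk
  rw [hk]
  rfl

end rep

end Cfsg.Agent.Lib.Helper19.Ord720
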