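import Mathlib
import Cfsg.Agent.Lib.Helper19.Ord720A
import Cfsg.Agent.Lib.Lead.BlockBasic

/-!
# No simple group of order 720, part B (helper19)

The main case `N(P) = F₂₀` for a Sylow `5`-subgroup `P`: all non-identity elements of `P` are conjugate,
so every irreducible character is a rational integer `c χ` at `y ∈ P \ 1`, congruent to the degree mod `5`.
Column orthogonality (`∑ c² = 5`, `∑ d c = 0`, `∑ d² = 720`) and perfectness leave the degree patterns
`1, 6, 6, 4, 9` and `1, 16, 4, 4, 9` for the characters not vanishing at `y`; both contain a character of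
degree `4` with value `-1` at `y`, which is impossible by the determinant argument of part A.
-/

set_option autoImplicit false
set_option linter.unusedSectionVars false
set_option linter.style.haveILetI false

namespace Cfsg.Agent.Lib.Helper19.Ord720

open MulAction Cfsg Cfsg.Agent.Lib.Helper8.SmallSimple Cfsg.Agent.Lib.Helper8.SmallSimple2
  Cfsg.Agent.Lib.Helper7 Cfsg.Agent.Lib.Helper6 Cfsg.Agent.CharLib Cfsg.Agent.Lib.Helper19.Ord4032
open scoped ComplexConjugate

universe u

/-- integers whose squares sum to four -/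
theorem sq_sum_four {α : Type*} [DecidableEq α] (s : Finset α) (c : α → ℤ)
    (h : ∑ a ∈ s, c a ^ 2 = 4) :
    (∃ a ∈ s, (c a = 2 ∨ c a = -2) ∧ ∀ b ∈ s, b ≠ a → c b = 0) ∨
    (∃ t ⊆ s, t.card = 4 ∧ (∀ a ∈ t, c a = 1 ∨ c a = -1) ∧ ∀ b ∈ s, b ∉ t → c b = 0) := by
  set t := s.filter (fun a => c a ≠ 0) with ht
  have hts : t ⊆ s := Finset.filter_subset _ _
  have hsum : ∑ a ∈ t, c a ^ 2 = 4 := by
    rw [ht, Finset.sum_filter_of_ne]
    · exact h
    · intro x _ hx h0
      apply hx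
      rw [h0]
      norm_num
  have hout : ∀ b ∈ s, b ∉ t → c b = 0 := by
    intro b hb hbt
    by_contra h0
    exact hbt (Finset.mem_filter.mpr ⟨hb, h0⟩)
  have hpos : ∀ a ∈ t, 1 ≤ c a ^ 2 := by
    intro a ha
    have h0 : c a ≠ 0 := (Finset.mem_filter.mp ha).2
    have : 0 < c a ^ 2 := by positivity
    omega
  by_cases hbig : ∃ a ∈ t, 4 ≤ c a ^ 2
  · left
    obtain ⟨a, hat, ha4⟩ := hbig
    have hsplit := Finset.add_sum_erase t (fun a => c a ^ 2) hat
    rw [hsum] at hsplit
    have hnonneg : 0 ≤ ∑ b ∈ t.erase a, c b ^ 2 := Finset.sum_nonneg (fun b _ => sq_nonneg _)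
    have hsplit' : c a ^ 2 + ∑ b ∈ t.erase a, c b ^ 2 = 4 := hsplit
    have ha4' : c a ^ 2 = 4 := by omega
    have hrest0 : ∑ b ∈ t.erase a, c b ^ 2 = 0 := by omega
    refine ⟨a, hts hat, ?_, ?_⟩
    · have h2 : (c a - 2) * (c a + 2) = 0 := by nlinarith
      rcases mul_eq_zero.mp h2 with h | h
      · left; omega
      · right; omega
    · intro b hb hba
      by_contra h0
      have hbt : b ∈ t.erase a :=
        Finset.mem_erase.mpr ⟨hba, Finset.mem_filter.mpr ⟨hb, h0⟩⟩
      have h1 := Finset.single_le_sum (f := fun x => c x ^ 2) (fun x _ => sq_nonneg (c x)) hbt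
      have h2 := hpos b (Finset.mem_of_mem_erase hbt)
      have h1' : c b ^ 2 ≤ ∑ b ∈ t.erase a, c b ^ 2 := h1
      omega
  · right
    push Not at hbig
    have hone : ∀ a ∈ t, c a ^ 2 = 1 := by
      intro a ha
      have h1 := hpos a ha
      have h2 := hbig a ha
      have h3 : -1 ≤ c a := by nlinarith
      have h4 : c a ≤ 1 := by nlinarith
      have h5 : c a = -1 ∨ c a = 0 ∨ c a = 1 := by omega
      rcases h5 with h | h | h
      · simp [h]
      · rw [h] at h1
        norm_num at h1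
      · simp [h]
    refine ⟨t, hts, ?_, ?_, hout⟩
    · have h1 : ∑ a ∈ t, c a ^ 2 = ∑ a ∈ t, (1 : ℤ) := Finset.sum_congr rfl hone
      rw [hsum, Finset.sum_const, nsmul_eq_mul, mul_one] at h1
      exact_mod_cast h1.symm
    · intro a ha
      have h1 := hone a ha
      have h2 : (c a - 1) * (c a + 1) = 0 := by nlinarith
      rcases mul_eq_zero.mp h2 with h | h
      · left; omega
      · right; omega

/-- the arithmetic of the degree patterns -/
theorem list_lemma (l : List ℤ) (hlen : l.length = 4)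
    (hmem : ∀ x ∈ l, x = 6 ∨ x = 16 ∨ x = -4 ∨ x = -9 ∨ x = -24) (hsum : l.sum = -1)
    (hsq : (l.map (fun x => x ^ 2)).sum ≤ 719) : (-4 : ℤ) ∈ l := by
  match l, hlen with
  | [a, b, c, d], _ =>
    by_contra hno
    simp only [List.mem_cons, List.not_mem_nil, or_false, not_or] at hno
    obtain ⟨hna, hnb, hnc, hnd⟩ := hno
    have key : ∀ x : ℤ, (x = 6 ∨ x = 16 ∨ x = -4 ∨ x = -9 ∨ x = -24) → ¬ (-4 = x) →
        (x = 6 ∧ x ^ 2 = 36) ∨ (x = 16 ∧ x ^ 2 = 256) ∨ (x = -9 ∧ x ^ 2 = 81) ∨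
          (x = -24 ∧ x ^ 2 = 576) := by
      intro x hx hx4
      rcases hx with rfl | rfl | rfl | rfl | rfl
      · left; norm_num
      · right; left; norm_num
      · exact absurd rfl hx4
      · right; right; left; norm_num
      · right; right; right; norm_num
    have ha := key a (hmem a (by simp)) hna
    have hb := key b (hmem b (by simp)) hnb
    have hc := key c (hmem c (by simp)) hnc
    have hd := key d (hmem d (by simp)) hnd
    simp only [List.sum_cons, List.sum_nil, List.map_cons, List.map_nil, add_zero] at hsum hsq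
    generalize a ^ 2 = qa at *
    generalize b ^ 2 = qb at *
    generalize c ^ 2 = qc at *
    generalize d ^ 2 = qd at *
    omega

section main

variable {G : Type u} [Group G] [Finite G]

theorem classInd_self (h : G) : classIndicator h h = 1 := by
  classical
  unfold classIndicator
  rw [if_pos (IsConj.refl h)]

theorem classInd_of_not {h x : G} (hx : ¬ IsConj x h) : classIndicator h x = 0 := by
  classical
  unfold classIndicator
  rw [if_neg hx]

/-- all non-identity elements of `P` are conjugate -/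
theorem isConj_of_mem_sylow [Fact (Nat.Prime 5)] (P : Sylow 5 G)
    (hP : Nat.card ↥(P : Subgroup G) = 5)
    (hC : Subgroup.centralizer ((P : Subgroup G) : Set G) = (P : Subgroup G)) (u : G)
    (huN : u ∈ Subgroup.normalizer ((P : Subgroup G) : Set G)) (hu : orderOf u = 4) (y : G)
    (hyP : y ∈ (P : Subgroup G)) (hy1 : y ≠ 1) :
    ∀ x ∈ (P : Subgroup G), x ≠ 1 → IsConj x y := by
  classical
  letI : Fintype ↥(P : Subgroup G) := Fintype.ofFinite _
  have hcard : Fintype.card ↥(P : Subgroup G) = 5 := by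
    rw [← Nat.card_eq_fintype_card]; exact hP
  have hu4 : u ^ 4 = 1 := by rw [← hu]; exact pow_orderOf_eq_one u
  have hpowN : ∀ i : ℕ, u ^ i ∈ Subgroup.normalizer ((P : Subgroup G) : Set G) :=
    fun i => Subgroup.pow_mem _ huN i
  let f : Fin 4 → ↥(P : Subgroup G) := fun i =>
    ⟨u ^ (i : ℕ) * y * (u ^ (i : ℕ))⁻¹, (Subgroup.mem_normalizer_iff.mp (hpowN i) y).mp hyP⟩
  have hinj : Function.Injective f := by
    intro i j hij
    have h1 : u ^ (i : ℕ) * y * (u ^ (i : ℕ))⁻¹ = u ^ (j : ℕ) * y * (u ^ (j : ℕ))⁻¹ :=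
      congrArg (fun w : ↥(P : Subgroup G) => (w : G)) hij
    set w : G := (u ^ (j : ℕ))⁻¹ * u ^ (i : ℕ) with hw
    have hcomm : w * y = y * w := by
      rw [hw]
      calc (u ^ (j : ℕ))⁻¹ * u ^ (i : ℕ) * y
          = (u ^ (j : ℕ))⁻¹ * (u ^ (i : ℕ) * y * (u ^ (i : ℕ))⁻¹) * u ^ (i : ℕ) := by group
        _ = (u ^ (j : ℕ))⁻¹ * (u ^ (j : ℕ) * y * (u ^ (j : ℕ))⁻¹) * u ^ (i : ℕ) := by rw [h1]
        _ = y * ((u ^ (j : ℕ))⁻¹ * u ^ (i : ℕ)) := by group
    have hwC := mem_centralizer_of_commute P hP y hyP hy1 w hcomm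
    rw [hC] at hwC
    have hw4 : w ^ 4 = 1 := by
      have hcu : Commute ((u ^ (j : ℕ))⁻¹) (u ^ (i : ℕ)) :=
        ((Commute.refl u).pow_pow (j : ℕ) (i : ℕ)).inv_left
      rw [hw, hcu.mul_pow, inv_pow, ← pow_mul, ← pow_mul, mul_comm (j : ℕ) 4, mul_comm (i : ℕ) 4,
        pow_mul, pow_mul, hu4, one_pow, one_pow, inv_one, one_mul]
    have hw1 := eq_one_of_mem_of_sq P hP w hwC hw4
    have hpow : u ^ (i : ℕ) = u ^ (j : ℕ) := by
      rw [hw] at hw1
      calc u ^ (i : ℕ) = u ^ (j : ℕ) * ((u ^ (j : ℕ))⁻¹ * u ^ (i : ℕ)) := by group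
        _ = u ^ (j : ℕ) := by rw [hw1, mul_one]
    have hmod := pow_inj_mod.mp hpow
    rw [hu] at hmod
    have hi := i.2
    have hj := j.2
    apply Fin.ext
    omega
  have hne : ∀ i, f i ≠ 1 := by
    intro i h
    apply hy1
    have h1 : u ^ (i : ℕ) * y * (u ^ (i : ℕ))⁻¹ = 1 :=
      congrArg (fun w : ↥(P : Subgroup G) => (w : G)) h
    calc y = (u ^ (i : ℕ))⁻¹ * (u ^ (i : ℕ) * y * (u ^ (i : ℕ))⁻¹) * u ^ (i : ℕ) := by group
      _ = 1 := by rw [h1]; group
  have hsub : Finset.univ.image f ⊆ (Finset.univ : Finset ↥(P : Subgroup G)).erase 1 := by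
    intro x hx
    obtain ⟨i, -, rfl⟩ := Finset.mem_image.mp hx
    exact Finset.mem_erase.mpr ⟨hne i, Finset.mem_univ _⟩
  have hcardimg : (Finset.univ.image f).card = 4 := by
    rw [Finset.card_image_of_injective _ hinj, Finset.card_univ, Fintype.card_fin]
  have hcarderase : ((Finset.univ : Finset ↥(P : Subgroup G)).erase 1).card = 4 := by
    rw [Finset.card_erase_of_mem (Finset.mem_univ _), Finset.card_univ, hcard]
  have heq : Finset.univ.image f = (Finset.univ : Finset ↥(P : Subgroup G)).erase 1 :=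
    Finset.eq_of_subset_of_card_le hsub (by rw [hcardimg, hcarderase])
  intro x hx hx1
  have hmem : (⟨x, hx⟩ : ↥(P : Subgroup G)) ∈ (Finset.univ : Finset ↥(P : Subgroup G)).erase 1 :=
    Finset.mem_erase.mpr ⟨fun h => hx1 (congrArg (fun w : ↥(P : Subgroup G) => (w : G)) h),
      Finset.mem_univ _⟩
  rw [← heq] at hmem
  obtain ⟨i, -, hi⟩ := Finset.mem_image.mp hmem
  have h1 : u ^ (i : ℕ) * y * (u ^ (i : ℕ))⁻¹ = x :=
    congrArg (fun w : ↥(P : Subgroup G) => (w : G)) hi
  exact (isConj_iff.mpr ⟨u ^ (i : ℕ), h1⟩).symm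

/-- degree, value at `y`, and the congruence between them -/
theorem char_data [IsSimpleGroup G] (hnc : ¬ IsMulCommutative G) (hG : Nat.card G = 720)
    [Fact (Nat.Prime 5)] (P : Sylow 5 G) (hP : Nat.card ↥(P : Subgroup G) = 5) (y : G)
    (hconj : ∀ x ∈ (P : Subgroup G), x ≠ 1 → IsConj x y) (χ : IrrCharacter G) :
    ∃ (d : ℕ) (c : ℤ), 0 < d ∧ (χ : G → ℂ) 1 = d ∧ (χ : G → ℂ) y = c ∧ (5 : ℤ) ∣ (d : ℤ) - c ∧
      d ∣ 720 ∧ (d = 1 → χ = trivIrr G) := by
  classical
  letI : Fintype ↥(P : Subgroup G) := Fintype.ofFinite _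
  obtain ⟨d, hdpos, hd⟩ := IsIrrCharacter.apply_one_pos χ.2
  have hχ := IsIrrCharacter.isCharacter χ.2
  have hcl : IsClassFunction G (χ : G → ℂ) := IsCharacter.isClassFunction hχ
  have s1 := sum_subgroup_of_conj (P : Subgroup G) (χ : G → ℂ) hcl y hconj
  obtain ⟨a, ha⟩ := exists_nat_sum_subgroup (P : Subgroup G) hχ
  rw [ha, hP, hd] at s1
  have hq : (χ : G → ℂ) y = (((5 * (a : ℚ) - d) / 4 : ℚ) : ℂ) := by
    push_cast
    push_cast at s1
    linear_combination (-1 / 4 : ℂ) * s1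
  have hint : IsIntegral ℤ ((χ : G → ℂ) y) := Cfsg.Agent.Lib.Helper24.irr_isIntegral χ y
  rw [hq] at hint
  have h2 : IsIntegral ℤ ((5 * (a : ℚ) - d) / 4 : ℚ) :=
    (isIntegral_algebraMap_iff (algebraMap ℚ ℂ).injective (R := ℤ)
      (x := ((5 * (a : ℚ) - d) / 4 : ℚ))).mp hint
  obtain ⟨v, hv⟩ := IsIntegrallyClosed.isIntegral_iff.mp h2
  have hv' : ((v : ℤ) : ℚ) = (5 * (a : ℚ) - d) / 4 := hv
  have hcy : (χ : G → ℂ) y = (v : ℂ) := by
    rw [hq, ← hv']
    push_cast
    rfl
  have hrel : (d : ℤ) + 4 * v = 5 * a := by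
    have h3 : ((d : ℤ) : ℚ) + 4 * (v : ℚ) = 5 * ((a : ℤ) : ℚ) := by
      rw [hv']
      push_cast
      ring
    exact_mod_cast h3
  refine ⟨d, v, hdpos, hd, hcy, ⟨(a : ℤ) - v, by linarith⟩, ?_, ?_⟩
  · have h1 := Cfsg.Agent.Lib.Helper24.irr_charDegree_dvd_card χ
    have h2 := Cfsg.Agent.Lib.Helper24.irr_apply_one χ
    rw [hd] at h2
    have h3 : d = charDegree (χ : G → ℂ) := by exact_mod_cast h2
    rw [← h3, hG] at h1
    exact h1
  · intro h
    have h2 := Cfsg.Agent.Lib.Helper24.irr_apply_one χ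
    rw [hd, h] at h2
    have h3 : charDegree (χ : G → ℂ) = 1 := by exact_mod_cast h2.symm
    have h4 := Cfsg.Agent.Lib.Helper12.BSF.eq_one_of_charDegree_one
      (Cfsg.Agent.Lib.Helper12.BSF.commutator_eq_top_of_simple hnc) χ h3
    apply Subtype.ext
    rw [h4]
    rfl

/-- the possible pairs (degree, value) for the characters with value `± 1` at `y` -/
theorem pair_cases (d : ℕ) (c : ℤ) (hc : c = 1 ∨ c = -1) (h5 : (5 : ℤ) ∣ (d : ℤ) - c) (hdvd : d ∣ 720)
    (hd1 : d ≠ 1) (hsq : (d : ℤ) ^ 2 ≤ 719) :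
    c * d = 6 ∨ c * d = 16 ∨ c * d = -4 ∨ c * d = -9 ∨ c * d = -24 := by
  have hle : d ≤ 26 := by
    by_contra h
    have : (27 : ℤ) ≤ d := by exact_mod_cast (by omega : 27 ≤ d)
    nlinarith
  rcases hc with rfl | rfl
  · interval_cases d <;> first | omega | (exfalso; revert hdvd; decide)
  · interval_cases d <;> first | omega | (exfalso; revert hdvd; decide)

/-- the main case: `|N(P)| = 20`, `C(P) = P` -/
theorem case36_main [IsSimpleGroup G] (hnc : ¬ IsMulCommutative G) (hG : Nat.card G = 720)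
    [Fact (Nat.Prime 5)] (P : Sylow 5 G) (hP : Nat.card ↥(P : Subgroup G) = 5)
    (hNc : Nat.card ↥(Subgroup.normalizer ((P : Subgroup G) : Set G)) = 20)
    (hCc : Nat.card ↥(Subgroup.centralizer ((P : Subgroup G) : Set G)) = 5) : False := by
  classical
  have hC := centralizer_eq_of_card P hP hCc
  obtain ⟨u, huN, hu⟩ := exists_order_four P hP hNc hC
  obtain ⟨y, hyP, hy⟩ := exists_prime_order_mem (P : Subgroup G) 5 (by rw [hP])
  have hy1 : y ≠ 1 := by
    intro h
    rw [h, orderOf_one] at hy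
    omega
  have hconj := isConj_of_mem_sylow P hP hC u huN hu y hyP hy1
  letI : Fintype G := Fintype.ofFinite G
  letI : Fintype (IrrCharacter G) := fintypeIrr G
  letI : Fintype ↥(P : Subgroup G) := Fintype.ofFinite _
  have hperf := Cfsg.Agent.Lib.Helper12.BSF.commutator_eq_top_of_simple hnc
  choose d c hdpos hd1 hcy h5 hdvd hlin using char_data hnc hG P hP y hconj
  set χ₁ : IrrCharacter G := trivIrr G with hχ₁
  have hχ₁val : ∀ g : G, (χ₁ : G → ℂ) g = 1 := fun g => rfl
  have hd₁ : d χ₁ = 1 := by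
    have h := hd1 χ₁
    rw [hχ₁val] at h
    exact_mod_cast h.symm
  have hc₁ : c χ₁ = 1 := by
    have h := hcy χ₁
    rw [hχ₁val] at h
    exact_mod_cast h.symm
  -- the centralizer of `y`
  have hCy : Nat.card ↥(Subgroup.centralizer ({y} : Set G)) = 5 := by
    have hzy : Subgroup.zpowers y = (P : Subgroup G) := by
      apply le_antisymm
      · rw [Subgroup.zpowers_le]; exact hyP
      · exact Cfsg.Agent.Lib.Helper12.BSF.le_zpowers_of_card_prime 5 (P : Subgroup G) hP y hyP hy1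
    rw [← centralizer_zpowers_eq', hzy, hC, hP]
  -- column orthogonality
  have hB : ∑ χ : IrrCharacter G, c χ ^ 2 = 5 := by
    have h := sum_irr_mul_conj (G := G) y y
    rw [classInd_self, one_mul, hCy] at h
    have h3 : ∀ χ : IrrCharacter G, (χ : G → ℂ) y * conj ((χ : G → ℂ) y) = ((c χ ^ 2 : ℤ) : ℂ) := by
      intro χ
      rw [hcy χ, map_intCast]
      push_cast
      ring
    simp only [h3] at h
    exact_mod_cast h
  have hnc1 : ¬ IsConj (1 : G) y := by
    rw [isConj_one_right]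
    exact hy1
  have hD : ∑ χ : IrrCharacter G, (d χ : ℤ) * c χ = 0 := by
    have h := sum_irr_mul_conj (G := G) 1 y
    rw [classInd_of_not hnc1, zero_mul] at h
    have h3 : ∀ χ : IrrCharacter G, (χ : G → ℂ) 1 * conj ((χ : G → ℂ) y) =
        (((d χ : ℤ) * c χ : ℤ) : ℂ) := by
      intro χ
      rw [hcy χ, hd1 χ, map_intCast]
      push_cast
      ring
    simp only [h3] at h
    exact_mod_cast h
  have hE : ∑ χ : IrrCharacter G, (d χ : ℤ) ^ 2 = 720 := by
    have h := sum_irr_mul_conj (G := G) 1 1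
    have hc1 : Nat.card ↥(Subgroup.centralizer ({1} : Set G)) = 720 := by
      have : Subgroup.centralizer ({1} : Set G) = ⊤ := by
        ext g
        simp [Subgroup.mem_centralizer_iff]
      rw [this, Subgroup.card_top, hG]
    rw [classInd_self, one_mul, hc1] at h
    have h3 : ∀ χ : IrrCharacter G, (χ : G → ℂ) 1 * conj ((χ : G → ℂ) 1) =
        (((d χ : ℤ) ^ 2 : ℤ) : ℂ) := by
      intro χ
      rw [hd1 χ, map_natCast]
      push_cast
      ring
    simp only [h3] at h
    exact_mod_cast h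
  -- split off the trivial character
  set s : Finset (IrrCharacter G) := Finset.univ.erase χ₁ with hs
  have hmem₁ : χ₁ ∈ (Finset.univ : Finset (IrrCharacter G)) := Finset.mem_univ _
  have hB' : ∑ χ ∈ s, c χ ^ 2 = 4 := by
    have h := Finset.add_sum_erase Finset.univ (fun χ : IrrCharacter G => c χ ^ 2) hmem₁
    rw [hB] at h
    have h' : c χ₁ ^ 2 + ∑ χ ∈ s, c χ ^ 2 = 5 := h
    rw [hc₁] at h'
    omega
  have hD' : ∑ χ ∈ s, (d χ : ℤ) * c χ = -1 := by
    have h := Finset.add_sum_erase Finset.univ (fun χ : IrrCharacter G => (d χ : ℤ) * c χ) hmem₁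
    rw [hD] at h
    have h' : (d χ₁ : ℤ) * c χ₁ + ∑ χ ∈ s, (d χ : ℤ) * c χ = 0 := h
    rw [hc₁, hd₁] at h'
    push_cast at h'
    omega
  have hE' : ∑ χ ∈ s, (d χ : ℤ) ^ 2 = 719 := by
    have h := Finset.add_sum_erase Finset.univ (fun χ : IrrCharacter G => (d χ : ℤ) ^ 2) hmem₁
    rw [hE] at h
    have h' : (d χ₁ : ℤ) ^ 2 + ∑ χ ∈ s, (d χ : ℤ) ^ 2 = 720 := h
    rw [hd₁] at h'
    push_cast at h'
    omega
  -- a character of degree `4` with value `-1` at `y`
  have hψ : ∃ ψ : IrrCharacter G, d ψ = 4 ∧ c ψ = -1 := by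
    rcases sq_sum_four s c hB' with ⟨a, has, hca, hrest⟩ | ⟨t, hts, htc, htone, hrest⟩
    · exfalso
      have h1 : ∑ χ ∈ s, (d χ : ℤ) * c χ = (d a : ℤ) * c a := by
        apply Finset.sum_eq_single_of_mem a has
        intro b hb hba
        rw [hrest b hb hba, mul_zero]
      rw [hD'] at h1
      rcases hca with h | h <;> rw [h] at h1 <;> omega
    · have h1 : ∑ χ ∈ t, (d χ : ℤ) * c χ = -1 := by
        rw [← hD']
        apply Finset.sum_subset hts
        intro b hb hbt
        rw [hrest b hb hbt, mul_zero]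
      have h2 : ∑ χ ∈ t, (d χ : ℤ) ^ 2 ≤ 719 := by
        rw [← hE']
        exact Finset.sum_le_sum_of_subset_of_nonneg hts (fun _ _ _ => sq_nonneg _)
      set l : List ℤ := t.toList.map (fun χ => c χ * (d χ : ℤ)) with hl
      have hlen : l.length = 4 := by rw [hl, List.length_map, Finset.length_toList, htc]
      have hlsum : l.sum = -1 := by
        rw [hl, Finset.sum_map_toList, ← h1]
        exact Finset.sum_congr rfl (fun χ _ => mul_comm _ _)
      have hlsq : (l.map (fun x => x ^ 2)).sum ≤ 719 := by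
        rw [hl, List.map_map, Finset.sum_map_toList]
        refine le_trans (le_of_eq ?_) h2
        apply Finset.sum_congr rfl
        intro χ hχ
        rcases htone χ hχ with h | h <;> simp only [Function.comp_apply] <;> rw [h] <;> ring
      have hlmem : ∀ x ∈ l, x = 6 ∨ x = 16 ∨ x = -4 ∨ x = -9 ∨ x = -24 := by
        intro x hx
        rw [hl, List.mem_map] at hx
        obtain ⟨χ, hχt, rfl⟩ := hx
        rw [Finset.mem_toList] at hχt
        have hχs := hts hχt
        have hχne : χ ≠ χ₁ := (Finset.mem_erase.mp hχs).1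
        apply pair_cases (d χ) (c χ) (htone χ hχt) (h5 χ) (hdvd χ)
        · intro h
          exact hχne (hlin χ h)
        · have := Finset.single_le_sum (f := fun χ => (d χ : ℤ) ^ 2) (fun x _ => sq_nonneg _) hχt
          have h' : (d χ : ℤ) ^ 2 ≤ ∑ χ ∈ t, (d χ : ℤ) ^ 2 := this
          omega
      have h4 := list_lemma l hlen hlmem hlsum hlsq
      rw [hl, List.mem_map] at h4
      obtain ⟨ψ, hψt, hψ4⟩ := h4
      rw [Finset.mem_toList] at hψt
      refine ⟨ψ, ?_⟩
      have hpos : (0 : ℤ) < d ψ := by exact_mod_cast hdpos ψ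
      rcases htone ψ hψt with h | h
      · rw [h] at hψ4
        omega
      · rw [h] at hψ4
        constructor
        · omega
        · exact h
  obtain ⟨ψ, hdψ, hcψ⟩ := hψ
  have hψc := IsIrrCharacter.isCharacter ψ.2
  have hψ1 : (ψ : G → ℂ) 1 = 4 := by rw [hd1 ψ, hdψ]; norm_num
  have hψy : (ψ : G → ℂ) y = -1 := by rw [hcy ψ, hcψ]; norm_num
  have hsumP : ∑ g : ↥(P : Subgroup G), (ψ : G → ℂ) (g : G) = 0 := by
    rw [sum_subgroup_of_conj (P : Subgroup G) (ψ : G → ℂ) (IsCharacter.isClassFunction hψc) y hconj,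
      hP, hψ1, hψy]
    norm_num
  have hu4 : u ^ 4 = 1 := by rw [← hu]; exact pow_orderOf_eq_one u
  have huP : u ∉ (P : Subgroup G) := by
    intro h
    have := eq_one_of_mem_of_sq P hP u h hu4
    rw [this, orderOf_one] at hu
    omega
  have hu2P : u ^ 2 ∉ (P : Subgroup G) := by
    intro h
    have h1 : (u ^ 2) ^ 4 = 1 := by rw [← pow_mul, show 2 * 4 = 4 * 2 from rfl, pow_mul, hu4, one_pow]
    have h2 := eq_one_of_mem_of_sq P hP (u ^ 2) h h1
    have := orderOf_dvd_of_pow_eq_one h2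
    rw [hu] at this
    omega
  have hv1 := char_eq_zero_of_sum_eq_zero P hP hC hψc hsumP u huN huP
  have hv2 := char_eq_zero_of_sum_eq_zero P hP hC hψc hsumP (u ^ 2) (Subgroup.pow_mem _ huN 2) hu2P
  have hdet := detChar_eq_neg_one hψc hψ1 u hu4 hv1 hv2
  rw [detChar_eq_one_of_perfect hperf hψc u] at hdet
  norm_num at hdet

end main

end Cfsg.Agent.Lib.Helper19.Ord720
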