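import Mathlib

set_option autoImplicit false

namespace Cfsg.Agent.Lib.Helper19

open Subgroup

variable {G : Type*} [Group G]

/-- second isomorphism theorem for indices, normalizer version -/
theorem relIndex_sup_of_le_normalizer (A K : Subgroup G) (hLE : A ≤ normalizer (K : Set G)) :
    K.relIndex (A ⊔ K) = K.relIndex A := by
  letI := Subgroup.normal_subgroupOf_of_le_normalizer hLE
  letI := Subgroup.normal_subgroupOf_sup_of_le_normalizer hLE
  exact (Nat.card_congr (QuotientGroup.quotientInfEquivProdNormalizerQuotient A K hLE).toEquiv).symm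

theorem relIndex_mul_card_inf [Finite G] (X Y : Subgroup G) :
    X.relIndex Y * Nat.card ↥(X ⊓ Y) = Nat.card Y := by
  have h1 : Nat.card ((X ⊓ Y).subgroupOf Y) = Nat.card ↥(X ⊓ Y) :=
    Nat.card_congr (Subgroup.subgroupOfEquivOfLe (inf_le_right)).toEquiv
  rw [← inf_relIndex_right, relIndex, ← h1, mul_comm]
  exact Subgroup.card_mul_index _

/-- `[AK : A] = [K : A ∩ K]` when `A` normalizes `K`. -/
theorem relIndex_sup_self_of_le_normalizer [Finite G] (A K : Subgroup G)
    (hLE : A ≤ normalizer (K : Set G)) : A.relIndex (A ⊔ K) = A.relIndex K := by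
  have e1 := relIndex_mul_card_inf K (A ⊔ K)
  have e2 := relIndex_mul_card_inf K A
  have e3 := relIndex_mul_card_inf A (A ⊔ K)
  have e4 := relIndex_mul_card_inf A K
  rw [relIndex_sup_of_le_normalizer A K hLE] at e1
  have h1 : K ⊓ (A ⊔ K) = K := inf_eq_left.mpr le_sup_right
  have h3 : A ⊓ (A ⊔ K) = A := inf_eq_left.mpr le_sup_left
  rw [h1] at e1
  rw [h3] at e3
  have hc : Nat.card ↥(K ⊓ A) = Nat.card ↥(A ⊓ K) := by rw [inf_comm]
  rw [hc] at e2
  have hpos1 : 0 < Nat.card ↥(A ⊓ K) := Nat.card_pos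
  have hpos2 : 0 < K.relIndex A := by
    rcases Nat.eq_zero_or_pos (K.relIndex A) with h | h
    · rw [h, zero_mul] at e2
      have : 0 < Nat.card A := Nat.card_pos
      omega
    · exact h
  -- A.relIndex (A ⊔ K) * card A = K.relIndex A * card K
  have h5 : A.relIndex (A ⊔ K) * (K.relIndex A * Nat.card ↥(A ⊓ K)) =
      K.relIndex A * (A.relIndex K * Nat.card ↥(A ⊓ K)) := by
    rw [e2, e4, e3, e1]
  have h6 : (K.relIndex A * Nat.card ↥(A ⊓ K)) * A.relIndex (A ⊔ K) =
      (K.relIndex A * Nat.card ↥(A ⊓ K)) * A.relIndex K := by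
    calc (K.relIndex A * Nat.card ↥(A ⊓ K)) * A.relIndex (A ⊔ K)
        = A.relIndex (A ⊔ K) * (K.relIndex A * Nat.card ↥(A ⊓ K)) := by ring
      _ = K.relIndex A * (A.relIndex K * Nat.card ↥(A ⊓ K)) := h5
      _ = (K.relIndex A * Nat.card ↥(A ⊓ K)) * A.relIndex K := by ring
  exact Nat.eq_of_mul_eq_mul_left (Nat.mul_pos hpos2 hpos1) h6

/-- orbit sizes of a normal subgroup divide orbit sizes -/
theorem relIndex_dvd_relIndex_of_normal [Finite G] (S K H : Subgroup G) (hKH : K ≤ H)
    (hN : H ≤ normalizer (K : Set G)) : S.relIndex K ∣ S.relIndex H := by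
  set A := S ⊓ H with hA
  have hAK : A ⊓ K = S ⊓ K := by
    rw [hA, inf_assoc, inf_eq_right.mpr hKH]
  have h1 : S.relIndex K = A.relIndex K := by
    rw [← inf_relIndex_right S K, ← inf_relIndex_right A K, hAK]
  have hAn : A ≤ normalizer (K : Set G) := inf_le_right.trans hN
  have h2 : A.relIndex K = A.relIndex (A ⊔ K) := (relIndex_sup_self_of_le_normalizer A K hAn).symm
  have h3 : A.relIndex (A ⊔ K) * (A ⊔ K).relIndex H = A.relIndex H :=
    relIndex_mul_relIndex A (A ⊔ K) H le_sup_left (sup_le inf_le_right hKH)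
  have h4 : A.relIndex H = S.relIndex H := inf_relIndex_right S H
  rw [h1, h2, ← h4, ← h3]
  exact Dvd.intro _ rfl

/-- orbit sizes of `N ⊔ H` -/
theorem relIndex_sup_dvd [Finite G] (S N H : Subgroup G)
    (hN : H ≤ normalizer (N : Set G)) : S.relIndex (N ⊔ H) ∣ S.relIndex H * Nat.card N := by
  have h0 : N ⊔ H = H ⊔ N := sup_comm _ _
  rw [h0]
  have h1 : S.relIndex (H ⊔ N) = (S ⊓ (H ⊔ N)).relIndex (H ⊔ N) := (inf_relIndex_right _ _).symm
  have h2 : (S ⊓ (H ⊔ N)).relIndex (H ⊔ N) ∣ (S ⊓ H).relIndex (H ⊔ N) :=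
    relIndex_dvd_of_le_left _ (inf_le_inf_left S le_sup_left)
  have h3 : (S ⊓ H).relIndex H * H.relIndex (H ⊔ N) = (S ⊓ H).relIndex (H ⊔ N) :=
    relIndex_mul_relIndex _ _ _ inf_le_right le_sup_left
  have h4 : (S ⊓ H).relIndex H = S.relIndex H := inf_relIndex_right S H
  have h5 : H.relIndex (H ⊔ N) = H.relIndex N := relIndex_sup_self_of_le_normalizer H N hN
  have h6 : H.relIndex N ∣ Nat.card N := relIndex_dvd_card H N
  rw [h1]
  refine h2.trans ?_
  rw [← h3, h4, h5]
  exact Nat.mul_dvd_mul_left _ h6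

/-- orbit cardinality as a relative index -/
theorem card_orbit_subgroup {X : Type*} [MulAction G X] (K : Subgroup G) (x : X) :
    Nat.card (MulAction.orbit K x) = (MulAction.stabilizer G x).relIndex K := by
  have key : (MulAction.stabilizer G x).subgroupOf K = MulAction.stabilizer K x := by
    ext; rfl
  rw [Subgroup.relIndex, key, MulAction.index_stabilizer, Nat.card_coe_set_eq]

end Cfsg.Agent.Lib.Helper19
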