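/-
helper19: interface for the proof of S1402 (Bender–Glauberman Lemma 9.5); see notes/bg95/PROOF.md.
`TypeII p A H s W` records the facts (2b) about a maximal subgroup `H ∈ ℳ(A)` of "type II"
(`F(H)` of rank at least three) for its good prime `s` and host subgroup `W`.
-/
import Mathlib
import Cfsg.Prelude

set_option autoImplicit false

namespace Cfsg.Agent.Lib.Helper19.BG95

variable {G : Type*} [Group G]

/-- The facts about a type II maximal subgroup `H` containing `A` (notes/bg95/PROOF.md, 2a–2g). -/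
structure TypeII (p : ℕ) (A H : Subgroup G) (s : ℕ) (W : Subgroup G) : Prop where
  coatom : IsCoatom H
  A_le : A ≤ H
  s_prime : s.Prime
  s_ne : s ≠ p
  W_le : W ≤ H
  W_pgroup : IsPGroup s W
  W_inv : A ≤ Subgroup.normalizer (W : Set G)
  W_nc : ¬ IsCyclic W
  /-- `S = O_s(H)` is wide, and the host lies in it, is normal in `H` and has exponent `s`. -/
  S_wide : ¬ Cfsg.PRankLE s 2 ↥(Cfsg.pCoreOf s H)
  W_le_S : W ≤ Cfsg.pCoreOf s H
  W_norm : H ≤ Subgroup.normalizer (W : Set G)
  W_exp : ∀ w ∈ W, w ^ s = 1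
  /-- (G1) abelian wide `s`-subgroups are uniqueness subgroups. -/
  ab_uniq : ∀ B : Subgroup G, IsPGroup s B → IsMulCommutative B → ¬ Cfsg.PRankLE s 2 ↥B →
    Cfsg.InUniqueMaximal B
  /-- (G3) noncyclic `s`-subgroups with wide centralizer are uniqueness subgroups. -/
  nc_uniq : ∀ B : Subgroup G, IsPGroup s B → ¬ IsCyclic B →
    ¬ Cfsg.PRankLE s 2 ↥(Subgroup.centralizer (B : Set G)) → Cfsg.InUniqueMaximal B
  /-- (W2) centralizers of nonidentity elements of the host lie in `H`. -/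
  cent_le : ∀ w ∈ W, w ≠ 1 → Subgroup.centralizer ({w} : Set G) ≤ H
  /-- (W3) noncyclic subgroups of the host lie in no other maximal subgroup. -/
  uniq_nc : ∀ Y : Subgroup G, Y ≤ W → ¬ IsCyclic Y → ∀ M : Subgroup G, IsCoatom M → Y ≤ M → M = H
  /-- (2e) `p'`-subgroups centralized by `A` lie in `H` (in particular `K = O_{p'}(C_G(A)) ≤ H`). -/
  cent_A_le : ∀ Y : Subgroup G, (Nat.card Y).Coprime p → Y ≤ Subgroup.centralizer (A : Set G) → Y ≤ H
  /-- (2f) `A`-invariant `s`-subgroups lie in `H`. -/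
  inv_le : ∀ T : Subgroup G, IsPGroup s T → A ≤ Subgroup.normalizer (T : Set G) → T ≤ H
  /-- (G2) wide `s`-subgroups of `H` lie in no other maximal subgroup. -/
  wide_uniq : ∀ R : Subgroup G, IsPGroup s R → ¬ Cfsg.PRankLE s 2 R → R ≤ H →
    ∀ M : Subgroup G, IsCoatom M → R ≤ M → M = H
  /-- (2g) normalizers of `p`-subgroups containing `A` lie in `H`. -/
  norm_le : ∀ Q : Subgroup G, IsPGroup p Q → A ≤ Q → Subgroup.normalizer (Q : Set G) ≤ H

end Cfsg.Agent.Lib.Helper19.BG95
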