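/-
helper19: S1402 (B&G 9.5), piece (D), part 1: facts for a good prime `s` (G1, G2, G3).
See notes/bg95/PROOF.md.
-/
import Mathlib
import Cfsg.Agent.Lib.Helper19.BG95Spec
import Cfsg.Agent.Lib.Helper17.BGFitF

set_option autoImplicit false

namespace Cfsg.Agent.Lib.Helper19.BG95

open Cfsg.Agent.Lib.Helper17 Cfsg.Agent.Lib.Helper17.BGU

variable {G : Type*} [Group G]

theorem eq_of_inUniqueMaximal {X M H : Subgroup G} (hX : Cfsg.InUniqueMaximal X)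
    (hH : IsCoatom H) (hXH : X ≤ H) (hM : IsCoatom M) (hXM : X ≤ M) : M = H :=
  hX.unique ⟨hM, hXM⟩ ⟨hH, hXH⟩

theorem inUniqueMaximal_of_le {X Y : Subgroup G} [Finite G] (hX : Cfsg.InUniqueMaximal X)
    (hXY : X ≤ Y) (hY : Y ≠ ⊤) : Cfsg.InUniqueMaximal Y := by
  obtain ⟨M₀, hM₀, hYM₀⟩ := exists_coatom_ge hY
  refine ⟨M₀, ⟨hM₀, hYM₀⟩, fun M hM => ?_⟩
  exact eq_of_inUniqueMaximal hX hM₀ (hXY.trans hYM₀) hM.1 (hXY.trans hM.2)

theorem prime_ne_two_of_odd [Finite G] (hG : Cfsg.IsMinSimpleOddOrder G) {s : ℕ}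
    (hs : s ∣ Nat.card G) : s ≠ 2 := by
  rintro rfl
  exact (Nat.not_even_iff_odd.mpr hG.1) (even_iff_two_dvd.mpr hs)

/-- A `p`-subgroup of a nonabelian simple group is proper. -/
theorem isPGroup_ne_top [Finite G] [IsSimpleGroup G] (hnc : ¬ IsMulCommutative G) {s : ℕ}
    [Fact s.Prime] {R : Subgroup G} (hR : IsPGroup s R) : R ≠ ⊤ := by
  intro h
  obtain ⟨P, hP⟩ := hR.exists_le_sylow
  exact not_isPGroup_top_of_simple hnc P (top_le_iff.mp (h ▸ hP))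

/-- A wide `s`-group has order divisible by `s`. -/
theorem dvd_card_of_not_pRankLE {s n : ℕ} [Finite G] (hs : s.Prime) {R : Subgroup G}
    (hr : ¬ Cfsg.PRankLE s n ↥R) : s ∣ Nat.card G := by
  obtain ⟨E, hER, hEc, hEe, hEcard⟩ := exists_elemAb_of_not_pRankLE hr
  have hE1 : 1 < Nat.card E := lt_of_le_of_lt (Nat.one_le_pow _ _ hs.pos) hEcard
  have hEp : IsPGroup s E := isPGroup_of_exp hEe
  haveI : Fact s.Prime := ⟨hs⟩
  obtain ⟨k, hk⟩ := IsPGroup.iff_card.mp hEp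
  have hk0 : k ≠ 0 := by
    rintro rfl
    rw [pow_zero] at hk; omega
  have : s ∣ Nat.card E := by rw [hk]; exact dvd_pow_self s hk0
  exact this.trans (Subgroup.card_subgroup_dvd_card E)

/-- (G1), (G2), (G3) for a prime `s` such that `F(H)` has `s`-rank at least three. -/
theorem good_prime_facts [Finite G] (hG : Cfsg.IsMinSimpleOddOrder G) {H : Subgroup G}
    (hH : IsCoatom H) {s : ℕ} [Fact s.Prime] (hF : ¬ Cfsg.PRankLE s 2 ↥(Cfsg.fittingOf H)) :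
    (∀ B : Subgroup G, IsPGroup s B → IsMulCommutative B → ¬ Cfsg.PRankLE s 2 ↥B →
      Cfsg.InUniqueMaximal B) ∧
    (∀ R : Subgroup G, IsPGroup s R → ¬ Cfsg.PRankLE s 2 ↥R → Cfsg.InUniqueMaximal R) ∧
    (∀ B : Subgroup G, IsPGroup s B → ¬ IsCyclic B →
      ¬ Cfsg.PRankLE s 2 ↥(Subgroup.centralizer (B : Set G)) → Cfsg.InUniqueMaximal B) := by
  have hsimple : IsSimpleGroup G := hG.2.1
  have hnc := hG.2.2.1
  have hsp : s.Prime := Fact.out
  have hs2 : s ≠ 2 := prime_ne_two_of_odd hG (dvd_card_of_not_pRankLE hsp hF)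
  have hG1 : ∀ B : Subgroup G, IsPGroup s B → IsMulCommutative B → ¬ Cfsg.PRankLE s 2 ↥B →
      Cfsg.InUniqueMaximal B := fun B hBp hBc hB3 =>
    uniq_of_fitting_rank_three hG hH hF hBp hBc hB3
  refine ⟨hG1, ?_, ?_⟩
  · intro R hRp hR3
    obtain ⟨E, hER, hEc, hEe, hEcard⟩ := exists_elemAb_of_not_pRankLE hR3
    obtain ⟨A₁, hscn, hA₁3⟩ := exists_scn_three hs2 hRp hER hEc hEe hEcard
    have hA₁U := hG1 A₁ (hRp.to_le hscn.1) (isMulCommutative_of_comm (scn_comm hscn)) hA₁3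
    exact inUniqueMaximal_of_le hA₁U hscn.1 (isPGroup_ne_top hnc hRp)
  · intro B hBp hBnc hB3
    obtain ⟨A', hA'p, hA'c, hA'3, hA'U⟩ := exists_uniq_of_fitting_rank_three hG hH hF
    exact uniq_of_rank_three hG hA'p hA'c hA'3 hA'U hBp hBnc hB3

end Cfsg.Agent.Lib.Helper19.BG95
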