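/-
helper19: S1402 (B&G 9.5), piece (D), part 2: step (2d) — some `a₀ ∈ E#` has `C_G(a₀) ≤ H`.
See notes/bg95/PROOF.md.
-/
import Mathlib
import Cfsg.Agent.Lib.Helper19.BG95D1
import Cfsg.Agent.Lib.Helper8.Hyperplane

set_option autoImplicit false

namespace Cfsg.Agent.Lib.Helper19.BG95

open Cfsg.Agent.Lib.Helper17 Cfsg.Agent.Lib.Helper17.BGU

variable {G : Type*} [Group G]

/-- A cyclic group of prime exponent `s` has order `1` or `s`. -/
theorem card_dvd_of_isCyclic_of_exp {s : ℕ} {D : Subgroup G} [Finite D]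
    (hc : IsCyclic ↥D) (he : ∀ w ∈ D, w ^ s = 1) : Nat.card D ∣ s := by
  obtain ⟨g, hg⟩ := hc.exists_generator
  have h1 : orderOf g = Nat.card D := orderOf_eq_card_of_forall_mem_zpowers hg
  rw [← h1]
  apply orderOf_dvd_of_pow_eq_one
  apply Subtype.ext
  simpa using he g.1 g.2

/-- An elementary abelian group of rank at least three acting coprimely on a noncyclic group `W` of
exponent `s`: some nontrivial subgroup of `E` centralizes a noncyclic subgroup of `W`. -/
theorem exists_noncyclic_inf_centralizer [Finite G] {p s : ℕ} [Fact p.Prime] (hs : s.Prime)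
    {E W : Subgroup G} (hEe : Cfsg.IsElementaryAbelian p E) (hEcard : p ^ 2 < Nat.card E)
    (hEW : E ≤ Subgroup.normalizer (W : Set G)) (hcop : (Nat.card E).Coprime (Nat.card W))
    (hWnc : ¬ IsCyclic ↥W) (hWe : ∀ w ∈ W, w ^ s = 1) :
    ∃ B : Subgroup G, B ≤ E ∧ B ≠ ⊥ ∧ ¬ IsCyclic ↥(W ⊓ Subgroup.centralizer (B : Set G)) := by
  have hpp : p.Prime := Fact.out
  have hE1 : E ≠ ⊥ := by
    intro h
    rw [h, Subgroup.card_bot] at hEcard
    have := Nat.one_le_pow 2 p hpp.pos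
    omega
  have hW1 : ¬ W ≤ ⊥ := by
    intro h
    apply hWnc
    rw [le_bot_iff.mp h]
    infer_instance
  have hplt : p < p ^ 2 := by
    calc p = p ^ 1 := (pow_one p).symm
      _ < p ^ 2 := Nat.pow_lt_pow_right hpp.one_lt (by norm_num)
  obtain ⟨B₁, hB₁E, hB₁i, hB₁n⟩ :=
    Cfsg.Agent.Lib.Helper8.exists_index_p_centralizer_not_le p E W ⊥ hEe hE1 hEW hcop hW1
  have hB₁ne : B₁ ≠ ⊥ := by
    intro h
    rw [h, Subgroup.relIndex_bot_left] at hB₁i
    omega
  by_cases hc : IsCyclic ↥(W ⊓ Subgroup.centralizer (B₁ : Set G))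
  · -- second hyperplane
    have hWC : ¬ W ≤ W ⊓ Subgroup.centralizer (B₁ : Set G) := by
      intro h
      apply hWnc
      have : W ⊓ Subgroup.centralizer (B₁ : Set G) = W := le_antisymm inf_le_left h
      rw [← this]; exact hc
    obtain ⟨B₂, hB₂E, hB₂i, hB₂n⟩ :=
      Cfsg.Agent.Lib.Helper8.exists_index_p_centralizer_not_le p E W _ hEe hE1 hEW hcop hWC
    refine ⟨B₁ ⊓ B₂, inf_le_left.trans hB₁E, ?_, ?_⟩
    · intro h
      have h1 := Subgroup.relIndex_inf_le (H := B₁) (K := B₂) (L := E)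
      rw [h, Subgroup.relIndex_bot_left, hB₁i, hB₂i] at h1
      have : p * p = p ^ 2 := by ring
      omega
    · intro hcyc
      set D := W ⊓ Subgroup.centralizer ((B₁ ⊓ B₂ : Subgroup G) : Set G) with hD
      have hC₁D : W ⊓ Subgroup.centralizer (B₁ : Set G) ≤ D :=
        inf_le_inf_left _ (Subgroup.centralizer_le (by
          intro x hx; exact (show x ∈ B₁ ⊓ B₂ from hx).1))
      have hC₂D : W ⊓ Subgroup.centralizer (B₂ : Set G) ≤ D :=
        inf_le_inf_left _ (Subgroup.centralizer_le (by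
          intro x hx; exact (show x ∈ B₁ ⊓ B₂ from hx).2))
      have hDs : Nat.card D ∣ s := card_dvd_of_isCyclic_of_exp hcyc (fun w hw => hWe w hw.1)
      have hC₁card : Nat.card ↥(W ⊓ Subgroup.centralizer (B₁ : Set G)) ≠ 1 := by
        intro h
        apply hB₁n
        rw [Subgroup.card_eq_one.mp h]
      have hC₁dvd : Nat.card ↥(W ⊓ Subgroup.centralizer (B₁ : Set G)) ∣ Nat.card D :=
        Subgroup.card_dvd_of_le hC₁D
      have hC₁s : Nat.card ↥(W ⊓ Subgroup.centralizer (B₁ : Set G)) = s :=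
        ((Nat.dvd_prime hs).mp (hC₁dvd.trans hDs)).resolve_left hC₁card
      have hDcard : Nat.card D = s := by
        rcases (Nat.dvd_prime hs).mp hDs with h | h
        · rw [h] at hC₁dvd
          have := Nat.dvd_one.mp hC₁dvd
          exact absurd this hC₁card
        · exact h
      have hEq : W ⊓ Subgroup.centralizer (B₁ : Set G) = D :=
        Subgroup.eq_of_le_of_card_ge hC₁D (by rw [hC₁s, hDcard])
      exact hB₂n (hEq ▸ hC₂D)
  · exact ⟨B₁, hB₁E, hB₁ne, hc⟩

/-- Step (2d): some `a₀ ∈ E#` has `C_G(a₀) ≤ H`. -/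
theorem exists_centralizer_le [Finite G] [IsSimpleGroup G] (hnc : ¬ IsMulCommutative G)
    {p s : ℕ} [Fact p.Prime] (hs : s.Prime)
    {E W H : Subgroup G} (hEe : Cfsg.IsElementaryAbelian p E) (hEcard : p ^ 2 < Nat.card E)
    (hEW : E ≤ Subgroup.normalizer (W : Set G)) (hcop : (Nat.card E).Coprime (Nat.card W))
    (hWnc : ¬ IsCyclic ↥W) (hWe : ∀ w ∈ W, w ^ s = 1)
    (huniq : ∀ Y : Subgroup G, Y ≤ W → ¬ IsCyclic ↥Y → ∀ M : Subgroup G, IsCoatom M → Y ≤ M →
      M = H) :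
    ∃ a ∈ E, a ≠ 1 ∧ Subgroup.centralizer ({a} : Set G) ≤ H := by
  obtain ⟨B, hBE, hBne, hBnc⟩ :=
    exists_noncyclic_inf_centralizer hs hEe hEcard hEW hcop hWnc hWe
  obtain ⟨a, ha1⟩ := (Subgroup.ne_bot_iff_exists_ne_one).mp hBne
  have ha1' : (a : G) ≠ 1 := fun h => ha1 (Subtype.ext h)
  refine ⟨a, hBE a.2, ha1', ?_⟩
  obtain ⟨M, hM, hCM⟩ := exists_coatom_ge (centralizer_singleton_ne_top ha1' hnc)
  have hYM : W ⊓ Subgroup.centralizer (B : Set G) ≤ M := by
    refine le_trans ?_ hCM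
    refine inf_le_right.trans (Subgroup.centralizer_le ?_)
    intro x hx
    rw [Set.mem_singleton_iff] at hx
    subst hx
    exact a.2
  have := huniq _ inf_le_left hBnc M hM hYM
  exact this ▸ hCM

end Cfsg.Agent.Lib.Helper19.BG95
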