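/-
helper19: `G`-level form of the host lemma (notes/bg95/PROOF.md, 2a), from helper9's `exists_host`.
-/
import Mathlib
import Cfsg.Agent.Lib.Helper9.BG95Host
import Cfsg.Agent.Lib.Helper9.Basic
import Cfsg.Agent.Lib.Helper16.StabChain
import Cfsg.Agent.Lib.Helper1.Coprime

set_option autoImplicit false

namespace Cfsg.Agent.Lib.Helper19.BG95

variable {G : Type*} [Group G]

theorem not_isCyclic_map_subtype {S : Subgroup G} {W : Subgroup ↥S} (h : ¬ IsCyclic ↥W) :
    ¬ IsCyclic ↥(W.map S.subtype) := by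
  intro hc
  apply h
  exact isCyclic_of_surjective (W.equivMapOfInjective S.subtype S.subtype_injective).symm
    (W.equivMapOfInjective S.subtype S.subtype_injective).symm.surjective

theorem not_isCyclic_comap_subtype {S Y : Subgroup G} (hYS : Y ≤ S) (h : ¬ IsCyclic ↥Y) :
    ¬ IsCyclic ↥(Y.subgroupOf S) := by
  intro hc
  apply h
  exact isCyclic_of_surjective (Subgroup.subgroupOfEquivOfLe hYS)
    (Subgroup.subgroupOfEquivOfLe hYS).surjective

/-- The host lemma inside `G`. -/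
theorem exists_host_in [Finite G] {s : ℕ} [Fact s.Prime] (hs : s ≠ 2) {S : Subgroup G}
    (hS : IsPGroup s S) (hr : ¬ Cfsg.PRankLE s 2 ↥S) :
    ∃ W : Subgroup G, W ≤ S ∧
      Subgroup.normalizer (S : Set G) ≤ Subgroup.normalizer (W : Set G) ∧ ¬ IsCyclic ↥W ∧
      (∀ w ∈ W, w ^ s = 1) ∧
      (∀ w ∈ W, ∃ A' : Subgroup G, A' ≤ S ∧ (∀ a ∈ A', ∀ b ∈ A', a * b = b * a) ∧
        ¬ Cfsg.PRankLE s 2 ↥A' ∧ A' ≤ Subgroup.centralizer ({w} : Set G)) ∧
      (∀ Y : Subgroup G, Y ≤ W → ¬ IsCyclic ↥Y → ∃ Y₀ : Subgroup G, Y₀ ≤ Y ∧ ¬ IsCyclic ↥Y₀ ∧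
        ¬ Cfsg.PRankLE s 2 ↥(Subgroup.centralizer (Y₀ : Set G))) := by
  obtain ⟨W, hWc, hWnc, hWe, hW2, hW3⟩ :=
    Cfsg.Agent.Lib.Helper9.BG95Host.exists_host (S := ↥S) s hs hS hr
  refine ⟨W.map S.subtype, Subgroup.map_subtype_le _, ?_, not_isCyclic_map_subtype hWnc, ?_, ?_, ?_⟩
  · intro x hx
    apply Cfsg.Agent.Lib.Helper1.mem_normalizer_of_forall_conj_mem
    intro c hc
    exact Cfsg.Agent.Lib.Helper16.conj_mem_map_of_characteristic W hx hc
  · rintro _ ⟨w, hw, rfl⟩
    have := congrArg Subtype.val (hWe w hw)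
    simpa using this
  · rintro _ ⟨w, hw, rfl⟩
    obtain ⟨A', hA'c, hA'r, hA'w⟩ := hW2 w hw
    refine ⟨A'.map S.subtype, Subgroup.map_subtype_le _, ?_, ?_, ?_⟩
    · rintro _ ⟨a, ha, rfl⟩ _ ⟨b, hb, rfl⟩
      have := hA'c.is_comm.comm (⟨a, ha⟩ : A') ⟨b, hb⟩
      have h2 : a * b = b * a := congrArg Subtype.val this
      exact congrArg Subtype.val h2
    · rw [Cfsg.Agent.Lib.Helper9.pRankLE_map_subtype]; exact hA'r
    · rintro _ ⟨a, ha, rfl⟩
      rw [Subgroup.mem_centralizer_iff]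
      intro y hy
      rw [Set.mem_singleton_iff] at hy
      subst hy
      have h1 := Subgroup.mem_centralizer_iff.mp (hA'w ha) w (Set.mem_singleton w)
      exact congrArg Subtype.val h1
  · intro Y hYW hYnc
    have hYS : Y ≤ S := hYW.trans (Subgroup.map_subtype_le _)
    have hY'W : Y.subgroupOf S ≤ W := by
      intro y hy
      rw [Subgroup.mem_subgroupOf] at hy
      obtain ⟨w, hw, hwy⟩ := hYW hy
      have : w = y := Subtype.ext hwy
      rw [← this]; exact hw
    obtain ⟨Y₀, hY₀Y, hY₀nc, hY₀r⟩ := hW3 (Y.subgroupOf S) hY'W (not_isCyclic_comap_subtype hYS hYnc)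
    refine ⟨Y₀.map S.subtype, ?_, not_isCyclic_map_subtype hY₀nc, ?_⟩
    · rintro _ ⟨y, hy, rfl⟩
      exact Subgroup.mem_subgroupOf.mp (hY₀Y hy)
    · intro hle
      apply hY₀r
      -- the centralizer in `S` embeds in the centralizer in `G`
      let f : ↥(Subgroup.centralizer (Y₀ : Set ↥S)) →* ↥(Subgroup.centralizer ((Y₀.map S.subtype : Subgroup G) : Set G)) :=
        { toFun := fun x => ⟨((x : ↥S) : G), by
            rw [Subgroup.mem_centralizer_iff]
            rintro _ ⟨y, hy, rfl⟩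
            have h1 := Subgroup.mem_centralizer_iff.mp x.2 y hy
            exact congrArg Subtype.val h1⟩
          map_one' := rfl
          map_mul' := fun _ _ => rfl }
      have hf : Function.Injective f := by
        intro a b hab
        have h1 : ((f a : ↥(Subgroup.centralizer ((Y₀.map S.subtype : Subgroup G) : Set G))) : G) =
            (f b : G) := by rw [hab]
        exact Subtype.ext (Subtype.ext h1)
      exact Cfsg.Agent.Lib.Helper9.pRankLE_of_injective f hf s 2 hle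

end Cfsg.Agent.Lib.Helper19.BG95
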