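/-
helper19: S1402 (B&G 9.5), piece (D), part 3: steps (2f), (2g) and the construction of `TypeII`.
See notes/bg95/PROOF.md.
-/
import Mathlib
import Cfsg.Agent.Lib.Helper19.BG95D2
import Cfsg.Agent.Lib.Helper19.BG95HostG
import Cfsg.Agent.Lib.Helper17.BGTrans4
import Cfsg.Agent.S1393
import Cfsg.Agent.S1395

set_option autoImplicit false

namespace Cfsg.Agent.Lib.Helper19.BG95

open Cfsg.Agent.Lib.Helper17 Cfsg.Agent.Lib.Helper17.BGU
open Cfsg.Agent.Lib.Helper8 (mem_map_conj conj_mem_map_conj map_conj_map_conj map_conj_one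
  map_conj_le_iff map_conj_eq_iff card_map_conj mem_normalizer_iff_map_conj)

variable {G : Type*} [Group G]

/-- Step (2f): all `A`-invariant `s`-subgroups lie in `H`, and so do the normalizers of the maximal
ones. -/
theorem inv_le_of [Finite G] (hG : Cfsg.IsMinSimpleOddOrder G) {p : ℕ} [Fact p.Prime]
    (P : Sylow p G) {A : Subgroup G} (hA : Cfsg.IsSCN (P : Subgroup G) A)
    (hA3 : ¬ Cfsg.PRankLE p 2 ↥A) {H : Subgroup G} (hH : IsCoatom H) (hAH : A ≤ H)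
    {s : ℕ} [Fact s.Prime] (hsp : s ≠ p)
    (hSw : ¬ Cfsg.PRankLE s 2 ↥(Cfsg.pCoreOf s H))
    (hG2 : ∀ R : Subgroup G, IsPGroup s R → ¬ Cfsg.PRankLE s 2 ↥R → Cfsg.InUniqueMaximal R)
    (hK : ∀ Y : Subgroup G, (Nat.card Y).Coprime p → Y ≤ Subgroup.centralizer (A : Set G) →
      Y ≤ H) :
    (∀ T ∈ Cfsg.maxInvSubgroups ⊤ A {s}, Subgroup.normalizer (T : Set G) ≤ H) ∧
    (∀ T : Subgroup G, IsPGroup s T → A ≤ Subgroup.normalizer (T : Set G) → T ≤ H) := by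
  have hsimple : IsSimpleGroup G := hG.2.1
  have hnc := hG.2.2.1
  have hpp : p.Prime := Fact.out
  have hs : s.Prime := Fact.out
  obtain ⟨hAp, hAne, hpA, hAtr, hZ⟩ := scn_three_facts hG P hA hA3
  obtain ⟨kA, hkA⟩ := IsPGroup.iff_card.mp hAp
  have hsA : ¬ s ∣ Nat.card A := by
    rw [hkA]
    intro h
    exact hsp ((Nat.prime_dvd_prime_iff_eq hs hpp).mp (hs.dvd_of_dvd_pow h))
  have htr := Cfsg.Agent.S1393.result hG A hAtr hZ s hs hsA
  set S := Cfsg.pCoreOf s H with hSdef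
  have hSp : IsPGroup s S := PrimeAct.pCoreOf_isPGroup s H
  have hSH : S ≤ H := PrimeAct.pCoreOf_le s H
  have hAS : A ≤ Subgroup.normalizer (S : Set G) := hAH.trans (le_normalizer_pCoreOf s H)
  have hSU : Cfsg.InUniqueMaximal S := hG2 S hSp hSw
  obtain ⟨S', hS', hSS'⟩ := exists_maxInv_ge ((mem_invq_iff hs).mpr ⟨hSp, hAS⟩)
  have hS'p : IsPGroup s S' := ((mem_invq_iff hs).mp hS'.1).1
  have hS'top : S' ≠ ⊤ := isPGroup_ne_top hnc hS'p
  have hS'bot : S' ≠ ⊥ := by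
    intro h
    apply hSw
    have : S = ⊥ := le_bot_iff.mp (h ▸ hSS')
    rw [this]
    intro E _ _
    have : Nat.card E = 1 := by
      have : Subsingleton ↥(⊥ : Subgroup G) := inferInstance
      exact Nat.card_eq_one_iff_unique.mpr ⟨inferInstance, ⟨1⟩⟩
    rw [this]
    exact Nat.one_le_pow _ _ hs.pos
  have hNS' : Subgroup.normalizer (S' : Set G) ≤ H := by
    obtain ⟨M, hM, hNM⟩ := exists_coatom_ge (normalizer_ne_top hS'bot hS'top)
    have hSM : S ≤ M := hSS'.trans (Subgroup.le_normalizer.trans hNM)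
    have := eq_of_inUniqueMaximal hSU hH hSH hM hSM
    exact this ▸ hNM
  have hKH : bgK A ≤ H := by
    apply hK _ _ (bgK_le_centralizer A)
    exact (Nat.Coprime.coprime_dvd_left hpA (coprime_card_piCoreOf A _)).symm
  have hmax : ∀ T ∈ Cfsg.maxInvSubgroups ⊤ A {s}, Subgroup.normalizer (T : Set G) ≤ H := by
    intro T hT
    obtain ⟨k, hk, rfl⟩ := htr S' hS' T hT
    intro x hx
    rw [mem_normalizer_map_conj_iff] at hx
    have hkH : k ∈ H := hKH hk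
    have h1 := hNS' hx
    have : x = k * (k⁻¹ * x * k) * k⁻¹ := by group
    rw [this]
    exact H.mul_mem (H.mul_mem hkH h1) (H.inv_mem hkH)
  refine ⟨hmax, fun T hTp hAT => ?_⟩
  obtain ⟨T', hT', hTT'⟩ := exists_maxInv_ge ((mem_invq_iff hs).mpr ⟨hTp, hAT⟩)
  exact hTT'.trans (Subgroup.le_normalizer.trans (hmax T' hT'))

/-- Step (2g): normalizers of `p`-subgroups containing `A` lie in `H`. -/
theorem norm_le_of [Finite G] (hG : Cfsg.IsMinSimpleOddOrder G) {p : ℕ} [Fact p.Prime]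
    (P : Sylow p G) {A : Subgroup G} (hA : Cfsg.IsSCN (P : Subgroup G) A)
    (hA3 : ¬ Cfsg.PRankLE p 2 ↥A) {H : Subgroup G}
    {s : ℕ} [Fact s.Prime] (hsp : s ≠ p)
    (hmax : ∀ T ∈ Cfsg.maxInvSubgroups ⊤ A {s}, Subgroup.normalizer (T : Set G) ≤ H)
    (hK : ∀ Y : Subgroup G, (Nat.card Y).Coprime p → Y ≤ Subgroup.centralizer (A : Set G) →
      Y ≤ H) :
    ∀ Q : Subgroup G, IsPGroup p Q → A ≤ Q → Subgroup.normalizer (Q : Set G) ≤ H := by
  have hsimple : IsSimpleGroup G := hG.2.1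
  have hnc := hG.2.2.1
  have hpp : p.Prime := Fact.out
  have hs : s.Prime := Fact.out
  obtain ⟨hAp, hAne, hpA, hAtr, hZ⟩ := scn_three_facts hG P hA hA3
  obtain ⟨kA, hkA⟩ := IsPGroup.iff_card.mp hAp
  have hsA : ¬ s ∣ Nat.card A := by
    rw [hkA]
    intro h
    exact hsp ((Nat.prime_dvd_prime_iff_eq hs hpp).mp (hs.dvd_of_dvd_pow h))
  have htr := Cfsg.Agent.S1393.result hG A hAtr hZ s hs hsA
  have hKH : bgK A ≤ H := by
    apply hK _ _ (bgK_le_centralizer A)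
    exact (Nat.Coprime.coprime_dvd_left hpA (coprime_card_piCoreOf A _)).symm
  intro Q hQp hAQ
  have hQtop : Q ≠ ⊤ := isPGroup_ne_top hnc hQp
  have hQπ : ∀ r : ℕ, r.Prime → r ∣ Nat.card Q → r ∣ Nat.card A := by
    intro r hr hrQ
    obtain ⟨kQ, hkQ⟩ := IsPGroup.iff_card.mp hQp
    rw [hkQ] at hrQ
    have : r = p := (Nat.prime_dvd_prime_iff_eq hr hpp).mp (hr.dvd_of_dvd_pow hrQ)
    rw [this]; exact hpA
  have hsn : (A.subgroupOf Q).IsSubnormal := by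
    haveI : Group.IsNilpotent ↥Q := hQp.isNilpotent
    exact isSubnormal_of_isNilpotent _ _ rfl
  have h95 := Cfsg.Agent.S1395.result hG A hAtr s hs hsA Q hQtop hQπ hAQ hsn htr
  obtain ⟨ha, -, hc, hd⟩ := h95
  obtain ⟨Q₁, hQ₁, -⟩ := exists_maxInv_ge (bot_mem_invSubgroups Q {s})
  have hQ₁A : Q₁ ∈ Cfsg.maxInvSubgroups ⊤ A {s} := hc hQ₁
  have hNQ₁ := hmax Q₁ hQ₁A
  rw [(hd Q₁ hQ₁).2]
  apply sup_le
  · rw [← ha]
    exact inf_le_left.trans hKH
  · exact inf_le_right.trans hNQ₁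

end Cfsg.Agent.Lib.Helper19.BG95
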