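/-
helper19: S1402 (B&G 9.5), piece (D): construction of the `TypeII` facts for a maximal subgroup
`H ∈ ℳ(A)` whose Fitting subgroup has rank at least three.  See notes/bg95/PROOF.md (2a–2g).
-/
import Mathlib
import Cfsg.Agent.Lib.Helper19.BG95D3

set_option autoImplicit false

namespace Cfsg.Agent.Lib.Helper19.BG95

open Cfsg.Agent.Lib.Helper17 Cfsg.Agent.Lib.Helper17.BGU

variable {G : Type*} [Group G]

/-- Piece (D): a type II maximal subgroup containing `A` satisfies `TypeII`. -/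
theorem exists_typeII [Finite G] (hG : Cfsg.IsMinSimpleOddOrder G) {p : ℕ} [Fact p.Prime]
    (P : Sylow p G) {A : Subgroup G} (hA : Cfsg.IsSCN (P : Subgroup G) A)
    (hA3 : ¬ Cfsg.PRankLE p 2 ↥A)
    (h0 : ∀ M : Subgroup G, IsCoatom M → Cfsg.PRankLE p 2 ↥(Cfsg.fittingOf M))
    {H : Subgroup G} (hH : IsCoatom H) (hAH : A ≤ H)
    (hII : ¬ Cfsg.RankLE 2 ↥(Cfsg.fittingOf H)) :
    ∃ (s : ℕ) (W : Subgroup G), TypeII p A H s W := by
  have hsimple : IsSimpleGroup G := hG.2.1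
  have hnc := hG.2.2.1
  have hpp : p.Prime := Fact.out
  obtain ⟨hAp, hAne, hpA, hAtr, hZ⟩ := scn_three_facts hG P hA hA3
  unfold Cfsg.RankLE at hII
  push Not at hII
  obtain ⟨s, hs, hF⟩ := hII
  haveI : Fact s.Prime := ⟨hs⟩
  have hsp : s ≠ p := by
    rintro rfl
    exact hF (h0 H hH)
  obtain ⟨hG1, hG2, hG3⟩ := good_prime_facts hG hH hF
  have hs2 : s ≠ 2 := prime_ne_two_of_odd hG (dvd_card_of_not_pRankLE hs hF)
  set S := Cfsg.pCoreOf s H with hSdef
  have hSp : IsPGroup s S := PrimeAct.pCoreOf_isPGroup s H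
  have hSH : S ≤ H := PrimeAct.pCoreOf_le s H
  have hSw : ¬ Cfsg.PRankLE s 2 ↥S := by
    obtain ⟨E₀, hE₀F, hE₀c, hE₀e, hE₀card⟩ := exists_elemAb_of_not_pRankLE hF
    exact not_pRankLE_of_elemAb (le_pCoreOf_of_le_fittingOf hE₀F (isPGroup_of_exp hE₀e))
      hE₀c hE₀e hE₀card
  obtain ⟨W, hWS, hNW, hWnc, hWe, hW2, hW3⟩ := exists_host_in hs2 hSp hSw
  have hHW : H ≤ Subgroup.normalizer (W : Set G) := (le_normalizer_pCoreOf s H).trans hNW
  have hWp : IsPGroup s W := hSp.to_le hWS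
  have hcent : ∀ w ∈ W, w ≠ 1 → Subgroup.centralizer ({w} : Set G) ≤ H := by
    intro w hw hw1
    obtain ⟨A', hA'S, hA'c, hA'3, hA'w⟩ := hW2 w hw
    have hA'U := hG1 A' (hSp.to_le hA'S) (isMulCommutative_of_comm hA'c) hA'3
    obtain ⟨M, hM, hCM⟩ := exists_coatom_ge (centralizer_singleton_ne_top hw1 hnc)
    have := eq_of_inUniqueMaximal hA'U hH (hA'S.trans hSH) hM (hA'w.trans hCM)
    exact this ▸ hCM
  have huniq : ∀ Y : Subgroup G, Y ≤ W → ¬ IsCyclic ↥Y → ∀ M : Subgroup G, IsCoatom M → Y ≤ M →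
      M = H := by
    intro Y hYW hYnc M hM hYM
    obtain ⟨Y₀, hY₀Y, hY₀nc, hY₀3⟩ := hW3 Y hYW hYnc
    have hY₀U := hG3 Y₀ (hWp.to_le (hY₀Y.trans hYW)) hY₀nc hY₀3
    exact eq_of_inUniqueMaximal hY₀U hH (hY₀Y.trans (hYW.trans (hWS.trans hSH))) hM
      (hY₀Y.trans hYM)
  -- step (2d)
  obtain ⟨E, hEA, hEc, hEe, hEcard⟩ := exists_elemAb_of_not_pRankLE hA3
  have hEel : Cfsg.IsElementaryAbelian p E := ⟨isMulCommutative_of_comm hEc, hEe⟩
  have hEW : E ≤ Subgroup.normalizer (W : Set G) := hEA.trans (hAH.trans hHW)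
  have hcop : (Nat.card E).Coprime (Nat.card W) := by
    obtain ⟨kE, hkE⟩ := IsPGroup.iff_card.mp (hAp.to_le hEA)
    obtain ⟨kW, hkW⟩ := IsPGroup.iff_card.mp hWp
    rw [hkE, hkW]
    apply Nat.Coprime.pow
    exact (Nat.coprime_primes hpp hs).mpr (Ne.symm hsp)
  obtain ⟨a, haE, ha1, haH⟩ :=
    exists_centralizer_le hnc hs hEel hEcard hEW hcop hWnc hWe huniq
  have hK : ∀ Y : Subgroup G, (Nat.card Y).Coprime p → Y ≤ Subgroup.centralizer (A : Set G) →
      Y ≤ H := by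
    intro Y _ hYA
    refine hYA.trans (le_trans (Subgroup.centralizer_le ?_) haH)
    intro x hx
    rw [Set.mem_singleton_iff] at hx
    subst hx
    exact hEA haE
  obtain ⟨hmax, hinv⟩ := inv_le_of hG P hA hA3 hH hAH hsp hSw hG2 hK
  have hnorm := norm_le_of hG P hA hA3 hsp hmax hK
  exact ⟨s, W,
    { coatom := hH
      A_le := hAH
      s_prime := hs
      s_ne := hsp
      W_le := hWS.trans hSH
      W_pgroup := hWp
      W_inv := hAH.trans hHW
      W_nc := hWnc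
      S_wide := hSw
      W_le_S := hWS
      W_norm := hHW
      W_exp := hWe
      ab_uniq := hG1
      nc_uniq := hG3
      cent_le := hcent
      uniq_nc := huniq
      cent_A_le := hK
      inv_le := hinv
      wide_uniq := fun R hRp hR3 hRH M hM hRM =>
        eq_of_inUniqueMaximal (hG2 R hRp hR3) hH hRH hM hRM
      norm_le := hnorm }⟩

end Cfsg.Agent.Lib.Helper19.BG95
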