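/-
helper19: Bender–Glauberman Lemma 12.3 (Block G of notes/bg11/PLAN.md), in hypothesis form.

`M ≠ H` maximal subgroups of a minimal simple group of odd order, `A ≤ M ∩ H` elementary abelian
of order `p²`, `A₀ ≤ A` of order `p` with `N_G(A₀) ≤ H`.  Then
(a) `p ∉ σ(M)`  ⇒  `A` centralizes `M_σ ∩ H`;
(b) `p ∉ α(M)`  ⇒  `A` centralizes `M_α ∩ H`.

The two facts about exceptional maximal subgroups used (B&G 11.7 and the weak form of 11.4) are
the hypotheses `H117 G p`, `H114 G p`; they are discharged in a later file from helper8's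
`Lib/Helper8/BGEx*.lean`.
-/
import Mathlib
import Cfsg.Agent.Lib.Helper8.BGEx0
import Cfsg.Agent.Lib.Helper8.Conj
import Cfsg.Agent.Lib.Helper17.BGUniqG
import Cfsg.Agent.Lib.Helper1.BGX6
import Cfsg.Agent.Lib.Helper1.BG36R3
import Cfsg.Agent.Lib.Helper2.BGCorC
import Cfsg.Agent.Lib.Helper23.BGY2
import Cfsg.Agent.Lib.Helper19.Index
import Cfsg.Agent.S0027
import Cfsg.Agent.S1350
import Cfsg.Agent.S1403
import Cfsg.Agent.S1404
import Cfsg.Agent.S1405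
import Cfsg.Agent.S1414

set_option autoImplicit false
set_option linter.unusedSectionVars false
open scoped Pointwise commutatorElement

namespace Cfsg.Agent.Lib.Helper19.BG123

open Cfsg Subgroup Cfsg.Agent.Lib.Helper8.BGEx
open Cfsg.Agent.Lib.Helper8 (mem_map_conj conj_mem_map_conj map_conj_map_conj map_conj_one
  map_conj_le_iff map_conj_eq_iff card_map_conj mem_normalizer_iff_map_conj sylow_smul_coe)
open Cfsg.Agent.Lib.Helper1.BGX

variable {G : Type*} [Group G]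

/-- B&G 11.7 for all exceptional data at the prime `p`. -/
def H117 (G : Type*) [Group G] (p : ℕ) : Prop :=
  ∀ H A A₀ : Subgroup G, Exc H p A A₀ →
    H ≤ normalizer ((Cfsg.sigmaCore H ⊔ A : Subgroup G) : Set G)

/-- B&G 11.4 (weak form) for all exceptional data at the prime `p`. -/
def H114 (G : Type*) [Group G] (p : ℕ) : Prop :=
  ∀ H A A₀ : Subgroup G, Exc H p A A₀ → ∀ M : Subgroup G, IsCoatom M → A ≤ M →
    Cfsg.sigmaCore M ⊓ Cfsg.sigmaCore H ≠ ⊥ → M = H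

/-- A subgroup `X ≤ T` normalizing `N ≤ T`, of order prime to `|T : N|`, lies in `N`. -/
theorem le_of_coprime_relIndex [Finite G] {N X T : Subgroup G} (hNT : N ≤ T) (hXT : X ≤ T)
    (hXN : X ≤ normalizer (N : Set G)) (hcop : (Nat.card X).Coprime (N.relIndex T)) : X ≤ N := by
  have h1 : N.relIndex (X ⊔ N) = N.relIndex X :=
    Cfsg.Agent.Lib.Helper19.relIndex_sup_of_le_normalizer X N hXN
  have h2 : N.relIndex (X ⊔ N) ∣ N.relIndex T := by
    have := Subgroup.relIndex_mul_relIndex N (X ⊔ N) T le_sup_right (sup_le hXT hNT)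
    exact Dvd.intro _ this
  have h3 : N.relIndex X ∣ Nat.card X := Subgroup.relIndex_dvd_card N X
  have h4 : N.relIndex X = 1 :=
    Nat.eq_one_of_dvd_coprimes hcop h3 (h1 ▸ h2)
  exact Subgroup.relIndex_eq_one.mp h4

/-- type-level version: a subgroup of order prime to the index of the normal subgroup `N` lies in
`N`. -/
theorem le_of_coprime_index {X : Type*} [Group X] [Finite X] (N : Subgroup X) [N.Normal]
    (Y : Subgroup X) (hcop : (Nat.card Y).Coprime N.index) : Y ≤ N := by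
  have h := le_of_coprime_relIndex (N := N) (X := Y) (T := ⊤) le_top le_top
    (by rw [Subgroup.normalizer_eq_top]; exact le_top) (by rwa [Subgroup.relIndex_top_right])
  exact h

section Main

variable [Finite G]

/-- a `σ(H)`-subgroup of `H` lies in `H_σ`. -/
theorem le_sigmaCore_of_primes (hG : Cfsg.IsMinSimpleOddOrder G) {H : Subgroup G}
    (hH : IsCoatom H) {X : Subgroup G} (hXH : X ≤ H)
    (hX : ∀ r : ℕ, r.Prime → r ∣ Nat.card X → r ∈ Cfsg.sigma H) : X ≤ Cfsg.sigmaCore H := by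
  obtain ⟨⟨hle, -, hidx⟩, -, -⟩ := Cfsg.Agent.S1350.result hG H hH
  apply le_of_coprime_relIndex hle hXH
    (hXH.trans (Cfsg.Agent.Lib.Helper23.BGY.le_normalizer_sigmaCore H))
  apply Nat.coprime_of_dvd
  intro r hr h1 h2
  exact hidx r hr (hX r hr h1) h2

/-- the primes dividing `|M_σ ∩ H|`, or the order of any subgroup of `M_σ`, lie in `σ(M)`. -/
theorem mem_sigma_of_dvd_card_le {M X : Subgroup G} (hX : X ≤ Cfsg.sigmaCore M) {r : ℕ}
    (hr : r.Prime) (h : r ∣ Nat.card X) : r ∈ Cfsg.sigma M :=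
  Cfsg.Agent.Lib.Helper2.BGCor.primes_card_sigmaCore M r hr (h.trans (Subgroup.card_dvd_of_le hX))

theorem mem_alpha_of_dvd_card_le {M X : Subgroup G} (hX : X ≤ Cfsg.alphaCore M) {r : ℕ}
    (hr : r.Prime) (h : r ∣ Nat.card X) : r ∈ Cfsg.alpha M := by
  have hc : Nat.card (Cfsg.alphaCore M) = Nat.card (Cfsg.piCore (Cfsg.alpha M) ↥M) :=
    Subgroup.card_map_of_injective M.subtype_injective
  have h1 := h.trans (Subgroup.card_dvd_of_le hX)
  rw [hc] at h1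
  exact Cfsg.Agent.Lib.Helper12.piCore_mem _ r hr h1

theorem UT_of (hG : Cfsg.IsMinSimpleOddOrder G) : UT G :=
  fun K hK hK2 hK3 => Cfsg.Agent.S1403.result hG K hK hK2 hK3

/-- Two maximal subgroups containing Sylow `q`-subgroups of `G`, of `q`-rank at least 3, are
conjugate. -/
theorem exists_conj_eq_of_rank_three (hG : Cfsg.IsMinSimpleOddOrder G) {M H : Subgroup G}
    (hM : IsCoatom M) (hH : IsCoatom H) {q : ℕ} [Fact q.Prime] (SM : Sylow q G)
    (hSM : (SM : Subgroup G) ≤ M) (SH : Sylow q G) (hSH : (SH : Subgroup G) ≤ H)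
    (hr : ¬ Cfsg.PRankLE q 2 G) : ∃ g : G, cj g M = H := by
  obtain ⟨L, -, hLuniq⟩ := sylow_inUniqueMaximal hG (UT_of hG) SH hr
  obtain ⟨g, hg⟩ := MulAction.exists_smul_eq G SM SH
  refine ⟨g, ?_⟩
  have h1 : (SH : Subgroup G) ≤ cj g M := by
    rw [← hg, sylow_smul_coe]
    exact Subgroup.map_mono hSM
  rw [hLuniq (cj g M) ⟨Cfsg.Agent.Lib.Helper17.BGU.isCoatom_map_conj g hM, h1⟩,
    hLuniq H ⟨hH, hSH⟩]

/-- conjugation by an element of `H` fixes `H`. -/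
theorem cj_eq_self_of_mem {H : Subgroup G} {g : G} (hg : g ∈ H) : cj g H = H :=
  mem_normalizer_iff_map_conj.mp (Subgroup.le_normalizer hg)

/-- `p ∈ σ(H)`, `1 ≠ A₀ ≤ M ∩ H` a `p`-group with `C_G(A₀) ≤ H`: a conjugate `H` of `M` equals `M`. -/
theorem eq_of_conj_of_mem_sigma_right (hG : Cfsg.IsMinSimpleOddOrder G) {M H : Subgroup G}
    (hH : IsCoatom H) {p : ℕ} [Fact p.Prime] (hp : p ∈ Cfsg.sigma H) {A₀ : Subgroup G}
    (hA₀p : IsPGroup p A₀) (hA₀1 : A₀ ≠ ⊥) (hA₀M : A₀ ≤ M) (hA₀H : A₀ ≤ H)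
    (hC : centralizer (A₀ : Set G) ≤ H) {g : G} (hg : cj g M = H) : M = H := by
  have h1 : A₀.map (MulAut.conj g).toMonoidHom ≤ H := by
    rw [← hg]; exact Subgroup.map_mono hA₀M
  obtain ⟨m, hm, c, hc, rfl⟩ := (Cfsg.Agent.S1404.result hG H hH p hp A₀ hA₀p hA₀1 hA₀H).1 g h1
  have hgH : m * c ∈ H := H.mul_mem hm (hC hc)
  have h2 : M = cj (m * c)⁻¹ H := map_conj_eq_iff.mp hg
  rw [h2, cj_eq_self_of_mem (H.inv_mem hgH)]

/-- `p ∈ σ(M)`, `1 ≠ A₀ ≤ M ∩ H` a `p`-group with `C_G(A₀) ≤ H`: a conjugate `H` of `M` equals `M`. -/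
theorem eq_of_conj_of_mem_sigma_left (hG : Cfsg.IsMinSimpleOddOrder G) {M H : Subgroup G}
    (hM : IsCoatom M) {p : ℕ} [Fact p.Prime] (hp : p ∈ Cfsg.sigma M) {A₀ : Subgroup G}
    (hA₀p : IsPGroup p A₀) (hA₀1 : A₀ ≠ ⊥) (hA₀M : A₀ ≤ M) (hA₀H : A₀ ≤ H)
    (hC : centralizer (A₀ : Set G) ≤ H) {g : G} (hg : cj g M = H) : M = H := by
  have h0 : M = cj g⁻¹ H := map_conj_eq_iff.mp hg
  have h1 : A₀.map (MulAut.conj g⁻¹).toMonoidHom ≤ M := by
    rw [h0]; exact Subgroup.map_mono hA₀H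
  obtain ⟨m, hm, c, hc, hmc⟩ :=
    (Cfsg.Agent.S1404.result hG M hM p hp A₀ hA₀p hA₀1 hA₀M).1 g⁻¹ h1
  have hcH : c ∈ H := hC hc
  -- `g = c⁻¹ m⁻¹`, so `H = cj g M = cj c⁻¹ M`
  have hg' : g = c⁻¹ * m⁻¹ := by
    have : g = (g⁻¹)⁻¹ := (inv_inv g).symm
    rw [this, hmc]; group
  have h2 : cj g M = cj c⁻¹ M := by
    rw [hg']
    show M.map (MulAut.conj (c⁻¹ * m⁻¹)).toMonoidHom = M.map (MulAut.conj c⁻¹).toMonoidHom
    rw [← map_conj_map_conj]
    have := cj_eq_self_of_mem (M.inv_mem hm)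
    unfold cj at this
    rw [this]
  rw [h2] at hg
  have h3 : M = cj (c⁻¹)⁻¹ H := map_conj_eq_iff.mp hg
  rw [h3, inv_inv, cj_eq_self_of_mem hcH]

/-- the `p'`-subgroups of `H_σ A` lie in `H_σ` (for `A` a `p`-group normalizing `H_σ`). -/
theorem le_sigmaCore_of_le_sup {H A X : Subgroup G} {p : ℕ} (hpp : p.Prime)
    (hAp : IsPGroup p A) (hAH : A ≤ normalizer ((Cfsg.sigmaCore H : Subgroup G) : Set G))
    (hX : X ≤ Cfsg.sigmaCore H ⊔ A) (hXp : (Nat.card X).Coprime p) : X ≤ Cfsg.sigmaCore H := by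
  have hnorm : Cfsg.sigmaCore H ⊔ A ≤ normalizer ((Cfsg.sigmaCore H : Subgroup G) : Set G) :=
    sup_le Subgroup.le_normalizer hAH
  apply le_of_coprime_relIndex (T := Cfsg.sigmaCore H ⊔ A) le_sup_left hX (hX.trans hnorm)
  haveI : Fact p.Prime := ⟨hpp⟩
  have h1 : (Cfsg.sigmaCore H).relIndex (Cfsg.sigmaCore H ⊔ A) = (Cfsg.sigmaCore H).relIndex A := by
    rw [sup_comm]
    exact Cfsg.Agent.Lib.Helper19.relIndex_sup_of_le_normalizer A _ hAH
  rw [h1]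
  obtain ⟨k, hk⟩ := IsPGroup.iff_card.mp hAp
  have h2 : (Cfsg.sigmaCore H).relIndex A ∣ p ^ k := hk ▸ Subgroup.relIndex_dvd_card _ A
  exact Nat.Coprime.coprime_dvd_right h2 (Nat.Coprime.pow_right k hXp)

/-- In `H_σ` with `q ∉ β(H)`: a `q'`-subgroup `A ≤ H_σ` and an `A`-invariant `X = [X, A] ≤ H_σ`
force `q ∤ |X|`. -/
theorem not_dvd_card_of_commutator_eq (hG : Cfsg.IsMinSimpleOddOrder G) {H : Subgroup G}
    (hH : IsCoatom H) {q : ℕ} (hq : q.Prime) (hqH : q ∣ Nat.card H) (hqβ : q ∉ Cfsg.beta H)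
    {A X : Subgroup G} (hA : A ≤ Cfsg.sigmaCore H) (hAq : (Nat.card A).Coprime q)
    (hX : X ≤ Cfsg.sigmaCore H) (hXA : ⁅X, A⁆ = X) : ¬ q ∣ Nat.card X := by
  haveI : Fact q.Prime := ⟨hq⟩
  obtain ⟨P, N, hNn, hNP⟩ := ((Cfsg.Agent.S1414.result hG H hH).2.2.2.2 q hq hqH hqβ).2.1
  haveI := hNn
  -- `A ≤ N'`
  have hidx : N.index = Nat.card (P : Subgroup ↥(Cfsg.sigmaCore H)) := by
    have := hNP.symm.index_eq_card
    exact this
  obtain ⟨k, hk⟩ := IsPGroup.iff_card.mp P.2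
  have hAN : A.subgroupOf (Cfsg.sigmaCore H) ≤ N := by
    apply le_of_coprime_index
    rw [hidx, hk, Cfsg.Agent.Lib.Helper1.card_subgroupOf_of_le hA]
    exact Nat.Coprime.pow_right k hAq
  have hAN' : A ≤ N.map (Cfsg.sigmaCore H).subtype := by
    rw [← Subgroup.map_subgroupOf_eq_of_le hA]
    exact Subgroup.map_mono hAN
  have hnorm : Cfsg.sigmaCore H ≤
      normalizer ((N.map (Cfsg.sigmaCore H).subtype : Subgroup G) : Set G) :=
    Cfsg.Agent.Lib.Helper23.BGY.le_normalizer_map_subtype _ N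
  have hXN : X ≤ N.map (Cfsg.sigmaCore H).subtype := by
    rw [← hXA]
    refine (Subgroup.commutator_mono hX hAN').trans ?_
    rw [Subgroup.commutator_comm]
    exact Cfsg.Agent.Lib.Helper1.commutator_le_of_le_normalizer hnorm
  intro hqX
  have h1 : q ∣ Nat.card N := by
    have := hqX.trans (Subgroup.card_dvd_of_le hXN)
    rwa [Subgroup.card_map_of_injective (Subgroup.subtype_injective _)] at this
  have h2 : (P : Subgroup ↥(Cfsg.sigmaCore H)).index = Nat.card N := hNP.index_eq_card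
  exact P.not_dvd_index (h2 ▸ h1)

/-- common part of 12.3(a),(b): `X = [D, A]` lies in `H_σ`, for `D ≤ H` an `A`-invariant
`p'`-subgroup. -/
theorem commutator_le_sigmaCore (hG : Cfsg.IsMinSimpleOddOrder G) {p : ℕ} [Fact p.Prime]
    (h117 : H117 G p) {H : Subgroup G} (hH : IsCoatom H) {A A₀ : Subgroup G} (hAH : A ≤ H)
    (hAe : Cfsg.IsElementaryAbelian p A) (hA2 : Nat.card A = p ^ 2) (hA₀ : A₀ ≤ A)
    (hA₀p : Nat.card A₀ = p) (hN : normalizer (A₀ : Set G) ≤ H)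
    {D : Subgroup G} (hDH : D ≤ H) (hAD : A ≤ normalizer (D : Set G))
    (hDp : (Nat.card D).Coprime p) : ⁅D, A⁆ ≤ Cfsg.sigmaCore H := by
  have hpp : p.Prime := Fact.out
  have hAp : IsPGroup p A := isPGroup_of_elemAb hAe
  have hnσ := Cfsg.Agent.Lib.Helper23.BGY.le_normalizer_sigmaCore H
  by_cases hpH : p ∈ Cfsg.sigma H
  · have hAσ : A ≤ Cfsg.sigmaCore H := le_sigmaCore_of_primes hG hH hAH (fun r hr hrA => by
      rw [hA2] at hrA
      have := (Nat.prime_dvd_prime_iff_eq hr hpp).mp (hr.dvd_of_dvd_pow hrA)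
      rw [this]; exact hpH)
    refine (Subgroup.commutator_mono hDH hAσ).trans ?_
    rw [Subgroup.commutator_comm]
    exact Cfsg.Agent.Lib.Helper1.commutator_le_of_le_normalizer hnσ
  · have hExc : Exc H p A A₀ := ⟨hH, hpp, hpH, hAH, hAe, hA2, hA₀, hA₀p, hN⟩
    have hn := h117 H A A₀ hExc
    have hX1 : ⁅D, A⁆ ≤ Cfsg.sigmaCore H ⊔ A := by
      refine (Subgroup.commutator_mono hDH (le_sup_right : A ≤ Cfsg.sigmaCore H ⊔ A)).trans ?_
      rw [Subgroup.commutator_comm]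
      exact Cfsg.Agent.Lib.Helper1.commutator_le_of_le_normalizer hn
    have hXD : ⁅D, A⁆ ≤ D := Cfsg.Agent.Lib.Helper1.commutator_le_of_le_normalizer hAD
    have hXp : (Nat.card (⁅D, A⁆ : Subgroup G)).Coprime p :=
      Nat.Coprime.coprime_dvd_left (Subgroup.card_dvd_of_le hXD) hDp
    exact le_sigmaCore_of_le_sup hpp hAp (hAH.trans hnσ) hX1 hXp

/-- **B&G 12.3(a)** (from 11.7 and the weak form of 11.4). -/
theorem thm12_3a_of (hG : Cfsg.IsMinSimpleOddOrder G) {p : ℕ} [Fact p.Prime]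
    (h117 : H117 G p) (h114 : H114 G p)
    {M H : Subgroup G} (hM : IsCoatom M) (hH : IsCoatom H) (hMH : M ≠ H)
    {A A₀ : Subgroup G} (hAM : A ≤ M) (hAH : A ≤ H) (hAe : Cfsg.IsElementaryAbelian p A)
    (hA2 : Nat.card A = p ^ 2) (hA₀ : A₀ ≤ A) (hA₀p : Nat.card A₀ = p)
    (hN : normalizer (A₀ : Set G) ≤ H)
    (hp : p ∉ Cfsg.sigma M) : Cfsg.sigmaCore M ⊓ H ≤ centralizer (A : Set G) := by
  have hpp : p.Prime := Fact.out
  have hAp : IsPGroup p A := isPGroup_of_elemAb hAe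
  have hA₀pg : IsPGroup p A₀ := hAp.to_le hA₀
  have hA₀1 : A₀ ≠ ⊥ := by
    rintro rfl
    rw [Subgroup.card_bot] at hA₀p
    exact hpp.one_lt.ne hA₀p
  obtain ⟨D, hD⟩ : ∃ D : Subgroup G, D = Cfsg.sigmaCore M ⊓ H := ⟨_, rfl⟩
  rw [← hD]
  have hDσ : D ≤ Cfsg.sigmaCore M := hD ▸ inf_le_left
  have hDH : D ≤ H := hD ▸ inf_le_right
  have hAD : A ≤ normalizer (D : Set G) := by
    rw [hD]
    exact Cfsg.Agent.Lib.Helper1.BG36R.le_normalizer_inf
      (hAM.trans (Cfsg.Agent.Lib.Helper23.BGY.le_normalizer_sigmaCore M))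
      (hAH.trans Subgroup.le_normalizer)
  have hDp : (Nat.card D).Coprime p := by
    rw [Nat.coprime_comm, Nat.Prime.coprime_iff_not_dvd hpp]
    intro h
    exact hp (mem_sigma_of_dvd_card_le hDσ hpp h)
  rw [← Subgroup.commutator_eq_bot_iff_le_centralizer]
  have hXσH : ⁅D, A⁆ ≤ Cfsg.sigmaCore H :=
    commutator_le_sigmaCore hG h117 hH hAH hAe hA2 hA₀ hA₀p hN hDH hAD hDp
  obtain ⟨X, hX⟩ : ∃ X : Subgroup G, X = ⁅D, A⁆ := ⟨_, rfl⟩
  rw [← hX] at hXσH ⊢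
  have hXD : X ≤ D := hX ▸ Cfsg.Agent.Lib.Helper1.commutator_le_of_le_normalizer hAD
  have hcopAD : (Nat.card A).Coprime (Nat.card D) := by
    rw [hA2]; exact Nat.Coprime.pow_left 2 hDp.symm
  have hXA : ⁅X, A⁆ = X := by
    rw [hX]
    have hAnil : Group.IsNilpotent ↥A := hAp.isNilpotent
    exact Cfsg.Agent.S0027.result A D hAD hcopAD (Or.inl inferInstance)
  by_contra hXne
  by_cases hpH : p ∈ Cfsg.sigma H
  · have hAσ : A ≤ Cfsg.sigmaCore H := le_sigmaCore_of_primes hG hH hAH (fun r hr hrA => by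
      rw [hA2] at hrA
      have := (Nat.prime_dvd_prime_iff_eq hr hpp).mp (hr.dvd_of_dvd_pow hrA)
      rw [this]; exact hpH)
    have hXcard : Nat.card X ≠ 1 := fun h => hXne (Subgroup.card_eq_one.mp h)
    obtain ⟨q, hq, hqX⟩ := Nat.exists_prime_and_dvd hXcard
    haveI : Fact q.Prime := ⟨hq⟩
    have hqM : q ∈ Cfsg.sigma M := mem_sigma_of_dvd_card_le (hXD.trans hDσ) hq hqX
    have hqH : q ∈ Cfsg.sigma H := mem_sigma_of_dvd_card_le hXσH hq hqX
    have hqp : q ≠ p := fun h => hp (h ▸ hqM)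
    have hqα : q ∉ Cfsg.alpha H := by
      rintro ⟨-, hr⟩
      obtain ⟨SM, hSM, -, -⟩ := exists_sylow_of_mem_sigma hqM
      obtain ⟨SH, hSH, -, -⟩ := exists_sylow_of_mem_sigma hqH
      have hrG : ¬ Cfsg.PRankLE q 2 G := fun h => hr (pRankLE_subgroup h H)
      obtain ⟨g, hg⟩ := exists_conj_eq_of_rank_three hG hM hH SM hSM SH hSH hrG
      exact hMH (eq_of_conj_of_mem_sigma_right hG hH hpH hA₀pg hA₀1 (hA₀.trans hAM)
        (hA₀.trans hAH) ((Subgroup.centralizer_le_normalizer _).trans hN) hg)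
    have hqβ : q ∉ Cfsg.beta H := fun h => hqα h.1
    have hqcH : q ∣ Nat.card H := hqH.2.1
    have hAq : (Nat.card A).Coprime q := by
      rw [hA2]
      exact Nat.Coprime.pow_left 2 ((Nat.coprime_primes hpp hq).mpr (Ne.symm hqp))
    exact not_dvd_card_of_commutator_eq hG hH hq hqcH hqβ hAσ hAq hXσH hXA hqX
  · have hExc : Exc H p A A₀ := ⟨hH, hpp, hpH, hAH, hAe, hA2, hA₀, hA₀p, hN⟩
    have hne : Cfsg.sigmaCore M ⊓ Cfsg.sigmaCore H ≠ ⊥ := by
      intro h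
      apply hXne
      rw [eq_bot_iff, ← h]
      exact le_inf (hXD.trans hDσ) hXσH
    exact hMH (h114 H A A₀ hExc M hM hAM hne)

/-- **B&G 12.3(b)** (from 11.7 and the weak form of 11.4). -/
theorem thm12_3b_of (hG : Cfsg.IsMinSimpleOddOrder G) {p : ℕ} [Fact p.Prime]
    (h117 : H117 G p) (h114 : H114 G p)
    {M H : Subgroup G} (hM : IsCoatom M) (hH : IsCoatom H) (hMH : M ≠ H)
    {A A₀ : Subgroup G} (hAM : A ≤ M) (hAH : A ≤ H) (hAe : Cfsg.IsElementaryAbelian p A)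
    (hA2 : Nat.card A = p ^ 2) (hA₀ : A₀ ≤ A) (hA₀p : Nat.card A₀ = p)
    (hN : normalizer (A₀ : Set G) ≤ H)
    (hp : p ∉ Cfsg.alpha M) : Cfsg.alphaCore M ⊓ H ≤ centralizer (A : Set G) := by
  have hpp : p.Prime := Fact.out
  by_cases hpσ : p ∈ Cfsg.sigma M
  swap
  · have ha := thm12_3a_of hG h117 h114 hM hH hMH hAM hAH hAe hA2 hA₀ hA₀p hN hpσ
    have hασ : Cfsg.alphaCore M ≤ Cfsg.sigmaCore M := (Cfsg.Agent.S1405.result hG M hM).2.2.1
    exact (inf_le_inf_right H hασ).trans ha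
  have hAp : IsPGroup p A := isPGroup_of_elemAb hAe
  have hA₀pg : IsPGroup p A₀ := hAp.to_le hA₀
  have hA₀1 : A₀ ≠ ⊥ := by
    rintro rfl
    rw [Subgroup.card_bot] at hA₀p
    exact hpp.one_lt.ne hA₀p
  obtain ⟨D, hD⟩ : ∃ D : Subgroup G, D = Cfsg.alphaCore M ⊓ H := ⟨_, rfl⟩
  rw [← hD]
  have hDα : D ≤ Cfsg.alphaCore M := hD ▸ inf_le_left
  have hDH : D ≤ H := hD ▸ inf_le_right
  have hAD : A ≤ normalizer (D : Set G) := by
    rw [hD]
    exact Cfsg.Agent.Lib.Helper1.BG36R.le_normalizer_inf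
      (hAM.trans (le_normalizer_alphaCore M)) (hAH.trans Subgroup.le_normalizer)
  have hDp : (Nat.card D).Coprime p := by
    rw [Nat.coprime_comm, Nat.Prime.coprime_iff_not_dvd hpp]
    intro h
    exact hp (mem_alpha_of_dvd_card_le hDα hpp h)
  rw [← Subgroup.commutator_eq_bot_iff_le_centralizer]
  have hXσH : ⁅D, A⁆ ≤ Cfsg.sigmaCore H :=
    commutator_le_sigmaCore hG h117 hH hAH hAe hA2 hA₀ hA₀p hN hDH hAD hDp
  obtain ⟨X, hX⟩ : ∃ X : Subgroup G, X = ⁅D, A⁆ := ⟨_, rfl⟩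
  rw [← hX] at hXσH ⊢
  have hXD : X ≤ D := hX ▸ Cfsg.Agent.Lib.Helper1.commutator_le_of_le_normalizer hAD
  by_contra hXne
  have hXcard : Nat.card X ≠ 1 := fun h => hXne (Subgroup.card_eq_one.mp h)
  obtain ⟨q, hq, hqX⟩ := Nat.exists_prime_and_dvd hXcard
  haveI : Fact q.Prime := ⟨hq⟩
  have hqα : q ∈ Cfsg.alpha M := mem_alpha_of_dvd_card_le (hXD.trans hDα) hq hqX
  have hqM : q ∈ Cfsg.sigma M := alpha_subset_sigma hG (UT_of hG) hM hqα
  have hqH : q ∈ Cfsg.sigma H := mem_sigma_of_dvd_card_le hXσH hq hqX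
  obtain ⟨SM, hSM, -, -⟩ := exists_sylow_of_mem_sigma hqM
  obtain ⟨SH, hSH, -, -⟩ := exists_sylow_of_mem_sigma hqH
  have hrG : ¬ Cfsg.PRankLE q 2 G := fun h => hqα.2 (pRankLE_subgroup h M)
  obtain ⟨g, hg⟩ := exists_conj_eq_of_rank_three hG hM hH SM hSM SH hSH hrG
  exact hMH (eq_of_conj_of_mem_sigma_left hG hM hpσ hA₀pg hA₀1 (hA₀.trans hAM)
    (hA₀.trans hAH) ((Subgroup.centralizer_le_normalizer _).trans hN) hg)

end Main

end Cfsg.Agent.Lib.Helper19.BG123
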