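/-
helper19: Bender–Glauberman Corollary 12.6 (= S1418) from the conclusions of 12.4 (S1416) and 12.5
(S1417), taken as hypotheses.
-/
import Mathlib
import Cfsg.Prelude.Def_OddOrderLocal
import Cfsg.Agent.Lib.Helper1.Coprime
import Cfsg.Agent.Lib.Helper1.Basic
import Cfsg.Agent.Lib.Helper1.BGX4
import Cfsg.Agent.Lib.Helper17.BGUniqC
import Cfsg.Agent.Lib.Helper23.BGY2

set_option autoImplicit false
set_option linter.unusedSectionVars false
open scoped Pointwise

namespace Cfsg.Agent.Lib.Helper19.BG126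

open Cfsg Subgroup

variable {G : Type*} [Group G] [Finite G]

/-- an element of `E ∩ M_σ A` lies in `A` (Dedekind), for `A ≤ E` and `E ∩ M_σ = 1`. -/
theorem mem_of_mem_sup {M E A : Subgroup G} (hEσ : E ⊓ Cfsg.sigmaCore M = ⊥) (hAE : A ≤ E)
    (hAM : A ≤ M) {x : G} (hxE : x ∈ E) (hx : x ∈ Cfsg.sigmaCore M ⊔ A) : x ∈ A := by
  have hAn : A ≤ normalizer ((Cfsg.sigmaCore M : Subgroup G) : Set G) :=
    hAM.trans (Cfsg.Agent.Lib.Helper23.BGY.le_normalizer_sigmaCore M)
  have h1 : x ∈ ((A ⊔ Cfsg.sigmaCore M : Subgroup G) : Set G) := by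
    rw [sup_comm]; exact hx
  rw [Subgroup.coe_mul_of_left_le_normalizer_right A _ hAn] at h1
  obtain ⟨a, ha, s, hs, rfl⟩ := h1
  have hsE : s ∈ E := by
    have : s = a⁻¹ * (a * s) := by group
    rw [this]
    exact E.mul_mem (E.inv_mem (hAE ha)) hxE
  have hs1 : s ∈ E ⊓ Cfsg.sigmaCore M := ⟨hsE, hs⟩
  rw [hEσ, Subgroup.mem_bot] at hs1
  show a * s ∈ A
  rw [hs1, mul_one]
  exact ha

theorem main (hG : Cfsg.IsMinSimpleOddOrder G) {M E A : Subgroup G} (hM : IsCoatom M)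
    (hE : Cfsg.IsComplIn E (Cfsg.sigmaCore M) M) {p : ℕ} [Fact p.Prime] (hAE : A ≤ E)
    (hAe : Cfsg.IsElementaryAbelian p A) (hA2 : Nat.card A = p ^ 2)
    (h16 : centralizer (A : Set G) ≤ M)
    (h17b : ∀ P : Sylow p M, IsMulCommutative (P : Subgroup M) ∧
        (A ≤ (P : Subgroup M).map M.subtype →
          (∀ x ∈ (P : Subgroup M).map M.subtype, x ^ p = 1 ↔ x ∈ A) ∧
          ¬ normalizer ((((P : Subgroup M).map M.subtype : Subgroup G)) : Set G) ≤ M))
    (h17c : M ≤ normalizer ((Cfsg.sigmaCore M ⊔ A : Subgroup G) : Set G))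
    (h17d : Cfsg.sigmaCore M ⊓ centralizer (A : Set G) = ⊥)
    (h17e : ∀ Mstar : Subgroup G, IsCoatom Mstar → Mstar ≠ M → A ≤ Mstar →
      Cfsg.sigmaCore M ⊓ Mstar = ⊥) :
    (E ≤ normalizer (A : Set G) ∧ ∀ X : Subgroup G, X ≤ E → Nat.card X = p → X ≤ A) ∧
      (centralizer (A : Set G) ≤ M ⊓ normalizer (A : Set G) ∧ M ⊓ normalizer (A : Set G) = E ∧
        ¬ normalizer (A : Set G) ≤ M) ∧
      ∀ X : Subgroup G, X ≤ A → Nat.card X = p →
        Cfsg.sigmaCore M ⊓ centralizer (X : Set G) ≠ ⊥ →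
        (centralizer (X : Set G) ≤ M ∧
          ∀ L : Subgroup G, IsCoatom L → centralizer (X : Set G) ≤ L → L = M) := by
  have hpp : p.Prime := Fact.out
  obtain ⟨hEM, hσM, hEσ, hprod⟩ := hE
  have hAM : A ≤ M := hAE.trans hEM
  have hAp : IsPGroup p A := fun a => ⟨1, by rw [pow_one]; exact Subtype.ext (by simpa using hAe.2 a a.2)⟩
  -- a Sylow `p`-subgroup of `M` containing `A`
  obtain ⟨P, hP⟩ := (hAp.comap_subtype (H := A) (K := M)).exists_le_sylow
  have hAP : A ≤ (P : Subgroup M).map M.subtype := by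
    intro a ha
    exact ⟨⟨a, hAM ha⟩, hP (Subgroup.mem_subgroupOf.mpr ha), rfl⟩
  obtain ⟨hPA, hNP⟩ := (h17b P).2 hAP
  -- (1a)
  have h1a : E ≤ normalizer (A : Set G) := by
    intro e he
    apply Cfsg.Agent.Lib.Helper1.mem_normalizer_of_forall_conj_mem
    intro a ha
    apply mem_of_mem_sup hEσ hAE hAM (E.mul_mem (E.mul_mem he (hAE ha)) (E.inv_mem he))
    exact (Subgroup.mem_normalizer_iff.mp (h17c (hEM he)) a).mp (Subgroup.mem_sup_right ha)
  -- elements of order dividing `p` in `E`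
  have hkey : ∀ x ∈ E, x ^ p = 1 → x ∈ A := by
    intro x hxE hxp
    -- a Sylow `p`-subgroup of `E` containing `A`, and one containing `x`
    obtain ⟨PE, hPE⟩ := (hAp.comap_subtype (H := A) (K := E)).exists_le_sylow
    have hXp : IsPGroup p (Subgroup.zpowers (⟨x, hxE⟩ : E)) := by
      rw [IsPGroup.iff_card, Nat.card_zpowers]
      have hord : orderOf (⟨x, hxE⟩ : E) ∣ p := by
        apply orderOf_dvd_of_pow_eq_one
        exact Subtype.ext (by simpa using hxp)
      rcases (Nat.dvd_prime hpp).mp hord with h | h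
      · exact ⟨0, by rw [h, pow_zero]⟩
      · exact ⟨1, by rw [h, pow_one]⟩
    obtain ⟨Q, hQ⟩ := hXp.exists_le_sylow
    obtain ⟨e, he⟩ := MulAction.exists_smul_eq E Q PE
    have hy : e * ⟨x, hxE⟩ * e⁻¹ ∈ (PE : Subgroup E) := by
      rw [← he, Cfsg.Agent.Lib.Helper1.mem_sylow_smul_iff]
      have : e⁻¹ * (e * ⟨x, hxE⟩ * e⁻¹) * e = ⟨x, hxE⟩ := by group
      rw [this]
      exact hQ (Subgroup.mem_zpowers _)
    -- `PE ≤ P^m` for some Sylow of `M`; instead: the `p`-group `PE` lies in a Sylow of `M`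
    have hPEp : IsPGroup p ((PE : Subgroup E).map E.subtype) := PE.2.map _
    obtain ⟨P', hP'⟩ := (hPEp.comap_subtype (K := M)).exists_le_sylow
    have hAP' : A ≤ (P' : Subgroup M).map M.subtype := by
      intro a ha
      refine ⟨⟨a, hAM ha⟩, hP' ?_, rfl⟩
      show (⟨a, hAM ha⟩ : M) ∈ ((PE : Subgroup E).map E.subtype).subgroupOf M
      rw [Subgroup.mem_subgroupOf]
      exact ⟨⟨a, hAE ha⟩, hPE (Subgroup.mem_subgroupOf.mpr ha), rfl⟩
    obtain ⟨hP'A, -⟩ := (h17b P').2 hAP'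
    have hyA : (e : G) * x * (e : G)⁻¹ ∈ A := by
      apply (hP'A _ ?_).mp
      · rw [conj_pow, hxp, mul_one, mul_inv_cancel]
      · refine ⟨⟨(e : G) * x * (e : G)⁻¹, hEM (E.mul_mem (E.mul_mem e.2 hxE) (E.inv_mem e.2))⟩,
          hP' ?_, rfl⟩
        show (⟨(e : G) * x * (e : G)⁻¹, _⟩ : M) ∈ ((PE : Subgroup E).map E.subtype).subgroupOf M
        rw [Subgroup.mem_subgroupOf]
        exact ⟨e * ⟨x, hxE⟩ * e⁻¹, hy, rfl⟩
    have heN : (e : G)⁻¹ ∈ normalizer (A : Set G) := Subgroup.inv_mem _ (h1a e.2)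
    have := (Subgroup.mem_normalizer_iff.mp heN _).mp hyA
    have e2 : (e : G)⁻¹ * ((e : G) * x * (e : G)⁻¹) * ((e : G)⁻¹)⁻¹ = x := by group
    rwa [e2] at this
  have h1b : ∀ X : Subgroup G, X ≤ E → Nat.card X = p → X ≤ A := by
    intro X hXE hXp x hx
    apply hkey x (hXE hx)
    have := pow_card_eq_one' (G := X) (x := ⟨x, hx⟩)
    rw [hXp] at this
    exact congrArg Subtype.val this
  -- (2b)
  have h2b : M ⊓ normalizer (A : Set G) = E := by
    apply le_antisymm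
    · rintro m ⟨hmM, hmN⟩
      obtain ⟨e, he, s, hs, rfl⟩ := hprod m hmM
      have hsN : s ∈ normalizer (A : Set G) := by
        have : s = e⁻¹ * (e * s) := by group
        rw [this]
        exact Subgroup.mul_mem _ (Subgroup.inv_mem _ (h1a he)) hmN
      have hsC : s ∈ centralizer (A : Set G) := by
        rw [Subgroup.mem_centralizer_iff]
        intro a ha
        have h1 : s * a * s⁻¹ ∈ A := (Subgroup.mem_normalizer_iff.mp hsN a).mp ha
        have h2 : s * a * s⁻¹ * a⁻¹ ∈ A := A.mul_mem h1 (A.inv_mem ha)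
        have h3 : s * a * s⁻¹ * a⁻¹ ∈ Cfsg.sigmaCore M := by
          have h4 : a * s⁻¹ * a⁻¹ ∈ Cfsg.sigmaCore M :=
            (Subgroup.mem_normalizer_iff.mp
              (Cfsg.Agent.Lib.Helper23.BGY.le_normalizer_sigmaCore M (hAM ha)) _).mp
              (Subgroup.inv_mem _ hs)
          have : s * a * s⁻¹ * a⁻¹ = s * (a * s⁻¹ * a⁻¹) := by group
          rw [this]
          exact Subgroup.mul_mem _ hs h4
        have h5 : s * a * s⁻¹ * a⁻¹ ∈ E ⊓ Cfsg.sigmaCore M := ⟨hAE h2, h3⟩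
        rw [hEσ, Subgroup.mem_bot] at h5
        have : s * a = (s * a * s⁻¹ * a⁻¹) * (a * s) := by group
        rw [this, h5, one_mul]
      have hs1 : s ∈ Cfsg.sigmaCore M ⊓ centralizer (A : Set G) := ⟨hs, hsC⟩
      rw [h17d, Subgroup.mem_bot] at hs1
      rw [hs1, mul_one]
      exact he
    · exact le_inf hEM h1a
  -- (2c)
  have h2c : ¬ normalizer (A : Set G) ≤ M := by
    intro h
    apply hNP
    refine le_trans ?_ h
    intro g hg
    apply Cfsg.Agent.Lib.Helper1.mem_normalizer_of_forall_conj_mem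
    intro a ha
    apply (hPA _ ((Subgroup.mem_normalizer_iff.mp hg a).mp (hAP ha))).mp
    rw [conj_pow, hAe.2 a ha, mul_one, mul_inv_cancel]
  refine ⟨⟨h1a, h1b⟩, ⟨le_inf h16 (Subgroup.centralizer_le_normalizer _), h2b, h2c⟩, ?_⟩
  -- (3)
  intro X hXA hXp hne
  have hAcomm : ∀ a ∈ A, ∀ b ∈ A, a * b = b * a := fun a ha b hb =>
    congrArg Subtype.val (hAe.1.is_comm.comm ⟨a, ha⟩ ⟨b, hb⟩)
  have hAC : A ≤ centralizer (X : Set G) := by
    intro a ha
    rw [Subgroup.mem_centralizer_iff]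
    intro x hx
    exact hAcomm x (hXA hx) a ha
  have huniq : ∀ L : Subgroup G, IsCoatom L → centralizer (X : Set G) ≤ L → L = M := by
    intro L hL hCL
    by_contra hLM
    apply hne
    rw [eq_bot_iff, ← h17e L hL hLM (hAC.trans hCL)]
    exact inf_le_inf_left _ hCL
  refine ⟨?_, huniq⟩
  have hCtop : centralizer (X : Set G) ≠ ⊤ := by
    intro htop
    have hXc : X ≤ center G := by
      intro x hx
      rw [Subgroup.mem_center_iff]
      intro g
      have hg : g ∈ centralizer (X : Set G) := by rw [htop]; exact Subgroup.mem_top g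
      exact (Subgroup.mem_centralizer_iff.mp hg x hx).symm
    rw [Cfsg.Agent.Lib.Helper1.BGX.center_eq_bot hG, le_bot_iff] at hXc
    rw [hXc, Subgroup.card_bot] at hXp
    exact hpp.one_lt.ne hXp
  obtain ⟨L, hL, hCL⟩ := Cfsg.Agent.Lib.Helper17.BGU.exists_coatom_ge hCtop
  rw [← huniq L hL hCL]
  exact hCL

end Cfsg.Agent.Lib.Helper19.BG126
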