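/-
helper19: group-theoretic preliminaries for Bender–Glauberman 12.7 (= S1419):
a `p`-element `v` normalizing, but not centralizing, an elementary abelian group `A` of order `p²`
acts as a transvection: `B₁ = C_A(v)` has order `p`, `[v, A] ≤ B₁`, and the powers of `v` permute
transitively the `p` subgroups of order `p` of `A` different from `B₁`.
-/
import Mathlib
import Cfsg.Prelude.Def_OddOrderLocal
import Cfsg.Agent.Lib.Helper4.Basic
import Cfsg.Agent.Lib.Helper8.Conj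

set_option autoImplicit false
set_option linter.unusedSectionVars false

namespace Cfsg.Agent.Lib.Helper19.BG127

open Cfsg Subgroup
open Cfsg.Agent.Lib.Helper8 (mem_map_conj conj_mem_map_conj map_conj_map_conj map_conj_one
  map_conj_le_iff map_conj_eq_iff card_map_conj mem_normalizer_iff_map_conj)

variable {G : Type*} [Group G] [Finite G] {p : ℕ} [Fact p.Prime]

theorem conj_pow_eq (v a : G) (n : ℕ) : v ^ n * a * (v ^ n)⁻¹ = (fun x => v * x * v⁻¹)^[n] a := by
  induction n generalizing a with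
  | zero => simp
  | succ n ih =>
    rw [Function.iterate_succ_apply', ← ih, pow_succ']
    group

/-- fixed point congruence: `v` of `p`-power order normalizing `A`: `|A| ≡ |C_A(v)| (mod p)`. -/
theorem card_modEq_card_inf_centralizer (A : Subgroup G) {v : G}
    (hvA : v ∈ normalizer (A : Set G)) {k : ℕ} (hvp : v ^ (p ^ k) = 1) :
    Nat.card A ≡ Nat.card ↥(A ⊓ centralizer ({v} : Set G)) [MOD p] := by
  classical
  haveI : Fintype ↥A := Fintype.ofFinite _
  let f0 : ↥A → ↥A := fun a =>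
    ⟨v * a * v⁻¹, (Subgroup.mem_normalizer_iff.mp hvA a).mp a.2⟩
  let f : Function.End ↥A := f0
  have hfn : ∀ (n : ℕ) (a : ↥A), ((f0^[n] a : ↥A) : G) = v ^ n * a * (v ^ n)⁻¹ := by
    intro n
    induction n with
    | zero => intro a; simp
    | succ n ih =>
      intro a
      rw [Function.iterate_succ_apply']
      show v * (f0^[n] a : ↥A) * v⁻¹ = _
      rw [ih, pow_succ']
      group
  have hf : f ^ p ^ k = 1 := by
    funext a
    apply Subtype.ext
    show ((f0^[p ^ k] a : ↥A) : G) = a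
    rw [hfn, hvp]
    simp
  have h := Equiv.Perm.card_fixedPoints_modEq (p := p) (n := k) hf
  have e : ↥(Function.fixedPoints f0) ≃ ↥(A ⊓ centralizer ({v} : Set G)) :=
    { toFun := fun x => ⟨x.1.1, Subgroup.mem_inf.mpr ⟨x.1.2, by
        rw [Subgroup.mem_centralizer_singleton_iff]
        have h1 : f0 x.1 = x.1 := x.2
        have h2 := congrArg Subtype.val h1
        have h3 : v * (x.1 : G) * v⁻¹ = x.1 := h2
        calc (x.1 : G) * v = v * (x.1 : G) * v⁻¹ * v := by rw [h3]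
          _ = v * (x.1 : G) := by group⟩⟩
      invFun := fun y => ⟨⟨y.1, (Subgroup.mem_inf.mp y.2).1⟩, by
        show f0 ⟨y.1, (Subgroup.mem_inf.mp y.2).1⟩ = ⟨y.1, (Subgroup.mem_inf.mp y.2).1⟩
        apply Subtype.ext
        show v * (y.1 : G) * v⁻¹ = y.1
        have h1 := Subgroup.mem_centralizer_singleton_iff.mp (Subgroup.mem_inf.mp y.2).2
        rw [← h1]; group⟩
      left_inv := fun x => rfl
      right_inv := fun y => rfl }
  rw [Nat.card_eq_fintype_card, ← Nat.card_congr e, Nat.card_eq_fintype_card]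
  convert h

/-- two distinct subgroups of prime order meet trivially. -/
theorem inf_eq_bot_of_card_prime {Y B : Subgroup G} (hY : Nat.card Y = p) (hB : Nat.card B = p)
    (hne : Y ≠ B) : Y ⊓ B = ⊥ := by
  have hpp : p.Prime := Fact.out
  have h1 : Nat.card ↥(Y ⊓ B) ∣ p := hY ▸ Subgroup.card_dvd_of_le inf_le_left
  rcases (Nat.dvd_prime hpp).mp h1 with h | h
  · exact Subgroup.card_eq_one.mp h
  · exfalso
    apply hne
    have h2 : Y ⊓ B = Y := Subgroup.eq_of_le_of_card_ge inf_le_left (by rw [h, hY])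
    have h3 : Y ⊓ B = B := Subgroup.eq_of_le_of_card_ge inf_le_right (by rw [h, hB])
    rw [← h2, h3]

/-- a subgroup of prime order is generated by any of its non-identity elements. -/
theorem eq_zpowers_of_card_prime {Y : Subgroup G} (hY : Nat.card Y = p) {y : G} (hy : y ∈ Y)
    (hy1 : y ≠ 1) : Y = zpowers y := by
  have hpp : p.Prime := Fact.out
  symm
  apply Subgroup.eq_of_le_of_card_ge (by rw [Subgroup.zpowers_le]; exact hy)
  rw [hY, Nat.card_zpowers]
  have h1 : orderOf y ∣ p := by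
    have h2 : orderOf (⟨y, hy⟩ : Y) ∣ Nat.card Y := orderOf_dvd_natCard _
    rwa [Subgroup.orderOf_mk, hY] at h2
  rcases (Nat.dvd_prime hpp).mp h1 with h | h
  · exact absurd (orderOf_eq_one_iff.mp h) hy1
  · exact h.ge

section Transvection

variable {A : Subgroup G} (hAe : Cfsg.IsElementaryAbelian p A) (hA2 : Nat.card A = p ^ 2)
  {v : G} (hvA : v ∈ normalizer (A : Set G)) {k : ℕ} (hvp : v ^ (p ^ k) = 1)
  (hvC : v ∉ centralizer (A : Set G))
include hAe hA2 hvA hvp hvC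

theorem card_fix : Nat.card ↥(A ⊓ centralizer ({v} : Set G)) = p := by
  have hpp : p.Prime := Fact.out
  have h1 := card_modEq_card_inf_centralizer (p := p) A hvA hvp
  have h2 : Nat.card ↥(A ⊓ centralizer ({v} : Set G)) ∣ p ^ 2 :=
    hA2 ▸ Subgroup.card_dvd_of_le inf_le_left
  obtain ⟨j, hj, hj2⟩ := (Nat.dvd_prime_pow hpp).mp h2
  rw [hA2] at h1
  have h3 : p ∣ Nat.card ↥(A ⊓ centralizer ({v} : Set G)) := by
    have h4 : (p ^ 2) % p = 0 := by rw [pow_two]; exact Nat.mul_mod_left p p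
    have h5 : Nat.card ↥(A ⊓ centralizer ({v} : Set G)) % p = 0 := by
      rw [← h1]; exact h4
    exact Nat.dvd_of_mod_eq_zero h5
  have hj0 : j ≠ 0 := by
    rintro rfl
    rw [hj2, pow_zero] at h3
    exact hpp.one_lt.ne' (Nat.dvd_one.mp h3)
  have hj2' : j ≠ 2 := by
    rintro rfl
    apply hvC
    have h6 : A ⊓ centralizer ({v} : Set G) = A :=
      Subgroup.eq_of_le_of_card_ge inf_le_left (by rw [hj2, hA2])
    rw [Subgroup.mem_centralizer_iff]
    intro a ha
    have h7 : a ∈ A ⊓ centralizer ({v} : Set G) := by rw [h6]; exact ha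
    exact (Subgroup.mem_centralizer_singleton_iff.mp (Subgroup.mem_inf.mp h7).2)
  have : j = 1 := by omega
  rw [hj2, this, pow_one]

theorem comm_mem_fix : ∀ a ∈ A, v * a * v⁻¹ * a⁻¹ ∈ A ⊓ centralizer ({v} : Set G) := by
  classical
  have hpp : p.Prime := Fact.out
  have hAcomm : ∀ a ∈ A, ∀ b ∈ A, a * b = b * a := fun a ha b hb =>
    congrArg Subtype.val (hAe.1.is_comm.comm ⟨a, ha⟩ ⟨b, hb⟩)
  have hconj : ∀ a ∈ A, v * a * v⁻¹ ∈ A := fun a ha => (Subgroup.mem_normalizer_iff.mp hvA a).mp ha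
  -- the subgroup `D = {[v,a]}`
  let D : Subgroup G :=
    { carrier := {d | ∃ a ∈ A, d = v * a * v⁻¹ * a⁻¹}
      one_mem' := ⟨1, A.one_mem, by simp⟩
      mul_mem' := by
        rintro _ _ ⟨a, ha, rfl⟩ ⟨b, hb, rfl⟩
        refine ⟨a * b, A.mul_mem ha hb, ?_⟩
        have h1 := hAcomm a⁻¹ (A.inv_mem ha) (v * b * v⁻¹) (hconj b hb)
        have h2 := hAcomm a⁻¹ (A.inv_mem ha) b⁻¹ (A.inv_mem hb)
        calc v * a * v⁻¹ * a⁻¹ * (v * b * v⁻¹ * b⁻¹)
            = v * a * v⁻¹ * (a⁻¹ * (v * b * v⁻¹)) * b⁻¹ := by group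
          _ = v * a * v⁻¹ * ((v * b * v⁻¹) * a⁻¹) * b⁻¹ := by rw [h1]
          _ = v * (a * b) * v⁻¹ * (a⁻¹ * b⁻¹) := by group
          _ = v * (a * b) * v⁻¹ * (b⁻¹ * a⁻¹) := by rw [h2]
          _ = v * (a * b) * v⁻¹ * (a * b)⁻¹ := by group
      inv_mem' := by
        rintro _ ⟨a, ha, rfl⟩
        refine ⟨a⁻¹, A.inv_mem ha, ?_⟩
        have h1 := hAcomm a (ha) (v * a⁻¹ * v⁻¹) (hconj _ (A.inv_mem ha))
        calc (v * a * v⁻¹ * a⁻¹)⁻¹ = a * (v * a⁻¹ * v⁻¹) := by group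
          _ = (v * a⁻¹ * v⁻¹) * a := h1
          _ = v * a⁻¹ * v⁻¹ * a⁻¹⁻¹ := by group }
  have hDmem : ∀ d, d ∈ D ↔ ∃ a ∈ A, d = v * a * v⁻¹ * a⁻¹ := fun d => Iff.rfl
  have hDA : D ≤ A := by
    rintro _ ⟨a, ha, rfl⟩
    exact A.mul_mem (hconj a ha) (A.inv_mem ha)
  have hvD : v ∈ normalizer (D : Set G) := by
    apply Cfsg.Agent.Lib.Helper8.mem_normalizer_iff_map_conj.mpr
    apply Cfsg.Agent.Lib.Helper8.map_conj_eq_of_le
    rintro _ ⟨_, ⟨a, ha, rfl⟩, rfl⟩
    refine ⟨v * a * v⁻¹, hconj a ha, ?_⟩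
    simp only [MulEquiv.coe_toMonoidHom, MulAut.conj_apply]
    group
  -- `|D| = p`: the map `a ↦ [v,a]` has kernel `C_A(v)`
  have hB := card_fix hAe hA2 hvA hvp hvC
  have hDcard : Nat.card D * p = p ^ 2 := by
    -- count fibres via the homomorphism `A → D`
    let φ : ↥A →* ↥D :=
      { toFun := fun a => ⟨v * a * v⁻¹ * (a : G)⁻¹, ⟨a, a.2, rfl⟩⟩
        map_one' := by apply Subtype.ext; simp
        map_mul' := by
          intro a b
          apply Subtype.ext
          have h1 := hAcomm (a : G)⁻¹ (A.inv_mem a.2) (v * b * v⁻¹) (hconj b b.2)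
          have h2 := hAcomm (a : G)⁻¹ (A.inv_mem a.2) (b : G)⁻¹ (A.inv_mem b.2)
          show v * ((a : G) * b) * v⁻¹ * ((a : G) * b)⁻¹ =
            v * a * v⁻¹ * (a : G)⁻¹ * (v * b * v⁻¹ * (b : G)⁻¹)
          symm
          calc v * (a : G) * v⁻¹ * (a : G)⁻¹ * (v * b * v⁻¹ * (b : G)⁻¹)
              = v * a * v⁻¹ * ((a : G)⁻¹ * (v * b * v⁻¹)) * (b : G)⁻¹ := by group
            _ = v * a * v⁻¹ * ((v * b * v⁻¹) * (a : G)⁻¹) * (b : G)⁻¹ := by rw [h1]
            _ = v * (a * b) * v⁻¹ * ((a : G)⁻¹ * (b : G)⁻¹) := by group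
            _ = v * (a * b) * v⁻¹ * ((b : G)⁻¹ * (a : G)⁻¹) := by rw [h2]
            _ = v * ((a : G) * b) * v⁻¹ * ((a : G) * b)⁻¹ := by group }
    have hsurj : Function.Surjective φ := by
      rintro ⟨_, a, ha, rfl⟩
      exact ⟨⟨a, ha⟩, rfl⟩
    have hker : Nat.card φ.ker = p := by
      rw [← hB]
      apply Nat.card_congr
      exact
        { toFun := fun x => ⟨x.1.1, Subgroup.mem_inf.mpr ⟨x.1.2, by
            rw [Subgroup.mem_centralizer_singleton_iff]
            have h1 : φ x.1 = 1 := x.2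
            have h2 : v * (x.1 : G) * v⁻¹ * (x.1 : G)⁻¹ = 1 := congrArg Subtype.val h1
            symm
            calc v * (x.1 : G) = (v * (x.1 : G) * v⁻¹ * (x.1 : G)⁻¹) * ((x.1 : G) * v) := by group
              _ = (x.1 : G) * v := by rw [h2, one_mul]⟩⟩
          invFun := fun y => ⟨⟨y.1, (Subgroup.mem_inf.mp y.2).1⟩, by
            show φ ⟨y.1, (Subgroup.mem_inf.mp y.2).1⟩ = 1
            apply Subtype.ext
            show v * (y.1 : G) * v⁻¹ * (y.1 : G)⁻¹ = 1
            have h1 := Subgroup.mem_centralizer_singleton_iff.mp (Subgroup.mem_inf.mp y.2).2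
            rw [← h1]; group⟩
          left_inv := fun x => rfl
          right_inv := fun y => rfl }
    have h1 : φ.ker.index = Nat.card ↥D := by
      rw [Subgroup.index_ker, MonoidHom.range_eq_top.mpr hsurj]
      exact Nat.card_congr Subgroup.topEquiv.toEquiv
    have h2 := φ.ker.card_mul_index
    rw [hker, h1, hA2] at h2
    rw [mul_comm]; exact h2
  have hDp : Nat.card D = p := by
    have hp0 : 0 < p := hpp.pos
    have : Nat.card D * p = p * p := by rw [hDcard, pow_two]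
    exact Nat.eq_of_mul_eq_mul_right hp0 this
  -- `D ∩ C(v) ≠ 1`, so `D ≤ C(v)`
  have h1 := card_modEq_card_inf_centralizer (p := p) D hvD hvp
  rw [hDp] at h1
  have h2 : Nat.card ↥(D ⊓ centralizer ({v} : Set G)) ∣ p := hDp ▸ Subgroup.card_dvd_of_le inf_le_left
  have h3 : Nat.card ↥(D ⊓ centralizer ({v} : Set G)) = p := by
    rcases (Nat.dvd_prime hpp).mp h2 with h | h
    · exfalso
      rw [h] at h1
      have h4 : p % p = 0 := Nat.mod_self p
      have h5 : 1 % p = 1 := Nat.mod_eq_of_lt hpp.one_lt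
      have h6 : p % p = 1 % p := h1
      omega
    · exact h
  have h4 : D ⊓ centralizer ({v} : Set G) = D :=
    Subgroup.eq_of_le_of_card_ge inf_le_left (by rw [h3, hDp])
  intro a ha
  have h5 : v * a * v⁻¹ * a⁻¹ ∈ D := ⟨a, ha, rfl⟩
  rw [← h4] at h5
  exact Subgroup.mem_inf.mpr ⟨hDA (Subgroup.mem_inf.mp h5).1, (Subgroup.mem_inf.mp h5).2⟩

/-- the action of the powers of `v`: `v^n a v^{-n} = a [v,a]^n`. -/
theorem conj_pow_formula (a : G) (ha : a ∈ A) (n : ℕ) :
    v ^ n * a * (v ^ n)⁻¹ = a * (v * a * v⁻¹ * a⁻¹) ^ n := by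
  have hAcomm : ∀ a ∈ A, ∀ b ∈ A, a * b = b * a := fun a ha b hb =>
    congrArg Subtype.val (hAe.1.is_comm.comm ⟨a, ha⟩ ⟨b, hb⟩)
  have hc := comm_mem_fix hAe hA2 hvA hvp hvC a ha
  obtain ⟨c, hcdef⟩ : ∃ c : G, c = v * a * v⁻¹ * a⁻¹ := ⟨_, rfl⟩
  rw [← hcdef] at hc ⊢
  have hcv : v * c = c * v :=
    (Subgroup.mem_centralizer_singleton_iff.mp (Subgroup.mem_inf.mp hc).2).symm
  have hva : v * a * v⁻¹ = c * a := by rw [hcdef]; group
  induction n with
  | zero => simp
  | succ n ih =>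
    have hcn : v * c ^ n * v⁻¹ = c ^ n := by
      have : Commute v (c ^ n) := (show Commute v c from hcv).pow_right n
      rw [this.eq]; group
    have hcomm : c * a = a * c := hAcomm c (Subgroup.mem_inf.mp hc).1 a ha
    calc v ^ (n + 1) * a * (v ^ (n + 1))⁻¹ = v * (v ^ n * a * (v ^ n)⁻¹) * v⁻¹ := by
          rw [pow_succ']; group
      _ = v * (a * c ^ n) * v⁻¹ := by rw [ih]
      _ = (v * a * v⁻¹) * (v * c ^ n * v⁻¹) := by group
      _ = c * a * c ^ n := by rw [hva, hcn]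
      _ = a * c * c ^ n := by rw [hcomm]
      _ = a * c ^ (n + 1) := by rw [pow_succ']; group

/-- `v ^ p` centralizes `A`. -/
theorem pow_p_mem_centralizer (n : ℕ) (hn : p ∣ n) : v ^ n ∈ centralizer (A : Set G) := by
  rw [Subgroup.mem_centralizer_iff]
  intro a ha
  have h1 := conj_pow_formula hAe hA2 hvA hvp hvC a ha n
  have hc := (Subgroup.mem_inf.mp (comm_mem_fix hAe hA2 hvA hvp hvC a ha)).1
  have h2 : (v * a * v⁻¹ * a⁻¹) ^ n = 1 := by
    obtain ⟨m, rfl⟩ := hn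
    rw [pow_mul, hAe.2 _ hc, one_pow]
  rw [h2, mul_one] at h1
  calc a * v ^ n = (v ^ n * a * (v ^ n)⁻¹) * v ^ n := by rw [h1]
    _ = v ^ n * a := by group

/-- the powers of `v` permute transitively the points of `A` other than `C_A(v)`. -/
theorem exists_pow_conj {Y Y' : Subgroup G} (hY : Y ≤ A) (hYp : Nat.card Y = p) (hY' : Y' ≤ A)
    (hY'p : Nat.card Y' = p) (hYB : Y ≠ A ⊓ centralizer ({v} : Set G))
    (hY'B : Y' ≠ A ⊓ centralizer ({v} : Set G)) :
    ∃ i : ℕ, Y' = Y.map (MulAut.conj (v ^ i)).toMonoidHom := by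
  classical
  have hpp : p.Prime := Fact.out
  have hAcomm : ∀ a ∈ A, ∀ b ∈ A, a * b = b * a := fun a ha b hb =>
    congrArg Subtype.val (hAe.1.is_comm.comm ⟨a, ha⟩ ⟨b, hb⟩)
  obtain ⟨B, hBdef⟩ : ∃ B : Subgroup G, B = A ⊓ centralizer ({v} : Set G) := ⟨_, rfl⟩
  rw [← hBdef] at hYB hY'B
  have hBA : B ≤ A := hBdef ▸ inf_le_left
  have hBp : Nat.card B = p := hBdef ▸ card_fix hAe hA2 hvA hvp hvC
  have hYB0 := inf_eq_bot_of_card_prime hYp hBp hYB
  have hY'B0 := inf_eq_bot_of_card_prime hY'p hBp hY'B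
  -- a generator of `Y`
  have hYnt : Nontrivial ↥Y := by
    rw [← Finite.one_lt_card_iff_nontrivial, hYp]; exact hpp.one_lt
  obtain ⟨⟨y, hyY⟩, hy1'⟩ := exists_ne (1 : ↥Y)
  have hy1 : y ≠ 1 := fun h => hy1' (Subtype.ext h)
  have hyB : y ∉ B := by
    intro h
    have : y ∈ Y ⊓ B := ⟨hyY, h⟩
    rw [hYB0, Subgroup.mem_bot] at this
    exact hy1 this
  have hyA : y ∈ A := hY hyY
  obtain ⟨c, hcdef⟩ : ∃ c : G, c = v * y * v⁻¹ * y⁻¹ := ⟨_, rfl⟩
  have hcB : c ∈ B := by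
    rw [hcdef, hBdef]; exact comm_mem_fix hAe hA2 hvA hvp hvC y hyA
  have hc1 : c ≠ 1 := by
    intro h
    apply hyB
    rw [hBdef]
    refine Subgroup.mem_inf.mpr ⟨hyA, ?_⟩
    rw [Subgroup.mem_centralizer_singleton_iff]
    rw [hcdef] at h
    symm
    calc v * y = (v * y * v⁻¹ * y⁻¹) * (y * v) := by group
      _ = y * v := by rw [h, one_mul]
  have hBc : B = zpowers c := eq_zpowers_of_card_prime hBp hcB hc1
  -- `A = Y' ⊔ B`
  have hY'N : Y' ≤ normalizer (B : Set G) := by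
    intro x hx
    apply Cfsg.Agent.Lib.Helper8.mem_normalizer_iff_map_conj.mpr
    apply Cfsg.Agent.Lib.Helper8.map_conj_eq_of_le
    rintro _ ⟨b, hb, rfl⟩
    simp only [MulEquiv.coe_toMonoidHom, MulAut.conj_apply]
    have := hAcomm x (hY' hx) b (hBA hb)
    rw [this]
    have e : b * x * x⁻¹ = b := by group
    rw [e]; exact hb
  have hsup : Y' ⊔ B = A := by
    apply Subgroup.eq_of_le_of_card_ge (sup_le hY' hBA)
    have h1 := Cfsg.Agent.Lib.Helper4.card_sup_mul_card_inf Y' B hY'N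
    rw [hY'B0, Subgroup.card_bot, mul_one, hY'p, hBp] at h1
    rw [h1, hA2, pow_two]
  have hy' : y ∈ ((Y' ⊔ B : Subgroup G) : Set G) := by rw [hsup]; exact hyA
  rw [Subgroup.coe_mul_of_left_le_normalizer_right Y' B hY'N] at hy'
  obtain ⟨y', hy'Y', b, hb, hyb⟩ := hy'
  have hyb' : y' * b = y := hyb
  -- `b⁻¹ = c ^ n`
  have hbinv : b⁻¹ ∈ zpowers c := by rw [← hBc]; exact B.inv_mem hb
  rw [← mem_powers_iff_mem_zpowers] at hbinv
  obtain ⟨n, hn⟩ := hbinv
  have hn' : c ^ n = b⁻¹ := hn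
  refine ⟨n, ?_⟩
  have h1 := conj_pow_formula hAe hA2 hvA hvp hvC y hyA n
  rw [← hcdef, hn'] at h1
  have h2 : v ^ n * y * (v ^ n)⁻¹ = y' := by
    rw [h1, ← hyb']; group
  have hy'1 : y' ≠ 1 := by
    intro h
    apply hyB
    rw [← hyb', h, one_mul]; exact hb
  have hY'z : Y' = zpowers y' := eq_zpowers_of_card_prime hY'p hy'Y' hy'1
  have hYz : Y = zpowers y := eq_zpowers_of_card_prime hYp hyY hy1
  rw [hY'z, hYz, MonoidHom.map_zpowers]
  congr 1
  simp only [MulEquiv.coe_toMonoidHom, MulAut.conj_apply]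
  exact h2.symm

end Transvection

end Cfsg.Agent.Lib.Helper19.BG127
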