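/-
helper19: Bender–Glauberman 12.7 (= S1419), part B: the set-up (a `p`-element `v ∉ M` normalizing
`A`), the unique point `A₂` of `A` with fixed points on `M_σ`, `A ∩ C_G(M_σ) = A₂`, and the
statement about the other points.

The conclusions of S1416(a), S1417, S1418 (for all maximal subgroups) are hypotheses `C16`, `C17`,
`C18`.
-/
import Mathlib
import Cfsg.Agent.Lib.Helper19.BG127A
import Cfsg.Agent.Lib.Helper19.BG123
import Cfsg.Agent.Lib.Helper2.BGCorD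
import Cfsg.Agent.S0058

set_option autoImplicit false
set_option linter.unusedSectionVars false
set_option linter.unusedVariables false

namespace Cfsg.Agent.Lib.Helper19.BG127

open Cfsg Subgroup Cfsg.Agent.Lib.Helper8.BGEx
open Cfsg.Agent.Lib.Helper8 (mem_map_conj conj_mem_map_conj map_conj_map_conj map_conj_one
  map_conj_le_iff map_conj_eq_iff card_map_conj mem_normalizer_iff_map_conj map_conj_eq_of_le)
open Cfsg.Agent.Lib.Helper1.BGX

variable {G : Type*} [Group G] [Finite G]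

/-- conclusion of S1416, first part, for all maximal subgroups. -/
def C16 (G : Type*) [Group G] : Prop :=
  ∀ (M : Subgroup G), IsCoatom M → ∀ (p : ℕ) [Fact p.Prime] (A : Subgroup G),
    (A ≤ M ∧ Cfsg.IsElementaryAbelian p A ∧ Nat.card A = p ^ 2) →
    centralizer (A : Set G) ≤ M

/-- conclusion of S1417 for `M`, `p`, `A`. -/
def T17 (M : Subgroup G) (p : ℕ) [Fact p.Prime] (A : Subgroup G) : Prop :=
    Group.IsNilpotent (Cfsg.sigmaCore M) ∧
      (∀ P : Sylow p M, IsMulCommutative (P : Subgroup M) ∧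
        (A ≤ (P : Subgroup M).map M.subtype →
          (∀ x ∈ (P : Subgroup M).map M.subtype, x ^ p = 1 ↔ x ∈ A) ∧
          ¬ normalizer ((((P : Subgroup M).map M.subtype : Subgroup G)) : Set G) ≤ M)) ∧
      M ≤ normalizer ((Cfsg.sigmaCore M ⊔ A : Subgroup G) : Set G) ∧
      Cfsg.sigmaCore M ⊓ centralizer (A : Set G) = ⊥ ∧
      (∀ Mstar : Subgroup G, IsCoatom Mstar → Mstar ≠ M → A ≤ Mstar →
        Cfsg.sigmaCore M ⊓ Mstar = ⊥) ∧
      ∃ A₁ : Subgroup G, A₁ ≤ A ∧ Nat.card A₁ = p ∧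
        Cfsg.sigmaCore M ⊓ centralizer (A₁ : Set G) = ⊥

/-- conclusion of S1417 for all maximal subgroups. -/
def C17 (G : Type*) [Group G] : Prop :=
  ∀ (M : Subgroup G), IsCoatom M → ∀ (p : ℕ) [Fact p.Prime], p ∈ Cfsg.tau2 M →
    ∀ A : Subgroup G, (A ≤ M ∧ Cfsg.IsElementaryAbelian p A ∧ Nat.card A = p ^ 2) → T17 M p A

/-- conclusion of S1418 for `M`, `E`, `p`, `A`. -/
def T18 (M E : Subgroup G) (p : ℕ) (A : Subgroup G) : Prop :=
    (E ≤ normalizer (A : Set G) ∧ ∀ X : Subgroup G, X ≤ E → Nat.card X = p → X ≤ A) ∧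
      (centralizer (A : Set G) ≤ M ⊓ normalizer (A : Set G) ∧
        M ⊓ normalizer (A : Set G) = E ∧ ¬ normalizer (A : Set G) ≤ M) ∧
      ∀ X : Subgroup G, X ≤ A → Nat.card X = p →
        Cfsg.sigmaCore M ⊓ centralizer (X : Set G) ≠ ⊥ →
        (centralizer (X : Set G) ≤ M ∧
          ∀ L : Subgroup G, IsCoatom L → centralizer (X : Set G) ≤ L → L = M)

/-- conclusion of S1418 for all maximal subgroups. -/
def C18 (G : Type*) [Group G] : Prop :=
  ∀ (M : Subgroup G), IsCoatom M → ∀ E : Subgroup G, Cfsg.IsComplIn E (Cfsg.sigmaCore M) M →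
    ∀ (p : ℕ) [Fact p.Prime], p ∈ Cfsg.tau2 M → ∀ A : Subgroup G,
    (A ≤ E ∧ Cfsg.IsElementaryAbelian p A ∧ Nat.card A = p ^ 2) → T18 M E p A

/-- The standing configuration of S1419 together with the auxiliary Sylow subgroups and the
element `v`. -/
structure Ctx (M E A : Subgroup G) (p : ℕ) [Fact p.Prime] where
  hG : Cfsg.IsMinSimpleOddOrder G
  h16 : C16 G
  h17 : C17 G
  h18 : C18 G
  hM : IsCoatom M
  hE : Cfsg.IsComplIn E (Cfsg.sigmaCore M) M
  hp : p ∈ Cfsg.tau2 M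
  hAE : A ≤ E
  hAe : Cfsg.IsElementaryAbelian p A
  hA2 : Nat.card A = p ^ 2
  PM : Sylow p M
  hAP : A ≤ (PM : Subgroup M).map M.subtype
  Ps : Sylow p G
  hPPs : (PM : Subgroup M).map M.subtype ≤ (Ps : Subgroup G)
  v : G
  k : ℕ
  hvPs : v ∈ (Ps : Subgroup G)
  hvP : v ∈ normalizer ((((PM : Subgroup M).map M.subtype : Subgroup G)) : Set G)
  hvM : v ∉ M
  hvp : v ^ (p ^ k) = 1

namespace Ctx

variable {M E A : Subgroup G} {p : ℕ} [Fact p.Prime]

/-- the Sylow `p`-subgroup `P` of `M`, as a subgroup of `G`. -/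
def P (c : Ctx M E A p) : Subgroup G := (c.PM : Subgroup M).map M.subtype

theorem hAM (c : Ctx M E A p) : A ≤ M := c.hAE.trans c.hE.1

theorem hPM (c : Ctx M E A p) : c.P ≤ M := Subgroup.map_subtype_le _

theorem t17 (c : Ctx M E A p) : T17 M p A := c.h17 M c.hM p c.hp A ⟨c.hAM, c.hAe, c.hA2⟩

theorem t18 (c : Ctx M E A p) : T18 M E p A :=
  c.h18 M c.hM E c.hE p c.hp A ⟨c.hAE, c.hAe, c.hA2⟩

theorem t16 (c : Ctx M E A p) : centralizer (A : Set G) ≤ M :=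
  c.h16 M c.hM p A ⟨c.hAM, c.hAe, c.hA2⟩

theorem hPA (c : Ctx M E A p) : ∀ x ∈ c.P, x ^ p = 1 ↔ x ∈ A := ((c.t17.2.1 c.PM).2 c.hAP).1

theorem hPcomm (c : Ctx M E A p) : ∀ a ∈ c.P, ∀ b ∈ c.P, a * b = b * a := by
  rintro _ ⟨a, ha, rfl⟩ _ ⟨b, hb, rfl⟩
  have := (c.t17.2.1 c.PM).1.is_comm.comm ⟨a, ha⟩ ⟨b, hb⟩
  have h2 : a * b = b * a := congrArg Subtype.val this
  exact congrArg Subtype.val h2

theorem hvA (c : Ctx M E A p) : c.v ∈ normalizer (A : Set G) := by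
  apply Cfsg.Agent.Lib.Helper1.mem_normalizer_of_forall_conj_mem
  intro a ha
  apply (c.hPA _ ((Subgroup.mem_normalizer_iff.mp c.hvP a).mp (c.hAP ha))).mp
  rw [conj_pow, c.hAe.2 a ha, mul_one, mul_inv_cancel]

theorem hvC (c : Ctx M E A p) : c.v ∉ centralizer (A : Set G) := fun h => c.hvM (c.t16 h)

theorem hpσ (c : Ctx M E A p) : p ∉ Cfsg.sigma M := c.hp.2.1

theorem hpp (c : Ctx M E A p) : p.Prime := Fact.out

/-- the fixed point `B₁ = C_A(v)`. -/
def B₁ (c : Ctx M E A p) : Subgroup G := A ⊓ centralizer ({c.v} : Set G)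

theorem card_B₁ (c : Ctx M E A p) : Nat.card c.B₁ = p :=
  card_fix c.hAe c.hA2 c.hvA c.hvp c.hvC

theorem B₁_le (c : Ctx M E A p) : c.B₁ ≤ A := inf_le_left

theorem hAcomm (c : Ctx M E A p) : ∀ a ∈ A, ∀ b ∈ A, a * b = b * a := fun a ha b hb =>
  congrArg Subtype.val (c.hAe.1.is_comm.comm ⟨a, ha⟩ ⟨b, hb⟩)

theorem hAp (c : Ctx M E A p) : IsPGroup p A :=
  fun a => ⟨1, by rw [pow_one]; exact Subtype.ext (by simpa using c.hAe.2 a a.2)⟩

theorem hM1 (c : Ctx M E A p) : M ≠ ⊥ := by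
  intro h
  have h1 : A ≤ ⊥ := h ▸ c.hAM
  have h2 : A = ⊥ := le_bot_iff.mp h1
  have h3 := c.hA2
  rw [h2, Subgroup.card_bot] at h3
  have := c.hpp.one_lt
  have h4 : 1 < p ^ 2 := Nat.one_lt_pow (by norm_num) this
  omega

theorem hK1 (c : Ctx M E A p) : Cfsg.sigmaCore M ≠ ⊥ :=
  Cfsg.Agent.Lib.Helper2.BGCor.sigmaCore_ne_bot c.hG (Cfsg.Agent.Lib.Helper19.BG123.UT_of c.hG)
    c.hM (Cfsg.Agent.S1350.result c.hG M c.hM).1

/-- a power of `v` lying in `M` fixes every subgroup of `A`. -/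
theorem conj_eq_of_pow_mem (c : Ctx M E A p) {i : ℕ} (hi : c.v ^ i ∈ M) {Y : Subgroup G}
    (hY : Y ≤ A) : Y.map (MulAut.conj (c.v ^ i)).toMonoidHom = Y := by
  by_cases hpi : p ∣ i
  · have h1 := pow_p_mem_centralizer c.hAe c.hA2 c.hvA c.hvp c.hvC i hpi
    apply map_conj_eq_of_le
    rintro _ ⟨y, hy, rfl⟩
    simp only [MulEquiv.coe_toMonoidHom, MulAut.conj_apply]
    have h2 := Subgroup.mem_centralizer_iff.mp h1 y (hY hy)
    rw [← h2]
    have e : y * c.v ^ i * (c.v ^ i)⁻¹ = y := by group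
    rw [e]; exact hy
  · exfalso
    apply c.hvM
    have hcop : i.Coprime (orderOf c.v) := by
      have h1 : orderOf c.v ∣ p ^ c.k := orderOf_dvd_of_pow_eq_one c.hvp
      have h2 : i.Coprime (p ^ c.k) :=
        Nat.Coprime.pow_right _ ((Nat.Prime.coprime_iff_not_dvd c.hpp).mpr hpi).symm
      exact Nat.Coprime.coprime_dvd_right h1 h2
    obtain ⟨m, hm⟩ := exists_pow_eq_self_of_coprime hcop
    rw [← hm]
    exact M.pow_mem hi m

/-- the predicate "has fixed points on `M_σ`". -/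
def Z (c : Ctx M E A p) (B : Subgroup G) : Prop :=
  Cfsg.sigmaCore M ⊓ centralizer (B : Set G) ≠ ⊥

/-- Lemma K: two points of `A` with fixed points on `M_σ` can only be conjugate by elements of
`M`. -/
theorem mem_of_conj (c : Ctx M E A p) {B : Subgroup G} (hB : B ≤ A) (hBp : Nat.card B = p)
    (hZ : c.Z B) {g : G} (hgB : B.map (MulAut.conj g).toMonoidHom ≤ A)
    (hZ' : c.Z (B.map (MulAut.conj g).toMonoidHom)) : g ∈ M := by
  have h1 := (c.t18.2.2 B hB hBp hZ).1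
  have h2 := (c.t18.2.2 _ hgB (by rw [card_map_conj]; exact hBp) hZ').2
  have h3 : centralizer ((B.map (MulAut.conj g).toMonoidHom : Subgroup G) : Set G) ≤
      M.map (MulAut.conj g).toMonoidHom := by
    intro x hx
    rw [mem_map_conj]
    apply h1
    rw [Subgroup.mem_centralizer_iff]
    intro b hb
    have h4 := Subgroup.mem_centralizer_iff.mp hx (g * b * g⁻¹) (conj_mem_map_conj hb)
    calc b * (g⁻¹ * x * g) = g⁻¹ * ((g * b * g⁻¹) * x) * g := by group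
      _ = g⁻¹ * (x * (g * b * g⁻¹)) * g := by rw [h4]
      _ = g⁻¹ * x * g * b := by group
  have h5 := h2 _ (Cfsg.Agent.Lib.Helper17.BGU.isCoatom_map_conj g c.hM) h3
  have h6 : g ∈ normalizer (M : Set G) := mem_normalizer_iff_map_conj.mpr h5
  rwa [normalizer_coatom c.hG c.hM c.hM1] at h6

theorem conj_B₁ (c : Ctx M E A p) : c.B₁.map (MulAut.conj c.v).toMonoidHom = c.B₁ := by
  apply map_conj_eq_of_le
  rintro _ ⟨b, hb, rfl⟩
  simp only [MulEquiv.coe_toMonoidHom, MulAut.conj_apply]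
  have h1 := Subgroup.mem_centralizer_singleton_iff.mp (Subgroup.mem_inf.mp hb).2
  rw [← h1]
  have e : b * c.v * c.v⁻¹ = b := by group
  rw [e]; exact hb

theorem not_Z_B₁ (c : Ctx M E A p) : ¬ c.Z c.B₁ := by
  intro h
  apply c.hvM
  apply c.mem_of_conj c.B₁_le c.card_B₁ h
  · rw [c.conj_B₁]; exact c.B₁_le
  · rw [c.conj_B₁]; exact h

/-- uniqueness of the point with fixed points. -/
theorem Z_unique (c : Ctx M E A p) {Y Y' : Subgroup G} (hY : Y ≤ A) (hYp : Nat.card Y = p)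
    (hZ : c.Z Y) (hY' : Y' ≤ A) (hY'p : Nat.card Y' = p) (hZ' : c.Z Y') : Y' = Y := by
  have hYB : Y ≠ c.B₁ := fun h => c.not_Z_B₁ (h ▸ hZ)
  have hY'B : Y' ≠ c.B₁ := fun h => c.not_Z_B₁ (h ▸ hZ')
  obtain ⟨i, hi⟩ := exists_pow_conj c.hAe c.hA2 c.hvA c.hvp c.hvC hY hYp hY' hY'p hYB hY'B
  have h1 : c.v ^ i ∈ M := c.mem_of_conj hY hYp hZ (hi ▸ hY') (hi ▸ hZ')
  rw [hi, c.conj_eq_of_pow_mem h1 hY]

theorem not_isCyclic_A (c : Ctx M E A p) : ¬ IsCyclic ↥A := by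
  intro h
  obtain ⟨g, hg⟩ := h.exists_generator
  have h1 := orderOf_eq_card_of_forall_mem_zpowers hg
  rw [c.hA2] at h1
  have h2 : g ^ p = 1 := Subtype.ext (by simpa using c.hAe.2 g g.2)
  have h3 : orderOf g ∣ p := orderOf_dvd_of_pow_eq_one h2
  rw [h1] at h3
  have h4 := Nat.le_of_dvd c.hpp.pos h3
  have h5 : p < p ^ 2 := by
    rw [pow_two]
    exact lt_mul_of_one_lt_left c.hpp.pos c.hpp.one_lt
  omega

theorem card_zpowers_of_mem (c : Ctx M E A p) {a : G} (ha : a ∈ A) (ha1 : a ≠ 1) :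
    Nat.card (zpowers a) = p := by
  rw [Nat.card_zpowers]
  have h1 : orderOf a ∣ p := orderOf_dvd_of_pow_eq_one (c.hAe.2 a ha)
  rcases (Nat.dvd_prime c.hpp).mp h1 with h | h
  · exact absurd (orderOf_eq_one_iff.mp h) ha1
  · exact h

theorem hcopAK (c : Ctx M E A p) : (Nat.card A).Coprime (Nat.card (Cfsg.sigmaCore M)) := by
  rw [c.hA2]
  apply Nat.Coprime.pow_left
  rw [Nat.Prime.coprime_iff_not_dvd c.hpp]
  intro h
  exact c.hpσ (Cfsg.Agent.Lib.Helper2.BGCor.primes_card_sigmaCore M p c.hpp h)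

/-- existence of the point `A₂` with `M_σ ≤ C_G(A₂)`. -/
theorem exists_A₂ (c : Ctx M E A p) : ∃ A₂ : Subgroup G, A₂ ≤ A ∧ Nat.card A₂ = p ∧ c.Z A₂ ∧
    Cfsg.sigmaCore M ≤ centralizer (A₂ : Set G) := by
  classical
  obtain ⟨K, hKdef⟩ : ∃ K : Subgroup G, K = Cfsg.sigmaCore M := ⟨_, rfl⟩
  have hAK : A ≤ normalizer (K : Set G) := by
    rw [hKdef]
    exact c.hAM.trans (Cfsg.Agent.Lib.Helper23.BGY.le_normalizer_sigmaCore M)
  haveI := c.hAe.1
  have hgen := Cfsg.Agent.S0058.result A K c.not_isCyclic_A hAK (hKdef ▸ c.hcopAK)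
  have hK1 : K ≠ ⊥ := hKdef ▸ c.hK1
  -- some `a` with `K ∩ C(a) ≠ 1`
  have hex : ∃ a ∈ A, a ≠ 1 ∧ K ⊓ centralizer ({a} : Set G) ≠ ⊥ := by
    by_contra hcon
    push Not at hcon
    apply hK1
    rw [← hgen, eq_bot_iff]
    apply iSup_le
    intro a
    apply iSup_le
    rintro ⟨ha, ha1⟩
    rw [hcon a ha ha1]
  obtain ⟨a, ha, ha1, hZa⟩ := hex
  have hza : zpowers a ≤ A := by rw [Subgroup.zpowers_le]; exact ha
  have hZ₂ : c.Z (zpowers a) := by
    unfold Z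
    rw [Cfsg.Agent.Lib.Helper1.BGX.centralizer_zpowers_eq, ← hKdef]
    exact hZa
  refine ⟨zpowers a, hza, c.card_zpowers_of_mem ha ha1, hZ₂, ?_⟩
  rw [← hKdef]
  have hle : K ≤ K ⊓ centralizer ((zpowers a : Subgroup G) : Set G) := by
    conv_lhs => rw [← hgen]
    apply iSup_le
    intro a'
    apply iSup_le
    rintro ⟨ha', ha'1⟩
    by_cases hZ' : K ⊓ centralizer ({a'} : Set G) = ⊥
    · rw [hZ']; exact bot_le
    · have hza' : zpowers a' ≤ A := by rw [Subgroup.zpowers_le]; exact ha'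
      have hZ'' : c.Z (zpowers a') := by
        unfold Z
        rw [Cfsg.Agent.Lib.Helper1.BGX.centralizer_zpowers_eq, ← hKdef]
        exact hZ'
      have := c.Z_unique hza (c.card_zpowers_of_mem ha ha1) hZ₂ hza'
        (c.card_zpowers_of_mem ha' ha'1) hZ''
      rw [← this, Cfsg.Agent.Lib.Helper1.BGX.centralizer_zpowers_eq]
  exact hle.trans inf_le_right

/-- `A₀ = A ∩ C_G(M_σ)` is the point `A₂`. -/
theorem A₀_eq (c : Ctx M E A p) {A₂ : Subgroup G} (h1 : A₂ ≤ A) (h2 : Nat.card A₂ = p)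
    (h4 : Cfsg.sigmaCore M ≤ centralizer (A₂ : Set G)) :
    A ⊓ centralizer (Cfsg.sigmaCore M : Set G) = A₂ := by
  have hle : A₂ ≤ A ⊓ centralizer (Cfsg.sigmaCore M : Set G) :=
    le_inf h1 (Subgroup.le_centralizer_iff.mp h4)
  symm
  apply Subgroup.eq_of_le_of_card_ge hle
  rw [h2]
  have hd : Nat.card ↥(A ⊓ centralizer (Cfsg.sigmaCore M : Set G)) ∣ p ^ 2 :=
    c.hA2 ▸ Subgroup.card_dvd_of_le inf_le_left
  obtain ⟨j, hj, hj2⟩ := (Nat.dvd_prime_pow c.hpp).mp hd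
  have hj2' : j ≠ 2 := by
    rintro rfl
    have h6 : A ⊓ centralizer (Cfsg.sigmaCore M : Set G) = A :=
      Subgroup.eq_of_le_of_card_ge inf_le_left (by rw [hj2, c.hA2])
    have h7 : A ≤ centralizer (Cfsg.sigmaCore M : Set G) := by
      rw [← h6]; exact inf_le_right
    have h8 : Cfsg.sigmaCore M ≤ Cfsg.sigmaCore M ⊓ centralizer (A : Set G) :=
      le_inf le_rfl (Subgroup.le_centralizer_iff.mp h7)
    rw [c.t17.2.2.2.1] at h8
    exact c.hK1 (le_bot_iff.mp h8)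
  rw [hj2]
  have : j ≤ 1 := by omega
  calc p ^ j ≤ p ^ 1 := Nat.pow_le_pow_right c.hpp.pos this
    _ = p := pow_one p

/-- **Part (3)** of S1419. -/
theorem part3 (c : Ctx M E A p) : ∀ X : Subgroup G, X ≤ E → Nat.card X = p →
    X ≠ A ⊓ centralizer (Cfsg.sigmaCore M : Set G) →
    Cfsg.sigmaCore M ⊓ centralizer (X : Set G) = ⊥ ∧ ¬ centralizer (X : Set G) ≤ M := by
  obtain ⟨A₂, h1, h2, h3, h4⟩ := c.exists_A₂
  rw [c.A₀_eq h1 h2 h4]
  intro X hXE hXp hXne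
  have hXA : X ≤ A := c.t18.1.2 X hXE hXp
  have hnZ : ¬ c.Z X := fun hZ => hXne (c.Z_unique h1 h2 h3 hXA hXp hZ)
  refine ⟨not_not.mp hnZ, ?_⟩
  intro hCX
  by_cases hXB : X = c.B₁
  · apply c.hvM
    apply hCX
    rw [hXB, Subgroup.mem_centralizer_iff]
    intro b hb
    exact (Subgroup.mem_centralizer_singleton_iff.mp (Subgroup.mem_inf.mp hb).2)
  · have hA₂B : A₂ ≠ c.B₁ := fun h => c.not_Z_B₁ (h ▸ h3)
    obtain ⟨i, hi⟩ := exists_pow_conj c.hAe c.hA2 c.hvA c.hvp c.hvC h1 h2 hXA hXp hA₂B hXB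
    have hgM : c.v ^ i ∉ M := by
      intro h
      apply hXne
      rw [hi, c.conj_eq_of_pow_mem h h1]
    apply hgM
    -- `g K g⁻¹ ≤ C(X) ≤ M`
    obtain ⟨g, hg⟩ : ∃ g : G, g = c.v ^ i := ⟨_, rfl⟩
    rw [← hg] at hi ⊢
    have h5 : (Cfsg.sigmaCore M).map (MulAut.conj g).toMonoidHom ≤ M := by
      refine le_trans ?_ hCX
      rintro _ ⟨y, hy, rfl⟩
      rw [hi, Subgroup.mem_centralizer_iff]
      rintro _ ⟨a, ha, rfl⟩
      simp only [MulEquiv.coe_toMonoidHom, MulAut.conj_apply]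
      have h6 := Subgroup.mem_centralizer_iff.mp (h4 hy) a ha
      calc g * a * g⁻¹ * (g * y * g⁻¹) = g * (a * y) * g⁻¹ := by group
        _ = g * (y * a) * g⁻¹ := by rw [h6]
        _ = g * y * g⁻¹ * (g * a * g⁻¹) := by group
    have h6 : (Cfsg.sigmaCore M).map (MulAut.conj g).toMonoidHom ≤ Cfsg.sigmaCore M := by
      apply Cfsg.Agent.Lib.Helper19.BG123.le_sigmaCore_of_primes c.hG c.hM h5
      intro r hr hrd
      rw [card_map_conj] at hrd
      exact Cfsg.Agent.Lib.Helper2.BGCor.primes_card_sigmaCore M r hr hrd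
    have h7 := map_conj_eq_of_le h6
    have h8 : g ∈ normalizer ((Cfsg.sigmaCore M : Subgroup G) : Set G) :=
      mem_normalizer_iff_map_conj.mpr h7
    haveI := c.hG.2.1
    rwa [Cfsg.Agent.Lib.Helper17.BGU.normalizer_eq_of_coatom c.hM
      (Cfsg.Agent.Lib.Helper2.BGCor.sigmaCore_le M) c.hK1
      (Cfsg.Agent.Lib.Helper23.BGY.le_normalizer_sigmaCore M)] at h8

/-- **Part (2a)** of S1419. -/
theorem part2a (c : Ctx M E A p) :
    Nat.card ↥(A ⊓ centralizer (Cfsg.sigmaCore M : Set G)) = p := by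
  obtain ⟨A₂, h1, h2, h3, h4⟩ := c.exists_A₂
  rw [c.A₀_eq h1 h2 h4]
  exact h2

end Ctx

end Cfsg.Agent.Lib.Helper19.BG127
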