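/-
helper19: Bender–Glauberman 12.7 (= S1419), part C: `τ₂(M) = {p}`.
-/
import Mathlib
import Cfsg.Agent.Lib.Helper19.BG127B
import Cfsg.Agent.Lib.Helper2.BGCorF
import Cfsg.Agent.Lib.Helper23.BGY4
import Cfsg.Agent.Lib.Helper9.BG95Inv
import Cfsg.Agent.S1408

set_option autoImplicit false
set_option linter.unusedSectionVars false
set_option linter.unusedVariables false
open scoped commutatorElement

namespace Cfsg.Agent.Lib.Helper19.BG127

open Cfsg Subgroup Cfsg.Agent.Lib.Helper8.BGEx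
open Cfsg.Agent.Lib.Helper8 (mem_map_conj conj_mem_map_conj map_conj_map_conj map_conj_one
  map_conj_le_iff map_conj_eq_iff card_map_conj mem_normalizer_iff_map_conj map_conj_eq_of_le)
open Cfsg.Agent.Lib.Helper1.BGX

variable {G : Type*} [Group G] [Finite G]

theorem elemAb_map_conj {t : ℕ} {A : Subgroup G} (hA : Cfsg.IsElementaryAbelian t A) (g : G) :
    Cfsg.IsElementaryAbelian t (A.map (MulAut.conj g).toMonoidHom) := by
  refine ⟨⟨⟨?_⟩⟩, ?_⟩
  · rintro ⟨_, a, ha, rfl⟩ ⟨_, b, hb, rfl⟩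
    apply Subtype.ext
    have h1 : a * b = b * a := congrArg Subtype.val (hA.1.is_comm.comm ⟨a, ha⟩ ⟨b, hb⟩)
    show (MulAut.conj g).toMonoidHom a * (MulAut.conj g).toMonoidHom b =
      (MulAut.conj g).toMonoidHom b * (MulAut.conj g).toMonoidHom a
    rw [← map_mul, ← map_mul, h1]
  · rintro _ ⟨a, ha, rfl⟩
    rw [← map_pow, hA.2 a ha, map_one]

theorem elemAb_comm {t : ℕ} {A : Subgroup G} (hA : Cfsg.IsElementaryAbelian t A) :
    ∀ a ∈ A, ∀ b ∈ A, a * b = b * a := fun a ha b hb =>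
  congrArg Subtype.val (hA.1.is_comm.comm ⟨a, ha⟩ ⟨b, hb⟩)

theorem elemAb_isPGroup {t : ℕ} {A : Subgroup G} (hA : Cfsg.IsElementaryAbelian t A) :
    IsPGroup t A :=
  fun a => ⟨1, by rw [pow_one]; exact Subtype.ext (by simpa using hA.2 a a.2)⟩

/-- a group of order `t²` has only the prime divisor `t`. -/
theorem prime_eq_of_dvd_sq {t r n : ℕ} (ht : t.Prime) (hr : r.Prime) (h : r ∣ t ^ n) : r = t :=
  (Nat.prime_dvd_prime_iff_eq hr ht).mp (hr.dvd_of_dvd_pow h)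

namespace Ctx

variable {M E A : Subgroup G} {p : ℕ} [Fact p.Prime]

theorem hAPs (c : Ctx M E A p) : A ≤ (c.Ps : Subgroup G) := c.hAP.trans c.hPPs

theorem tau2_eq (c : Ctx M E A p) : Cfsg.tau2 M = {p} := by
  classical
  haveI hsimple : IsSimpleGroup G := c.hG.2.1
  have hnc := c.hG.2.2.1
  ext t
  simp only [Set.mem_singleton_iff]
  constructor
  swap
  · rintro rfl; exact c.hp
  intro ht
  by_contra htp
  obtain ⟨ht_prime, htσ, htr2, htr1⟩ := ht
  haveI : Fact t.Prime := ⟨ht_prime⟩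
  have hpp := c.hpp
  obtain ⟨At', hAt'M, hAt'e, hAt'2⟩ := Cfsg.Agent.Lib.Helper23.BGY.exists_elemAb_sq htr1
  have hHall := (Cfsg.Agent.S1350.result c.hG M c.hM).1
  obtain ⟨g, hgM, hgE⟩ := Cfsg.Agent.Lib.Helper2.BGCor.exists_conj_le_compl c.hG c.hM hHall c.hE
    hAt'M (by
      intro r hr hrd
      rw [hAt'2] at hrd
      rw [prime_eq_of_dvd_sq ht_prime hr hrd]
      exact htσ)
  obtain ⟨At, hAtdef⟩ : ∃ At : Subgroup G, At = At'.map (MulAut.conj g).toMonoidHom := ⟨_, rfl⟩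
  rw [← hAtdef] at hgE
  have hAte : Cfsg.IsElementaryAbelian t At := hAtdef ▸ elemAb_map_conj hAt'e g
  have hAt2 : Nat.card At = t ^ 2 := by rw [hAtdef, card_map_conj]; exact hAt'2
  have hAtM : At ≤ M := hgE.trans c.hE.1
  have hAtp : IsPGroup t At := elemAb_isPGroup hAte
  have h18t := c.h18 M c.hM E c.hE t ⟨ht_prime, htσ, htr2, htr1⟩ At ⟨hgE, hAte, hAt2⟩
  have hEAt : E ≤ normalizer (At : Set G) := h18t.1.1
  have hAtall := h18t.1.2
  have hEA : E ≤ normalizer (A : Set G) := c.t18.1.1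
  -- `A` and `At` commute
  have hdisj : A ⊓ At = ⊥ :=
    (IsPGroup.disjoint_of_ne p t (Ne.symm htp) A At c.hAp hAtp).eq_bot
  have hAAt : ∀ a ∈ A, ∀ b ∈ At, a * b = b * a := by
    intro a ha b hb
    have h1 : a * b * a⁻¹ ∈ At := (Subgroup.mem_normalizer_iff.mp (hEAt (c.hAE ha)) b).mp hb
    have h2 : b * a⁻¹ * b⁻¹ ∈ A :=
      (Subgroup.mem_normalizer_iff.mp (hEA (hgE hb)) a⁻¹).mp (A.inv_mem ha)
    have h3 : a * b * a⁻¹ * b⁻¹ ∈ A ⊓ At := by
      refine ⟨?_, At.mul_mem h1 (At.inv_mem hb)⟩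
      have : a * b * a⁻¹ * b⁻¹ = a * (b * a⁻¹ * b⁻¹) := by group
      rw [this]; exact A.mul_mem ha h2
    rw [hdisj, Subgroup.mem_bot] at h3
    calc a * b = (a * b * a⁻¹ * b⁻¹) * (b * a) := by group
      _ = b * a := by rw [h3, one_mul]
  -- `v` normalizes `At`
  have hconjE : ∀ x ∈ At, c.v * x * c.v⁻¹ ∈ E := by
    intro x hx
    have h1 : c.v * x * c.v⁻¹ ∈ centralizer (A : Set G) := by
      rw [Subgroup.mem_centralizer_iff]
      intro a ha
      have h2 : c.v⁻¹ * a * c.v⁻¹⁻¹ ∈ A :=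
        (Subgroup.mem_normalizer_iff.mp (Subgroup.inv_mem _ c.hvA) a).mp ha
      have h3 := hAAt _ h2 x hx
      calc a * (c.v * x * c.v⁻¹) = c.v * ((c.v⁻¹ * a * c.v⁻¹⁻¹) * x) * c.v⁻¹ := by group
        _ = c.v * (x * (c.v⁻¹ * a * c.v⁻¹⁻¹)) * c.v⁻¹ := by rw [h3]
        _ = c.v * x * c.v⁻¹ * a := by group
    have h4 := c.t18.2.1.1 h1
    rw [c.t18.2.1.2.1] at h4
    exact h4
  have hvAt : c.v ∈ normalizer (At : Set G) := by
    apply Cfsg.Agent.Lib.Helper1.mem_normalizer_of_forall_conj_mem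
    intro x hx
    obtain ⟨y, hy⟩ : ∃ y : G, y = c.v * x * c.v⁻¹ := ⟨_, rfl⟩
    rw [← hy]
    have hyE : y ∈ E := hy ▸ hconjE x hx
    have hyt : y ^ t = 1 := by rw [hy, conj_pow, hAte.2 x hx, mul_one, mul_inv_cancel]
    by_cases hy1 : y = 1
    · rw [hy1]; exact At.one_mem
    · have hcard : Nat.card (zpowers y) = t := by
        rw [Nat.card_zpowers]
        rcases (Nat.dvd_prime ht_prime).mp (orderOf_dvd_of_pow_eq_one hyt) with h | h
        · exact absurd (orderOf_eq_one_iff.mp h) hy1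
        · exact h
      exact hAtall (zpowers y) (by rw [Subgroup.zpowers_le]; exact hyE) hcard
        (Subgroup.mem_zpowers y)
  have hvCAt : c.v ∉ centralizer (At : Set G) := fun h =>
    c.hvM (c.h16 M c.hM t At ⟨hAtM, hAte, hAt2⟩ h)
  -- the maximal subgroup `L ≥ N(At)`
  have hAt1 : At ≠ ⊥ := by
    rintro rfl
    rw [Subgroup.card_bot] at hAt2
    have : 1 < t ^ 2 := Nat.one_lt_pow (by norm_num) ht_prime.one_lt
    omega
  have hAttop : At ≠ ⊤ := Cfsg.Agent.Lib.Helper9.BG95Inv.ne_top_of_isPGroup hnc hAtp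
  obtain ⟨L, hL, hNL⟩ := Cfsg.Agent.Lib.Helper17.BGU.exists_coatom_ge
    (Cfsg.Agent.Lib.Helper17.BGU.normalizer_ne_top hAt1 hAttop)
  have hvL : c.v ∈ L := hNL hvAt
  have hAL : A ≤ L := (c.hAE.trans hEAt).trans hNL
  have hAtL : At ≤ L := Subgroup.le_normalizer.trans hNL
  have hLM : L ≠ M := fun h => c.hvM (h ▸ hvL)
  -- `p ∈ σ(L)`
  have hpL : p ∈ Cfsg.sigma L := by
    by_contra hpL
    have hr1L : ¬ Cfsg.PRankLE p 1 ↥L :=
      Cfsg.Agent.Lib.Helper17.BGU.not_pRankLE_of_elemAb hAL c.hAcomm c.hAe.2 (by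
        rw [c.hA2, pow_one, pow_two]
        exact lt_mul_of_one_lt_left hpp.pos hpp.one_lt)
    have hτL := Cfsg.Agent.Lib.Helper23.BGY.mem_tau2_of_not_rank_one c.hG hL hpp hpL hr1L
    have h17L := c.h17 L hL p hτL A ⟨hAL, c.hAe, c.hA2⟩
    have hQ : IsPGroup p ↥(A ⊔ zpowers c.v) :=
      c.Ps.2.to_le (sup_le c.hAPs (by rw [Subgroup.zpowers_le]; exact c.hvPs))
    have hQL : A ⊔ zpowers c.v ≤ L := sup_le hAL (by rw [Subgroup.zpowers_le]; exact hvL)
    have hcomm := Cfsg.Agent.Lib.Helper23.BGY.comm_of_isPGroup_of_sylow_comm hQL hQ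
      (fun P => (h17L.2.1 P).1)
    apply c.hvC
    rw [Subgroup.mem_centralizer_iff]
    intro a ha
    exact hcomm a (Subgroup.mem_sup_left ha) c.v (Subgroup.mem_sup_right (Subgroup.mem_zpowers _))
  have hAσL : A ≤ Cfsg.sigmaCore L :=
    Cfsg.Agent.Lib.Helper19.BG123.le_sigmaCore_of_primes c.hG hL hAL (by
      intro r hr hrd
      rw [c.hA2] at hrd
      rw [prime_eq_of_dvd_sq hpp hr hrd]
      exact hpL)
  -- `t ∈ σ(L)`
  have htL : t ∈ Cfsg.sigma L := by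
    by_contra htL
    have hr1L : ¬ Cfsg.PRankLE t 1 ↥L :=
      Cfsg.Agent.Lib.Helper17.BGU.not_pRankLE_of_elemAb hAtL (elemAb_comm hAte) hAte.2 (by
        rw [hAt2, pow_one, pow_two]
        exact lt_mul_of_one_lt_left ht_prime.pos ht_prime.one_lt)
    have hτL := Cfsg.Agent.Lib.Helper23.BGY.mem_tau2_of_not_rank_one c.hG hL ht_prime htL hr1L
    have h17L := c.h17 L hL t hτL At ⟨hAtL, hAte, hAt2⟩
    have h1 := h17L.2.2.2.2.1 M c.hM (Ne.symm hLM) hAtM
    have h2 : A ≤ Cfsg.sigmaCore L ⊓ M := le_inf hAσL c.hAM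
    rw [h1] at h2
    have h3 : A = ⊥ := le_bot_iff.mp h2
    have h4 := c.hA2
    rw [h3, Subgroup.card_bot] at h4
    have : 1 < p ^ 2 := Nat.one_lt_pow (by norm_num) hpp.one_lt
    omega
  have htβ : t ∉ Cfsg.beta L := fun h =>
    (Cfsg.Agent.S1408.result c.hG M c.hM t htσ htr2 htr1).1 h.2
  -- the commutator `[At, V]`
  obtain ⟨V, hVdef⟩ : ∃ V : Subgroup G, V = zpowers c.v := ⟨_, rfl⟩
  have hvV : c.v ∈ V := hVdef ▸ Subgroup.mem_zpowers _
  have hVL : V ≤ L := by rw [hVdef, Subgroup.zpowers_le]; exact hvL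
  have hVcard : Nat.card V ∣ p ^ c.k := by
    rw [hVdef, Nat.card_zpowers]; exact orderOf_dvd_of_pow_eq_one c.hvp
  have hVσ : V ≤ Cfsg.sigmaCore L :=
    Cfsg.Agent.Lib.Helper19.BG123.le_sigmaCore_of_primes c.hG hL hVL (by
      intro r hr hrd
      rw [prime_eq_of_dvd_sq hpp hr (hrd.trans hVcard)]
      exact hpL)
  have hAtσ : At ≤ Cfsg.sigmaCore L :=
    Cfsg.Agent.Lib.Helper19.BG123.le_sigmaCore_of_primes c.hG hL hAtL (by
      intro r hr hrd
      rw [hAt2] at hrd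
      rw [prime_eq_of_dvd_sq ht_prime hr hrd]
      exact htL)
  have hVN : V ≤ normalizer (At : Set G) := by rw [hVdef, Subgroup.zpowers_le]; exact hvAt
  have hpt : Nat.Coprime p t := (Nat.coprime_primes hpp ht_prime).mpr (Ne.symm htp)
  have hVt : (Nat.card V).Coprime t :=
    Nat.Coprime.coprime_dvd_left hVcard (Nat.Coprime.pow_left _ hpt)
  have hcop : (Nat.card V).Coprime (Nat.card At) := by
    rw [hAt2]; exact Nat.Coprime.pow_right 2 hVt
  have hAtnil : Group.IsNilpotent ↥At := hAtp.isNilpotent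
  have hXV : ⁅⁅At, V⁆, V⁆ = ⁅At, V⁆ :=
    Cfsg.Agent.S0027.result V At hVN hcop (Or.inr inferInstance)
  have hXAt : ⁅At, V⁆ ≤ At := Cfsg.Agent.Lib.Helper1.commutator_le_of_le_normalizer hVN
  have htcL : t ∣ Nat.card L := by
    have h1 : Nat.card At ∣ Nat.card L := Subgroup.card_dvd_of_le hAtL
    rw [hAt2] at h1
    exact (dvd_pow_self t (by norm_num)).trans h1
  have hnd := Cfsg.Agent.Lib.Helper19.BG123.not_dvd_card_of_commutator_eq c.hG hL ht_prime htcL htβ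
    hVσ hVt (hXAt.trans hAtσ) hXV
  have hXbot : ⁅At, V⁆ = ⊥ := by
    have h1 : Nat.card (⁅At, V⁆ : Subgroup G) ∣ t ^ 2 := hAt2 ▸ Subgroup.card_dvd_of_le hXAt
    obtain ⟨j, -, hj⟩ := (Nat.dvd_prime_pow ht_prime).mp h1
    have hj0 : j = 0 := by
      by_contra hj0
      exact hnd (hj ▸ dvd_pow_self t hj0)
    rw [hj0, pow_zero] at hj
    exact Subgroup.card_eq_one.mp hj
  apply hvCAt
  rw [Subgroup.commutator_eq_bot_iff_le_centralizer] at hXbot
  rw [Subgroup.mem_centralizer_iff]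
  intro x hx
  exact (Subgroup.mem_centralizer_iff.mp (hXbot hx) c.v hvV).symm

end Ctx

end Cfsg.Agent.Lib.Helper19.BG127
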