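/-
helper19: Bender–Glauberman 12.7 (= S1419), part D: `F(M) = M_σ × A₀`, and the construction of the
context `Ctx` from the hypotheses of S1419.
-/
import Mathlib
import Cfsg.Agent.Lib.Helper19.BG127C
import Cfsg.Agent.Lib.Helper17.PrimeAct3
import Cfsg.Agent.Lib.Helper17.RankOne
import Cfsg.Agent.Lib.Helper9.Cyclic
import Cfsg.Agent.S1412
import Cfsg.Agent.S1453

set_option autoImplicit false
set_option linter.unusedSectionVars false
set_option linter.unusedVariables false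
open scoped commutatorElement

namespace Cfsg.Agent.Lib.Helper19.BG127

open Cfsg Subgroup Cfsg.Agent.Lib.Helper8.BGEx
open Cfsg.Agent.Lib.Helper8 (mem_map_conj conj_mem_map_conj map_conj_map_conj map_conj_one
  map_conj_le_iff map_conj_eq_iff card_map_conj mem_normalizer_iff_map_conj map_conj_eq_of_le)
open Cfsg.Agent.Lib.Helper1.BGX

variable {G : Type*} [Group G] [Finite G]

/-- the `p`-th powers of the elements of a commutative subgroup form a subgroup. -/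
def powSub (P : Subgroup G) (hP : ∀ a ∈ P, ∀ b ∈ P, a * b = b * a) (p : ℕ) : Subgroup G where
  carrier := {a | ∃ y ∈ P, y ^ p = a}
  mul_mem' := by
    rintro _ _ ⟨y, hy, rfl⟩ ⟨z, hz, rfl⟩
    exact ⟨y * z, P.mul_mem hy hz, (Commute.mul_pow (hP y hy z hz) p)⟩
  one_mem' := ⟨1, P.one_mem, one_pow p⟩
  inv_mem' := by
    rintro _ ⟨y, hy, rfl⟩
    exact ⟨y⁻¹, P.inv_mem hy, inv_pow y p⟩

theorem mem_powSub {P : Subgroup G} {hP : ∀ a ∈ P, ∀ b ∈ P, a * b = b * a} {p : ℕ} {a : G} :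
    a ∈ powSub P hP p ↔ ∃ y ∈ P, y ^ p = a := Iff.rfl

/-- elements of a product of two elementwise commuting subgroups. -/
theorem exists_mul_of_mem_sup_of_commute {P₁ P₂ : Subgroup G}
    (hc : ∀ a ∈ P₁, ∀ b ∈ P₂, a * b = b * a) {g : G} (hg : g ∈ P₁ ⊔ P₂) :
    ∃ a ∈ P₁, ∃ b ∈ P₂, g = a * b := by
  have hN : P₁ ≤ normalizer (P₂ : Set G) := by
    intro a ha
    apply Cfsg.Agent.Lib.Helper1.mem_normalizer_of_forall_conj_mem
    intro b hb
    rw [hc a ha b hb]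
    have e : b * a * a⁻¹ = b := by group
    rw [e]; exact hb
  have h1 := Subgroup.coe_mul_of_left_le_normalizer_right P₁ P₂ hN
  have h2 : g ∈ ((P₁ ⊔ P₂ : Subgroup G) : Set G) := hg
  rw [h1] at h2
  obtain ⟨a, ha, b, hb, rfl⟩ := h2
  exact ⟨a, ha, b, hb, rfl⟩

/-- In a nonabelian Sylow `p`-subgroup of a minimal simple group of odd order, a maximal elementary
abelian subgroup of order `p²` does not consist of `p`-th powers. -/
theorem not_forall_pow (hG : Cfsg.IsMinSimpleOddOrder G) {p : ℕ} [Fact p.Prime] (Ps : Sylow p G)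
    (hS : ¬ IsMulCommutative (Ps : Subgroup G)) {A : Subgroup G} (hAPs : A ≤ (Ps : Subgroup G))
    (hAe : Cfsg.IsElementaryAbelian p A) (hA2 : Nat.card A = p ^ 2) (hncyc : ¬ IsCyclic ↥A)
    (hAmax : ∀ B : Subgroup G, Cfsg.IsElementaryAbelian p B → A ≤ B → B = A)
    (hpow : ∀ a ∈ A, ∃ y ∈ (Ps : Subgroup G), y ^ p = a) : False := by
  have hpp : p.Prime := Fact.out
  by_cases hr : Cfsg.PRankLE p 2 ↥(Ps : Subgroup G)
  · rcases Cfsg.Agent.S1412.result hG p Ps hr with h | ⟨P₁, P₂, hsup, hc, -, -, hexp, hcyc, -⟩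
    · exact hS h
    · have hAP₂ : A ≤ P₂ := by
        intro a ha
        obtain ⟨y, hy, rfl⟩ := hpow a ha
        rw [← hsup] at hy
        obtain ⟨a₁, ha₁, b, hb, rfl⟩ := exists_mul_of_mem_sup_of_commute hc hy
        rw [Commute.mul_pow (hc a₁ ha₁ b hb)]
        have h1 : a₁ ^ p = 1 := by
          have h2 := Monoid.pow_exponent_eq_one (⟨a₁, ha₁⟩ : ↥P₁)
          rw [hexp] at h2
          exact congrArg Subtype.val h2
        rw [h1, one_mul]; exact P₂.pow_mem hb p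
      exact hncyc (Subgroup.isCyclic_of_le hAP₂)
  · have hp2 : p ≠ 2 := by
      apply Cfsg.Agent.Lib.Helper1.BGX.ne_two_of_dvd_sub hG.1 (H := A)
      rw [hA2]; exact dvd_pow_self p (by norm_num)
    have hE : Cfsg.IsElementaryAbelian p (A.subgroupOf (Ps : Subgroup G)) := by
      refine ⟨⟨⟨?_⟩⟩, ?_⟩
      · rintro ⟨a, ha⟩ ⟨b, hb⟩
        apply Subtype.ext
        apply Subtype.ext
        exact elemAb_comm hAe _ (Subgroup.mem_subgroupOf.mp ha) _ (Subgroup.mem_subgroupOf.mp hb)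
      · intro a ha
        apply Subtype.ext
        exact hAe.2 _ (Subgroup.mem_subgroupOf.mp ha)
    have hE2 : Nat.card (A.subgroupOf (Ps : Subgroup G)) = p ^ 2 := by
      rw [Nat.card_congr (Subgroup.subgroupOfEquivOfLe hAPs).toEquiv, hA2]
    have hEmax : ∀ B : Subgroup ↥(Ps : Subgroup G), Cfsg.IsElementaryAbelian p B →
        A.subgroupOf (Ps : Subgroup G) ≤ B → B = A.subgroupOf (Ps : Subgroup G) := by
      intro B hB hle
      have h1 : Cfsg.IsElementaryAbelian p (B.map (Ps : Subgroup G).subtype) := by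
        refine ⟨⟨⟨?_⟩⟩, ?_⟩
        · rintro ⟨_, a, ha, rfl⟩ ⟨_, b, hb, rfl⟩
          apply Subtype.ext
          have h2 : a * b = b * a := congrArg Subtype.val (hB.1.is_comm.comm ⟨a, ha⟩ ⟨b, hb⟩)
          show (Ps : Subgroup G).subtype a * (Ps : Subgroup G).subtype b =
            (Ps : Subgroup G).subtype b * (Ps : Subgroup G).subtype a
          rw [← map_mul, ← map_mul, h2]
        · rintro _ ⟨a, ha, rfl⟩
          exact congrArg Subtype.val (hB.2 a ha)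
      have h2 : A ≤ B.map (Ps : Subgroup G).subtype := by
        intro a ha
        exact ⟨⟨a, hAPs ha⟩, hle (Subgroup.mem_subgroupOf.mpr ha), rfl⟩
      have h3 := hAmax _ h1 h2
      rw [← h3]
      ext x
      rw [Subgroup.mem_subgroupOf]
      constructor
      · intro hx; exact ⟨x, hx, rfl⟩
      · rintro ⟨y, hy, hyx⟩
        have : y = x := Subtype.ext hyx
        exact this ▸ hy
    obtain ⟨h1, -, -, hchar, hidx⟩ :=
      Cfsg.Agent.S1453.result p hp2 Ps.2 hr (A.subgroupOf (Ps : Subgroup G)) hE hE2 hEmax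
    apply h1
    intro a ha
    obtain ⟨y, hy, hya⟩ := hpow _ (Subgroup.mem_subgroupOf.mp ha)
    haveI := hchar
    have h2 := Subgroup.pow_index_mem (Subgroup.centralizer ((Subgroup.closure
      {x : ↥(Ps : Subgroup G) | x ∈ Subgroup.upperCentralSeries ↥(Ps : Subgroup G) 2 ∧ x ^ p = 1} :
        Subgroup ↥(Ps : Subgroup G)) : Set ↥(Ps : Subgroup G))) (⟨y, hy⟩ : ↥(Ps : Subgroup G))
    rw [hidx] at h2
    have h3 : (⟨y, hy⟩ : ↥(Ps : Subgroup G)) ^ p = a := Subtype.ext hya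
    rw [← h3]
    exact h2

namespace Ctx

variable {M E A : Subgroup G} {p : ℕ} [Fact p.Prime]

theorem hKM (c : Ctx M E A p) : Cfsg.sigmaCore M ≤ M := Cfsg.Agent.Lib.Helper2.BGCor.sigmaCore_le M

theorem hMK (c : Ctx M E A p) : M ≤ normalizer ((Cfsg.sigmaCore M : Subgroup G) : Set G) :=
  Cfsg.Agent.Lib.Helper23.BGY.le_normalizer_sigmaCore M

/-- `M` normalizes `A₀ = A ∩ C(M_σ)`. -/
theorem le_normalizer_A₀ (c : Ctx M E A p) :
    M ≤ normalizer ((A ⊓ centralizer (Cfsg.sigmaCore M : Set G) : Subgroup G) : Set G) := by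
  intro m hm
  obtain ⟨e, he, s, hs, rfl⟩ := c.hE.2.2.2 m hm
  apply Cfsg.Agent.Lib.Helper1.mem_normalizer_of_forall_conj_mem
  intro x hx
  have hxA : x ∈ A := hx.1
  have hxC := Subgroup.mem_centralizer_iff.mp hx.2
  have h1 : e * s * x * (e * s)⁻¹ = e * x * e⁻¹ := by
    have h2 := hxC s hs
    calc e * s * x * (e * s)⁻¹ = e * (s * x) * s⁻¹ * e⁻¹ := by group
      _ = e * (x * s) * s⁻¹ * e⁻¹ := by rw [h2]
      _ = e * x * e⁻¹ := by group
  rw [h1]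
  refine ⟨(Subgroup.mem_normalizer_iff.mp (c.t18.1.1 he) x).mp hxA, ?_⟩
  show e * x * e⁻¹ ∈ centralizer (Cfsg.sigmaCore M : Set G)
  rw [Subgroup.mem_centralizer_iff]
  intro y hy
  have heM : e ∈ M := c.hE.1 he
  have h3 : e⁻¹ * y * e⁻¹⁻¹ ∈ Cfsg.sigmaCore M :=
    (Subgroup.mem_normalizer_iff.mp (c.hMK (M.inv_mem heM)) y).mp hy
  have h4 := hxC _ h3
  calc y * (e * x * e⁻¹) = e * ((e⁻¹ * y * e⁻¹⁻¹) * x) * e⁻¹ := by group
    _ = e * (x * (e⁻¹ * y * e⁻¹⁻¹)) * e⁻¹ := by rw [h4]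
    _ = e * x * e⁻¹ * y := by group

/-- `M_σ A₀ ≤ F(M)`. -/
theorem le_fitting (c : Ctx M E A p) :
    Cfsg.sigmaCore M ⊔ (A ⊓ centralizer (Cfsg.sigmaCore M : Set G)) ≤ Cfsg.fittingOf M := by
  apply sup_le
  · exact Cfsg.Agent.Lib.Helper17.PrimeAct.le_fittingOf _ M c.hKM c.hMK c.t17.1
  · exact Cfsg.Agent.Lib.Helper17.PrimeAct.le_fittingOf _ M (inf_le_left.trans c.hAM)
      c.le_normalizer_A₀ (c.hAp.to_le inf_le_left).isNilpotent

/-- `O_t(M) ≤ M_σ` for `t ∈ σ(M)`. -/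
theorem pCoreOf_le_of_mem_sigma (c : Ctx M E A p) {t : ℕ} (ht : t.Prime) (htσ : t ∈ Cfsg.sigma M) :
    Cfsg.pCoreOf t M ≤ Cfsg.sigmaCore M := by
  haveI : Fact t.Prime := ⟨ht⟩
  apply Cfsg.Agent.Lib.Helper19.BG123.le_sigmaCore_of_primes c.hG c.hM
    (Cfsg.Agent.Lib.Helper17.PrimeAct.pCoreOf_le t M)
  intro r hr hrd
  obtain ⟨n, hn⟩ := IsPGroup.iff_card.mp (Cfsg.Agent.Lib.Helper17.PrimeAct.pCoreOf_isPGroup t M)
  rw [hn] at hrd
  rw [prime_eq_of_dvd_sq ht hr hrd]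
  exact htσ

/-- `O_t(M) = 1` for `t ∉ σ(M)`, `t ≠ p`. -/
theorem pCoreOf_eq_bot (c : Ctx M E A p) {t : ℕ} (ht : t.Prime) (htσ : t ∉ Cfsg.sigma M)
    (htp : t ≠ p) : Cfsg.pCoreOf t M = ⊥ := by
  classical
  haveI : Fact t.Prime := ⟨ht⟩
  haveI hsimple : IsSimpleGroup G := c.hG.2.1
  by_contra hT
  obtain ⟨T, hTdef⟩ : ∃ T : Subgroup G, T = Cfsg.pCoreOf t M := ⟨_, rfl⟩
  rw [← hTdef] at hT
  have hTM : T ≤ M := hTdef ▸ Cfsg.Agent.Lib.Helper17.PrimeAct.pCoreOf_le t M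
  have hTt : IsPGroup t T := hTdef ▸ Cfsg.Agent.Lib.Helper17.PrimeAct.pCoreOf_isPGroup t M
  have hMT : M ≤ normalizer (T : Set G) :=
    hTdef ▸ Subgroup.le_normalizer.trans
      (Cfsg.Agent.Lib.Helper17.PrimeAct.normalizer_le_normalizer_pCoreOf t M)
  have hNT : normalizer (T : Set G) = M :=
    Cfsg.Agent.Lib.Helper17.BGU.normalizer_eq_of_coatom c.hM hTM hT hMT
  have hrk : Cfsg.PRankLE t 1 ↥M := by
    by_contra hrk
    have := Cfsg.Agent.Lib.Helper23.BGY.mem_tau2_of_not_rank_one c.hG c.hM ht htσ hrk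
    rw [c.tau2_eq] at this
    exact htp this
  have htT : t ∣ Nat.card T := by
    obtain ⟨n, hn⟩ := IsPGroup.iff_card.mp hTt
    rw [hn]
    apply dvd_pow_self
    rintro rfl
    rw [pow_zero] at hn
    exact hT (Subgroup.card_eq_one.mp hn)
  have ht2 : t ≠ 2 := Cfsg.Agent.Lib.Helper1.BGX.ne_two_of_dvd_sub c.hG.1 htT
  obtain ⟨St⟩ : Nonempty (Sylow t ↥M) := inferInstance
  have hcyc : IsCyclic ↥(St : Subgroup ↥M) :=
    Cfsg.Agent.Lib.Helper17.isCyclic_of_pRankLE_one ht2 hrk St St.2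
  have hcyc' : IsCyclic ↥((St : Subgroup ↥M).map M.subtype) :=
    (Subgroup.equivMapOfInjective _ _ M.subtype_injective).isCyclic.mp hcyc
  have hTS : T ≤ (St : Subgroup ↥M).map M.subtype :=
    hTdef ▸ Cfsg.Agent.Lib.Helper17.PrimeAct.pCoreOf_le_sylow M St
  apply htσ
  refine ⟨ht, htT.trans (Subgroup.card_dvd_of_le hTM), St, ?_⟩
  intro g hg
  rw [← hNT, mem_normalizer_iff_map_conj]
  have hle : T.map (MulAut.conj g).toMonoidHom ≤ (St : Subgroup ↥M).map M.subtype :=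
    calc T.map (MulAut.conj g).toMonoidHom
        ≤ ((St : Subgroup ↥M).map M.subtype).map (MulAut.conj g).toMonoidHom :=
          Subgroup.map_mono hTS
      _ = (St : Subgroup ↥M).map M.subtype := mem_normalizer_iff_map_conj.mp hg
  exact Cfsg.Agent.Lib.Helper9.eq_of_card_eq_of_le_isCyclic ((St : Subgroup ↥M).map M.subtype) _ _
    hle hTS (card_map_conj _ _)

theorem hZA₀ (c : Ctx M E A p) : c.Z (A ⊓ centralizer (Cfsg.sigmaCore M : Set G)) := by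
  unfold Z
  have h1 : Cfsg.sigmaCore M ≤
      centralizer ((A ⊓ centralizer (Cfsg.sigmaCore M : Set G) : Subgroup G) : Set G) :=
    Subgroup.le_centralizer_iff.mp inf_le_right
  rw [inf_of_le_left h1]
  exact c.hK1

/-- `O_p(M) ≤ A₀`. -/
theorem pCoreOf_p_le (c : Ctx M E A p) (hS : ¬ IsMulCommutative (c.Ps : Subgroup G)) :
    Cfsg.pCoreOf p M ≤ A ⊓ centralizer (Cfsg.sigmaCore M : Set G) := by
  classical
  have hpp := c.hpp
  obtain ⟨T, hTdef⟩ : ∃ T : Subgroup G, T = Cfsg.pCoreOf p M := ⟨_, rfl⟩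
  rw [← hTdef]
  have hTM : T ≤ M := hTdef ▸ Cfsg.Agent.Lib.Helper17.PrimeAct.pCoreOf_le p M
  have hTt : IsPGroup p T := hTdef ▸ Cfsg.Agent.Lib.Helper17.PrimeAct.pCoreOf_isPGroup p M
  have hMT : M ≤ normalizer (T : Set G) :=
    hTdef ▸ Subgroup.le_normalizer.trans
      (Cfsg.Agent.Lib.Helper17.PrimeAct.normalizer_le_normalizer_pCoreOf p M)
  have hTP : T ≤ c.P := hTdef ▸ Cfsg.Agent.Lib.Helper17.PrimeAct.pCoreOf_le_sylow M c.PM
  -- `T` centralizes `K`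
  have hTK : T ≤ centralizer (Cfsg.sigmaCore M : Set G) := by
    have hdisj : T ⊓ Cfsg.sigmaCore M = ⊥ := by
      apply Subgroup.inf_eq_bot_of_coprime
      obtain ⟨n, hn⟩ := IsPGroup.iff_card.mp hTt
      rw [hn]
      apply Nat.Coprime.pow_left
      rw [Nat.Prime.coprime_iff_not_dvd hpp]
      intro h
      exact c.hpσ (Cfsg.Agent.Lib.Helper2.BGCor.primes_card_sigmaCore M p hpp h)
    intro x hx
    rw [Subgroup.mem_centralizer_iff]
    intro y hy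
    have h1 : x * y * x⁻¹ ∈ Cfsg.sigmaCore M :=
      (Subgroup.mem_normalizer_iff.mp (c.hMK (hTM hx)) y).mp hy
    have h2 : y * x⁻¹ * y⁻¹ ∈ T :=
      (Subgroup.mem_normalizer_iff.mp (hMT (c.hKM hy)) x⁻¹).mp (T.inv_mem hx)
    have h3 : x * y * x⁻¹ * y⁻¹ ∈ T ⊓ Cfsg.sigmaCore M := by
      refine ⟨?_, (Cfsg.sigmaCore M).mul_mem h1 ((Cfsg.sigmaCore M).inv_mem hy)⟩
      have e : x * y * x⁻¹ * y⁻¹ = x * (y * x⁻¹ * y⁻¹) := by group
      rw [e]; exact T.mul_mem hx h2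
    rw [hdisj, Subgroup.mem_bot] at h3
    calc y * x = (x * y * x⁻¹ * y⁻¹)⁻¹ * (x * y) := by group
      _ = x * y := by rw [h3, inv_one, one_mul]
  have hmem : ∀ x ∈ T, x ^ p = 1 → x ∈ A ⊓ centralizer (Cfsg.sigmaCore M : Set G) :=
    fun x hx hxp => ⟨(c.hPA x (hTP hx)).mp hxp, hTK hx⟩
  by_cases hexp : ∀ x ∈ T, x ^ p = 1
  · exact fun x hx => hmem x hx (hexp x hx)
  exfalso
  push Not at hexp
  obtain ⟨x, hxT, hxp⟩ := hexp
  obtain ⟨A0, hA0def⟩ : ∃ A0 : Subgroup G, A0 = A ⊓ centralizer (Cfsg.sigmaCore M : Set G) :=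
    ⟨_, rfl⟩
  rw [← hA0def] at hmem
  have hA0A : A0 ≤ A := hA0def ▸ inf_le_left
  have hA0p : Nat.card A0 = p := hA0def ▸ c.part2a
  have hZ0 : c.Z A0 := hA0def ▸ c.hZA₀
  obtain ⟨W, hWdef⟩ : ∃ W : Subgroup G, W = powSub c.P c.hPcomm p := ⟨_, rfl⟩
  -- `A₀ ≤ W`
  have hA0W : A0 ≤ W := by
    obtain ⟨k, hk⟩ := hTt ⟨x, hxT⟩
    have hk' : x ^ (p ^ k) = 1 := by simpa using congrArg Subtype.val hk
    obtain ⟨j, -, hj⟩ := (Nat.dvd_prime_pow hpp).mp (orderOf_dvd_of_pow_eq_one hk')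
    have hj2 : 2 ≤ j := by
      by_contra hlt
      apply hxp
      have h1 : orderOf x ∣ p := by
        rw [hj]
        calc p ^ j ∣ p ^ 1 := Nat.pow_dvd_pow p (by omega)
          _ = p := pow_one p
      exact orderOf_dvd_iff_pow_eq_one.mp h1
    obtain ⟨i, rfl⟩ : ∃ i, j = i + 2 := ⟨j - 2, by omega⟩
    obtain ⟨y₀, hy₀⟩ : ∃ y₀ : G, y₀ = x ^ (p ^ i) := ⟨_, rfl⟩
    have hy₀T : y₀ ∈ T := hy₀ ▸ T.pow_mem hxT _
    have hzp : (y₀ ^ p) ^ p = 1 := by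
      rw [hy₀, ← pow_mul, ← pow_mul]
      have e : p ^ i * (p * p) = orderOf x := by rw [hj]; ring
      rw [e]
      exact pow_orderOf_eq_one x
    have hz1 : y₀ ^ p ≠ 1 := by
      rw [hy₀, ← pow_mul]
      intro h
      have h1 := orderOf_dvd_of_pow_eq_one h
      rw [hj] at h1
      have e : p ^ i * p = p ^ (i + 1) := by ring
      rw [e] at h1
      have h2 := (Nat.pow_dvd_pow_iff_le_right hpp.one_lt).mp h1
      omega
    have hzA0 : y₀ ^ p ∈ A0 := hmem _ (T.pow_mem hy₀T p) hzp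
    have h1 := eq_zpowers_of_card_prime hA0p hzA0 hz1
    intro a ha
    rw [h1] at ha
    obtain ⟨n, rfl⟩ := Subgroup.mem_zpowers_iff.mp ha
    rw [hWdef, mem_powSub]
    refine ⟨y₀ ^ n, c.P.zpow_mem (hTP hy₀T) n, ?_⟩
    rw [← zpow_natCast, ← zpow_natCast, ← zpow_mul, ← zpow_mul, mul_comm]
  -- `cj v A₀ ≤ W`
  have hvA0W : A0.map (MulAut.conj c.v).toMonoidHom ≤ W := by
    rintro _ ⟨a, ha, rfl⟩
    obtain ⟨y, hy, rfl⟩ := mem_powSub.mp (hWdef ▸ hA0W ha)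
    rw [hWdef, mem_powSub]
    refine ⟨c.v * y * c.v⁻¹, (Subgroup.mem_normalizer_iff.mp c.hvP y).mp hy, ?_⟩
    simp only [MulEquiv.coe_toMonoidHom, MulAut.conj_apply]
    rw [conj_pow]
  have hvA0A : A0.map (MulAut.conj c.v).toMonoidHom ≤ A := by
    rintro _ ⟨a, ha, rfl⟩
    exact (Subgroup.mem_normalizer_iff.mp c.hvA a).mp (hA0A ha)
  have hAmax := (Cfsg.Agent.S1408.result c.hG M c.hM p c.hpσ c.hp.2.2.1 c.hp.2.2.2).2 A c.hAM
    c.hAe c.hA2
  by_cases hWA : A ≤ W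
  · apply not_forall_pow c.hG c.Ps hS c.hAPs c.hAe c.hA2 c.not_isCyclic_A hAmax
    intro a ha
    obtain ⟨y, hy, h⟩ := mem_powSub.mp (hWdef ▸ hWA ha)
    exact ⟨y, c.hPPs hy, h⟩
  · have hcard : Nat.card ↥(W ⊓ A) ≤ p := by
      have hd : Nat.card ↥(W ⊓ A) ∣ p ^ 2 := c.hA2 ▸ Subgroup.card_dvd_of_le inf_le_right
      obtain ⟨j, hj, hj2⟩ := (Nat.dvd_prime_pow hpp).mp hd
      have hj2' : j ≠ 2 := by
        rintro rfl
        apply hWA
        have h6 : W ⊓ A = A := Subgroup.eq_of_le_of_card_ge inf_le_right (by rw [hj2, c.hA2])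
        rw [← h6]; exact inf_le_left
      rw [hj2]
      calc p ^ j ≤ p ^ 1 := Nat.pow_le_pow_right hpp.pos (by omega)
        _ = p := pow_one p
    have e1 : A0 = W ⊓ A :=
      Subgroup.eq_of_le_of_card_ge (le_inf hA0W hA0A) (by rw [hA0p]; exact hcard)
    have e2 : A0.map (MulAut.conj c.v).toMonoidHom = W ⊓ A :=
      Subgroup.eq_of_le_of_card_ge (le_inf hvA0W hvA0A) (by
        rw [card_map_conj, hA0p]; exact hcard)
    have e3 : A0.map (MulAut.conj c.v).toMonoidHom = A0 := e2.trans e1.symm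
    exact c.hvM (c.mem_of_conj hA0A hA0p hZ0 (e3.le.trans hA0A) (by rw [e3]; exact hZ0))

/-- **`F(M) = M_σ A₀`**. -/
theorem fitting_eq (c : Ctx M E A p) (hS : ¬ IsMulCommutative (c.Ps : Subgroup G)) :
    Cfsg.fittingOf M =
      Cfsg.sigmaCore M ⊔ (A ⊓ centralizer (Cfsg.sigmaCore M : Set G)) := by
  apply le_antisymm _ c.le_fitting
  rw [Cfsg.Agent.Lib.Helper17.PrimeAct.fittingOf_eq_iSup]
  apply iSup_le
  rintro ⟨t, ht⟩
  show Cfsg.pCoreOf t M ≤ _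
  by_cases htσ : t ∈ Cfsg.sigma M
  · exact (c.pCoreOf_le_of_mem_sigma ht htσ).trans le_sup_left
  · by_cases htp : t = p
    · subst htp
      exact (c.pCoreOf_p_le hS).trans le_sup_right
    · rw [c.pCoreOf_eq_bot ht htσ htp]
      exact bot_le

end Ctx

/-- construction of the context from the hypotheses of S1419. -/
theorem exists_ctx (hG : Cfsg.IsMinSimpleOddOrder G) (h16 : C16 G) (h17 : C17 G) (h18 : C18 G)
    {M E A : Subgroup G} {p : ℕ} [Fact p.Prime] (hM : IsCoatom M)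
    (hE : Cfsg.IsComplIn E (Cfsg.sigmaCore M) M) (hp : p ∈ Cfsg.tau2 M)
    (hS : ∀ S : Sylow p G, ¬ IsMulCommutative (S : Subgroup G))
    (hA : A ≤ E ∧ Cfsg.IsElementaryAbelian p A ∧ Nat.card A = p ^ 2) :
    ∃ c : Ctx M E A p, c.hG = hG := by
  classical
  have hpp : p.Prime := Fact.out
  have hAM : A ≤ M := hA.1.trans hE.1
  have hAp : IsPGroup p A := elemAb_isPGroup hA.2.1
  obtain ⟨PM, hPM⟩ := (hAp.comap_subtype (K := M)).exists_le_sylow
  have hAP : A ≤ (PM : Subgroup M).map M.subtype := by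
    intro a ha
    exact ⟨⟨a, hAM ha⟩, hPM (Subgroup.mem_subgroupOf.mpr ha), rfl⟩
  obtain ⟨Ps, hPPs⟩ := (PM.2.map M.subtype).exists_le_sylow
  have t17 := h17 M hM p hp A ⟨hAM, hA.2.1, hA.2.2⟩
  have hPcomm : ∀ a ∈ (PM : Subgroup M).map M.subtype, ∀ b ∈ (PM : Subgroup M).map M.subtype,
      a * b = b * a := by
    rintro _ ⟨a, ha, rfl⟩ _ ⟨b, hb, rfl⟩
    have := (t17.2.1 PM).1.is_comm.comm ⟨a, ha⟩ ⟨b, hb⟩
    have h2 : a * b = b * a := congrArg Subtype.val this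
    exact congrArg Subtype.val h2
  have hlt : (PM : Subgroup M).map M.subtype < (Ps : Subgroup G) := by
    apply lt_of_le_of_ne hPPs
    intro h
    apply hS Ps
    refine ⟨⟨?_⟩⟩
    rintro ⟨a, ha⟩ ⟨b, hb⟩
    apply Subtype.ext
    exact hPcomm a (h ▸ ha) b (h ▸ hb)
  obtain ⟨v, hv, hvP⟩ := SetLike.exists_of_lt (Cfsg.Agent.Lib.Helper17.BGU.lt_inf_normalizer Ps.2 hlt)
  have hvM : v ∉ M := by
    intro hvM
    apply hvP
    obtain ⟨Q, hQdef⟩ : ∃ Q : Subgroup G, Q = (PM : Subgroup M).map M.subtype ⊔ zpowers v :=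
      ⟨_, rfl⟩
    have hQPs : Q ≤ (Ps : Subgroup G) := by
      rw [hQdef]
      exact sup_le hPPs (by rw [Subgroup.zpowers_le]; exact hv.1)
    have hQp : IsPGroup p (Q.subgroupOf M) := (Ps.2.to_le hQPs).comap_subtype
    have hle : (PM : Subgroup M) ≤ Q.subgroupOf M := by
      intro x hx
      rw [Subgroup.mem_subgroupOf, hQdef]
      exact Subgroup.mem_sup_left ⟨x, hx, rfl⟩
    have h1 := PM.is_maximal' hQp hle
    have h2 : (⟨v, hvM⟩ : ↥M) ∈ Q.subgroupOf M := by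
      rw [Subgroup.mem_subgroupOf, hQdef]
      exact Subgroup.mem_sup_right (Subgroup.mem_zpowers v)
    rw [h1] at h2
    exact ⟨⟨v, hvM⟩, h2, rfl⟩
  obtain ⟨k, hk⟩ := Ps.2 ⟨v, hv.1⟩
  have hk' : v ^ (p ^ k) = 1 := by simpa using congrArg Subtype.val hk
  exact ⟨⟨hG, h16, h17, h18, hM, hE, hp, hA.1, hA.2.1, hA.2.2, PM, hAP, Ps, hPPs, v, k, hv.1, hv.2,
    hvM, hk'⟩, rfl⟩

end Cfsg.Agent.Lib.Helper19.BG127
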