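/-
helper19: DEFECT-ONE Part O, leaf DO-INV `muZ_inv`, in `_of` form over the frozen statements of
LOC2 (`block_of_pTriv`, first clause) and CONJ (`isIrrCharacter_conjC`, `hasIdx_conjC`,
`mem_blockOf_conjC`, `mult_conjC`).
-/
import Mathlib
import Cfsg.Prelude.Def_BlockRank
import Cfsg.Agent.Lib.Helper27.DODefs
import Cfsg.Agent.Lib.Helper27.BlkAlgDefs2

set_option autoImplicit false

namespace Cfsg.Agent.Lib.Helper19.DOINV

open Cfsg Cfsg.Agent.Lib.Helper8.DOM Cfsg.Agent.Lib.Helper27.DO Cfsg.Agent.Lib.Helper27.BlkAlg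
open scoped ComplexConjugate

universe u

variable {G : Type u} [Group G] [Finite G] {p : ℕ} [Fact p.Prime] {M : Ideal AlgInt}
  {P : Subgroup G} {B : Set (IrrCharacter G)} {θ : IrrCharacter (Cz P)} {T : Subgroup G} {x0 : G}

omit [Finite G] [Fact p.Prime] in
/-- `muC` is the multiplicity of the unique member of the block with the given central index. -/
theorem muC_eq_mult_of_unique (χ : IrrCharacter G) (i : ZMod p) (φ : IrrCharacter (Cz P))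
    (hφ : φ ∈ blockOf M (θ : Cz P → ℂ) ∧ HasIdx p P x0 (φ : Cz P → ℂ) i)
    (huniq : ∀ φ' : IrrCharacter (Cz P),
      (φ' ∈ blockOf M (θ : Cz P → ℂ) ∧ HasIdx p P x0 (φ' : Cz P → ℂ) i) → φ' = φ) :
    muC p M P θ x0 χ i = mult (Cz P) (χ : G → ℂ) (φ : Cz P → ℂ) := by
  unfold muC
  have hset : {φ' : IrrCharacter (Cz P) | φ' ∈ blockOf M (θ : Cz P → ℂ) ∧
      HasIdx p P x0 (φ' : Cz P → ℂ) i} = {φ} := by
    ext φ'
    simp only [Set.mem_setOf_eq, Set.mem_singleton_iff]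
    constructor
    · exact huniq φ'
    · rintro rfl; exact hφ
  rw [hset, finsum_mem_singleton]

/-- INV in `_of` form. -/
theorem muZ_inv_of (c : Ctx p M P B θ T x0)
    (hL : ∀ i : ZMod p, ∃! φ : IrrCharacter (Cz P),
      φ ∈ blockOf M (θ : Cz P → ℂ) ∧ HasIdx p P x0 (φ : Cz P → ℂ) i)
    (hirr : ∀ (n : Nz P) (φ : IrrCharacter (Cz P)),
      IsIrrCharacter (Cz P) (conjC P n (φ : Cz P → ℂ)))
    (hidx : ∀ (n : Nz P) (u : (ZMod p)ˣ),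
      (n : G) * x0 * (n : G)⁻¹ = x0 ^ (u : ZMod p).val → ∀ (φ : Cz P → ℂ) (i : ZMod p),
      HasIdx p P x0 φ i → HasIdx p P x0 (conjC P n φ) ((u : ZMod p) * i))
    (hblk : ∀ (n : Nz P) (φ φ' : IrrCharacter (Cz P)), φ' ∈ blockOf M (φ : Cz P → ℂ) →
      (⟨conjC P n (φ' : Cz P → ℂ), hirr n φ'⟩ : IrrCharacter (Cz P)) ∈
        blockOf M (conjC P n (φ : Cz P → ℂ)))
    (hmult : ∀ (n : Nz P) (χ : IrrCharacter G) (φ : Cz P → ℂ),
      mult (Cz P) (χ : G → ℂ) (conjC P n φ) = mult (Cz P) (χ : G → ℂ) φ)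
    (χ : IrrCharacter G) (u : (ZMod p)ˣ)
    (hu : ∃ n ∈ T, n * x0 * n⁻¹ = x0 ^ (u : ZMod p).val) (i : ZMod p) :
    muZ p M P θ x0 χ ((u : ZMod p) * i) = muZ p M P θ x0 χ i := by
  obtain ⟨n, hnT, hn⟩ := hu
  obtain ⟨hnN, hnθ⟩ := (c.hT n).mp hnT
  set n' : Nz P := ⟨n, hnN⟩ with hn'def
  have hθn : conjC P n' (θ : Cz P → ℂ) = (θ : Cz P → ℂ) := by
    funext x
    unfold conjC
    exact hnθ x _ rfl
  obtain ⟨φi, hφi, huniqi⟩ := hL i
  obtain ⟨φ', hφ', huniq'⟩ := hL ((u : ZMod p) * i)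
  set ψ : IrrCharacter (Cz P) := ⟨conjC P n' (φi : Cz P → ℂ), hirr n' φi⟩ with hψdef
  have hψb : ψ ∈ blockOf M (θ : Cz P → ℂ) := by
    have := hblk n' θ φi hφi.1
    rw [hθn] at this
    exact this
  have hψi : HasIdx p P x0 (ψ : Cz P → ℂ) ((u : ZMod p) * i) :=
    hidx n' u hn (φi : Cz P → ℂ) i hφi.2
  have hψeq : ψ = φ' := huniq' ψ ⟨hψb, hψi⟩
  have h1 : muC p M P θ x0 χ ((u : ZMod p) * i) = mult (Cz P) (χ : G → ℂ) (φ' : Cz P → ℂ) :=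
    muC_eq_mult_of_unique χ _ φ' hφ' huniq'
  have h2 : muC p M P θ x0 χ i = mult (Cz P) (χ : G → ℂ) (φi : Cz P → ℂ) :=
    muC_eq_mult_of_unique χ _ φi hφi huniqi
  have h3 : mult (Cz P) (χ : G → ℂ) (φ' : Cz P → ℂ) = mult (Cz P) (χ : G → ℂ) (φi : Cz P → ℂ) := by
    rw [← hψeq]
    exact hmult n' χ (φi : Cz P → ℂ)
  unfold muZ
  rw [h1, h2, h3]

end Cfsg.Agent.Lib.Helper19.DOINV
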