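/-
helper19: DEFECT-ONE Part O, leaf DO-INV `muZ_inv`, EXACT form
(`DOINV.muZ_inv_of` + helper22's LOC2 + helper16's CONJ).
-/
import Mathlib
import Cfsg.Prelude.Def_BlockRank
import Cfsg.Agent.Lib.Helper27.DODefs
import Cfsg.Agent.Lib.Helper27.BlkAlgDefs2
import Cfsg.Agent.Lib.Helper22.DOLOC2
import Cfsg.Agent.Lib.Helper16.DOCONJ
import Cfsg.Agent.Lib.Helper19.DOINV

set_option autoImplicit false

namespace Cfsg.Agent.Lib.Helper19.DOINVX

open Cfsg Cfsg.Agent.Lib.Helper8.DOM Cfsg.Agent.Lib.Helper27.DO Cfsg.Agent.Lib.Helper27.BlkAlg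
open scoped ComplexConjugate

universe u

variable {G : Type u} [Group G] [Finite G] {p : ℕ} [Fact p.Prime] {M : Ideal AlgInt}
  {P : Subgroup G} {B : Set (IrrCharacter G)} {θ : IrrCharacter (Cz P)} {T : Subgroup G} {x0 : G}

/-- INV : `T`-invariance of the multiplicities. -/
theorem muZ_inv (c : Ctx p M P B θ T x0) (χ : IrrCharacter G) (u : (ZMod p)ˣ)
    (hu : ∃ n ∈ T, n * x0 * n⁻¹ = x0 ^ (u : ZMod p).val) (i : ZMod p) :
    muZ p M P θ x0 χ ((u : ZMod p) * i) = muZ p M P θ x0 χ i :=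
  Cfsg.Agent.Lib.Helper19.DOINV.muZ_inv_of c
    (Cfsg.Agent.Lib.Helper22.DOLOC2.block_of_pTriv c.hM P c.hP c.hSyl x0 c.gen θ c.hθP).1
    (Cfsg.Agent.Lib.Helper16.DOCONJ.isIrrCharacter_conjC P)
    (fun n u hu φ i h => Cfsg.Agent.Lib.Helper16.DOCONJ.hasIdx_conjC P x0 c.gen n u hu φ i h)
    (fun n φ φ' h => Cfsg.Agent.Lib.Helper16.DOCONJ.mem_blockOf_conjC P n φ φ' h)
    (Cfsg.Agent.Lib.Helper16.DOCONJ.mult_conjC P) χ u hu i

end Cfsg.Agent.Lib.Helper19.DOINVX
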