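/-
helper19: S4607 leaf (B1) `isAlgClosed_resField` (planner helper27):
the residue field of the local ring at a maximal ideal of the algebraic integers is algebraically
closed.  [Every residue class contains an algebraic integer, so a monic polynomial over the residue
field lifts to a monic polynomial over `AlgInt`; a complex root of the lift is integral over `AlgInt`,
hence an algebraic integer; reduce it.]
-/
import Cfsg.Agent.Lib.Helper27.BlkAlgDefs

set_option autoImplicit false

namespace Cfsg.Agent.Lib.Helper19.BlkAlgB1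

open Cfsg Cfsg.Agent.Lib.Helper6 Cfsg.Agent.Lib.Helper24 Cfsg.Agent.Lib.Helper27.BlkAlg
open Polynomial

variable (M : Ideal AlgInt) [hmax : M.IsMaximal]

/-- The inclusion of the algebraic integers into the local ring at `M`. -/
def incl : AlgInt →+* localSubring M where
  toFun a := ⟨(a : ℂ), memLocalRing_of_algInt a (Ideal.IsPrime.one_notMem inferInstance)⟩
  map_one' := Subtype.ext rfl
  map_mul' _ _ := Subtype.ext rfl
  map_zero' := Subtype.ext rfl
  map_add' _ _ := Subtype.ext rfl

theorem coe_incl (a : AlgInt) : ((incl M a : localSubring M) : ℂ) = (a : ℂ) := rfl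

/-- Reduction of algebraic integers modulo `M`, with values in `ResField M`. -/
def redInt : AlgInt →+* ResField M := (red M).comp (incl M)

/-- Every residue class of the local ring contains an algebraic integer. -/
theorem redInt_surjective : Function.Surjective (redInt M) := by
  intro y
  obtain ⟨⟨z, hz⟩, rfl⟩ := red_surjective M y
  obtain ⟨a, b, hb, rfl⟩ := hz
  obtain ⟨b', i, hi, hbi⟩ := Ideal.IsMaximal.exists_inv hmax hb
  refine ⟨a * b', ?_⟩
  unfold redInt red
  rw [RingHom.comp_apply, Ideal.Quotient.eq, mem_localIdeal]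
  refine ⟨-(a * i), b, M.neg_mem (M.mul_mem_left a hi), hb, ?_⟩
  have hb0 : (b : ℂ) ≠ 0 := coe_ne_zero_of_not_mem hb
  have h1 : (b' : ℂ) * b + i = 1 := by
    have := congrArg (fun x : AlgInt => (x : ℂ)) hbi
    simpa using this
  show ((-(a * i) : AlgInt) : ℂ) / (b : ℂ) = ((a * b' : AlgInt) : ℂ) - (a : ℂ) / (b : ℂ)
  push_cast
  field_simp
  linear_combination (-(a : ℂ)) * h1

/-- LEAF B1. -/
theorem isAlgClosed_resField (M : Ideal AlgInt) [M.IsMaximal] : IsAlgClosed (ResField M) := by
  apply IsAlgClosed.of_exists_root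
  intro p hpm hpi
  obtain ⟨q, hq, hqdeg, hqm⟩ := Polynomial.lifts_and_natDegree_eq_and_monic
    ((Polynomial.mem_lifts _).2 (Polynomial.map_surjective _ (redInt_surjective M) p)) hpm
  have hdeg : (q.map (algebraMap AlgInt ℂ)).degree ≠ 0 := by
    rw [Polynomial.degree_map_eq_of_injective (FaithfulSMul.algebraMap_injective AlgInt ℂ)]
    intro h0
    have hn : q.natDegree = 0 := by
      rw [Polynomial.natDegree, h0]; rfl
    rw [hn] at hqdeg
    exact hpi.natDegree_pos.ne' hqdeg.symm
  obtain ⟨α, hα⟩ := IsAlgClosed.exists_root (q.map (algebraMap AlgInt ℂ)) hdeg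
  have hint : IsIntegral AlgInt α := ⟨q, hqm, by rwa [Polynomial.IsRoot.def, Polynomial.eval_map] at hα⟩
  have hα' : α ∈ (⊥ : Subalgebra AlgInt ℂ) := by
    rw [← integralClosure_idem (R := ℤ)]
    exact hint
  obtain ⟨a, rfl⟩ := Algebra.mem_bot.1 hα'
  refine ⟨redInt M a, ?_⟩
  have h0 : q.eval a = 0 := by
    rw [Polynomial.IsRoot.def, Polynomial.eval_map, Polynomial.eval₂_at_apply] at hα
    exact FaithfulSMul.algebraMap_injective AlgInt ℂ (by rw [hα, map_zero])
  rw [← hq, Polynomial.eval_map, Polynomial.eval₂_at_apply, h0, map_zero]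

end Cfsg.Agent.Lib.Helper19.BlkAlgB1
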