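/-
helper19: S4607 leaf (B7) `isSymForm_coeffOne` (planner helper27):
"coefficient of 1" is a symmetrizing form on a group algebra over a field.
Mathlib + helper27's defs only.
-/
import Cfsg.Agent.Lib.Helper27.SymAlgDefs
import Cfsg.Agent.Lib.Helper27.BlkAlgDefs2

set_option autoImplicit false

namespace Cfsg.Agent.Lib.Helper19.BlkAlgB7

open Cfsg.Agent.Lib.Helper27.SymAlg Cfsg.Agent.Lib.Helper27.BlkAlg

universe u

/-- LEAF B7: "coefficient of 1" is a symmetrizing form on a group algebra. -/
theorem isSymForm_coeffOne (k : Type*) [Field k] (H : Type u) [Group H] :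
    IsSymForm (coeffOne k H) := by
  constructor
  · intro x y
    rw [coeffOne_apply, coeffOne_apply, MonoidAlgebra.coeff_mul_apply_left,
      MonoidAlgebra.coeff_mul_apply_right]
    refine Finsupp.sum_congr fun h _ => ?_
    rw [mul_one, one_mul, mul_comm]
  · intro x hx
    have hx' : x.coeff ≠ 0 := by
      intro h0
      apply hx
      cases x
      simp_all
    obtain ⟨g, hg⟩ := Finsupp.ne_iff.1 hx'
    refine ⟨MonoidAlgebra.single g⁻¹ 1, ?_⟩
    rw [coeffOne_apply, MonoidAlgebra.coeff_mul_single_apply]
    simpa using hg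

end Cfsg.Agent.Lib.Helper19.BlkAlgB7
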