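/-
helper19: S4607 leaf (A5a) `finrank_eq_sq_mul` (planner helper27).
`B` is free over the centralizer `C` of a full set of `n × n` matrix units with basis the `u i j`,
hence `dim B = n² dim C`.  Mathlib + helper27's `SymAlgDefs` only.
Also exports the decomposition lemmas `coef`, `coef_mem`, `sum_coef_mul` used by (A5b).
-/
import Cfsg.Agent.Lib.Helper27.SymAlgDefs

set_option autoImplicit false

namespace Cfsg.Agent.Lib.Helper19.SymAlgA5a

open Cfsg.Agent.Lib.Helper27.SymAlg

variable {F : Type*} [Field F] {B : Type*} [Ring B] [Algebra F B]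

/-- The `(i, j)` coefficient of `b` with respect to the matrix units `u`:
`c_ij(b) = ∑_k u k i * b * u j k`. -/
def coef {n : ℕ} (u : Fin n → Fin n → B) (i j : Fin n) (b : B) : B :=
  ∑ k, u k i * b * u j k

theorem u_mul_coef {n : ℕ} {u : Fin n → Fin n → B} (hu : IsMatrixUnits u) (i j a a' : Fin n)
    (b : B) : u a a' * coef u i j b = u a i * b * u j a' := by
  unfold coef
  rw [Finset.mul_sum]
  have h : ∀ k, u a a' * (u k i * b * u j k) = if a' = k then u a i * b * u j k else 0 := by
    intro k
    rw [← mul_assoc, ← mul_assoc, hu.mul]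
    split_ifs <;> simp
  simp_rw [h]
  rw [Finset.sum_ite_eq]
  simp

theorem coef_mul_u {n : ℕ} {u : Fin n → Fin n → B} (hu : IsMatrixUnits u) (i j a a' : Fin n)
    (b : B) : coef u i j b * u a a' = u a i * b * u j a' := by
  unfold coef
  rw [Finset.sum_mul]
  have h : ∀ k, u k i * b * u j k * u a a' = if k = a then u k i * b * u j a' else 0 := by
    intro k
    rw [mul_assoc, hu.mul]
    split_ifs <;> simp
  simp_rw [h]
  rw [Finset.sum_ite_eq']
  simp

theorem coef_mem {n : ℕ} {u : Fin n → Fin n → B} (hu : IsMatrixUnits u) (i j : Fin n) (b : B) :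
    coef u i j b ∈ unitsCentralizer F u := by
  rw [mem_unitsCentralizer]
  intro a a'
  rw [u_mul_coef hu, coef_mul_u hu]

/-- `b = ∑_{i,j} c_ij(b) * u i j`. -/
theorem sum_coef_mul {n : ℕ} {u : Fin n → Fin n → B} (hu : IsMatrixUnits u) (b : B) :
    ∑ i, ∑ j, coef u i j b * u i j = b := by
  have h : ∀ i j, coef u i j b * u i j = u i i * b * u j j := fun i j => coef_mul_u hu i j i j b
  simp_rw [h]
  calc ∑ i, ∑ j, u i i * b * u j j = (∑ i, u i i) * b * (∑ j, u j j) := by
        rw [Finset.sum_mul, Finset.sum_mul]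
        refine Finset.sum_congr rfl fun i _ => ?_
        rw [Finset.mul_sum]
    _ = b := by rw [hu.sum, one_mul, mul_one]

/-- Coefficient extraction: `∑_k u k a * (∑_{i,j} c_ij u i j) * u b k = c_ab` for `c_ij ∈ C`. -/
theorem coef_sum {n : ℕ} {u : Fin n → Fin n → B} (hu : IsMatrixUnits u)
    (c : Fin n × Fin n → unitsCentralizer F u) (a a' : Fin n) :
    coef u a a' (∑ p, (c p : B) * u p.1 p.2) = (c (a, a') : B) := by
  unfold coef
  have hc : ∀ (p : Fin n × Fin n) (i j : Fin n), u i j * (c p : B) = (c p : B) * u i j :=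
    fun p i j => (mem_unitsCentralizer (F := F) u _).1 (c p).2 i j
  have h : ∀ k, u k a * (∑ p, (c p : B) * u p.1 p.2) * u a' k = (c (a, a') : B) * u k k := by
    intro k
    rw [Finset.mul_sum, Finset.sum_mul]
    have h2 : ∀ p : Fin n × Fin n, u k a * ((c p : B) * u p.1 p.2) * u a' k =
        if p = (a, a') then (c p : B) * u k k else 0 := by
      intro p
      rw [← mul_assoc, hc p k a, mul_assoc, mul_assoc, hu.mul]
      by_cases h1 : p.2 = a'
      · rw [if_pos h1, hu.mul]
        by_cases h3 : a = p.1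
        · rw [if_pos h3, if_pos (Prod.ext h3.symm h1)]
        · rw [if_neg h3, mul_zero, if_neg (by rintro rfl; exact h3 rfl)]
      · rw [if_neg h1, mul_zero, mul_zero, if_neg (by rintro rfl; exact h1 rfl)]
    simp_rw [h2]
    rw [Finset.sum_ite_eq']
    simp
  simp_rw [h]
  rw [← Finset.mul_sum, hu.sum, mul_one]

/-- The `F`-linear map `(c_ij) ↦ ∑ c_ij u i j`. -/
def assemble {n : ℕ} (u : Fin n → Fin n → B) :
    (Fin n × Fin n → unitsCentralizer F u) →ₗ[F] B where
  toFun c := ∑ p, (c p : B) * u p.1 p.2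
  map_add' c c' := by
    simp only [Pi.add_apply, Subalgebra.coe_add, add_mul, Finset.sum_add_distrib]
  map_smul' r c := by
    simp only [Pi.smul_apply, Subalgebra.coe_smul, smul_mul_assoc, Finset.smul_sum,
      RingHom.id_apply]

theorem assemble_apply {n : ℕ} (u : Fin n → Fin n → B)
    (c : Fin n × Fin n → unitsCentralizer F u) :
    assemble (F := F) u c = ∑ p, (c p : B) * u p.1 p.2 := rfl

theorem assemble_bijective {n : ℕ} {u : Fin n → Fin n → B} (hu : IsMatrixUnits u) :
    Function.Bijective (assemble (F := F) u) := by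
  constructor
  · rw [← LinearMap.ker_eq_bot, LinearMap.ker_eq_bot']
    intro c hc
    funext p
    apply Subtype.ext
    have := coef_sum hu c p.1 p.2
    rw [← assemble_apply, hc] at this
    simp only [coef, mul_zero, zero_mul, Finset.sum_const_zero] at this
    simpa using this.symm
  · intro b
    refine ⟨fun p => ⟨coef u p.1 p.2 b, coef_mem hu p.1 p.2 b⟩, ?_⟩
    rw [assemble_apply, Fintype.sum_prod_type]
    exact sum_coef_mul hu b

/-- LEAF A5a. -/
theorem finrank_eq_sq_mul [FiniteDimensional F B] {n : ℕ} {u : Fin n → Fin n → B}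
    (hu : IsMatrixUnits u) :
    Module.finrank F B = n ^ 2 * Module.finrank F (unitsCentralizer F u) := by
  have e := LinearEquiv.ofBijective (assemble (F := F) u) (assemble_bijective hu)
  rw [← e.finrank_eq, Module.finrank_pi_fintype]
  simp [sq]

end Cfsg.Agent.Lib.Helper19.SymAlgA5a
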