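/-
helper19: S4607 leaf (A5b) `finrank_center_unitsCentralizer` (planner helper27).
The centre of the centralizer `C` of a full set of matrix units equals the centre of `B`
(as subspaces of `B`), so they have the same dimension.
Mathlib + helper27's `SymAlgDefs` + my `SymAlgA5a` (decomposition `b = ∑ c_ij(b) u i j`).
-/
import Cfsg.Agent.Lib.Helper19.SymAlgA5a

set_option autoImplicit false

namespace Cfsg.Agent.Lib.Helper19.SymAlgA5b

open Cfsg.Agent.Lib.Helper27.SymAlg Cfsg.Agent.Lib.Helper19.SymAlgA5a

variable {F : Type*} [Field F] {B : Type*} [Ring B] [Algebra F B]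

/-- A central element of the centralizer of the matrix units is central in `B`. -/
theorem mem_center_of_mem_center_unitsCentralizer {n : ℕ} {u : Fin n → Fin n → B}
    (hu : IsMatrixUnits u) (z : unitsCentralizer F u)
    (hz : z ∈ Subalgebra.center F (unitsCentralizer F u)) :
    (z : B) ∈ Subalgebra.center F B := by
  rw [Subalgebra.mem_center_iff]
  intro b
  have hzu : ∀ i j : Fin n, u i j * (z : B) = (z : B) * u i j :=
    (mem_unitsCentralizer (F := F) u _).1 z.2
  have hzc : ∀ c : unitsCentralizer F u, (c : B) * (z : B) = (z : B) * (c : B) := by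
    intro c
    have := (Subalgebra.mem_center_iff.1 hz) c
    exact congrArg Subtype.val this
  have hb := sum_coef_mul hu b
  rw [← hb, Finset.sum_mul, Finset.mul_sum]
  refine Finset.sum_congr rfl fun i _ => ?_
  rw [Finset.sum_mul, Finset.mul_sum]
  refine Finset.sum_congr rfl fun j _ => ?_
  have h1 := hzc ⟨coef u i j b, coef_mem hu i j b⟩
  simp only at h1
  rw [mul_assoc, hzu i j, ← mul_assoc, h1, mul_assoc]

/-- A central element of `B` lies in the centralizer of the matrix units. -/
theorem mem_unitsCentralizer_of_mem_center {n : ℕ} {u : Fin n → Fin n → B} (z : B)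
    (hz : z ∈ Subalgebra.center F B) : z ∈ unitsCentralizer F u := by
  rw [mem_unitsCentralizer]
  intro i j
  exact (Subalgebra.mem_center_iff.1 hz (u i j))

/-- The linear equivalence between the two centres. -/
noncomputable def centerEquiv {n : ℕ} {u : Fin n → Fin n → B} (hu : IsMatrixUnits u) :
    Subalgebra.center F (unitsCentralizer F u) ≃ₗ[F] Subalgebra.center F B where
  toFun z := ⟨((z : unitsCentralizer F u) : B),
    mem_center_of_mem_center_unitsCentralizer hu z.1 z.2⟩
  map_add' z z' := rfl
  map_smul' r z := rfl
  invFun z := ⟨⟨(z : B), mem_unitsCentralizer_of_mem_center (z : B) z.2⟩, by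
    rw [Subalgebra.mem_center_iff]
    intro c
    apply Subtype.ext
    exact Subalgebra.mem_center_iff.1 z.2 (c : B)⟩
  left_inv z := rfl
  right_inv z := rfl

/-- LEAF A5b. -/
theorem finrank_center_unitsCentralizer [FiniteDimensional F B] {n : ℕ} {u : Fin n → Fin n → B}
    (hu : IsMatrixUnits u) :
    Module.finrank F (Subalgebra.center F (unitsCentralizer F u)) =
      Module.finrank F (Subalgebra.center F B) :=
  (centerEquiv hu).finrank_eq

end Cfsg.Agent.Lib.Helper19.SymAlgA5b
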