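import Mathlib

set_option autoImplicit false

/-!
# S4840 leaf (T4) (planner helper1): `|H : C_H(K)|` divides `|Aut K|` for `K ⊴ X`
-/

universe u

namespace Cfsg.Agent.Lib.Helper19.Gag

/-- (T4) `|H : C_H(K)|` divides `|Aut K|` for `K ⊴ X`. -/
theorem relIndex_centralizer_dvd_card_mulAut {X : Type u} [Group X] [Finite X] (K : Subgroup X)
    [K.Normal] (H : Subgroup X) :
    (Subgroup.centralizer (K : Set X)).relIndex H ∣ Nat.card (MulAut K) := by
  let ψ : H →* MulAut K := (MulAut.conjNormal (H := K)).comp H.subtype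
  have hker : ψ.ker = (Subgroup.centralizer (K : Set X)).subgroupOf H := by
    ext h
    rw [MonoidHom.mem_ker, Subgroup.mem_subgroupOf, Subgroup.mem_centralizer_iff]
    constructor
    · intro h1 k hk
      have h2 : ((ψ h ⟨k, hk⟩ : K) : X) = k := by rw [h1]; rfl
      have h3 : (h : X) * k * (h : X)⁻¹ = k :=
        (MulAut.conjNormal_apply (h : X) ⟨k, hk⟩).symm.trans h2
      calc k * (h : X) = ((h : X) * k * (h : X)⁻¹) * (h : X) := by rw [h3]
        _ = (h : X) * k := by group
    · intro h1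
      ext ⟨k, hk⟩
      have h3 : ((ψ h ⟨k, hk⟩ : K) : X) = (h : X) * k * (h : X)⁻¹ :=
        MulAut.conjNormal_apply (h : X) ⟨k, hk⟩
      rw [h3, ← h1 k hk]
      simp
  rw [Subgroup.relIndex, ← hker, Subgroup.index_ker]
  exact Subgroup.card_subgroup_dvd_card _

end Cfsg.Agent.Lib.Helper19.Gag
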