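import Mathlib

set_option autoImplicit false

/-!
# S4840 leaf (T1) (planner helper1): the commutator subgroup centralizes every cyclic normal subgroup
-/

universe u

namespace Cfsg.Agent.Lib.Helper19.Gag

open scoped commutatorElement

/-- (T1) the commutator subgroup centralizes every cyclic normal subgroup. -/
theorem commutator_le_centralizer_of_isCyclic {X : Type u} [Group X] (N : Subgroup X) [N.Normal]
    [IsCyclic N] : commutator X ≤ Subgroup.centralizer (N : Set X) := by
  have hcomm : ∀ a b : MulAut N, a * b = b * a := by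
    intro a b
    apply (IsCyclic.mulAutMulEquiv N).injective
    rw [map_mul, map_mul, mul_comm]
  rw [commutator_def, Subgroup.commutator_le]
  intro g₁ _ g₂ _
  rw [Subgroup.mem_centralizer_iff]
  intro n hn
  have h1 : (MulAut.conjNormal ⁅g₁, g₂⁆ : MulAut N) = 1 := by
    rw [map_commutatorElement, commutatorElement_def, hcomm (MulAut.conjNormal g₁),
      mul_inv_cancel_right, mul_inv_cancel]
  have h2 : ((MulAut.conjNormal ⁅g₁, g₂⁆ : MulAut N) ⟨n, hn⟩ : X) = n := by
    rw [h1]; rfl
  rw [MulAut.conjNormal_apply] at h2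
  have h3 : ⁅g₁, g₂⁆ * n = n * ⁅g₁, g₂⁆ := by
    calc ⁅g₁, g₂⁆ * n = (⁅g₁, g₂⁆ * n * ⁅g₁, g₂⁆⁻¹) * ⁅g₁, g₂⁆ := by group
      _ = n * ⁅g₁, g₂⁆ := by rw [h2]
  exact h3.symm

end Cfsg.Agent.Lib.Helper19.Gag
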