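import Mathlib
import Cfsg.Prelude.Def_Solvable

set_option autoImplicit false

/-!
# S4840 leaves (GA1), (GA2) (planner helper1): `O_q(G) ≠ 1 ↔ q = p` and `O_p(G) = C_G(N)`
for the unique minimal normal subgroup `N` of a Gagola group.
-/

universe u

namespace Cfsg.Agent.Lib.Helper19.Gag

open Cfsg

variable {G : Type u} [Group G]

theorem pCore_normal_aux (q : ℕ) : (Cfsg.pCore q G).Normal :=
  Subgroup.sSup_normal _ (fun _ h => h.1)

theorem pCore_isPGroup_aux (q : ℕ) [Fact q.Prime] : IsPGroup q ↥(Cfsg.pCore q G) :=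
  Sylow.sSup_of_normal _ (fun _ h => h.2) (fun _ h => h.1)

theorem le_pCore_aux {q : ℕ} (K : Subgroup G) (hK : K.Normal) (h : IsPGroup q K) :
    K ≤ Cfsg.pCore q G :=
  le_sSup ⟨hK, h⟩

variable [Finite G] (p : ℕ) [Fact p.Prime] (N : Subgroup G) [N.Normal]

/-- (GA1) `O_q(G) ≠ 1 ↔ q = p`. -/
theorem pCore_ne_bot_iff (hN1 : N ≠ ⊥) (hNp : IsPGroup p N)
    (hmin : ∀ K : Subgroup G, K.Normal → K ≠ ⊥ → N ≤ K) (q : ℕ) (hq : q.Prime) :
    Cfsg.pCore q G ≠ ⊥ ↔ q = p := by
  have : Fact q.Prime := ⟨hq⟩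
  constructor
  · intro h
    have hle : N ≤ Cfsg.pCore q G := hmin _ (pCore_normal_aux q) h
    have hNq : IsPGroup q N := (pCore_isPGroup_aux (G := G) q).to_le hle
    obtain ⟨x, hxN, hx1⟩ := (N.bot_or_exists_ne_one).resolve_left hN1
    obtain ⟨a, ha⟩ := hNp ⟨x, hxN⟩
    obtain ⟨b, hb⟩ := hNq ⟨x, hxN⟩
    have ha' : x ^ p ^ a = 1 := by simpa using congrArg Subtype.val ha
    have hb' : x ^ q ^ b = 1 := by simpa using congrArg Subtype.val hb
    have h1 : orderOf x ∣ p ^ a := orderOf_dvd_of_pow_eq_one ha'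
    have h2 : orderOf x ∣ q ^ b := orderOf_dvd_of_pow_eq_one hb'
    have hne : orderOf x ≠ 1 := by
      intro h
      exact hx1 (orderOf_eq_one_iff.1 h)
    obtain ⟨r, hr, hrd⟩ := Nat.exists_prime_and_dvd hne
    have hrp : r = p := (Nat.prime_dvd_prime_iff_eq hr (Fact.out)).1
      (hr.dvd_of_dvd_pow (hrd.trans h1))
    have hrq : r = q := (Nat.prime_dvd_prime_iff_eq hr hq).1
      (hr.dvd_of_dvd_pow (hrd.trans h2))
    rw [← hrq, hrp]
  · rintro rfl
    intro h
    apply hN1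
    have hle : N ≤ Cfsg.pCore q G := le_pCore_aux N inferInstance hNp
    rw [h] at hle
    exact le_bot_iff.1 hle

/-- (GA2) `O_p(G) = C_G(N)`. -/
theorem pCore_eq_centralizer (hN1 : N ≠ ⊥)
    (hcent : ∀ x ∈ N, x ≠ 1 → ∃ P : Sylow p G, Subgroup.centralizer ({x} : Set G) = P) :
    Cfsg.pCore p G = Subgroup.centralizer (N : Set G) := by
  apply le_antisymm
  · intro g hg
    rw [Subgroup.mem_centralizer_iff]
    intro n hn
    by_cases hn1 : n = 1
    · rw [hn1, one_mul, mul_one]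
    · obtain ⟨P, hP⟩ := hcent n hn hn1
      have hnorm : (Cfsg.pCore p G).Normal := pCore_normal_aux p
      have hgP : g ∈ (P : Subgroup G) :=
        (pCore_isPGroup_aux (G := G) p).le_sylow_of_normal P hg
      rw [← hP, Subgroup.mem_centralizer_iff] at hgP
      exact hgP n rfl
  · obtain ⟨x, hxN, hx1⟩ := (N.bot_or_exists_ne_one).resolve_left hN1
    obtain ⟨P, hP⟩ := hcent x hxN hx1
    apply le_pCore_aux _ inferInstance
    have hle : Subgroup.centralizer (N : Set G) ≤ (P : Subgroup G) := by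
      rw [← hP]
      exact Subgroup.centralizer_le (by
        intro y hy
        rw [Set.mem_singleton_iff] at hy
        rw [hy]
        exact hxN)
    exact P.isPGroup'.to_le hle

end Cfsg.Agent.Lib.Helper19.Gag
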