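import Mathlib

/-! # Zsigmondy's theorem (helper19)

Primitive prime divisors of `a ^ n - 1`, via cyclotomic polynomials.
-/

open Polynomial

namespace Cfsg.Agent.Lib.Helper19.Zsigmondy


/-- `r ∣ a^k - 1` iff `(a : ZMod r)^k = 1`. -/
lemma dvd_pow_sub_one_iff {a r k : ℕ} (ha : 0 < a) :
    r ∣ a ^ k - 1 ↔ ((a : ZMod r)) ^ k = 1 := by
  rw [← ZMod.natCast_eq_zero_iff, Nat.cast_sub (Nat.one_le_pow _ _ ha), Nat.cast_pow,
    Nat.cast_one, sub_eq_zero]

lemma isRoot_of_dvd {a n r : ℕ} (h : (r : ℤ) ∣ (cyclotomic n ℤ).eval (a : ℤ)) :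
    (cyclotomic n (ZMod r)).IsRoot (a : ZMod r) := by
  rw [IsRoot.def, ← map_cyclotomic_int n (ZMod r)]
  have h1 : ((a : ℤ) : ZMod r) = (a : ZMod r) := by simp
  rw [← h1, eval_intCast_map]
  simpa using (ZMod.intCast_zmod_eq_zero_iff_dvd _ _).2 h

/-- the notion of primitive prime divisor -/
def IsPrim (a n r : ℕ) : Prop :=
  r.Prime ∧ r ∣ a ^ n - 1 ∧ ∀ k : ℕ, 0 < k → k < n → ¬ r ∣ a ^ k - 1

lemma isPrim_of_good {a n r : ℕ} (ha : 0 < a) (hn : 0 < n) (hr : r.Prime)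
    (h : (r : ℤ) ∣ (cyclotomic n ℤ).eval (a : ℤ)) (hrn : ¬ r ∣ n) : IsPrim a n r := by
  haveI : Fact r.Prime := ⟨hr⟩
  haveI : NeZero (n : ZMod r) := ⟨by rwa [Ne, ZMod.natCast_eq_zero_iff]⟩
  have hroot := isRoot_of_dvd h
  rw [isRoot_cyclotomic_iff] at hroot
  refine ⟨hr, (dvd_pow_sub_one_iff ha).2 hroot.pow_eq_one, fun k hk hkn hd => ?_⟩
  exact hroot.pow_ne_one_of_pos_of_lt hk.ne' hkn ((dvd_pow_sub_one_iff ha).1 hd)

lemma bad_structure {a n r : ℕ} (hn : 0 < n) (hr : r.Prime)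
    (h : (r : ℤ) ∣ (cyclotomic n ℤ).eval (a : ℤ)) (hrn : r ∣ n) :
    ∃ e m, 0 < e ∧ ¬ r ∣ m ∧ n = r ^ e * m ∧ m ∣ r - 1 ∧ orderOf (a : ZMod r) = m := by
  have : Fact r.Prime := ⟨hr⟩
  obtain ⟨e, m, hm, rfl⟩ := Nat.exists_eq_pow_mul_and_not_dvd hn.ne' r hr.ne_one
  have he : 0 < e := by
    rcases Nat.eq_zero_or_pos e with rfl | he
    · simp at hrn; exact absurd hrn hm
    · exact he
  have hroot := isRoot_of_dvd h
  rw [cyclotomic_mul_prime_pow_eq (ZMod r) hm he, IsRoot.def, eval_pow] at hroot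
  have hroot' : (cyclotomic m (ZMod r)).IsRoot (a : ZMod r) := pow_eq_zero_iff (by
    have := Nat.pow_lt_pow_right hr.one_lt (show e - 1 < e by omega)
    omega) |>.1 hroot
  have : NeZero (m : ZMod r) := ⟨by rwa [Ne, ZMod.natCast_eq_zero_iff]⟩
  rw [isRoot_cyclotomic_iff] at hroot'
  have hord : orderOf (a : ZMod r) = m := hroot'.eq_orderOf.symm
  have hm0 : m ≠ 0 := by rintro rfl; exact hm (dvd_zero _)
  have ha0 : (a : ZMod r) ≠ 0 := by
    intro h0
    have := hroot'.pow_eq_one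
    rw [h0, zero_pow hm0] at this
    exact zero_ne_one this
  refine ⟨e, m, he, hm, rfl, ?_, hord⟩
  rw [← hord]; exact ZMod.orderOf_dvd_card_sub_one ha0

lemma le_of_bad {n r e m q : ℕ} (hr : r.Prime) (hnm : n = r ^ e * m) (hm : m ∣ r - 1)
    (hq : q.Prime) (hqn : q ∣ n) : q ≤ r := by
  subst hnm
  rcases (hq.dvd_mul).1 hqn with h | h
  · exact Nat.le_of_dvd hr.pos (hq.dvd_of_dvd_pow h)
  · have := Nat.le_of_dvd (by have := hr.two_le; omega) (h.trans hm)
    omega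

/-- key divisibility: `(a^d - 1) * Φ_n(a) ∣ a^n - 1` for proper divisors `d` of `n`, in `ℕ`. -/
lemma key_dvd {a n d : ℕ} (ha : 0 < a) (hd : d ∈ n.properDivisors) :
    (a ^ d - 1) * ((cyclotomic n ℤ).eval (a : ℤ)).natAbs ∣ a ^ n - 1 := by
  have h1 := eval_dvd (x := (a : ℤ))
    (X_pow_sub_one_mul_cyclotomic_dvd_X_pow_sub_one_of_dvd ℤ hd)
  simp only [eval_mul, eval_sub, eval_pow, eval_X, eval_one] at h1
  have h2 := Int.natAbs_dvd_natAbs.2 h1
  rw [Int.natAbs_mul] at h2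
  have e1 : ∀ k : ℕ, ((a : ℤ) ^ k - 1).natAbs = a ^ k - 1 := by
    intro k
    have : ((a : ℤ) ^ k - 1) = ((a ^ k - 1 : ℕ) : ℤ) := by
      rw [Nat.cast_sub (Nat.one_le_pow _ _ ha)]; push_cast; ring
    rw [this, Int.natAbs_natCast]
  rwa [e1, e1] at h2

lemma not_sq_dvd {a n r e m : ℕ} (ha : 1 < a) (hn : 3 ≤ n) (hr : r.Prime)
    (he : 0 < e) (hnm : n = r ^ e * m) (hmr : m ∣ r - 1)
    (hord : orderOf (a : ZMod r) = m) :
    ¬ (r ^ 2 ∣ ((cyclotomic n ℤ).eval (a : ℤ)).natAbs) := by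
  have : Fact r.Prime := ⟨hr⟩
  have ha0 : 0 < a := by omega
  set Nn := ((cyclotomic n ℤ).eval (a : ℤ)).natAbs with hNn
  have hn0 : 0 < n := by omega
  have hm0 : 0 < m := by
    rcases Nat.eq_zero_or_pos m with rfl | h
    · simp at hnm; omega
    · exact h
  set d := r ^ (e - 1) * m with hd
  have hdr : d * r = n := by
    rw [hnm, hd]
    obtain ⟨e', rfl⟩ : ∃ e', e = e' + 1 := ⟨e - 1, by omega⟩
    simp [pow_succ]; ring
  have hd0 : 0 < d := Nat.mul_pos (pow_pos hr.pos _) hm0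
  have hdn : d ∈ n.properDivisors := by
    rw [Nat.mem_properDivisors]
    refine ⟨⟨r, hdr.symm⟩, ?_⟩
    rw [← hdr]; nlinarith [hr.two_le]
  have hkey := key_dvd ha0 hdn
  rw [← hNn] at hkey
  set b := a ^ d with hb
  have hb1 : 1 < b := Nat.one_lt_pow hd0.ne' ha
  have hbr : r ∣ b - 1 := by
    rw [hb, dvd_pow_sub_one_iff ha0, ← orderOf_dvd_iff_pow_eq_one, hord]
    exact ⟨r ^ (e - 1), by rw [hd]; ring⟩
  have hbn : b ^ r = a ^ n := by rw [hb, ← pow_mul, hdr]
  rw [← hbn] at hkey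
  intro hsq
  by_cases h2 : r = 2
  · -- the even case
    subst h2
    have hm1 : m = 1 := by simpa using hmr
    subst hm1
    have he2 : 2 ≤ e := by
      by_contra hlt
      have : e = 1 := by omega
      subst this
      omega
    obtain ⟨e', rfl⟩ : ∃ e', e = e' + 2 := ⟨e - 2, by omega⟩
    have hbc : b = (a ^ (2 ^ e')) ^ 2 := by
      rw [hb, hd, ← pow_mul]; congr 1
      simp [pow_succ]
    have hbodd : Odd b := by
      rcases Nat.even_or_odd b with hev | hod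
      · exfalso
        have : 2 ∣ b := hev.two_dvd
        omega
      · exact hod
    have hcodd : Odd (a ^ (2 ^ e')) := by
      rw [hbc] at hbodd
      exact (Nat.odd_pow_iff (by norm_num)).1 hbodd
    have hb4 : b % 4 = 1 := by
      rw [hbc, Nat.pow_mod]
      have : a ^ 2 ^ e' % 4 = 1 ∨ a ^ 2 ^ e' % 4 = 3 := by
        have := Nat.odd_iff.1 hcodd; omega
      rcases this with h | h <;> rw [h]
    have hfac : b ^ 2 - 1 = (b - 1) * (b + 1) := by
      have : 1 ≤ b := by omega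
      zify [this, Nat.one_le_pow 2 b (by omega)]
      ring
    rw [hfac] at hkey
    have h3 : Nn ∣ b + 1 := Nat.dvd_of_mul_dvd_mul_left (by omega) hkey
    have h4 : 4 ∣ b + 1 := dvd_trans (by simpa using hsq) h3
    omega
  · have hodd : Odd r := hr.odd_of_ne_two h2
    have hnb : ¬ r ∣ b := by
      intro hrb
      have : r ∣ 1 := by
        have h1 : r ∣ b - (b - 1) := Nat.dvd_sub hrb hbr
        have : b - (b - 1) = 1 := by omega
        rwa [this] at h1
      exact hr.one_lt.ne' (Nat.dvd_one.1 this)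
    have hlte := padicValNat.pow_sub_pow (x := b) (y := 1) (p := r) hodd hb1 hbr hnb
      (n := r) hr.ne_zero
    rw [one_pow, padicValNat_self] at hlte
    have hne : b ^ r - 1 ≠ 0 := by
      have : 1 < b ^ r := Nat.one_lt_pow hr.ne_zero hb1
      omega
    have h5 : r ^ (padicValNat r (b - 1) + 2) ∣ b ^ r - 1 := by
      rw [pow_add]
      exact dvd_trans (mul_dvd_mul pow_padicValNat_dvd hsq) hkey
    have := (padicValNat_dvd_iff_le hne).1 h5
    omega



lemma lower_bound {m : ℕ} (hm : 0 < m) {q : ℝ} (hq : 1 < q) :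
    (q - 1) ^ m.totient ≤ eval q (cyclotomic m ℝ) := by
  rcases (show m = 1 ∨ 2 ≤ m by omega) with rfl | h2
  · simp
  · exact (sub_one_pow_totient_lt_cyclotomic_eval h2 hq).le

lemma upper_bound {m : ℕ} (hm : 0 < m) {q : ℝ} (hq : 1 < q) :
    eval q (cyclotomic m ℝ) ≤ (q + 1) ^ m.totient := by
  rcases (show m = 1 ∨ m = 2 ∨ 3 ≤ m by omega) with rfl | rfl | h3
  · simp; linarith
  · simp
  · exact (cyclotomic_eval_lt_add_one_pow_totient h3 hq).le

lemma cast_eval (m : ℕ) (z : ℤ) :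
    ((eval z (cyclotomic m ℤ) : ℤ) : ℝ) = eval (z : ℝ) (cyclotomic m ℝ) := by
  rw [← map_cyclotomic_int m ℝ, eval_intCast_map]; simp

/-- the key inequality -/
lemma key_ineq {a P : ℕ} (ha : 2 ≤ a) (hP : 3 ≤ P) (h : ¬ (a = 2 ∧ P = 3)) :
    P * (a + 1) + 1 < a ^ P := by
  have step : ∀ Q : ℕ, 1 ≤ Q → Q * (a + 1) + 1 < a ^ Q → (Q + 1) * (a + 1) + 1 < a ^ (Q + 1) := by
    intro Q hQ hlt
    rw [pow_succ]
    have h1 : (Q * (a + 1) + 2) * a ≤ a ^ Q * a := Nat.mul_le_mul_right _ hlt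
    have h2 : (Q + 1) * (a + 1) + 1 < (Q * (a + 1) + 2) * a := by
      obtain ⟨a', rfl⟩ : ∃ a', a = a' + 2 := ⟨a - 2, by omega⟩
      obtain ⟨Q', rfl⟩ : ∃ Q', Q = Q' + 1 := ⟨Q - 1, by omega⟩
      ring_nf
      nlinarith [Nat.zero_le (a' * Q'), Nat.zero_le (a' ^ 2 * Q'), Nat.zero_le (a' ^ 2)]
    omega
  by_cases ha2 : a = 2
  · subst ha2
    have hP4 : 4 ≤ P := by omega
    clear h hP
    induction P, hP4 using Nat.le_induction with
    | base => norm_num
    | succ Q hQ ih => exact step Q (by omega) ih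
  · have ha3 : 3 ≤ a := by omega
    clear h
    induction P, hP using Nat.le_induction with
    | base =>
      obtain ⟨a', rfl⟩ : ∃ a', a = a' + 3 := ⟨a - 3, by omega⟩
      ring_nf
      nlinarith [Nat.zero_le (a' ^ 2), Nat.zero_le (a' ^ 3)]
    | succ Q hQ ih => exact step Q (by omega) ih

lemma size_contra {a n P e m : ℕ} (ha : 1 < a) (hn : 3 ≤ n) (hP : P.Prime) (he : 0 < e)
    (hPm : ¬ P ∣ m) (hnm : n = P ^ e * m) (hmP : m ∣ P - 1) (h6 : ¬ (a = 2 ∧ n = 6))
    (hN : ((cyclotomic n ℤ).eval (a : ℤ)).natAbs = P) : False := by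
  have hNpos : 0 < (cyclotomic n ℤ).eval (a : ℤ) := cyclotomic_pos' n (by exact_mod_cast ha)
  have hNz : (cyclotomic n ℤ).eval (a : ℤ) = (P : ℤ) := by
    rw [← hN, Int.natAbs_of_nonneg hNpos.le]
  have hm0 : 0 < m := by
    rcases Nat.eq_zero_or_pos m with rfl | h
    · exact absurd (dvd_zero _) hPm
    · exact h
  rcases (show e = 1 ∨ 2 ≤ e by omega) with rfl | he2
  · -- e = 1
    rw [pow_one] at hnm
    have hexp := cyclotomic_expand_eq_cyclotomic_mul hP hPm ℤ
    have hev := congrArg (eval (a : ℤ)) hexp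
    rw [expand_eval, eval_mul, mul_comm m P, ← hnm, hNz] at hev
    have hP3 : 3 ≤ P := by
      by_contra hlt
      have : P = 2 := by have := hP.two_le; omega
      subst this
      have : m = 1 := by simpa using hmP
      omega
    by_cases h23 : a = 2 ∧ P = 3
    · obtain ⟨rfl, rfl⟩ := h23
      have : m = 1 ∨ m = 2 := by
        have := Nat.le_of_dvd (by norm_num) hmP; omega
      rcases this with rfl | rfl
      · subst hnm
        simp [cyclotomic_three] at hNz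
      · exact h6 ⟨rfl, by omega⟩
    · have hK := key_ineq (by omega) hP3 h23
      have hKr : (P : ℝ) * ((a : ℝ) + 1) + 1 < (a : ℝ) ^ P := by exact_mod_cast hK
      have hevr : eval ((a : ℝ) ^ P) (cyclotomic m ℝ) = P * eval (a : ℝ) (cyclotomic m ℝ) := by
        have := congrArg (Int.cast : ℤ → ℝ) hev
        rw [cast_eval] at this
        push_cast at this
        rw [cast_eval] at this
        simpa using this
      have har : (1 : ℝ) < a := by exact_mod_cast ha
      have haPr : (1 : ℝ) < (a : ℝ) ^ P := one_lt_pow₀ har hP.ne_zero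
      have hlow := lower_bound hm0 haPr
      have hup := upper_bound hm0 har
      have hφ : m.totient ≠ 0 := (Nat.totient_pos.2 hm0).ne'
      have h1 : ((P : ℝ) * ((a : ℝ) + 1)) ^ m.totient < ((a : ℝ) ^ P - 1) ^ m.totient :=
        pow_lt_pow_left₀ (by linarith) (by positivity) hφ
      have h2 : (P : ℝ) ≤ (P : ℝ) ^ m.totient :=
        le_self_pow₀ (by exact_mod_cast hP.one_le) hφ
      rw [mul_pow] at h1
      have h3 : (P : ℝ) * ((a : ℝ) + 1) ^ m.totient
          ≤ (P : ℝ) ^ m.totient * ((a : ℝ) + 1) ^ m.totient :=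
        mul_le_mul_of_nonneg_right h2 (by positivity)
      have h4 : (P : ℝ) * eval (a : ℝ) (cyclotomic m ℝ)
          ≤ (P : ℝ) * ((a : ℝ) + 1) ^ m.totient :=
        mul_le_mul_of_nonneg_left hup (by positivity)
      linarith
  · -- e ≥ 2
    obtain ⟨e', rfl⟩ : ∃ e', e = e' + 2 := ⟨e - 2, by omega⟩
    set d := P ^ (e' + 1) * m with hd
    have hdP : d * P = n := by rw [hnm, hd]; ring
    have hPd : P ∣ d := ⟨P ^ e' * m, by rw [hd]; ring⟩
    have hd1 : 1 < d := by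
      have h1 := Nat.le_of_dvd (Nat.mul_pos (pow_pos hP.pos _) hm0) hPd
      have := hP.two_le
      omega
    have hexp := cyclotomic_expand_eq_cyclotomic hP hPd ℤ
    have hev := congrArg (eval (a : ℤ)) hexp
    rw [expand_eval, hdP] at hev
    have h2P : 2 ^ P ≤ a ^ P := Nat.pow_le_pow_left ha P
    have hPlt : P < 2 ^ P := Nat.lt_two_pow_self
    have hlt := sub_one_lt_natAbs_cyclotomic_eval (n := d) (q := a ^ P) hd1 (by omega)
    push_cast at hlt
    rw [hev, hN] at hlt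
    omega


lemma zsigmondy_two {a : ℕ} (ha : 1 < a) (h2 : ¬ ∃ m : ℕ, a + 1 = 2 ^ m) :
    ∃ r, IsPrim a 2 r := by
  rcases Nat.eq_two_pow_or_exists_odd_prime_and_dvd (a + 1) with h | ⟨r, hr, hra, hodd⟩
  · exact absurd h h2
  · refine ⟨r, hr, ?_, ?_⟩
    · have : a ^ 2 - 1 = (a - 1) * (a + 1) := by
        have h1 : 1 ≤ a := by omega
        zify [h1, Nat.one_le_pow 2 a (by omega)]
        ring
      rw [this]; exact dvd_mul_of_dvd_right hra _
    · intro k hk hk2 hd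
      have : k = 1 := by omega
      subst this
      rw [pow_one] at hd
      have h3 : r ∣ (a + 1) - (a - 1) := Nat.dvd_sub hra hd
      have h2' : (a + 1) - (a - 1) = 2 := by omega
      rw [h2'] at h3
      have : r = 2 := (Nat.prime_dvd_prime_iff_eq hr Nat.prime_two).1 h3
      subst this
      exact absurd hodd (by decide)

/-- **Zsigmondy's theorem** (the `a ^ n - 1` form). -/
theorem zsigmondy (a n : ℕ) (ha : 1 < a) (hn : 1 < n) (h6 : ¬ (a = 2 ∧ n = 6))
    (h2 : ¬ (n = 2 ∧ ∃ m : ℕ, a + 1 = 2 ^ m)) : ∃ r, IsPrim a n r := by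
  by_cases hn2 : n = 2
  · subst hn2; exact zsigmondy_two ha (fun h => h2 ⟨rfl, h⟩)
  have hn3 : 3 ≤ n := by omega
  by_contra hno
  push Not at hno
  have ha0 : 0 < a := by omega
  have hn0 : 0 < n := by omega
  set N := (cyclotomic n ℤ).eval (a : ℤ) with hN
  have hNn : a - 1 < N.natAbs := sub_one_lt_natAbs_cyclotomic_eval hn (by omega)
  have hbad : ∀ q : ℕ, q.Prime → q ∣ N.natAbs → q ∣ n := by
    intro q hq hqN
    by_contra hqn
    exact hno q (isPrim_of_good ha0 hn0 hq (Int.natCast_dvd.2 hqN) hqn)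
  obtain ⟨P, hP, hPN⟩ := Nat.exists_prime_and_dvd (show N.natAbs ≠ 1 by omega)
  obtain ⟨e, m, he, hPm, hnm, hmP, hord⟩ :=
    bad_structure hn0 hP (Int.natCast_dvd.2 hPN) (hbad P hP hPN)
  have huniq : ∀ {q : ℕ}, q.Prime → q ∣ N.natAbs → q = P := by
    intro q hq hqN
    obtain ⟨e', m', he', hqm', hnm', hmq', hord'⟩ :=
      bad_structure hn0 hq (Int.natCast_dvd.2 hqN) (hbad q hq hqN)
    exact le_antisymm (le_of_bad hP hnm hmP hq (hbad q hq hqN))
      (le_of_bad hq hnm' hmq' hP (hbad P hP hPN))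
  have hpow := Nat.eq_prime_pow_of_unique_prime_dvd (by omega) huniq
  set k := N.natAbs.primeFactorsList.length
  have hk1 : k = 1 := by
    rcases (show k = 0 ∨ k = 1 ∨ 2 ≤ k by omega) with h | h | h
    · rw [h, pow_zero] at hpow; omega
    · exact h
    · exfalso
      apply not_sq_dvd ha hn3 hP he hnm hmP hord
      rw [hpow]; exact pow_dvd_pow P h
  rw [hk1, pow_one] at hpow
  exact size_contra ha hn3 hP he hPm hnm hmP h6 hpow

end Cfsg.Agent.Lib.Helper19.Zsigmondy
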