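import Mathlib

set_option autoImplicit false

namespace Cfsg.Agent.Lib.Helper19

open Subgroup

section
variable {G : Type*} [Group G]

/-- conjugate of a subgroup -/
def cj (g : G) (U : Subgroup G) : Subgroup G := U.map (MulAut.conj g).toMonoidHom

theorem mem_cj {g x : G} {U : Subgroup G} : x ∈ cj g U ↔ g⁻¹ * x * g ∈ U := by
  unfold cj
  rw [Subgroup.mem_map_equiv]
  simp [MulAut.conj_symm_apply]

theorem cj_one (U : Subgroup G) : cj 1 U = U := by
  ext x; rw [mem_cj]; simp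

theorem cj_mul (g h : G) (U : Subgroup G) : cj (g * h) U = cj g (cj h U) := by
  ext x
  rw [mem_cj, mem_cj, mem_cj]
  have : (g * h)⁻¹ * x * (g * h) = h⁻¹ * (g⁻¹ * x * g) * h := by group
  rw [this]

theorem cj_mono (g : G) {U W : Subgroup G} (h : U ≤ W) : cj g U ≤ cj g W := Subgroup.map_mono h

theorem cj_sup (g : G) (U W : Subgroup G) : cj g (U ⊔ W) = cj g U ⊔ cj g W := Subgroup.map_sup _ _ _

theorem cj_inf (g : G) (U W : Subgroup G) : cj g (U ⊓ W) = cj g U ⊓ cj g W :=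
  Subgroup.map_inf_eq _ _ _ (MulAut.conj g).injective

theorem cj_bot (g : G) : cj g (⊥ : Subgroup G) = ⊥ := Subgroup.map_bot _

theorem cj_eq_bot_iff (g : G) (U : Subgroup G) : cj g U = ⊥ ↔ U = ⊥ :=
  (Subgroup.map_eq_bot_iff_of_injective U (MulAut.conj g).injective)

/-- `A` leaves `U` invariant under conjugation -/
def Inv (A U : Subgroup G) : Prop := ∀ a ∈ A, cj a U ≤ U

theorem inv_iff_le_normalizer (A U : Subgroup G) : Inv A U ↔ A ≤ normalizer (U : Set G) := by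
  constructor
  · intro h a ha
    rw [mem_normalizer_iff]
    intro x
    constructor
    · intro hx
      have := h a ha
      apply this
      rw [mem_cj]
      have : a⁻¹ * (a * x * a⁻¹) * a = x := by group
      rw [this]; exact hx
    · intro hx
      have := h a⁻¹ (A.inv_mem ha)
      have h2 : a⁻¹ * (a * x * a⁻¹) * a⁻¹⁻¹ ∈ U := by
        apply this
        rw [mem_cj]
        have : a⁻¹⁻¹ * (a⁻¹ * (a * x * a⁻¹) * a⁻¹⁻¹) * a⁻¹ = a * x * a⁻¹ := by group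
        rw [this]; exact hx
      have : a⁻¹ * (a * x * a⁻¹) * a⁻¹⁻¹ = x := by group
      rwa [this] at h2
  · intro h a ha x hx
    rw [mem_cj] at hx
    have := (mem_normalizer_iff.mp (h ha)) (a⁻¹ * x * a)
    have h2 := this.mp hx
    have : a * (a⁻¹ * x * a) * a⁻¹ = x := by group
    rwa [this] at h2

theorem Inv.cj_eq {A U : Subgroup G} (h : Inv A U) {a : G} (ha : a ∈ A) : cj a U = U := by
  apply le_antisymm (h a ha)
  have := cj_mono a (h a⁻¹ (A.inv_mem ha))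
  rwa [← cj_mul, mul_inv_cancel, cj_one] at this

theorem Inv.sup {A U W : Subgroup G} (hU : Inv A U) (hW : Inv A W) : Inv A (U ⊔ W) := by
  intro a ha
  rw [cj_sup]
  exact sup_le_sup (hU a ha) (hW a ha)

theorem Inv.inf {A U W : Subgroup G} (hU : Inv A U) (hW : Inv A W) : Inv A (U ⊓ W) := by
  intro a ha
  rw [cj_inf]
  exact inf_le_inf (hU a ha) (hW a ha)

theorem inv_bot (A : Subgroup G) : Inv A ⊥ := by
  intro a _
  rw [cj_bot]

/-- conjugates of invariant subgroups by normalizing elements are invariant -/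
theorem Inv.cj {A U : Subgroup G} (hU : Inv A U) {h : G} (hh : h ∈ normalizer (A : Set G)) :
    Inv A (cj h U) := by
  intro a ha
  have h1 : h⁻¹ * a * h ∈ A := by
    have := (mem_normalizer_iff.mp (Subgroup.inv_mem _ hh)) a
    have h2 := this.mp ha
    simpa using h2
  have : a * h = h * (h⁻¹ * a * h) := by group
  rw [← cj_mul, this, cj_mul]
  exact cj_mono h (hU _ h1)

end

section
variable {G : Type*} [Group G]

open scoped Pointwise in
theorem exists_mul_of_mem_sup {V W S : Subgroup G} (hV : ∀ x ∈ V, ∀ y ∈ V, x * y = y * x)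
    (hW : W ≤ V) (hS : S ≤ V) {x : G} (hx : x ∈ W ⊔ S) : ∃ w ∈ W, ∃ s ∈ S, w * s = x := by
  have hLE : W ≤ normalizer (S : Set G) := by
    intro w hw
    rw [mem_normalizer_iff]
    intro s
    constructor
    · intro hs
      have : w * s * w⁻¹ = s := by
        rw [hV w (hW hw) s (hS hs)]; group
      rw [this]; exact hs
    · intro hs
      have h1 : w * s * w⁻¹ ∈ V := hS hs
      have h2 : s ∈ V := by
        have := V.mul_mem (V.mul_mem (V.inv_mem (hW hw)) h1) (hW hw)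
        have e : w⁻¹ * (w * s * w⁻¹) * w = s := by group
        rwa [e] at this
      have : w * s * w⁻¹ = s := by
        rw [hV w (hW hw) s h2]; group
      rwa [this] at hs
  have := coe_mul_of_left_le_normalizer_right W S hLE
  have hx' : x ∈ ((W ⊔ S : Subgroup G) : Set G) := hx
  rw [this] at hx'
  exact Set.mem_mul.mp hx'

/-- key lemma: a proper `A`-invariant subgroup misses a nontrivial `A`-invariant subgroup -/
theorem exists_inv_disjoint [Finite G] (H A V : Subgroup G)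
    (hHV : Inv H V) (hAH : A ≤ H) (hAn : H ≤ normalizer (A : Set G))
    (hss : ∀ U : Subgroup G, U ≤ V → Inv H U →
      ∃ W : Subgroup G, W ≤ V ∧ Inv H W ∧ U ⊓ W = ⊥ ∧ U ⊔ W = V)
    (T : Subgroup G) (hTV : T ≤ V) (hAT : Inv A T) (hne : T ≠ V) :
    ∃ S : Subgroup G, S ≤ V ∧ Inv A S ∧ S ≠ ⊥ ∧ S ⊓ T = ⊥ := by
  set T₀ : Subgroup G := ⨅ h : H, cj (h : G) T with hT₀
  have hT₀T : T₀ ≤ T := by
    have := iInf_le (fun h : H => cj (h : G) T) ⟨1, H.one_mem⟩
    simpa [cj_one] using this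
  have hT₀inv : Inv H T₀ := by
    intro k hk
    apply le_iInf
    intro h'
    have h1 : T₀ ≤ cj (k⁻¹ * (h' : G)) T :=
      iInf_le (fun h : H => cj (h : G) T) ⟨k⁻¹ * h', H.mul_mem (H.inv_mem hk) h'.2⟩
    have h2 := cj_mono k h1
    rwa [← cj_mul, mul_inv_cancel_left] at h2
  obtain ⟨C, hCV, hCinv, hCi, hCs⟩ := hss T₀ (hT₀T.trans hTV) hT₀inv
  have hCne : C ≠ ⊥ := by
    intro h
    rw [h, sup_bot_eq] at hCs
    apply hne
    exact le_antisymm hTV (hCs ▸ hT₀T)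
  have hCA : Inv A C := fun a ha => hCinv a (hAH ha)
  obtain ⟨X, hXC, hXmin⟩ := Finite.exists_le_minimal
    (p := fun X : Subgroup G => X ≤ C ∧ Inv A X ∧ X ≠ ⊥) (a := C) ⟨le_refl _, hCA, hCne⟩
  obtain ⟨⟨hXC', hXA, hXne⟩, hXle⟩ := hXmin
  have hex : ∃ h : H, X ⊓ cj (h : G) T = ⊥ := by
    by_contra hcon
    push Not at hcon
    apply hXne
    have hXT₀ : X ≤ T₀ := by
      apply le_iInf
      intro h
      have hp : (X ⊓ cj (h : G) T) ≤ C ∧ Inv A (X ⊓ cj (h : G) T) ∧ X ⊓ cj (h : G) T ≠ ⊥ :=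
        ⟨inf_le_left.trans hXC', hXA.inf (hAT.cj (hAn h.2)), hcon h⟩
      exact (hXle hp inf_le_left).trans inf_le_right
    rw [eq_bot_iff, ← hCi]
    exact le_inf hXT₀ hXC'
  obtain ⟨h, hh⟩ := hex
  refine ⟨cj (h : G)⁻¹ X, ?_, ?_, ?_, ?_⟩
  · exact (cj_mono _ (hXC'.trans hCV)).trans (hHV _ (H.inv_mem h.2))
  · exact hXA.cj (hAn (H.inv_mem h.2))
  · rw [Ne, cj_eq_bot_iff]; exact hXne
  · rw [← cj_eq_bot_iff (h : G), cj_inf, ← cj_mul, mul_inv_cancel, cj_one]
    exact hh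

theorem clifford_complement [Finite G] (H A V : Subgroup G)
    (hVab : ∀ x ∈ V, ∀ y ∈ V, x * y = y * x)
    (hHV : Inv H V) (hAH : A ≤ H) (hAn : H ≤ normalizer (A : Set G))
    (hss : ∀ U : Subgroup G, U ≤ V → Inv H U →
      ∃ W : Subgroup G, W ≤ V ∧ Inv H W ∧ U ⊓ W = ⊥ ∧ U ⊔ W = V)
    (U : Subgroup G) (hUV : U ≤ V) (hAU : Inv A U) :
    ∃ W : Subgroup G, W ≤ V ∧ Inv A W ∧ U ⊓ W = ⊥ ∧ U ⊔ W = V := by
  obtain ⟨W, -, hWmax⟩ := Finite.exists_le_maximal
    (p := fun W : Subgroup G => W ≤ V ∧ Inv A W ∧ U ⊓ W = ⊥) (a := ⊥)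
    ⟨bot_le, inv_bot A, inf_bot_eq _⟩
  obtain ⟨⟨hWV, hWA, hUW⟩, hWle⟩ := hWmax
  refine ⟨W, hWV, hWA, hUW, ?_⟩
  by_contra hne
  obtain ⟨S, hSV, hSA, hSne, hST⟩ := exists_inv_disjoint H A V hHV hAH hAn hss (U ⊔ W)
    (sup_le hUV hWV) (hAU.sup hWA) hne
  have hp : (W ⊔ S) ≤ V ∧ Inv A (W ⊔ S) ∧ U ⊓ (W ⊔ S) = ⊥ := by
    refine ⟨sup_le hWV hSV, hWA.sup hSA, ?_⟩
    rw [eq_bot_iff]
    intro x hx
    obtain ⟨hxU, hxWS⟩ := hx
    obtain ⟨w, hw, s, hs, rfl⟩ := exists_mul_of_mem_sup hVab hWV hSV hxWS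
    have hsT : s ∈ U ⊔ W := by
      have : s = w⁻¹ * (w * s) := by group
      rw [this]
      exact Subgroup.mul_mem _ (Subgroup.mem_sup_right (W.inv_mem hw)) (Subgroup.mem_sup_left hxU)
    have hs1 : s = 1 := by
      have : s ∈ S ⊓ (U ⊔ W) := ⟨hs, hsT⟩
      rw [hST] at this
      exact this
    rw [hs1, mul_one] at hxU ⊢
    have : w ∈ U ⊓ W := ⟨hxU, hw⟩
    rw [hUW] at this
    exact this
  have hle := hWle hp le_sup_left
  apply hSne
  rw [eq_bot_iff, ← hST]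
  exact le_inf (le_refl _) ((le_sup_right.trans hle).trans le_sup_right)

end

end Cfsg.Agent.Lib.Helper19
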