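import Mathlib
import Cfsg.Agent.Lib.Helper19.Clifford
/-! A minimal normal subgroup of a finite group is a direct power of a simple group. -/
set_option autoImplicit false

namespace Cfsg.Agent.Lib.Helper19

open Subgroup

section
variable {G : Type*} [Group G]

/-- Two subgroups of `N`, invariant under `N`, meeting trivially, commute elementwise. -/
theorem commute_of_inv_disjoint {N U W : Subgroup G} (hU : Inv N U) (hW : Inv N W)
    (hUN : U ≤ N) (hWN : W ≤ N) (hd : U ⊓ W = ⊥) : ∀ u ∈ U, ∀ w ∈ W, Commute u w := by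
  intro u hu w hw
  have h1 : u * w * u⁻¹ * w⁻¹ ∈ U := by
    have : w * u⁻¹ * w⁻¹ ∈ U := by
      have h := hU w (hWN hw)
      apply h
      rw [mem_cj]
      have e : w⁻¹ * (w * u⁻¹ * w⁻¹) * w = u⁻¹ := by group
      rw [e]; exact U.inv_mem hu
    have e : u * w * u⁻¹ * w⁻¹ = u * (w * u⁻¹ * w⁻¹) := by group
    rw [e]; exact U.mul_mem hu this
  have h2 : u * w * u⁻¹ * w⁻¹ ∈ W := by
    have : u * w * u⁻¹ ∈ W := by
      have h := hW u (hUN hu)
      apply h
      rw [mem_cj]
      have e : u⁻¹ * (u * w * u⁻¹) * u = w := by group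
      rw [e]; exact hw
    exact W.mul_mem this (W.inv_mem hw)
  have h3 : u * w * u⁻¹ * w⁻¹ ∈ U ⊓ W := ⟨h1, h2⟩
  rw [hd, mem_bot] at h3
  show u * w = w * u
  have e : u * w = (u * w * u⁻¹ * w⁻¹) * (w * u) := by group
  rw [e, h3, one_mul]

/-- internal direct product of two commuting subgroups meeting trivially -/
theorem nonempty_sup_mulEquiv_prod {U W : Subgroup G} (hc : ∀ u ∈ U, ∀ w ∈ W, Commute u w)
    (hd : U ⊓ W = ⊥) : Nonempty (↥(U ⊔ W) ≃* ↥U × ↥W) := by
  have hcomm : ∀ (u : ↥U) (w : ↥W), Commute (U.subtype u) (W.subtype w) := fun u w => hc u u.2 w w.2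
  set f : ↥U × ↥W →* G := MonoidHom.noncommCoprod U.subtype W.subtype hcomm with hf
  have hinj : Function.Injective f := by
    rw [hf, MonoidHom.noncommCoprod_injective]
    refine ⟨U.subtype_injective, W.subtype_injective, ?_⟩
    rw [Subgroup.range_subtype, Subgroup.range_subtype, disjoint_iff, hd]
  have hrange : f.range = U ⊔ W := by
    rw [hf, MonoidHom.noncommCoprod_range, Subgroup.range_subtype, Subgroup.range_subtype]
  exact ⟨((MonoidHom.ofInjective hinj).trans (MulEquiv.subgroupCongr hrange)).symm⟩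

/-- a conjugate subgroup is isomorphic to the subgroup -/
noncomputable def cjEquiv (g : G) (U : Subgroup G) : ↥(cj g U) ≃* ↥U :=
  (U.equivMapOfInjective (MulAut.conj g).toMonoidHom (MulAut.conj g).injective).symm

end

/-- `(Fin m → T) × T ≃* (Fin (m+1) → T)` -/
def piSnocMulEquiv (T : Type*) [Mul T] (m : ℕ) : ((Fin m → T) × T) ≃* (Fin (m + 1) → T) where
  toFun p := Fin.snoc (α := fun _ => T) p.1 p.2
  invFun g := (Fin.init (α := fun _ => T) g, g (Fin.last m))
  left_inv p := by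
    ext
    · simp [Fin.init_snoc]
    · simp
  right_inv g := by
    simp [Fin.snoc_init_self]
  map_mul' p q := by
    ext i
    refine Fin.lastCases ?_ ?_ i
    · simp
    · intro j; simp

section
variable {H : Type*} [Group H]

/-- nontrivial `N`-invariant subgroups of `N` -/
def NInv (N T : Subgroup H) : Prop := T ≤ N ∧ T ≠ ⊥ ∧ Inv N T

theorem cj_le_of_normal {N T : Subgroup H} [N.Normal] (hT : T ≤ N) (h : H) : cj h T ≤ N := by
  intro x hx
  rw [mem_cj] at hx
  have h1 := hT hx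
  have h2 := (inferInstance : N.Normal).conj_mem _ h1 h
  have e : h * (h⁻¹ * x * h) * h⁻¹ = x := by group
  rwa [e] at h2

theorem NInv.cj {N T : Subgroup H} [N.Normal] (hT : NInv N T) (h : H) : NInv N (cj h T) := by
  refine ⟨cj_le_of_normal hT.1 h, ?_, ?_⟩
  · rw [Ne, cj_eq_bot_iff]; exact hT.2.1
  · apply Inv.cj hT.2.2
    rw [Subgroup.normalizer_eq_top]
    exact mem_top h

theorem cj_cj_inv (h : H) (T : Subgroup H) : cj h⁻¹ (cj h T) = T := by
  rw [← cj_mul, inv_mul_cancel, cj_one]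

theorem cj_inv_cj (h : H) (T : Subgroup H) : cj h (cj h⁻¹ T) = T := by
  rw [← cj_mul, mul_inv_cancel, cj_one]

theorem minimal_ninv_cj {N T : Subgroup H} [N.Normal] (hT : Minimal (NInv N) T) (h : H) :
    Minimal (NInv N) (cj h T) := by
  refine ⟨hT.1.cj h, ?_⟩
  intro K hK hKT
  have h1 : NInv N (cj h⁻¹ K) := hK.cj h⁻¹
  have h2 : cj h⁻¹ K ≤ T := by
    have := cj_mono h⁻¹ hKT
    rwa [cj_cj_inv] at this
  have h3 := hT.2 h1 h2
  have := cj_mono h h3
  rwa [cj_inv_cj] at this

/-- a minimal invariant subgroup is contained in or disjoint from any invariant subgroup -/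
theorem minimal_ninv_le_or_disjoint {N K M : Subgroup H} (hK : Minimal (NInv N) K) (hM : Inv N M) :
    K ≤ M ∨ K ⊓ M = ⊥ := by
  by_cases h : K ⊓ M = ⊥
  · exact Or.inr h
  · left
    have h1 : NInv N (K ⊓ M) := ⟨inf_le_left.trans hK.1.1, h, hK.1.2.2.inf hM⟩
    have h2 := hK.2 h1 inf_le_left
    exact h2.trans inf_le_right

theorem iSup_cj_eq {N T : Subgroup H} [N.Normal] (hmin : ∀ M : Subgroup H, M.Normal → M ≤ N → M = ⊥ ∨ M = N)
    (hT : NInv N T) : (⨆ h : H, cj h T) = N := by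
  have hJN : (⨆ h : H, cj h T) ≤ N := iSup_le (fun h => cj_le_of_normal hT.1 h)
  have hJnorm : (⨆ h : H, cj h T).Normal := by
    constructor
    intro n hn g
    have h1 : cj g (⨆ h : H, cj h T) ≤ ⨆ h : H, cj h T := by
      unfold cj
      rw [Subgroup.map_iSup]
      apply iSup_le
      intro h
      have : Subgroup.map (MulAut.conj g).toMonoidHom (Subgroup.map (MulAut.conj h).toMonoidHom T)
          = cj (g * h) T := by
        rw [cj_mul]; rfl
      rw [this]
      exact le_iSup (fun h : H => cj h T) (g * h)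
    apply h1
    rw [mem_cj]
    have e : g⁻¹ * (g * n * g⁻¹) * g = n := by group
    rw [e]; exact hn
  have hJne : (⨆ h : H, cj h T) ≠ ⊥ := by
    intro hbot
    apply hT.2.1
    have : T ≤ ⨆ h : H, cj h T := by
      have := le_iSup (fun h : H => cj h T) 1
      simpa [cj_one] using this
    rw [hbot] at this
    exact le_bot_iff.mp this
  exact (hmin _ hJnorm hJN).resolve_left hJne

/-- a minimal invariant subgroup of a minimal normal subgroup is simple -/
theorem isSimpleGroup_of_minimal_ninv {N T : Subgroup H} [N.Normal]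
    (hmin : ∀ M : Subgroup H, M.Normal → M ≤ N → M = ⊥ ∨ M = N)
    (hT : Minimal (NInv N) T) : IsSimpleGroup ↥T := by
  have hnt : Nontrivial ↥T := (Subgroup.nontrivial_iff_ne_bot T).mpr hT.1.2.1
  refine { exists_pair_ne := hnt.exists_pair_ne, eq_bot_or_eq_top_of_normal := ?_ }
  intro K' hK'
  set K : Subgroup H := K'.map T.subtype with hKdef
  have hKT : K ≤ T := by
    rw [hKdef]
    exact Subgroup.map_subtype_le K'
  -- `T` normalizes `K`
  have hTK : Inv T K := by
    intro t ht x hx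
    rw [mem_cj] at hx
    obtain ⟨k, hk, hkx⟩ := hx
    have h1 : (⟨t, ht⟩ : ↥T) * k * (⟨t, ht⟩ : ↥T)⁻¹ ∈ K' := hK'.conj_mem k hk ⟨t, ht⟩
    refine ⟨_, h1, ?_⟩
    simp only [Subgroup.subtype_apply, Subgroup.coe_mul, Subgroup.coe_inv] at hkx ⊢
    rw [hkx]; group
  have hTK' : T ≤ normalizer (K : Set H) := (inv_iff_le_normalizer T K).mp hTK
  have hJ := iSup_cj_eq hmin hT.1
  have hNK : N ≤ normalizer (K : Set H) := by
    rw [← hJ]
    apply iSup_le
    intro h
    rcases minimal_ninv_le_or_disjoint (minimal_ninv_cj hT h) hT.1.2.2 with h1 | h1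
    · exact h1.trans hTK'
    · intro c hc
      apply Subgroup.centralizer_le_normalizer
      rw [Subgroup.mem_centralizer_iff]
      intro k hk
      have := commute_of_inv_disjoint (hT.1.cj h).2.2 hT.1.2.2 (hT.1.cj h).1 hT.1.1 h1 c hc k (hKT hk)
      exact this.symm
  have hInv : Inv N K := (inv_iff_le_normalizer N K).mpr hNK
  by_cases hbot : K = ⊥
  · left
    rw [hKdef] at hbot
    exact (Subgroup.map_eq_bot_iff_of_injective K' T.subtype_injective).mp hbot
  · right
    have h1 : NInv N K := ⟨hKT.trans hT.1.1, hbot, hInv⟩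
    have h2 : T ≤ K := hT.2 h1 hKT
    rw [eq_top_iff]
    intro x _
    obtain ⟨k, hk, hkx⟩ := h2 x.2
    have : k = x := Subtype.ext hkx
    rwa [← this]

/-- **A minimal normal subgroup of a finite group is a direct power of a simple group.** -/
theorem exists_simple_pi_equiv_of_minNormal [Finite H] (N : Subgroup H) [N.Normal] (hN : N ≠ ⊥)
    (hmin : ∀ M : Subgroup H, M.Normal → M ≤ N → M = ⊥ ∨ M = N) :
    ∃ (T : Subgroup H) (m : ℕ), T ≤ N ∧ T ≠ ⊥ ∧ IsSimpleGroup ↥T ∧ 0 < m ∧
      Nonempty (↥N ≃* (Fin m → ↥T)) := by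
  have hNN : NInv N N := by
    refine ⟨le_rfl, hN, ?_⟩
    intro a _
    exact cj_le_of_normal le_rfl a
  obtain ⟨T, -, hT⟩ := Finite.exists_le_minimal (p := NInv N) hNN
  have hsimple := isSimpleGroup_of_minimal_ninv hmin hT
  have hJ := iSup_cj_eq hmin hT.1
  -- maximal direct product of conjugates
  let P : Subgroup H → Prop := fun M => M ≤ N ∧ Inv N M ∧ ∃ m : ℕ, Nonempty (↥M ≃* (Fin m → ↥T))
  have hP0 : P ⊥ := by
    refine ⟨bot_le, inv_bot N, 0, ?_⟩
    exact ⟨MulEquiv.ofUnique⟩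
  obtain ⟨M, -, hM⟩ := Finite.exists_le_maximal (p := P) hP0
  obtain ⟨⟨hMN, hMinv, m, ⟨e⟩⟩, hMmax⟩ := hM
  have hMeq : M = N := by
    by_contra hne
    have : ∃ h : H, ¬ cj h T ≤ M := by
      by_contra hcon
      push Not at hcon
      apply hne
      apply le_antisymm hMN
      rw [← hJ]
      exact iSup_le hcon
    obtain ⟨h, hh⟩ := this
    have hKmin := minimal_ninv_cj hT h
    have hdisj : cj h T ⊓ M = ⊥ := (minimal_ninv_le_or_disjoint hKmin hMinv).resolve_left hh
    have hdisj' : M ⊓ cj h T = ⊥ := by rw [inf_comm]; exact hdisj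
    have hcomm := commute_of_inv_disjoint hMinv hKmin.1.2.2 hMN hKmin.1.1 hdisj'
    obtain ⟨e2⟩ := nonempty_sup_mulEquiv_prod hcomm hdisj'
    have hP' : P (M ⊔ cj h T) := by
      refine ⟨sup_le hMN hKmin.1.1, hMinv.sup hKmin.1.2.2, m + 1, ?_⟩
      exact ⟨(e2.trans (MulEquiv.prodCongr e (cjEquiv h T))).trans (piSnocMulEquiv ↥T m)⟩
    have := hMmax hP' le_sup_left
    exact hh (le_sup_right.trans this)
  subst hMeq
  refine ⟨T, m, hT.1.1, hT.1.2.1, hsimple, ?_, ⟨e⟩⟩
  by_contra hm0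
  have hm : m = 0 := by omega
  subst hm
  apply hN
  have : Subsingleton ↥M := e.toEquiv.subsingleton
  exact Subgroup.eq_bot_of_subsingleton M

/-- version with the simple group in `Type` -/
theorem exists_simple_type0_pi_equiv_of_minNormal [Finite H] (N : Subgroup H) [N.Normal] (hN : N ≠ ⊥)
    (hmin : ∀ M : Subgroup H, M.Normal → M ≤ N → M = ⊥ ∨ M = N) :
    ∃ (T : Type) (_ : Group T) (m : ℕ), IsSimpleGroup T ∧ 0 < m ∧ Nonempty (↥N ≃* (Fin m → T)) := by
  obtain ⟨T, m, -, -, hs, hm, ⟨e⟩⟩ := exists_simple_pi_equiv_of_minNormal N hN hmin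
  refine ⟨Shrink.{0} ↥T, inferInstance, m, ?_, hm, ?_⟩
  · exact (Shrink.mulEquiv.{0} (α := ↥T)).isSimpleGroup
  · exact ⟨e.trans (MulEquiv.piCongrRight (fun _ => (Shrink.mulEquiv.{0} (α := ↥T)).symm))⟩

end

end Cfsg.Agent.Lib.Helper19
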