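import Mathlib
import Cfsg.Agent.S0494
import Cfsg.Agent.S0493
import Cfsg.Agent.Lib.Helper2.IndexTwo
import Cfsg.Agent.Lib.Helper19.MinNormalPower
/-! A group of order 60 whose Sylow 5-subgroups are not normal is isomorphic to `A₅`. -/
set_option autoImplicit false

namespace Cfsg.Agent.Lib.Helper19

open Subgroup

/-- `G` has a normal Sylow `p`-subgroup -/
def HasNormalSylow (p : ℕ) (G : Type*) [Group G] : Prop :=
  ∃ Q : Sylow p G, (Q : Subgroup G).Normal

section
variable {G : Type*} [Group G] [Finite G] {p : ℕ} [Fact p.Prime]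

/-- `|G| = p * r` with `r ≤ p`: the Sylow `p`-subgroup is normal -/
theorem hasNormalSylow_of_card (r : ℕ) (hcard : Nat.card G = p * r) (hr : r ≤ p) (hr0 : 0 < r) :
    HasNormalSylow p G := by
  have hp : p.Prime := Fact.out
  let Q : Sylow p G := default
  refine ⟨Q, ?_⟩
  have h1 : Nat.card (Sylow p G) ≡ 1 [MOD p] := card_sylow_modEq_one p G
  have h2 : Nat.card (Sylow p G) ∣ (Q : Subgroup G).index := Q.card_dvd_index
  have h3 : ¬ p ∣ (Q : Subgroup G).index := Q.not_dvd_index
  have h4 : (Q : Subgroup G).index ∣ p * r := by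
    rw [← hcard]; exact Subgroup.index_dvd_card _
  have h5 : (Q : Subgroup G).index ∣ r :=
    (Nat.Coprime.dvd_mul_left ((Nat.Prime.coprime_iff_not_dvd hp).mpr h3).symm).mp h4
  have h6 : Nat.card (Sylow p G) ∣ r := h2.trans h5
  have h7 : Nat.card (Sylow p G) ≤ r := Nat.le_of_dvd hr0 h6
  have h8 : 0 < Nat.card (Sylow p G) := Nat.card_pos
  have h9 : Nat.card (Sylow p G) = 1 := by
    have hmod := h1
    unfold Nat.ModEq at hmod
    rw [Nat.mod_eq_of_lt hp.one_lt] at hmod
    by_cases hlt : Nat.card (Sylow p G) < p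
    · rw [Nat.mod_eq_of_lt hlt] at hmod; exact hmod
    · have : Nat.card (Sylow p G) = p := by omega
      rw [this, Nat.mod_self] at hmod; omega
  rw [Sylow.card_eq_index_normalizer Q] at h9
  rw [← Subgroup.normalizer_eq_top_iff]
  exact Subgroup.index_eq_one.mp h9

/-- a normal Sylow subgroup of a normal subgroup of index prime to `p` gives one of `G` -/
theorem hasNormalSylow_of_normal (H : Subgroup G) [H.Normal] (hidx : ¬ p ∣ H.index)
    (h : HasNormalSylow p ↥H) : HasNormalSylow p G := by
  obtain ⟨Q, hQ⟩ := h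
  haveI hchar : (Q : Subgroup ↥H).Characteristic := Q.characteristic_of_normal hQ
  have hnorm : ((Q : Subgroup ↥H).map H.subtype).Normal := inferInstance
  have hpg : IsPGroup p ((Q : Subgroup ↥H).map H.subtype) := Q.isPGroup'.map H.subtype
  have hidx' : ¬ p ∣ ((Q : Subgroup ↥H).map H.subtype).index := by
    rw [Subgroup.index_map_subtype]
    have hp : p.Prime := Fact.out
    intro hd
    rcases (Nat.Prime.dvd_mul hp).mp hd with h1 | h1
    · exact Q.not_dvd_index h1
    · exact hidx h1
  exact ⟨hpg.toSylow hidx', hnorm⟩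

/-- lifting a normal Sylow subgroup from a quotient `G ⧸ N`, when the preimage is small -/
theorem hasNormalSylow_of_quotient (N : Subgroup G) [N.Normal] (hN : Nat.card N ≤ p)
    (hNp : Nat.card N ≠ p)
    (hG : p ∣ Nat.card G) (hG2 : ¬ p ^ 2 ∣ Nat.card G)
    (h : HasNormalSylow p (G ⧸ N)) : HasNormalSylow p G := by
  have hp : p.Prime := Fact.out
  obtain ⟨Q, hQ⟩ := h
  -- the preimage
  set K : Subgroup G := (Q : Subgroup (G ⧸ N)).comap (QuotientGroup.mk' N) with hK
  haveI hKn : K.Normal := hQ.comap _
  have hNpos : 0 < Nat.card N := Nat.card_pos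
  have hcopN : ¬ p ∣ Nat.card N := by
    intro hd
    have := Nat.le_of_dvd hNpos hd
    omega
  have hcardGN : Nat.card G = Nat.card (G ⧸ N) * Nat.card N := by
    rw [← Subgroup.index_eq_card, mul_comm]
    exact (Subgroup.card_mul_index N).symm
  have hpGN : p ∣ Nat.card (G ⧸ N) := by
    rw [hcardGN] at hG
    rcases (Nat.Prime.dvd_mul hp).mp hG with h1 | h1
    · exact h1
    · exact absurd h1 hcopN
  have hQcard : Nat.card (Q : Subgroup (G ⧸ N)) = p := by
    have h1 := Q.card_eq_multiplicity
    have h2 : (Nat.card (G ⧸ N)).factorization p = 1 := by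
      have hle : 1 ≤ (Nat.card (G ⧸ N)).factorization p :=
        (hp.dvd_iff_one_le_factorization Nat.card_pos.ne').mp hpGN
      have hlt : (Nat.card (G ⧸ N)).factorization p < 2 := by
        by_contra hcon
        push Not at hcon
        apply hG2
        have : p ^ 2 ∣ Nat.card (G ⧸ N) :=
          (hp.pow_dvd_iff_le_factorization Nat.card_pos.ne').mpr hcon
        rw [hcardGN]
        exact Dvd.dvd.mul_right this _
      omega
    rw [h1, h2, pow_one]
  have hKcard : Nat.card K = p * Nat.card N := by
    have h1 : Nat.card K = Nat.card (Q : Subgroup (G ⧸ N)) * Nat.card N := by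
      have hker : (QuotientGroup.mk' N).ker = N := QuotientGroup.ker_mk' N
      -- |K| = |K/N| |N|
      have hNK : N ≤ K := by
        intro n hn
        rw [hK, mem_comap]
        have : (QuotientGroup.mk' N) n = 1 := by
          rw [← MonoidHom.mem_ker, hker]; exact hn
        rw [this]; exact one_mem _
      have h2 : (K.map (QuotientGroup.mk' N)) = (Q : Subgroup (G ⧸ N)) :=
        Subgroup.map_comap_eq_self_of_surjective (QuotientGroup.mk'_surjective N) _
      -- use the first isomorphism theorem on the restriction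
      let f : ↥K →* (G ⧸ N) := (QuotientGroup.mk' N).comp K.subtype
      have hfr : f.range = (Q : Subgroup (G ⧸ N)) := by
        rw [MonoidHom.range_comp, Subgroup.range_subtype, h2]
      have hfk : Nat.card f.ker = Nat.card N := by
        apply Nat.card_congr
        refine ⟨fun x => ⟨x.1.1, ?_⟩, fun n => ⟨⟨n.1, hNK n.2⟩, ?_⟩, ?_, ?_⟩
        · have := x.2
          rw [MonoidHom.mem_ker] at this
          have h5 : (QuotientGroup.mk' N) x.1.1 = 1 := this
          rw [← MonoidHom.mem_ker, hker] at h5
          exact h5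
        · rw [MonoidHom.mem_ker]
          show (QuotientGroup.mk' N) n.1 = 1
          rw [← MonoidHom.mem_ker, hker]; exact n.2
        · intro x; rfl
        · intro n; rfl
      have h6 := Subgroup.card_mul_index f.ker
      rw [Subgroup.index_ker, hfr, hfk] at h6
      rw [← h6, mul_comm]
    rw [h1, hQcard]
  have h1 : HasNormalSylow p ↥K := hasNormalSylow_of_card (Nat.card N) hKcard hN hNpos
  apply hasNormalSylow_of_normal K _ h1
  intro hd
  apply hG2
  have := Subgroup.card_mul_index K
  rw [← this, hKcard, pow_two, mul_assoc]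
  exact Nat.mul_dvd_mul_left p (Dvd.dvd.mul_left hd _)

end

section
variable {G : Type*} [Group G] [Finite G]

instance fact_prime_five : Fact (Nat.Prime 5) := ⟨by norm_num⟩

/-- a group of order 30 has a normal Sylow 5-subgroup -/
theorem hasNormalSylow_five_of_card_thirty (hcard : Nat.card G = 30) : HasNormalSylow 5 G := by
  haveI : Fact (Nat.Prime 2) := ⟨Nat.prime_two⟩
  let T : Sylow 2 G := default
  have hTc : Nat.card (T : Subgroup G) = 2 := by
    have h := T.card_eq_multiplicity
    rw [hcard] at h
    have h2 : (30 : ℕ).factorization 2 = 1 := by decide +kernel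
    rw [h2, pow_one] at h
    exact h
  have hcyc : IsCyclic (T : Subgroup G) := isCyclic_of_prime_card hTc
  obtain ⟨H, hH⟩ := Cfsg.Agent.Lib.Helper2.exists_index_two_of_cyclic_sylow
    (by rw [hcard]; decide) T hcyc
  haveI hHn : H.Normal := Subgroup.normal_of_index_eq_two hH
  have hHc : Nat.card H = 5 * 3 := by
    have := Subgroup.card_mul_index H
    rw [hH, hcard] at this
    omega
  have h1 : HasNormalSylow 5 ↥H := hasNormalSylow_of_card 3 hHc (by norm_num) (by norm_num)
  exact hasNormalSylow_of_normal H (by rw [hH]; norm_num) h1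

theorem exists_minNormal_of_nontrivial [Nontrivial G] : ∃ A : Subgroup G, A.Normal ∧ A ≠ ⊥ ∧
    ∀ M : Subgroup G, M.Normal → M ≤ A → M = ⊥ ∨ M = A := by
  have h0 : (fun V : Subgroup G => V.Normal ∧ V ≠ ⊥) ⊤ := ⟨inferInstance, top_ne_bot⟩
  obtain ⟨A, -, hA⟩ := Finite.exists_le_minimal (p := fun V : Subgroup G => V.Normal ∧ V ≠ ⊥) h0
  refine ⟨A, hA.1.1, hA.1.2, ?_⟩
  intro M hM hMA
  by_cases h : M = ⊥
  · exact Or.inl h
  · exact Or.inr (le_antisymm hMA (hA.2 ⟨hM, h⟩ hMA))

/-- a group of order 60 without normal Sylow 5-subgroup is simple -/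
theorem isSimpleGroup_of_card_sixty (hcard : Nat.card G = 60) (h5 : ¬ HasNormalSylow 5 G) :
    IsSimpleGroup G := by
  haveI hnt : Nontrivial G := by
    apply (Finite.one_lt_card_iff_nontrivial).mp
    rw [hcard]; norm_num
  obtain ⟨A, hAn, hA1, hAmin⟩ := exists_minNormal_of_nontrivial (G := G)
  haveI := hAn
  obtain ⟨T, m, hTA, hT1, hs, hm, ⟨e⟩⟩ := exists_simple_pi_equiv_of_minNormal A hA1 hAmin
  have hAcard : Nat.card A = Nat.card ↥T ^ m := by
    rw [Nat.card_congr e.toEquiv, Nat.card_fun, Nat.card_eq_fintype_card (α := Fin m),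
      Fintype.card_fin]
  have hAdvd : Nat.card A ∣ 60 := by rw [← hcard]; exact Subgroup.card_subgroup_dvd_card A
  by_cases hcyc : IsCyclic ↥T
  · exfalso
    letI : CommGroup ↥T := IsCyclic.commGroup
    have hq : (Nat.card ↥T).Prime := IsSimpleGroup.prime_card (α := ↥T)
    set q := Nat.card ↥T with hqdef
    have hqm : q ^ m ∣ 60 := by rw [← hAcard]; exact hAdvd
    have hq60 : q ∣ 60 := (dvd_pow_self q (by omega : m ≠ 0)).trans hqm
    have hqle : q ≤ 60 := Nat.le_of_dvd (by norm_num) hq60
    have hmle : m ≤ 5 := by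
      by_contra hcon
      push Not at hcon
      have h1 : q ^ m ≤ 60 := Nat.le_of_dvd (by norm_num) hqm
      have h2 : 2 ^ 6 ≤ q ^ m :=
        (Nat.pow_le_pow_left hq.two_le 6).trans (Nat.pow_le_pow_right hq.pos hcon)
      omega
    have hAc : Nat.card A = 2 ∨ Nat.card A = 3 ∨ Nat.card A = 4 ∨ Nat.card A = 5 := by
      rw [hAcard]
      interval_cases q <;> first | (exfalso; revert hq; decide) | skip
      all_goals interval_cases m <;> first | omega | (exfalso; revert hqm; decide)
    have hGA : Nat.card G = Nat.card (G ⧸ A) * Nat.card A := by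
      rw [← Subgroup.index_eq_card, mul_comm]
      exact (Subgroup.card_mul_index A).symm
    rw [hcard] at hGA
    have hquot : ∀ (hle : Nat.card A ≤ 5) (hne : Nat.card A ≠ 5),
        HasNormalSylow 5 (G ⧸ A) → False := by
      intro hle hne hq'
      exact h5 (hasNormalSylow_of_quotient A hle hne (by rw [hcard]; norm_num)
        (by rw [hcard]; norm_num) hq')
    rcases hAc with h | h | h | h
    · apply hquot (by omega) (by omega)
      apply hasNormalSylow_five_of_card_thirty
      rw [h] at hGA; omega
    · apply hquot (by omega) (by omega)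
      apply hasNormalSylow_of_card 4 _ (by norm_num) (by norm_num)
      rw [h] at hGA; omega
    · apply hquot (by omega) (by omega)
      apply hasNormalSylow_of_card 3 _ (by norm_num) (by norm_num)
      rw [h] at hGA; omega
    · apply h5
      have h2 : (60 : ℕ).factorization 5 = 1 := by decide +kernel
      refine ⟨Sylow.ofCard A (by rw [hcard, h2, h, pow_one]), ?_⟩
      rw [Sylow.coe_ofCard]
      exact hAn
  · have hT100 : Nat.card ↥T ≤ 100 := by
      have := Subgroup.card_le_card_group T
      omega
    have hT60 := Cfsg.Agent.S0493.result hcyc hT100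
    have hTtop : T = ⊤ := Subgroup.eq_top_of_card_eq T (by rw [hT60, hcard])
    subst hTtop
    exact (Subgroup.topEquiv (G := G)).symm.isSimpleGroup

/-- **a group of order 60 whose Sylow 5-subgroup is not normal is `A₅`** -/
theorem mulEquiv_A5_of_card_sixty (hcard : Nat.card G = 60) (h5 : ¬ HasNormalSylow 5 G) :
    Nonempty (G ≃* alternatingGroup (Fin 5)) := by
  haveI := isSimpleGroup_of_card_sixty hcard h5
  exact Cfsg.Agent.S0494.result hcard

end

end Cfsg.Agent.Lib.Helper19
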