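import Mathlib

set_option autoImplicit false

namespace Cfsg.Agent.Lib.Helper19

set_option maxRecDepth 100000 in
theorem a5_perm_pow (g : Equiv.Perm (Fin 5)) (hg : Equiv.Perm.sign g = 1) :
    g ^ 2 = 1 ∨ g ^ 3 = 1 ∨ g ^ 5 = 1 := by
  revert g
  decide

/-- element orders in `A₅` are `1, 2, 3, 5` -/
theorem a5_orderOf (g : alternatingGroup (Fin 5)) :
    orderOf g = 1 ∨ orderOf g = 2 ∨ orderOf g = 3 ∨ orderOf g = 5 := by
  have hs : Equiv.Perm.sign (g : Equiv.Perm (Fin 5)) = 1 := Equiv.Perm.mem_alternatingGroup.mp g.2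
  rw [← Subgroup.orderOf_coe]
  rcases a5_perm_pow g.1 hs with h | h | h
  · have := orderOf_dvd_of_pow_eq_one h
    rcases (Nat.dvd_prime Nat.prime_two).mp this with h1 | h1
    · exact Or.inl h1
    · exact Or.inr (Or.inl h1)
  · have := orderOf_dvd_of_pow_eq_one h
    rcases (Nat.dvd_prime Nat.prime_three).mp this with h1 | h1
    · exact Or.inl h1
    · exact Or.inr (Or.inr (Or.inl h1))
  · have := orderOf_dvd_of_pow_eq_one h
    rcases (Nat.dvd_prime Nat.prime_five).mp this with h1 | h1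
    · exact Or.inl h1
    · exact Or.inr (Or.inr (Or.inr h1))

set_option maxRecDepth 100000 in
theorem a5_exists_order_two : ∃ g : alternatingGroup (Fin 5), orderOf g = 2 := by
  refine ⟨⟨Equiv.swap 0 1 * Equiv.swap 2 3, Equiv.Perm.mem_alternatingGroup.mpr (by decide)⟩, ?_⟩
  rw [← Subgroup.orderOf_coe]
  exact orderOf_eq_prime (p := 2) (by decide) (by decide)

set_option maxRecDepth 100000 in
theorem a5_exists_order_three : ∃ g : alternatingGroup (Fin 5), orderOf g = 3 := by
  refine ⟨⟨Equiv.swap 0 1 * Equiv.swap 1 2, Equiv.Perm.mem_alternatingGroup.mpr (by decide)⟩, ?_⟩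
  rw [← Subgroup.orderOf_coe]
  haveI : Fact (Nat.Prime 3) := ⟨Nat.prime_three⟩
  exact orderOf_eq_prime (p := 3) (by decide) (by decide)

set_option maxRecDepth 100000 in
theorem a5_exists_order_five : ∃ g : alternatingGroup (Fin 5), orderOf g = 5 := by
  refine ⟨⟨Equiv.swap 0 1 * Equiv.swap 1 2 * Equiv.swap 2 3 * Equiv.swap 3 4,
    Equiv.Perm.mem_alternatingGroup.mpr (by decide)⟩, ?_⟩
  rw [← Subgroup.orderOf_coe]
  haveI : Fact (Nat.Prime 5) := ⟨Nat.prime_five⟩
  exact orderOf_eq_prime (p := 5) (by decide) (by decide)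

theorem a5_exists_order (n : ℕ) (hn : n = 1 ∨ n = 2 ∨ n = 3 ∨ n = 5) :
    ∃ g : alternatingGroup (Fin 5), orderOf g = n := by
  rcases hn with rfl | rfl | rfl | rfl
  · exact ⟨1, orderOf_one⟩
  · exact a5_exists_order_two
  · exact a5_exists_order_three
  · exact a5_exists_order_five

end Cfsg.Agent.Lib.Helper19
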