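import Mathlib
import Cfsg.Prelude.Def_GeometricClasses
import Cfsg.Agent.Lib.Helper25.SpTK
import Cfsg.Agent.Lib.Helper25.TensS

/-!
S5704 (`Sp_a ⊗ Sp_b` maximal in `Ω⁺_{ab}(q)`), part (N) "Lemma N" (helper19's sub-market of helper25's
S5704 market): definitions.

`W = A ⊗ e_o` (`o` the index `0`, `o'` its partner, the index `1`).
`UW o o' g φ`: `g` fixes `W` pointwise and maps `x ⊗ e_l` to `x ⊗ e_l + (φ l x) ⊗ e_o` for `l ≠ o, o'`
(`g` lies in the unipotent radical `U_W` of the stabiliser of `W`; `φ l` are its "`φ`-blocks").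
`SB o o' l M`: the set of matrices `θ` such that some `g ∈ M` is of `U_W`-form with the single `φ`-block `θ`
at position `l`.  `r1 x₀ x₁ : v ↦ sf v x₁ • x₀` (rank one).
-/

set_option autoImplicit false
set_option linter.unusedSectionVars false
set_option linter.unusedVariables false

namespace Cfsg.Agent.Lib.Helper19.SpTN
open Matrix QuadraticMap
open Cfsg.Agent.Lib.Helper25.Tens Cfsg.Agent.Lib.Helper25.TensLeaves Cfsg.Agent.Lib.Helper19.OSub
open Cfsg.Agent.Lib.Helper25.SpT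
open scoped Kronecker

variable {F : Type*} [Field F] {a b : ℕ}

/-- `g` is of `U_W`-form with `φ`-blocks `φ` (`W = A ⊗ e_o`) -/
structure UW (o o' : Fin b) (g : GL (Idx a b) F) (φ : Fin b → Matrix (Fin a) (Fin a) F) : Prop where
  fixW : ∀ x : Fin a → F, mv g (pt x (Pi.single o 1)) = pt x (Pi.single o 1)
  act : ∀ l : Fin b, l ≠ o → l ≠ o' → ∀ x : Fin a → F,
    mv g (pt x (Pi.single l 1)) = pt x (Pi.single l 1) + pt (φ l *ᵥ x) (Pi.single o 1)

/-- the family of blocks with the single entry `θ` at `l` -/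
def sgl (l : Fin b) (θ : Matrix (Fin a) (Fin a) F) : Fin b → Matrix (Fin a) (Fin a) F :=
  fun k => if k = l then θ else 0

/-- single-block matrices realised in `M` -/
def SB (o o' l : Fin b) (M : Subgroup (GL (Idx a b) F)) : Set (Matrix (Fin a) (Fin a) F) :=
  {θ | ∃ g ∈ M, UW o o' g (sgl l θ)}

/-- the rank one matrix `v ↦ sf v x₁ • x₀` -/
def r1 (x₀ x₁ : Fin a → F) : Matrix (Fin a) (Fin a) F := Matrix.vecMulVec x₀ (sfv x₁)

lemma r1_mulVec (x₀ x₁ v : Fin a → F) : r1 x₀ x₁ *ᵥ v = sf v x₁ • x₀ := by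
  rw [r1, Matrix.vecMulVec_mulVec, sfv_dot]
  ext i
  simp [mul_comm]

lemma stv_val {n : ℕ} (x : Fin n → F) (c : F) :
    ((stv x c : GL (Fin n) F) : Matrix (Fin n) (Fin n) F) = 1 + c • Matrix.vecMulVec x (sfv x) := by
  rw [stv, tv_val]
  congr 1
  ext i j
  simp [Matrix.vecMulVec_apply, mul_assoc]

lemma stv_inv {n : ℕ} (x : Fin n → F) (c : F) : (stv x c : GL (Fin n) F)⁻¹ = stv x (-c) := by
  apply inv_eq_of_mul_eq_one_right
  apply Units.ext
  apply Matrix.toLin'.injective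
  apply LinearMap.ext
  intro v
  simp only [Units.val_mul, Matrix.toLin'_mul, LinearMap.comp_apply, Matrix.toLin'_apply,
    Units.val_one, Matrix.toLin'_one, LinearMap.id_apply]
  rw [stv_mulVec, stv_mulVec, sf_add_left, sf_smul_left, sf_self]
  module

lemma sf_o_o' {b : ℕ} (o o' : Fin b) (ho : o.val = 0) (ho' : o'.val = 1) :
    sf (Pi.single o (1 : F) : Fin b → F) (Pi.single o' (1 : F)) = 1 := by
  rw [sf_single_single, Jm_apply, if_pos ⟨by omega, by omega⟩]

lemma sf_single_eq_zero {b : ℕ} (eb : Even b) (k l : Fin b) (hkl : l ≠ pr eb k) :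
    sf (Pi.single k (1 : F) : Fin b → F) (Pi.single l (1 : F)) = 0 := by
  rw [sf_single_single, Jm_eq_zero_of_ne eb k l hkl]

lemma pr_o {b : ℕ} (eb : Even b) (o o' : Fin b) (ho : o.val = 0) (ho' : o'.val = 1) :
    pr eb o = o' := by
  apply Fin.ext
  rw [pr_val_even eb o (by omega)]
  omega

lemma pr_o' {b : ℕ} (eb : Even b) (o o' : Fin b) (ho : o.val = 0) (ho' : o'.val = 1) :
    pr eb o' = o := by
  rw [← pr_o eb o o' ho ho', pr_pr]

/-- the action on `x ⊗ e_l` in terms of blocks -/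
lemma mv_pt_single (g : GL (Idx a b) F) (x : Fin a → F) (l : Fin b) :
    mv g (pt x (Pi.single l 1)) =
      ∑ k, pt (blk (g : Matrix (Idx a b) (Idx a b) F) k l *ᵥ x) (Pi.single k 1) := by
  ext ⟨i, k⟩
  unfold mv
  rw [Cfsg.Agent.Lib.Helper25.TensLeaf.mulVec_pt_single_right, Finset.sum_apply,
    Finset.sum_eq_single k]
  · simp [pt]
  · intro k' _ hk'
    simp [pt, Pi.single_apply, hk'.symm]
  · simp

end Cfsg.Agent.Lib.Helper19.SpTN
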