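import Mathlib
import Cfsg.Agent.Lib.Helper5.TWU.Defs
import Cfsg.Agent.Lib.Helper14.TWIIDefs

/-!
# S5672 (C7 unitary, owner helper5) — STAGE III (sub-planner helper19): definitions

`vv q s w = s w†` (rank one), `RG q X s` (the full unitary transvection root group with centre `s` lies in `X`),
`famU q J y` (the factor family of `nilU q J y`), `extHom j`, `KB X j = {γ | extGL j γ ∈ X}`.
Plan: `notes/S5672_III_plan.md`, leaves: `notes/S5672_III_leaves.lean`.
-/

set_option autoImplicit false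
set_option linter.unusedSectionVars false
set_option linter.unusedVariables false

namespace Cfsg.Agent.Lib.Helper19.TWU3
open Matrix Cfsg.Geo Cfsg.Agent.Lib.Helper18.AschA89 Cfsg.Agent.Lib.Helper8.TW
open Cfsg.Agent.Lib.Helper5.TWU
open Cfsg.Agent.Lib.Helper20.UT (hv)

variable {F : Type*} [Field F] {t k : ℕ}

/-- the rank-one matrix `s w†` : `v ↦ hv q v w • s` -/
def vv {κ : Type} (q : ℕ) (s w : κ → F) : Matrix κ κ F := Matrix.vecMulVec s (dag q w)

lemma vv_apply {κ : Type} (q : ℕ) (s w : κ → F) (a b : κ) : vv q s w a b = s a * (w b) ^ q := by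
  unfold vv
  rw [Matrix.vecMulVec_apply]
  rfl

/-- `X` contains the full unitary transvection root group `{1 + c s s† : c^q = -c}` with centre `s` -/
def RG {κ : Type} [Fintype κ] [DecidableEq κ] (q : ℕ) (X : Subgroup (GL κ F)) (s : κ → F) : Prop :=
  ∀ c : F, c ^ q = -c → InM X (1 + c • vv q s s)

/-- the factor family of `nilU q J y`: `y_j y_j†` for `j ∈ J`, `1` otherwise -/
def famU (q : ℕ) (J : Finset (Fin t)) (y : Fin t → Fin k → F) : Fin t → Matrix (Fin k) (Fin k) F :=
  fun j => if j ∈ J then vv q (y j) (y j) else 1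

/-- `γ ↦ γ ⊗ 1` (identity at position `j`) as a monoid homomorphism -/
def extHom (j : Fin (t + 1)) : GL (Idx t k) F →* GL (Idx (t + 1) k) F where
  toFun := extGL j
  map_one' := Cfsg.Agent.Lib.Helper14.TWII.extGL_one j
  map_mul' := Cfsg.Agent.Lib.Helper14.TWII.extGL_mul j

/-- `K_j(X) = {γ ∈ GL(A_ĵ) | γ ⊗ 1_j ∈ X}` -/
def KB (X : Subgroup (GL (Idx (t + 1) k) F)) (j : Fin (t + 1)) : Subgroup (GL (Idx t k) F) :=
  X.comap (extHom j)

lemma mem_KB (X : Subgroup (GL (Idx (t + 1) k) F)) (j : Fin (t + 1)) (γ : GL (Idx t k) F) :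
    γ ∈ KB X j ↔ extGL j γ ∈ X := Iff.rfl

end Cfsg.Agent.Lib.Helper19.TWU3
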