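import Mathlib
import Cfsg.Prelude.Def_GeometricClasses
import Cfsg.Agent.Lib.Helper18.AschA89Defs
import Cfsg.Agent.Lib.Helper20.AschA89F2J
import Cfsg.Agent.Lib.Helper20.AschA89WR
import Cfsg.Agent.Lib.Helper2.TIIIsf
import Cfsg.Agent.Lib.Helper8.TW.Defs

set_option autoImplicit false
set_option linter.unusedSectionVars false
set_option linter.unusedVariables false

namespace Cfsg.Agent.Lib.Helper19.TWGrow
open Matrix Cfsg.Geo Cfsg.Agent.Lib.Helper18.AschA89 Cfsg.Agent.Lib.Helper20.AschLeaf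
open Cfsg.Agent.Lib.Helper25.Tens Cfsg.Agent.Lib.Helper25.TensLeaves

variable {F : Type*} [Field F] {m t : ℕ}

/-- the family `E_{a_j b_j}` for `j ∈ J`, `1` otherwise -/
def famJ (J : Finset (Fin t)) (a b : Fin t → Fin m) : Fin t → Matrix (Fin m) (Fin m) F :=
  fun j => if j ∈ J then Matrix.single (a j) (b j) 1 else 1

/-- `∏_{j ∈ J} pos j (E_{a_j b_j})` -/
def NJ (J : Finset (Fin t)) (a b : Fin t → Fin m) : Matrix (Fin t → Fin m) (Fin t → Fin m) F :=
  ptens m t (famJ J a b)

/-- all `1 + c ∏_{j ∈ J} pos j (E_{a_j b_j})` (`a_j ≠ b_j` on `J`) lie in `X` -/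
def XTJ (X : Subgroup (GL (Fin t → Fin m) F)) (J : Finset (Fin t)) : Prop :=
  ∀ a b : Fin t → Fin m, (∀ j ∈ J, a j ≠ b j) → ∀ c : F, InM X (1 + c • NJ J a b)

lemma famJ_mem {J : Finset (Fin t)} (a b : Fin t → Fin m) {j : Fin t} (hj : j ∈ J) :
    famJ (F := F) J a b j = Matrix.single (a j) (b j) 1 := by
  unfold famJ; rw [if_pos hj]

lemma famJ_not_mem {J : Finset (Fin t)} (a b : Fin t → Fin m) {j : Fin t} (hj : j ∉ J) :
    famJ (F := F) J a b j = 1 := by
  unfold famJ; rw [if_neg hj]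

lemma ptens_eq_zero_of_factor (gs : Fin t → Matrix (Fin m) (Fin m) F) (j : Fin t) (h : gs j = 0) :
    ptens m t gs = 0 := by
  ext x y
  rw [ptens_apply]
  exact Finset.prod_eq_zero (Finset.mem_univ j) (by rw [h]; rfl)

/-- the commutator identity -/
lemma comm_identity {ι : Type} [Fintype ι] [DecidableEq ι] (A B : Matrix ι ι F)
    (hA : A * A = 0) (hB : B * B = 0) (hBA : B * A = 0) (c : F) :
    (1 + (1 : F) • A) * (1 + c • B) * (1 + (-1 : F) • A) * (1 + (-c) • B) = 1 + c • (A * B) := by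
  have hAx : ∀ M : Matrix ι ι F, A * (A * M) = 0 := fun M => by rw [← mul_assoc, hA, zero_mul]
  have hBx : ∀ M : Matrix ι ι F, B * (B * M) = 0 := fun M => by rw [← mul_assoc, hB, zero_mul]
  have hBAx : ∀ M : Matrix ι ι F, B * (A * M) = 0 := fun M => by rw [← mul_assoc, hBA, zero_mul]
  simp only [one_smul, neg_smul, mul_add, add_mul, mul_one, one_mul, mul_neg, neg_mul,
    Matrix.smul_mul, Matrix.mul_smul, mul_assoc, hA, hB, hBA, hAx, hBx, hBAx, smul_zero, neg_zero,
    add_zero, zero_add, mul_zero, zero_mul]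
  abel


lemma exists_avoid (hm : 3 ≤ m) (x y : Fin m) : ∃ z : Fin m, z ≠ x ∧ z ≠ y := by
  by_contra hcon
  push Not at hcon
  have h0 := hcon ⟨0, by omega⟩
  have h1 := hcon ⟨1, by omega⟩
  have h2 := hcon ⟨2, by omega⟩
  have e : ∀ (i : ℕ) (hi : i < m), ((⟨i, hi⟩ : Fin m) = x ∨ (⟨i, hi⟩ : Fin m) = y) := by
    intro i hi
    by_cases hx : (⟨i, hi⟩ : Fin m) = x
    · exact Or.inl hx
    · exact Or.inr (hcon ⟨i, hi⟩ hx)
  rcases e 0 (by omega) with a0 | a0 <;> rcases e 1 (by omega) with a1 | a1 <;>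
    rcases e 2 (by omega) with a2 | a2 <;>
    simp only [← a0, ← a1, ← a2, Fin.mk.injEq] at * <;> omega

/-- (G1) -/
theorem XTJ_union (hm : 3 ≤ m) (X : Subgroup (GL (Fin t → Fin m) F)) (J J' : Finset (Fin t))
    (hne : (J ∩ J').Nonempty) (h : XTJ X J) (h' : XTJ X J') : XTJ X (J ∪ J') := by
  intro a b' hab c
  obtain ⟨j0, hj0⟩ := hne
  rw [Finset.mem_inter] at hj0
  choose mid hmid using fun j => exists_avoid hm (a j) (b' j)
  -- the two new patterns
  let b : Fin t → Fin m := fun j => if j ∈ J' then mid j else b' j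
  let a' : Fin t → Fin m := fun j => if j ∈ J then mid j else a j
  have hb1 : ∀ j, j ∈ J' → b j = mid j := fun j hj => if_pos hj
  have hb2 : ∀ j, j ∉ J' → b j = b' j := fun j hj => if_neg hj
  have ha1 : ∀ j, j ∈ J → a' j = mid j := fun j hj => if_pos hj
  have ha2 : ∀ j, j ∉ J → a' j = a j := fun j hj => if_neg hj
  have hcond : ∀ j ∈ J, a j ≠ b j := by
    intro j hj
    by_cases hj' : j ∈ J'
    · rw [hb1 j hj']
      exact fun e => (hmid j).1 e.symm
    · rw [hb2 j hj']
      exact hab j (Finset.mem_union_left _ hj)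
  have hcond' : ∀ j ∈ J', a' j ≠ b' j := by
    intro j hj'
    by_cases hj : j ∈ J
    · rw [ha1 j hj]
      exact (hmid j).2
    · rw [ha2 j hj]
      exact hab j (Finset.mem_union_right _ hj')
  have hprod : NJ (F := F) J a b * NJ J' a' b' = NJ (J ∪ J') a b' := by
    unfold NJ
    rw [ptens_mul]
    congr 1
    funext j
    by_cases hj : j ∈ J <;> by_cases hj' : j ∈ J'
    · rw [famJ_mem a b hj, famJ_mem a' b' hj', famJ_mem a b' (Finset.mem_union_left _ hj),
        hb1 j hj', ha1 j hj, Matrix.single_mul_single_same, mul_one]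
    · rw [famJ_mem a b hj, famJ_not_mem a' b' hj', famJ_mem a b' (Finset.mem_union_left _ hj),
        mul_one, hb2 j hj']
    · rw [famJ_not_mem a b hj, famJ_mem a' b' hj', famJ_mem a b' (Finset.mem_union_right _ hj'),
        one_mul, ha2 j hj]
    · rw [famJ_not_mem a b hj, famJ_not_mem a' b' hj', famJ_not_mem a b' (by
        rw [Finset.mem_union]; tauto), mul_one]
  have hrev : NJ (F := F) J' a' b' * NJ J a b = 0 := by
    unfold NJ
    rw [ptens_mul]
    apply ptens_eq_zero_of_factor _ j0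
    show famJ J' a' b' j0 * famJ J a b j0 = 0
    rw [famJ_mem a b hj0.1, famJ_mem a' b' hj0.2]
    apply Matrix.single_mul_single_of_ne
    exact fun e => hab j0 (Finset.mem_union_left _ hj0.1) e.symm
  have hsqA : NJ (F := F) J a b * NJ J a b = 0 := by
    unfold NJ
    rw [ptens_mul]
    apply ptens_eq_zero_of_factor _ j0
    show famJ J a b j0 * famJ J a b j0 = 0
    rw [famJ_mem a b hj0.1]
    apply Matrix.single_mul_single_of_ne
    exact fun e => hcond j0 hj0.1 e.symm
  have hsqB : NJ (F := F) J' a' b' * NJ J' a' b' = 0 := by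
    unfold NJ
    rw [ptens_mul]
    apply ptens_eq_zero_of_factor _ j0
    show famJ J' a' b' j0 * famJ J' a' b' j0 = 0
    rw [famJ_mem a' b' hj0.2]
    apply Matrix.single_mul_single_of_ne
    exact fun e => hcond' j0 hj0.2 e.symm
  have key := comm_identity (NJ (F := F) J a b) (NJ J' a' b') hsqA hsqB hrev c
  rw [hprod] at key
  rw [← key]
  exact InM_mul (InM_mul (InM_mul (h a b hcond 1) (h' a' b' hcond' c)) (h a b hcond (-1)))
    (h' a' b' hcond' (-c))


/-! ### conjugation by factor permutations -/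

lemma fperm_conj_ptens (σ : Equiv.Perm (Fin t)) (gs : Fin t → Matrix (Fin m) (Fin m) F) :
    fperm (F := F) m t σ * ptens m t gs * fperm m t σ⁻¹ = ptens m t (fun j => gs (σ⁻¹ j)) := by
  ext x z
  rw [wr_mul_fperm_apply, wr_fperm_mul_apply, ptens_apply, ptens_apply]
  rw [← Equiv.prod_comp σ (fun j => gs (σ⁻¹ j) (x j) (z j))]
  apply Finset.prod_congr rfl
  intro i _
  simp

lemma famJ_perm (σ : Equiv.Perm (Fin t)) (J : Finset (Fin t)) (a b : Fin t → Fin m) :
    (fun j => famJ (F := F) J a b (σ⁻¹ j)) =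
      famJ (J.map σ.toEmbedding) (fun j => a (σ⁻¹ j)) (fun j => b (σ⁻¹ j)) := by
  funext j
  unfold famJ
  have : j ∈ J.map σ.toEmbedding ↔ σ⁻¹ j ∈ J := by
    rw [Finset.mem_map_equiv]
    rfl
  by_cases hj : σ⁻¹ j ∈ J
  · rw [if_pos hj, if_pos (this.2 hj)]
  · rw [if_neg hj, if_neg (fun h => hj (this.1 h))]

/-- (G2) transport along a factor permutation lying in `X` -/
theorem XTJ_perm (X : Subgroup (GL (Fin t → Fin m) F)) (σ : Equiv.Perm (Fin t))
    (hσ : wrFpermGL (F := F) m t σ ∈ X) (J : Finset (Fin t)) (h : XTJ X J) :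
    XTJ X (J.map σ.toEmbedding) := by
  intro a b hab c
  have hcond : ∀ j ∈ J, (fun j => a (σ j)) j ≠ (fun j => b (σ j)) j := by
    intro j hj
    exact hab (σ j) (Finset.mem_map_of_mem _ hj)
  obtain ⟨u, hu, huv⟩ := h (fun j => a (σ j)) (fun j => b (σ j)) hcond c
  refine ⟨wrFpermGL m t σ * u * (wrFpermGL m t σ)⁻¹, X.mul_mem (X.mul_mem hσ hu) (X.inv_mem hσ), ?_⟩
  have e1 : ((wrFpermGL (F := F) m t σ * u * (wrFpermGL m t σ)⁻¹ : GL (Fin t → Fin m) F) :
      Matrix (Fin t → Fin m) (Fin t → Fin m) F) =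
      fperm m t σ * (u : Matrix (Fin t → Fin m) (Fin t → Fin m) F) * fperm m t σ⁻¹ := rfl
  rw [e1, huv, mul_add, add_mul, mul_one, wr_fperm_mul_inv, Matrix.mul_smul, Matrix.smul_mul]
  unfold NJ
  rw [fperm_conj_ptens, famJ_perm]
  have ea : (fun j => (fun j => a (σ j)) (σ⁻¹ j)) = a := by
    funext j
    simp
  have eb : (fun j => (fun j => b (σ j)) (σ⁻¹ j)) = b := by
    funext j
    simp
  rw [ea, eb]

/-! ### 3-cycles of positions lie in `H` -/

/-- the permutation `x ↦ x ∘ σ` of the index set -/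
def idxPerm (m : ℕ) (σ : Equiv.Perm (Fin t)) : Equiv.Perm (Fin t → Fin m) where
  toFun x := x ∘ σ
  invFun x := x ∘ σ.symm
  left_inv x := by funext j; simp
  right_inv x := by funext j; simp

lemma fperm_eq_permMatrix (σ : Equiv.Perm (Fin t)) :
    fperm (F := F) m t σ = Equiv.Perm.permMatrix F (idxPerm m σ) := by
  ext x y
  rw [fperm_apply]
  unfold Equiv.Perm.permMatrix
  rw [PEquiv.toMatrix_apply]
  simp only [Equiv.toPEquiv_apply, Option.mem_def, Option.some.injEq]
  have : (idxPerm m σ) x = x ∘ σ := rfl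
  rw [this]
  by_cases h : y = x ∘ σ
  · rw [if_pos h, if_pos h.symm]
  · rw [if_neg h, if_neg (fun e => h e.symm)]

lemma det_fperm_of_pow_three (σ : Equiv.Perm (Fin t)) (h3 : σ ^ 3 = 1) :
    (fperm (F := F) m t σ).det = 1 := by
  rw [fperm_eq_permMatrix, Matrix.det_permutation]
  have hp : (idxPerm m σ) ^ 3 = 1 := by
    ext x : 1
    funext j
    have e : (σ ^ 3) j = j := by rw [h3]; rfl
    have e' : σ (σ (σ j)) = j := by
      simpa [pow_succ, Equiv.Perm.mul_apply] using e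
    show x (σ (σ (σ j))) = x j
    rw [e']
  have hs : Equiv.Perm.sign (idxPerm m σ) = 1 := by
    have h1 : Equiv.Perm.sign (idxPerm m σ) ^ 3 = 1 := by
      rw [← map_pow, hp, map_one]
    rcases Int.units_eq_one_or (Equiv.Perm.sign (idxPerm m σ)) with e | e
    · exact e
    · rw [e] at h1
      exact absurd h1 (by decide)
  rw [hs]
  simp

lemma wrFpermGL_mem_H (σ : Equiv.Perm (Fin t)) (h3 : σ ^ 3 = 1) :
    wrFpermGL (F := F) m t σ ∈ tensorWreathStandard m t F ⊓ specialLinear (Fin t → Fin m) F := by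
  refine ⟨Subgroup.subset_closure (Or.inr ⟨σ, fun x y => rfl⟩), ?_⟩
  show wrFpermGL (F := F) m t σ ∈ (Matrix.GeneralLinearGroup.det : GL (Fin t → Fin m) F →* Fˣ).ker
  rw [MonoidHom.mem_ker]
  apply Units.ext
  show (fperm (F := F) m t σ).det = 1
  exact det_fperm_of_pow_three σ h3


/-! ### growth -/

/-- (G3) one step: add a position -/
theorem XTJ_insert (hm : 3 ≤ m) (X : Subgroup (GL (Fin t → Fin m) F))
    (hHX : tensorWreathStandard m t F ⊓ specialLinear (Fin t → Fin m) F ≤ X)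
    (J : Finset (Fin t)) (hJ : 2 ≤ J.card) (l : Fin t) (hl : l ∉ J) (h : XTJ X J) :
    XTJ X (insert l J) := by
  obtain ⟨j1, j2, hj1, hj2, h12⟩ : ∃ j1 j2, j1 ∈ J ∧ j2 ∈ J ∧ j1 ≠ j2 := by
    have : 1 < J.card := by omega
    rw [Finset.one_lt_card] at this
    obtain ⟨x, hx, y, hy, hxy⟩ := this
    exact ⟨x, y, hx, hy, hxy⟩
  have hl1 : j1 ≠ l := fun e => hl (e ▸ hj1)
  have hl2 : j2 ≠ l := fun e => hl (e ▸ hj2)
  -- σ : j2 ↦ l ↦ j1 ↦ j2
  set σ : Equiv.Perm (Fin t) := Equiv.swap j2 j1 * Equiv.swap j2 l with hσ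
  have h3c : σ.IsThreeCycle := Equiv.Perm.isThreeCycle_swap_mul_swap_same h12.symm hl2 hl1
  have h3 : σ ^ 3 = 1 := by
    rw [← h3c.orderOf]
    exact pow_orderOf_eq_one σ
  have hσX : wrFpermGL (F := F) m t σ ∈ X := hHX (wrFpermGL_mem_H σ h3)
  have hσj2 : σ j2 = l := by
    rw [hσ, Equiv.Perm.mul_apply, Equiv.swap_apply_left,
      Equiv.swap_apply_of_ne_of_ne hl2.symm hl1.symm]
  have hσj1 : σ j1 = j2 := by
    rw [hσ, Equiv.Perm.mul_apply, Equiv.swap_apply_of_ne_of_ne h12 hl1, Equiv.swap_apply_right]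
  have hσo : ∀ j, j ≠ j1 → j ≠ j2 → j ≠ l → σ j = j := by
    intro j n1 n2 nl
    rw [hσ, Equiv.Perm.mul_apply, Equiv.swap_apply_of_ne_of_ne n2 nl,
      Equiv.swap_apply_of_ne_of_ne n2 n1]
  have h' := XTJ_perm X σ hσX J h
  have hne : (J ∩ J.map σ.toEmbedding).Nonempty :=
    ⟨j2, Finset.mem_inter.2 ⟨hj2, by rw [← hσj1]; exact Finset.mem_map_of_mem _ hj1⟩⟩
  have hU := XTJ_union hm X J (J.map σ.toEmbedding) hne h h'
  have hset : J ∪ J.map σ.toEmbedding = insert l J := by
    ext j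
    simp only [Finset.mem_union, Finset.mem_map, Equiv.coe_toEmbedding, Finset.mem_insert]
    constructor
    · rintro (hj | ⟨i, hi, rfl⟩)
      · exact Or.inr hj
      · by_cases e1 : i = j1
        · rw [e1, hσj1]; exact Or.inr hj2
        · by_cases e2 : i = j2
          · rw [e2, hσj2]; exact Or.inl rfl
          · have e3 : i ≠ l := fun e => hl (e ▸ hi)
            rw [hσo i e1 e2 e3]; exact Or.inr hi
    · rintro (rfl | hj)
      · exact Or.inr ⟨j2, hj2, hσj2⟩
      · exact Or.inl hj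
  rw [hset] at hU
  exact hU

/-- (G3) `XT_J` with `|J| ≥ 2` gives `XT_{[t]}` -/
theorem XTJ_univ (hm : 3 ≤ m) (X : Subgroup (GL (Fin t → Fin m) F))
    (hHX : tensorWreathStandard m t F ⊓ specialLinear (Fin t → Fin m) F ≤ X)
    (J : Finset (Fin t)) (hJ : 2 ≤ J.card) (h : XTJ X J) : XTJ X Finset.univ := by
  have key : ∀ n : ℕ, ∀ J : Finset (Fin t), 2 ≤ J.card → Jᶜ.card = n → XTJ X J →
      XTJ X Finset.univ := by
    intro n
    induction n with
    | zero =>
      intro J _ hc hX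
      have : J = Finset.univ := by
        rw [Finset.card_eq_zero, Finset.compl_eq_empty_iff] at hc
        exact hc
      rw [← this]; exact hX
    | succ n ih =>
      intro J hJ2 hc hX
      have hne : Jᶜ.Nonempty := by
        rw [← Finset.card_pos]; omega
      obtain ⟨l, hl⟩ := hne
      rw [Finset.mem_compl] at hl
      have h1 := XTJ_insert hm X hHX J hJ2 l hl hX
      apply ih (insert l J) _ _ h1
      · rw [Finset.card_insert_of_notMem hl]; omega
      · have e1 : (insert l J).card = J.card + 1 := Finset.card_insert_of_notMem hl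
        have e2 := Finset.card_compl (insert l J)
        have e3 := Finset.card_compl J
        have e4 : (insert l J).card ≤ Fintype.card (Fin t) := Finset.card_le_univ _
        omega
  exact key _ J hJ rfl h

/-! ### the end: all elementary transvections -/

lemma NJ_univ (a b : Fin t → Fin m) :
    NJ (F := F) Finset.univ a b = Matrix.single a b 1 := by
  ext x y
  unfold NJ
  rw [ptens_apply, Matrix.single_apply]
  have e : ∀ j, famJ (F := F) Finset.univ a b j (x j) (y j) =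
      if a j = x j ∧ b j = y j then 1 else 0 := by
    intro j
    rw [famJ_mem a b (Finset.mem_univ j), Matrix.single_apply]
  simp only [e]
  rw [Finset.prod_ite_zero]
  have : (∀ i ∈ (Finset.univ : Finset (Fin t)), a i = x i ∧ b i = y i) ↔ (a = x ∧ b = y) := by
    constructor
    · intro h
      exact ⟨funext fun i => (h i (Finset.mem_univ i)).1, funext fun i => (h i (Finset.mem_univ i)).2⟩
    · rintro ⟨rfl, rfl⟩ i _
      exact ⟨rfl, rfl⟩
  simp only [this, Finset.prod_const_one]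

/-- (G4) -/
theorem sl_le_of_XTJ_univ (hm : 3 ≤ m) (ht : 0 < t) (X : Subgroup (GL (Fin t → Fin m) F))
    (h : XTJ X Finset.univ) : specialLinear (Fin t → Fin m) F ≤ X := by
  have hfar : ∀ p q : Fin t → Fin m, (∀ j, p j ≠ q j) → XT X p q := by
    intro p q hpq c
    have := h p q (fun j _ => hpq j) c
    rw [NJ_univ, Matrix.smul_single, smul_eq_mul, mul_one] at this
    exact this
  apply Cfsg.Agent.Lib.Helper2.TensLeaf.sl_le_of_XT
  intro p r hpr
  choose q hq using fun j => exists_avoid hm (p j) (r j)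
  have hpq : p ≠ q := by
    intro e
    exact (hq ⟨0, ht⟩).1 (by rw [e])
  have hqr : q ≠ r := by
    intro e
    exact (hq ⟨0, ht⟩).2 (by rw [e])
  exact Cfsg.Agent.Lib.Helper2.TensLeaf.XT_comm X p q r hpq hqr hpr
    (hfar p q (fun j e => (hq j).1 e.symm)) (hfar q r (fun j => (hq j).2))

/-- Stage III in the `ptens` vocabulary -/
theorem stageIII' (hm : 3 ≤ m) (X : Subgroup (GL (Fin t → Fin m) F))
    (hHX : tensorWreathStandard m t F ⊓ specialLinear (Fin t → Fin m) F ≤ X)
    (J : Finset (Fin t)) (hJ : 2 ≤ J.card) (h : XTJ X J) :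
    specialLinear (Fin t → Fin m) F ≤ X := by
  have ht : 0 < t := by
    have := Finset.card_le_univ J
    rw [Fintype.card_fin] at this
    omega
  exact sl_le_of_XTJ_univ hm ht X (XTJ_univ hm X hHX J hJ h)

/-! ### bridge to helper8's `TW.Defs` -/

lemma nilJ_eq_NJ (J : Finset (Fin t)) (a b : Fin t → Fin m) :
    Cfsg.Agent.Lib.Helper8.TW.nilJ (F := F) J a b = NJ J a b := by
  ext x y
  unfold Cfsg.Agent.Lib.Helper8.TW.nilJ NJ
  rw [ptens_apply]
  have e : ∀ j, famJ (F := F) J a b j (x j) (y j) =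
      if (j ∈ J → (x j = a j ∧ y j = b j)) ∧ (j ∉ J → x j = y j) then 1 else 0 := by
    intro j
    by_cases hj : j ∈ J
    · rw [famJ_mem a b hj, Matrix.single_apply]
      by_cases hc : a j = x j ∧ b j = y j
      · rw [if_pos hc, if_pos ⟨fun _ => ⟨hc.1.symm, hc.2.symm⟩, fun hn => absurd hj hn⟩]
      · rw [if_neg hc, if_neg]
        rintro ⟨h1, _⟩
        exact hc ⟨(h1 hj).1.symm, (h1 hj).2.symm⟩
    · rw [famJ_not_mem a b hj, Matrix.one_apply]
      by_cases hc : x j = y j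
      · rw [if_pos hc, if_pos ⟨fun hn => absurd hn hj, fun _ => hc⟩]
      · rw [if_neg hc, if_neg]
        rintro ⟨_, h2⟩
        exact hc (h2 hj)
  simp only [e]
  rw [Finset.prod_ite_zero]
  simp only [Finset.prod_const_one]
  have : (∀ i ∈ (Finset.univ : Finset (Fin t)), (i ∈ J → x i = a i ∧ y i = b i) ∧ (i ∉ J → x i = y i)) ↔
      ((∀ j ∈ J, x j = a j ∧ y j = b j) ∧ ∀ j, j ∉ J → x j = y j) := by
    constructor
    · intro h
      exact ⟨fun j hj => (h j (Finset.mem_univ j)).1 hj, fun j hj => (h j (Finset.mem_univ j)).2 hj⟩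
    · rintro ⟨h1, h2⟩ i _
      exact ⟨fun hi => h1 i hi, fun hi => h2 i hi⟩
  simp only [this]

lemma XT_iff_XTJ (X : Subgroup (GL (Fin t → Fin m) F)) (J : Finset (Fin t)) :
    Cfsg.Agent.Lib.Helper8.TW.XT X J ↔ XTJ X J := by
  constructor
  · intro h a b hab c
    have := h a b c hab
    rw [nilJ_eq_NJ] at this
    exact this
  · intro h a b c hab
    have := h a b hab c
    rw [← nilJ_eq_NJ] at this
    exact this

/-- **Stage III** (plan §4, (G1)-(G4)) in helper8's vocabulary. -/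
theorem stageIII (hm : 3 ≤ m) (X : Subgroup (GL (Cfsg.Agent.Lib.Helper8.TW.Idx t m) F))
    (hHX : Cfsg.Agent.Lib.Helper8.TW.Hstd t m F ≤ X) (J : Finset (Fin t)) (hJ : 2 ≤ J.card)
    (h : Cfsg.Agent.Lib.Helper8.TW.XT X J) : Cfsg.Agent.Lib.Helper8.TW.SLV t m F ≤ X :=
  stageIII' hm X hHX J hJ ((XT_iff_XTJ X J).1 h)

end Cfsg.Agent.Lib.Helper19.TWGrow
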