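import Mathlib
import Cfsg.Agent.Lib.Helper8.TW.Defs
import Cfsg.Agent.Lib.Helper6.TWQMain
import Cfsg.Agent.Lib.Helper23.TWUQDefs

/-!
S5672 (C7 unitary, owner helper5), block (Q') (sub-planner helper23, `notes/S5672_Q_leaves.lean`), exact signature:
(QU2) `involution_nf_sq` — normal form of an involution of `G` in characteristic 2 over a field in which every
element is a square: after rescaling the factors (`α' i = l i • α i`, `l i² = (c i)⁻¹`, `∏ l i = 1`)
`α' (σ i) * α' i = 1`.
-/

set_option autoImplicit false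
set_option linter.unusedSectionVars false
set_option linter.unusedVariables false

namespace Cfsg.Agent.Lib.Helper19.TWUQLeaf
open Matrix Cfsg.Geo Cfsg.Agent.Lib.Helper18.AschA89 Cfsg.Agent.Lib.Helper20.AschLeaf Cfsg.Agent.Lib.Helper8.TW
open Cfsg.Agent.Lib.Helper23.TWUQ
open Cfsg.Agent.Lib.Helper6.TWQLeaf (nf_unique swap_rank_bound)
open Cfsg.Agent.Lib.Helper22.TWQLeaf (slot_of_pure_rank)
open Cfsg.Agent.Lib.Helper19.TWQLeaf (normalise_involution)
open Cfsg.Agent.Lib.Helper6.TWQFinal (root_of_slot rootN_ne_zero)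

variable {F : Type*} [Field F] {t m : ℕ}

/-- the square of a normal form -/
lemma nf_sq (σ : Equiv.Perm (Fin t)) (α : Fin t → GL (Fin m) F) :
    (fperm m t σ * ptens m t (fun i => ((α i : GL (Fin m) F) : Matrix (Fin m) (Fin m) F))) *
      (fperm m t σ * ptens m t (fun i => ((α i : GL (Fin m) F) : Matrix (Fin m) (Fin m) F))) =
      fperm m t (σ * σ) * ptens m t
        (fun i => (((α (σ i) * α i : GL (Fin m) F)) : Matrix (Fin m) (Fin m) F)) := by
  have h3 : (fun i : Fin t => (((α (σ i) * α i : GL (Fin m) F)) : Matrix (Fin m) (Fin m) F)) =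
      fun i => ((α (σ i) : GL (Fin m) F) : Matrix (Fin m) (Fin m) F) *
        ((α i : GL (Fin m) F) : Matrix (Fin m) (Fin m) F) := by
    funext i
    rw [Units.val_mul]
  rw [h3, ← ptens_mul, ← wr_fperm_mul]
  calc fperm m t σ * ptens m t (fun i => ((α i : GL (Fin m) F) : Matrix (Fin m) (Fin m) F)) *
        (fperm m t σ * ptens m t (fun i => ((α i : GL (Fin m) F) : Matrix (Fin m) (Fin m) F)))
      = fperm m t σ * (ptens m t (fun i => ((α i : GL (Fin m) F) : Matrix (Fin m) (Fin m) F)) *
        fperm m t σ) * ptens m t (fun i => ((α i : GL (Fin m) F) : Matrix (Fin m) (Fin m) F)) := by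
        simp only [mul_assoc]
    _ = fperm m t σ * fperm m t σ *
        (ptens m t (fun i => ((α (σ i) : GL (Fin m) F) : Matrix (Fin m) (Fin m) F)) *
        ptens m t (fun i => ((α i : GL (Fin m) F) : Matrix (Fin m) (Fin m) F))) := by
        rw [Cfsg.Agent.Lib.Helper6.TWQ.ptens_mul_fperm]
        simp only [mul_assoc]

/-- a scalar matrix determines its scalar (non-empty index type) -/
lemma smul_one_inj {n : Type*} [Fintype n] [DecidableEq n] [Nonempty n] {a b : F}
    (h : a • (1 : Matrix n n F) = b • 1) : a = b := by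
  obtain ⟨x⟩ := ‹Nonempty n›
  have := congrFun (congrFun h x) x
  simpa using this

/-- in characteristic 2, a square root of `1` is `1` -/
lemma eq_one_of_sq_char_two (h2 : (2 : F) = 0) {x : F} (hx : x * x = 1) : x = 1 := by
  have h : (x + 1) * (x + 1) = 0 := by
    have : (x + 1) * (x + 1) = x * x + 2 * x + 1 := by ring
    rw [this, hx, h2, zero_mul, add_zero]
    have : (1 : F) + 1 = 2 := by norm_num
    rw [this, h2]
  have h0 : x + 1 = 0 := by
    rcases mul_self_eq_zero.1 h with h
    exact h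
  have hneg : (-1 : F) = 1 := by
    have : (1 : F) + 1 = 0 := by
      have : (1 : F) + 1 = 2 := by norm_num
      rw [this, h2]
    exact neg_eq_of_add_eq_zero_left this
  rw [← hneg]
  exact eq_neg_of_add_eq_zero_left h0

/-- (QU2) -/
theorem involution_nf_sq (h2 : (2 : F) = 0) (hsq : ∀ x : F, ∃ y, y * y = x) (hm : 2 ≤ m) (σ : Equiv.Perm (Fin t))
    (α : Fin t → GL (Fin m) F)
    (h : (fperm m t σ * ptens m t (fun i => ((α i : GL (Fin m) F) : Matrix (Fin m) (Fin m) F))) *
      (fperm m t σ * ptens m t (fun i => ((α i : GL (Fin m) F) : Matrix (Fin m) (Fin m) F))) = 1) :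
    σ * σ = 1 ∧ ∃ α' : Fin t → GL (Fin m) F,
      ptens m t (fun i => ((α' i : GL (Fin m) F) : Matrix (Fin m) (Fin m) F)) =
        ptens m t (fun i => ((α i : GL (Fin m) F) : Matrix (Fin m) (Fin m) F)) ∧
      ∀ i, α' (σ i) * α' i = 1 := by
  have : Nonempty (Fin m) := ⟨⟨0, by omega⟩⟩
  rw [nf_sq] at h
  obtain ⟨hσσ, hsc⟩ := nf_unique hm (σ * σ) (fun i => α (σ i) * α i) h
  refine ⟨hσσ, ?_⟩
  choose c hc using hsc
  have hσσi : ∀ i, σ (σ i) = i := by
    intro i
    have := congrArg (fun τ : Equiv.Perm (Fin t) => τ i) hσσ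
    simpa using this
  -- the scalars are non-zero
  have hc0 : ∀ i, c i ≠ 0 := by
    intro i h0
    have hci := hc i
    rw [h0, zero_smul] at hci
    have hdet := (Matrix.isUnit_iff_isUnit_det _).1 ((α (σ i) * α i).isUnit)
    rw [hci, Matrix.det_zero] at hdet
    exact not_isUnit_zero hdet
  -- `c (σ i) = c i`
  have hcσ : ∀ i, c (σ i) = c i := by
    intro i
    have h1 := hc (σ i)
    rw [hσσi] at h1
    -- `α i * α (σ i) = c (σ i) • 1`, and also `= α i * (α (σ i) * α i) * (α i)⁻¹ = c i • 1`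
    have h3 : ((α i * α (σ i) : GL (Fin m) F) : Matrix (Fin m) (Fin m) F) = c i • 1 := by
      have e : α i * α (σ i) = α i * (α (σ i) * α i) * (α i)⁻¹ := by group
      rw [e, Units.val_mul, Units.val_mul, hc i, Matrix.mul_smul, Matrix.smul_mul, mul_one, ← Units.val_mul,
        mul_inv_cancel, Units.val_one]
    rw [h1] at h3
    exact smul_one_inj h3
  -- `∏ c i = 1`
  have hprod : ∏ i, c i = 1 := by
    have e : (fun i : Fin t => (((α (σ i) * α i : GL (Fin m) F)) : Matrix (Fin m) (Fin m) F)) =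
        fun i => c i • (1 : Matrix (Fin m) (Fin m) F) := funext hc
    rw [e, hσσ, wr_fperm_one, one_mul, ptens_smul, ptens_one] at h
    have h' : (∏ i, c i) • (1 : Matrix (Idx t m) (Idx t m) F) = (1 : F) • 1 := by rw [h, one_smul]
    have : Nonempty (Idx t m) := ⟨fun _ => ⟨0, by omega⟩⟩
    exact smul_one_inj h'
  -- square roots
  choose sq hsq' using hsq
  set l : Fin t → F := fun i => sq ((c i)⁻¹) with hl
  have hll : ∀ i, l i * l i = (c i)⁻¹ := fun i => hsq' _
  have hlσ : ∀ i, l (σ i) = l i := by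
    intro i
    simp only [hl, hcσ]
  have hl0 : ∀ i, l i ≠ 0 := by
    intro i h0
    have := hll i
    rw [h0, mul_zero] at this
    exact inv_ne_zero (hc0 i) this.symm
  have hlprod : ∏ i, l i = 1 := by
    apply eq_one_of_sq_char_two h2
    rw [← Finset.prod_mul_distrib]
    simp only [hll]
    rw [Finset.prod_inv_distrib, hprod, inv_one]
  -- the rescaled factors
  have hmk : ∀ i, ∃ β : GL (Fin m) F, (β : Matrix (Fin m) (Fin m) F) = l i • (α i : Matrix (Fin m) (Fin m) F) := by
    intro i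
    refine ⟨⟨l i • (α i : Matrix (Fin m) (Fin m) F), (l i)⁻¹ • ((α i)⁻¹ : GL (Fin m) F), ?_, ?_⟩, rfl⟩
    · rw [Matrix.smul_mul, Matrix.mul_smul, smul_smul, ← Units.val_mul, mul_inv_cancel, Units.val_one,
        mul_inv_cancel₀ (hl0 i), one_smul]
    · rw [Matrix.smul_mul, Matrix.mul_smul, smul_smul, ← Units.val_mul, inv_mul_cancel, Units.val_one,
        inv_mul_cancel₀ (hl0 i), one_smul]
  choose α' hα' using hmk
  refine ⟨α', ?_, ?_⟩
  · have e : (fun i : Fin t => ((α' i : GL (Fin m) F) : Matrix (Fin m) (Fin m) F)) =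
        fun i => l i • ((α i : GL (Fin m) F) : Matrix (Fin m) (Fin m) F) := funext hα'
    rw [e, ptens_smul, hlprod, one_smul]
  · intro i
    apply Units.ext
    rw [Units.val_mul, hα', hα', Matrix.smul_mul, Matrix.mul_smul, smul_smul, ← Units.val_mul, hc i, smul_smul,
      hlσ, hll, Units.val_one, inv_mul_cancel₀ (hc0 i), one_smul]

end Cfsg.Agent.Lib.Helper19.TWUQLeaf
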