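import Mathlib

/-! # Irreducible action of a cyclic group of prime order (helper19)

`card_eq_of_irreducible`: an additive automorphism `T` of prime order `p` acting irreducibly and
nontrivially on a finite abelian group `V` of prime exponent `q ≠ p` forces `|V| = q ^ ord_p(q)`.
Group version: `card_eq`, and the minimal non-`p`-closed consequences `not_pClosed`,
`sub_pClosed`, `quot_pClosed`.
-/

namespace Cfsg.Agent.Lib.Helper19.IrredCyclic

open Polynomial
open scoped IsMulCommutative

section abstract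

variable {V : Type*} [AddCommGroup V] (T : AddMonoid.End V)

/-- the (commutative) subring of `End V` generated by `T` -/
abbrev genRing : Subring (AddMonoid.End V) := Subring.closure {T}

instance genRing_comm : IsMulCommutative (genRing T) :=
  Subring.isMulCommutative_closure (fun x hx y hy => by
    rw [Set.mem_singleton_iff.1 hx, Set.mem_singleton_iff.1 hy])

lemma T_mem : T ∈ genRing T := Subring.subset_closure rfl

lemma commute_of_mem {f : AddMonoid.End V} (hf : f ∈ genRing T) : f * T = T * f := by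
  have := mul_comm (⟨f, hf⟩ : genRing T) ⟨T, T_mem T⟩
  exact congrArg Subtype.val this

/-- kernel of an endomorphism as an additive subgroup -/
def kerSub (f : AddMonoid.End V) : AddSubgroup V where
  carrier := {w | f w = 0}
  zero_mem' := map_zero f
  add_mem' := by
    intro a b ha hb
    change f a = 0 at ha
    change f b = 0 at hb
    change f (a + b) = 0
    rw [map_add, ha, hb, add_zero]
  neg_mem' := by
    intro a ha
    change f a = 0 at ha
    change f (-a) = 0
    rw [map_neg, ha, neg_zero]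

lemma mem_kerSub {f : AddMonoid.End V} {w : V} : w ∈ kerSub f ↔ f w = 0 := Iff.rfl

variable (hirr : ∀ W : AddSubgroup V, (∀ w ∈ W, T w ∈ W) → W = ⊥ ∨ W = ⊤)
include hirr

lemma injective_of_mem {f : AddMonoid.End V} (hf : f ∈ genRing T) (h0 : f ≠ 0) :
    Function.Injective f := by
  have hc := commute_of_mem T hf
  have hinv : ∀ w ∈ kerSub f, T w ∈ kerSub f := by
    intro w hw
    rw [mem_kerSub] at hw ⊢
    have : f (T w) = T (f w) := by
      have := DFunLike.congr_fun hc w
      simpa using this
    rw [this, hw, map_zero]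
  rcases hirr _ hinv with h | h
  · rw [injective_iff_map_eq_zero]
    intro w hw
    have : w ∈ kerSub f := hw
    rw [h] at this
    simpa using this
  · exfalso; apply h0
    ext w
    have : w ∈ kerSub f := by rw [h]; trivial
    exact this

lemma genRing_noZeroDivisors [Nontrivial V] : NoZeroDivisors (genRing T) := by
  refine ⟨fun {a b} hab => ?_⟩
  by_contra hne
  push Not at hne
  have ha : (a : AddMonoid.End V) ≠ 0 := fun h => hne.1 (Subtype.ext h)
  have hb : (b : AddMonoid.End V) ≠ 0 := fun h => hne.2 (Subtype.ext h)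
  have ia := injective_of_mem T hirr a.2 ha
  have ib := injective_of_mem T hirr b.2 hb
  obtain ⟨v, hv⟩ := exists_ne (0 : V)
  have h1 : ((a * b : genRing T) : AddMonoid.End V) v = 0 := by rw [hab]; rfl
  have h2 : (a : AddMonoid.End V) ((b : AddMonoid.End V) v) = 0 := h1
  have h3 := ia (h2.trans (map_zero _).symm)
  exact hv (ib (h3.trans (map_zero _).symm))

omit hirr in
lemma genRing_nontrivial [Nontrivial V] : Nontrivial (genRing T) := by
  refine ⟨⟨0, 1, fun h => ?_⟩⟩
  obtain ⟨v, hv⟩ := exists_ne (0 : V)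
  have h1 : ((0 : genRing T) : AddMonoid.End V) v = ((1 : genRing T) : AddMonoid.End V) v := by
    rw [h]
  exact hv h1.symm

omit hirr in
lemma genRing_charP [Nontrivial V] {q : ℕ} (hq : q.Prime) (hqV : ∀ v : V, q • v = 0) :
    CharP (genRing T) q := by
  have := genRing_nontrivial T
  rw [CharP.charP_iff_prime_eq_zero hq]
  apply Subtype.ext
  ext v
  simpa using hqV v

omit hirr in
/-- Every element of the ring generated by `T` is fixed by `f ↦ f ^ (q ^ e)`. -/
lemma pow_eq_self_of_mem [Nontrivial V] {q : ℕ} [hq : Fact q.Prime] (hqV : ∀ v : V, q • v = 0)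
    (e : ℕ) (hT : T ^ (q ^ e) = T) (f : genRing T) : f ^ (q ^ e) = f := by
  have := genRing_charP T hq.out hqV
  obtain ⟨f, hf⟩ := f
  induction hf using Subring.closure_induction with
  | mem x hx =>
    have : x = T := Set.mem_singleton_iff.1 hx
    subst this
    exact Subtype.ext hT
  | zero =>
    exact zero_pow (pow_pos hq.out.pos e).ne'
  | one => exact one_pow _
  | add x y hx hy ihx ihy =>
    have : (⟨x + y, add_mem hx hy⟩ : genRing T) = ⟨x, hx⟩ + ⟨y, hy⟩ := rfl
    rw [this, add_pow_char_pow, ihx, ihy]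
  | neg x hx ih =>
    have h1 : (⟨-x, neg_mem hx⟩ : genRing T) = -⟨x, hx⟩ := rfl
    have h2 : (-(⟨x, hx⟩ : genRing T)) ^ q ^ e + (⟨x, hx⟩ : genRing T) ^ q ^ e = 0 := by
      rw [← add_pow_char_pow, neg_add_cancel, zero_pow (pow_pos hq.out.pos e).ne']
    rw [h1, eq_neg_of_add_eq_zero_left h2, ih]
  | mul x y hx hy ihx ihy =>
    have : (⟨x * y, mul_mem hx hy⟩ : genRing T) = ⟨x, hx⟩ * ⟨y, hy⟩ := rfl
    rw [this, mul_pow, ihx, ihy]

lemma card_genRing_le [Nontrivial V] [Finite V] {q : ℕ} [hq : Fact q.Prime]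
    (hqV : ∀ v : V, q • v = 0) (e : ℕ) (he : e ≠ 0) (hT : T ^ (q ^ e) = T) :
    Nat.card (genRing T) ≤ q ^ e := by
  have := genRing_nontrivial T
  have := genRing_noZeroDivisors T hirr
  have : IsDomain (genRing T) := NoZeroDivisors.to_isDomain _
  have : Finite (AddMonoid.End V) :=
    Finite.of_injective (fun f => (f : V → V)) DFunLike.coe_injective
  have : Fintype (genRing T) := Fintype.ofFinite _
  classical
  set P : (genRing T)[X] := X ^ (q ^ e) - X with hP
  have hQ : 1 < q ^ e := Nat.one_lt_pow he hq.out.one_lt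
  have hdeg : P.natDegree = q ^ e := by
    rw [hP, natDegree_sub_eq_left_of_natDegree_lt] <;> simp
    exact hQ
  have hP0 : P ≠ 0 := by
    intro h; rw [h] at hdeg; simp at hdeg; omega
  have hroots : ∀ f : genRing T, f ∈ P.roots := by
    intro f
    rw [mem_roots hP0, IsRoot.def, hP]
    simp [pow_eq_self_of_mem T hqV e hT f]
  calc Nat.card (genRing T) = Fintype.card (genRing T) := Nat.card_eq_fintype_card
    _ = (Finset.univ : Finset (genRing T)).card := rfl
    _ ≤ P.roots.toFinset.card :=
        Finset.card_le_card (fun f _ => Multiset.mem_toFinset.2 (hroots f))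
    _ ≤ P.roots.card := Multiset.toFinset_card_le _
    _ ≤ P.natDegree := card_roots' P
    _ = q ^ e := hdeg

lemma card_le_card_genRing [Nontrivial V] [Finite V] : Nat.card V ≤ Nat.card (genRing T) := by
  obtain ⟨v, hv⟩ := exists_ne (0 : V)
  have : Finite (AddMonoid.End V) :=
    Finite.of_injective (fun f => (f : V → V)) DFunLike.coe_injective
  let W : AddSubgroup V :=
    { carrier := {w | ∃ f : genRing T, (f : AddMonoid.End V) v = w}
      zero_mem' := ⟨0, rfl⟩
      add_mem' := by
        rintro _ _ ⟨f, rfl⟩ ⟨g, rfl⟩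
        exact ⟨f + g, rfl⟩
      neg_mem' := by
        rintro _ ⟨f, rfl⟩
        exact ⟨-f, rfl⟩ }
  have hW : ∀ w ∈ W, T w ∈ W := by
    rintro _ ⟨f, rfl⟩
    exact ⟨⟨T, T_mem T⟩ * f, rfl⟩
  have hvW : v ∈ W := ⟨1, rfl⟩
  have hWtop : W = ⊤ := (hirr W hW).resolve_left (fun h => hv (by
    rw [h] at hvW; simpa using hvW))
  have hsurj : Function.Surjective (fun f : genRing T => (f : AddMonoid.End V) v) := by
    intro w
    have : w ∈ W := by rw [hWtop]; trivial
    exact this
  exact Nat.card_le_card_of_surjective _ hsurj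

/-- **Main abstract lemma.**  If `T` is an additive automorphism of prime order `p` of a finite
abelian group `V` of prime exponent `q ≠ p`, acting irreducibly and nontrivially, then
`|V| = q ^ e` with `e` the multiplicative order of `q` modulo `p`. -/
theorem card_eq_of_irreducible [Finite V] [Nontrivial V] {p q : ℕ} [hp : Fact p.Prime]
    [hq : Fact q.Prime] (hpq : q ≠ p) (hqV : ∀ v : V, q • v = 0) (hT : T ^ p = 1) (hT1 : T ≠ 1) :
    Nat.card V = q ^ orderOf (q : ZMod p) := by
  classical
  set e := orderOf (q : ZMod p) with he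
  have hq0 : (q : ZMod p) ≠ 0 := by
    rw [Ne, ZMod.natCast_eq_zero_iff]
    intro h
    exact hpq ((Nat.prime_dvd_prime_iff_eq hp.out hq.out).1 h).symm
  have he0 : e ≠ 0 := by
    rw [he]
    apply (orderOf_pos_iff.2 _).ne'
    exact isOfFinOrder_iff_pow_eq_one.2 ⟨p - 1, by have := hp.out.two_le; omega,
      ZMod.pow_card_sub_one_eq_one hq0⟩
  have hqe : (q : ZMod p) ^ e = 1 := pow_orderOf_eq_one _
  -- `p ∣ q ^ e - 1`
  have hdvd : p ∣ q ^ e - 1 := by
    rw [← ZMod.natCast_eq_zero_iff, Nat.cast_sub (Nat.one_le_pow _ _ hq.out.pos), Nat.cast_pow,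
      Nat.cast_one, hqe, sub_self]
  obtain ⟨t, ht⟩ := hdvd
  have hQ : q ^ e = 1 + p * t := by
    have := Nat.one_le_pow e q hq.out.pos
    omega
  have hTQ : T ^ (q ^ e) = T := by
    rw [hQ, pow_add, pow_one, pow_mul, hT, one_pow, mul_one]
  have hle : Nat.card V ≤ q ^ e :=
    (card_le_card_genRing T hirr).trans (card_genRing_le T hirr hqV e he0 hTQ)
  -- fixed points
  have hsub : T - 1 ∈ genRing T := sub_mem (T_mem T) (one_mem _)
  have hinj := injective_of_mem T hirr hsub (sub_ne_zero.2 hT1)
  let φ : AddMonoid.End V →* Function.End V :=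
    { toFun := fun f => (f : V → V), map_one' := rfl, map_mul' := fun _ _ => rfl }
  have hφ : (φ T) ^ p ^ 1 = 1 := by rw [pow_one, ← map_pow, hT, map_one]
  have : Fintype V := Fintype.ofFinite V
  have hmod := Equiv.Perm.card_fixedPoints_modEq (f := φ T) (p := p) (n := 1) hφ
  have hfix : Function.fixedPoints (φ T) = {0} := by
    ext v
    constructor
    · intro h
      have h' : T v = v := h
      rw [Set.mem_singleton_iff]
      apply hinj
      rw [map_zero]
      change T v - v = 0
      rw [h', sub_self]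
    · intro h
      rw [Set.mem_singleton_iff] at h
      subst h
      exact (map_zero T : T 0 = 0)
  rw [← Nat.card_eq_fintype_card, ← Nat.card_eq_fintype_card, hfix] at hmod
  have hone : Nat.card ↑({0} : Set V) = 1 := by simp
  rw [hone] at hmod
  -- `|V| = q ^ k`
  have hpg : IsPGroup q (Multiplicative V) := by
    intro g
    refine ⟨1, ?_⟩
    rw [pow_one]
    exact congrArg Multiplicative.ofAdd (hqV (Multiplicative.toAdd g))
  obtain ⟨k, hk⟩ := (IsPGroup.iff_card (G := Multiplicative V)).1 hpg
  have hk' : Nat.card V = q ^ k := by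
    rw [← hk]; exact Nat.card_congr Multiplicative.ofAdd
  have hk0 : k ≠ 0 := by
    intro h0
    rw [h0, pow_zero] at hk'
    have : 1 < Nat.card V := Finite.one_lt_card
    omega
  have hek : e ∣ k := by
    rw [he]
    apply orderOf_dvd_of_pow_eq_one
    have := (ZMod.natCast_eq_natCast_iff _ _ _).2 hmod
    rw [hk'] at this
    simpa using this
  have hek' : e ≤ k := Nat.le_of_dvd (Nat.pos_of_ne_zero hk0) hek
  have : q ^ e ≤ q ^ k := Nat.pow_le_pow_right hq.out.pos hek'
  omega

end abstract

section group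

variable {G : Type*} [Group G] {p q : ℕ} (A : Subgroup G)

lemma not_mem_of_orderOf (hp : p.Prime) (hq : q.Prime) (hpq : q ≠ p)
    (hexp : ∀ a ∈ A, a ^ q = 1) {y : G} (hy : orderOf y = p) : y ∉ A := by
  intro hyA
  have h1 : orderOf y ∣ q := orderOf_dvd_of_pow_eq_one (hexp y hyA)
  rw [hy] at h1
  exact hpq ((Nat.prime_dvd_prime_iff_eq hp hq).1 h1).symm

lemma sup_zpowers_eq_top (hp : p.Prime) (hidx : A.index = p) {y : G} (hy : y ∉ A) :
    A ⊔ Subgroup.zpowers y = ⊤ := by
  have hle : A ≤ A ⊔ Subgroup.zpowers y := le_sup_left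
  have h1 := Subgroup.relIndex_mul_index hle
  rw [hidx] at h1
  have h2 : (A ⊔ Subgroup.zpowers y).index ∣ p := ⟨_, by rw [← h1, mul_comm]⟩
  rcases (Nat.dvd_prime hp).1 h2 with h | h
  · exact Subgroup.index_eq_one.1 h
  · exfalso
    rw [h] at h1
    have h3 : A.relIndex (A ⊔ Subgroup.zpowers y) = 1 := by
      have := hp.pos
      nlinarith
    have h4 := Subgroup.relIndex_eq_one.1 h3
    exact hy (h4 (Subgroup.mem_sup_right (Subgroup.mem_zpowers y)))

variable [Finite G]

lemma normal_of_invariant [hA : A.Normal] (hcomm : ∀ a ∈ A, ∀ b ∈ A, a * b = b * a)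
    {y : G} (hy : A ⊔ Subgroup.zpowers y = ⊤) (B : Subgroup G) (hBA : B ≤ A)
    (hinv : ∀ b ∈ B, y * b * y⁻¹ ∈ B) : B.Normal := by
  rw [← Subgroup.normalizer_eq_top_iff, eq_top_iff, ← hy, sup_le_iff]
  constructor
  · intro a ha
    rw [Subgroup.mem_normalizer_iff]
    intro h
    constructor
    · intro hh
      have : a * h * a⁻¹ = h := by rw [hcomm a ha h (hBA hh), mul_inv_cancel_right]
      rwa [this]
    · intro hh
      have h1 : a * h * a⁻¹ ∈ A := hBA hh
      have h2 : h ∈ A := by
        have := hA.conj_mem _ h1 a⁻¹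
        simpa [mul_assoc] using this
      have : a * h * a⁻¹ = h := by rw [hcomm a ha h h2, mul_inv_cancel_right]
      rwa [this] at hh
  · rw [Subgroup.zpowers_le, Subgroup.mem_normalizer_iff]
    intro h
    refine ⟨hinv h, fun hh => ?_⟩
    -- conjugation is injective, hence surjective on the finite set `B`
    let c : B → B := fun b => ⟨y * b * y⁻¹, hinv b b.2⟩
    have hc : Function.Injective c := by
      intro b b' hbb
      have : y * b * y⁻¹ = y * b' * y⁻¹ := congrArg Subtype.val hbb
      exact Subtype.ext (by simpa using this)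
    obtain ⟨b, hb⟩ := (Finite.injective_iff_surjective.1 hc) ⟨_, hh⟩
    have : y * b * y⁻¹ = y * h * y⁻¹ := congrArg Subtype.val hb
    have : (b : G) = h := by simpa using this
    rw [← this]; exact b.2

omit [Finite G] in
lemma comm_of_centralizes (hcomm : ∀ a ∈ A, ∀ b ∈ A, a * b = b * a)
    {y : G} (hy : A ⊔ Subgroup.zpowers y = ⊤) (hc : ∀ a ∈ A, y * a = a * y) :
    ∀ g h : G, g * h = h * g := by
  have hyc : y ∈ Subgroup.center G := by
    have : A ⊔ Subgroup.zpowers y ≤ Subgroup.centralizer {y} := by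
      rw [sup_le_iff]
      constructor
      · intro a ha
        rw [Subgroup.mem_centralizer_iff]
        rintro _ rfl
        exact hc a ha
      · rw [Subgroup.zpowers_le, Subgroup.mem_centralizer_iff]
        rintro _ rfl
        rfl
    rw [hy] at this
    rw [Subgroup.mem_center_iff]
    intro g
    have := Subgroup.mem_centralizer_iff.1 (this (Subgroup.mem_top g)) y rfl
    exact this.symm
  have hAc : A ≤ Subgroup.center G := by
    intro a ha
    have : A ⊔ Subgroup.zpowers y ≤ Subgroup.centralizer {a} := by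
      rw [sup_le_iff]
      constructor
      · intro b hb
        rw [Subgroup.mem_centralizer_iff]
        intro h hh
        rw [Set.mem_singleton_iff.1 hh]
        exact hcomm a ha b hb
      · rw [Subgroup.zpowers_le, Subgroup.mem_centralizer_iff]
        intro h hh
        rw [Set.mem_singleton_iff.1 hh]
        exact (hc a ha).symm
    rw [hy] at this
    rw [Subgroup.mem_center_iff]
    intro g
    have := Subgroup.mem_centralizer_iff.1 (this (Subgroup.mem_top g)) a rfl
    exact this.symm
  have htop : Subgroup.center G = ⊤ := by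
    rw [eq_top_iff, ← hy, sup_le_iff]
    exact ⟨hAc, by rw [Subgroup.zpowers_le]; exact hyc⟩
  intro g h
  have : h ∈ Subgroup.center G := by rw [htop]; trivial
  exact Subgroup.mem_center_iff.1 this g


/-- the monoid hom from `MulAut A` to the additive endomorphisms of `Additive A` -/
def toEndAdd (A : Type*) [CommGroup A] : MulAut A →* AddMonoid.End (Additive A) where
  toFun σ := MonoidHom.toAdditive σ.toMonoidHom
  map_one' := rfl
  map_mul' _ _ := rfl

lemma toEndAdd_apply {A : Type*} [CommGroup A] (σ : MulAut A) (a : A) :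
    toEndAdd A σ (Additive.ofMul a) = Additive.ofMul (σ a) := rfl

theorem card_eq [hp : Fact p.Prime] (hq : q.Prime) (hpq : q ≠ p) [hA : A.Normal]
    (hcomm : ∀ a ∈ A, ∀ b ∈ A, a * b = b * a) (hexp : ∀ a ∈ A, a ^ q = 1)
    (hidx : A.index = p)
    (hmin : ∀ B : Subgroup G, B.Normal → B ≤ A → B = ⊥ ∨ B = A)
    (hna : ∃ g h : G, g * h ≠ h * g) :
    Nat.card A = q ^ orderOf (q : ZMod p) := by
  have : Fact q.Prime := ⟨hq⟩
  let _ : CommGroup A :=
    { (inferInstance : Group A) with
      mul_comm := fun a b => Subtype.ext (hcomm a a.2 b b.2) }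
  have hcardG : Nat.card A * p = Nat.card G := by rw [← hidx]; exact A.card_mul_index
  obtain ⟨x, hx⟩ := exists_prime_orderOf_dvd_card' (G := G) p ⟨_, hcardG.symm.trans (mul_comm _ _)⟩
  have hxA := not_mem_of_orderOf A hp.out hq hpq hexp hx
  have htop := sup_zpowers_eq_top A hp.out hidx hxA
  set T : AddMonoid.End (Additive A) := toEndAdd A (MulAut.conjNormal x) with hTdef
  have hT : T ^ p = 1 := by
    rw [hTdef, ← map_pow, ← map_pow, ← hx, pow_orderOf_eq_one, map_one, map_one]
  have hT1 : T ≠ 1 := by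
    intro h1
    obtain ⟨g, h, hgh⟩ := hna
    apply hgh
    apply comm_of_centralizes A hcomm htop
    intro a ha
    have := DFunLike.congr_fun h1 (Additive.ofMul (⟨a, ha⟩ : A))
    rw [hTdef, toEndAdd_apply] at this
    have h2 : MulAut.conjNormal x (⟨a, ha⟩ : A) = ⟨a, ha⟩ := Additive.ofMul.injective this
    have h3 := congrArg Subtype.val h2
    rw [MulAut.conjNormal_apply] at h3
    calc x * a = x * a * x⁻¹ * x := by group
      _ = a * x := by rw [h3]
  have hirr : ∀ W : AddSubgroup (Additive A), (∀ w ∈ W, T w ∈ W) → W = ⊥ ∨ W = ⊤ := by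
    intro W hW
    set B : Subgroup G := (AddSubgroup.toSubgroup' W).map A.subtype with hB
    have hBA : B ≤ A := Subgroup.map_subtype_le _
    have hinv : ∀ b ∈ B, x * b * x⁻¹ ∈ B := by
      rintro _ ⟨a, ha, rfl⟩
      refine ⟨MulAut.conjNormal x a, ?_, by simp [MulAut.conjNormal_apply]⟩
      have h1 : Additive.ofMul a ∈ W := ha
      exact hW _ h1
    have hBn := normal_of_invariant A hcomm htop B hBA hinv
    rcases hmin B hBn hBA with h | h
    · left
      rw [hB, Subgroup.map_eq_bot_iff_of_injective _ A.subtype_injective] at h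
      have : AddSubgroup.toSubgroup' W = AddSubgroup.toSubgroup' ⊥ := by rw [h]; rfl
      exact AddSubgroup.toSubgroup'.injective this
    · right
      have h1 : (AddSubgroup.toSubgroup' W).map A.subtype = (⊤ : Subgroup A).map A.subtype := by
        rw [← hB, h, ← MonoidHom.range_eq_map, Subgroup.range_subtype]
      have h2 := Subgroup.map_injective A.subtype_injective h1
      have : AddSubgroup.toSubgroup' W = AddSubgroup.toSubgroup' ⊤ := by rw [h2]; rfl
      exact AddSubgroup.toSubgroup'.injective this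
  have hnt : Nontrivial (Additive A) := by
    by_contra hnt
    rw [not_nontrivial_iff_subsingleton] at hnt
    have hA1 : Nat.card A = 1 := by
      have : Subsingleton A := ⟨fun a b => Additive.ofMul.injective (Subsingleton.elim _ _)⟩
      exact Nat.card_unique
    rw [hA1, one_mul] at hcardG
    have := isCyclic_of_prime_card hcardG.symm
    obtain ⟨g, h, hgh⟩ := hna
    exact hgh (IsCyclic.commGroup.mul_comm g h)
  have hqV : ∀ v : Additive A, q • v = 0 := by
    intro v
    have : (Additive.toMul v) ^ q = 1 := Subtype.ext (hexp _ (Additive.toMul v).2)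
    exact congrArg Additive.ofMul this
  have := card_eq_of_irreducible T hirr hpq hqV hT hT1
  rw [← this]
  exact Nat.card_congr Additive.ofMul

omit [Finite G] in
/-- an element of order `p` does not centralize `A` -/
lemma exists_not_commute (hp : p.Prime) (hq : q.Prime) (hpq : q ≠ p)
    (hcomm : ∀ a ∈ A, ∀ b ∈ A, a * b = b * a) (hexp : ∀ a ∈ A, a ^ q = 1)
    (hidx : A.index = p) (hna : ∃ g h : G, g * h ≠ h * g) {y : G} (hy : orderOf y = p) :
    ¬ ∀ a ∈ A, y * a = a * y := by
  intro hc
  obtain ⟨g, h, hgh⟩ := hna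
  exact hgh (comm_of_centralizes A hcomm
    (sup_zpowers_eq_top A hp hidx (not_mem_of_orderOf A hp hq hpq hexp hy)) hc g h)

omit [Finite G] in
lemma isPGroup_A (hexp : ∀ a ∈ A, a ^ q = 1) : IsPGroup q A := by
  intro a
  exact ⟨1, by rw [pow_one]; exact Subtype.ext (hexp a a.2)⟩

omit [Finite G] in
lemma card_dvd_of_inf_eq_bot [hA : A.Normal] (hidx : A.index = p) (H : Subgroup G)
    (hH : H ⊓ A = ⊥) : Nat.card H ∣ p := by
  have hinj : Function.Injective ((QuotientGroup.mk' A).comp H.subtype) := by
    rw [injective_iff_map_eq_one]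
    intro h hh
    have h1 : (h : G) ∈ A := by
      rw [← QuotientGroup.ker_mk' A, MonoidHom.mem_ker]; exact hh
    have h2 : (h : G) ∈ H ⊓ A := ⟨h.2, h1⟩
    rw [hH, Subgroup.mem_bot] at h2
    exact Subtype.ext h2
  have := Subgroup.card_dvd_of_injective _ hinj
  rwa [← Subgroup.index_eq_card, hidx] at this

omit [Finite G] in
lemma sylow_normal_of_card_dvd {H : Type*} [Group H] (hp : p.Prime) (hH : Nat.card H ∣ p)
    (P : Sylow p H) : (P : Subgroup H).Normal := by
  have hpg : IsPGroup p H := by
    rcases (Nat.dvd_prime hp).1 hH with h | h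
    · exact IsPGroup.of_card (n := 0) (by rw [h, pow_zero])
    · exact IsPGroup.of_card (n := 1) (by rw [h, pow_one])
  have : (⊤ : Subgroup H) = P := P.is_maximal' (hpg.to_subgroup ⊤) le_top
  rw [← this]
  infer_instance

theorem not_pClosed [hp : Fact p.Prime] (hq : q.Prime) (hpq : q ≠ p) [hA : A.Normal]
    (hcomm : ∀ a ∈ A, ∀ b ∈ A, a * b = b * a) (hexp : ∀ a ∈ A, a ^ q = 1)
    (hidx : A.index = p) (hna : ∃ g h : G, g * h ≠ h * g) :
    ¬ ∀ P : Sylow p G, (P : Subgroup G).Normal := by
  intro hall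
  have : Fact q.Prime := ⟨hq⟩
  have hcardG : Nat.card A * p = Nat.card G := by rw [← hidx]; exact A.card_mul_index
  obtain ⟨x, hx⟩ := exists_prime_orderOf_dvd_card' (G := G) p ⟨_, hcardG.symm.trans (mul_comm _ _)⟩
  have hzp : IsPGroup p (Subgroup.zpowers x) :=
    IsPGroup.of_card (n := 1) (by rw [Nat.card_zpowers, hx, pow_one])
  obtain ⟨P, hP⟩ := hzp.exists_le_sylow
  have hdis : Disjoint (P : Subgroup G) A :=
    IsPGroup.disjoint_of_ne p q hpq.symm _ _ P.2 (isPGroup_A A hexp)
  apply exists_not_commute A hp.out hq hpq hcomm hexp hidx hna hx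
  intro a ha
  exact Subgroup.commute_of_normal_of_disjoint _ _ (hall P) hA hdis x a
    (hP (Subgroup.mem_zpowers x)) ha

theorem sub_pClosed [hp : Fact p.Prime] (hq : q.Prime) (hpq : q ≠ p) [hA : A.Normal]
    (hcomm : ∀ a ∈ A, ∀ b ∈ A, a * b = b * a) (hexp : ∀ a ∈ A, a ^ q = 1)
    (hidx : A.index = p)
    (hmin : ∀ B : Subgroup G, B.Normal → B ≤ A → B = ⊥ ∨ B = A)
    (H : Subgroup G) (hH : H ≠ ⊤) (P : Sylow p H) : (P : Subgroup H).Normal := by
  by_cases hpH : p ∣ Nat.card H
  · obtain ⟨y, hy⟩ := exists_prime_orderOf_dvd_card' (G := H) p hpH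
    have hy' : orderOf (y : G) = p := by rw [Subgroup.orderOf_coe, hy]
    have hyA := not_mem_of_orderOf A hp.out hq hpq hexp hy'
    have htop := sup_zpowers_eq_top A hp.out hidx hyA
    have hinv : ∀ b ∈ H ⊓ A, (y : G) * b * (y : G)⁻¹ ∈ H ⊓ A := by
      intro b hb
      exact ⟨H.mul_mem (H.mul_mem y.2 hb.1) (H.inv_mem y.2), hA.conj_mem b hb.2 y⟩
    have hn := normal_of_invariant A hcomm htop (H ⊓ A) inf_le_right hinv
    rcases hmin _ hn inf_le_right with h | h
    · exact sylow_normal_of_card_dvd hp.out (card_dvd_of_inf_eq_bot A hidx H h) P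
    · exfalso
      apply hH
      rw [eq_top_iff, ← htop, sup_le_iff, Subgroup.zpowers_le]
      exact ⟨inf_eq_right.1 h, y.2⟩
  · obtain ⟨k, hk⟩ := (IsPGroup.iff_card.1 P.2)
    have hk0 : k = 0 := by
      by_contra hk0
      apply hpH
      have h1 : p ∣ Nat.card (P : Subgroup H) := by
        rw [hk]; exact dvd_pow_self p hk0
      exact h1.trans (Subgroup.card_subgroup_dvd_card _)
    rw [hk0, pow_zero] at hk
    rw [Subgroup.eq_bot_of_card_eq _ hk]
    infer_instance

theorem quot_pClosed [hp : Fact p.Prime] (hq : q.Prime) (hpq : q ≠ p) [hA : A.Normal]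
    (hcomm : ∀ a ∈ A, ∀ b ∈ A, a * b = b * a) (hexp : ∀ a ∈ A, a ^ q = 1)
    (hidx : A.index = p)
    (hmin : ∀ B : Subgroup G, B.Normal → B ≤ A → B = ⊥ ∨ B = A)
    (hna : ∃ g h : G, g * h ≠ h * g)
    (N : Subgroup G) [hN : N.Normal] (hN1 : N ≠ ⊥) (P : Sylow p (G ⧸ N)) :
    (P : Subgroup (G ⧸ N)).Normal := by
  rcases hmin (N ⊓ A) (Subgroup.normal_inf_normal N A) inf_le_right with h | h
  · exfalso
    have hd := card_dvd_of_inf_eq_bot A hidx N h
    have hcard : Nat.card N = p := by
      rcases (Nat.dvd_prime hp.out).1 hd with h1 | h1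
      · exact absurd (Subgroup.eq_bot_of_card_eq _ h1) hN1
      · exact h1
    obtain ⟨y, hy⟩ := exists_prime_orderOf_dvd_card' (G := N) p (by rw [hcard])
    have hy' : orderOf (y : G) = p := by rw [Subgroup.orderOf_coe, hy]
    apply exists_not_commute A hp.out hq hpq hcomm hexp hidx hna hy'
    intro a ha
    exact Subgroup.commute_of_normal_of_disjoint _ _ hN hA (disjoint_iff.2 h) y a y.2 ha
  · have hAN : A ≤ N := inf_eq_right.1 h
    have : Nat.card (G ⧸ N) ∣ p := by
      rw [← Subgroup.index_eq_card, ← hidx]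
      exact Subgroup.index_dvd_of_le hAN
    exact sylow_normal_of_card_dvd hp.out this P

end group

end Cfsg.Agent.Lib.Helper19.IrredCyclic
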