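import Mathlib
import Cfsg.Agent.Lib.Helper9.Sharp2Kernel

set_option autoImplicit false

namespace Cfsg.Agent.Lib.Helper19.Sharp2Even

open Cfsg.Agent.Lib.Helper9

variable {K X : Type*} [Group K] [MulAction K X]

theorem card_eq_two_pow [Finite X] (h : Sharp2 K X) (heven : Even (Nat.card X))
    (h2 : 2 ≤ Nat.card X) : ∃ a : ℕ, 1 ≤ a ∧ Nat.card X = 2 ^ a := by
  classical
  have : Fact (Nat.Prime 2) := ⟨Nat.prime_two⟩
  haveI : Fintype X := Fintype.ofFinite X
  obtain ⟨a, b, hab⟩ : ∃ a b : X, a ≠ b := by
    have : 1 < Fintype.card X := by rw [← Nat.card_eq_fintype_card]; omega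
    exact Fintype.exists_pair_of_one_lt_card this
  have : Nonempty X := ⟨a⟩
  have := h.finite_group hab
  have := h.pretransitive hab
  have hfix : ∀ k : K, k ≠ 1 → ∀ x y : X, k • x = x → k • y = y → x = y := by
    intro k hk x y hx hy
    by_contra hxy
    exact hk (h.uniq hxy hx hy)
  have hT := Cfsg.Agent.Lib.Helper5.frobenius_kernel_count (K := K) (X := X) hfix
  set T : Set K := {k : K | k = 1 ∨ ∀ x : X, k • x ≠ x} with hTdef
  -- swap elements
  have hswap : ∀ x y : X, x ≠ y → ∃ t : K, t • x = y ∧ t • y = x := fun x y hxy =>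
    h.ex hxy hxy.symm
  have hswap_inv : ∀ (t : K) (x y : X), x ≠ y → t • x = y → t • y = x → t * t = 1 := by
    intro t x y hxy h1 h2
    apply h.uniq hxy
    · rw [mul_smul, h1, h2]
    · rw [mul_smul, h2, h1]
  have hswap_der : ∀ (t : K) (x y : X), x ≠ y → t • x = y → t • y = x → ∀ z : X, t • z ≠ z := by
    intro t x y hxy h1 h2 z hz
    have ht1 : t ≠ 1 := by
      rintro rfl
      rw [one_smul] at h1
      exact hxy h1
    have htt := hswap_inv t x y hxy h1 h2
    have hZ : IsPGroup 2 (Subgroup.zpowers t) := by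
      intro g
      obtain ⟨i, hi⟩ := Subgroup.mem_zpowers_iff.mp g.2
      refine ⟨1, ?_⟩
      apply Subtype.ext
      rw [pow_one, Subgroup.coe_pow, ← hi, sq, ← zpow_add, ← two_mul, zpow_mul, zpow_two, htt,
        one_zpow]
      rfl
    have hmod := hZ.card_modEq_card_fixedPoints X
    have hfp : MulAction.fixedPoints (Subgroup.zpowers t) X = {z} := by
      ext w
      simp only [MulAction.mem_fixedPoints, Set.mem_singleton_iff]
      constructor
      · intro hw
        have hw' : t • w = w := hw ⟨t, Subgroup.mem_zpowers t⟩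
        exact (hfix t ht1 z w hz hw').symm
      · rintro rfl ⟨m, hm⟩
        obtain ⟨i, rfl⟩ := Subgroup.mem_zpowers_iff.mp hm
        show (t ^ i) • w = w
        have hmem : t ∈ MulAction.stabilizer K w := hz
        exact MulAction.mem_stabilizer_iff.mp (Subgroup.zpow_mem _ hmem i)
    rw [hfp] at hmod
    have h1' : Nat.card ({z} : Set X) = 1 := by simp
    rw [h1'] at hmod
    obtain ⟨j, hj⟩ := heven
    rw [hj] at hmod
    unfold Nat.ModEq at hmod
    omega
  -- the map φ
  let φ : X → K := fun y => if hy : a = y then 1 else (hswap a y hy).choose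
  have hφa : ∀ y, φ y • a = y := by
    intro y
    by_cases hy : a = y
    · simp only [φ, dif_pos hy, one_smul]; exact hy
    · simp only [φ, dif_neg hy]
      exact (hswap a y hy).choose_spec.1
  have hφT : ∀ y, φ y ∈ T := by
    intro y
    by_cases hy : a = y
    · left; simp only [φ, dif_pos hy]
    · right
      simp only [φ, dif_neg hy]
      exact hswap_der _ a y hy (hswap a y hy).choose_spec.1 (hswap a y hy).choose_spec.2
  have hφsq : ∀ y, φ y * φ y = 1 := by
    intro y
    by_cases hy : a = y
    · simp only [φ, dif_pos hy, one_mul]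
    · simp only [φ, dif_neg hy]
      exact hswap_inv _ a y hy (hswap a y hy).choose_spec.1 (hswap a y hy).choose_spec.2
  have hφinj : Function.Injective φ := by
    intro y y' e
    rw [← hφa y, ← hφa y', e]
  have hrange : Set.range φ = T := by
    apply Set.eq_of_subset_of_ncard_le
    · rintro _ ⟨y, rfl⟩; exact hφT y
    · rw [hT, Set.ncard_range_of_injective hφinj]
    · exact Set.toFinite T
  have hTsq : ∀ k ∈ T, k * k = 1 := by
    intro k hk
    rw [← hrange] at hk
    obtain ⟨y, rfl⟩ := hk
    exact hφsq y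
  have hTinv : ∀ k ∈ T, k⁻¹ = k := fun k hk => (eq_inv_of_mul_eq_one_left (hTsq k hk)).symm
  have hTmul : ∀ k ∈ T, ∀ l ∈ T, k * l ∈ T := by
    intro k hk l hl
    by_cases hkl : k * l = 1
    · left; exact hkl
    right
    intro x hx
    rcases hk with rfl | hkd
    · rw [one_mul] at hx hkl
      rcases hl with rfl | hld
      · exact hkl rfl
      · exact hld x hx
    rcases hl with rfl | hld
    · rw [mul_one] at hx
      exact hkd x hx
    -- both derangements
    have hk2 := hTsq k (Or.inr hkd)
    have hl2 := hTsq l (Or.inr hld)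
    have hlx : l • x = k • x := by
      have : k • (k • (l • x)) = l • x := by rw [← mul_smul, hk2, one_smul]
      rw [← this, ← mul_smul k l, hx]
    have hy : (k * l) • (k • x) = k • x := by
      rw [mul_smul, ← hlx, ← mul_smul l l, hl2, one_smul, hlx]
    exact hkd x (hfix (k * l) hkl _ _ hy hx)
  let N : Subgroup K :=
    { carrier := T
      mul_mem' := fun {k l} hk hl => hTmul k hk l hl
      one_mem' := Or.inl rfl
      inv_mem' := fun {k} hk => by rw [hTinv k hk]; exact hk }
  have hNcard : Nat.card N = Nat.card X := by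
    rw [← hT]
    exact (Nat.card_coe_set_eq T)
  have hNp : IsPGroup 2 N := by
    intro g
    refine ⟨1, ?_⟩
    apply Subtype.ext
    rw [pow_one, sq]
    exact hTsq g.1 g.2
  obtain ⟨e, he⟩ := (IsPGroup.iff_card).1 hNp
  refine ⟨e, ?_, by rw [← hNcard, he]⟩
  by_contra hlt
  have : e = 0 := by omega
  rw [this, pow_zero, hNcard] at he
  omega

/-- `PSL(2, F) ≃* SL(2, F)` for a field of characteristic 2. -/
noncomputable def pslEquivSl {F : Type*} [Field F] [CharP F 2] :
    Matrix.ProjectiveSpecialLinearGroup (Fin 2) F ≃* Matrix.SpecialLinearGroup (Fin 2) F :=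
  have hbot : Subgroup.center (Matrix.SpecialLinearGroup (Fin 2) F) = ⊥ := by
    haveI : Fact (Nat.Prime 2) := ⟨Nat.prime_two⟩
    rw [eq_bot_iff]
    intro A hA
    rw [Matrix.SpecialLinearGroup.mem_center_iff] at hA
    obtain ⟨r, hr, hA⟩ := hA
    rw [Fintype.card_fin] at hr
    have hr1 : r = 1 := by
      apply frobenius_inj F 2
      rw [frobenius_def, frobenius_def, hr, one_pow]
    rw [Subgroup.mem_bot]
    apply Subtype.ext
    rw [← hA, hr1]
    simp
  (QuotientGroup.quotientMulEquivOfEq hbot).trans QuotientGroup.quotientBot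

theorem charP_two_of_card {F : Type*} [Field F] [Fintype F] {a : ℕ}
    (hF : Fintype.card F = 2 ^ a) : CharP F 2 := by
  have hc : (ringChar F).Prime := CharP.char_is_prime F (ringChar F)
  haveI : Fact (ringChar F).Prime := ⟨hc⟩
  obtain ⟨n, hn, hcard⟩ := FiniteField.card F (ringChar F)
  rw [hF] at hcard
  have hdvd : ringChar F ∣ 2 ^ a := by
    rw [hcard]
    exact dvd_pow_self _ (by exact_mod_cast n.ne_zero)
  have h2 : ringChar F = 2 :=
    (Nat.prime_dvd_prime_iff_eq hc Nat.prime_two).1 (hc.dvd_of_dvd_pow hdvd)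
  have := ringChar.charP F
  rwa [h2] at this

end Cfsg.Agent.Lib.Helper19.Sharp2Even
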