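/-
helper19: S2264 + S2265 (planner helper10) leaf (P2) `selfMirror_irreducible`: a self-reciprocal
irreducible polynomial over a finite field without the roots `0, 1, -1` has even degree `2k` and
divides `X^(q^k+1) - 1`.  Mathlib only.
-/
import Mathlib

set_option autoImplicit false

namespace Cfsg.Agent.Lib.Helper19.EOrdP2

open Polynomial

variable {F : Type*} [Field F] [Fintype F]

/-- arithmetic: `d ∣ 2 * i`, `¬ d ∣ i` gives `d = 2 * k`, `i = k + d * j`. -/
theorem exists_half {d i : ℕ} (h : d ∣ 2 * i) (hn : ¬ d ∣ i) :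
    ∃ k j, d = 2 * k ∧ i = k + d * j := by
  obtain ⟨c, hc⟩ := h
  rcases Nat.even_or_odd c with hce | hco
  · exfalso
    obtain ⟨c', rfl⟩ := hce
    apply hn
    refine ⟨c', ?_⟩
    have : 2 * i = 2 * (d * c') := by rw [hc]; ring
    omega
  · obtain ⟨j, rfl⟩ := hco
    have hde : Even d := by
      have h2 : Even (d * (2 * j + 1)) := ⟨i, by rw [← hc]; ring⟩
      rcases Nat.even_mul.mp h2 with h3 | h3
      · exact h3
      · exfalso
        exact (Nat.not_even_iff_odd.mpr ⟨j, rfl⟩) h3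
    obtain ⟨k, rfl⟩ := hde
    refine ⟨k, j, by ring, ?_⟩
    have : 2 * i = 2 * (k + (k + k) * j) := by rw [hc]; ring
    omega

theorem selfMirror_irreducible {f : F[X]} (hf : Irreducible f) (h0 : f.coeff 0 ≠ 0)
    (hm : Associated f.mirror f) (h1 : f.eval 1 ≠ 0) (hm1 : f.eval (-1) ≠ 0) :
    ∃ k, 1 ≤ k ∧ f.natDegree = 2 * k ∧ f ∣ X ^ (Fintype.card F ^ k + 1) - 1 := by
  classical
  haveI : Fact (Irreducible f) := ⟨hf⟩
  have hq : Nat.card F = Fintype.card F := Nat.card_eq_fintype_card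
  -- the root `α` in `K = F[X]/(f)`
  have hfin : Finite (AdjoinRoot f) := by
    haveI : Module.Finite F (AdjoinRoot f) :=
      (AdjoinRoot.powerBasis hf.ne_zero).finite
    exact Module.finite_of_finite F
  have hroot : eval₂ (AdjoinRoot.of f) (AdjoinRoot.root f) f = 0 := AdjoinRoot.eval₂_root f
  have hofinj : Function.Injective (AdjoinRoot.of f) := (AdjoinRoot.of f).injective
  -- evaluation at constants
  have heval : ∀ c : F, eval₂ (AdjoinRoot.of f) (AdjoinRoot.of f c) f = AdjoinRoot.of f (f.eval c) := by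
    intro c
    have := Polynomial.hom_eval₂ f (RingHom.id F) (AdjoinRoot.of f) c
    rw [RingHom.comp_id] at this
    rw [← this]
    rfl
  have hα0 : AdjoinRoot.root f ≠ 0 := by
    intro hz
    have h2 := heval 0
    rw [map_zero, ← hz, hroot] at h2
    have h3 : f.eval 0 = 0 := hofinj (by rw [← h2, map_zero])
    rw [← Polynomial.coeff_zero_eq_eval_zero] at h3
    exact h0 h3
  -- `α⁻¹` is a root
  have hrev : f.mirror = f.reverse := by
    unfold Polynomial.mirror
    rw [natTrailingDegree_eq_zero.mpr (Or.inr h0), pow_zero, mul_one]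
  have hrevroot : eval₂ (AdjoinRoot.of f) (AdjoinRoot.root f) f.reverse = 0 := by
    obtain ⟨g, hg⟩ := hm.dvd'
    rw [← hrev, hg, eval₂_mul, hroot, zero_mul]
  have hinvroot : eval₂ (AdjoinRoot.of f) (AdjoinRoot.root f)⁻¹ f = 0 := by
    letI : Invertible (AdjoinRoot.root f)⁻¹ := invertibleOfNonzero (inv_ne_zero hα0)
    have h2 := eval₂_reverse_eq_zero_iff (AdjoinRoot.of f) ((AdjoinRoot.root f)⁻¹) f
    rw [invOf_eq_inv, inv_inv] at h2
    exact h2.mp hrevroot
  -- the automorphism `α ↦ α⁻¹`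
  have hinvroot' : eval₂ (↑(Algebra.ofId F (AdjoinRoot f)) : F →+* AdjoinRoot f)
      (AdjoinRoot.root f)⁻¹ f = 0 := hinvroot
  let σ₀ : AdjoinRoot f →ₐ[F] AdjoinRoot f :=
    AdjoinRoot.liftAlgHom f (Algebra.ofId F (AdjoinRoot f)) (AdjoinRoot.root f)⁻¹ hinvroot'
  have hσ₀ : σ₀ (AdjoinRoot.root f) = (AdjoinRoot.root f)⁻¹ := by
    simp [σ₀]
  have hinj : Function.Injective σ₀ := σ₀.toRingHom.injective
  let σ : AdjoinRoot f ≃ₐ[F] AdjoinRoot f :=
    AlgEquiv.ofBijective σ₀ ⟨hinj, Finite.injective_iff_surjective.mp hinj⟩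
  obtain ⟨p, hp⟩ := CharP.exists F
  haveI := hp
  haveI : Fact p.Prime := ⟨CharP.char_is_prime F p⟩
  obtain ⟨i, hi⟩ := FiniteField.exists_forall_apply_eq_pow F p (AdjoinRoot f) σ
  have hαi : (AdjoinRoot.root f) ^ (Fintype.card F ^ i) = (AdjoinRoot.root f)⁻¹ := by
    have := hi (AdjoinRoot.root f)
    rw [hq] at this
    rw [← this]
    exact hσ₀
  -- divisibility criterion in `K`
  have hdvd : ∀ g : F[X], f ∣ g ↔ eval₂ (AdjoinRoot.of f) (AdjoinRoot.root f) g = 0 := by
    intro g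
    rw [← AdjoinRoot.mk_eq_zero, ← AdjoinRoot.aeval_eq]
    rfl
  have hfrob : ∀ n : ℕ, f.natDegree ∣ n ↔
      (AdjoinRoot.root f) ^ (Fintype.card F ^ n) = AdjoinRoot.root f := by
    intro n
    rw [hf.natDegree_dvd_iff_dvd_X_pow_card_pow_sub_X, hq, hdvd, eval₂_sub, eval₂_pow, eval₂_X,
      sub_eq_zero]
  -- `d ∣ 2 i`
  have h2i : f.natDegree ∣ 2 * i := by
    rw [hfrob, two_mul, pow_add, pow_mul, hαi, inv_pow, hαi, inv_inv]
  have hni : ¬ f.natDegree ∣ i := by
    intro hdi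
    rw [hfrob, hαi] at hdi
    -- `α⁻¹ = α`, so `α = ±1`
    have hsq : (AdjoinRoot.root f - 1) * (AdjoinRoot.root f + 1) = 0 := by
      have : AdjoinRoot.root f * AdjoinRoot.root f = 1 := by
        nth_rewrite 1 [← hdi]
        exact inv_mul_cancel₀ hα0
      linear_combination this
    rcases mul_eq_zero.mp hsq with h3 | h3
    · have h4 : AdjoinRoot.root f = AdjoinRoot.of f 1 := by
        rw [map_one]; exact sub_eq_zero.mp h3
      have h5 := heval 1
      rw [← h4, hroot] at h5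
      exact h1 (hofinj (by rw [← h5, map_zero]))
    · have h4 : AdjoinRoot.root f = AdjoinRoot.of f (-1) := by
        rw [map_neg, map_one]; exact eq_neg_of_add_eq_zero_left h3
      have h5 := heval (-1)
      rw [← h4, hroot] at h5
      exact hm1 (hofinj (by rw [← h5, map_zero]))
  obtain ⟨k, j, hdk, hik⟩ := exists_half h2i hni
  have hdpos : 0 < f.natDegree := hf.natDegree_pos
  refine ⟨k, by omega, hdk, ?_⟩
  rw [hdvd, eval₂_sub, eval₂_pow, eval₂_X, eval₂_one, sub_eq_zero, pow_succ]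
  have hk : (AdjoinRoot.root f) ^ (Fintype.card F ^ k) = (AdjoinRoot.root f)⁻¹ := by
    have h6 : (AdjoinRoot.root f) ^ (Fintype.card F ^ (f.natDegree * j)) = AdjoinRoot.root f :=
      (hfrob _).mp (Dvd.intro _ rfl)
    have h7 := hαi
    rw [hik, add_comm, pow_add, pow_mul, h6] at h7
    exact h7
  rw [hk]
  exact inv_mul_cancel₀ hα0

end Cfsg.Agent.Lib.Helper19.EOrdP2
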