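/-
Helper19 library: kernel-checked certificates for the 720 encoded elements of `B₂(2)`.
-/
import Mathlib
import Cfsg.Agent.Lib.Helper19.B2Data
import Cfsg.Prelude.Def_ChevB2

set_option autoImplicit false
set_option maxRecDepth 100000

namespace Cfsg.Agent.Lib.Helper19.B2Check

open Cfsg.Agent.Lib.Helper19.B2Enc Cfsg.Agent.Lib.Helper19.B2Data Equiv Cfsg.Lie

theorem closed0 : ∀ i ∈ List.range 720,
    mulE (XE 0) (Mi i) = Mi (Tt 0 i) ∧ mulP (PX 0) (Pi i) = Pi (Tt 0 i) ∧ Tt 0 i < 720 := by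
  decide +kernel

theorem closed1 : ∀ i ∈ List.range 720,
    mulE (XE 1) (Mi i) = Mi (Tt 1 i) ∧ mulP (PX 1) (Pi i) = Pi (Tt 1 i) ∧ Tt 1 i < 720 := by
  decide +kernel

theorem closed2 : ∀ i ∈ List.range 720,
    mulE (XE 2) (Mi i) = Mi (Tt 2 i) ∧ mulP (PX 2) (Pi i) = Pi (Tt 2 i) ∧ Tt 2 i < 720 := by
  decide +kernel

theorem closed3 : ∀ i ∈ List.range 720,
    mulE (XE 3) (Mi i) = Mi (Tt 3 i) ∧ mulP (PX 3) (Pi i) = Pi (Tt 3 i) ∧ Tt 3 i < 720 := by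
  decide +kernel

theorem closed4 : ∀ i ∈ List.range 720,
    mulE (XE 4) (Mi i) = Mi (Tt 4 i) ∧ mulP (PX 4) (Pi i) = Pi (Tt 4 i) ∧ Tt 4 i < 720 := by
  decide +kernel

theorem closed5 : ∀ i ∈ List.range 720,
    mulE (XE 5) (Mi i) = Mi (Tt 5 i) ∧ mulP (PX 5) (Pi i) = Pi (Tt 5 i) ∧ Tt 5 i < 720 := by
  decide +kernel

theorem closed6 : ∀ i ∈ List.range 720,
    mulE (XE 6) (Mi i) = Mi (Tt 6 i) ∧ mulP (PX 6) (Pi i) = Pi (Tt 6 i) ∧ Tt 6 i < 720 := by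
  decide +kernel

theorem closed7 : ∀ i ∈ List.range 720,
    mulE (XE 7) (Mi i) = Mi (Tt 7 i) ∧ mulP (PX 7) (Pi i) = Pi (Tt 7 i) ∧ Tt 7 i < 720 := by
  decide +kernel

theorem closed (r i : ℕ) (hr : r < 8) (hi : i < 720) :
    mulE (XE r) (Mi i) = Mi (Tt r i) ∧ mulP (PX r) (Pi i) = Pi (Tt r i) ∧ Tt r i < 720 := by
  have hi' : i ∈ List.range 720 := List.mem_range.2 hi
  interval_cases r
  · exact closed0 i hi'
  · exact closed1 i hi'
  · exact closed2 i hi'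
  · exact closed3 i hi'
  · exact closed4 i hi'
  · exact closed5 i hi'
  · exact closed6 i hi'
  · exact closed7 i hi'

end Cfsg.Agent.Lib.Helper19.B2Check
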