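/-
Helper19 library: further kernel-checked certificates for the encoded elements of `B₂(2)`.
-/
import Mathlib
import Cfsg.Agent.Lib.Helper19.B2Data
import Cfsg.Prelude.Def_ChevB2

set_option autoImplicit false
set_option maxRecDepth 100000

namespace Cfsg.Agent.Lib.Helper19.B2Check

open Cfsg.Agent.Lib.Helper19.B2Enc Cfsg.Agent.Lib.Helper19.B2Data Equiv Cfsg.Lie

theorem Mi_zero : Mi 0 = ONE := by decide +kernel

theorem Pi_zero : Pi 0 = IDP := by decide +kernel

theorem one_iff : ∀ i ∈ List.range 720,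
    (dec (Mi i) = 1 → Pi i = IDP) ∧ ((∀ k : Fin 6, decP (Pi i) k = k) → Mi i = ONE) := by
  decide +kernel

theorem XE_sq : ∀ r ∈ List.range 8, mulE (XE r) (XE r) = ONE := by decide +kernel

theorem PX_sq : ∀ r ∈ List.range 8, mulP (PX r) (PX r) = IDP := by decide +kernel

/-- the root elements with the index type unfolded. -/
def X2 (r : Fin 8) (t : ZMod 2) : Matrix I10 I10 (ZMod 2) := chevB2.xMat (ZMod 2) r t

theorem dec_XE : ∀ r : Fin 8, dec (XE r.val) = X2 r 1 := by decide +kernel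

theorem X2_zero : ∀ r : Fin 8, X2 r 0 = 1 := by decide +kernel

theorem adj0 : ∀ k : Fin 6, decP (PX 7) k = swap (0 : Fin 6) 1 k := by decide +kernel
theorem adj1 : ∀ k : Fin 6, decP (PX 0) k = swap (1 : Fin 6) 2 k := by decide +kernel
theorem adj2 : ∀ k : Fin 6, decP (mulP (PX 1) (mulP (PX 7) (PX 1))) k = swap (2 : Fin 6) 3 k := by decide +kernel
theorem adj3 : ∀ k : Fin 6, decP (PX 4) k = swap (3 : Fin 6) 4 k := by decide +kernel
theorem adj4 : ∀ k : Fin 6, decP (PX 3) k = swap (4 : Fin 6) 5 k := by decide +kernel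

end Cfsg.Agent.Lib.Helper19.B2Check
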