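/-
Helper19 library: the adjoint Chevalley group `B₂(2)` (ten-dimensional matrices over `ZMod 2`) is isomorphic to the
symmetric group of degree six.  The isomorphism is obtained from the subgroup of the product generated by the eight
pairs (root element, permutation); its 720 elements are listed in `B2Data` and the closure is kernel-checked in
`B2Check`.
-/
import Mathlib
import Cfsg.Agent.Lib.Helper19.B2Check
import Cfsg.Agent.Lib.Helper19.B2Check2

set_option autoImplicit false

namespace Cfsg.Agent.Lib.Helper19.B2Iso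

open Cfsg.Agent.Lib.Helper19.B2Enc Cfsg.Agent.Lib.Helper19.B2Data Cfsg.Agent.Lib.Helper19.B2Check
open Equiv Cfsg.Lie

/-- the ambient general linear group. -/
abbrev GLm : Type := GL I10 (ZMod 2)

/-- the units of the self-maps of six points. -/
abbrev U6 : Type := (Function.End (Fin 6))ˣ

theorem XE_mul_self (r : Fin 8) : dec (XE r.val) * dec (XE r.val) = 1 := by
  rw [← dec_mul, XE_sq r.val (List.mem_range.2 r.isLt), dec_one]

/-- the root elements as units. -/
def XG (r : Fin 8) : GLm := ⟨dec (XE r.val), dec (XE r.val), XE_mul_self r, XE_mul_self r⟩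

/-- a self-map as an element of the monoid of self-maps. -/
def toEnd (f : Fin 6 → Fin 6) : Function.End (Fin 6) := f

theorem toEnd_mul (f g : Fin 6 → Fin 6) : toEnd f * toEnd g = toEnd (f ∘ g) := rfl

theorem toEnd_id : toEnd id = 1 := rfl

theorem PX_mul_self (r : Fin 8) : toEnd (decP (PX r.val)) * toEnd (decP (PX r.val)) = 1 := by
  rw [toEnd_mul, ← decP_mul, PX_sq r.val (List.mem_range.2 r.isLt), decP_one, toEnd_id]

/-- the permutations of the root elements as units. -/
def PU (r : Fin 8) : U6 :=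
  ⟨toEnd (decP (PX r.val)), toEnd (decP (PX r.val)), PX_mul_self r, PX_mul_self r⟩

/-- the generating pairs. -/
def gens : Set (GLm × U6) := Set.range fun r : Fin 8 => (XG r, PU r)

/-- the graph of the isomorphism. -/
def Gam : Subgroup (GLm × U6) := Subgroup.closure gens

/-- the listed pairs. -/
def S : Set (GLm × U6) := {p | ∃ i, i < 720 ∧ (p.1 : Matrix I10 I10 (ZMod 2)) = dec (Mi i) ∧
  (p.2 : Function.End (Fin 6)) = toEnd (decP (Pi i))}

theorem gen_mul_mem (r : Fin 8) {p : GLm × U6} (hp : p ∈ S) : (XG r, PU r) * p ∈ S := by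
  obtain ⟨i, hi, h1, h2⟩ := hp
  obtain ⟨c1, c2, c3⟩ := closed r.val i r.isLt hi
  refine ⟨Tt r.val i, c3, ?_, ?_⟩
  · show ((XG r * p.1 : GLm) : Matrix I10 I10 (ZMod 2)) = _
    rw [Units.val_mul, h1]
    show dec (XE r.val) * dec (Mi i) = _
    rw [← dec_mul, c1]
  · show ((PU r * p.2 : U6) : Function.End (Fin 6)) = _
    rw [Units.val_mul, h2]
    show toEnd (decP (PX r.val)) * toEnd (decP (Pi i)) = _
    rw [toEnd_mul, ← decP_mul, c2]

theorem gen_inv (r : Fin 8) : ((XG r, PU r) : GLm × U6)⁻¹ = (XG r, PU r) :=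
  Prod.ext (Units.ext rfl) (Units.ext rfl)

theorem mem_S_of_mem_Gam {p : GLm × U6} (hp : p ∈ Gam) : p ∈ S := by
  refine Subgroup.closure_induction_left (p := fun x _ => x ∈ S) ?_ ?_ ?_ hp
  · refine ⟨0, by norm_num, ?_, ?_⟩
    · rw [Mi_zero, dec_one]; rfl
    · rw [Pi_zero, decP_one]; rfl
  · rintro x ⟨r, rfl⟩ y _ hy
    exact gen_mul_mem r hy
  · rintro x ⟨r, rfl⟩ y _ hy
    rw [gen_inv]
    exact gen_mul_mem r hy

theorem snd_eq_one {p : GLm × U6} (hp : p ∈ Gam) (h : p.1 = 1) : p.2 = 1 := by
  obtain ⟨i, hi, h1, h2⟩ := mem_S_of_mem_Gam hp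
  have h3 := (one_iff i (List.mem_range.2 hi)).1 (by rw [← h1, h]; rfl)
  apply Units.ext
  rw [h2, h3, decP_one]
  rfl

theorem fst_eq_one {p : GLm × U6} (hp : p ∈ Gam) (h : p.2 = 1) : p.1 = 1 := by
  obtain ⟨i, hi, h1, h2⟩ := mem_S_of_mem_Gam hp
  have h4 : toEnd (decP (Pi i)) = 1 := by rw [← h2, h]; rfl
  have h3 := (one_iff i (List.mem_range.2 hi)).2 (fun k => congrFun h4 k)
  apply Units.ext
  rw [h1, h3, dec_one]
  rfl

/-- first projection. -/
def f1 : Gam →* GLm := (MonoidHom.fst GLm U6).comp Gam.subtype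

/-- second projection. -/
def f2 : Gam →* U6 := (MonoidHom.snd GLm U6).comp Gam.subtype

theorem f1_inj : Function.Injective f1 := by
  rw [injective_iff_map_eq_one]
  intro x hx
  apply Subtype.ext
  exact Prod.ext hx (snd_eq_one x.2 hx)

theorem f2_inj : Function.Injective f2 := by
  rw [injective_iff_map_eq_one]
  intro x hx
  apply Subtype.ext
  exact Prod.ext (fst_eq_one x.2 hx) hx

theorem f1_range : f1.range = Subgroup.closure (Set.range XG) := by
  have h : f1.range = Gam.map (MonoidHom.fst GLm U6) := by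
    rw [f1, ← MonoidHom.map_range, Subgroup.range_subtype]
  rw [h, Gam, MonoidHom.map_closure]
  congr 1
  ext g
  simp only [gens, Set.mem_image, Set.mem_range]
  constructor
  · rintro ⟨_, ⟨r, rfl⟩, rfl⟩
    exact ⟨r, rfl⟩
  · rintro ⟨r, rfl⟩
    exact ⟨_, ⟨r, rfl⟩, rfl⟩

theorem gen_mem (r : Fin 8) : ((XG r, PU r) : GLm × U6) ∈ Gam := Subgroup.subset_closure ⟨r, rfl⟩

theorem swap_mem (i : Fin 5) :
    Equiv.Perm.equivUnitsEnd (swap i.castSucc i.succ) ∈ f2.range := by
  fin_cases i
  · refine ⟨⟨_, gen_mem 7⟩, ?_⟩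
    apply Units.ext
    funext k
    exact adj0 k
  · refine ⟨⟨_, gen_mem 0⟩, ?_⟩
    apply Units.ext
    funext k
    exact adj1 k
  · refine ⟨⟨_, Gam.mul_mem (gen_mem 1) (Gam.mul_mem (gen_mem 7) (gen_mem 1))⟩, ?_⟩
    apply Units.ext
    funext k
    refine Eq.trans ?_ (adj2 k)
    rw [decP_mul, decP_mul]
    rfl
  · refine ⟨⟨_, gen_mem 4⟩, ?_⟩
    apply Units.ext
    funext k
    exact adj3 k
  · refine ⟨⟨_, gen_mem 3⟩, ?_⟩
    apply Units.ext
    funext k
    exact adj4 k

theorem f2_surj : Function.Surjective f2 := by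
  have key : ∀ σ : Perm (Fin 6), Equiv.Perm.equivUnitsEnd σ ∈ f2.range := by
    intro σ
    have hσ : σ ∈ Submonoid.closure (Set.range fun i : Fin 5 => swap i.castSucc i.succ) := by
      rw [Equiv.Perm.mclosure_swap_castSucc_succ]
      trivial
    induction hσ using Submonoid.closure_induction with
    | mem x hx =>
      obtain ⟨i, rfl⟩ := hx
      exact swap_mem i
    | one => rw [map_one]; exact one_mem _
    | mul x y _ _ hx hy => rw [map_mul]; exact mul_mem hx hy
  intro u
  obtain ⟨x, hx⟩ := key (Equiv.Perm.equivUnitsEnd.symm u)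
  exact ⟨x, by rw [hx, MulEquiv.apply_symm_apply]⟩

/-- the group generated by the root elements is the symmetric group. -/
noncomputable def isoClosure : ↥(Subgroup.closure (Set.range XG)) ≃* Perm (Fin 6) :=
  ((MulEquiv.subgroupCongr f1_range).symm.trans (MonoidHom.ofInjective f1_inj).symm).trans
    ((MulEquiv.ofBijective f2 ⟨f2_inj, f2_surj⟩).trans Equiv.Perm.equivUnitsEnd.symm)

/-- the Chevalley group over `ZMod 2` with the index type unfolded. -/
def G2 : Subgroup GLm := chevB2.group (ZMod 2)

theorem G2_eq : G2 = Subgroup.closure {g : GLm | ∃ (r : Fin 8) (t : ZMod 2),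
    (g : Matrix I10 I10 (ZMod 2)) = X2 r t} := rfl

theorem group_eq : G2 = Subgroup.closure (Set.range XG) := by
  rw [G2_eq]
  apply le_antisymm
  · rw [Subgroup.closure_le]
    rintro g ⟨r, t, hg⟩
    have ht : t = 0 ∨ t = 1 := by
      fin_cases t
      · left; rfl
      · right; rfl
    rcases ht with rfl | rfl
    · have h1 : g = 1 := Units.ext (hg.trans (X2_zero r))
      rw [h1]
      exact one_mem _
    · have h1 : g = XG r := Units.ext (hg.trans (dec_XE r).symm)
      rw [h1]
      exact Subgroup.subset_closure ⟨r, rfl⟩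
  · rw [Subgroup.closure_le]
    rintro _ ⟨r, rfl⟩
    exact Subgroup.subset_closure ⟨r, 1, dec_XE r⟩

/-- `B₂(2) ≅ S₆` over `ZMod 2`. -/
noncomputable def isoG2 : ↥G2 ≃* Perm (Fin 6) :=
  (MulEquiv.subgroupCongr group_eq).trans isoClosure

/-- `B₂(2) ≅ S₆` over `ZMod 2`. -/
noncomputable def isoZMod : ↥(chevB2.group (ZMod 2)) ≃* Perm (Fin 6) := isoG2

theorem xMat_map2 (D : ChevalleyDatum) {F K : Type*} [Field F] [Field K] (f : F →+* K)
    (r : Fin D.nroots) (t : F) : (D.xMat F r t).map f = D.xMat K r (f t) := by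
  ext row col
  unfold ChevalleyDatum.xMat
  simp only [Matrix.map_apply, Matrix.of_apply]
  rcases col with i | s
  · rcases row with i' | u
    · simp only; split_ifs <;> simp
    · simp only; split_ifs <;> simp
  · by_cases hsr : s = r
    · rcases row with i' | u
      · simp [hsr]
      · simp only [hsr, if_true]; split_ifs <;> simp
    · by_cases hneg : s.val = D.negIdx.getD r.val 0
      · rcases row with i' | u
        · simp [hsr, hneg]
        · simp only [hsr, if_false, hneg, if_true]; split_ifs <;> simp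
      · rcases row with i' | u
        · simp only [hsr, if_false, hneg]; simp
        · simp only [hsr, if_false, hneg]
          rw [map_add, map_list_sum, List.map_map]
          congr 1
          · split_ifs <;> simp
          · congr 1
            apply List.map_congr_left
            intro km _
            simp

/-- the entrywise action of a field isomorphism on `GL`. -/
noncomputable def glE (n : Type*) [Fintype n] [DecidableEq n] {F K : Type*} [Field F] [Field K]
    (f : F ≃+* K) : GL n F ≃* GL n K :=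
  Units.mapEquiv (RingEquiv.mapMatrix f).toMulEquiv

theorem glE_val (n : Type*) [Fintype n] [DecidableEq n] {F K : Type*} [Field F] [Field K]
    (f : F ≃+* K) (g : GL n F) : ((glE n f g : GL n K) : Matrix n n K) = (g : Matrix n n F).map f :=
  rfl

theorem glE_symm_val (n : Type*) [Fintype n] [DecidableEq n] {F K : Type*} [Field F] [Field K]
    (f : F ≃+* K) (g : GL n K) :
    (((glE n f).symm g : GL n F) : Matrix n n F) = (g : Matrix n n K).map f.symm := rfl

theorem group_map_glE (D : ChevalleyDatum) {F K : Type*} [Field F] [Field K] (f : F ≃+* K) :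
    (D.group F).map (glE D.Idx f).toMonoidHom = D.group K := by
  unfold ChevalleyDatum.group
  rw [MonoidHom.map_closure]
  congr 1
  ext g
  simp only [Set.mem_image, Set.mem_ofPred_eq]
  constructor
  · rintro ⟨g', ⟨r, t, hg'⟩, rfl⟩
    refine ⟨r, f t, ?_⟩
    show ((glE D.Idx f g' : GL D.Idx K) : Matrix D.Idx D.Idx K) = _
    rw [glE_val, hg']
    exact xMat_map2 D (f : F →+* K) r t
  · rintro ⟨r, t, hg⟩
    refine ⟨(glE D.Idx f).symm g, ⟨r, f.symm t, ?_⟩, ?_⟩
    · rw [glE_symm_val, hg]
      exact xMat_map2 D (f.symm : K →+* F) r t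
    · show glE D.Idx f ((glE D.Idx f).symm g) = g
      simp

theorem nonempty_iso {F : Type*} [Field F] [Fintype F] (hF : Fintype.card F = 2) :
    Nonempty (↥(chevB2.group F) ≃* Perm (Fin 6)) := by
  let e : ZMod 2 ≃+* F := ZMod.ringEquivOfPrime F Nat.prime_two hF
  have h := group_map_glE chevB2 e
  exact ⟨((MulEquiv.subgroupCongr h).symm.trans
    ((glE chevB2.Idx e).subgroupMap (chevB2.group (ZMod 2))).symm).trans isoZMod⟩

end Cfsg.Agent.Lib.Helper19.B2Iso
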