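import Mathlib
import Cfsg.Agent.Lib.Helper11.T23UDefs
import Cfsg.Agent.Lib.Helper9.UTNNZ
import Cfsg.Agent.Lib.Helper23.UTNNG

/-!
S5801 conjunct (8), market C4U, split of leaf R1: the `A`-side calculus of `IsZA` under conjugation by `kel α β`
(`IsZA_conj_kel`, `IsZA_smul_vec`), the torus of `GU_2` attached to a hyperbolic pair (`tor`, `exists_torus`), and the closure of
`ThA q x M` under multiplication by the fixed field `{r | r^q = r}` (`ThA_smul_sq`, `ThA_smul`).
-/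

set_option autoImplicit false
set_option linter.unusedSectionVars false
set_option linter.unusedVariables false

namespace Cfsg.Agent.Lib.Helper19.C4UR1
open Matrix
open Cfsg.Agent.Lib.Helper25.Tens Cfsg.Agent.Lib.Helper25.TensLeaf Cfsg.Agent.Lib.Helper25.TensLeaves
open Cfsg.Agent.Lib.Helper20.UT Cfsg.Agent.Lib.Helper20.UTLeaf Cfsg.Agent.Lib.Helper11.T23U
open Cfsg.Agent.Lib.Helper9.UTNLeaf Cfsg.Agent.Lib.Helper23.UTNLeaf
open scoped Kronecker

variable {F : Type*} [Field F] [Fintype F] {q : ℕ}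

section zcalc
variable {a b : ℕ}

omit [Fintype F] in
lemma ctA_zero (ξ : Fin a → F) : ctA ξ (0 : Idx a b → F) = 0 := by
  ext l; simp [ctA]

omit [Fintype F] in
lemma ctA_smul_left (c : F) (ξ : Fin a → F) (v : Idx a b → F) : ctA (c • ξ) v = c • ctA ξ v := by
  ext l
  simp only [ctA, Pi.smul_apply, smul_eq_mul, Finset.mul_sum]
  apply Finset.sum_congr rfl; intro i _; ring

/-- `c^A_{α x} ((α ⊗ β) w) = β (c^A_x w)` for an isometry `α` -/
lemma ctA_cj_kel (x : Fin a → F) (α : GL (Fin a) F) (β : GL (Fin b) F)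
    (hα : ∀ u v, hv q (mv α u) (mv α v) = hv q u v) (w : Idx a b → F) :
    ctA (cj q (mv α x)) (mv (kel α β : GL (Idx a b) F) w) = mv β (ctA (cj q x) w) := by
  revert w
  apply pt_ind'
  · rw [mv_zero, ctA_zero, ctA_zero, mv_zero]
  · intro v w hv' hw'
    rw [mv_add, ctA_add, ctA_add, mv_add, hv', hw']
  · intro x' z
    rw [mv_kel_pt, ctA_cj_pt, ctA_cj_pt, hα, mv_smul]

/-- `(α ⊗ β) u_x(Ξ) (α ⊗ β)⁻¹ = u_{α x}(β Ξ β⁻¹)` for an isometry `α` (`β` arbitrary). -/
theorem IsZA_conj_kel {x : Fin a → F} {g : GL (Idx a b) F}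
    {Ξ : Matrix (Fin b) (Fin b) F} (h : IsZA q x g Ξ) (α : GL (Fin a) F) (β : GL (Fin b) F)
    (hα : ∀ u v, hv q (mv α u) (mv α v) = hv q u v) :
    IsZA q (mv α x) (kel α β * g * (kel α β)⁻¹)
      ((β : Matrix (Fin b) (Fin b) F) * Ξ * ((β⁻¹ : GL (Fin b) F) : Matrix (Fin b) (Fin b) F)) := by
  intro v
  have hc : ctA (cj q (mv α x)) v = mv β (ctA (cj q x) (mv (kel α β : GL (Idx a b) F)⁻¹ v)) := by
    rw [← ctA_cj_kel x α β hα, mv_mv_inv]
  rw [mv_mul, mv_mul, h _, mv_add, mv_mv_inv, mv_kel_pt, hc]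
  congr 2
  change (β : Matrix (Fin b) (Fin b) F) *ᵥ _ = _
  rw [← Matrix.mulVec_mulVec, ← Matrix.mulVec_mulVec]
  congr 2
  change _ = mv β⁻¹ (mv β _)
  rw [mv_inv_mv]

omit [Fintype F] in
/-- `u_{d x}(Ξ) = u_x((d * d^q) • Ξ)`. -/
theorem IsZA_smul_vec {x : Fin a → F} {g : GL (Idx a b) F} {Ξ : Matrix (Fin b) (Fin b) F} (d : F)
    (h : IsZA q (d • x) g Ξ) : IsZA q x g ((d * d ^ q) • Ξ) := by
  intro v
  have hcj : cj q (d • x) = d ^ q • cj q x := by
    ext i; simp [cj, mul_pow]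
  rw [h v, hcj, ctA_smul_left, Matrix.mulVec_smul, pt_smul_left, pt_smul_right, smul_smul,
    Matrix.smul_mulVec, pt_smul_right]

omit [Fintype F] in
theorem IsZA_one_zero (x : Fin a → F) : IsZA q x (1 : GL (Idx a b) F) 0 := by
  intro v
  rw [mv_one, Matrix.zero_mulVec]
  have : pt x (0 : Fin b → F) = 0 := by ext ⟨i, l⟩; simp [pt]
  rw [this, add_zero]

end zcalc

/-! ### the torus of a hyperbolic pair of `F²` -/

section torus

/-- columns `x, x'` -/
def hypP (x x' : Fin 2 → F) : Matrix (Fin 2) (Fin 2) F := Matrix.of fun i j => ![x, x'] j i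

/-- rows `(x')^q, x^q` -/
def hypQ (q : ℕ) (x x' : Fin 2 → F) : Matrix (Fin 2) (Fin 2) F :=
  Matrix.of fun j i => (![x', x] j i) ^ q

omit [Fintype F] in
lemma hypP_mulVec (x x' : Fin 2 → F) (w : Fin 2 → F) : hypP x x' *ᵥ w = w 0 • x + w 1 • x' := by
  ext i
  simp [hypP, Matrix.mulVec, dotProduct, Fin.sum_univ_two, mul_comm]

omit [Fintype F] in
lemma hypQ_mulVec (x x' : Fin 2 → F) (v : Fin 2 → F) :
    hypQ q x x' *ᵥ v = ![hv q v x', hv q v x] := by
  ext j
  fin_cases j <;> simp [hypQ, Matrix.mulVec, dotProduct, Fin.sum_univ_two, hv, mul_comm]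

omit [Fintype F] in
lemma hypQ_mul_hypP {x x' : Fin 2 → F} (hx : hv q x x = 0) (hx' : hv q x' x' = 0)
    (h1 : hv q x x' = 1) (h1' : hv q x' x = 1) : hypQ q x x' * hypP x x' = 1 := by
  simp only [hv, Fin.sum_univ_two] at hx hx' h1 h1'
  ext j k
  fin_cases j <;> fin_cases k
  · simp [hypQ, hypP, Matrix.mul_apply, Fin.sum_univ_two]; linear_combination h1
  · simp [hypQ, hypP, Matrix.mul_apply, Fin.sum_univ_two]; linear_combination hx'
  · simp [hypQ, hypP, Matrix.mul_apply, Fin.sum_univ_two]; linear_combination hx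
  · simp [hypQ, hypP, Matrix.mul_apply, Fin.sum_univ_two]; linear_combination h1'

omit [Fintype F] in
lemma hypP_mul_hypQ {x x' : Fin 2 → F} (hx : hv q x x = 0) (hx' : hv q x' x' = 0)
    (h1 : hv q x x' = 1) (h1' : hv q x' x = 1) : hypP x x' * hypQ q x x' = 1 :=
  (Matrix.mul_eq_one_comm_of_card_eq (Fin 2) (Fin 2) F rfl).mp (hypQ_mul_hypP hx hx' h1 h1')

/-- the matrix `P diag(l, m) P⁻¹` -/
def torM (q : ℕ) (x x' : Fin 2 → F) (l m : F) : Matrix (Fin 2) (Fin 2) F :=
  hypP x x' * Matrix.diagonal ![l, m] * hypQ q x x'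

omit [Fintype F] in
lemma torM_mul {x x' : Fin 2 → F} (hx : hv q x x = 0) (hx' : hv q x' x' = 0)
    (h1 : hv q x x' = 1) (h1' : hv q x' x = 1) (l m l' m' : F) :
    torM q x x' l m * torM q x x' l' m' = torM q x x' (l * l') (m * m') := by
  unfold torM
  have hQP := hypQ_mul_hypP hx hx' h1 h1'
  have hd : Matrix.diagonal ![l, m] * Matrix.diagonal ![l', m'] =
      (Matrix.diagonal ![l * l', m * m'] : Matrix (Fin 2) (Fin 2) F) := by
    rw [Matrix.diagonal_mul_diagonal]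
    congr 1
    ext i; fin_cases i <;> simp
  calc hypP x x' * Matrix.diagonal ![l, m] * hypQ q x x' *
        (hypP x x' * Matrix.diagonal ![l', m'] * hypQ q x x')
      = hypP x x' * Matrix.diagonal ![l, m] * (hypQ q x x' * hypP x x') *
          Matrix.diagonal ![l', m'] * hypQ q x x' := by simp only [Matrix.mul_assoc]
    _ = hypP x x' * (Matrix.diagonal ![l, m] * Matrix.diagonal ![l', m']) * hypQ q x x' := by
        rw [hQP, Matrix.mul_one]; simp only [Matrix.mul_assoc]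
    _ = _ := by rw [hd]

omit [Fintype F] in
lemma torM_one {x x' : Fin 2 → F} (hx : hv q x x = 0) (hx' : hv q x' x' = 0)
    (h1 : hv q x x' = 1) (h1' : hv q x' x = 1) : torM q x x' 1 1 = 1 := by
  unfold torM
  have : (Matrix.diagonal ![(1 : F), 1] : Matrix (Fin 2) (Fin 2) F) = 1 := by
    rw [← Matrix.diagonal_one]
    congr 1
    ext i; fin_cases i <;> simp
  rw [this, Matrix.mul_one, hypP_mul_hypQ hx hx' h1 h1']

omit [Fintype F] in
lemma torM_det {x x' : Fin 2 → F} (hx : hv q x x = 0) (hx' : hv q x' x' = 0)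
    (h1 : hv q x x' = 1) (h1' : hv q x' x = 1) (l m : F) : (torM q x x' l m).det = l * m := by
  unfold torM
  have h := congrArg Matrix.det (hypP_mul_hypQ hx hx' h1 h1')
  rw [Matrix.det_mul, Matrix.det_one] at h
  rw [Matrix.det_mul, Matrix.det_mul, Matrix.det_diagonal, Fin.prod_univ_two]
  simp only [Matrix.cons_val_zero, Matrix.cons_val_one]
  linear_combination (l * m) * h

omit [Fintype F] in
lemma torM_mulVec (x x' : Fin 2 → F) (l m : F) (v : Fin 2 → F) :
    torM q x x' l m *ᵥ v = (l * hv q v x') • x + (m * hv q v x) • x' := by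
  unfold torM
  rw [← Matrix.mulVec_mulVec, ← Matrix.mulVec_mulVec, hypQ_mulVec, hypP_mulVec]
  simp [Matrix.mulVec_diagonal]

/-- the torus element `x ↦ l x`, `x' ↦ m x'` -/
def tor (q : ℕ) {x x' : Fin 2 → F} (hx : hv q x x = 0) (hx' : hv q x' x' = 0)
    (h1 : hv q x x' = 1) (h1' : hv q x' x = 1) (l m : F) (hl : l ≠ 0) (hm : m ≠ 0) : GL (Fin 2) F where
  val := torM q x x' l m
  inv := torM q x x' l⁻¹ m⁻¹
  val_inv := by
    rw [torM_mul hx hx' h1 h1', mul_inv_cancel₀ hl, mul_inv_cancel₀ hm, torM_one hx hx' h1 h1']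
  inv_val := by
    rw [torM_mul hx hx' h1 h1', inv_mul_cancel₀ hl, inv_mul_cancel₀ hm, torM_one hx hx' h1 h1']

omit [Fintype F] in
lemma mv_tor {x x' : Fin 2 → F} (hx : hv q x x = 0) (hx' : hv q x' x' = 0)
    (h1 : hv q x x' = 1) (h1' : hv q x' x = 1) (l m : F) (hl : l ≠ 0) (hm : m ≠ 0) (v : Fin 2 → F) :
    mv (tor q hx hx' h1 h1' l m hl hm) v = (l * hv q v x') • x + (m * hv q v x) • x' :=
  torM_mulVec x x' l m v

omit [Fintype F] in
/-- completeness relation of a hyperbolic pair of `F²` -/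
lemma hyp_complete {x x' : Fin 2 → F} (hx : hv q x x = 0) (hx' : hv q x' x' = 0)
    (h1 : hv q x x' = 1) (h1' : hv q x' x = 1) (v : Fin 2 → F) :
    v = hv q v x' • x + hv q v x • x' := by
  have h := torM_mulVec (q := q) x x' 1 1 v
  rw [torM_one hx hx' h1 h1', Matrix.one_mulVec, one_mul, one_mul] at h
  exact h

/-- the torus of `GU_2` attached to a hyperbolic pair `(x, x')`: for `l * m^q = 1` there is an isometry `α` with
`α x = l x`, `α x' = m x'`, `det α = l * m`. -/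
theorem exists_torus (hF : Fintype.card F = q ^ 2) {x x' : Fin 2 → F} (hx : hv q x x = 0)
    (hx' : hv q x' x' = 0) (h1 : hv q x x' = 1) {l m : F} (hlm : l * m ^ q = 1) :
    ∃ α : GL (Fin 2) F, (∀ u v, hv q (mv α u) (mv α v) = hv q u v) ∧ mv α x = l • x ∧
      mv α x' = m • x' ∧ (α : Matrix (Fin 2) (Fin 2) F).det = l * m ∧
      ∀ v, mv α v = (l * hv q v x') • x + (m * hv q v x) • x' := by
  have h1' : hv q x' x = 1 := by
    have := hv_conj hF x x'
    rw [h1, one_pow] at this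
    exact this.symm
  have hl : l ≠ 0 := by
    rintro rfl
    rw [zero_mul] at hlm
    exact zero_ne_one hlm
  have hm : m ≠ 0 := by
    rintro rfl
    have hq0 : q ≠ 0 := by
      rintro rfl
      have : 2 ≤ Fintype.card F := Fintype.one_lt_card
      rw [hF] at this; omega
    rw [zero_pow hq0, mul_zero] at hlm
    exact zero_ne_one hlm
  have hml : m * l ^ q = 1 := by
    have := congrArg (fun t => t ^ q) hlm
    simp only [mul_pow, one_pow, pow_q_pow_q' hF] at this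
    rw [mul_comm]
    exact this
  refine ⟨tor q hx hx' h1 h1' l m hl hm, ?_, ?_, ?_, torM_det hx hx' h1 h1' l m,
    mv_tor hx hx' h1 h1' l m hl hm⟩
  · intro u v
    rw [mv_tor, mv_tor]
    conv_rhs => rw [hyp_complete hx hx' h1 h1' u, hyp_complete hx hx' h1 h1' v]
    simp only [hv_add_left, hv_add_right hF, hv_smul_left, hv_smul_right, hx, hx', h1, h1', mul_pow]
    linear_combination (hv q u x' * hv q v x ^ q) * hlm + (hv q u x * hv q v x' ^ q) * hml
  · rw [mv_tor, hx, h1, mul_one, mul_zero, zero_smul, add_zero]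
  · rw [mv_tor, hx', h1', mul_one, mul_zero, zero_smul, zero_add]

end torus

/-! ### closure of `ThA` under the fixed field -/

section smul
variable {M : Subgroup (GL (Idx 2 3) F)}

/-- conjugation by `diag(l, l⁻¹) ⊗ 1`, `l ∈ F_q^×`, multiplies `Ξ` by `l²`. -/
theorem ThA_smul_sq (hF : Fintype.card F = q ^ 2) (hle : KG 2 3 F ⊓ GS 2 3 q F ≤ M)
    {x : Fin 2 → F} (hx0 : x ≠ 0) (hx : hv q x x = 0) {Ξ : Matrix (Fin 3) (Fin 3) F}
    (hΞ : Ξ ∈ ThA q x M) {l : F} (hl : l ^ q = l) : (l ^ 2) • Ξ ∈ ThA q x M := by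
  by_cases hl0 : l = 0
  · subst hl0
    rw [zero_pow (by norm_num), zero_smul]
    exact ⟨1, M.one_mem, IsZA_one_zero x⟩
  obtain ⟨g, hg, hZ⟩ := hΞ
  obtain ⟨x', hx', h1', h1⟩ := exists_partner hF hx0 hx
  have hlm : l * (l⁻¹) ^ q = 1 := by
    rw [inv_pow, hl, mul_inv_cancel₀ hl0]
  obtain ⟨α, hα, hαx, -, hdet, -⟩ := exists_torus hF hx hx' h1 hlm
  have hk : kel α (1 : GL (Fin 3) F) ∈ M := by
    apply hle
    apply kel_mem_GS hF α 1 hα (by intro u v; simp)
    rw [hdet, mul_inv_cancel₀ hl0]; simp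
  have h2 := IsZA_conj_kel hZ α (1 : GL (Fin 3) F) hα
  rw [hαx] at h2
  have h3 := IsZA_smul_vec l h2
  simp only [Units.val_one, inv_one, Matrix.one_mul, Matrix.mul_one] at h3
  rw [hl, ← sq] at h3
  exact ⟨_, M.mul_mem (M.mul_mem hk hg) (M.inv_mem hk), h3⟩

/-- every element of the fixed field is a difference of two squares of the fixed field -/
theorem exists_sq_sub_sq (hF : Fintype.card F = q ^ 2) {r : F} (hr : r ^ q = r) :
    ∃ s t : F, s ^ q = s ∧ t ^ q = t ∧ r = s ^ 2 - t ^ 2 := by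
  have h2q : (2 : F) ^ q = 2 := by
    have : (2 : F) = 1 + 1 := by norm_num
    rw [this, add_pow_q hF, one_pow]
  by_cases h2 : (2 : F) = 0
  · -- characteristic two: `q` is even and `r = (r^(q/2))²`
    have hqF : (q : F) = 0 := by
      have h := Nat.cast_card_eq_zero F
      rw [hF] at h
      push_cast at h
      exact pow_eq_zero_iff (two_ne_zero) |>.mp h
    have hqe : Even q := by
      by_contra hodd
      rw [Nat.not_even_iff_odd] at hodd
      obtain ⟨k, hk⟩ := hodd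
      rw [hk] at hqF
      push_cast at hqF
      rw [h2, zero_mul, zero_add] at hqF
      exact one_ne_zero hqF
    obtain ⟨k, hk⟩ := hqe
    refine ⟨r ^ k, 0, ?_, ?_, ?_⟩
    · rw [← pow_mul, mul_comm, pow_mul, hr]
    · have hq0 : q ≠ 0 := by
        rintro rfl
        have : 2 ≤ Fintype.card F := Fintype.one_lt_card
        rw [hF] at this; omega
      rw [zero_pow hq0]
    · rw [← pow_mul, zero_pow (by norm_num), sub_zero]
      conv_lhs => rw [← hr, hk]
      congr 1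
      ring
  · refine ⟨(r + 1) / 2, (r - 1) / 2, ?_, ?_, ?_⟩
    · rw [div_pow, add_pow_q hF, hr, one_pow, h2q]
    · rw [div_pow, sub_eq_add_neg, add_pow_q hF, neg_pow_q hF, hr, one_pow, h2q]
    · field_simp
      ring

/-- **R1, smul closure**: `ThA q x M` is closed under multiplication by the fixed field `{r | r^q = r}`, given closure
under `+` and `-` (only squares `l²` come from the torus of `SU_2`). -/
theorem ThA_smul (hF : Fintype.card F = q ^ 2) (hle : KG 2 3 F ⊓ GS 2 3 q F ≤ M)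
    {x : Fin 2 → F} (hx0 : x ≠ 0) (hx : hv q x x = 0) {Ξ : Matrix (Fin 3) (Fin 3) F}
    (hΞ : Ξ ∈ ThA q x M)
    (hadd : ∀ Ξ₁ Ξ₂, Ξ₁ ∈ ThA q x M → Ξ₂ ∈ ThA q x M → Ξ₁ + Ξ₂ ∈ ThA q x M)
    (hneg : ∀ Ξ₁, Ξ₁ ∈ ThA q x M → -Ξ₁ ∈ ThA q x M) {r : F} (hr : r ^ q = r) :
    r • Ξ ∈ ThA q x M := by
  obtain ⟨s, t, hs, ht, rfl⟩ := exists_sq_sub_sq hF hr
  rw [sub_smul, sub_eq_add_neg]
  exact hadd _ _ (ThA_smul_sq hF hle hx0 hx hΞ hs) (hneg _ (ThA_smul_sq hF hle hx0 hx hΞ ht))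

end smul

end Cfsg.Agent.Lib.Helper19.C4UR1
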