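import Mathlib

namespace Cfsg.Agent.Lib.Helper19.OrthoType

open Matrix

section necessity

variable {F : Type*} [Field F]

/-- the block swap matrix -/
def swapB (m : ℕ) : Matrix (Fin m ⊕ Fin m) (Fin m ⊕ Fin m) F :=
  fromBlocks (0 : Matrix (Fin m) (Fin m) F) (1 : Matrix (Fin m) (Fin m) F)
    (1 : Matrix (Fin m) (Fin m) F) (0 : Matrix (Fin m) (Fin m) F)

/-- determinant of the block swap matrix -/
lemma det_swapB (m : ℕ) : (swapB (F := F) m).det = (-1) ^ m := by
  have h1 : fromBlocks (1 : Matrix (Fin m) (Fin m) F) (1 : Matrix (Fin m) (Fin m) F)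
        (0 : Matrix (Fin m) (Fin m) F) (1 : Matrix (Fin m) (Fin m) F) * swapB m
      = fromBlocks (1 : Matrix (Fin m) (Fin m) F) (1 : Matrix (Fin m) (Fin m) F)
        (1 : Matrix (Fin m) (Fin m) F) (0 : Matrix (Fin m) (Fin m) F) := by
    rw [swapB, fromBlocks_multiply]
    simp
  have h2 : (fromBlocks (1 : Matrix (Fin m) (Fin m) F) (1 : Matrix (Fin m) (Fin m) F)
        (0 : Matrix (Fin m) (Fin m) F) (1 : Matrix (Fin m) (Fin m) F)).det = 1 := by
    rw [det_fromBlocks_zero₂₁]; simp
  have h3 : (fromBlocks (1 : Matrix (Fin m) (Fin m) F) (1 : Matrix (Fin m) (Fin m) F)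
        (1 : Matrix (Fin m) (Fin m) F) (0 : Matrix (Fin m) (Fin m) F)).det = (-1) ^ m := by
    rw [det_fromBlocks_one₁₁]
    simp [det_neg]
  have := congrArg det h1
  rw [det_mul, h2, one_mul, h3] at this
  exact this

lemma det_antiBlocks (m : ℕ) (P R : Matrix (Fin m) (Fin m) F) :
    (fromBlocks 0 P Pᵀ R).det = (-1) ^ m * P.det ^ 2 := by
  have h1 : swapB m * fromBlocks Pᵀ R 0 P = fromBlocks 0 P Pᵀ R := by
    rw [swapB, fromBlocks_multiply]
    simp
  rw [← h1, det_mul, det_swapB, det_fromBlocks_zero₂₁, det_transpose]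
  ring

/-- a totally singular subspace of half dimension forces `(-1)^m` to be a square -/
lemma isSquare_neg_one_pow (h2 : (2 : F) ≠ 0) (m : ℕ)
    (W : Submodule F (Fin m ⊕ Fin m → F)) (hW : Module.finrank F W = m)
    (hQ : ∀ w ∈ W, ∑ i, w i ^ 2 = 0) : IsSquare ((-1 : F) ^ m) := by
  classical
  -- polarization
  have hdot : ∀ w ∈ W, ∀ w' ∈ W, w ⬝ᵥ w' = 0 := by
    intro w hw w' hw'
    have h1 := hQ (w + w') (W.add_mem hw hw')
    have h3 : ∑ i, (w + w') i ^ 2 = ∑ i, w i ^ 2 + ∑ i, w' i ^ 2 + 2 * (w ⬝ᵥ w') := by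
      simp only [dotProduct, Pi.add_apply, Finset.mul_sum, ← Finset.sum_add_distrib]
      apply Finset.sum_congr rfl
      intro i _
      ring
    rw [h3, hQ w hw, hQ w' hw', zero_add, zero_add] at h1
    exact (mul_eq_zero.1 h1).resolve_left h2
  obtain ⟨U, hU⟩ := Submodule.exists_isCompl W
  have hfU : Module.finrank F U = m := by
    have h1 := Submodule.finrank_add_eq_of_isCompl hU
    rw [Module.finrank_fintype_fun_eq_card, Fintype.card_sum, Fintype.card_fin, hW] at h1
    omega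
  let bW : Module.Basis (Fin m) F W := Module.finBasisOfFinrankEq F W hW
  let bU : Module.Basis (Fin m) F U := Module.finBasisOfFinrankEq F U hfU
  let vW : Fin m → (Fin m ⊕ Fin m → F) := fun i => (bW i : Fin m ⊕ Fin m → F)
  let vU : Fin m → (Fin m ⊕ Fin m → F) := fun i => (bU i : Fin m ⊕ Fin m → F)
  have hliW : LinearIndependent F vW :=
    bW.linearIndependent.map' W.subtype (Submodule.ker_subtype W)
  have hliU : LinearIndependent F vU :=
    bU.linearIndependent.map' U.subtype (Submodule.ker_subtype U)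
  have hspW : Submodule.span F (Set.range vW) ≤ W := by
    rw [Submodule.span_le]
    rintro _ ⟨i, rfl⟩
    exact (bW i).2
  have hspU : Submodule.span F (Set.range vU) ≤ U := by
    rw [Submodule.span_le]
    rintro _ ⟨i, rfl⟩
    exact (bU i).2
  have hli : LinearIndependent F (Sum.elim vW vU) :=
    LinearIndependent.sum_type hliW hliU (hU.disjoint.mono hspW hspU)
  let M : Matrix (Fin m ⊕ Fin m) (Fin m ⊕ Fin m) F := Matrix.of (Sum.elim vW vU)
  have hMunit : IsUnit M := Matrix.linearIndependent_rows_iff_isUnit.1 hli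
  have hdetM : M.det ≠ 0 := by
    have := (Matrix.isUnit_iff_isUnit_det M).1 hMunit
    exact this.ne_zero
  let P : Matrix (Fin m) (Fin m) F := Matrix.of fun i j => vW i ⬝ᵥ vU j
  let R : Matrix (Fin m) (Fin m) F := Matrix.of fun i j => vU i ⬝ᵥ vU j
  have hMM : M * Mᵀ = fromBlocks 0 P Pᵀ R := by
    ext x y
    rw [Matrix.mul_apply]
    rcases x with i | i <;> rcases y with j | j
    · simp only [fromBlocks_apply₁₁, Matrix.zero_apply]
      exact hdot _ (bW i).2 _ (bW j).2
    · simp only [fromBlocks_apply₁₂]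
      rfl
    · simp only [fromBlocks_apply₂₁, Matrix.transpose_apply]
      change vU i ⬝ᵥ vW j = vW j ⬝ᵥ vU i
      exact dotProduct_comm _ _
    · simp only [fromBlocks_apply₂₂]
      rfl
  have hdet := congrArg det hMM
  rw [det_mul, det_transpose, det_antiBlocks] at hdet
  have hP : P.det ≠ 0 := by
    intro h0
    rw [h0] at hdet
    simp at hdet
    exact hdetM hdet
  refine ⟨M.det / P.det, ?_⟩
  field_simp
  linear_combination -hdet

end necessity

section sufficiency

variable {F : Type*} [Field F]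

/-- a linear "anti-isometry" gives a totally singular graph subspace -/
lemma exists_isotropic (m : ℕ) (ψ : (Fin m → F) →ₗ[F] (Fin m → F))
    (hψ : ∀ x, ∑ j, (ψ x j) ^ 2 = - ∑ j, (x j) ^ 2) :
    ∃ W : Submodule F (Fin m ⊕ Fin m → F), Module.finrank F W = m ∧
      ∀ w ∈ W, ∑ i, w i ^ 2 = 0 := by
  let φ : (Fin m → F) →ₗ[F] (Fin m ⊕ Fin m → F) :=
    (LinearEquiv.sumArrowLequivProdArrow (Fin m) (Fin m) F F).symm.toLinearMap ∘ₗ
      (LinearMap.prod LinearMap.id ψ)
  have hφl : ∀ x j, φ x (Sum.inl j) = x j := fun x j => rfl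
  have hφr : ∀ x j, φ x (Sum.inr j) = ψ x j := fun x j => rfl
  have hinj : Function.Injective φ := by
    intro x y hxy
    funext j
    have := congrFun hxy (Sum.inl j)
    rwa [hφl, hφl] at this
  refine ⟨LinearMap.range φ, ?_, ?_⟩
  · rw [LinearMap.finrank_range_of_inj hinj, Module.finrank_fintype_fun_eq_card, Fintype.card_fin]
  · rintro _ ⟨x, rfl⟩
    rw [Fintype.sum_sum_type]
    simp only [hφl, hφr]
    rw [hψ, add_neg_cancel]

lemma exists_psi_of_sq (m : ℕ) (i : F) (hi : i * i = -1) :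
    ∃ ψ : (Fin m → F) →ₗ[F] (Fin m → F), ∀ x, ∑ j, (ψ x j) ^ 2 = - ∑ j, (x j) ^ 2 := by
  refine ⟨i • LinearMap.id, fun x => ?_⟩
  simp only [LinearMap.smul_apply, LinearMap.id_coe, id_eq, Pi.smul_apply, smul_eq_mul]
  rw [← Finset.sum_neg_distrib]
  apply Finset.sum_congr rfl
  intro j _
  have : (i * x j) ^ 2 = (i * i) * (x j) ^ 2 := by ring
  rw [this, hi]; ring

/-- the block rotation-like map `(u, v) ↦ (a u - b v, b u + a v)` -/
def rotMap (r : ℕ) (a b : F) : (Fin (r + r) → F) →ₗ[F] (Fin (r + r) → F) where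
  toFun x := Fin.append
    (fun j : Fin r => a * x (Fin.castAdd r j) - b * x (Fin.natAdd r j))
    (fun j : Fin r => b * x (Fin.castAdd r j) + a * x (Fin.natAdd r j))
  map_add' := by
    intro x y
    funext k
    refine Fin.addCases (fun j => ?_) (fun j => ?_) k
    · simp only [Fin.append_left, Pi.add_apply]; ring
    · simp only [Fin.append_right, Pi.add_apply]; ring
  map_smul' := by
    intro c x
    funext k
    refine Fin.addCases (fun j => ?_) (fun j => ?_) k
    · simp only [Fin.append_left, Pi.smul_apply, smul_eq_mul, RingHom.id_apply]; ring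
    · simp only [Fin.append_right, Pi.smul_apply, smul_eq_mul, RingHom.id_apply]; ring

lemma rotMap_left (r : ℕ) (a b : F) (x : Fin (r + r) → F) (j : Fin r) :
    rotMap r a b x (Fin.castAdd r j) = a * x (Fin.castAdd r j) - b * x (Fin.natAdd r j) := by
  simp only [rotMap, LinearMap.coe_mk, AddHom.coe_mk, Fin.append_left]

lemma rotMap_right (r : ℕ) (a b : F) (x : Fin (r + r) → F) (j : Fin r) :
    rotMap r a b x (Fin.natAdd r j) = b * x (Fin.castAdd r j) + a * x (Fin.natAdd r j) := by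
  simp only [rotMap, LinearMap.coe_mk, AddHom.coe_mk, Fin.append_right]

lemma exists_psi_of_even (r : ℕ) (a b : F) (hab : a ^ 2 + b ^ 2 = -1) :
    ∃ ψ : (Fin (r + r) → F) →ₗ[F] (Fin (r + r) → F),
      ∀ x, ∑ j, (ψ x j) ^ 2 = - ∑ j, (x j) ^ 2 := by
  refine ⟨rotMap r a b, fun x => ?_⟩
  rw [Fin.sum_univ_add, Fin.sum_univ_add]
  simp only [rotMap_left, rotMap_right]
  rw [← Finset.sum_add_distrib, ← Finset.sum_add_distrib, ← Finset.sum_neg_distrib]
  apply Finset.sum_congr rfl
  intro j _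
  linear_combination (x (Fin.castAdd r j) ^ 2 + x (Fin.natAdd r j) ^ 2) * hab

lemma exists_sq_add_sq [Fintype F] (h2 : (2 : F) ≠ 0) : ∃ a b : F, a ^ 2 + b ^ 2 = -1 := by
  have hchar : ringChar F ≠ 2 := by
    intro h
    apply h2
    have : CharP F 2 := by rw [← h]; exact ringChar.charP F
    exact CharTwo.two_eq_zero
  have hodd := FiniteField.odd_card_of_char_ne_two hchar
  have hf : (Polynomial.X ^ 2 : Polynomial F).degree = 2 := by
    rw [Polynomial.degree_X_pow]; rfl
  have hg : (Polynomial.X ^ 2 + 1 : Polynomial F).degree = 2 := by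
    rw [Polynomial.degree_add_eq_left_of_degree_lt]
    · rw [Polynomial.degree_X_pow]; rfl
    · rw [Polynomial.degree_X_pow, Polynomial.degree_one]; norm_num
  obtain ⟨a, b, hab⟩ := FiniteField.exists_root_sum_quadratic hf hg hodd
  refine ⟨a, b, ?_⟩
  simp only [Polynomial.eval_pow, Polynomial.eval_X, Polynomial.eval_add,
    Polynomial.eval_one] at hab
  linear_combination hab

end sufficiency


section main

variable {F : Type*} [Field F]

/-- transport between `Fin (2 * m)` and `Fin m ⊕ Fin m` -/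
lemma exists_iff_sum (m : ℕ) :
    (∃ W : Submodule F (Fin (2 * m) → F), Module.finrank F W = m ∧
      ∀ w ∈ W, ∑ i, w i ^ 2 = 0) ↔
    (∃ W : Submodule F (Fin m ⊕ Fin m → F), Module.finrank F W = m ∧
      ∀ w ∈ W, ∑ i, w i ^ 2 = 0) := by
  let e : Fin m ⊕ Fin m ≃ Fin (2 * m) := finSumFinEquiv.trans (finCongr (two_mul m).symm)
  let L : (Fin (2 * m) → F) ≃ₗ[F] (Fin m ⊕ Fin m → F) := LinearEquiv.funCongrLeft F F e
  have hL : ∀ w x, L w x = w (e x) := fun w x => rfl
  have hLs : ∀ w i, L.symm w i = w (e.symm i) := fun w i => rfl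
  constructor
  · rintro ⟨W, hW, hQ⟩
    refine ⟨W.map L.toLinearMap, ?_, ?_⟩
    · rw [LinearEquiv.finrank_map_eq, hW]
    · rintro _ ⟨w, hw, rfl⟩
      have := hQ w hw
      rw [← Equiv.sum_comp e] at this
      exact this
  · rintro ⟨W, hW, hQ⟩
    refine ⟨W.map L.symm.toLinearMap, ?_, ?_⟩
    · rw [LinearEquiv.finrank_map_eq, hW]
    · rintro _ ⟨w, hw, rfl⟩
      have := hQ w hw
      rw [← Equiv.sum_comp e.symm] at this
      exact this

/-- **Type of the orthonormal form** `Σ_{i<2m} x_i²` over a finite field of odd order. -/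
theorem orthonormal_type [Fintype F] (h2 : (2 : F) ≠ 0) (m : ℕ) :
    (∃ W : Submodule F (Fin (2 * m) → F), Module.finrank F W = m ∧
      ∀ w ∈ W, ∑ i, w i ^ 2 = 0) ↔ ¬ (Fintype.card F % 4 = 3 ∧ Odd m) := by
  rw [exists_iff_sum]
  constructor
  · rintro ⟨W, hW, hQ⟩ ⟨h3, hodd⟩
    have hsq := isSquare_neg_one_pow h2 m W hW hQ
    rw [hodd.neg_one_pow] at hsq
    exact (FiniteField.isSquare_neg_one_iff.1 hsq) h3
  · intro h
    by_cases h3 : Fintype.card F % 4 = 3
    · have heven : Even m := by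
        rw [← Nat.not_odd_iff_even]
        exact fun ho => h ⟨h3, ho⟩
      obtain ⟨r, rfl⟩ := heven
      obtain ⟨a, b, hab⟩ := exists_sq_add_sq h2
      obtain ⟨ψ, hψ⟩ := exists_psi_of_even r a b hab
      exact exists_isotropic (r + r) ψ hψ
    · obtain ⟨i, hi⟩ := FiniteField.isSquare_neg_one_iff.2 h3
      obtain ⟨ψ, hψ⟩ := exists_psi_of_sq m i hi.symm
      exact exists_isotropic m ψ hψ

end main

end Cfsg.Agent.Lib.Helper19.OrthoType
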