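import Mathlib
import Cfsg.Agent.Lib.Helper25.SpTNDefs
import Cfsg.Agent.Lib.Helper19.SpTNDefs

set_option autoImplicit false
set_option linter.unusedSectionVars false
set_option linter.unusedVariables false

namespace Cfsg.Agent.Lib.Helper19.SpTN
open Matrix QuadraticMap
open Cfsg.Agent.Lib.Helper25.Tens Cfsg.Agent.Lib.Helper25.TensLeaves Cfsg.Agent.Lib.Helper19.OSub
open Cfsg.Agent.Lib.Helper25.SpT
open scoped Kronecker

variable {F : Type*} [Field F] {a b : ℕ}

/-- bridge: helper25's matrix `U`-form gives the `mv`-form `UW` with `φ l = blk g o l` -/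
theorem UW_of_UF (o o' : Fin b) (hoo' : o ≠ o') (g : GL (Idx a b) F)
    (hg : UF o o' ((g : GL (Idx a b) F) : Matrix (Idx a b) (Idx a b) F)) :
    UW o o' g (fun l => blk ((g : GL (Idx a b) F) : Matrix (Idx a b) (Idx a b) F) o l) := by
  obtain ⟨h1, h2, -⟩ := hg
  constructor
  · intro x
    rw [mv_pt_single, Finset.sum_eq_single o]
    · rw [h2, Matrix.one_mulVec]
    · intro k _ hk
      rw [h1 k o hk hoo', if_neg hk, Matrix.zero_mulVec, pt_zero_left]
    · simp
  · intro l hl hl' x
    rw [mv_pt_single, ← Finset.add_sum_erase _ _ (Finset.mem_univ o), add_comm]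
    congr 1
    rw [Finset.sum_eq_single l]
    · rw [h1 l l hl hl', if_pos rfl, Matrix.one_mulVec]
    · intro k hk hkl
      have hko : k ≠ o := (Finset.mem_erase.mp hk).1
      rw [h1 k l hko hl', if_neg hkl, Matrix.zero_mulVec, pt_zero_left]
    · intro hl2
      exact absurd (Finset.mem_erase.mpr ⟨hl, Finset.mem_univ l⟩) hl2

end Cfsg.Agent.Lib.Helper19.SpTN
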