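import Mathlib
import Cfsg.Agent.Lib.Helper5.TWU.Defs
import Cfsg.Agent.Lib.Helper23.TWUT
import Cfsg.Agent.Lib.Helper23.TWUQMain
import Cfsg.Agent.Lib.Helper23.TWUQSc
import Cfsg.Agent.Lib.Helper22.TWExtMore
import Cfsg.Agent.Lib.Helper14.TWIIDefs
import Cfsg.Agent.Lib.Helper19.TWGrow
import Cfsg.Agent.Lib.Helper19.TWU3Defs
import Cfsg.Agent.Lib.Helper24.C3lDefs
import Cfsg.Agent.Lib.Helper5.UTGDefs

/-!
S5672 (C7 unitary), STAGE III (sub-planner helper19, `notes/S5672_III_leaves.lean`): the TOOLKIT T1-T12, exact signatures: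
`nilU_eq_ptens`, `vv_pt`, `vv_mul_vv`, `adjM_vv`, `unip_mem_SUV`, `ptens_update_sum`, `ptens_eq_ext`, `RG_move`,
`sum_mem_of_annihilate`, `pt_eq_tens`, `pt_ne_zero`, `exists_iso_ne_zero`; extras: `vv_mulVec`, `mat_ext_mulVec`,
`ptens_update_apply`, `exists_hyp_pair`.
-/

set_option autoImplicit false
set_option linter.unusedSectionVars false
set_option linter.unusedVariables false

namespace Cfsg.Agent.Lib.Helper19.TWU3Leaf
open Matrix Cfsg.Geo Cfsg.Agent.Lib.Helper18.AschA89 Cfsg.Agent.Lib.Helper20.AschLeaf Cfsg.Agent.Lib.Helper8.TW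
open Cfsg.Agent.Lib.Helper5.TWU Cfsg.Agent.Lib.Helper19.TWU3
open Cfsg.Agent.Lib.Helper20.UT (hv)
open Cfsg.Agent.Lib.Helper23.TWUT (adjM)

variable {F : Type*} [Field F] [Fintype F] {t k q : ℕ}


/-- T1 -/
theorem nilU_eq_ptens (J : Finset (Fin t)) (y : Fin t → Fin k → F) :
    nilU q J y = ptens k t (famU q J y) := by
  classical
  ext x x'
  rw [ptens_apply]
  unfold nilU
  have hsplit : ∏ i, famU q J y i (x i) (x' i) =
      (∏ i ∈ J, famU q J y i (x i) (x' i)) * ∏ i ∈ Jᶜ, famU q J y i (x i) (x' i) :=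
    (Finset.prod_mul_prod_compl J _).symm
  rw [hsplit]
  have h1 : ∏ i ∈ J, famU q J y i (x i) (x' i) = ∏ j ∈ J, y j (x j) * (y j (x' j)) ^ q := by
    apply Finset.prod_congr rfl
    intro i hi
    unfold famU
    rw [if_pos hi, vv_apply]
  have h2 : ∏ i ∈ Jᶜ, famU q J y i (x i) (x' i) = if ∀ j, j ∉ J → x j = x' j then 1 else 0 := by
    have e : ∀ i ∈ Jᶜ, famU q J y i (x i) (x' i) = if x i = x' i then 1 else 0 := by
      intro i hi
      unfold famU
      rw [if_neg (Finset.mem_compl.1 hi), Matrix.one_apply]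
    rw [Finset.prod_congr rfl e, Finset.prod_ite_zero]
    simp only [Finset.prod_const_one, Finset.mem_compl]
  rw [h1, h2]
  split_ifs <;> simp

/-- T2 -/
theorem vv_pt (u w : Fin t → Fin k → F) :
    vv q (pt u) (pt w) = ptens k t (fun i => vv q (u i) (w i)) := by
  ext x x'
  rw [vv_apply, ptens_apply]
  unfold pt
  rw [← Finset.prod_pow, ← Finset.prod_mul_distrib]
  apply Finset.prod_congr rfl
  intro i _
  rw [vv_apply]

/-- T3 -/
theorem vv_mul_vv {κ : Type} [Fintype κ] (s w s' w' : κ → F) :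
    vv q s w * vv q s' w' = hv q s' w • vv q s w' := by
  unfold vv
  rw [Matrix.vecMulVec_mul_vecMulVec, Cfsg.Agent.Lib.Helper20.UT.hv_eq_dot]
  ext a b
  simp only [Matrix.vecMulVec_apply, Matrix.smul_apply, Pi.smul_apply, smul_eq_mul]
  ring

/-- T4 -/
theorem adjM_vv {κ : Type} (hF : Fintype.card F = q ^ 2) (s w : κ → F) : adjM q (vv q s w) = vv q w s := by
  ext a b
  rw [Cfsg.Agent.Lib.Helper23.TWUT.adjM_apply, vv_apply, vv_apply, mul_pow,
    Cfsg.Agent.Lib.Helper20.UT.pow_q_pow_q' hF, mul_comm]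



/-- T5 -/
theorem unip_mem_SUV (hF : Fintype.card F = q ^ 2) (N : Matrix (Idx t k) (Idx t k) F) (hsq : N * N = 0)
    (hadj : adjM q N = N) (c : F) (hc : c ^ q = -c) (h : (c • N) * (c • N) = 0) :
    unip (c • N) h ∈ SUV t k q F := by
  refine ⟨mem_GUV.2 ?_, ?_⟩
  · intro u w
    have hval : ∀ x : Idx t k → F, mv (unip (c • N) h) x = x + c • (N *ᵥ x) := by
      intro x
      unfold mv
      rw [unip_val, Matrix.add_mulVec, Matrix.one_mulVec, Matrix.smul_mulVec]
    rw [hval, hval]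
    have e1 : hv q (N *ᵥ u) w = hv q u (N *ᵥ w) := by
      rw [Cfsg.Agent.Lib.Helper23.TWUT.hv_mulVec_left hF, hadj]
    have e2 : hv q (N *ᵥ u) (N *ᵥ w) = 0 := by
      rw [Cfsg.Agent.Lib.Helper23.TWUT.hv_mulVec_left hF, hadj, Matrix.mulVec_mulVec, hsq, Matrix.zero_mulVec,
        Cfsg.Agent.Lib.Helper20.UT.hv_zero_right hF]
    rw [Cfsg.Agent.Lib.Helper20.UT.hv_add_left, Cfsg.Agent.Lib.Helper20.UT.hv_add_right hF,
      Cfsg.Agent.Lib.Helper20.UT.hv_add_right hF, Cfsg.Agent.Lib.Helper20.UT.hv_smul_left,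
      Cfsg.Agent.Lib.Helper20.UT.hv_smul_left, Cfsg.Agent.Lib.Helper20.UT.hv_smul_right,
      Cfsg.Agent.Lib.Helper20.UT.hv_smul_right, e1, e2, hc]
    ring
  · show unip (c • N) h ∈ (Matrix.GeneralLinearGroup.det : GL (Idx t k) F →* Fˣ).ker
    rw [MonoidHom.mem_ker]
    apply Units.ext
    show ((unip (c • N) h : GL (Idx t k) F) : Matrix (Idx t k) (Idx t k) F).det = 1
    rw [unip_val]
    exact Cfsg.Agent.Lib.Helper24.C3l.det_one_add_of_sq_zero _ h



/-- entries of `ptens` with one factor replaced -/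
lemma ptens_update_apply (G : Fin t → Matrix (Fin k) (Fin k) F) (j : Fin t) (A : Matrix (Fin k) (Fin k) F)
    (x x' : Idx t k) :
    ptens k t (Function.update G j A) x x' = A (x j) (x' j) * ∏ i ∈ Finset.univ.erase j, G i (x i) (x' i) := by
  rw [ptens_apply, ← Finset.mul_prod_erase Finset.univ _ (Finset.mem_univ j), Function.update_self]
  congr 1
  apply Finset.prod_congr rfl
  intro i hi
  rw [Function.update_of_ne (Finset.ne_of_mem_erase hi)]

/-- T6 -/
theorem ptens_update_sum {ι : Type} [Fintype ι] (G : Fin t → Matrix (Fin k) (Fin k) F) (j : Fin t) (s : ι → F)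
    (A : ι → Matrix (Fin k) (Fin k) F) :
    ptens k t (Function.update G j (∑ m, s m • A m)) = ∑ m, s m • ptens k t (Function.update G j (A m)) := by
  ext x x'
  rw [ptens_update_apply, Matrix.sum_apply, Matrix.sum_apply, Finset.sum_mul]
  apply Finset.sum_congr rfl
  intro m _
  rw [Matrix.smul_apply, Matrix.smul_apply, ptens_update_apply, smul_eq_mul, smul_eq_mul, mul_assoc]

/-- T7 -/
theorem ptens_eq_ext (j : Fin (t + 1)) (G : Fin (t + 1) → Matrix (Fin k) (Fin k) F) (hG : G j = 1) :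
    ptens k (t + 1) G = ext j (ptens k t (fun i => G (j.succAbove i))) := by
  rw [Cfsg.Agent.Lib.Helper22.TWLeaf.ext_ptens]
  congr 1
  funext i
  by_cases hi : i = j
  · subst hi
    rw [Fin.insertNth_apply_same, hG]
  · obtain ⟨i', rfl⟩ := Fin.exists_succAbove_eq hi
    rw [Fin.insertNth_apply_succAbove]

/-- T9 -/
theorem sum_mem_of_annihilate {κ : Type} [Fintype κ] [DecidableEq κ] (X : Subgroup (GL κ F)) {ι : Type} [Fintype ι]
    (M : ι → Matrix κ κ F) (hM : ∀ a b, M a * M b = 0) (h : ∀ a, InM X (1 + M a)) : InM X (1 + ∑ a, M a) := by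
  classical
  have key : ∀ S : Finset ι, InM X (1 + ∑ a ∈ S, M a) := by
    intro S
    induction S using Finset.induction_on with
    | empty =>
      rw [Finset.sum_empty, add_zero]
      exact ⟨1, X.one_mem, Units.val_one⟩
    | insert a S ha ih =>
      obtain ⟨g, hg, hgv⟩ := h a
      obtain ⟨g', hg', hgv'⟩ := ih
      refine ⟨g * g', X.mul_mem hg hg', ?_⟩
      rw [Units.val_mul, hgv, hgv', Finset.sum_insert ha, add_mul, mul_add, mul_add, one_mul, mul_one, one_mul,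
        Finset.mul_sum]
      have : ∑ i ∈ S, M a * M i = 0 := Finset.sum_eq_zero (fun i _ => hM a i)
      rw [this]
      abel
  exact key Finset.univ

/-- T10 -/
theorem pt_eq_tens (j : Fin (t + 1)) (ys : Fin (t + 1) → Fin k → F) :
    pt ys = tens j (pt (fun i => ys (j.succAbove i))) (ys j) := by
  funext x
  unfold pt tens
  rw [Fin.prod_univ_succAbove _ j, mul_comm]

/-- T11 -/
theorem pt_ne_zero (ys : Fin t → Fin k → F) (h : ∀ i, ys i ≠ 0) : pt ys ≠ 0 := by
  have hex : ∀ i, ∃ a : Fin k, ys i a ≠ 0 := by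
    intro i
    by_contra hcon
    push Not at hcon
    exact h i (funext hcon)
  choose a ha using hex
  intro h0
  have := congrFun h0 a
  unfold pt at this
  rw [Pi.zero_apply, Finset.prod_eq_zero_iff] at this
  obtain ⟨i, _, hi⟩ := this
  exact ha i hi



/-- the action of `s w†` -/
lemma vv_mulVec {κ : Type} [Fintype κ] (s w v : κ → F) : vv q s w *ᵥ v = hv q v w • s := by
  unfold vv
  rw [Matrix.vecMulVec_mulVec, Cfsg.Agent.Lib.Helper20.UT.hv_eq_dot]
  ext i
  simp [mul_comm]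

/-- two matrices with the same action are equal -/
lemma mat_ext_mulVec {κ : Type} [Fintype κ] [DecidableEq κ] {A B : Matrix κ κ F} (h : ∀ v, A *ᵥ v = B *ᵥ v) :
    A = B := by
  apply Matrix.toLin'.injective
  apply LinearMap.ext
  intro v
  simpa [Matrix.toLin'_apply] using h v

/-- T8 -/
theorem RG_move (hF : Fintype.card F = q ^ 2) (X : Subgroup (GL (Idx t k) F)) (hX : X ≤ GUV t k q F)
    (g : GL (Idx t k) F) (hg : g ∈ X) (s : Idx t k → F) (hs : RG q X s) : RG q X (mv g s) := by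
  intro c hc
  obtain ⟨u, huX, huv⟩ := hs c hc
  refine ⟨g * u * g⁻¹, X.mul_mem (X.mul_mem hg huX) (X.inv_mem hg), ?_⟩
  have hgU := mem_GUV.1 (hX hg)
  have hgi : (g : Matrix (Idx t k) (Idx t k) F) * ((g⁻¹ : GL (Idx t k) F) : Matrix (Idx t k) (Idx t k) F) = 1 := by
    rw [← Units.val_mul, mul_inv_cancel, Units.val_one]
  rw [Units.val_mul, Units.val_mul, huv, mul_add, add_mul, mul_one, hgi, Matrix.mul_smul, Matrix.smul_mul]
  congr 2
  apply mat_ext_mulVec
  intro v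
  rw [← Matrix.mulVec_mulVec, ← Matrix.mulVec_mulVec, vv_mulVec, vv_mulVec, Matrix.mulVec_smul]
  have e : hv q (((g⁻¹ : GL (Idx t k) F) : Matrix (Idx t k) (Idx t k) F) *ᵥ v) s = hv q v (mv g s) := by
    have := hgU (((g⁻¹ : GL (Idx t k) F) : Matrix (Idx t k) (Idx t k) F) *ᵥ v) s
    rw [← this]
    congr 1
    unfold mv
    rw [Matrix.mulVec_mulVec, hgi, Matrix.one_mulVec]
  rw [e]
  rfl



/-- a hyperbolic pair of `F^k` (`k ≥ 2`) for the standard hermitian form -/
theorem exists_hyp_pair (hF : Fintype.card F = q ^ 2) (hk : 2 ≤ k) :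
    ∃ e e' : Fin k → F, e ≠ 0 ∧ e' ≠ 0 ∧ hv q e e = 0 ∧ hv q e' e' = 0 ∧ hv q e e' = 1 ∧ hv q e' e = 1 := by
  have hf := Cfsg.Agent.Lib.Helper20.UT.hv_unitary (n := k) hF
  have hd : 2 ≤ Module.finrank F (⊤ : Submodule F (Fin k → F)) := by
    rw [finrank_top, Module.finrank_fin_fun]; exact hk
  obtain ⟨y₁, -, y₂, -, h11, h22, h12⟩ :=
    Cfsg.Agent.Lib.Helper5.UForm.exists_hyp hf (Cfsg.Agent.Lib.Helper5.UForm.ND_top hf) hd
  have h21 : hv q y₂ y₁ = 1 := by
    rw [← Cfsg.Agent.Lib.Helper20.UT.hv_conj hF, h12, one_pow]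
  refine ⟨y₁, y₂, ?_, ?_, h11, h22, h12, h21⟩
  · rintro rfl
    rw [Cfsg.Agent.Lib.Helper20.UT.hv_zero_left] at h12
    exact zero_ne_one h12
  · rintro rfl
    rw [Cfsg.Agent.Lib.Helper20.UT.hv_zero_left] at h21
    exact zero_ne_one h21

/-- T12 -/
theorem exists_iso_ne_zero (hF : Fintype.card F = q ^ 2) (hk : 2 ≤ k) :
    ∃ x : Fin k → F, x ≠ 0 ∧ hv q x x = 0 := by
  obtain ⟨e, -, he, -, hee, -, -, -⟩ := exists_hyp_pair (k := k) hF hk
  exact ⟨e, he, hee⟩

end Cfsg.Agent.Lib.Helper19.TWU3Leaf
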