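import Cfsg.Agent.Lib.Helper19.CentAlg
import Cfsg.Prelude.Def_Perm
import Cfsg.Agent.Lib.Lead.CharCount
import Cfsg.Agent.Lib.Lead.CharBurnside
import Cfsg.Agent.Lib.Lead.PermChar

set_option autoImplicit false

namespace Cfsg.Agent.Lib.Helper19.CentAlg

open Cfsg Cfsg.Agent.CharLib Representation Module LinearMap
open scoped ComplexConjugate

section repgen

universe u v

variable {G : Type u} [Group G] [Fintype G]

theorem opT_finset_sum {ι : Type*} (s : Finset ι) (f : ι → G → ℂ) {V : Type*} [AddCommGroup V]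
    [Module ℂ V] (ρ : Representation ℂ G V) :
    opT (∑ i ∈ s, f i) ρ = ∑ i ∈ s, opT (f i) ρ := by
  unfold opT
  rw [Finset.sum_comm]
  apply Finset.sum_congr rfl
  intro g _
  rw [Finset.sum_apply, Finset.sum_smul]

/-- the idempotents sum to the identity -/
theorem sum_opT_eFun [Fintype (IrrCharacter G)] {V : Type*} [AddCommGroup V] [Module ℂ V]
    (ρ : Representation ℂ G V) :
    ∑ χ : IrrCharacter G, opT (eFun (χ : G → ℂ)) ρ = LinearMap.id := by
  classical
  rw [← opT_finset_sum]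
  have h1 : (∑ χ : IrrCharacter G, eFun (χ : G → ℂ)) = fun g => if g = 1 then (1 : ℂ) else 0 := by
    funext g
    rw [Finset.sum_apply]
    have h2 := delta_one_eq_sum_irr (G := G) g⁻¹
    have h3 : (if g = 1 then (1 : ℂ) else 0) = if g⁻¹ = 1 then (1 : ℂ) else 0 := by
      simp only [inv_eq_one]
    rw [h3, h2, Finset.mul_sum]
    apply Finset.sum_congr rfl
    intro χ _
    simp only [eFun]
    rw [IsCharacter.apply_inv (IsIrrCharacter.isCharacter χ.2)]
    ring
  rw [h1]
  unfold opT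
  rw [Finset.sum_eq_single 1]
  · simp
    rfl
  · intro g _ hg
    simp [hg]
  · intro h
    exact absurd (Finset.mem_univ _) h

/-- the idempotent of a non-constituent vanishes -/
theorem opT_eFun_eq_zero {χ : G → ℂ} (hχ : IsIrrCharacter G χ)
    {V : Type v} [AddCommGroup V] [Module ℂ V] [FiniteDimensional ℂ V] (ρ : Representation ℂ G V)
    (h0 : classInner ρ.character χ = 0) : opT (eFun χ) ρ = 0 := by
  have hcl := eFun_isClassFunction (IsIrrCharacter.isCharacter hχ)
  revert h0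
  refine rep_induction (G := G)
    (fun V _ _ _ ρ => classInner ρ.character χ = 0 → opT (eFun χ) ρ = 0) ?_ ?_ ?_ V ρ
  · intro V _ _ _ ρ hV _
    exact Subsingleton.elim _ _
  · intro V _ _ _ ρ hirr h0
    have := hirr
    apply opT_eq_zero_of_irreducible hcl ρ
    have : ∑ g : G, eFun χ g * ρ.character g = χ 1 * classInner ρ.character χ := by
      rw [classInner]
      simp only [eFun]
      rw [Finset.mul_sum, Finset.mul_sum]
      apply Finset.sum_congr rfl
      intro g _
      ring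
    rw [this, h0, mul_zero]
  · intro V _ _ _ ρ W W' hc hW hW' h0
    rw [character_eq_add_of_isCompl hc, classInner_add_left] at h0
    obtain ⟨m, hm⟩ := IsCharacter.classInner_nat (isCharacter_of_rep W.toRepresentation)
      (IsIrrCharacter.isCharacter hχ)
    obtain ⟨m', hm'⟩ := IsCharacter.classInner_nat (isCharacter_of_rep W'.toRepresentation)
      (IsIrrCharacter.isCharacter hχ)
    rw [hm, hm'] at h0
    have h00 : m + m' = 0 := by exact_mod_cast h0
    have hm0 : m = 0 := by omega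
    have hm0' : m' = 0 := by omega
    rw [hm0, Nat.cast_zero] at hm
    rw [hm0', Nat.cast_zero] at hm'
    have hW0 := hW hm
    have hW0' := hW' hm'
    have hcs := subrep_isCompl_toSubmodule hc
    ext v
    obtain ⟨w, w', rfl⟩ : ∃ (w : W.toSubmodule) (w' : W'.toSubmodule), (w : V) + w' = v := by
      have : v ∈ W.toSubmodule ⊔ W'.toSubmodule := by rw [hcs.sup_eq_top]; trivial
      obtain ⟨a, ha, b, hb, rfl⟩ := Submodule.mem_sup.mp this
      exact ⟨⟨a, ha⟩, ⟨b, hb⟩, rfl⟩
    have h1 : opT (eFun χ) ρ (w : V) = ((opT (eFun χ) W.toRepresentation w : W.toSubmodule) : V) := by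
      simp only [opT_apply, Submodule.coe_sum, Submodule.coe_smul]
      rfl
    have h2 : opT (eFun χ) ρ (w' : V) =
        ((opT (eFun χ) W'.toRepresentation w' : W'.toSubmodule) : V) := by
      simp only [opT_apply, Submodule.coe_sum, Submodule.coe_smul]
      rfl
    rw [map_add, h1, h2, hW0, hW0']
    simp

end repgen

section perm

set_option linter.unusedSectionVars false

variable {G : Type*} [Group G] [Fintype G] {Ω : Type*} [Fintype Ω] [DecidableEq Ω] [MulAction G Ω]

/-- character of `permRep` -/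
theorem permRep_character (g : G) :
    (permRep ℂ G Ω).character g = (Nat.card (MulAction.fixedBy Ω g) : ℂ) := by
  unfold Representation.character
  rw [LinearMap.trace_eq_matrix_trace ℂ (Pi.basisFun ℂ Ω), Matrix.trace]
  have : ∀ x : Ω, (LinearMap.toMatrix (Pi.basisFun ℂ Ω) (Pi.basisFun ℂ Ω)
      (permRep ℂ G Ω g)).diag x = if g • x = x then 1 else 0 := by
    intro x
    simp only [Matrix.diag_apply, LinearMap.toMatrix_apply, Pi.basisFun_apply, Pi.basisFun_repr]
    show (Pi.single x (1 : ℂ) : Ω → ℂ) (g⁻¹ • x) = _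
    rw [Pi.single_apply]
    congr 1
    rw [eq_iff_iff, inv_smul_eq_iff, eq_comm]
  rw [Finset.sum_congr rfl (fun x _ => this x), Finset.sum_boole, Nat.card_eq_fintype_card]
  congr 1
  rw [Fintype.card_subtype]
  rfl

/-- adjacency matrix of a relation -/
def adjMat (R : Ω → Ω → Prop) [DecidableRel R] : Matrix Ω Ω ℤ := fun x y => if R x y then 1 else 0

/-- adjacency operator of a relation -/
noncomputable def adjEnd (R : Ω → Ω → Prop) [DecidableRel R] : Module.End ℂ (Ω → ℂ) :=
  Matrix.toLin' ((adjMat R).map (Int.cast : ℤ → ℂ))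

theorem adjEnd_apply (R : Ω → Ω → Prop) [DecidableRel R] (φ : Ω → ℂ) (x : Ω) :
    adjEnd R φ x = ∑ y, if R x y then φ y else 0 := by
  simp only [adjEnd, Matrix.toLin'_apply, Matrix.mulVec, dotProduct, Matrix.map_apply, adjMat]
  apply Finset.sum_congr rfl
  intro y _
  split_ifs <;> simp

theorem adjEnd_isIntegral (R : Ω → Ω → Prop) [DecidableRel R] : IsIntegral ℤ (adjEnd R) := by
  have h1 : IsIntegral ℤ (adjMat R) := Matrix.isIntegral _
  have h2 : IsIntegral ℤ ((Int.castRingHom ℂ).mapMatrix (adjMat R)) :=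
    h1.map ((Int.castRingHom ℂ).mapMatrix (m := Ω)).toIntAlgHom
  have h3 := h2.map ((Matrix.toLinAlgEquiv' (R := ℂ) (n := Ω)).toAlgHom.toRingHom.toIntAlgHom)
  exact h3

theorem adjEnd_trace (R : Ω → Ω → Prop) [DecidableRel R] (hirr : ∀ x, ¬ R x x) :
    trace ℂ _ (adjEnd R) = 0 := by
  rw [adjEnd, Matrix.trace_toLin'_eq, Matrix.trace]
  apply Finset.sum_eq_zero
  intro x _
  simp [adjMat, hirr x]

theorem adjEnd_commute (R : Ω → Ω → Prop) [DecidableRel R]
    (hinv : ∀ (g : G) x y, R (g • x) (g • y) ↔ R x y) (g : G) :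
    Commute (adjEnd R) (permRep ℂ G Ω g) := by
  apply LinearMap.ext
  intro φ
  funext x
  show adjEnd R (permRep ℂ G Ω g φ) x = permRep ℂ G Ω g (adjEnd R φ) x
  show adjEnd R (fun z => φ (g⁻¹ • z)) x = adjEnd R φ (g⁻¹ • x)
  rw [adjEnd_apply, adjEnd_apply]
  rw [← Equiv.sum_comp (MulAction.toPerm g : Equiv.Perm Ω)]
  apply Finset.sum_congr rfl
  intro y _
  simp only [MulAction.toPerm_apply, inv_smul_smul]
  have : R x (g • y) ↔ R (g⁻¹ • x) y := by
    rw [← hinv g (g⁻¹ • x) y, smul_inv_smul]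
  simp only [this]


theorem opT_permRep_apply (f : G → ℂ) (φ : Ω → ℂ) (x : Ω) :
    opT f (permRep ℂ G Ω) φ x = ∑ g : G, f g * φ (g⁻¹ • x) := by
  rw [opT_apply, Finset.sum_apply]
  rfl

/-- the averaging operator produces functions constant on orbits -/
theorem avg_smul (φ : Ω → ℂ) (h : G) (x : Ω) :
    opT (eFun (1 : G → ℂ)) (permRep ℂ G Ω) φ (h • x) =
      opT (eFun (1 : G → ℂ)) (permRep ℂ G Ω) φ x := by
  rw [opT_permRep_apply, opT_permRep_apply]
  rw [← Equiv.sum_comp (Equiv.mulLeft h)]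
  apply Finset.sum_congr rfl
  intro g _
  simp only [eFun, Equiv.coe_mulLeft, mul_inv_rev, mul_smul, inv_smul_smul, Pi.one_apply]

theorem adjEnd_comp_avg [MulAction.IsPretransitive G Ω] (R : Ω → Ω → Prop) [DecidableRel R]
    (d : ℕ) (hdeg : ∀ x, (Finset.univ.filter (fun y => R x y)).card = d) :
    adjEnd R ∘ₗ opT (eFun (1 : G → ℂ)) (permRep ℂ G Ω) =
      (d : ℂ) • opT (eFun (1 : G → ℂ)) (permRep ℂ G Ω) := by
  apply LinearMap.ext
  intro φ
  funext x
  rw [LinearMap.comp_apply, adjEnd_apply, LinearMap.smul_apply, Pi.smul_apply, smul_eq_mul]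
  have hconst : ∀ y, opT (eFun (1 : G → ℂ)) (permRep ℂ G Ω) φ y =
      opT (eFun (1 : G → ℂ)) (permRep ℂ G Ω) φ x := by
    intro y
    obtain ⟨h, rfl⟩ := MulAction.exists_smul_eq G x y
    exact avg_smul φ h x
  simp only [hconst]
  rw [← Finset.sum_filter, Finset.sum_const, hdeg x, nsmul_eq_mul]

/-- Burnside: the multiplicity of the trivial character in a transitive permutation character. -/
theorem classInner_perm_one [MulAction.IsPretransitive G Ω] [Nonempty Ω] :
    classInner (permRep ℂ G Ω).character (1 : G → ℂ) = 1 := by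
  rw [classInner]
  have h1 : ∑ g : G, (permRep ℂ G Ω).character g * conj ((1 : G → ℂ) g) =
      ∑ g : G, (Nat.card (MulAction.fixedBy Ω g) : ℂ) := by
    apply Finset.sum_congr rfl
    intro g _
    rw [permRep_character, Pi.one_apply, map_one, mul_one]
  rw [h1, sum_card_fixedBy]
  have h2 : Nat.card (MulAction.orbitRel.Quotient G Ω) = 1 := by
    rw [Nat.card_eq_one_iff_unique]
    constructor
    · rw [← MulAction.pretransitive_iff_subsingleton_quotient]
      infer_instance
    · obtain ⟨x⟩ := ‹Nonempty Ω›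
      exact ⟨Quotient.mk'' x⟩
  rw [h2, Nat.cast_one, one_mul, inv_mul_cancel₀ card_ne_zero_complex]

theorem trace_avg [MulAction.IsPretransitive G Ω] [Nonempty Ω] :
    trace ℂ _ (opT (eFun (1 : G → ℂ)) (permRep ℂ G Ω)) = 1 := by
  obtain ⟨m, hm, htr⟩ := trace_opT_eFun (permRep ℂ G Ω) (isIrrCharacter_one (G := G))
  rw [classInner_perm_one] at hm
  rw [htr, ← hm, Pi.one_apply, mul_one]

/-- **Divisibility of subdegrees**: if `f` divides the degrees of all nonprincipal constituents of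
a transitive permutation character, then `f` divides the valency of every invariant irreflexive
relation. -/
theorem dvd_valency [MulAction.IsPretransitive G Ω] [Nonempty Ω] (R : Ω → Ω → Prop)
    [DecidableRel R] (hinv : ∀ (g : G) x y, R (g • x) (g • y) ↔ R x y) (hirr : ∀ x, ¬ R x x)
    (d : ℕ) (hdeg : ∀ x, (Finset.univ.filter (fun y => R x y)).card = d) (f : ℕ)
    (hf : ∀ χ : G → ℂ, IsIrrCharacter G χ → χ ≠ (fun _ => 1) →
      classInner (permRep ℂ G Ω).character χ ≠ 0 → ∃ m : ℕ, χ 1 = (f : ℂ) * m) :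
    f ∣ d := by
  classical
  let _ := fintypeIrr G
  have hA := adjEnd_commute (G := G) R hinv
  have hint := adjEnd_isIntegral R
  -- each term
  have hterm : ∀ χ : IrrCharacter G, ∃ z : ℂ, IsIntegral ℤ z ∧
      trace ℂ _ (opT (eFun (χ : G → ℂ)) (permRep ℂ G Ω) ∘ₗ adjEnd R) =
        if (χ : G → ℂ) = 1 then (d : ℂ) else (f : ℂ) * z := by
    intro χ
    by_cases h1 : (χ : G → ℂ) = 1
    · refine ⟨0, isIntegral_zero, ?_⟩
      rw [if_pos h1, h1]
      have h2 := LinearMap.trace_mul_comm ℂ (opT (eFun (1 : G → ℂ)) (permRep ℂ G Ω)) (adjEnd R)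
      rw [Module.End.mul_eq_comp, Module.End.mul_eq_comp] at h2
      rw [h2, adjEnd_comp_avg (G := G) R d hdeg, map_smul, trace_avg, smul_eq_mul, mul_one]
    · by_cases h0 : classInner (permRep ℂ G Ω).character (χ : G → ℂ) = 0
      · refine ⟨0, isIntegral_zero, ?_⟩
        rw [if_neg h1, opT_eFun_eq_zero χ.2 _ h0, LinearMap.zero_comp, map_zero, mul_zero]
      · obtain ⟨m, hm⟩ := hf χ χ.2 h1 h0
        obtain ⟨z, hz, hzt⟩ := trace_comp_opT_eFun (permRep ℂ G Ω) (adjEnd R) hA hint χ.2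
        refine ⟨(m : ℂ) * z, ?_, ?_⟩
        · apply IsIntegral.mul _ hz
          have : IsIntegral ℤ (algebraMap ℤ ℂ (m : ℤ)) := isIntegral_algebraMap
          simpa using this
        · rw [if_neg h1, hzt, hm]
          ring
  choose z hz hzt using hterm
  -- sum of all terms = trace of A = 0
  have hsum : ∑ χ : IrrCharacter G,
      trace ℂ _ (opT (eFun (χ : G → ℂ)) (permRep ℂ G Ω) ∘ₗ adjEnd R) = 0 := by
    rw [← map_sum]
    have h1 : ∑ χ : IrrCharacter G, opT (eFun (χ : G → ℂ)) (permRep ℂ G Ω) ∘ₗ adjEnd R =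
        (∑ χ : IrrCharacter G, opT (eFun (χ : G → ℂ)) (permRep ℂ G Ω)) ∘ₗ adjEnd R := by
      simp only [← Module.End.mul_eq_comp]
      rw [Finset.sum_mul]
    rw [h1, sum_opT_eFun, LinearMap.id_comp, adjEnd_trace R hirr]
  simp only [hzt] at hsum
  let χ₁ : IrrCharacter G := ⟨1, isIrrCharacter_one⟩
  rw [← Finset.add_sum_erase _ _ (Finset.mem_univ χ₁)] at hsum
  rw [if_pos (show ((χ₁ : IrrCharacter G) : G → ℂ) = 1 from rfl)] at hsum
  have hrest : ∑ χ ∈ Finset.univ.erase χ₁, (if (χ : G → ℂ) = 1 then (d : ℂ) else (f : ℂ) * z χ) =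
      (f : ℂ) * ∑ χ ∈ Finset.univ.erase χ₁, z χ := by
    rw [Finset.mul_sum]
    apply Finset.sum_congr rfl
    intro χ hχ
    rw [if_neg]
    intro h
    exact (Finset.mem_erase.1 hχ).1 (Subtype.ext h)
  rw [hrest] at hsum
  -- d = f * (-w)
  obtain ⟨w, hw⟩ : ∃ w, w = ∑ χ ∈ Finset.univ.erase χ₁, z χ := ⟨_, rfl⟩
  rw [← hw] at hsum
  have hwint : IsIntegral ℤ w := by
    rw [hw]
    exact IsIntegral.sum _ (fun χ _ => hz χ)
  have hd : (d : ℂ) = (f : ℂ) * (-w) := by
    linear_combination hsum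
  rcases Nat.eq_zero_or_pos f with hf0 | hfpos
  · rw [hf0, Nat.cast_zero, zero_mul] at hd
    have : d = 0 := by exact_mod_cast hd
    rw [hf0, this]
  · have hfne : (f : ℂ) ≠ 0 := by exact_mod_cast hfpos.ne'
    have hq : -w = (((d : ℚ) / (f : ℚ) : ℚ) : ℂ) := by
      push_cast
      rw [hd]
      field_simp
    have h2 : IsIntegral ℤ ((d : ℚ) / (f : ℚ)) := by
      have h3 : IsIntegral ℤ (-w) := hwint.neg
      rw [hq] at h3
      exact (isIntegral_algebraMap_iff (algebraMap ℚ ℂ).injective (R := ℤ)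
        (x := ((d : ℚ) / (f : ℚ)))).mp h3
    obtain ⟨k, hk⟩ := IsIntegrallyClosed.isIntegral_iff.mp h2
    have hfq : (f : ℚ) ≠ 0 := by exact_mod_cast hfpos.ne'
    have h3 : (d : ℚ) = (f : ℚ) * (k : ℚ) := by
      have : (algebraMap ℤ ℚ) k = (k : ℚ) := rfl
      rw [this] at hk
      rw [hk]
      field_simp
    have h4 : (d : ℤ) = (f : ℤ) * k := by exact_mod_cast h3
    have h5 : (f : ℤ) ∣ (d : ℤ) := ⟨k, h4⟩
    exact_mod_cast h5


/-- the orbital relation of the pair `(a, b)` -/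
def orbitalRel (G : Type*) [Group G] {Ω : Type*} [MulAction G Ω] (a b : Ω) : Ω → Ω → Prop :=
  fun x y => ∃ g : G, g • a = x ∧ g • b = y

theorem orbitalRel_inv (a b : Ω) (g : G) (x y : Ω) :
    orbitalRel G a b (g • x) (g • y) ↔ orbitalRel G a b x y := by
  constructor
  · rintro ⟨h, h1, h2⟩
    refine ⟨g⁻¹ * h, ?_, ?_⟩
    · rw [mul_smul, h1, inv_smul_smul]
    · rw [mul_smul, h2, inv_smul_smul]
  · rintro ⟨h, rfl, rfl⟩
    exact ⟨g * h, mul_smul _ _ _, mul_smul _ _ _⟩

theorem orbitalRel_irrefl {a b : Ω} (hab : b ≠ a) (x : Ω) : ¬ orbitalRel G a b x x := by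
  rintro ⟨g, h1, h2⟩
  exact hab (smul_left_cancel g (h2.trans h1.symm))

open Classical in
theorem orbitalRel_card [MulAction.IsPretransitive G Ω] (a b : Ω) (x : Ω) :
    (Finset.univ.filter (fun y => orbitalRel G a b x y)).card =
      Nat.card (MulAction.orbit (MulAction.stabilizer G a) b) := by
  obtain ⟨g₀, rfl⟩ := MulAction.exists_smul_eq G a x
  rw [← Fintype.card_subtype, ← Nat.card_eq_fintype_card]
  symm
  apply Nat.card_congr
  refine Equiv.ofBijective (fun y => ⟨g₀ • (y : Ω), ?_⟩) ⟨?_, ?_⟩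
  · obtain ⟨y, ⟨h, rfl⟩⟩ := y
    refine ⟨g₀ * (h : G), ?_, ?_⟩
    · rw [mul_smul]
      congr 1
      exact h.2
    · rw [mul_smul]
      rfl
  · intro y y' hyy
    simp only [Subtype.mk.injEq] at hyy
    exact Subtype.ext (smul_left_cancel g₀ hyy)
  · rintro ⟨y', g, hg1, hg2⟩
    have hmem : g₀⁻¹ * g ∈ MulAction.stabilizer G a := by
      rw [MulAction.mem_stabilizer_iff, mul_smul, hg1, inv_smul_smul]
    refine ⟨⟨(⟨g₀⁻¹ * g, hmem⟩ : MulAction.stabilizer G a) • b, ⟨_, rfl⟩⟩, ?_⟩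
    apply Subtype.ext
    show g₀ • ((g₀⁻¹ * g) • b) = y'
    rw [mul_smul, smul_inv_smul, hg2]

/-- S0715 in library form. -/
theorem dvd_subdegree {G : Type*} [Group G] [Fintype G] {Ω : Type*} [Fintype Ω] [MulAction G Ω]
    [MulAction.IsPretransitive G Ω] (f : ℕ)
    (hf : ∀ χ : G → ℂ, IsIrrCharacter G χ → χ ≠ (fun _ => 1) →
      classInner (fun g : G => (Nat.card (MulAction.fixedBy Ω g) : ℂ)) χ ≠ 0 →
        ∃ m : ℕ, χ 1 = (f : ℂ) * m) (a b : Ω) (hab : b ≠ a) :
    f ∣ Nat.card (MulAction.orbit (MulAction.stabilizer G a) b) := by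
  classical
  have : Nonempty Ω := ⟨a⟩
  have hπ : (permRep ℂ G Ω).character = fun g : G => (Nat.card (MulAction.fixedBy Ω g) : ℂ) :=
    funext permRep_character
  apply dvd_valency (G := G) (orbitalRel G a b) (orbitalRel_inv a b) (orbitalRel_irrefl hab) _
    (fun x => orbitalRel_card a b x) f
  rw [hπ]
  exact hf

end perm

end Cfsg.Agent.Lib.Helper19.CentAlg
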