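import Mathlib
import Cfsg.Agent.Lib.Lead.PermChar
/-! A subgroup of index `n` in a 2-transitive group of degree `n` has at most two orbits. -/
set_option autoImplicit false
open Cfsg Cfsg.Agent.CharLib
open scoped ComplexConjugate
namespace Cfsg.Agent.Lib.Helper19
universe u v

section
variable {G : Type u} [Group G] {Ω : Type v} [MulAction G Ω]

/-- orbits of `G` on `(G ⧸ H) × Ω` correspond to orbits of `H` on `Ω`. -/
theorem card_orbits_quotient_prod (H : Subgroup G) :
    Nat.card (MulAction.orbitRel.Quotient G ((G ⧸ H) × Ω)) =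
      Nat.card (MulAction.orbitRel.Quotient H Ω) := by
  symm
  apply Nat.card_congr
  refine Equiv.ofBijective
    (Quotient.map' (fun ω => (((1 : G) : G ⧸ H), ω)) ?_) ⟨?_, ?_⟩
  · intro a b hab
    obtain ⟨h, hh⟩ := (MulAction.orbitRel_apply).mp hab
    apply (MulAction.orbitRel_apply).mpr
    refine ⟨(h : G), ?_⟩
    ext
    · show ((h : G) • ((1 : G) : G ⧸ H)) = _
      rw [MulAction.Quotient.smul_mk, smul_eq_mul, mul_one]
      rw [QuotientGroup.eq]
      simp
    · exact hh
  · intro a b
    induction a using Quotient.inductionOn' with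
    | h a =>
    induction b using Quotient.inductionOn' with
    | h b =>
    intro hab
    simp only [Quotient.map'_mk''] at hab
    have h3 := Quotient.exact' hab
    obtain ⟨g, hg⟩ := (MulAction.orbitRel_apply).mp h3
    apply Quotient.sound'
    apply (MulAction.orbitRel_apply).mpr
    have h1 := congrArg Prod.fst hg
    have h2 := congrArg Prod.snd hg
    simp only [Prod.smul_fst, Prod.smul_snd] at h1 h2
    rw [MulAction.Quotient.smul_mk, smul_eq_mul, mul_one, QuotientGroup.eq] at h1
    have hgH : g ∈ H := by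
      have := H.inv_mem h1
      simpa using this
    exact ⟨⟨g, hgH⟩, h2⟩
  · intro q
    induction q using Quotient.inductionOn' with
    | h q =>
    obtain ⟨c, ω⟩ := q
    induction c using QuotientGroup.induction_on with
    | H g =>
    refine ⟨Quotient.mk'' (g⁻¹ • ω), ?_⟩
    simp only [Quotient.map'_mk'']
    apply Quotient.sound'
    apply (MulAction.orbitRel_apply).mpr
    refine ⟨g⁻¹, ?_⟩
    ext
    · show g⁻¹ • ((g : G) : G ⧸ H) = _
      rw [MulAction.Quotient.smul_mk, smul_eq_mul, inv_mul_cancel]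
    · rfl

theorem card_fixedBy_prod' {X : Type*} {Y : Type*} [MulAction G X] [MulAction G Y] (g : G) :
    Nat.card (MulAction.fixedBy (X × Y) g) =
      Nat.card (MulAction.fixedBy X g) * Nat.card (MulAction.fixedBy Y g) := by
  rw [← Nat.card_prod]
  apply Nat.card_congr
  refine ⟨fun p => (⟨p.1.1, ?_⟩, ⟨p.1.2, ?_⟩), fun q => ⟨(q.1.1, q.2.1), ?_⟩, ?_, ?_⟩
  · have := p.2
    rw [MulAction.mem_fixedBy] at this ⊢
    exact congrArg Prod.fst this
  · have := p.2
    rw [MulAction.mem_fixedBy] at this ⊢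
    exact congrArg Prod.snd this
  · rw [MulAction.mem_fixedBy]
    have h1 := q.1.2
    have h2 := q.2.2
    rw [MulAction.mem_fixedBy] at h1 h2
    ext
    · exact h1
    · exact h2
  · intro p; rfl
  · intro q; rfl

end

/-- A subgroup whose index equals the degree of a 2-transitive group has at most two orbits. -/
theorem card_orbits_le_two_of_index_eq_degree {G : Type u} {Ω : Type v} [Group G] [Finite G]
    [MulAction G Ω] [Finite Ω] (h2 : MulAction.IsMultiplyPretransitive G Ω 2) (H : Subgroup G)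
    (hidx : H.index = Nat.card Ω) (hn : 2 ≤ Nat.card Ω) :
    Nat.card (MulAction.orbitRel.Quotient H Ω) ≤ 2 := by
  classical
  let _ := Fintype.ofFinite G
  have hG : (Nat.card G : ℂ) ≠ 0 := card_ne_zero_complex
  haveI : MulAction.IsPretransitive G Ω := MulAction.isPretransitive_of_is_two_pretransitive
  have hne : Nonempty Ω := by
    have : 0 < Nat.card Ω := by omega
    exact (Nat.card_pos_iff.mp this).1
  set πΩ : G → ℂ := fun g => (Nat.card (MulAction.fixedBy Ω g) : ℂ) with hπΩ
  set πΔ : G → ℂ := fun g => (Nat.card (MulAction.fixedBy (G ⧸ H) g) : ℂ) with hπΔ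
  have hcΩ : IsCharacter G πΩ := isCharacter_card_fixedBy
  have hcΔ : IsCharacter G πΔ := isCharacter_card_fixedBy
  have hχ : IsIrrCharacter G (πΩ - 1) := (isIrrCharacter_card_fixedBy_sub_one_iff hn).mpr h2
  set r := Nat.card (MulAction.orbitRel.Quotient H Ω) with hr
  -- number of orbits
  have horbΩ : Nat.card (MulAction.orbitRel.Quotient G Ω) = 1 := by
    have : Unique (MulAction.orbitRel.Quotient G Ω) :=
      (MulAction.pretransitive_iff_unique_quotient_of_nonempty G Ω).mp inferInstance |>.some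
    exact Nat.card_unique
  have horbΔ : Nat.card (MulAction.orbitRel.Quotient G (G ⧸ H)) = 1 := by
    have : Unique (MulAction.orbitRel.Quotient G (G ⧸ H)) :=
      (MulAction.pretransitive_iff_unique_quotient_of_nonempty G (G ⧸ H)).mp inferInstance |>.some
    exact Nat.card_unique
  have hfinΔ : Finite (G ⧸ H) := inferInstance
  have hsumΩ : ∑ g : G, πΩ g = (Nat.card G : ℂ) := by
    rw [sum_card_fixedBy, horbΩ]; simp
  have hsumΔ : ∑ g : G, πΔ g = (Nat.card G : ℂ) := by
    rw [sum_card_fixedBy, horbΔ]; simp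
  have hsumΔΩ : ∑ g : G, πΔ g * πΩ g = (r : ℂ) * (Nat.card G : ℂ) := by
    rw [hr, ← card_orbits_quotient_prod (Ω := Ω) H, ← sum_card_fixedBy]
    apply Finset.sum_congr rfl
    intro g _
    rw [card_fixedBy_prod']
    push_cast
    rfl
  have hr1 : 1 ≤ r := by
    have : Nonempty (MulAction.orbitRel.Quotient H Ω) := (nonempty_quotient_iff _).mpr hne
    exact Nat.card_pos
  obtain ⟨m, hm⟩ : ∃ m : ℕ, r = m + 1 := ⟨r - 1, by omega⟩
  have hconjΩ : ∀ g : G, conj (πΩ g) = πΩ g := fun g => Complex.conj_natCast _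
  -- inner products
  have hΔ1 : classInner πΔ 1 = 1 := by
    simp only [classInner, Pi.one_apply, map_one, mul_one]
    rw [hsumΔ, inv_mul_cancel₀ hG]
  have hΩ1 : classInner πΩ 1 = 1 := by
    simp only [classInner, Pi.one_apply, map_one, mul_one]
    rw [hsumΩ, inv_mul_cancel₀ hG]
  have hΔχ : classInner πΔ (πΩ - 1) = (m : ℂ) := by
    simp only [classInner, Pi.sub_apply, Pi.one_apply, map_sub, map_one, hconjΩ]
    have : ∑ g : G, πΔ g * (πΩ g - 1) = ∑ g : G, πΔ g * πΩ g - ∑ g : G, πΔ g := by
      rw [← Finset.sum_sub_distrib]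
      apply Finset.sum_congr rfl
      intro g _
      ring
    rw [this, hsumΔΩ, hsumΔ, hm]
    push_cast
    field_simp
    ring
  have hχ1 : classInner (πΩ - 1) 1 = 0 := by
    rw [classInner_sub_left, hΩ1, classInner_irr (isIrrCharacter_one (G := G)) isIrrCharacter_one,
      if_pos rfl, sub_self]
  have hχne : (πΩ - 1 : G → ℂ) ≠ 1 := by
    intro h
    rw [h, classInner_irr (isIrrCharacter_one (G := G)) isIrrCharacter_one, if_pos rfl] at hχ1
    exact one_ne_zero hχ1
  -- the remainder is a character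
  have hchar : IsCharacter G (πΔ - 1 - (m : ℂ) • (πΩ - 1)) := by
    apply isCharacter_of_classInner_nat
    · exact IsClassFunction.sub (IsClassFunction.sub (IsCharacter.isClassFunction hcΔ)
        (IsCharacter.isClassFunction isCharacter_one))
        (IsClassFunction.smul _ (IsClassFunction.sub (IsCharacter.isClassFunction hcΩ)
        (IsCharacter.isClassFunction isCharacter_one)))
    · intro φ
      rw [classInner_sub_left, classInner_sub_left, classInner_smul_left,
        classInner_irr (isIrrCharacter_one (G := G)) φ.2, classInner_irr hχ φ.2]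
      by_cases h1 : (1 : G → ℂ) = (φ : G → ℂ)
      · have h3 : ¬ ((πΩ - 1 : G → ℂ) = (φ : G → ℂ)) := fun h => hχne (h.trans h1.symm)
        rw [if_pos h1, if_neg h3, ← h1, hΔ1]
        exact ⟨0, by simp⟩
      · rw [if_neg h1]
        by_cases h3 : (πΩ - 1 : G → ℂ) = (φ : G → ℂ)
        · rw [if_pos h3, ← h3, hΔχ]
          exact ⟨0, by simp⟩
        · rw [if_neg h3]
          obtain ⟨k, hk⟩ := IsCharacter.classInner_nat hcΔ (IsIrrCharacter.isCharacter φ.2)
          exact ⟨k, by rw [hk]; simp⟩
  obtain ⟨k, hk⟩ := IsCharacter.apply_one hchar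
  have hfix1Ω : Nat.card (MulAction.fixedBy Ω (1 : G)) = Nat.card Ω := by
    rw [MulAction.fixedBy_one_eq_univ]
    exact Nat.card_congr (Equiv.Set.univ Ω)
  have hfix1Δ : Nat.card (MulAction.fixedBy (G ⧸ H) (1 : G)) = Nat.card Ω := by
    rw [MulAction.fixedBy_one_eq_univ, ← hidx]
    exact Nat.card_congr (Equiv.Set.univ _)
  simp only [Pi.sub_apply, Pi.smul_apply, Pi.one_apply, hπΩ, hπΔ, hfix1Ω, hfix1Δ, smul_eq_mul] at hk
  obtain ⟨n', hn'⟩ : ∃ n' : ℕ, Nat.card Ω = n' + 1 := ⟨Nat.card Ω - 1, by omega⟩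
  rw [hn'] at hk
  have hk' : (n' : ℂ) = (m * n' + k : ℕ) := by
    push_cast at hk ⊢
    linear_combination hk
  have hk'' : n' = m * n' + k := by exact_mod_cast hk'
  have hn'1 : 1 ≤ n' := by omega
  have : m ≤ 1 := by
    by_contra hcon
    push Not at hcon
    have : 2 * n' ≤ m * n' := Nat.mul_le_mul_right n' hcon
    omega
  omega

end Cfsg.Agent.Lib.Helper19
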