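import Mathlib
import Cfsg.Agent.Lib.Helper19.CentAlgPerm
import Cfsg.Agent.Lib.Helper19.PermCharTwo
/-! Rank, multiplicities and subdegrees of a transitive permutation character (S0716). -/
set_option autoImplicit false
open Cfsg Cfsg.Agent.CharLib
open scoped ComplexConjugate

namespace Cfsg.Agent.Lib.Helper19.CentAlgRank

/-- arithmetic core of part (a). -/
theorem arith_a {I Q : Type*} [Fintype I] [Fintype Q] [DecidableEq I] [DecidableEq Q]
    (m d : I → ℕ) (s : Q → ℕ) (i₁ : I) (q₀ : Q) (n : ℕ)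
    (hm1 : m i₁ = 1) (hd1 : d i₁ = 1) (hs0 : s q₀ = 1) (hspos : ∀ q, 0 < s q)
    (hsum2 : ∑ i, m i ^ 2 = Fintype.card Q) (hsumd : ∑ i, m i * d i = n) (hsums : ∑ q, s q = n)
    (f : ℕ) (hf : ∀ i, i ≠ i₁ → m i ≠ 0 → d i = f) (hdvd : ∀ q, q ≠ q₀ → f ∣ s q) :
    (∀ i, m i ≤ 1) ∧ ∀ q, q ≠ q₀ → s q = f := by
  classical
  -- split off distinguished elements
  have e1 : ∑ i, m i * d i = 1 + f * ∑ i ∈ Finset.univ.erase i₁, m i := by
    rw [← Finset.add_sum_erase _ _ (Finset.mem_univ i₁), hm1, hd1, Finset.mul_sum]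
    congr 1
    apply Finset.sum_congr rfl
    intro i hi
    have hi' : i ≠ i₁ := Finset.ne_of_mem_erase hi
    by_cases h0 : m i = 0
    · rw [h0]; simp
    · rw [hf i hi' h0, mul_comm]
  have e2 : ∑ q, s q = 1 + ∑ q ∈ Finset.univ.erase q₀, s q := by
    rw [← Finset.add_sum_erase _ _ (Finset.mem_univ q₀), hs0]
  have e3 : ∑ i, m i ^ 2 = 1 + ∑ i ∈ Finset.univ.erase i₁, m i ^ 2 := by
    rw [← Finset.add_sum_erase _ _ (Finset.mem_univ i₁), hm1, one_pow]
  have e4 : Fintype.card Q = 1 + (Finset.univ.erase q₀).card := by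
    rw [Finset.card_erase_of_mem (Finset.mem_univ q₀), Finset.card_univ]
    have : 0 < Fintype.card Q := Fintype.card_pos_iff.mpr ⟨q₀⟩
    omega
  have hle_s : ∀ q ∈ Finset.univ.erase q₀, f ≤ s q := by
    intro q hq
    exact Nat.le_of_dvd (hspos q) (hdvd q (Finset.ne_of_mem_erase hq))
  have hS : (Finset.univ.erase q₀).card * f ≤ ∑ q ∈ Finset.univ.erase q₀, s q := by
    rw [← smul_eq_mul, ← Finset.sum_const]
    exact Finset.sum_le_sum hle_s
  have hle_m : ∀ i ∈ Finset.univ.erase i₁, m i ≤ m i ^ 2 := by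
    intro i _
    rcases Nat.eq_zero_or_pos (m i) with h | h
    · rw [h]; simp
    · nlinarith
  have hM : ∑ i ∈ Finset.univ.erase i₁, m i ≤ ∑ i ∈ Finset.univ.erase i₁, m i ^ 2 :=
    Finset.sum_le_sum hle_m
  set M1 := ∑ i ∈ Finset.univ.erase i₁, m i with hM1
  set M2 := ∑ i ∈ Finset.univ.erase i₁, m i ^ 2 with hM2
  set S := ∑ q ∈ Finset.univ.erase q₀, s q with hSdef
  set k := (Finset.univ.erase q₀).card with hk
  have h5 : M2 = k := by omega
  have h6 : f * M1 = S := by omega
  rcases Nat.eq_zero_or_pos f with hf0 | hfpos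
  · -- no q ≠ q₀
    have hnoq : ∀ q, q = q₀ := by
      intro q
      by_contra hq
      have := hdvd q hq
      rw [hf0, zero_dvd_iff] at this
      have := hspos q
      omega
    have hk0 : k = 0 := by
      rw [hk, Finset.card_eq_zero]
      ext q
      simp [hnoq q]
    constructor
    · intro i
      by_cases hi : i = i₁
      · rw [hi, hm1]
      · have hmem : i ∈ Finset.univ.erase i₁ := Finset.mem_erase.mpr ⟨hi, Finset.mem_univ _⟩
        have : m i ^ 2 ≤ M2 := Finset.single_le_sum (f := fun i => m i ^ 2) (fun _ _ => Nat.zero_le _) hmem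
        have h0 : m i ^ 2 = 0 := by omega
        have : m i = 0 := by simpa using h0
        omega
    · intro q hq
      exact absurd (hnoq q) hq
  · have h7 : f * M2 ≤ f * M1 := by
      rw [h6, h5, mul_comm]; exact hS
    have h8 : M2 ≤ M1 := Nat.le_of_mul_le_mul_left h7 hfpos
    have h9 : M1 = M2 := le_antisymm hM h8
    have h10 := (Finset.sum_eq_sum_iff_of_le hle_m).mp h9
    have h11 : k * f = S := by
      rw [← h6, h9, h5, mul_comm]
    have h12 : ∑ q ∈ Finset.univ.erase q₀, f = ∑ q ∈ Finset.univ.erase q₀, s q := by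
      rw [Finset.sum_const, smul_eq_mul]; exact h11
    have h13 := (Finset.sum_eq_sum_iff_of_le hle_s).mp h12
    constructor
    · intro i
      by_cases hi : i = i₁
      · rw [hi, hm1]
      · have hmem : i ∈ Finset.univ.erase i₁ := Finset.mem_erase.mpr ⟨hi, Finset.mem_univ _⟩
        have := h10 i hmem
        by_contra hgt
        push Not at hgt
        nlinarith
    · intro q hq
      exact (h13 q (Finset.mem_erase.mpr ⟨hq, Finset.mem_univ _⟩)).symm

/-- arithmetic core of part (b). -/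
theorem arith_b {I Q : Type*} [Fintype I] [Fintype Q] [DecidableEq I] [DecidableEq Q]
    (m d : I → ℕ) (s : Q → ℕ) (i₁ : I) (q₀ : Q) (n : ℕ)
    (hm1 : m i₁ = 1) (hd1 : d i₁ = 1) (hs0 : s q₀ = 1) (hspos : ∀ q, 0 < s q)
    (hsum2 : ∑ i, m i ^ 2 = Fintype.card Q) (hsumd : ∑ i, m i * d i = n) (hsums : ∑ q, s q = n)
    (hr : Fintype.card Q ≤ 5)
    (H : ∀ f : ℕ, (∀ i, i ≠ i₁ → m i ≠ 0 → d i = f) → ∀ q, q ≠ q₀ → f ∣ s q) :
    ∀ i, m i ≤ 1 := by
  classical
  by_contra hcon
  push Not at hcon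
  obtain ⟨i₀, hi₀⟩ := hcon
  have hne : i₀ ≠ i₁ := by
    intro h; rw [h, hm1] at hi₀; omega
  have hothers : ∀ j, j ≠ i₁ → j ≠ i₀ → m j = 0 := by
    intro j hj1 hj0
    have hsub : ({i₁, i₀, j} : Finset I) ⊆ Finset.univ := Finset.subset_univ _
    have h1 := Finset.sum_le_sum_of_subset (f := fun i => m i ^ 2) hsub
    rw [Finset.sum_insert (by simp [hne.symm, hj1.symm]), Finset.sum_insert (by simp [hj0.symm]),
      Finset.sum_singleton, hm1, hsum2] at h1
    have : m j ^ 2 = 0 := by nlinarith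
    simpa using this
  have hf : ∀ i, i ≠ i₁ → m i ≠ 0 → d i = d i₀ := by
    intro i hi hmi
    by_cases h : i = i₀
    · rw [h]
    · exact absurd (hothers i hi h) hmi
  have := (arith_a m d s i₁ q₀ n hm1 hd1 hs0 hspos hsum2 hsumd hsums (d i₀) hf (H _ hf)).1 i₀
  omega

section
variable {G : Type*} [Group G] {Ω : Type*} [MulAction G Ω]

/-- orbitals of a transitive group correspond to suborbits. -/
theorem card_orbitals [MulAction.IsPretransitive G Ω] (a : Ω) :
    Nat.card (MulAction.orbitRel.Quotient G (Ω × Ω)) =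
      Nat.card (MulAction.orbitRel.Quotient (MulAction.stabilizer G a) Ω) := by
  symm
  apply Nat.card_congr
  refine Equiv.ofBijective
    (Quotient.map' (fun ω => (a, ω)) ?_) ⟨?_, ?_⟩
  · intro x y hxy
    obtain ⟨h, hh⟩ := (MulAction.orbitRel_apply).mp hxy
    apply (MulAction.orbitRel_apply).mpr
    refine ⟨(h : G), ?_⟩
    ext
    · exact h.2
    · exact hh
  · intro x y
    induction x using Quotient.inductionOn' with
    | h x =>
    induction y using Quotient.inductionOn' with
    | h y =>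
    intro hxy
    simp only [Quotient.map'_mk''] at hxy
    have h3 := Quotient.exact' hxy
    obtain ⟨g, hg⟩ := (MulAction.orbitRel_apply).mp h3
    apply Quotient.sound'
    apply (MulAction.orbitRel_apply).mpr
    have h1 := congrArg Prod.fst hg
    have h2 := congrArg Prod.snd hg
    simp only [Prod.smul_fst, Prod.smul_snd] at h1 h2
    exact ⟨⟨g, h1⟩, h2⟩
  · intro q
    induction q using Quotient.inductionOn' with
    | h q =>
    obtain ⟨x, y⟩ := q
    obtain ⟨g, hg⟩ := MulAction.exists_smul_eq G x a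
    refine ⟨Quotient.mk'' (g • y), ?_⟩
    simp only [Quotient.map'_mk'']
    apply Quotient.sound'
    apply (MulAction.orbitRel_apply).mpr
    refine ⟨g, ?_⟩
    ext
    · exact hg
    · rfl

end

section
variable {G : Type*} [Group G] [Fintype G] {Ω : Type*} [Fintype Ω] [MulAction G Ω]

/-- `⟨π, π⟩` is the rank. -/
theorem classInner_perm_self [MulAction.IsPretransitive G Ω] (a : Ω) :
    classInner (fun g : G => (Nat.card (MulAction.fixedBy Ω g) : ℂ))
      (fun g : G => (Nat.card (MulAction.fixedBy Ω g) : ℂ)) =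
      (Nat.card (MulAction.orbitRel.Quotient (MulAction.stabilizer G a) Ω) : ℂ) := by
  rw [classInner]
  have h1 : ∑ g : G, (Nat.card (MulAction.fixedBy Ω g) : ℂ) *
      conj ((Nat.card (MulAction.fixedBy Ω g) : ℂ)) =
      ∑ g : G, (Nat.card (MulAction.fixedBy (Ω × Ω) g) : ℂ) := by
    apply Finset.sum_congr rfl
    intro g _
    rw [card_fixedBy_prod, map_natCast, Nat.cast_mul]
  rw [h1, sum_card_fixedBy, card_orbitals a, mul_comm, mul_assoc,
    mul_inv_cancel₀ card_ne_zero_complex, mul_one]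

/-- multiplicities and degrees of the constituents of a transitive permutation character. -/
theorem exists_mult [Fintype (IrrCharacter G)] [MulAction.IsPretransitive G Ω] (a : Ω) :
    ∃ (m d : IrrCharacter G → ℕ),
      (∀ χ : IrrCharacter G,
        classInner (fun g : G => (Nat.card (MulAction.fixedBy Ω g) : ℂ)) (χ : G → ℂ) = m χ) ∧
      (∀ χ : IrrCharacter G, (χ : G → ℂ) 1 = d χ) ∧ (∀ χ, 0 < d χ) ∧
      ∑ χ, m χ ^ 2 = Nat.card (MulAction.orbitRel.Quotient (MulAction.stabilizer G a) Ω) ∧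
      ∑ χ, m χ * d χ = Fintype.card Ω := by
  classical
  set π : G → ℂ := fun g : G => (Nat.card (MulAction.fixedBy Ω g) : ℂ) with hπ
  have hπc : IsCharacter G π := isCharacter_card_fixedBy
  have hm : ∀ χ : IrrCharacter G, ∃ n : ℕ, classInner π (χ : G → ℂ) = n := fun χ =>
    IsCharacter.classInner_nat hπc (IsIrrCharacter.isCharacter χ.2)
  choose m hm using hm
  have hd : ∀ χ : IrrCharacter G, ∃ n : ℕ, 0 < n ∧ (χ : G → ℂ) 1 = n := fun χ =>
    IsIrrCharacter.apply_one_pos χ.2
  choose d hdpos hd using hd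
  have hexp := classFunction_eq_sum (IsCharacter.isClassFunction hπc)
  refine ⟨m, d, hm, hd, hdpos, ?_, ?_⟩
  · have h1 : classInner π π = ∑ χ : IrrCharacter G, (m χ : ℂ) * (m χ : ℂ) := by
      have h0 : classInner π π = classInner (∑ χ : IrrCharacter G, classInner π (χ : G → ℂ) • (χ : G → ℂ)) π :=
        congrArg (fun x => classInner x π) hexp
      rw [h0, classInner_sum_left]
      apply Finset.sum_congr rfl
      intro χ _
      rw [classInner_smul_left, ← classInner_conj_symm π, hm, map_natCast]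
    rw [classInner_perm_self a] at h1
    have h2 : ((∑ χ, m χ ^ 2 : ℕ) : ℂ) =
        (Nat.card (MulAction.orbitRel.Quotient (MulAction.stabilizer G a) Ω) : ℂ) := by
      rw [h1]; push_cast
      apply Finset.sum_congr rfl
      intro χ _; ring
    exact_mod_cast h2
  · have h1 : π 1 = (Fintype.card Ω : ℂ) := by
      show ((Nat.card (MulAction.fixedBy Ω (1 : G)) : ℕ) : ℂ) = _
      rw [MulAction.fixedBy_one_eq_univ, Nat.card_coe_set_eq, Set.ncard_univ, Nat.card_eq_fintype_card]
    have h2 : π 1 = ∑ χ : IrrCharacter G, (m χ : ℂ) * (d χ : ℂ) := by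
      have h0 := congrFun hexp 1
      rw [h0, Finset.sum_apply]
      apply Finset.sum_congr rfl
      intro χ _
      rw [Pi.smul_apply, smul_eq_mul, hm, hd]
    rw [h1] at h2
    have h3 : ((∑ χ, m χ * d χ : ℕ) : ℂ) = (Fintype.card Ω : ℂ) := by
      rw [h2]; push_cast; rfl
    exact_mod_cast h3


/-- sizes of suborbits sum to the degree. -/
theorem sum_card_suborbits (H : Subgroup G) [Fintype (MulAction.orbitRel.Quotient H Ω)] :
    ∑ q : MulAction.orbitRel.Quotient H Ω, Nat.card q.orbit = Fintype.card Ω := by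
  rw [← Nat.card_sigma, ← Nat.card_eq_fintype_card]
  exact (Nat.card_congr (MulAction.selfEquivSigmaOrbits' H Ω)).symm

/-- S0716 in library form. -/
theorem rank_main [MulAction.IsPretransitive G Ω] (a : Ω) :
    ((f : ℕ) → (∀ χ : G → ℂ, IsIrrCharacter G χ → χ ≠ (fun _ => 1) →
      classInner (fun g : G => (Nat.card (MulAction.fixedBy Ω g) : ℂ)) χ ≠ 0 → χ 1 = f) →
      (∀ χ : G → ℂ, IsIrrCharacter G χ →
        classInner (fun g : G => (Nat.card (MulAction.fixedBy Ω g) : ℂ)) χ = 0 ∨
        classInner (fun g : G => (Nat.card (MulAction.fixedBy Ω g) : ℂ)) χ = 1) ∧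
      ∀ b : Ω, b ≠ a → Nat.card (MulAction.orbit (MulAction.stabilizer G a) b) = f) ∧
    (Nat.card (MulAction.orbitRel.Quotient (MulAction.stabilizer G a) Ω) ≤ 5 →
      ∀ χ : G → ℂ, IsIrrCharacter G χ →
        classInner (fun g : G => (Nat.card (MulAction.fixedBy Ω g) : ℂ)) χ = 0 ∨
        classInner (fun g : G => (Nat.card (MulAction.fixedBy Ω g) : ℂ)) χ = 1) := by
  classical
  let _ := fintypeIrr G
  have : Nonempty Ω := ⟨a⟩
  let _ : Fintype (MulAction.orbitRel.Quotient (MulAction.stabilizer G a) Ω) := Fintype.ofFinite _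
  obtain ⟨m, d, hm, hd, hdpos, hsum2, hsumd⟩ := exists_mult (G := G) a
  rw [Nat.card_eq_fintype_card] at hsum2
  set i₁ : IrrCharacter G := ⟨1, isIrrCharacter_one⟩ with hi₁
  set q₀ : MulAction.orbitRel.Quotient (MulAction.stabilizer G a) Ω := Quotient.mk'' a with hq₀
  set s : MulAction.orbitRel.Quotient (MulAction.stabilizer G a) Ω → ℕ :=
    fun q => Nat.card q.orbit with hs
  have hsmk : ∀ b : Ω, s (Quotient.mk'' b) = Nat.card (MulAction.orbit (MulAction.stabilizer G a) b) := by
    intro b; rfl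
  have horb_a : MulAction.orbit (MulAction.stabilizer G a) a = {a} := by
    ext x
    simp only [Set.mem_singleton_iff]
    constructor
    · rintro ⟨h, rfl⟩
      exact h.2
    · rintro rfl
      exact MulAction.mem_orbit_self _
  have hm1 : m i₁ = 1 := by
    have h1 := hm i₁
    have h2 : classInner (fun g : G => (Nat.card (MulAction.fixedBy Ω g) : ℂ)) (1 : G → ℂ) = 1 := by
      have := CentAlg.classInner_perm_one (G := G) (Ω := Ω)
      rwa [show (permRep ℂ G Ω).character = fun g : G => (Nat.card (MulAction.fixedBy Ω g) : ℂ)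
        from funext CentAlg.permRep_character] at this
    have h3 : ((m i₁ : ℕ) : ℂ) = ((1 : ℕ) : ℂ) := by
      rw [← h1, Nat.cast_one]; exact h2
    exact_mod_cast h3
  have hd1 : d i₁ = 1 := by
    have h1 := hd i₁
    have h3 : ((d i₁ : ℕ) : ℂ) = ((1 : ℕ) : ℂ) := by
      rw [← h1, Nat.cast_one]; rfl
    exact_mod_cast h3
  have hs0 : s q₀ = 1 := by
    rw [hq₀, hsmk, horb_a, Nat.card_coe_set_eq, Set.ncard_singleton]
  have hspos : ∀ q, 0 < s q := by
    intro q
    have : Nonempty q.orbit := (MulAction.orbitRel.Quotient.nonempty_orbit q).to_subtype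
    exact Nat.card_pos
  have hsums : ∑ q, s q = Fintype.card Ω := sum_card_suborbits (MulAction.stabilizer G a)
  have hmk_ne : ∀ b : Ω, b ≠ a →
      (Quotient.mk'' b : MulAction.orbitRel.Quotient (MulAction.stabilizer G a) Ω) ≠ q₀ := by
    intro b hb h
    have h1 : b ∈ MulAction.orbit (MulAction.stabilizer G a) a :=
      (MulAction.orbitRel_apply).mp (Quotient.exact' h)
    rw [horb_a] at h1
    exact hb h1
  -- divisibility
  have H : ∀ f : ℕ, (∀ i, i ≠ i₁ → m i ≠ 0 → d i = f) → ∀ q, q ≠ q₀ → f ∣ s q := by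
    intro f hf q hq
    induction q using Quotient.inductionOn' with
    | h b =>
    have hb : b ≠ a := by
      rintro rfl
      exact hq rfl
    rw [hsmk]
    apply CentAlg.dvd_subdegree f _ a b hb
    intro χ hχ hχ1 hχ0
    refine ⟨1, ?_⟩
    have hne : (⟨χ, hχ⟩ : IrrCharacter G) ≠ i₁ := by
      intro h
      apply hχ1
      have := congrArg Subtype.val h
      exact this
    have hm0 : m ⟨χ, hχ⟩ ≠ 0 := by
      intro h0
      apply hχ0
      have := hm ⟨χ, hχ⟩
      rw [h0, Nat.cast_zero] at this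
      exact this
    have := hf _ hne hm0
    rw [Nat.cast_one, mul_one, ← this]
    exact hd ⟨χ, hχ⟩
  have hfinal : (∀ i, m i ≤ 1) → ∀ χ : G → ℂ, IsIrrCharacter G χ →
      classInner (fun g : G => (Nat.card (MulAction.fixedBy Ω g) : ℂ)) χ = 0 ∨
      classInner (fun g : G => (Nat.card (MulAction.fixedBy Ω g) : ℂ)) χ = 1 := by
    intro hle χ hχ
    have h1 := hm ⟨χ, hχ⟩
    have h2 := hle ⟨χ, hχ⟩
    simp only at h1
    rw [h1]
    rcases Nat.le_one_iff_eq_zero_or_eq_one.mp h2 with h | h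
    · left; rw [h, Nat.cast_zero]
    · right; rw [h, Nat.cast_one]
  constructor
  · intro f hf
    have hf' : ∀ i, i ≠ i₁ → m i ≠ 0 → d i = f := by
      intro i hi hmi
      have h1 : (i : G → ℂ) ≠ (fun _ => 1) := by
        intro h
        apply hi
        exact Subtype.ext h
      have h2 : classInner (fun g : G => (Nat.card (MulAction.fixedBy Ω g) : ℂ)) (i : G → ℂ) ≠ 0 := by
        rw [hm i]
        exact_mod_cast hmi
      have h3 := hf _ i.2 h1 h2
      rw [hd i] at h3
      exact_mod_cast h3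
    obtain ⟨h1, h2⟩ := arith_a m d s i₁ q₀ _ hm1 hd1 hs0 hspos hsum2 hsumd hsums f hf' (H f hf')
    refine ⟨hfinal h1, ?_⟩
    intro b hb
    rw [← hsmk]
    exact h2 _ (hmk_ne b hb)
  · intro hr
    rw [Nat.card_eq_fintype_card] at hr
    exact hfinal (arith_b m d s i₁ q₀ _ hm1 hd1 hs0 hspos hsum2 hsumd hsums hr H)

end

end Cfsg.Agent.Lib.Helper19.CentAlgRank
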