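import Mathlib
import Cfsg.Agent.Lib.Helper19.CentAlgPerm
import Cfsg.Agent.Lib.Helper19.CentAlgRank
/-! Eigenvalue technique for rank three permutation groups (S0719). -/
set_option autoImplicit false

namespace Cfsg.Agent.Lib.Helper19.CentAlg

open Cfsg Cfsg.Agent.CharLib Representation Module LinearMap
open scoped ComplexConjugate

section general
variable {W : Type*} [AddCommGroup W] [Module ℂ W] [FiniteDimensional ℂ W]

/-- on a generalized eigenspace, `tr(g f^j) = μ^j tr(g)` -/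
lemma trace_comp_pow_of_isNilpotent (μ : ℂ) {f g : Module.End ℂ W} (h_comm : Commute g f)
    (hn : IsNilpotent (f - algebraMap ℂ _ μ)) (j : ℕ) :
    trace ℂ W (g ∘ₗ f ^ j) = μ ^ j * trace ℂ W g := by
  induction j with
  | zero =>
    rw [pow_zero, pow_zero, one_mul]
    rfl
  | succ j ih =>
    have h1 : g ∘ₗ f ^ (j + 1) = (g ∘ₗ f ^ j) ∘ₗ f := by
      rw [pow_succ]
      rfl
    have h2 : Commute (g ∘ₗ f ^ j) f := by
      have : g ∘ₗ f ^ j = g * f ^ j := rfl
      rw [this]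
      exact h_comm.mul_left ((Commute.refl f).pow_left j)
    rw [h1, trace_comp_eq_mul_of_commute_of_isNilpotent μ h2 hn, ih]
    ring

variable {V : Type*} [AddCommGroup V] [Module ℂ V] [FiniteDimensional ℂ V]

/-- traces of `g f^j` for commuting `f`, `g` via the generalized eigenspaces of `f`. -/
lemma trace_comp_pow_eq_sum {f g : Module.End ℂ V} (h_comm : Commute f g) :
    ∃ s : Finset ℂ, (∀ μ ∈ s, f.maxGenEigenspace μ ≠ ⊥) ∧
      ∀ j : ℕ, trace ℂ _ (g ∘ₗ f ^ j) = ∑ μ ∈ s,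
        μ ^ j * trace ℂ _ (g.restrict (f.mapsTo_maxGenEigenspace_of_comm h_comm μ)) := by
  classical
  have hf : ⨆ μ, f.maxGenEigenspace μ = ⊤ := Module.End.iSup_maxGenEigenspace_eq_top f
  have hds := DirectSum.isInternal_submodule_of_iSupIndep_of_iSup_eq_top
    f.independent_maxGenEigenspace hf
  have h_fin : {μ | f.maxGenEigenspace μ ≠ ⊥}.Finite :=
    WellFoundedGT.finite_ne_bot_of_iSupIndep f.independent_maxGenEigenspace
  refine ⟨h_fin.toFinset, fun μ hμ => by simpa using hμ, ?_⟩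
  intro j
  have hfμ : ∀ μ, Set.MapsTo f ↑(f.maxGenEigenspace μ) ↑(f.maxGenEigenspace μ) :=
    fun μ => f.mapsTo_maxGenEigenspace_of_comm rfl μ
  have hfj : ∀ μ, Set.MapsTo (f ^ j) ↑(f.maxGenEigenspace μ) ↑(f.maxGenEigenspace μ) :=
    fun μ => f.mapsTo_maxGenEigenspace_of_comm ((Commute.refl f).pow_right j) μ
  have hfg : ∀ μ, Set.MapsTo (g ∘ₗ f ^ j) ↑(f.maxGenEigenspace μ) ↑(f.maxGenEigenspace μ) :=
    fun μ ↦ (f.mapsTo_maxGenEigenspace_of_comm h_comm μ).comp (hfj μ)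
  rw [trace_eq_sum_trace_restrict' hds h_fin hfg]
  apply Finset.sum_congr rfl
  intro μ _
  have hg' := f.mapsTo_maxGenEigenspace_of_comm h_comm μ
  have h_comm' : Commute (g.restrict hg') (f.restrict (hfμ μ)) :=
    restrict_commute h_comm.symm _ _
  have hnil := f.isNilpotent_restrict_maxGenEigenspace_sub_algebraMap μ
  have hres : (g ∘ₗ f ^ j).restrict (hfg μ) = g.restrict hg' ∘ₗ (f.restrict (hfμ μ)) ^ j := by
    apply LinearMap.ext
    intro w
    apply Subtype.ext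
    have : ∀ i : ℕ, ∀ w : f.maxGenEigenspace μ,
        (((f.restrict (hfμ μ)) ^ i) w : V) = (f ^ i) (w : V) := by
      intro i
      induction i with
      | zero => intro w; simp
      | succ i ih =>
        intro w
        rw [pow_succ, Module.End.mul_apply, ih, pow_succ, Module.End.mul_apply]
        rfl
    change g ((f ^ j) (w : V)) = g (((f.restrict (hfμ μ)) ^ j) w : V)
    rw [this j w]
  rw [hres, trace_comp_pow_of_isNilpotent μ h_comm' hnil]

end general

section rep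

set_option linter.unusedSectionVars false

variable {G : Type*} [Group G] [Fintype G] {V : Type*} [AddCommGroup V] [Module ℂ V]
  [FiniteDimensional ℂ V]

/-- **Eigenvalue on a multiplicity-one constituent**: an integral `G`-endomorphism `A` acts on a
constituent of multiplicity one "as a scalar" `θ`, as far as traces are concerned. -/
theorem exists_eigenvalue_of_mult_one (ρ : Representation ℂ G V) (A : Module.End ℂ V)
    (hA : ∀ g, Commute A (ρ g)) (hint : IsIntegral ℤ A) {χ : G → ℂ} (hχ : IsIrrCharacter G χ)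
    (h1 : classInner ρ.character χ = 1) :
    ∃ θ : ℂ, IsIntegral ℤ θ ∧
      ∀ j : ℕ, trace ℂ V (opT (eFun χ) ρ ∘ₗ A ^ j) = χ 1 * θ ^ j := by
  classical
  have hcomm := commute_opT (f := eFun χ) ρ A hA
  obtain ⟨s, hs, htr⟩ := trace_comp_pow_eq_sum hcomm
  have hex : ∀ μ : ℂ, ∃ m : ℕ, trace ℂ _ ((opT (eFun χ) ρ).restrict
      (A.mapsTo_maxGenEigenspace_of_comm hcomm μ)) = χ 1 * m := by
    intro μ
    let W : Subrepresentation ρ := ⟨A.maxGenEigenspace μ, fun g v hv =>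
      A.mapsTo_maxGenEigenspace_of_comm (hA g) μ hv⟩
    have h1 := restrict_opT (eFun χ) ρ W (A.mapsTo_maxGenEigenspace_of_comm hcomm μ)
    obtain ⟨m, _, hm⟩ := trace_opT_eFun W.toRepresentation hχ
    exact ⟨m, by rw [← hm]; exact congrArg _ h1⟩
  choose m hm using hex
  obtain ⟨d, hdpos, hd⟩ := IsIrrCharacter.apply_one_pos hχ
  have hd0 : χ 1 ≠ 0 := by rw [hd]; exact_mod_cast hdpos.ne'
  -- total multiplicity is one
  have hsum : ∑ μ ∈ s, m μ = 1 := by
    have h0 := htr 0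
    obtain ⟨m', hm', hm'tr⟩ := trace_opT_eFun ρ hχ
    rw [h1] at hm'
    have hm1 : m' = 1 := by exact_mod_cast hm'.symm
    rw [pow_zero] at h0
    have h00 : opT (eFun χ) ρ ∘ₗ (1 : Module.End ℂ V) = opT (eFun χ) ρ := rfl
    rw [h00, hm'tr, hm1] at h0
    simp only [pow_zero, one_mul, hm] at h0
    rw [← Finset.mul_sum] at h0
    have h2 := (mul_left_cancel₀ hd0 h0).symm
    exact_mod_cast h2
  obtain ⟨μ₀, hμ₀s, hμ₀⟩ : ∃ μ₀ ∈ s, m μ₀ ≠ 0 := by
    by_contra hcon
    push Not at hcon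
    rw [Finset.sum_eq_zero hcon] at hsum
    exact absurd hsum (by norm_num)
  have hrest : ∀ μ ∈ s, μ ≠ μ₀ → m μ = 0 := by
    intro μ hμ hne
    have h2 : m μ₀ + m μ ≤ ∑ ν ∈ s, m ν := by
      rw [← Finset.add_sum_erase s m hμ₀s]
      apply Nat.add_le_add_left
      exact Finset.single_le_sum (f := m) (fun _ _ => Nat.zero_le _)
        (Finset.mem_erase.mpr ⟨hne, hμ⟩)
    omega
  have hμ₀1 : m μ₀ = 1 := by
    have h2 : m μ₀ ≤ ∑ ν ∈ s, m ν :=
      Finset.single_le_sum (f := m) (fun _ _ => Nat.zero_le _) hμ₀s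
    omega
  refine ⟨μ₀, isIntegral_of_maxGenEigenspace_ne_bot hint (hs μ₀ hμ₀s), ?_⟩
  intro j
  rw [htr j, Finset.sum_eq_single_of_mem μ₀ hμ₀s, hm, hμ₀1]
  · push_cast; ring
  · intro μ hμ hne
    rw [hm, hrest μ hμ hne]
    simp

end rep


section perm2
set_option linter.unusedSectionVars false
variable {G : Type*} [Group G] [Fintype G] {Ω : Type*} [Fintype Ω] [DecidableEq Ω] [MulAction G Ω]

/-- traces of powers of an adjacency operator are integers -/
theorem adjEnd_pow_trace (R : Ω → Ω → Prop) [DecidableRel R] (j : ℕ) :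
    trace ℂ _ (adjEnd R ^ j) = (((adjMat R ^ j).trace : ℤ) : ℂ) := by
  have h1 : adjEnd R ^ j = Matrix.toLin' (((adjMat R).map (Int.cast : ℤ → ℂ)) ^ j) := by
    rw [Matrix.toLin'_pow]
    rfl
  have h2 : ((adjMat R).map (Int.cast : ℤ → ℂ)) ^ j = (adjMat R ^ j).map (Int.cast : ℤ → ℂ) := by
    have := map_pow (Int.castRingHom ℂ).mapMatrix (adjMat R) j
    exact this.symm
  rw [h1, Matrix.trace_toLin'_eq, h2]
  have := AddMonoidHom.map_trace (Int.castAddHom ℂ) (adjMat R ^ j)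
  exact this.symm

/-- trace of the square of a symmetric adjacency operator -/
theorem adjEnd_sq_trace (R : Ω → Ω → Prop) [DecidableRel R] (hsymm : ∀ x y, R x y → R y x)
    (d : ℕ) (hdeg : ∀ x, (Finset.univ.filter (fun y => R x y)).card = d) :
    trace ℂ _ (adjEnd R ^ 2) = (Fintype.card Ω : ℂ) * d := by
  rw [adjEnd_pow_trace]
  have h1 : (adjMat R ^ 2).trace = (Fintype.card Ω : ℤ) * d := by
    rw [pow_two, Matrix.trace]
    have h2 : ∀ x, (adjMat R * adjMat R).diag x = (d : ℤ) := by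
      intro x
      rw [Matrix.diag_apply, Matrix.mul_apply]
      have h3 : ∀ y, adjMat R x y * adjMat R y x = if R x y then 1 else 0 := by
        intro y
        simp only [adjMat]
        by_cases h : R x y
        · rw [if_pos h, if_pos (hsymm x y h), mul_one]
        · rw [if_neg h, zero_mul]
      rw [Finset.sum_congr rfl (fun y _ => h3 y), Finset.sum_boole, hdeg x]
    rw [Finset.sum_congr rfl (fun x _ => h2 x), Finset.sum_const, Finset.card_univ, nsmul_eq_mul]
  rw [h1]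
  push_cast
  ring

end perm2


section perm2
set_option linter.unusedSectionVars false
variable {G : Type*} [Group G] [Fintype G] {Ω : Type*} [Fintype Ω] [DecidableEq Ω] [MulAction G Ω]

theorem pow_comp_avg [MulAction.IsPretransitive G Ω] (R : Ω → Ω → Prop) [DecidableRel R]
    (d : ℕ) (hdeg : ∀ x, (Finset.univ.filter (fun y => R x y)).card = d) (j : ℕ) :
    (adjEnd R ^ j) ∘ₗ opT (eFun (1 : G → ℂ)) (permRep ℂ G Ω) =
      ((d : ℂ) ^ j) • opT (eFun (1 : G → ℂ)) (permRep ℂ G Ω) := by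
  induction j with
  | zero =>
    rw [pow_zero, pow_zero, one_smul]
    rfl
  | succ j ih =>
    have h1 : (adjEnd R ^ (j + 1)) ∘ₗ opT (eFun (1 : G → ℂ)) (permRep ℂ G Ω) =
        (adjEnd R ^ j) ∘ₗ (adjEnd R ∘ₗ opT (eFun (1 : G → ℂ)) (permRep ℂ G Ω)) := by
      rw [pow_succ]
      rfl
    rw [h1, adjEnd_comp_avg (G := G) R d hdeg, LinearMap.comp_smul, ih, smul_smul, pow_succ,
      mul_comm]

/-- **Trace formula for rank three**: if the permutation character is `1 + χ₁ + χ₂`, the traces of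
the powers of an invariant adjacency operator are `d^j + χ₁(1) θ₁^j + χ₂(1) θ₂^j` for algebraic
integers `θ₁, θ₂`. -/
theorem rank3_traces [MulAction.IsPretransitive G Ω] [Nonempty Ω] (R : Ω → Ω → Prop)
    [DecidableRel R] (hinv : ∀ (g : G) x y, R (g • x) (g • y) ↔ R x y)
    (d : ℕ) (hdeg : ∀ x, (Finset.univ.filter (fun y => R x y)).card = d)
    (χ₁ χ₂ : G → ℂ) (h₁ : IsIrrCharacter G χ₁) (h₂ : IsIrrCharacter G χ₂) (hne : χ₁ ≠ χ₂)
    (hπ : (fun g : G => (Nat.card (MulAction.fixedBy Ω g) : ℂ)) = fun g => 1 + χ₁ g + χ₂ g) :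
    ∃ θ₁ θ₂ : ℂ, IsIntegral ℤ θ₁ ∧ IsIntegral ℤ θ₂ ∧ ∀ j : ℕ,
      trace ℂ _ (adjEnd R ^ j) = (d : ℂ) ^ j + χ₁ 1 * θ₁ ^ j + χ₂ 1 * θ₂ ^ j := by
  classical
  let _ := fintypeIrr G
  have hA := adjEnd_commute (G := G) R hinv
  have hint := adjEnd_isIntegral R
  have hπ' : (permRep ℂ G Ω).character = (1 : G → ℂ) + χ₁ + χ₂ := by
    rw [show (permRep ℂ G Ω).character = fun g : G => (Nat.card (MulAction.fixedBy Ω g) : ℂ)
      from funext permRep_character, hπ]
    rfl
  have h0irr : IsIrrCharacter G (1 : G → ℂ) := isIrrCharacter_one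
  have hinner : ∀ χ : G → ℂ, IsIrrCharacter G χ →
      classInner (permRep ℂ G Ω).character χ =
        (if (1 : G → ℂ) = χ then 1 else 0) + (if χ₁ = χ then 1 else 0) +
          (if χ₂ = χ then 1 else 0) := by
    intro χ hχ
    rw [hπ', classInner_add_left, classInner_add_left, classInner_irr h0irr hχ,
      classInner_irr h₁ hχ, classInner_irr h₂ hχ]
  have hone := classInner_perm_one (G := G) (Ω := Ω)
  rw [hinner 1 h0irr, if_pos rfl] at hone
  have hχ₁1 : χ₁ ≠ 1 := by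
    intro h
    rw [if_pos h] at hone
    by_cases h' : χ₂ = 1
    · rw [if_pos h'] at hone; norm_num at hone
    · rw [if_neg h'] at hone; norm_num at hone
  have hχ₂1 : χ₂ ≠ 1 := by
    intro h
    rw [if_pos h, if_neg hχ₁1] at hone
    norm_num at hone
  have hin1 : classInner (permRep ℂ G Ω).character χ₁ = 1 := by
    rw [hinner χ₁ h₁, if_neg (Ne.symm hχ₁1), if_pos rfl, if_neg (Ne.symm hne)]
    norm_num
  have hin2 : classInner (permRep ℂ G Ω).character χ₂ = 1 := by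
    rw [hinner χ₂ h₂, if_neg (Ne.symm hχ₂1), if_neg hne, if_pos rfl]
    norm_num
  obtain ⟨θ₁, hθ₁, htr₁⟩ := exists_eigenvalue_of_mult_one (permRep ℂ G Ω) (adjEnd R) hA hint h₁ hin1
  obtain ⟨θ₂, hθ₂, htr₂⟩ := exists_eigenvalue_of_mult_one (permRep ℂ G Ω) (adjEnd R) hA hint h₂ hin2
  refine ⟨θ₁, θ₂, hθ₁, hθ₂, ?_⟩
  intro j
  -- decompose the trace
  have hsum : trace ℂ _ (adjEnd R ^ j) = ∑ χ : IrrCharacter G,
      trace ℂ _ (opT (eFun (χ : G → ℂ)) (permRep ℂ G Ω) ∘ₗ adjEnd R ^ j) := by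
    rw [← map_sum]
    have h1 : ∑ χ : IrrCharacter G, opT (eFun (χ : G → ℂ)) (permRep ℂ G Ω) ∘ₗ adjEnd R ^ j =
        (∑ χ : IrrCharacter G, opT (eFun (χ : G → ℂ)) (permRep ℂ G Ω)) ∘ₗ adjEnd R ^ j := by
      simp only [← Module.End.mul_eq_comp]
      rw [Finset.sum_mul]
    rw [h1, sum_opT_eFun, LinearMap.id_comp]
  let i₀ : IrrCharacter G := ⟨1, h0irr⟩
  let i₁ : IrrCharacter G := ⟨χ₁, h₁⟩
  let i₂ : IrrCharacter G := ⟨χ₂, h₂⟩
  have h01 : i₀ ≠ i₁ := fun h => hχ₁1 (congrArg Subtype.val h).symm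
  have h02 : i₀ ≠ i₂ := fun h => hχ₂1 (congrArg Subtype.val h).symm
  have h12 : i₁ ≠ i₂ := fun h => hne (congrArg Subtype.val h)
  have hsub : ∑ χ : IrrCharacter G,
      trace ℂ _ (opT (eFun (χ : G → ℂ)) (permRep ℂ G Ω) ∘ₗ adjEnd R ^ j) =
      ∑ χ ∈ ({i₀, i₁, i₂} : Finset (IrrCharacter G)),
        trace ℂ _ (opT (eFun (χ : G → ℂ)) (permRep ℂ G Ω) ∘ₗ adjEnd R ^ j) := by
    symm
    apply Finset.sum_subset (Finset.subset_univ _)
    intro χ _ hχ
    simp only [Finset.mem_insert, Finset.mem_singleton, not_or] at hχ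
    have hz : classInner (permRep ℂ G Ω).character (χ : G → ℂ) = 0 := by
      rw [hinner _ χ.2, if_neg, if_neg, if_neg]
      · norm_num
      · intro h; exact hχ.2.2 (Subtype.ext h.symm)
      · intro h; exact hχ.2.1 (Subtype.ext h.symm)
      · intro h; exact hχ.1 (Subtype.ext h.symm)
    rw [opT_eFun_eq_zero χ.2 _ hz, LinearMap.zero_comp, map_zero]
  have ht0 : trace ℂ _ (opT (eFun (1 : G → ℂ)) (permRep ℂ G Ω) ∘ₗ adjEnd R ^ j) = (d : ℂ) ^ j := by
    have h2 := LinearMap.trace_mul_comm ℂ (opT (eFun (1 : G → ℂ)) (permRep ℂ G Ω)) (adjEnd R ^ j)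
    rw [Module.End.mul_eq_comp, Module.End.mul_eq_comp] at h2
    rw [h2, pow_comp_avg (G := G) R d hdeg, map_smul, trace_avg, smul_eq_mul, mul_one]
  rw [hsum, hsub, Finset.sum_insert (by simp [h01, h02]), Finset.sum_insert (by simp [h12]),
    Finset.sum_singleton]
  show trace ℂ _ (opT (eFun (1 : G → ℂ)) (permRep ℂ G Ω) ∘ₗ adjEnd R ^ j) +
    (trace ℂ _ (opT (eFun χ₁) (permRep ℂ G Ω) ∘ₗ adjEnd R ^ j) +
      trace ℂ _ (opT (eFun χ₂) (permRep ℂ G Ω) ∘ₗ adjEnd R ^ j)) = _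
  rw [ht0, htr₁ j, htr₂ j]
  ring

end perm2


theorem exists_int_of_rat_isIntegral (q : ℚ) (h : IsIntegral ℤ ((q : ℚ) : ℂ)) :
    ∃ v : ℤ, ((q : ℚ) : ℂ) = v := by
  have h2 : IsIntegral ℤ q :=
    (isIntegral_algebraMap_iff (algebraMap ℚ ℂ).injective (R := ℤ) (x := q)).mp h
  obtain ⟨v, hv⟩ := IsIntegrallyClosed.isIntegral_iff.mp h2
  refine ⟨v, ?_⟩
  have : (algebraMap ℤ ℚ) v = (v : ℚ) := rfl
  rw [this] at hv
  rw [← hv]
  push_cast
  rfl

/-- rationality of the eigenvalues from three trace equations -/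
theorem eigen_int (m k : ℕ) (hm : 2 ≤ m) (z : ℤ) (θ₁ θ₂ : ℂ)
    (hθ₁ : IsIntegral ℤ θ₁) (hθ₂ : IsIntegral ℤ θ₂)
    (E1 : (0 : ℂ) = k + ((m : ℂ) - 1) * θ₁ + m * θ₂)
    (E2 : (2 * m * k : ℂ) = (k : ℂ) ^ 2 + ((m : ℂ) - 1) * θ₁ ^ 2 + m * θ₂ ^ 2)
    (E3 : (z : ℂ) = (k : ℂ) ^ 3 + ((m : ℂ) - 1) * θ₁ ^ 3 + m * θ₂ ^ 3) :
    ∃ u v : ℤ, θ₁ = u ∧ θ₂ = v := by
  have hm1 : ((m : ℂ) - 1) ≠ 0 := by
    intro h
    have h2 : (m : ℂ) = 1 := by linear_combination h
    have h3 : m = 1 := by exact_mod_cast h2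
    omega
  have hm0 : (m : ℂ) ≠ 0 := by
    have : m ≠ 0 := by omega
    exact_mod_cast this
  -- θ₂ is rational
  have hq : ∃ q : ℚ, θ₂ = q := by
    by_cases heq : θ₁ = θ₂
    · refine ⟨-(k : ℚ) / (2 * m - 1), ?_⟩
      have h2m : (2 * (m : ℂ) - 1) ≠ 0 := by
        intro h
        have h2 : ((2 * m : ℕ) : ℂ) = ((1 : ℕ) : ℂ) := by push_cast; linear_combination h
        have h3 : 2 * m = 1 := by exact_mod_cast h2
        omega
      push_cast
      rw [eq_div_iff h2m]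
      rw [heq] at E1
      linear_combination -E1
    · -- e1 = θ₁ + θ₂ is rational
      set Δ : ℂ := (2 * (m : ℂ) - 1) * (2 * m * k - (k : ℂ) ^ 2) - (k : ℂ) ^ 2 with hΔ
      have hΔ' : Δ = ((m : ℂ) - 1) * m * (θ₁ - θ₂) ^ 2 := by
        rw [hΔ]
        linear_combination (2 * (m : ℂ) - 1) * E2 + ((k : ℂ) - ((m : ℂ) - 1) * θ₁ - m * θ₂) * E1
      have hΔ0 : Δ ≠ 0 := by
        rw [hΔ']
        exact mul_ne_zero (mul_ne_zero hm1 hm0) (pow_ne_zero 2 (sub_ne_zero.mpr heq))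
      have he1 : (θ₁ + θ₂) * Δ =
          (2 * (m : ℂ) - 1) * ((z : ℂ) - (k : ℂ) ^ 3) + (k : ℂ) * (2 * m * k - (k : ℂ) ^ 2) := by
        rw [hΔ']
        linear_combination (-(2 * (m : ℂ) - 1)) * E3 - (k : ℂ) * E2
          + (((m : ℂ) - 1) * θ₁ ^ 2 + m * θ₂ ^ 2) * E1
      set Δq : ℚ := (2 * (m : ℚ) - 1) * (2 * m * k - (k : ℚ) ^ 2) - (k : ℚ) ^ 2 with hΔq
      have hΔc : Δ = (Δq : ℂ) := by rw [hΔ, hΔq]; push_cast; ring
      set Nq : ℚ := (2 * (m : ℚ) - 1) * ((z : ℚ) - (k : ℚ) ^ 3) + (k : ℚ) * (2 * m * k - (k : ℚ) ^ 2)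
        with hNq
      have he1' : θ₁ + θ₂ = ((Nq / Δq : ℚ) : ℂ) := by
        push_cast
        rw [eq_div_iff (by rw [← hΔc]; exact hΔ0), ← hΔc, he1, hNq]
        push_cast
        ring
      refine ⟨-(k : ℚ) - ((m : ℚ) - 1) * (Nq / Δq), ?_⟩
      push_cast at he1' ⊢
      rw [← he1']
      linear_combination -E1
  obtain ⟨q, hq⟩ := hq
  rw [hq] at hθ₂
  obtain ⟨v, hv⟩ := exists_int_of_rat_isIntegral q hθ₂
  have hθ₂v : θ₂ = v := hq.trans hv
  -- θ₁ is rational
  have hθ₁q : θ₁ = (((-(k : ℚ) - m * v) / ((m : ℚ) - 1) : ℚ) : ℂ) := by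
    push_cast
    rw [eq_div_iff hm1]
    rw [hθ₂v] at E1
    linear_combination -E1
  rw [hθ₁q] at hθ₁
  obtain ⟨u, hu⟩ := exists_int_of_rat_isIntegral _ hθ₁
  exact ⟨u, v, hθ₁q.trans hu, hθ₂v⟩


/-- the integer arithmetic of Wielandt-type rank three parameters -/
theorem rank3_arith (m k : ℕ) (hm : 2 ≤ m) (hk : 2 ≤ k) (hkl : k + 3 ≤ 2 * m) (u v : ℤ)
    (E1 : (0 : ℤ) = k + ((m : ℤ) - 1) * u + m * v)
    (E2 : (2 * m * k : ℤ) = (k : ℤ) ^ 2 + ((m : ℤ) - 1) * u ^ 2 + m * v ^ 2) :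
    ∃ a : ℕ, 0 < a ∧ m = 2 * a ^ 2 + 2 * a + 1 ∧
      (k = a * (2 * a + 1) ∨ k = (a + 1) * (2 * a + 1)) := by
  obtain ⟨w, hw⟩ : ∃ w : ℤ, w = -(u + v) := ⟨_, rfl⟩
  have hv : v = -w - u := by rw [hw]; ring
  have hku : (k : ℤ) = u + m * w := by rw [hv] at E1; linear_combination -E1
  have hm0 : (m : ℤ) ≠ 0 := by
    have : m ≠ 0 := by omega
    exact_mod_cast this
  have hbr : 2 * u ^ 2 + 4 * u * w - 2 * u + ((m : ℤ) + 1) * w ^ 2 - 2 * m * w = 0 := by
    have h1 : (m : ℤ) * (2 * u ^ 2 + 4 * u * w - 2 * u + ((m : ℤ) + 1) * w ^ 2 - 2 * m * w) = 0 := by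
      rw [hv, hku] at E2
      linear_combination -E2
    rcases mul_eq_zero.mp h1 with h | h
    · exact absurd h hm0
    · exact h
  have hsq : (2 * u + 2 * w - 1) ^ 2 = 1 - 2 * ((m : ℤ) - 1) * (w * (w - 2)) := by
    linear_combination 2 * hbr
  have hm1 : (1 : ℤ) ≤ (m : ℤ) - 1 := by
    have : (2 : ℤ) ≤ m := by exact_mod_cast hm
    linarith
  have hww : w * (w - 2) ≤ 0 := by
    by_contra hcon
    push Not at hcon
    have h1 : 1 ≤ w * (w - 2) := hcon
    have h2 : 0 ≤ (2 * u + 2 * w - 1) ^ 2 := sq_nonneg _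
    nlinarith
  have hw0 : 0 ≤ w := by nlinarith
  have hw2 : w ≤ 2 := by nlinarith
  have hk2 : (2 : ℤ) ≤ k := by exact_mod_cast hk
  have hkl' : (k : ℤ) + 3 ≤ 2 * m := by exact_mod_cast hkl
  interval_cases w
  · -- w = 0
    exfalso
    have h1 : u * (u - 1) = 0 := by nlinarith [hbr]
    rcases mul_eq_zero.mp h1 with h | h
    · rw [h] at hku; linarith
    · have : u = 1 := by linarith
      rw [this] at hku; linarith
  · -- w = 1
    have hmu : (m : ℤ) = 2 * u ^ 2 + 2 * u + 1 := by linear_combination -hbr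
    rcases le_or_gt 1 u with hu | hu
    · obtain ⟨a, ha⟩ := Int.eq_ofNat_of_zero_le (by linarith : 0 ≤ u)
      refine ⟨a, ?_, ?_, Or.inr ?_⟩
      · have : (0 : ℤ) < a := by rw [← ha]; linarith
        exact_mod_cast this
      · have : (m : ℤ) = 2 * (a : ℤ) ^ 2 + 2 * a + 1 := by rw [← ha]; exact hmu
        exact_mod_cast this
      · have : (k : ℤ) = ((a : ℤ) + 1) * (2 * a + 1) := by
          rw [← ha, hku, hmu]; ring
        exact_mod_cast this
    · rcases le_or_gt u (-2) with hu2 | hu2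
      · obtain ⟨a, ha⟩ := Int.eq_ofNat_of_zero_le (by linarith : 0 ≤ -u - 1)
        have hua : u = -(a : ℤ) - 1 := by linarith
        refine ⟨a, ?_, ?_, Or.inl ?_⟩
        · have : (0 : ℤ) < a := by rw [← ha]; linarith
          exact_mod_cast this
        · have : (m : ℤ) = 2 * (a : ℤ) ^ 2 + 2 * a + 1 := by rw [hmu, hua]; ring
          exact_mod_cast this
        · have : (k : ℤ) = (a : ℤ) * (2 * a + 1) := by
            rw [hku, hmu, hua]; ring
          exact_mod_cast this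
      · exfalso
        have h2 : (2 : ℤ) ≤ m := by exact_mod_cast hm
        have : u = 0 ∨ u = -1 := by omega
        rcases this with h | h <;> rw [h] at hmu <;> linarith
  · -- w = 2
    exfalso
    have h1 : (u + 1) * (u + 2) = 0 := by nlinarith [hbr]
    rcases mul_eq_zero.mp h1 with h | h
    · have : u = -1 := by linarith
      rw [this] at hku; linarith
    · have : u = -2 := by linarith
      rw [this] at hku; linarith


section perm3
set_option linter.unusedSectionVars false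
variable {G : Type*} [Group G] [Fintype G] {Ω : Type*} [Fintype Ω] [DecidableEq Ω] [MulAction G Ω]

/-- numeric form of the Wielandt type rank 3 theorem -/
theorem rank3_numeric [MulAction.IsPretransitive G Ω] [Nonempty Ω] (R : Ω → Ω → Prop)
    [DecidableRel R] (hinv : ∀ (g : G) x y, R (g • x) (g • y) ↔ R x y) (hirr : ∀ x, ¬ R x x)
    (hsymm : ∀ x y, R x y → R y x)
    (k : ℕ) (hdeg : ∀ x, (Finset.univ.filter (fun y => R x y)).card = k)
    (m : ℕ) (hm : Fintype.card Ω = 2 * m) (hm2 : 2 ≤ m)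
    (χ₁ χ₂ : G → ℂ) (h₁ : IsIrrCharacter G χ₁) (h₂ : IsIrrCharacter G χ₂)
    (hπ : (fun g : G => (Nat.card (MulAction.fixedBy Ω g) : ℂ)) = fun g => 1 + χ₁ g + χ₂ g)
    (hd₁ : χ₁ 1 = (m : ℂ) - 1) (hd₂ : χ₂ 1 = m) (hk : 2 ≤ k) (hkl : k + 3 ≤ 2 * m) :
    ∃ a : ℕ, 0 < a ∧ m = 2 * a ^ 2 + 2 * a + 1 ∧
      (k = a * (2 * a + 1) ∨ k = (a + 1) * (2 * a + 1)) := by
  have hne : χ₁ ≠ χ₂ := by
    intro h
    have h1 : χ₁ 1 = χ₂ 1 := by rw [h]
    rw [hd₁, hd₂] at h1
    have : (1 : ℂ) = 0 := by linear_combination -h1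
    exact one_ne_zero this
  obtain ⟨θ₁, θ₂, hθ₁, hθ₂, htr⟩ := rank3_traces (G := G) R hinv k hdeg χ₁ χ₂ h₁ h₂ hne hπ
  have E1 : (0 : ℂ) = k + ((m : ℂ) - 1) * θ₁ + m * θ₂ := by
    have := htr 1
    rw [pow_one, adjEnd_trace R hirr, hd₁, hd₂] at this
    simpa using this
  have E2 : (2 * m * k : ℂ) = (k : ℂ) ^ 2 + ((m : ℂ) - 1) * θ₁ ^ 2 + m * θ₂ ^ 2 := by
    have := htr 2
    rw [adjEnd_sq_trace R hsymm k hdeg, hd₁, hd₂, hm] at this
    rw [← this]
    push_cast
    ring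
  have E3 : (((adjMat R ^ 3).trace : ℤ) : ℂ) =
      (k : ℂ) ^ 3 + ((m : ℂ) - 1) * θ₁ ^ 3 + m * θ₂ ^ 3 := by
    have := htr 3
    rw [adjEnd_pow_trace, hd₁, hd₂] at this
    exact this
  obtain ⟨u, v, hu, hv⟩ := eigen_int m k hm2 _ θ₁ θ₂ hθ₁ hθ₂ E1 E2 E3
  rw [hu, hv] at E1 E2
  have E1' : (0 : ℤ) = k + ((m : ℤ) - 1) * u + m * v := by exact_mod_cast E1
  have E2' : (2 * m * k : ℤ) = (k : ℤ) ^ 2 + ((m : ℤ) - 1) * u ^ 2 + m * v ^ 2 := by
    exact_mod_cast E2
  exact rank3_arith m k hm2 hk hkl u v E1' E2'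

end perm3

section prim
variable {G : Type*} [Group G] [Finite G] {Ω : Type*} [MulAction G Ω]

/-- in a primitive group, a point stabilizer fixing a second point fixes everything -/
theorem stabilizer_fixes_all [MulAction.IsPreprimitive G Ω] (a b : Ω) (hab : b ≠ a)
    (hfix : ∀ h ∈ MulAction.stabilizer G a, h • b = b) (x : Ω) :
    ∀ h ∈ MulAction.stabilizer G a, h • x = x := by
  have : Nontrivial Ω := ⟨⟨b, a, hab⟩⟩
  have hco := MulAction.IsPreprimitive.isCoatom_stabilizer_of_isPreprimitive (G := G) a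
  obtain ⟨g, hg⟩ := MulAction.exists_smul_eq G a b
  have hle : MulAction.stabilizer G a ≤ MulAction.stabilizer G b := fun h hh => by
    rw [MulAction.mem_stabilizer_iff]; exact hfix h hh
  have hconj : MulAction.stabilizer G b =
      (MulAction.stabilizer G a).map (MulAut.conj g).toMonoidHom := by
    rw [← hg]; exact MulAction.stabilizer_smul_eq_stabilizer_map_conj g a
  have hcard : Nat.card (MulAction.stabilizer G b) = Nat.card (MulAction.stabilizer G a) := by
    rw [hconj]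
    exact Subgroup.card_map_of_injective (MulAut.conj g).injective
  have heq : MulAction.stabilizer G a = MulAction.stabilizer G b :=
    Subgroup.eq_of_le_of_card_ge hle hcard.le
  have hgN : g ∈ Subgroup.normalizer (MulAction.stabilizer G a : Set G) := by
    rw [Subgroup.mem_normalizer_iff]
    intro h
    constructor
    · intro hh
      rw [heq, MulAction.mem_stabilizer_iff, ← hg, mul_smul, mul_smul, inv_smul_smul,
        MulAction.mem_stabilizer_iff.mp hh]
    · intro hh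
      rw [heq, MulAction.mem_stabilizer_iff, ← hg, mul_smul, mul_smul, inv_smul_smul] at hh
      exact MulAction.mem_stabilizer_iff.mpr (smul_left_cancel g hh)
  have hgnot : g ∉ MulAction.stabilizer G a := by
    intro h
    rw [MulAction.mem_stabilizer_iff, hg] at h
    exact hab h
  have hlt : MulAction.stabilizer G a < Subgroup.normalizer (MulAction.stabilizer G a : Set G) :=
    lt_of_le_of_ne Subgroup.le_normalizer (fun h => hgnot (h ▸ hgN))
  have htop := hco.2 _ hlt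
  have hn : (MulAction.stabilizer G a).Normal := Subgroup.normalizer_eq_top_iff.mp htop
  intro h hh
  obtain ⟨g', rfl⟩ := MulAction.exists_smul_eq G a x
  have h1 := hn.conj_mem h hh g'⁻¹
  rw [MulAction.mem_stabilizer_iff, mul_smul, mul_smul, inv_inv] at h1
  have h2 := congrArg (fun z => g' • z) h1
  simpa using h2

end prim


section main
variable {G : Type*} [Group G] [Fintype G] {Ω : Type*} [Fintype Ω] [MulAction G Ω]

/-- a transitive group of even degree contains an element interchanging two points -/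
theorem exists_swap [MulAction.IsPretransitive G Ω] (a : Ω) (hev : 2 ∣ Fintype.card Ω) :
    ∃ (g : G) (x : Ω), g • x ≠ x ∧ g • g • x = x := by
  classical
  let φ := MulAction.toPermHom G Ω
  have htrans : MulAction.IsPretransitive φ.range Ω := by
    refine ⟨fun x y => ?_⟩
    obtain ⟨g, hg⟩ := MulAction.exists_smul_eq G x y
    exact ⟨⟨φ g, g, rfl⟩, hg⟩
  have hdvd : 2 ∣ Nat.card φ.range := by
    have h1 := MulAction.index_stabilizer_of_transitive φ.range a
    have h2 := Subgroup.index_dvd_card (MulAction.stabilizer φ.range a)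
    rw [h1, Nat.card_eq_fintype_card] at h2
    exact hev.trans h2
  haveI : Fact (Nat.Prime 2) := ⟨Nat.prime_two⟩
  obtain ⟨σ, hσ⟩ := exists_prime_orderOf_dvd_card' 2 hdvd
  obtain ⟨g, hg⟩ := σ.2
  have hne : σ ≠ 1 := by
    intro h
    rw [h, orderOf_one] at hσ
    omega
  have hsq : σ ^ 2 = 1 := by
    rw [← hσ]
    exact pow_orderOf_eq_one σ
  have hgz : ∀ z, g • z = (σ : Equiv.Perm Ω) z := by
    intro z
    rw [← hg]
    rfl
  obtain ⟨x, hx⟩ : ∃ x, (σ : Equiv.Perm Ω) x ≠ x := by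
    by_contra h
    push Not at h
    apply hne
    apply Subtype.ext
    ext x
    exact h x
  refine ⟨g, x, ?_, ?_⟩
  · rw [hgz]; exact hx
  · rw [hgz, hgz]
    have := congrArg (fun τ : φ.range => (τ : Equiv.Perm Ω) x) hsq
    simpa [pow_two] using this

/-- **Groups of Wielandt type** (library form of S0719). -/
theorem wielandt_rank3 (hprim : MulAction.IsPreprimitive G Ω) {m : ℕ}
    (hm : Fintype.card Ω = 2 * m) (a₀ : Ω)
    (hrank : Nat.card (MulAction.orbitRel.Quotient (MulAction.stabilizer G a₀) Ω) = 3)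
    (χ₁ χ₂ : G → ℂ) (h₁ : IsIrrCharacter G χ₁) (h₂ : IsIrrCharacter G χ₂)
    (hπ : (fun g : G => (Nat.card (MulAction.fixedBy Ω g) : ℂ)) = fun g => 1 + χ₁ g + χ₂ g)
    (hd₁ : χ₁ 1 = (m : ℂ) - 1) (hd₂ : χ₂ 1 = m) :
    ∃ a : ℕ, 0 < a ∧ m = 2 * a ^ 2 + 2 * a + 1 ∧ ∀ b : Ω, b ≠ a₀ →
      Nat.card (MulAction.orbit (MulAction.stabilizer G a₀) b) = a * (2 * a + 1) ∨
      Nat.card (MulAction.orbit (MulAction.stabilizer G a₀) b) = (a + 1) * (2 * a + 1) := by
  classical
  have : Nonempty Ω := ⟨a₀⟩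
  have htr : MulAction.IsPretransitive G Ω := hprim.toIsPretransitive
  let _ : Fintype (MulAction.orbitRel.Quotient (MulAction.stabilizer G a₀) Ω) := Fintype.ofFinite _
  set H := MulAction.stabilizer G a₀ with hH
  set s : MulAction.orbitRel.Quotient H Ω → ℕ := fun q => Nat.card q.orbit with hs
  have hsmk : ∀ b : Ω, s (Quotient.mk'' b) = Nat.card (MulAction.orbit H b) := fun b => rfl
  have hsums : ∑ q, s q = Fintype.card Ω := CentAlgRank.sum_card_suborbits H
  have hcardQ : Fintype.card (MulAction.orbitRel.Quotient H Ω) = 3 := by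
    rw [← Nat.card_eq_fintype_card]; exact hrank
  have horb_a : MulAction.orbit H a₀ = {a₀} := by
    ext x
    simp only [Set.mem_singleton_iff]
    constructor
    · rintro ⟨h, rfl⟩
      exact h.2
    · rintro rfl
      exact MulAction.mem_orbit_self _
  have hs0 : s (Quotient.mk'' a₀) = 1 := by
    rw [hsmk, horb_a, Nat.card_coe_set_eq, Set.ncard_singleton]
  have hmk_ne : ∀ b : Ω, b ≠ a₀ →
      (Quotient.mk'' b : MulAction.orbitRel.Quotient H Ω) ≠ Quotient.mk'' a₀ := by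
    intro b hb h
    have h1 : b ∈ MulAction.orbit H a₀ := (MulAction.orbitRel_apply).mp (Quotient.exact' h)
    rw [horb_a] at h1
    exact hb h1
  -- no nontrivial suborbit of length one
  have hnofix : ∀ b : Ω, b ≠ a₀ → 2 ≤ Nat.card (MulAction.orbit H b) := by
    intro b hb
    by_contra hlt
    push Not at hlt
    have hne : Nonempty (MulAction.orbit H b) := ⟨⟨b, MulAction.mem_orbit_self b⟩⟩
    have hpos : 0 < Nat.card (MulAction.orbit H b) := Nat.card_pos
    have h1 : Nat.card (MulAction.orbit H b) = 1 := by omega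
    have hfix : ∀ h ∈ H, h • b = b := by
      intro h hh
      rw [Nat.card_eq_one_iff_unique] at h1
      obtain ⟨hsub, _⟩ := h1
      have := hsub.elim ⟨(⟨h, hh⟩ : H) • b, MulAction.mem_orbit b _⟩ ⟨b, MulAction.mem_orbit_self b⟩
      exact congrArg Subtype.val this
    have hall := fun x => stabilizer_fixes_all a₀ b hb hfix x
    have hbij : Function.Bijective
        (Quotient.mk'' : Ω → MulAction.orbitRel.Quotient H Ω) := by
      constructor
      · intro x y hxy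
        obtain ⟨h, hh⟩ := (MulAction.orbitRel_apply).mp (Quotient.exact' hxy)
        rw [← hh]
        exact hall y h h.2
      · exact Quotient.mk''_surjective
    have h5 : Fintype.card Ω = Fintype.card (MulAction.orbitRel.Quotient H Ω) :=
      Fintype.card_of_bijective hbij
    omega
  -- a self-paired orbital
  obtain ⟨g, x, hgx, hggx⟩ := exists_swap (G := G) a₀ ⟨m, hm⟩
  obtain ⟨h0, hh0⟩ := MulAction.exists_smul_eq G x a₀
  obtain ⟨y, hy⟩ : ∃ y, y = h0 • g • x := ⟨_, rfl⟩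
  obtain ⟨t, ht⟩ : ∃ t, t = h0 * g * h0⁻¹ := ⟨_, rfl⟩
  have hta : t • a₀ = y := by rw [ht, hy, ← hh0, mul_smul, mul_smul, inv_smul_smul]
  have hty : t • y = a₀ := by rw [ht, hy, mul_smul, mul_smul, inv_smul_smul, hggx, hh0]
  have hya : y ≠ a₀ := by
    intro h
    rw [hy, ← hh0] at h
    exact hgx (smul_left_cancel h0 h)
  have hsymm : ∀ u v, orbitalRel G a₀ y u v → orbitalRel G a₀ y v u := by
    rintro u v ⟨g₁, rfl, rfl⟩
    exact ⟨g₁ * t, by rw [mul_smul, hta], by rw [mul_smul, hty]⟩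
  obtain ⟨k, hk⟩ : ∃ k, k = Nat.card (MulAction.orbit H y) := ⟨_, rfl⟩
  have hk2 : 2 ≤ k := hk ▸ hnofix y hya
  -- the third suborbit
  obtain ⟨b₃, hb₃a, hb₃y⟩ : ∃ b₃ : Ω, b₃ ≠ a₀ ∧
      (Quotient.mk'' b₃ : MulAction.orbitRel.Quotient H Ω) ≠ Quotient.mk'' y := by
    by_contra hcon
    push Not at hcon
    have hsub : (Finset.univ : Finset (MulAction.orbitRel.Quotient H Ω)) ⊆
        {Quotient.mk'' a₀, Quotient.mk'' y} := by
      intro q _
      induction q using Quotient.inductionOn' with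
      | h b =>
      by_cases hb : b = a₀
      · rw [hb]; simp
      · rw [hcon b hb]; simp
    have h1 := Finset.card_le_card hsub
    have h2 : ({Quotient.mk'' a₀, Quotient.mk'' y} :
        Finset (MulAction.orbitRel.Quotient H Ω)).card ≤ 2 := Finset.card_le_two
    rw [Finset.card_univ] at h1
    omega
  have hthird : ∀ b : Ω, b ≠ a₀ →
      (Quotient.mk'' b : MulAction.orbitRel.Quotient H Ω) ≠ Quotient.mk'' y →
      1 + k + Nat.card (MulAction.orbit H b) = 2 * m := by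
    intro b hb hby
    have hcard3 : ({Quotient.mk'' a₀, Quotient.mk'' y, Quotient.mk'' b} :
        Finset (MulAction.orbitRel.Quotient H Ω)).card = 3 := by
      rw [Finset.card_insert_of_notMem, Finset.card_insert_of_notMem, Finset.card_singleton]
      · simp only [Finset.mem_singleton]
        exact fun h => hby h.symm
      · simp only [Finset.mem_insert, Finset.mem_singleton, not_or]
        exact ⟨(hmk_ne y hya).symm, (hmk_ne b hb).symm⟩
    have huniv : ({Quotient.mk'' a₀, Quotient.mk'' y, Quotient.mk'' b} :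
        Finset (MulAction.orbitRel.Quotient H Ω)) = Finset.univ :=
      Finset.eq_univ_of_card _ (by rw [hcard3, hcardQ])
    rw [← huniv, Finset.sum_insert, Finset.sum_insert, Finset.sum_singleton, hs0, hsmk, hsmk,
      hm, ← hk] at hsums
    · omega
    · simp only [Finset.mem_singleton]
      exact fun h => hby h.symm
    · simp only [Finset.mem_insert, Finset.mem_singleton, not_or]
      exact ⟨(hmk_ne y hya).symm, (hmk_ne b hb).symm⟩
  have h3 := hthird b₃ hb₃a hb₃y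
  have hl2 := hnofix b₃ hb₃a
  obtain ⟨a, ha, hma, hka⟩ := rank3_numeric (G := G) (orbitalRel G a₀ y) (orbitalRel_inv a₀ y)
    (orbitalRel_irrefl hya) hsymm k (fun x => (orbitalRel_card a₀ y x).trans hk.symm) m hm
    (by omega) χ₁ χ₂ h₁ h₂ hπ hd₁ hd₂ hk2 (by omega)
  refine ⟨a, ha, hma, ?_⟩
  intro b hb
  by_cases hby : (Quotient.mk'' b : MulAction.orbitRel.Quotient H Ω) = Quotient.mk'' y
  · have : Nat.card (MulAction.orbit H b) = k := by rw [← hsmk, hby, hsmk, hk]
    rw [this]; exact hka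
  · have h4 := hthird b hb hby
    rcases hka with hka | hka
    · right
      rw [hma, hka] at h4
      nlinarith
    · left
      rw [hma, hka] at h4
      nlinarith

end main


end Cfsg.Agent.Lib.Helper19.CentAlg
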