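/-
helper19: S0720 (Wielandt, primitive groups of degree `2p`): definitions shared by the leaves
(`notes/S0720_leaves.lean`).
-/
import Mathlib
import Cfsg.Agent.Lib.Helper19.CentAlgRank3
import Cfsg.Agent.Lib.Lead.BlockBasic

set_option autoImplicit false

namespace Cfsg.Agent.Lib.Helper19.W2P

open Cfsg Cfsg.Agent.CharLib Cfsg.Agent.Lib.Helper19.CentAlg

universe u v

/-- the permutation character -/
noncomputable def permChar (G : Type u) [Group G] (Ω : Type v) [MulAction G Ω] : G → ℂ :=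
  fun g => (Nat.card (MulAction.fixedBy Ω g) : ℂ)

/-- a semiregular subgroup: no non-identity element fixes a point -/
def Semireg {G : Type u} [Group G] (P : Subgroup G) (Ω : Type v) [MulAction G Ω] : Prop :=
  ∀ x ∈ P, x ≠ 1 → ∀ a : Ω, x • a ≠ a

/-- number of points `γ` with `(γ, x γ)` in the orbital of `(α, β)` -/
noncomputable def cnt (G : Type u) [Group G] {Ω : Type v} [MulAction G Ω] (α β : Ω) (x : G) : ℕ :=
  Nat.card {γ : Ω // orbitalRel G α β γ (x • γ)}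

section fin

variable {G : Type u} [Group G] [Fintype G] {Ω : Type v} [Fintype Ω] [DecidableEq Ω] [MulAction G Ω]

/-- the central idempotent of `χ` acting on `ℂ^Ω` -/
noncomputable def idemEnd (χ : G → ℂ) : Module.End ℂ (Ω → ℂ) := opT (eFun χ) (permRep ℂ G Ω)

/-- its matrix entries: `ent χ α β = (χ 1 / |G|) ∑_{g • β = α} conj (χ g)` -/
noncomputable def ent (χ : G → ℂ) (α β : Ω) : ℂ := idemEnd (G := G) χ (Pi.single β 1) α

/-- the output of DECOMP: an irreducible constituent `χ₁` of degree `p` of multiplicity one that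
vanishes on `P ∖ 1`, in a multiplicity-free permutation character -/
structure Chi1 (p : ℕ) (P : Subgroup G) (Ω : Type v) [Fintype Ω] [MulAction G Ω]
    (χ₁ : IrrCharacter G) : Prop where
  deg : (χ₁ : G → ℂ) 1 = p
  vanish : ∀ x ∈ P, x ≠ 1 → (χ₁ : G → ℂ) x = 0
  mult : classInner (permChar G Ω) (χ₁ : G → ℂ) = 1
  multFree : ∀ χ : IrrCharacter G, classInner (permChar G Ω) (χ : G → ℂ) = 0 ∨
    classInner (permChar G Ω) (χ : G → ℂ) = 1

/-- the facts about the idempotent `E = idemEnd χ₁` used downstream -/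
structure IdemFacts (p : ℕ) (P : Subgroup G) (χ₁ : G → ℂ) : Prop where
  idem : idemEnd (G := G) (Ω := Ω) χ₁ ∘ₗ idemEnd χ₁ = idemEnd χ₁
  comm : ∀ g : G, Commute (idemEnd (G := G) (Ω := Ω) χ₁) (permRep ℂ G Ω g)
  tr_one : LinearMap.trace ℂ (Ω → ℂ) (idemEnd (G := G) χ₁) = p
  tr_P : ∀ x ∈ P, x ≠ 1 →
    LinearMap.trace ℂ (Ω → ℂ) (permRep ℂ G Ω x ∘ₗ idemEnd χ₁) = 0
  scalar : ∀ A : Module.End ℂ (Ω → ℂ), (∀ g : G, Commute A (permRep ℂ G Ω g)) →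
    ∃ θ : ℂ, A ∘ₗ idemEnd χ₁ = θ • idemEnd χ₁
  const : idemEnd (G := G) (Ω := Ω) χ₁ (fun _ => 1) = 0

/-- the orbital structure forced by `χ₁` (output of the orbital analysis): with `m = 2a+1`, the
entries of `E` off the diagonal are `0, ±1/(2m)`; the `+` pairs form one orbital of valency `a m`, the
`-` pairs one orbital of valency `(a+1) m`; both meet the `P`-translation pairs `(γ, x γ)` exactly
for `x ∈ S`; for `x ∈ P ∖ (1 ∪ S)` all pairs `(γ, x γ)` lie in one orbital (with `E`-entry `0`), and every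
orbital with entry `0` arises in this way; `Id + O₊ + O₋` kills `E`. -/
structure OrbData (P : Subgroup G) (χ₁ : G → ℂ) (a : ℕ) (S : Set G) : Prop where
  apos : 0 < a
  S_sub : ∀ x ∈ S, x ∈ P ∧ x ≠ 1
  S_card : Nat.card S = 2 * a * (a + 1)
  ent_smul : ∀ (g : G) (α β : Ω), ent χ₁ (g • α) (g • β) = ent χ₁ α β
  ent_symm : ∀ α β : Ω, ent χ₁ α β = ent χ₁ β α
  ent_diag : ∀ α : Ω, ent χ₁ α α = 1 / 2
  ent_vals : ∀ α β : Ω, α ≠ β → ent χ₁ α β = 0 ∨ ent χ₁ α β = 1 / (2 * (2 * (a : ℂ) + 1)) ∨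
    ent χ₁ α β = -(1 / (2 * (2 * (a : ℂ) + 1)))
  card_pos : ∀ α : Ω, Nat.card {β : Ω // ent χ₁ α β = 1 / (2 * (2 * (a : ℂ) + 1))} = a * (2 * a + 1)
  card_neg : ∀ α : Ω,
    Nat.card {β : Ω // ent χ₁ α β = -(1 / (2 * (2 * (a : ℂ) + 1)))} = (a + 1) * (2 * a + 1)
  orb_pos : ∀ α β α' β' : Ω, ent χ₁ α β = 1 / (2 * (2 * (a : ℂ) + 1)) →
    ent χ₁ α' β' = 1 / (2 * (2 * (a : ℂ) + 1)) → ∃ g : G, g • α = α' ∧ g • β = β'
  orb_neg : ∀ α β α' β' : Ω, ent χ₁ α β = -(1 / (2 * (2 * (a : ℂ) + 1))) →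
    ent χ₁ α' β' = -(1 / (2 * (2 * (a : ℂ) + 1))) → ∃ g : G, g • α = α' ∧ g • β = β'
  supp : ∀ x ∈ P, x ≠ 1 → ∀ γ : Ω, (ent χ₁ γ (x • γ) ≠ 0 ↔ x ∈ S)
  type0 : ∀ x ∈ P, x ≠ 1 → x ∉ S → ∀ γ γ' : Ω, ∃ g : G, g • γ = γ' ∧ g • (x • γ) = x • γ'
  type0_surj : ∀ α β : Ω, α ≠ β → ent χ₁ α β = 0 →
    ∃ x ∈ P, x ≠ 1 ∧ x ∉ S ∧ ∃ g : G, g • α = α ∧ g • (x • α) = β
  kill : ∀ α γ : Ω, ∑ β : Ω, (if ent χ₁ α β ≠ 0 then ent χ₁ β γ else 0) = 0

end fin

end Cfsg.Agent.Lib.Helper19.W2P
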