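/-
helper19: S2262 (every automorphism of `PSL_d(q)` has order at most `(q^d - 1)/(q - 1)`, attained):
shared definitions.

`twN θ k g`  : the twisted norm `g * θ g * ... * θ^(k-1) g` of an endomorphism `θ` of a group.
`fixF σ`     : the fixed subfield of a ring automorphism `σ` of a field.
`IsSRecip σ P`: the polynomial `P` is `σ`-reciprocal: the mirror of `σ(P)` is a nonzero constant
               multiple of `P` (`σ = 1`: self-reciprocal).
`mapGL σ`, `gtiHom` : the entrywise field automorphism and the inverse transpose of `GL_n(F)` as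
               endomorphisms; `itAut` : the inverse transpose automorphism of `PSL_n(F)` in `MulAut`.
-/
import Mathlib
import Cfsg.Agent.Lib.Helper18.PSLnOutB

set_option autoImplicit false

namespace Cfsg.Agent.Lib.Helper19.AutPSL

open Matrix Polynomial Cfsg.Agent.Lib.Helper18.PSLnAut

/-- The twisted norm `g * θ g * θ² g * ... * θ^(k-1) g`. -/
def twN {Γ : Type*} [Group Γ] (θ : Γ →* Γ) : ℕ → Γ → Γ
  | 0, _ => 1
  | k + 1, g => g * θ (twN θ k g)

/-- The fixed subfield of a ring automorphism. -/
def fixF {F : Type*} [Field F] (σ : F ≃+* F) : Subfield F where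
  carrier := {x | σ x = x}
  mul_mem' := by
    intro a b ha hb
    show σ (a * b) = a * b
    rw [map_mul, ha, hb]
  one_mem' := map_one σ
  add_mem' := by
    intro a b ha hb
    show σ (a + b) = a + b
    rw [map_add, ha, hb]
  zero_mem' := map_zero σ
  neg_mem' := by
    intro a ha
    show σ (-a) = -a
    rw [map_neg, ha]
  inv_mem' := by
    intro a ha
    show σ a⁻¹ = a⁻¹
    rw [map_inv₀, ha]

theorem mem_fixF {F : Type*} [Field F] (σ : F ≃+* F) (x : F) : x ∈ fixF σ ↔ σ x = x := Iff.rfl

/-- `P` is `σ`-reciprocal: the mirror of `σ(P)` is a nonzero constant multiple of `P`. -/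
def IsSRecip {F : Type*} [Field F] (σ : F ≃+* F) (P : F[X]) : Prop :=
  ∃ u : F, u ≠ 0 ∧ (P.map (σ : F →+* F)).mirror = C u * P

/-- `P` is self-reciprocal: its mirror is a nonzero constant multiple of `P`. -/
def IsRecip {F : Type*} [Field F] (P : F[X]) : Prop :=
  ∃ u : F, u ≠ 0 ∧ P.mirror = C u * P

variable {n : ℕ} {F : Type*} [Field F]

/-- The entrywise field automorphism of `GL_n(F)`. -/
def mapGL (σ : F ≃+* F) : GL (Fin n) F →* GL (Fin n) F :=
  Matrix.GeneralLinearGroup.map (σ : F →+* F)

theorem mapGL_coe (σ : F ≃+* F) (g : GL (Fin n) F) :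
    ((mapGL σ g : GL (Fin n) F) : Matrix (Fin n) (Fin n) F) =
      (g : Matrix (Fin n) (Fin n) F).map σ := rfl

/-- The inverse transpose of `GL_n(F)` as an endomorphism. -/
def gtiHom : GL (Fin n) F →* GL (Fin n) F where
  toFun := gti
  map_one' := by
    apply Units.ext
    rw [gti_coe, inv_one, Units.val_one, Matrix.transpose_one]
  map_mul' := by
    intro g h
    apply Units.ext
    rw [Units.val_mul, gti_coe, gti_coe, gti_coe, _root_.mul_inv_rev, Units.val_mul,
      Matrix.transpose_mul]

theorem gtiHom_apply (g : GL (Fin n) F) : gtiHom g = gti g := rfl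

/-- The inverse transpose automorphism of `PSL_n(F)` as an element of `MulAut`. -/
noncomputable def itAut : MulAut (ProjectiveSpecialLinearGroup (Fin n) F) := itA

theorem itAut_apply (x : ProjectiveSpecialLinearGroup (Fin n) F) : itAut x = itA x := rfl

end Cfsg.Agent.Lib.Helper19.AutPSL
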