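/-
helper19: S2262 leaves CH6-7 (mirror and field automorphisms).
-/
import Cfsg.Agent.Lib.Helper19.AutPSLDefs

set_option autoImplicit false

namespace Cfsg.Agent.Lib.Helper19.AutPSLCH67

open Matrix Polynomial Cfsg.Agent.Lib.Helper18.PSLnAut Cfsg.Agent.Lib.Helper19.AutPSL

variable {n : ℕ} {F : Type*} [Field F]

theorem natTrailingDegree_map_inj (σ : F ≃+* F) (P : F[X]) :
    (P.map (σ : F →+* F)).natTrailingDegree = P.natTrailingDegree := by
  have hinj : Function.Injective ((σ : F →+* F)) := σ.injective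
  by_cases hP : P = 0
  · rw [hP, Polynomial.map_zero]
  have hP' : P.map (σ : F →+* F) ≠ 0 := by
    rwa [Ne, Polynomial.map_eq_zero_iff hinj]
  rw [natTrailingDegree_eq_support_min' hP', natTrailingDegree_eq_support_min' hP]
  congr 1
  exact support_map_of_injective P hinj

/-- (CH6) mirror commutes with the field automorphism. -/
theorem mirror_map (σ : F ≃+* F) (P : F[X]) :
    (P.map (σ : F →+* F)).mirror = (P.mirror).map (σ : F →+* F) := by
  have hinj : Function.Injective ((σ : F →+* F)) := σ.injective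
  ext k
  rw [coeff_mirror, coeff_map, coeff_map, coeff_mirror, natDegree_map_eq_of_injective hinj,
    natTrailingDegree_map_inj]

/-- (CH7) -/
theorem map_sq_of_isSRecip (σ : F ≃+* F) (P : F[X]) (hP : P.Monic) (h0 : P.coeff 0 ≠ 0)
    (h : IsSRecip σ P) : P.map ((σ * σ : F ≃+* F) : F →+* F) = P := by
  obtain ⟨u, hu, h⟩ := h
  have h1 : P.map (σ : F →+* F) = C u * P.mirror := by
    have := congrArg Polynomial.mirror h
    rwa [mirror_mirror, mirror_mul_of_domain, mirror_C] at this
  have h2 : (P.mirror).map (σ : F →+* F) = C u * P := by rw [← mirror_map, h]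
  have h3 : P.map ((σ * σ : F ≃+* F) : F →+* F) = C ((σ : F →+* F) u * u) * P := by
    have hc : ((σ * σ : F ≃+* F) : F →+* F) = (σ : F →+* F).comp (σ : F →+* F) := rfl
    rw [hc, ← Polynomial.map_map, h1, Polynomial.map_mul, Polynomial.map_C, h2, ← mul_assoc, ← C_mul]
  have h4 : (P.map ((σ * σ : F ≃+* F) : F →+* F)).Monic := hP.map _
  have h5 : (σ : F →+* F) u * u = 1 := by
    have := h4.leadingCoeff
    rw [h3, leadingCoeff_mul, leadingCoeff_C, hP.leadingCoeff, mul_one] at this
    exact this
  rw [h3, h5, C_1, one_mul]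

end Cfsg.Agent.Lib.Helper19.AutPSLCH67
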