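import Mathlib
import Cfsg.Agent.Lib.Helper29.SpPrfDefs
import Cfsg.Agent.Lib.Helper20.AschA89Main
import Cfsg.Agent.Lib.Helper17.SpAschQ0
import Cfsg.Agent.Lib.Helper17.SpAschZ
import Cfsg.Agent.Lib.Helper28.SLMP7core

/-!
helper19: S5662 block PRF, leaves A1 A2 A3 A4 A8 A9 (pure `slot`/`fperm`/`ptens` calculus).
-/

set_option autoImplicit false
set_option linter.unusedSectionVars false
set_option linter.unusedVariables false

namespace Cfsg.Agent.Lib.Helper19.SpPrfLeaf
open Matrix Cfsg Cfsg.Geo Cfsg.Agent.Lib.Helper20.Asch Cfsg.Agent.Lib.Helper29.SpAsch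
  Cfsg.Agent.Lib.Helper18.AschA89
open scoped Kronecker

variable {F : Type*} [Field F] [Fintype F] {n m : ℕ} {J : Matrix (Fin n) (Fin n) F}
  {H N : Subgroup (GL (Fin n) F)}

/-- (A1) [S] -/
theorem slot_transpose (s t : ℕ) (i : Fin t) (A : Matrix (Fin s) (Fin s) F) :
    (slot s t i A)ᵀ = slot s t i Aᵀ := by
  ext x y
  rw [Matrix.transpose_apply, slot_apply, slot_apply, Matrix.transpose_apply]
  by_cases h : ∀ j, j ≠ i → y j = x j
  · rw [if_pos h, if_pos (fun j hj => (h j hj).symm)]
  · rw [if_neg h, if_neg (fun h' => h (fun j hj => (h' j hj).symm))]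

/-- (A2) [S] -/
theorem fperm_transpose (s t : ℕ) (σ : Equiv.Perm (Fin t)) :
    (fperm (F := F) s t σ)ᵀ = fperm s t σ⁻¹ := by
  ext x y
  rw [Matrix.transpose_apply, fperm_apply, fperm_apply]
  have : (x = y ∘ σ) ↔ (y = x ∘ ((σ⁻¹ : Equiv.Perm (Fin t)) : Fin t → Fin t)) := by
    constructor
    · rintro rfl
      funext j
      simp
    · rintro rfl
      funext j
      simp
  by_cases h : x = y ∘ σ
  · rw [if_pos h, if_pos (this.1 h)]
  · rw [if_neg h, if_neg (fun h' => h (this.2 h'))]

/-- (A3) [M] -/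
theorem fperm_conj_ptens (s t : ℕ) (σ : Equiv.Perm (Fin t)) (G : Fin t → Matrix (Fin s) (Fin s) F) :
    fperm s t σ * ptens s t G * fperm s t σ⁻¹ = ptens s t (fun j => G (σ⁻¹ j)) := by
  ext x z
  rw [Cfsg.Agent.Lib.Helper20.AschLeaf.wr_mul_fperm_apply, Cfsg.Agent.Lib.Helper20.AschLeaf.wr_fperm_mul_apply,
    ptens_apply, ptens_apply]
  rw [← Equiv.prod_comp σ (fun j => G (σ⁻¹ j) (x j) (z j))]
  apply Finset.prod_congr rfl
  intro i _
  simp

/-- (A4) [M] uniqueness of pure tensors up to scalars -/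
theorem ptens_eq_smul_ptens {s t : ℕ} (a b : Fin t → Matrix (Fin s) (Fin s) F) (c : F) (hc : c ≠ 0)
    (hb : ∀ i, b i ≠ 0) (h : ptens s t a = c • ptens s t b) :
    ∃ d : Fin t → F, (∀ i, d i ≠ 0) ∧ (∀ i, a i = d i • b i) ∧ ∏ i, d i = c := by
  -- a non-zero entry of every `b i`
  have hex : ∀ i, ∃ u v, b i u v ≠ 0 := by
    intro i
    by_contra hne
    push_neg at hne
    exact hb i (by ext u v; exact hne u v)
  choose x0 y0 hxy using hex
  have hentry : ∀ x y : Fin t → Fin s, ∏ i, a i (x i) (y i) = c * ∏ i, b i (x i) (y i) := by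
    intro x y
    have := congrFun (congrFun h x) y
    rwa [ptens_apply, Matrix.smul_apply, ptens_apply, smul_eq_mul] at this
  have hb0 : ∏ i, b i (x0 i) (y0 i) ≠ 0 := Finset.prod_ne_zero_iff.mpr (fun i _ => hxy i)
  have ha0 : ∏ i, a i (x0 i) (y0 i) ≠ 0 := by
    rw [hentry]
    exact mul_ne_zero hc hb0
  have ha0i : ∀ i, a i (x0 i) (y0 i) ≠ 0 := fun i => (Finset.prod_ne_zero_iff.mp ha0) i (Finset.mem_univ i)
  -- the scalars
  refine ⟨fun i => a i (x0 i) (y0 i) / b i (x0 i) (y0 i), fun i => div_ne_zero (ha0i i) (hxy i), ?_, ?_⟩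
  · intro i
    ext u v
    have h1 := hentry (Function.update x0 i u) (Function.update y0 i v)
    have e1 : ∀ (g : Fin t → Matrix (Fin s) (Fin s) F),
        ∏ j, g j (Function.update x0 i u j) (Function.update y0 i v j) =
          g i u v * ∏ j ∈ Finset.univ.erase i, g j (x0 j) (y0 j) := by
      intro g
      rw [← Finset.mul_prod_erase Finset.univ _ (Finset.mem_univ i)]
      congr 1
      · rw [Function.update_self, Function.update_self]
      · apply Finset.prod_congr rfl
        intro j hj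
        rw [Function.update_of_ne (Finset.ne_of_mem_erase hj), Function.update_of_ne (Finset.ne_of_mem_erase hj)]
    have e2 : ∀ (g : Fin t → Matrix (Fin s) (Fin s) F),
        ∏ j, g j (x0 j) (y0 j) = g i (x0 i) (y0 i) * ∏ j ∈ Finset.univ.erase i, g j (x0 j) (y0 j) := by
      intro g
      exact (Finset.mul_prod_erase Finset.univ (fun j => g j (x0 j) (y0 j)) (Finset.mem_univ i)).symm
    rw [e1 a, e1 b] at h1
    have h0 := hentry x0 y0
    rw [e2 a, e2 b] at h0
    set pa := ∏ j ∈ Finset.univ.erase i, a j (x0 j) (y0 j) with hpa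
    set pb := ∏ j ∈ Finset.univ.erase i, b j (x0 j) (y0 j) with hpb
    have hpa0 : pa ≠ 0 := by
      intro h0'
      apply ha0
      rw [e2 a, ← hpa, h0', mul_zero]
    have hbi := hxy i
    rw [Matrix.smul_apply, smul_eq_mul]
    -- a i u v * pa = c * (b i u v * pb), a0 * pa = c * (b0 * pb)
    have : a i u v * pa * (b i (x0 i) (y0 i)) = a i (x0 i) (y0 i) * b i u v * pa := by
      calc a i u v * pa * (b i (x0 i) (y0 i)) = c * (b i u v * pb) * b i (x0 i) (y0 i) := by rw [h1]
        _ = b i u v * (c * (b i (x0 i) (y0 i) * pb)) := by ring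
        _ = b i u v * (a i (x0 i) (y0 i) * pa) := by rw [← h0]
        _ = a i (x0 i) (y0 i) * b i u v * pa := by ring
    field_simp
    have h3 : (a i u v * b i (x0 i) (y0 i)) * pa = (a i (x0 i) (y0 i) * b i u v) * pa := by
      rw [← this]; ring
    exact mul_right_cancel₀ hpa0 h3
  · rw [Finset.prod_div_distrib, hentry x0 y0]
    field_simp

/-- (A8) [S-M] `ptens` is additive in each slot. -/
theorem ptens_update_add {s t : ℕ} (G : Fin t → Matrix (Fin s) (Fin s) F) (i : Fin t)
    (A B : Matrix (Fin s) (Fin s) F) :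
    ptens s t (Function.update G i (A + B)) =
      ptens s t (Function.update G i A) + ptens s t (Function.update G i B) := by
  ext x y
  rw [Matrix.add_apply, ptens_apply, ptens_apply, ptens_apply]
  rw [← Finset.mul_prod_erase Finset.univ _ (Finset.mem_univ i),
    ← Finset.mul_prod_erase Finset.univ _ (Finset.mem_univ i),
    ← Finset.mul_prod_erase Finset.univ _ (Finset.mem_univ i)]
  rw [Function.update_self, Function.update_self, Function.update_self, Matrix.add_apply, add_mul]
  have e : ∀ C : Matrix (Fin s) (Fin s) F,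
      ∏ j ∈ Finset.univ.erase i, Function.update G i C j (x j) (y j) =
        ∏ j ∈ Finset.univ.erase i, G j (x j) (y j) := by
    intro C
    apply Finset.prod_congr rfl
    intro j hj
    rw [Function.update_of_ne (Finset.ne_of_mem_erase hj)]
  rw [e, e, e]

/-- (A9) [M] the form `ptens A` on pure tensor vectors -/
theorem bfm_ptens_pvec {s t : ℕ} (A : Fin t → Matrix (Fin s) (Fin s) F) (v w : Fin t → Fin s → F) :
    bfm (ptens s t A) (pvec v) (pvec w) = ∏ i, bfm (A i) (v i) (w i) := by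
  unfold bfm
  simp only [dotProduct, Matrix.mulVec, pvec, ptens_apply]
  -- RHS: ∏ i, ∑ a, v i a * ∑ b, A i a b * w i b
  have hR : ∀ i, (∑ a, v i a * ∑ b, A i a b * w i b) = ∑ p : Fin s × Fin s, v i p.1 * A i p.1 p.2 * w i p.2 := by
    intro i
    rw [Fintype.sum_prod_type]
    apply Finset.sum_congr rfl
    intro a _
    rw [Finset.mul_sum]
    apply Finset.sum_congr rfl
    intro b _
    ring
  simp only [hR]
  rw [Finset.prod_univ_sum, Fintype.piFinset_univ]
  -- LHS: ∑ x, (∏ i, v i (x i)) * ∑ y, (∏ i, A i (x i) (y i)) * ∏ i, w i (y i)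
  have hL : (∑ x : Fin t → Fin s, (∏ i, v i (x i)) * ∑ y : Fin t → Fin s, (∏ i, A i (x i) (y i)) * ∏ i, w i (y i)) =
      ∑ p : (Fin t → Fin s) × (Fin t → Fin s), ∏ i, v i (p.1 i) * A i (p.1 i) (p.2 i) * w i (p.2 i) := by
    rw [Fintype.sum_prod_type]
    apply Finset.sum_congr rfl
    intro x _
    rw [Finset.mul_sum]
    apply Finset.sum_congr rfl
    intro y _
    rw [← Finset.prod_mul_distrib, ← Finset.prod_mul_distrib]
    apply Finset.prod_congr rfl
    intro i _
    ring
  rw [hL]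
  -- reindex pairs of functions as functions to pairs
  let E : ((Fin t → Fin s) × (Fin t → Fin s)) ≃ (Fin t → Fin s × Fin s) :=
    (Equiv.arrowProdEquivProdArrow (Fin t) (fun _ => Fin s) (fun _ => Fin s)).symm
  rw [← Equiv.sum_comp E.symm]
  apply Finset.sum_congr rfl
  intro p _
  rfl

end Cfsg.Agent.Lib.Helper19.SpPrfLeaf
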