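/-
helper19: S2281, the one-step third conjugate.  In helper26's coordinates (`u0 c`), the Siegel radical element
`gQ a = Q(X)`, `X = a (E_11 - E_02 - E_20)` satisfies `gQ a * u0 c * (gQ a)⁻¹ = Tr e_0 a * u0 c` (any field, `3 ≤ m`):
a subgroup containing `u0 c` and this conjugate contains the long root element `Tr e_0 a`.
-/
import Mathlib
import Cfsg.Agent.Lib.Helper6.SpGenE
import Cfsg.Agent.Lib.Helper26.RegSpD

set_option autoImplicit false

namespace Cfsg.Agent.Lib.Helper19.RegSpG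

open Matrix Cfsg.Agent.Lib.Helper5 Cfsg.Agent.Lib.Helper14 Cfsg.Agent.Lib.Helper14.SpPerfect Cfsg.Agent.Lib.Helper6.SpGen
open Cfsg.Agent.Lib.Helper26.RegSp

variable {F : Type*} [Field F] {m : ℕ}

/-- the Siegel radical element `Q(X)`, `X = a (E_11 - E_02 - E_20)`:
fixes every `e_i`, `f_1 ↦ f_1 + a e_1`, `f_0 ↦ f_0 - a e_2`, `f_2 ↦ f_2 - a e_0`. -/
def gQ (hm : 3 ≤ m) (a : F) : Matrix.symplecticGroup (Fin m) F :=
  Tr (eV ⟨1, by omega⟩) a * Tr (eV ⟨0, by omega⟩ + eV ⟨2, by omega⟩) (-a) *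
    Tr (eV ⟨0, by omega⟩) a * Tr (eV ⟨2, by omega⟩) a

theorem ap_gQ (hm : 3 ≤ m) (a : F) (x : Fin m ⊕ Fin m → F) :
    ap (gQ hm a) x = x + (a * x (Sum.inr ⟨1, by omega⟩)) • eV ⟨1, by omega⟩
      - (a * x (Sum.inr ⟨0, by omega⟩)) • eV ⟨2, by omega⟩
      - (a * x (Sum.inr ⟨2, by omega⟩)) • eV ⟨0, by omega⟩ := by
  unfold gQ
  rw [ap_mul, ap_mul, ap_mul, ap_Tr_eV, ap_Tr_eV, ap_Tr_eV_add, ap_Tr_eV]
  funext k
  rcases k with k | k
  · simp only [Pi.add_apply, Pi.sub_apply, Pi.smul_apply, eV_inl, eV_inr, smul_eq_mul]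
    ring
  · simp only [Pi.add_apply, Pi.sub_apply, Pi.smul_apply, eV_inr, smul_eq_mul]
    ring

/-- column sums against the coefficients `phiF j k` (fixed row `k`). -/
theorem sum_phiF_col (g : Fin m → F) (k : Fin m) :
    ∑ j, phiF j k * g j =
      g k - (if h : 0 < (k : ℕ) then g ⟨(k : ℕ) - 1, by have := k.2; omega⟩ else 0) := by
  have hsplit : ∀ j : Fin m, phiF j k * g j =
      (if j = k then g j else 0) - (if (j : ℕ) + 1 = (k : ℕ) then g j else 0) := by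
    intro j
    unfold phiF
    by_cases h1 : k = j
    · have h2 : ¬ ((j : ℕ) + 1 = (k : ℕ)) := by rw [h1]; omega
      rw [if_pos h1, if_pos h1.symm, if_neg h2, one_mul, sub_zero]
    · have h1' : ¬ j = k := fun h => h1 h.symm
      by_cases h2 : (k : ℕ) = (j : ℕ) + 1
      · rw [if_neg h1, if_pos h2, if_neg h1', if_pos h2.symm, neg_one_mul, zero_sub]
      · have h2' : ¬ ((j : ℕ) + 1 = (k : ℕ)) := fun h => h2 h.symm
        rw [if_neg h1, if_neg h2, if_neg h1', if_neg h2', zero_mul, sub_zero]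
  rw [Finset.sum_congr rfl (fun j _ => hsplit j), Finset.sum_sub_distrib]
  congr 1
  · rw [Finset.sum_ite_eq' Finset.univ k g, if_pos (Finset.mem_univ _)]
  · by_cases h : 0 < (k : ℕ)
    · rw [dif_pos h]
      have hk := k.2
      have : ∀ j : Fin m, (if (j : ℕ) + 1 = (k : ℕ) then g j else 0) =
          (if j = (⟨(k : ℕ) - 1, by omega⟩ : Fin m) then g j else 0) := by
        intro j
        have : ((j : ℕ) + 1 = (k : ℕ)) ↔ j = (⟨(k : ℕ) - 1, by omega⟩ : Fin m) := by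
          constructor
          · intro hj; apply Fin.ext; show (j : ℕ) = (k : ℕ) - 1; omega
          · intro hj; rw [hj]; show (k : ℕ) - 1 + 1 = (k : ℕ); omega
        simp only [this]
      rw [Finset.sum_congr rfl (fun j _ => this j),
        Finset.sum_ite_eq' Finset.univ (⟨(k : ℕ) - 1, by omega⟩ : Fin m) g,
        if_pos (Finset.mem_univ _)]
    · rw [dif_neg h]
      apply Finset.sum_eq_zero
      intro j _
      rw [if_neg (by omega)]

/-- the `f`-coordinates of `u0 c x`. -/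
theorem ap_u0_inr (c : F) (x : Fin m ⊕ Fin m → F) (k : Fin m) :
    ap (u0 m c) x (Sum.inr k) = x (Sum.inr k) -
      (if h : 0 < (k : ℕ) then x (Sum.inr ⟨(k : ℕ) - 1, by have := k.2; omega⟩) else 0) := by
  unfold ap
  rw [Matrix.mulVec, dotProduct, Fintype.sum_sum_type]
  simp only [u0_apply_inl, u0_apply_inr, colE_inr, colF_inr, zero_mul, Finset.sum_const_zero,
    zero_add]
  exact sum_phiF_col (fun j => x (Sum.inr j)) k

theorem ap_u0_inr0 (hm : 3 ≤ m) (c : F) (x : Fin m ⊕ Fin m → F) :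
    ap (u0 m c) x (Sum.inr ⟨0, by omega⟩) = x (Sum.inr ⟨0, by omega⟩) := by
  rw [ap_u0_inr, dif_neg (by simp), sub_zero]

theorem ap_u0_inr1 (hm : 3 ≤ m) (c : F) (x : Fin m ⊕ Fin m → F) :
    ap (u0 m c) x (Sum.inr ⟨1, by omega⟩) = x (Sum.inr ⟨1, by omega⟩) - x (Sum.inr ⟨0, by omega⟩) := by
  rw [ap_u0_inr, dif_pos (by simp)]
  rfl

theorem ap_u0_inr2 (hm : 3 ≤ m) (c : F) (x : Fin m ⊕ Fin m → F) :
    ap (u0 m c) x (Sum.inr ⟨2, by omega⟩) = x (Sum.inr ⟨2, by omega⟩) - x (Sum.inr ⟨1, by omega⟩) := by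
  rw [ap_u0_inr, dif_pos (by simp)]
  rfl

theorem colE_zero (hm : 3 ≤ m) :
    (colE (⟨0, by omega⟩ : Fin m) : Fin m ⊕ Fin m → F) = eV ⟨0, by omega⟩ := by
  funext k
  rcases k with k | k
  · rw [colE_inl, eV_inl]
    congr 1
    apply propext
    rw [Fin.le_def, Fin.ext_iff]
    show (k : ℕ) ≤ 0 ↔ (k : ℕ) = 0
    omega
  · rw [colE_inr, eV_inr]

theorem colE_one (hm : 3 ≤ m) :
    (colE (⟨1, by omega⟩ : Fin m) : Fin m ⊕ Fin m → F) = eV ⟨0, by omega⟩ + eV ⟨1, by omega⟩ := by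
  funext k
  rcases k with k | k
  · rw [colE_inl, Pi.add_apply, eV_inl, eV_inl]
    simp only [Fin.le_def, Fin.ext_iff]
    show (if (k : ℕ) ≤ 1 then (1 : F) else 0) = (if (k : ℕ) = 0 then 1 else 0) + (if (k : ℕ) = 1 then 1 else 0)
    by_cases h0 : (k : ℕ) = 0
    · rw [if_pos (by omega), if_pos h0, if_neg (by omega), add_zero]
    · by_cases h1 : (k : ℕ) = 1
      · rw [if_pos (by omega), if_neg h0, if_pos h1, zero_add]
      · rw [if_neg (by omega), if_neg h0, if_neg h1, add_zero]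
  · rw [colE_inr, Pi.add_apply, eV_inr, eV_inr, add_zero]

theorem colE_two (hm : 3 ≤ m) :
    (colE (⟨2, by omega⟩ : Fin m) : Fin m ⊕ Fin m → F) =
      eV ⟨0, by omega⟩ + eV ⟨1, by omega⟩ + eV ⟨2, by omega⟩ := by
  funext k
  rcases k with k | k
  · rw [colE_inl, Pi.add_apply, Pi.add_apply, eV_inl, eV_inl, eV_inl]
    simp only [Fin.le_def, Fin.ext_iff]
    show (if (k : ℕ) ≤ 2 then (1 : F) else 0) =
      (if (k : ℕ) = 0 then 1 else 0) + (if (k : ℕ) = 1 then 1 else 0) + (if (k : ℕ) = 2 then 1 else 0)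
    by_cases h0 : (k : ℕ) = 0
    · rw [if_pos (by omega), if_pos h0, if_neg (by omega), if_neg (by omega), add_zero, add_zero]
    · by_cases h1 : (k : ℕ) = 1
      · rw [if_pos (by omega), if_neg h0, if_pos h1, if_neg (by omega), zero_add, add_zero]
      · by_cases h2 : (k : ℕ) = 2
        · rw [if_pos (by omega), if_neg h0, if_neg h1, if_pos h2, zero_add, zero_add]
        · rw [if_neg (by omega), if_neg h0, if_neg h1, if_neg h2, add_zero, add_zero]
  · rw [colE_inr, Pi.add_apply, Pi.add_apply, eV_inr, eV_inr, eV_inr, add_zero, add_zero]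

/-- **the one-step third conjugate**: conjugating `u0 c` by the Siegel radical element `gQ a`
multiplies it by the long root element `Tr e_0 a` (any field, `3 ≤ m`). -/
theorem gQ_mul_u0 (hm : 3 ≤ m) (a c : F) :
    gQ hm a * u0 m c = Tr (eV ⟨0, by omega⟩) a * u0 m c * gQ hm a := by
  apply ap_ext
  intro x
  rw [ap_mul, ap_mul, ap_mul, ap_gQ, ap_gQ, ap_Tr_eV]
  rw [ap_sub, ap_sub, ap_add, ap_smul, ap_smul, ap_smul, ap_u0_eV, ap_u0_eV, ap_u0_eV,
    colE_zero hm, colE_one hm, colE_two hm]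
  funext k
  rcases k with k | k
  · simp only [Pi.add_apply, Pi.sub_apply, Pi.smul_apply, eV_inl, eV_inr, smul_eq_mul, mul_zero,
      add_zero, sub_zero, ap_u0_inr0 hm, ap_u0_inr1 hm, ap_u0_inr2 hm]
    ring
  · simp only [Pi.add_apply, Pi.sub_apply, Pi.smul_apply, eV_inr, smul_eq_mul, mul_zero,
      add_zero, sub_zero, ap_u0_inr0 hm, ap_u0_inr1 hm, ap_u0_inr2 hm]

theorem gQ_conj (hm : 3 ≤ m) (a c : F) :
    gQ hm a * u0 m c * (gQ hm a)⁻¹ = Tr (eV ⟨0, by omega⟩) a * u0 m c := by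
  rw [gQ_mul_u0, mul_inv_cancel_right]

/-- the long root element is in any subgroup containing `u0 c` and its `gQ a`-conjugate. -/
theorem Tr_e0_mem (hm : 3 ≤ m) (a c : F) (M : Subgroup (Matrix.symplecticGroup (Fin m) F))
    (hu : u0 m c ∈ M) (hg : gQ hm a * u0 m c * (gQ hm a)⁻¹ ∈ M) :
    Tr (eV ⟨0, by omega⟩) a ∈ M := by
  have h := M.mul_mem hg (M.inv_mem hu)
  rwa [gQ_conj, mul_inv_cancel_right] at h

end Cfsg.Agent.Lib.Helper19.RegSpG
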