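/-
helper19: S2281.  (i) helper25's endgame `SpReg.endgame` instantiated for helper26's pair `u0 1`, `w0 1`
(`endgame_u0w0`: `u0 1, w0 1 ∈ M` and `e_0 ∈ Rt M` imply `M = ⊤`, any field);
(ii) `core4`: the frozen S2281 conclusion for `card F = 2`, `3 ≤ m` (third conjugate `gQ 1`, `RegSpG.gQ_conj`).
-/
import Mathlib
import Cfsg.Agent.Lib.Helper6.SpGenE
import Cfsg.Agent.Lib.Helper26.RegSpE
import Cfsg.Agent.Lib.Helper25.SpRegEnd
import Cfsg.Agent.Lib.Helper19.RegSpG

set_option autoImplicit false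

namespace Cfsg.Agent.Lib.Helper19.RegSpG

open Matrix Cfsg.Agent.Lib.Helper5 Cfsg.Agent.Lib.Helper14 Cfsg.Agent.Lib.Helper14.SpPerfect Cfsg.Agent.Lib.Helper6.SpGen
open Cfsg.Agent.Lib.Helper26.RegSp

variable {F : Type*} [Field F] {m : ℕ}

/-- the `e`-coordinates of `u0 c x`. -/
theorem ap_u0_inl (c : F) (x : Fin m ⊕ Fin m → F) (k : Fin m) :
    ap (u0 m c) x (Sum.inl k) = (∑ i : Fin m, (if k ≤ i then 1 else 0) * x (Sum.inl i)) +
      ∑ j : Fin m, (if (j : ℕ) + 1 = m then c else 0) * x (Sum.inr j) := by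
  unfold ap
  rw [Matrix.mulVec, dotProduct, Fintype.sum_sum_type]
  simp only [u0_apply_inl, u0_apply_inr, colE_inl, colF_inl]

theorem w0_eV_succ (c : F) (i j : Fin m) (hij : j.val = i.val + 1) :
    ap (w0 m c) (eV i) = (eV i - eV j : Fin m ⊕ Fin m → F) := by
  rw [ap_w0_eV]
  have hj := j.2
  funext a
  rcases a with k | k
  · show phiF i k = _
    rw [Pi.sub_apply, eV_inl, eV_inl]
    unfold phiF
    by_cases h1 : k = i
    · have h2 : ¬ k = j := by
        intro h; rw [h1] at h; rw [h] at hij; omega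
      rw [if_pos h1, if_pos h1, if_neg h2, sub_zero]
    · by_cases h2 : k = j
      · rw [if_neg h1, if_pos (by rw [h2]; exact hij), if_neg h1, if_pos h2, zero_sub]
      · have h3 : ¬ ((k : ℕ) = (i : ℕ) + 1) := by
          intro h; apply h2; apply Fin.ext; omega
        rw [if_neg h1, if_neg h3, if_neg h1, if_neg h2, sub_zero]
  · show (if (i : ℕ) + 1 = m then -c else 0) = _
    rw [if_neg (by omega), Pi.sub_apply, eV_inr, eV_inr, sub_zero]

theorem u0_eV_diff (c : F) (i j : Fin m) (hij : j.val = i.val + 1) :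
    ap (u0 m c) (eV i - eV j : Fin m ⊕ Fin m → F) = -eV j := by
  rw [ap_sub, ap_u0_eV, ap_u0_eV]
  funext a
  rcases a with k | k
  · rw [Pi.sub_apply, colE_inl, colE_inl, Pi.neg_apply, eV_inl]
    simp only [Fin.le_def, Fin.ext_iff]
    by_cases h1 : (k : ℕ) ≤ (i : ℕ)
    · rw [if_pos h1, if_pos (by omega), if_neg (by omega), sub_self, neg_zero]
    · by_cases h2 : (k : ℕ) = (j : ℕ)
      · rw [if_neg h1, if_pos (by omega), if_pos h2, zero_sub]
      · rw [if_neg h1, if_neg (by omega), if_neg h2, sub_zero, neg_zero]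
  · rw [Pi.sub_apply, colE_inr, colE_inr, Pi.neg_apply, eV_inr, sub_zero, neg_zero]

theorem u0_fV_succ (c : F) (i j : Fin m) (hij : j.val = i.val + 1) :
    ap (u0 m c) (fV i) = (fV i - fV j : Fin m ⊕ Fin m → F) := by
  rw [ap_u0_fV]
  have hj := j.2
  funext a
  rcases a with k | k
  · rw [colF_inl, if_neg (by omega), Pi.sub_apply, fV_inl, fV_inl, sub_zero]
  · rw [colF_inr, Pi.sub_apply, fV_inr, fV_inr]
    unfold phiF
    by_cases h1 : k = i
    · have h2 : ¬ k = j := by
        intro h; rw [h1] at h; rw [h] at hij; omega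
      rw [if_pos h1, if_pos h1, if_neg h2, sub_zero]
    · by_cases h2 : k = j
      · rw [if_neg h1, if_pos (by rw [h2]; exact hij), if_neg h1, if_pos h2, zero_sub]
      · have h3 : ¬ ((k : ℕ) = (i : ℕ) + 1) := by
          intro h; apply h2; apply Fin.ext; omega
        rw [if_neg h1, if_neg h3, if_neg h1, if_neg h2, sub_zero]

theorem w0_fV_diff (c : F) (i j : Fin m) (hij : j.val = i.val + 1) :
    ap (w0 m c) (fV i - fV j : Fin m ⊕ Fin m → F) = -fV j := by
  rw [ap_sub, ap_w0_fV, ap_w0_fV]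
  funext a
  rcases a with k | k
  · show (0 : F) - 0 = _
    rw [Pi.neg_apply, fV_inl, sub_zero, neg_zero]
  · show (if k ≤ i then (1 : F) else 0) - (if k ≤ j then 1 else 0) = _
    rw [Pi.neg_apply, fV_inr]
    simp only [Fin.le_def, Fin.ext_iff]
    by_cases h1 : (k : ℕ) ≤ (i : ℕ)
    · rw [if_pos h1, if_pos (by omega), if_neg (by omega), sub_self, neg_zero]
    · by_cases h2 : (k : ℕ) = (j : ℕ)
      · rw [if_neg h1, if_pos (by omega), if_pos h2, zero_sub]
      · rw [if_neg h1, if_neg (by omega), if_neg h2, sub_zero, neg_zero]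

theorem u0_w0_last (i0 il : Fin m) (h0 : i0.val = 0) (hl : il.val + 1 = m) :
    ap (u0 m (1 : F)) (ap (w0 m (1 : F)) (eV il)) = (-fV i0 : Fin m ⊕ Fin m → F) := by
  rw [ap_w0_eV]
  funext a
  rcases a with k | k
  · rw [ap_u0_inl, Pi.neg_apply, fV_inl, neg_zero]
    have e1 : ∑ i : Fin m, (if k ≤ i then (1 : F) else 0) * rowE (1 : F) il (Sum.inl i) = 1 := by
      have : ∀ i : Fin m, (if k ≤ i then (1 : F) else 0) * rowE (1 : F) il (Sum.inl i) =
          phiF il i * (if k ≤ i then (1 : F) else 0) := by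
        intro i; rw [mul_comm]; rfl
      rw [Finset.sum_congr rfl (fun i _ => this i), sum_phiF (fun i => if k ≤ i then (1 : F) else 0) il,
        dif_neg (by omega), sub_zero, if_pos]
      rw [Fin.le_def]
      have := k.2
      omega
    have e2 : ∑ j : Fin m, (if (j : ℕ) + 1 = m then (1 : F) else 0) * rowE (1 : F) il (Sum.inr j) = -1 := by
      rw [Finset.sum_eq_single il]
      · rw [if_pos hl, one_mul]
        show (if (il : ℕ) + 1 = m then -(1 : F) else 0) = -1
        rw [if_pos hl]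
      · intro j _ hj
        rw [if_neg, zero_mul]
        intro h
        apply hj
        apply Fin.ext
        omega
      · intro h
        exact absurd (Finset.mem_univ _) h
    rw [e1, e2]
    ring
  · rw [ap_u0_inr, Pi.neg_apply, fV_inr]
    have hr : ∀ j : Fin m, rowE (1 : F) il (Sum.inr j) = -1 := by
      intro j
      show (if (il : ℕ) + 1 = m then -(1 : F) else 0) = -1
      rw [if_pos hl]
    rw [hr]
    by_cases hk : 0 < (k : ℕ)
    · rw [dif_pos hk, hr, if_neg]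
      · ring
      · intro h
        rw [h] at hk
        omega
    · rw [dif_neg hk, if_pos, sub_zero]
      apply Fin.ext
      omega

/-- **helper25's endgame for helper26's pair** `u0 1`, `w0 1`. -/
theorem endgame_u0w0 (hm : 0 < m) {M : Subgroup (Matrix.symplecticGroup (Fin m) F)}
    (hu : u0 m (1 : F) ∈ M) (hw : w0 m (1 : F) ∈ M)
    (h0 : (eV ⟨0, hm⟩ : Fin m ⊕ Fin m → F) ∈ Rt M) : M = ⊤ :=
  Cfsg.Agent.Lib.Helper25.SpReg.endgame hm hu hw
    (fun i j hij => w0_eV_succ 1 i j hij)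
    (fun i j hij => u0_eV_diff 1 i j hij)
    (fun i0 il h0 hl => u0_w0_last i0 il h0 hl)
    (fun i j hij => u0_fV_succ 1 i j hij)
    (fun i j hij => w0_fV_diff 1 i j hij)
    h0

/-- **S2281, core (4)**: `q = 2`, `n ≥ 3` (the frozen conclusion at `n = m`).  `u = u0 1`, `g = gQ 1`, `h = J`. -/
theorem core4 [Fintype F] (hF : Fintype.card F = 2) (hm : 3 ≤ m) :
    ∃ u g h : Matrix.symplecticGroup (Fin m) F,
      IsNilpotent ((u : Matrix (Fin m ⊕ Fin m) (Fin m ⊕ Fin m) F) - 1) ∧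
      ((u : Matrix (Fin m ⊕ Fin m) (Fin m ⊕ Fin m) F) - 1) ^ (2 * m - 1) ≠ 0 ∧
      Subgroup.closure ({u, g * u * g⁻¹, h * u * h⁻¹} : Set (Matrix.symplecticGroup (Fin m) F)) = ⊤ := by
  have hm0 : 0 < m := by omega
  refine ⟨u0 m 1, gQ hm 1, Jsp m F, (u0_regular hm0 one_ne_zero).1, (u0_regular hm0 one_ne_zero).2, ?_⟩
  set M : Subgroup (Matrix.symplecticGroup (Fin m) F) :=
    Subgroup.closure ({u0 m 1, gQ hm 1 * u0 m 1 * (gQ hm 1)⁻¹, Jsp m F * u0 m 1 * (Jsp m F)⁻¹} :
      Set (Matrix.symplecticGroup (Fin m) F)) with hM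
  have hu : u0 m (1 : F) ∈ M := Subgroup.subset_closure (by simp)
  have hg : gQ hm 1 * u0 m (1 : F) * (gQ hm 1)⁻¹ ∈ M := Subgroup.subset_closure (by simp)
  have hw : w0 m (1 : F) ∈ M := Subgroup.subset_closure (by simp [w0])
  have ht : Tr (eV ⟨0, by omega⟩) (1 : F) ∈ M := Tr_e0_mem hm 1 1 M hu hg
  exact endgame_u0w0 hm0 hu hw (Rt_of_card_two hF ht)

end Cfsg.Agent.Lib.Helper19.RegSpG
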