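import Mathlib

set_option autoImplicit false

namespace Cfsg.Agent.Lib.Helper19.SchurCyclic

open scoped Classical

set_option linter.unusedSectionVars false

variable {H U : Type*} [Group H] [Fintype H] [Group U]

/-- Axioms for the action of a point stabiliser transported to a regular subgroup `H`. -/
structure Ax (star : U → H → H) : Prop where
  one_right : ∀ u, star u 1 = 1
  one_left : ∀ c, star 1 c = c
  mul : ∀ u v c, star (u * v) c = star u (star v c)
  split : ∀ u z, ∃ u', ∀ w, star u (z * w) = star u z * star u' w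

variable {star : U → H → H}

/-- star-invariant finite sets -/
def Inv (star : U → H → H) (T : Finset H) : Prop := ∀ u, ∀ t ∈ T, star u t ∈ T

theorem Ax.inv_left (h : Ax star) (u : U) (c : H) : star u⁻¹ (star u c) = c := by
  rw [← h.mul, inv_mul_cancel, h.one_left]

theorem Ax.inv_right (h : Ax star) (u : U) (c : H) : star u (star u⁻¹ c) = c := by
  rw [← h.mul, mul_inv_cancel, h.one_left]

theorem Ax.injective (h : Ax star) (u : U) : Function.Injective (star u) := by
  intro a b hab
  rw [← h.inv_left u a, hab, h.inv_left]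

theorem Ax.eq_one_iff (h : Ax star) (u : U) (c : H) : star u c = 1 ↔ c = 1 := by
  constructor
  · intro hc
    apply h.injective u
    rw [hc, h.one_right]
  · rintro rfl
    exact h.one_right u

theorem Inv.mem_iff {T : Finset H} (hT : Inv star T) (h : Ax star) (u : U) (t : H) :
    star u t ∈ T ↔ t ∈ T := by
  constructor
  · intro ht
    have := hT u⁻¹ _ ht
    rwa [h.inv_left] at this
  · exact hT u t

/-- L1 -/
theorem Inv.rel {T : Finset H} (hT : Inv star T) (h : Ax star) (u : U) (z y : H) :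
    (star u z)⁻¹ * star u y ∈ T ↔ z⁻¹ * y ∈ T := by
  obtain ⟨u', hu'⟩ := h.split u z
  have := hu' (z⁻¹ * y)
  rw [mul_inv_cancel_left] at this
  rw [this, inv_mul_cancel_left, hT.mem_iff h]

/-- the counting function -/
noncomputable def cnt (T : Finset H) (y : H) : ℕ := (T.filter (fun t => y⁻¹ * t ∈ T)).card

/-- L3 -/
theorem Inv.cnt_star {T : Finset H} (hT : Inv star T) (h : Ax star) (u : U) (y : H) :
    cnt T (star u y) = cnt T y := by
  unfold cnt
  symm
  apply Finset.card_bij (fun t _ => star u t)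
  · intro t ht
    rw [Finset.mem_filter] at ht ⊢
    exact ⟨hT u t ht.1, (hT.rel h u y t).2 ht.2⟩
  · intro a _ b _ hab
    exact h.injective u hab
  · intro t' ht'
    rw [Finset.mem_filter] at ht'
    refine ⟨star u⁻¹ t', ?_, h.inv_right u t'⟩
    rw [Finset.mem_filter]
    refine ⟨hT u⁻¹ _ ht'.1, ?_⟩
    rw [← hT.rel h u, h.inv_right]
    exact ht'.2

/-- the stabiliser of a set under left multiplication -/
def stab (T : Finset H) : Subgroup H where
  carrier := {x | ∀ t, x * t ∈ T ↔ t ∈ T}
  one_mem' := by simp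
  mul_mem' := fun {a b} ha hb t => by
    rw [mul_assoc, ha, hb]
  inv_mem' := fun {x} ha t => by
    rw [← ha (x⁻¹ * t), mul_inv_cancel_left]

theorem mem_stab {T : Finset H} {x : H} : x ∈ stab T ↔ ∀ t, x * t ∈ T ↔ t ∈ T := Iff.rfl

/-- L4 -/
theorem Inv.stab_inv {T : Finset H} (hT : Inv star T) (h : Ax star) (u : U) (x : H)
    (hx : x ∈ stab T) : star u x ∈ stab T := by
  obtain ⟨u', hu'⟩ := h.split u x
  intro t
  have := hu' (star u'⁻¹ t)
  rw [h.inv_right] at this
  rw [← this, hT.mem_iff h, hx, hT.mem_iff h]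

/-- L2 -/
theorem closure_inv (h : Ax star) (E : Set H) (hE : ∀ u, ∀ e ∈ E, star u e ∈ E) (u : U) (x : H)
    (hx : x ∈ Subgroup.closure E) : star u x ∈ Subgroup.closure E := by
  revert u
  induction hx using Subgroup.closure_induction_right with
  | one => intro u; rw [h.one_right]; exact one_mem _
  | mul_right x hx y hy ih =>
    intro u
    obtain ⟨u', hu'⟩ := h.split u x
    rw [hu']
    exact mul_mem (ih u) (Subgroup.subset_closure (hE u' y hy))
  | mul_inv_cancel x hx y hy ih =>
    intro u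
    obtain ⟨u', hu'⟩ := h.split u (x * y⁻¹)
    have := hu' y
    rw [inv_mul_cancel_right] at this
    have h2 : star u (x * y⁻¹) = star u x * (star u' y)⁻¹ := by
      rw [this, mul_inv_cancel_right]
    rw [h2]
    exact mul_mem (ih u) (inv_mem (Subgroup.subset_closure (hE u' y hy)))


section alg

variable {R : Type*} [Semiring R]

/-- star-invariant functions -/
def FInv (star : U → H → H) (ξ : H → R) : Prop := ∀ u y, ξ (star u y) = ξ y

/-- L5 -/
theorem conv_inv {T : Finset H} (hT : Inv star T) (h : Ax star) {ξ : H → R} (hξ : FInv star ξ) :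
    FInv star (fun y => ∑ t ∈ T, ξ (y * t⁻¹)) := by
  intro u y
  obtain ⟨φ, hφ⟩ : ∃ φ : H → H, φ = fun t => (star u (y * t⁻¹))⁻¹ * star u y := ⟨_, rfl⟩
  have hmem : ∀ t ∈ T, φ t ∈ T := by
    intro t ht
    rw [hφ]
    simp only
    rw [hT.rel h]
    simpa using ht
  have hinj : Set.InjOn φ T := by
    intro a _ b _ hab
    simp only [hφ] at hab
    have h1 := mul_right_cancel hab
    have h2 := h.injective u (inv_injective h1)
    simpa using h2
  have himg : T.image φ = T :=
    Finset.eq_of_subset_of_card_le (Finset.image_subset_iff.2 hmem)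
      (by rw [Finset.card_image_of_injOn hinj])
  show ∑ t ∈ T, ξ (star u y * t⁻¹) = ∑ t ∈ T, ξ (y * t⁻¹)
  conv_lhs => rw [← himg]
  rw [Finset.sum_image hinj]
  apply Finset.sum_congr rfl
  intro t _
  have : star u y * (φ t)⁻¹ = star u (y * t⁻¹) := by simp [hφ]
  rw [this, hξ]

/-- the simple quantity of `T` -/
noncomputable def eta (R : Type*) [Semiring R] (T : Finset H) : MonoidAlgebra R H :=
  ∑ t ∈ T, MonoidAlgebra.single t 1

/-- L5' -/
theorem eta_pow_inv {T : Finset H} (hT : Inv star T) (h : Ax star) (j : ℕ) :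
    FInv star (fun y => ((eta R T) ^ j).coeff y) := by
  induction j with
  | zero =>
    intro u y
    simp only [pow_zero, MonoidAlgebra.one_def, MonoidAlgebra.coeff_single, Finsupp.single_apply]
    by_cases hy : y = 1
    · subst hy
      simp [h.one_right]
    · have : star u y ≠ 1 := fun hh => hy ((h.eq_one_iff u y).1 hh)
      rw [if_neg (Ne.symm this), if_neg (Ne.symm hy)]
  | succ j ih =>
    have := conv_inv hT h ih
    intro u y
    have key : ∀ z : H, ((eta R T) ^ (j + 1)).coeff z = ∑ t ∈ T, ((eta R T) ^ j).coeff (z * t⁻¹) := by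
      intro z
      rw [pow_succ]
      have e1 : eta R T ^ j * eta R T = ∑ t ∈ T, eta R T ^ j * MonoidAlgebra.single t 1 := by
        conv_lhs => rw [eta, Finset.mul_sum]
        rfl
      rw [e1, MonoidAlgebra.coeff_sum, Finsupp.finsetSum_apply]
      apply Finset.sum_congr rfl
      intro t _
      rw [MonoidAlgebra.coeff_mul_single_apply, mul_one]
    simp only [key]
    exact this u y

end alg

section frob

variable (p : ℕ) [Fact p.Prime]

theorem charP_alg : CharP (MonoidAlgebra (ZMod p) H) p := by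
  apply charP_of_injective_algebraMap (R := ZMod p)
  intro a b hab
  rw [MonoidAlgebra.coe_algebraMap] at hab
  simpa [MonoidAlgebra.single_inj] using hab

theorem eta_pow_p (hcomm : ∀ a b : H, a * b = b * a) (T : Finset H) :
    (eta (ZMod p) T) ^ p = ∑ t ∈ T, MonoidAlgebra.single (t ^ p) (1 : ZMod p) := by
  have := charP_alg (H := H) p
  unfold eta
  induction T using Finset.induction_on with
  | empty => simp [zero_pow (Fact.out : p.Prime).ne_zero]
  | insert a s ha ih =>
    rw [Finset.sum_insert ha, Finset.sum_insert ha, add_pow_char_of_commute, ih,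
      MonoidAlgebra.single_pow, one_pow]
    apply Commute.sum_right
    intro t _
    exact MonoidAlgebra.single_commute_single (hcomm _ _) (Commute.one_left _)

/-- L6 -/
theorem coeff_eta_pow_p (hcomm : ∀ a b : H, a * b = b * a) (T : Finset H) (y : H) :
    ((eta (ZMod p) T) ^ p).coeff y = ((T.filter (fun t => t ^ p = y)).card : ZMod p) := by
  rw [eta_pow_p p hcomm, MonoidAlgebra.coeff_sum, Finsupp.finsetSum_apply]
  simp only [MonoidAlgebra.coeff_single, Finsupp.single_apply]
  rw [Finset.sum_boole]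

/-- L5'+L6 -/
theorem count_inv (hcomm : ∀ a b : H, a * b = b * a) {T : Finset H} (hT : Inv star T)
    (h : Ax star) : FInv star (fun y => ((T.filter (fun t => t ^ p = y)).card : ZMod p)) := by
  have := eta_pow_inv (R := ZMod p) hT h p
  intro u y
  have h1 := this u y
  simp only [coeff_eta_pow_p p hcomm] at h1
  exact h1

end frob


section main

variable (p : ℕ) [Fact p.Prime]

/-- the elements of order dividing `p` -/
noncomputable def Pfin (p : ℕ) : Finset H := Finset.univ.filter (fun x : H => x ^ p = 1)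

theorem mem_Pfin {x : H} : x ∈ Pfin (H := H) p ↔ x ^ p = 1 := by
  rw [Pfin, Finset.mem_filter]
  exact ⟨fun hx => hx.2, fun hx => ⟨Finset.mem_univ _, hx⟩⟩

theorem card_Pfin [IsCyclic H] (hp : p ∣ Fintype.card H) : (Pfin (H := H) p).card = p := by
  apply le_antisymm
  · have := IsCyclic.card_pow_eq_one_le (α := H) (n := p) (Fact.out : p.Prime).pos
    have e : Pfin (H := H) p = Finset.univ.filter (fun a : H => a ^ p = 1) := by
      unfold Pfin
      congr
    rw [e]
    exact this
  · obtain ⟨x₀, hx₀⟩ := exists_prime_orderOf_dvd_card p hp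
    have hsub : (Finset.range p).image (fun i => x₀ ^ i) ⊆ Pfin (H := H) p := by
      intro y hy
      rw [Finset.mem_image] at hy
      obtain ⟨i, _, rfl⟩ := hy
      rw [mem_Pfin, ← pow_mul, mul_comm, pow_mul, ← hx₀, pow_orderOf_eq_one, one_pow]
    have hinj : Set.InjOn (fun i => x₀ ^ i) (Finset.range p : Set ℕ) := by
      intro i hi j hj hij
      apply pow_injOn_Iio_orderOf (x := x₀) _ _ hij
      · rw [hx₀]; simpa using hi
      · rw [hx₀]; simpa using hj
    have := Finset.card_le_card hsub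
    rwa [Finset.card_image_of_injOn hinj, Finset.card_range] at this

theorem not_surj_pow (hp : p ∣ Fintype.card H) : ∃ y : H, ∀ t : H, t ^ p ≠ y := by
  by_contra hcon
  push Not at hcon
  have hsurj : Function.Surjective (fun t : H => t ^ p) := hcon
  have hinj := (Finite.injective_iff_surjective.2 hsurj)
  obtain ⟨x, hx⟩ := exists_prime_orderOf_dvd_card p hp
  have h1 : (fun t : H => t ^ p) x = (fun t : H => t ^ p) 1 := by
    simp only
    rw [one_pow, ← hx, pow_orderOf_eq_one]
  have := hinj h1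
  rw [this, orderOf_one] at hx
  exact (Fact.out : p.Prime).one_lt.ne hx

/-- the orbit of `c` -/
noncomputable def orb (star : U → H → H) (c : H) : Finset H :=
  Finset.univ.filter (fun y => ∃ u, star u c = y)

theorem mem_orb {c y : H} : y ∈ orb star c ↔ ∃ u, star u c = y := by
  rw [orb, Finset.mem_filter]
  exact ⟨fun hx => hx.2, fun hx => ⟨Finset.mem_univ _, hx⟩⟩

theorem orb_inv (h : Ax star) (c : H) : Inv star (orb star c) := by
  intro u t ht
  rw [mem_orb] at ht ⊢
  obtain ⟨v, rfl⟩ := ht
  exact ⟨u * v, h.mul u v c⟩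

theorem self_mem_orb (h : Ax star) (c : H) : c ∈ orb star c :=
  mem_orb.2 ⟨1, h.one_left c⟩

theorem one_notMem_orb (h : Ax star) {c : H} (hc : c ≠ 1) : (1 : H) ∉ orb star c := by
  intro hh
  rw [mem_orb] at hh
  obtain ⟨u, hu⟩ := hh
  exact hc ((h.eq_one_iff u c).1 hu)

variable [IsCyclic H] (hcomm : ∀ a b : H, a * b = b * a) (h : Ax star)
  (hprim : ∀ K : Subgroup H, (∀ u, ∀ x ∈ K, star u x ∈ K) → K = ⊥ ∨ K = ⊤)
  (hp : p ∣ Fintype.card H)

include hcomm h hprim hp

/-- L7 -/
theorem coset_subset {T : Finset H} (hT : Inv star T) {s : H} (hs : s ∈ T) (hsp : s ^ p ≠ 1) :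
    ∀ x : H, x ^ p = 1 → s * x ∈ T := by
  have hF := count_inv p hcomm hT h
  obtain ⟨E, hE⟩ : ∃ E : Finset H, E = Finset.univ.filter
      (fun y => ((T.filter (fun t => t ^ p = y)).card : ZMod p) ≠ 0) := ⟨_, rfl⟩
  have hmemE : ∀ y, y ∈ E ↔ ((T.filter (fun t => t ^ p = y)).card : ZMod p) ≠ 0 := by
    intro y
    rw [hE, Finset.mem_filter]
    exact ⟨fun hx => hx.2, fun hx => ⟨Finset.mem_univ _, hx⟩⟩
  have hEinv : ∀ u, ∀ e ∈ (E : Set H), star u e ∈ (E : Set H) := by
    intro u e he
    rw [Finset.mem_coe, hmemE] at he ⊢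
    have := hF u e
    simp only at this
    rwa [this]
  have hEpow : ∀ e ∈ Subgroup.closure (E : Set H), ∃ t : H, t ^ p = e := by
    intro e he
    induction he using Subgroup.closure_induction with
    | mem x hx =>
      rw [Finset.mem_coe, hmemE] at hx
      have : (T.filter (fun t => t ^ p = x)).card ≠ 0 := fun h0 => hx (by rw [h0]; simp)
      obtain ⟨t, ht⟩ := Finset.card_ne_zero.1 this
      exact ⟨t, (Finset.mem_filter.1 ht).2⟩
    | one => exact ⟨1, one_pow _⟩
    | mul x y _ _ hx hy =>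
      obtain ⟨a, rfl⟩ := hx
      obtain ⟨b, rfl⟩ := hy
      exact ⟨a * b, (Commute.mul_pow (hcomm a b) p)⟩
    | inv x _ hx =>
      obtain ⟨a, rfl⟩ := hx
      exact ⟨a⁻¹, inv_pow a p⟩
  have hK := hprim (Subgroup.closure (E : Set H)) (fun u x hx => closure_inv h _ hEinv u x hx)
  have hbot : Subgroup.closure (E : Set H) = ⊥ := by
    rcases hK with hK | hK
    · exact hK
    · exfalso
      obtain ⟨y, hy⟩ := not_surj_pow (H := H) p hp
      obtain ⟨t, ht⟩ := hEpow y (by rw [hK]; trivial)
      exact hy t ht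
  have hsE : s ^ p ∉ E := by
    intro hmem
    have : s ^ p ∈ Subgroup.closure (E : Set H) := Subgroup.subset_closure hmem
    rw [hbot, Subgroup.mem_bot] at this
    exact hsp this
  have hdvd : p ∣ (T.filter (fun t => t ^ p = s ^ p)).card := by
    rw [hmemE, not_not] at hsE
    exact (ZMod.natCast_eq_zero_iff _ _).1 hsE
  have hsub : T.filter (fun t => t ^ p = s ^ p) ⊆ (Pfin p).image (fun x => s * x) := by
    intro t ht
    rw [Finset.mem_filter] at ht
    rw [Finset.mem_image]
    refine ⟨s⁻¹ * t, ?_, mul_inv_cancel_left s t⟩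
    rw [mem_Pfin, Commute.mul_pow (hcomm _ _), inv_pow, ht.2, inv_mul_cancel]
  have hcard_img : ((Pfin p).image (fun x => s * x)).card ≤ p :=
    Finset.card_image_le.trans (card_Pfin p hp).le
  have hpos : 0 < (T.filter (fun t => t ^ p = s ^ p)).card :=
    Finset.card_pos.2 ⟨s, Finset.mem_filter.2 ⟨hs, rfl⟩⟩
  have hge : p ≤ (T.filter (fun t => t ^ p = s ^ p)).card := Nat.le_of_dvd hpos hdvd
  have heq := Finset.eq_of_subset_of_card_le hsub (hcard_img.trans hge)
  intro x hx
  have : s * x ∈ (Pfin p).image (fun x => s * x) :=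
    Finset.mem_image_of_mem _ ((mem_Pfin p).2 hx)
  rw [← heq] at this
  exact (Finset.mem_filter.1 this).1

/-- L8 -/
theorem meets_P {T : Finset H} (hT : Inv star T) (hne : T.Nonempty) (h1 : (1 : H) ∉ T) :
    ∃ x ∈ T, x ^ p = 1 := by
  by_contra hcon
  push Not at hcon
  obtain ⟨x₀, hx₀⟩ := exists_prime_orderOf_dvd_card p hp
  have hx₀p : x₀ ^ p = 1 := by rw [← hx₀, pow_orderOf_eq_one]
  have hx₀1 : x₀ ≠ 1 := by
    rintro rfl
    rw [orderOf_one] at hx₀
    exact (Fact.out : p.Prime).one_lt.ne hx₀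
  have hmem : x₀ ∈ stab T := by
    intro t
    constructor
    · intro ht
      have := coset_subset p hcomm h hprim hp hT ht (hcon _ ht) x₀⁻¹
        (by rw [inv_pow, hx₀p, inv_one])
      rwa [hcomm x₀ t, mul_inv_cancel_right] at this
    · intro ht
      rw [hcomm]
      exact coset_subset p hcomm h hprim hp hT ht (hcon _ ht) x₀ hx₀p
  rcases hprim (stab T) (fun u x hx => hT.stab_inv h u x hx) with hK | hK
  · rw [hK, Subgroup.mem_bot] at hmem
    exact hx₀1 hmem
  · obtain ⟨t₀, ht₀⟩ := hne
    have hmem2 : t₀⁻¹ ∈ stab T := by rw [hK]; trivial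
    have := (hmem2 t₀).2 ht₀
    rw [inv_mul_cancel] at this
    exact h1 this

/-- L9 -/
theorem half (hne' : Fintype.card H ≠ p) {T' : Finset H} (hT' : Inv star T')
    (hne : T'.Nonempty) (h1 : (1 : H) ∉ T') :
    p ≤ 2 * (T'.filter (fun x => x ^ p = 1)).card := by
  by_contra hlt
  push Not at hlt
  obtain ⟨g, hg⟩ := IsCyclic.exists_generator (α := H)
  have hgord : orderOf g = Fintype.card H := by
    rw [orderOf_eq_card_of_forall_mem_zpowers hg, Nat.card_eq_fintype_card]
  have hgp : g ^ p ≠ 1 := by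
    intro hh
    have hd : orderOf g ∣ p := orderOf_dvd_of_pow_eq_one hh
    rw [hgord] at hd
    rcases (Nat.dvd_prime Fact.out).1 hd with h1' | h1'
    · rw [h1'] at hp
      exact (Fact.out : p.Prime).one_lt.ne' (Nat.dvd_one.1 hp)
    · exact hne' h1'
  have hg1 : g ≠ 1 := by
    rintro rfl
    exact hgp (one_pow _)
  obtain ⟨x, hxT, hxp⟩ := meets_P p hcomm h hprim hp (orb_inv h g) ⟨g, self_mem_orb h g⟩
    (one_notMem_orb h hg1)
  rw [mem_orb] at hxT
  obtain ⟨u, hu⟩ := hxT
  have hcnt : cnt T' x = cnt T' g := by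
    rw [← hu]
    exact hT'.cnt_star h u g
  obtain ⟨A', hA'⟩ : ∃ A' : Finset H, A' = T'.filter (fun x => x ^ p = 1) := ⟨_, rfl⟩
  obtain ⟨D, hD⟩ : ∃ D : Finset H, D = T'.filter (fun x => ¬ x ^ p = 1) := ⟨_, rfl⟩
  rw [← hA'] at hlt
  have hmemD : ∀ t, t ∈ D ↔ t ∈ T' ∧ ¬ t ^ p = 1 := by
    intro t; rw [hD, Finset.mem_filter]
  have hmemA : ∀ t, t ∈ A' ↔ t ∈ T' ∧ t ^ p = 1 := by
    intro t; rw [hA', Finset.mem_filter]
  have hDP : ∀ d ∈ D, ∀ z : H, z ^ p = 1 → d * z ∈ D := by
    intro d hd z hz
    rw [hmemD] at hd ⊢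
    refine ⟨coset_subset p hcomm h hprim hp hT' hd.1 hd.2 z hz, ?_⟩
    rw [Commute.mul_pow (hcomm d z), hz, mul_one]
    exact hd.2
  have h1' : D.card ≤ cnt T' x := by
    unfold cnt
    apply Finset.card_le_card
    intro d hd
    rw [Finset.mem_filter]
    refine ⟨((hmemD d).1 hd).1, ?_⟩
    have := hDP d hd x⁻¹ (by rw [inv_pow, hxp, inv_one])
    rw [hcomm] at this
    exact ((hmemD _).1 this).1
  have h2' : cnt T' g ≤ (D.filter (fun t => g⁻¹ * t ∈ D)).card +
      (A'.card + (A'.image (fun a => g * a)).card) := by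
    unfold cnt
    refine (Finset.card_le_card ?_).trans ((Finset.card_union_le _ _).trans
      (Nat.add_le_add_left (Finset.card_union_le _ _) _))
    intro t ht
    rw [Finset.mem_filter] at ht
    by_cases ha : t ^ p = 1
    · apply Finset.mem_union_right
      apply Finset.mem_union_left
      exact (hmemA t).2 ⟨ht.1, ha⟩
    · by_cases hb : (g⁻¹ * t) ^ p = 1
      · apply Finset.mem_union_right
        apply Finset.mem_union_right
        rw [Finset.mem_image]
        exact ⟨g⁻¹ * t, (hmemA _).2 ⟨ht.2, hb⟩, mul_inv_cancel_left g t⟩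
      · apply Finset.mem_union_left
        rw [Finset.mem_filter]
        exact ⟨(hmemD _).2 ⟨ht.1, ha⟩, (hmemD _).2 ⟨ht.2, hb⟩⟩
  have h3' := Finset.card_filter_add_card_filter_not (s := D) (fun t => g⁻¹ * t ∈ D)
  have himg : (A'.image (fun a => g * a)).card ≤ A'.card := Finset.card_image_le
  have hD'lt : (D.filter (fun t => ¬ g⁻¹ * t ∈ D)).card < p := by omega
  have hD'empty : D.filter (fun t => ¬ g⁻¹ * t ∈ D) = ∅ := by
    by_contra hne2
    obtain ⟨t, ht⟩ := Finset.nonempty_iff_ne_empty.2 hne2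
    have hsub : (Pfin p).image (fun z => t * z) ⊆ D.filter (fun t => ¬ g⁻¹ * t ∈ D) := by
      intro w hw
      rw [Finset.mem_image] at hw
      obtain ⟨z, hz, rfl⟩ := hw
      rw [mem_Pfin] at hz
      rw [Finset.mem_filter] at ht ⊢
      refine ⟨hDP t ht.1 z hz, fun hcon => ht.2 ?_⟩
      have := hDP _ hcon z⁻¹ (by rw [inv_pow, hz, inv_one])
      rwa [mul_assoc, mul_inv_cancel_right] at this
    have := Finset.card_le_card hsub
    rw [Finset.card_image_of_injective _ (mul_right_injective t), card_Pfin p hp] at this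
    omega
  have hDg : ∀ t ∈ D, g⁻¹ * t ∈ D := by
    intro t ht
    by_contra hcon
    have : t ∈ D.filter (fun t => ¬ g⁻¹ * t ∈ D) := Finset.mem_filter.2 ⟨ht, hcon⟩
    rw [hD'empty] at this
    exact Finset.notMem_empty _ this
  have hDgk : ∀ k : ℕ, ∀ t ∈ D, (g⁻¹) ^ k * t ∈ D := by
    intro k
    induction k with
    | zero => intro t ht; simpa using ht
    | succ k ih => intro t ht; rw [pow_succ, mul_assoc]; exact ih _ (hDg t ht)
  have hDempty : D = ∅ := by
    by_contra hne2
    obtain ⟨d, hd⟩ := Finset.nonempty_iff_ne_empty.2 hne2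
    have : d ∈ Submonoid.powers g := by rw [mem_powers_iff_mem_zpowers]; exact hg d
    obtain ⟨k, rfl⟩ := this
    have := hDgk k _ hd
    rw [inv_pow, inv_mul_cancel] at this
    exact h1 ((hmemD _).1 this).1
  have hT'P : ∀ t ∈ T', t ^ p = 1 := by
    intro t ht
    by_contra hcon
    have : t ∈ D := (hmemD _).2 ⟨ht, hcon⟩
    rw [hDempty] at this
    exact Finset.notMem_empty _ this
  have hclP : ∀ e ∈ Subgroup.closure (T' : Set H), e ^ p = 1 := by
    intro e he
    induction he using Subgroup.closure_induction with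
    | mem x hx => exact hT'P x hx
    | one => exact one_pow _
    | mul x y _ _ hx hy => rw [Commute.mul_pow (hcomm x y), hx, hy, mul_one]
    | inv x _ hx => rw [inv_pow, hx, inv_one]
  rcases hprim (Subgroup.closure (T' : Set H))
    (fun u x hx => closure_inv h _ (fun u e he => hT' u e he) u x hx) with hK | hK
  · obtain ⟨t, ht⟩ := hne
    have : t ∈ Subgroup.closure (T' : Set H) := Subgroup.subset_closure ht
    rw [hK, Subgroup.mem_bot] at this
    rw [this] at ht
    exact h1 ht
  · exact hgp (hclP g (by rw [hK]; trivial))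

/-- **Schur's theorem on cyclic B-groups**, abstract form: the point stabiliser is transitive
on the nonidentity elements. -/
theorem main (hne' : Fintype.card H ≠ p) (a b : H) (ha : a ≠ 1) (hb : b ≠ 1) :
    ∃ u, star u a = b := by
  by_contra hcon
  push Not at hcon
  have hA := half p hcomm h hprim hp hne' (orb_inv h a) ⟨a, self_mem_orb h a⟩
    (one_notMem_orb h ha)
  have hB := half p hcomm h hprim hp hne' (orb_inv h b) ⟨b, self_mem_orb h b⟩
    (one_notMem_orb h hb)
  have hdisj : Disjoint ((orb star a).filter (fun x => x ^ p = 1))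
      ((orb star b).filter (fun x => x ^ p = 1)) := by
    rw [Finset.disjoint_left]
    intro y hya hyb
    rw [Finset.mem_filter, mem_orb] at hya hyb
    obtain ⟨u, hu⟩ := hya.1
    obtain ⟨v, hv⟩ := hyb.1
    apply hcon (v⁻¹ * u)
    rw [h.mul, hu, ← hv, h.inv_left]
  have hsub : ((orb star a).filter (fun x => x ^ p = 1)) ∪
      ((orb star b).filter (fun x => x ^ p = 1)) ⊆ (Pfin p).erase 1 := by
    intro y hy
    rw [Finset.mem_union, Finset.mem_filter, Finset.mem_filter] at hy
    rw [Finset.mem_erase, mem_Pfin]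
    rcases hy with hy | hy
    · exact ⟨fun h1 => one_notMem_orb h ha (h1 ▸ hy.1), hy.2⟩
    · exact ⟨fun h1 => one_notMem_orb h hb (h1 ▸ hy.1), hy.2⟩
  have hcard := Finset.card_le_card hsub
  rw [Finset.card_union_of_disjoint hdisj, Finset.card_erase_of_mem ((mem_Pfin p).2 (one_pow p)),
    card_Pfin p hp] at hcard
  have := (Fact.out : p.Prime).pos
  omega

end main

section concrete

open scoped Pointwise

/-- **Schur's theorem**: a primitive group containing a regular cyclic subgroup of composite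
order is doubly transitive. -/
theorem schur_two_transitive {G Ω : Type*} [Group G] [MulAction G Ω] [Finite Ω]
    (hprim : MulAction.IsPreprimitive G Ω) (C : Subgroup G) (hcyc : IsCyclic C)
    (hCt : MulAction.IsPretransitive C Ω) (hCs : ∀ a : Ω, MulAction.stabilizer C a = ⊥)
    (p : ℕ) (hp : p.Prime) (hpd : p ∣ Nat.card Ω) (hne : Nat.card Ω ≠ p) (ω₀ : Ω) :
    MulAction.IsMultiplyPretransitive G Ω 2 := by
  classical
  have : Fact p.Prime := ⟨hp⟩
  have hbij : Function.Bijective (fun c : C => (c : G) • ω₀) := by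
    constructor
    · intro c c' hcc
      simp only at hcc
      have : c'⁻¹ * c ∈ MulAction.stabilizer C ω₀ := by
        rw [MulAction.mem_stabilizer_iff, mul_smul, Subgroup.smul_def c, hcc, Subgroup.smul_def,
          Subgroup.coe_inv, inv_smul_smul]
      rw [hCs, Subgroup.mem_bot] at this
      exact (inv_mul_eq_one.1 this).symm
    · intro ω
      obtain ⟨c, hc⟩ := MulAction.exists_smul_eq C ω₀ ω
      exact ⟨c, hc⟩
  obtain ⟨e, he⟩ : ∃ e : C ≃ Ω, ∀ c : C, e c = (c : G) • ω₀ :=
    ⟨Equiv.ofBijective _ hbij, fun c => rfl⟩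
  have : Finite C := Finite.of_equiv Ω e.symm
  let _ : Fintype C := Fintype.ofFinite C
  obtain ⟨star, hstar⟩ : ∃ star : MulAction.stabilizer G ω₀ → C → C,
      ∀ u c, e (star u c) = (u : G) • e c :=
    ⟨fun u c => e.symm ((u : G) • e c), fun u c => e.apply_symm_apply _⟩
  have hu0 : ∀ u : MulAction.stabilizer G ω₀, (u : G) • ω₀ = ω₀ := fun u => u.2
  have hax : Ax star := by
    refine ⟨?_, ?_, ?_, ?_⟩
    · intro u
      apply e.injective
      rw [hstar, he, Subgroup.coe_one, one_smul, hu0]
    · intro c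
      apply e.injective
      rw [hstar, Subgroup.coe_one, one_smul]
    · intro u v c
      apply e.injective
      rw [hstar, hstar, hstar, Subgroup.coe_mul, mul_smul]
    · intro u z
      have hmem : ((star u z : C) : G)⁻¹ * (u : G) * (z : G) ∈ MulAction.stabilizer G ω₀ := by
        rw [MulAction.mem_stabilizer_iff, mul_smul, mul_smul]
        have := hstar u z
        rw [he, he] at this
        rw [← this, inv_smul_smul]
      refine ⟨⟨_, hmem⟩, ?_⟩
      intro w
      apply e.injective
      rw [hstar, he, he, Subgroup.coe_mul, Subgroup.coe_mul, mul_smul, mul_smul, ← he (star _ w),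
        hstar, he]
      simp only [mul_smul, smul_inv_smul]
  have hprimK : ∀ K : Subgroup C, (∀ u, ∀ x ∈ K, star u x ∈ K) → K = ⊥ ∨ K = ⊤ := by
    intro K hK
    obtain ⟨B, hB⟩ : ∃ B : Set Ω, B = e '' (K : Set C) := ⟨_, rfl⟩
    have hmemB : ∀ b, b ∈ B ↔ ∃ k ∈ K, e k = b := by
      intro b; rw [hB]; rfl
    have hω₀B : ω₀ ∈ B := (hmemB _).2 ⟨1, K.one_mem, by rw [he, Subgroup.coe_one, one_smul]⟩
    have hKB : ∀ k ∈ K, ∀ b ∈ B, (k : G) • b ∈ B := by
      intro k hk b hb
      obtain ⟨k', hk', rfl⟩ := (hmemB _).1 hb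
      exact (hmemB _).2 ⟨k * k', K.mul_mem hk hk', by rw [he, he, Subgroup.coe_mul, mul_smul]⟩
    have hUB : ∀ u : MulAction.stabilizer G ω₀, ∀ b ∈ B, (u : G) • b ∈ B := by
      intro u b hb
      obtain ⟨k', hk', rfl⟩ := (hmemB _).1 hb
      exact (hmemB _).2 ⟨star u k', hK u k' hk', hstar u k'⟩
    have hKBeq : ∀ k ∈ K, (k : G) • B = B := by
      intro k hk
      apply Set.Subset.antisymm
      · rintro _ ⟨b, hb, rfl⟩
        exact hKB k hk b hb
      · intro b hb
        refine ⟨(k : G)⁻¹ • b, ?_, smul_inv_smul _ _⟩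
        have := hKB k⁻¹ (K.inv_mem hk) b hb
        simpa using this
    have hUBeq : ∀ u : MulAction.stabilizer G ω₀, (u : G) • B = B := by
      intro u
      apply Set.Subset.antisymm
      · rintro _ ⟨b, hb, rfl⟩
        exact hUB u b hb
      · intro b hb
        refine ⟨(u : G)⁻¹ • b, ?_, smul_inv_smul _ _⟩
        have := hUB u⁻¹ b hb
        simpa using this
    have hblock : MulAction.IsBlock G B := by
      rw [MulAction.isBlock_iff_smul_eq_of_mem]
      intro g a ha hga
      obtain ⟨k₁, hk₁, rfl⟩ := (hmemB _).1 ha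
      obtain ⟨k₂, hk₂, hk₂g⟩ := (hmemB _).1 hga
      have hu : (k₂ : G)⁻¹ * g * (k₁ : G) ∈ MulAction.stabilizer G ω₀ := by
        rw [MulAction.mem_stabilizer_iff, mul_smul, mul_smul, ← he, ← hk₂g, he, inv_smul_smul]
      have hg : g = (k₂ : G) * ((k₂ : G)⁻¹ * g * (k₁ : G)) * ((k₁⁻¹ : C) : G) := by
        rw [Subgroup.coe_inv]; group
      rw [hg, mul_smul, mul_smul, hKBeq _ (K.inv_mem hk₁), hUBeq ⟨_, hu⟩, hKBeq k₂ hk₂]
    rcases hprim.isTrivialBlock_of_isBlock hblock with hB' | hB'
    · left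
      rw [Subgroup.eq_bot_iff_forall]
      intro k hk
      have h1 : e k ∈ B := (hmemB _).2 ⟨k, hk, rfl⟩
      have := hB' h1 hω₀B
      apply e.injective
      rw [this, he, Subgroup.coe_one, one_smul]
    · right
      rw [Subgroup.eq_top_iff']
      intro c
      have : e c ∈ B := by rw [hB']; trivial
      obtain ⟨k, hk, hkc⟩ := (hmemB _).1 this
      rwa [← e.injective hkc]
  have hcard : Fintype.card C = Nat.card Ω := by
    rw [← Nat.card_eq_fintype_card]
    exact Nat.card_congr e
  have hcomm : ∀ a b : C, a * b = b * a := isMulCommutative_iff.1 (IsCyclic.isMulCommutative (α := C))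
  have hmain := main (star := star) p hcomm hax hprimK (by rw [hcard]; exact hpd)
    (by rw [hcard]; exact hne)
  have he1 : e 1 = ω₀ := by rw [he, Subgroup.coe_one, one_smul]
  have := hprim.toIsPretransitive
  rw [MulAction.is_two_pretransitive_iff]
  intro a b c d hab hcd
  obtain ⟨g₁, hg₁⟩ := MulAction.exists_smul_eq G a ω₀
  obtain ⟨g₂, hg₂⟩ := MulAction.exists_smul_eq G c ω₀
  have h1 : e.symm (g₁ • b) ≠ 1 := by
    intro hh
    rw [Equiv.symm_apply_eq, he1, ← hg₁] at hh
    exact hab (smul_left_cancel g₁ hh).symm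
  have h2 : e.symm (g₂ • d) ≠ 1 := by
    intro hh
    rw [Equiv.symm_apply_eq, he1, ← hg₂] at hh
    exact hcd (smul_left_cancel g₂ hh).symm
  obtain ⟨u, hu⟩ := hmain _ _ h1 h2
  have hu' : (u : G) • (g₁ • b) = g₂ • d := by
    have := congrArg e hu
    rwa [hstar, Equiv.apply_symm_apply, Equiv.apply_symm_apply] at this
  refine ⟨g₂⁻¹ * (u : G) * g₁, ?_, ?_⟩
  · rw [mul_smul, mul_smul, hg₁, hu0, ← hg₂, inv_smul_smul]
  · rw [mul_smul, mul_smul, hu', inv_smul_smul]

end concrete

end Cfsg.Agent.Lib.Helper19.SchurCyclic
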