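/-
Helper19 library: kernel-checked closure of the list of 6048 pairs under the two generators, part 0.
-/
import Mathlib
import Cfsg.Agent.Lib.Helper19.G2Data

set_option autoImplicit false
set_option maxRecDepth 100000

namespace Cfsg.Agent.Lib.Helper19.G2Check

open Cfsg.Agent.Lib.Helper19.B2Enc Cfsg.Agent.Lib.Helper19.G2Enc Cfsg.Agent.Lib.Helper19.G2Data

theorem closed0 : ∀ i ∈ List.range' 0 126, ∀ r ∈ List.range 2,
    mulE14 (AE r) (Mi i) = Mi (Tt r i) ∧ mul9 (BE r) (Ui i) = Ui (Tt r i) ∧ Tt r i < 6048 := by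
  decide +kernel

theorem closed1 : ∀ i ∈ List.range' 126 126, ∀ r ∈ List.range 2,
    mulE14 (AE r) (Mi i) = Mi (Tt r i) ∧ mul9 (BE r) (Ui i) = Ui (Tt r i) ∧ Tt r i < 6048 := by
  decide +kernel

theorem closed2 : ∀ i ∈ List.range' 252 126, ∀ r ∈ List.range 2,
    mulE14 (AE r) (Mi i) = Mi (Tt r i) ∧ mul9 (BE r) (Ui i) = Ui (Tt r i) ∧ Tt r i < 6048 := by
  decide +kernel

end Cfsg.Agent.Lib.Helper19.G2Check
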