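/-
Helper19 library: kernel-checked certificates for the list of 6048 pairs: closure (assembled), spanning tree, trivial kernels, distinctness.
-/
import Mathlib
import Cfsg.Agent.Lib.Helper19.G2CheckA0
import Cfsg.Agent.Lib.Helper19.G2CheckA1
import Cfsg.Agent.Lib.Helper19.G2CheckA2
import Cfsg.Agent.Lib.Helper19.G2CheckA3
import Cfsg.Agent.Lib.Helper19.G2CheckA4
import Cfsg.Agent.Lib.Helper19.G2CheckA5
import Cfsg.Agent.Lib.Helper19.G2CheckA6
import Cfsg.Agent.Lib.Helper19.G2CheckA7
import Cfsg.Agent.Lib.Helper19.G2CheckA8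
import Cfsg.Agent.Lib.Helper19.G2CheckA9
import Cfsg.Agent.Lib.Helper19.G2CheckA10
import Cfsg.Agent.Lib.Helper19.G2CheckA11
import Cfsg.Agent.Lib.Helper19.G2CheckA12
import Cfsg.Agent.Lib.Helper19.G2CheckA13
import Cfsg.Agent.Lib.Helper19.G2CheckA14
import Cfsg.Agent.Lib.Helper19.G2CheckA15
import Cfsg.Agent.Lib.Helper19.G2Keys

set_option autoImplicit false
set_option maxRecDepth 100000

namespace Cfsg.Agent.Lib.Helper19.G2Check

open Cfsg.Agent.Lib.Helper19.B2Enc Cfsg.Agent.Lib.Helper19.G2Enc Cfsg.Agent.Lib.Helper19.G2Data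

theorem closed (i r : ℕ) (hi : i < 6048) (hr : r < 2) :
    mulE14 (AE r) (Mi i) = Mi (Tt r i) ∧ mul9 (BE r) (Ui i) = Ui (Tt r i) ∧ Tt r i < 6048 := by
  have hr' : r ∈ List.range 2 := List.mem_range.2 hr
  by_cases h0 : i < 126
  · exact closed0 i (List.mem_range'_1.2 ⟨by omega, by omega⟩) r hr'
  by_cases h1 : i < 252
  · exact closed1 i (List.mem_range'_1.2 ⟨by omega, by omega⟩) r hr'
  by_cases h2 : i < 378
  · exact closed2 i (List.mem_range'_1.2 ⟨by omega, by omega⟩) r hr'
  by_cases h3 : i < 504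
  · exact closed3 i (List.mem_range'_1.2 ⟨by omega, by omega⟩) r hr'
  by_cases h4 : i < 630
  · exact closed4 i (List.mem_range'_1.2 ⟨by omega, by omega⟩) r hr'
  by_cases h5 : i < 756
  · exact closed5 i (List.mem_range'_1.2 ⟨by omega, by omega⟩) r hr'
  by_cases h6 : i < 882
  · exact closed6 i (List.mem_range'_1.2 ⟨by omega, by omega⟩) r hr'
  by_cases h7 : i < 1008
  · exact closed7 i (List.mem_range'_1.2 ⟨by omega, by omega⟩) r hr'
  by_cases h8 : i < 1134
  · exact closed8 i (List.mem_range'_1.2 ⟨by omega, by omega⟩) r hr'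
  by_cases h9 : i < 1260
  · exact closed9 i (List.mem_range'_1.2 ⟨by omega, by omega⟩) r hr'
  by_cases h10 : i < 1386
  · exact closed10 i (List.mem_range'_1.2 ⟨by omega, by omega⟩) r hr'
  by_cases h11 : i < 1512
  · exact closed11 i (List.mem_range'_1.2 ⟨by omega, by omega⟩) r hr'
  by_cases h12 : i < 1638
  · exact closed12 i (List.mem_range'_1.2 ⟨by omega, by omega⟩) r hr'
  by_cases h13 : i < 1764
  · exact closed13 i (List.mem_range'_1.2 ⟨by omega, by omega⟩) r hr'
  by_cases h14 : i < 1890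
  · exact closed14 i (List.mem_range'_1.2 ⟨by omega, by omega⟩) r hr'
  by_cases h15 : i < 2016
  · exact closed15 i (List.mem_range'_1.2 ⟨by omega, by omega⟩) r hr'
  by_cases h16 : i < 2142
  · exact closed16 i (List.mem_range'_1.2 ⟨by omega, by omega⟩) r hr'
  by_cases h17 : i < 2268
  · exact closed17 i (List.mem_range'_1.2 ⟨by omega, by omega⟩) r hr'
  by_cases h18 : i < 2394
  · exact closed18 i (List.mem_range'_1.2 ⟨by omega, by omega⟩) r hr'
  by_cases h19 : i < 2520
  · exact closed19 i (List.mem_range'_1.2 ⟨by omega, by omega⟩) r hr'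
  by_cases h20 : i < 2646
  · exact closed20 i (List.mem_range'_1.2 ⟨by omega, by omega⟩) r hr'
  by_cases h21 : i < 2772
  · exact closed21 i (List.mem_range'_1.2 ⟨by omega, by omega⟩) r hr'
  by_cases h22 : i < 2898
  · exact closed22 i (List.mem_range'_1.2 ⟨by omega, by omega⟩) r hr'
  by_cases h23 : i < 3024
  · exact closed23 i (List.mem_range'_1.2 ⟨by omega, by omega⟩) r hr'
  by_cases h24 : i < 3150
  · exact closed24 i (List.mem_range'_1.2 ⟨by omega, by omega⟩) r hr'
  by_cases h25 : i < 3276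
  · exact closed25 i (List.mem_range'_1.2 ⟨by omega, by omega⟩) r hr'
  by_cases h26 : i < 3402
  · exact closed26 i (List.mem_range'_1.2 ⟨by omega, by omega⟩) r hr'
  by_cases h27 : i < 3528
  · exact closed27 i (List.mem_range'_1.2 ⟨by omega, by omega⟩) r hr'
  by_cases h28 : i < 3654
  · exact closed28 i (List.mem_range'_1.2 ⟨by omega, by omega⟩) r hr'
  by_cases h29 : i < 3780
  · exact closed29 i (List.mem_range'_1.2 ⟨by omega, by omega⟩) r hr'
  by_cases h30 : i < 3906
  · exact closed30 i (List.mem_range'_1.2 ⟨by omega, by omega⟩) r hr'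
  by_cases h31 : i < 4032
  · exact closed31 i (List.mem_range'_1.2 ⟨by omega, by omega⟩) r hr'
  by_cases h32 : i < 4158
  · exact closed32 i (List.mem_range'_1.2 ⟨by omega, by omega⟩) r hr'
  by_cases h33 : i < 4284
  · exact closed33 i (List.mem_range'_1.2 ⟨by omega, by omega⟩) r hr'
  by_cases h34 : i < 4410
  · exact closed34 i (List.mem_range'_1.2 ⟨by omega, by omega⟩) r hr'
  by_cases h35 : i < 4536
  · exact closed35 i (List.mem_range'_1.2 ⟨by omega, by omega⟩) r hr'
  by_cases h36 : i < 4662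
  · exact closed36 i (List.mem_range'_1.2 ⟨by omega, by omega⟩) r hr'
  by_cases h37 : i < 4788
  · exact closed37 i (List.mem_range'_1.2 ⟨by omega, by omega⟩) r hr'
  by_cases h38 : i < 4914
  · exact closed38 i (List.mem_range'_1.2 ⟨by omega, by omega⟩) r hr'
  by_cases h39 : i < 5040
  · exact closed39 i (List.mem_range'_1.2 ⟨by omega, by omega⟩) r hr'
  by_cases h40 : i < 5166
  · exact closed40 i (List.mem_range'_1.2 ⟨by omega, by omega⟩) r hr'
  by_cases h41 : i < 5292
  · exact closed41 i (List.mem_range'_1.2 ⟨by omega, by omega⟩) r hr'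
  by_cases h42 : i < 5418
  · exact closed42 i (List.mem_range'_1.2 ⟨by omega, by omega⟩) r hr'
  by_cases h43 : i < 5544
  · exact closed43 i (List.mem_range'_1.2 ⟨by omega, by omega⟩) r hr'
  by_cases h44 : i < 5670
  · exact closed44 i (List.mem_range'_1.2 ⟨by omega, by omega⟩) r hr'
  by_cases h45 : i < 5796
  · exact closed45 i (List.mem_range'_1.2 ⟨by omega, by omega⟩) r hr'
  by_cases h46 : i < 5922
  · exact closed46 i (List.mem_range'_1.2 ⟨by omega, by omega⟩) r hr'
  exact closed47 i (List.mem_range'_1.2 ⟨by omega, by omega⟩) r hr'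

theorem bfs : ∀ i ∈ List.range' 1 6047, par i < i ∧ gk i < 2 ∧ Tt (gk i) (par i) = i := by
  decide +kernel

theorem Mi_zero : Mi 0 = ONE14 := by decide +kernel

theorem Ui_zero : Ui 0 = ONE9 := by decide +kernel

theorem triv : ∀ i ∈ List.range 6048, (dec14 (Mi i) = 1 → i = 0) ∧ (dec9 (Ui i) = 1 → i = 0) := by
  decide +kernel

theorem distinct : ∀ i ∈ List.range 6048, enc9 (dec9 (Ui i)) = Uc i ∧ KTree.find (Uc i) = i := by
  decide +kernel

end Cfsg.Agent.Lib.Helper19.G2Check
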