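/-
Helper19 library: kernel-checked facts on the generators used for `G₂(2)'`: orders, determinants, unitarity, the link
with the root elements of the Chevalley datum, conjugation and coset certificates.
-/
import Mathlib
import Cfsg.Agent.Lib.Helper19.G2Data
import Cfsg.Prelude.Def_ChevG2

set_option autoImplicit false
set_option maxRecDepth 100000

namespace Cfsg.Agent.Lib.Helper19.G2Check

open Cfsg.Agent.Lib.Helper19.B2Enc Cfsg.Agent.Lib.Helper19.G2Enc Cfsg.Agent.Lib.Helper19.G2Data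
open Cfsg.Agent.Lib.Helper19.PSU33Spec Cfsg.Lie

/-- the inverses of the generators. -/
def AIL : List (List ℕ) := [
  [4097, 4098, 132, 4107, 528, 32, 2112, 128, 8448, 512, 1024, 2048, 4096, 8192],
  [8457, 10307, 12555, 8448, 2112, 14107, 9472, 12422, 256, 14635, 8512, 11609, 7997, 9288]]

/-- the inverses of the unitary generators. -/
def BIL : List (List ℕ) := [
  [1, 0, 1, 1, 1, 0, 1, 2, 0, 0, 2, 1, 1, 0, 2, 2, 1, 0],
  [0, 2, 0, 1, 1, 1, 2, 0, 1, 1, 0, 2, 1, 2, 0, 1, 1, 0]]

/-- the inverse of the `r`-th generator. -/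
def AIE (r : ℕ) : List ℕ := AIL.getD r []

/-- the inverse of the `r`-th unitary generator. -/
def BIE (r : ℕ) : List ℕ := BIL.getD r []

theorem AIE_zero : AIE 0 = AE 0 := by decide +kernel

theorem BIE_zero : BIE 0 = BE 0 := by decide +kernel

theorem A_inv : ∀ r ∈ List.range 2,
    mulE14 (AE r) (AIE r) = ONE14 ∧ mulE14 (AIE r) (AE r) = ONE14 := by decide +kernel

theorem B_inv : ∀ r ∈ List.range 2,
    mul9 (BE r) (BIE r) = ONE9 ∧ mul9 (BIE r) (BE r) = ONE9 := by decide +kernel

theorem A1_pow : AIE 1 = mulE14 (AE 1) (mulE14 (AE 1) (mulE14 (AE 1) (mulE14 (AE 1) (AE 1)))) := by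
  decide +kernel

theorem B1_pow : BIE 1 = mul9 (BE 1) (mul9 (BE 1) (mul9 (BE 1) (mul9 (BE 1) (BE 1)))) := by
  decide +kernel

theorem B_det : ∀ r ∈ List.range 2, (dec9 (BE r)).det = 1 := by decide +kernel

theorem B_uni : ∀ r ∈ List.range 2,
    (dec9 (BE r)).transpose * (dec9 (BE r)).map (fun x => x ^ 3) = 1 := by decide +kernel

/-- the root elements with the index type unfolded. -/
def X14 (r : Fin 12) (t : ZMod 2) : Matrix I14 I14 (ZMod 2) := chevG2.xMat (ZMod 2) r t

theorem dec_XE : ∀ r : Fin 12, dec14 (XE r.val) = X14 r 1 := by decide +kernel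

theorem X14_zero : ∀ r : Fin 12, X14 r 0 = 1 := by decide +kernel

theorem XE_sq : ∀ r ∈ List.range 12, mulE14 (XE r) (XE r) = ONE14 := by decide +kernel

theorem A0_word : AE 0 = mulE14 (XE 0) (mulE14 (XE 6) (mulE14 (XE 0) (XE 6))) := by decide +kernel

theorem A1_word : AE 1 =
    mulE14 (mulE14 (XE 0) (XE 2)) (mulE14 (XE 9) (mulE14 (mulE14 (XE 2) (XE 0)) (XE 9))) := by
  decide +kernel

/-- conjugation certificate. -/
def cjI (r i : ℕ) : ℕ := (CJ.getD r []).getD i 0

theorem conj_cert : ∀ r ∈ List.range 12, ∀ i ∈ List.range 2,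
    mulE14 (XE r) (mulE14 (AE i) (XE r)) = Mi (cjI r i) ∧ cjI r i < 6048 := by decide +kernel

/-- coset certificate: kind. -/
def csK (r : ℕ) : ℕ := (CS.getD r []).getD 0 0

/-- coset certificate: index. -/
def csI (r : ℕ) : ℕ := (CS.getD r []).getD 1 0

theorem coset_cert : ∀ r ∈ List.range 12,
    (if csK r = 0 then XE r else mulE14 (XE r) (XE 2)) = Mi (csI r) ∧ csI r < 6048 := by
  decide +kernel

end Cfsg.Agent.Lib.Helper19.G2Check
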