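/-
Helper19 library: the graph of an isomorphism between a subgroup of order 6048 of `GL₁₄(2)` (the derived subgroup of the
adjoint Chevalley group `G₂(2)`) and `SU₃(3)` (in the model over `K9`), obtained from the kernel-checked list of 6048
pairs.
-/
import Mathlib
import Cfsg.Agent.Lib.Helper19.G2CheckB
import Cfsg.Agent.Lib.Helper19.G2CheckC

set_option autoImplicit false

namespace Cfsg.Agent.Lib.Helper19.G2Graph

open Cfsg.Agent.Lib.Helper19.B2Enc Cfsg.Agent.Lib.Helper19.G2Enc Cfsg.Agent.Lib.Helper19.G2Data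
open Cfsg.Agent.Lib.Helper19.G2Check Cfsg.Agent.Lib.Helper19.PSU33Spec

/-- the ambient general linear group. -/
abbrev GLm : Type := GL I14 (ZMod 2)

/-- `SL₃` over the field with nine elements. -/
abbrev SLK : Type := Matrix.SpecialLinearGroup (Fin 3) K9

theorem A_mul_inv (r : Fin 2) : dec14 (AE r.val) * dec14 (AIE r.val) = 1 := by
  rw [← dec14_mul, (A_inv r.val (List.mem_range.2 r.isLt)).1, dec14_one]

theorem A_inv_mul (r : Fin 2) : dec14 (AIE r.val) * dec14 (AE r.val) = 1 := by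
  rw [← dec14_mul, (A_inv r.val (List.mem_range.2 r.isLt)).2, dec14_one]

/-- the generators as units. -/
def AG (r : Fin 2) : GLm := ⟨dec14 (AE r.val), dec14 (AIE r.val), A_mul_inv r, A_inv_mul r⟩

/-- the unitary generators. -/
def BG (r : Fin 2) : SLK := ⟨dec9 (BE r.val), B_det r.val (List.mem_range.2 r.isLt)⟩

/-- the generating pairs. -/
def gens : Set (GLm × SLK) := Set.range fun r : Fin 2 => (AG r, BG r)

/-- the graph of the isomorphism. -/
def Gam : Subgroup (GLm × SLK) := Subgroup.closure gens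

/-- the listed pairs. -/
def S : Set (GLm × SLK) := {p | ∃ i, i < 6048 ∧ (p.1 : Matrix I14 I14 (ZMod 2)) = dec14 (Mi i) ∧
  (p.2 : M9) = dec9 (Ui i)}

theorem gen_mul_mem (r : Fin 2) {p : GLm × SLK} (hp : p ∈ S) : (AG r, BG r) * p ∈ S := by
  obtain ⟨i, hi, h1, h2⟩ := hp
  obtain ⟨c1, c2, c3⟩ := closed i r.val hi r.isLt
  refine ⟨Tt r.val i, c3, ?_, ?_⟩
  · show ((AG r * p.1 : GLm) : Matrix I14 I14 (ZMod 2)) = _
    rw [Units.val_mul, h1]
    show dec14 (AE r.val) * dec14 (Mi i) = _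
    rw [← dec14_mul, c1]
  · show ((BG r * p.2 : SLK) : M9) = _
    rw [Matrix.SpecialLinearGroup.coe_mul, h2]
    show dec9 (BE r.val) * dec9 (Ui i) = _
    rw [← dec9_mul, c2]

theorem gen0_inv : ((AG 0, BG 0) : GLm × SLK)⁻¹ = (AG 0, BG 0) := by
  apply inv_eq_of_mul_eq_one_right
  refine Prod.ext ?_ ?_
  · apply Units.ext
    show dec14 (AE 0) * dec14 (AE 0) = 1
    have h := A_mul_inv 0
    rw [show ((0 : Fin 2) : ℕ) = 0 from rfl, AIE_zero] at h
    exact h
  · apply Subtype.ext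
    show dec9 (BE 0) * dec9 (BE 0) = 1
    have h := (B_inv 0 (by decide)).1
    rw [BIE_zero] at h
    rw [← dec9_mul, h, dec9_one]

theorem gen1_inv : ((AG 1, BG 1) : GLm × SLK)⁻¹ =
    (AG 1, BG 1) * ((AG 1, BG 1) * ((AG 1, BG 1) * ((AG 1, BG 1) * (AG 1, BG 1)))) := by
  apply inv_eq_of_mul_eq_one_left
  refine Prod.ext ?_ ?_
  · apply Units.ext
    show dec14 (AE 1) * (dec14 (AE 1) * (dec14 (AE 1) * (dec14 (AE 1) * dec14 (AE 1)))) *
      dec14 (AE 1) = 1
    rw [← dec14_mul, ← dec14_mul, ← dec14_mul, ← dec14_mul, ← A1_pow]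
    exact A_inv_mul 1
  · apply Subtype.ext
    show dec9 (BE 1) * (dec9 (BE 1) * (dec9 (BE 1) * (dec9 (BE 1) * dec9 (BE 1)))) *
      dec9 (BE 1) = 1
    rw [← dec9_mul, ← dec9_mul, ← dec9_mul, ← dec9_mul, ← B1_pow, ← dec9_mul,
      (B_inv 1 (by decide)).2, dec9_one]

theorem gen_inv_mul_mem (r : Fin 2) {p : GLm × SLK} (hp : p ∈ S) :
    ((AG r, BG r) : GLm × SLK)⁻¹ * p ∈ S := by
  fin_cases r
  · show ((AG 0, BG 0) : GLm × SLK)⁻¹ * p ∈ S
    rw [gen0_inv]
    exact gen_mul_mem 0 hp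
  · show ((AG 1, BG 1) : GLm × SLK)⁻¹ * p ∈ S
    rw [gen1_inv, mul_assoc, mul_assoc, mul_assoc, mul_assoc]
    exact gen_mul_mem 1 (gen_mul_mem 1 (gen_mul_mem 1 (gen_mul_mem 1 (gen_mul_mem 1 hp))))

theorem one_mem_S : (1 : GLm × SLK) ∈ S := by
  refine ⟨0, by norm_num, ?_, ?_⟩
  · rw [Mi_zero, dec14_one]; rfl
  · rw [Ui_zero, dec9_one]; rfl

theorem mem_S_of_mem_Gam {p : GLm × SLK} (hp : p ∈ Gam) : p ∈ S := by
  refine Subgroup.closure_induction_left (p := fun x _ => x ∈ S) one_mem_S ?_ ?_ hp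
  · rintro x ⟨r, rfl⟩ y _ hy
    exact gen_mul_mem r hy
  · rintro x ⟨r, rfl⟩ y _ hy
    exact gen_inv_mul_mem r hy

theorem gen_mem (r : Fin 2) : ((AG r, BG r) : GLm × SLK) ∈ Gam := Subgroup.subset_closure ⟨r, rfl⟩

theorem exists_mem_Gam : ∀ i, i < 6048 → ∃ p : GLm × SLK, p ∈ Gam ∧
    (p.1 : Matrix I14 I14 (ZMod 2)) = dec14 (Mi i) ∧ (p.2 : M9) = dec9 (Ui i) := by
  intro i
  induction i using Nat.strong_induction_on with
  | _ i ih =>
    intro hi
    by_cases h0 : i = 0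
    · subst h0
      obtain ⟨j, _, h1, h2⟩ := one_mem_S
      refine ⟨1, Gam.one_mem, ?_, ?_⟩
      · rw [Mi_zero, dec14_one]; rfl
      · rw [Ui_zero, dec9_one]; rfl
    · obtain ⟨hp, hg, ht⟩ := bfs i (List.mem_range'_1.2 ⟨by omega, by omega⟩)
      obtain ⟨p', hp', h1, h2⟩ := ih (par i) hp (by omega)
      obtain ⟨c1, c2, _⟩ := closed (par i) (gk i) (by omega) hg
      refine ⟨(AG ⟨gk i, hg⟩, BG ⟨gk i, hg⟩) * p', Gam.mul_mem (gen_mem _) hp', ?_, ?_⟩
      · show ((AG ⟨gk i, hg⟩ * p'.1 : GLm) : Matrix I14 I14 (ZMod 2)) = _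
        rw [Units.val_mul, h1]
        show dec14 (AE (gk i)) * dec14 (Mi (par i)) = _
        rw [← dec14_mul, c1, ht]
      · show ((BG ⟨gk i, hg⟩ * p'.2 : SLK) : M9) = _
        rw [Matrix.SpecialLinearGroup.coe_mul, h2]
        show dec9 (BE (gk i)) * dec9 (Ui (par i)) = _
        rw [← dec9_mul, c2, ht]

theorem dec9_injOn {i j : ℕ} (hi : i < 6048) (hj : j < 6048) (h : dec9 (Ui i) = dec9 (Ui j)) :
    i = j := by
  obtain ⟨a1, a2⟩ := distinct i (List.mem_range.2 hi)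
  obtain ⟨b1, b2⟩ := distinct j (List.mem_range.2 hj)
  rw [← a2, ← b2, ← a1, ← b1, h]

instance : Finite GLm := inferInstance

instance : Finite SLK := inferInstance

theorem card_Gam_ge : 6048 ≤ Nat.card Gam := by
  classical
  choose f hf using fun i : Fin 6048 => exists_mem_Gam i.val i.isLt
  let g : Fin 6048 → Gam := fun i => ⟨f i, (hf i).1⟩
  have hg : Function.Injective g := by
    intro i j hij
    have h1 : f i = f j := congrArg Subtype.val hij
    have h2 : dec9 (Ui i.val) = dec9 (Ui j.val) := by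
      rw [← (hf i).2.2, ← (hf j).2.2, h1]
    exact Fin.ext (dec9_injOn i.isLt j.isLt h2)
  have := Nat.card_le_card_of_injective g hg
  simpa using this

theorem snd_eq_one {p : GLm × SLK} (hp : p ∈ Gam) (h : p.1 = 1) : p.2 = 1 := by
  obtain ⟨i, hi, h1, h2⟩ := mem_S_of_mem_Gam hp
  have h3 : i = 0 := (triv i (List.mem_range.2 hi)).1 (by rw [← h1, h]; rfl)
  apply Subtype.ext
  rw [h2, h3, Ui_zero, dec9_one]
  rfl

theorem fst_eq_one {p : GLm × SLK} (hp : p ∈ Gam) (h : p.2 = 1) : p.1 = 1 := by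
  obtain ⟨i, hi, h1, h2⟩ := mem_S_of_mem_Gam hp
  have h3 : i = 0 := (triv i (List.mem_range.2 hi)).2 (by rw [← h2, h]; rfl)
  apply Units.ext
  rw [h1, h3, Mi_zero, dec14_one]
  rfl

/-- first projection. -/
def f1 : Gam →* GLm := (MonoidHom.fst GLm SLK).comp Gam.subtype

/-- second projection. -/
def f2 : Gam →* SLK := (MonoidHom.snd GLm SLK).comp Gam.subtype

theorem f1_inj : Function.Injective f1 := by
  rw [injective_iff_map_eq_one]
  intro x hx
  apply Subtype.ext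
  exact Prod.ext hx (snd_eq_one x.2 hx)

theorem f2_inj : Function.Injective f2 := by
  rw [injective_iff_map_eq_one]
  intro x hx
  apply Subtype.ext
  exact Prod.ext (fst_eq_one x.2 hx) hx

theorem f1_range : f1.range = Subgroup.closure (Set.range AG) := by
  have h : f1.range = Gam.map (MonoidHom.fst GLm SLK) := by
    rw [f1, ← MonoidHom.map_range, Subgroup.range_subtype]
  rw [h, Gam, MonoidHom.map_closure]
  congr 1
  ext g
  simp only [gens, Set.mem_image, Set.mem_range]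
  constructor
  · rintro ⟨_, ⟨r, rfl⟩, rfl⟩
    exact ⟨r, rfl⟩
  · rintro ⟨r, rfl⟩
    exact ⟨_, ⟨r, rfl⟩, rfl⟩

theorem f2_range : f2.range = Subgroup.closure (Set.range BG) := by
  have h : f2.range = Gam.map (MonoidHom.snd GLm SLK) := by
    rw [f2, ← MonoidHom.map_range, Subgroup.range_subtype]
  rw [h, Gam, MonoidHom.map_closure]
  congr 1
  ext g
  simp only [gens, Set.mem_image, Set.mem_range]
  constructor
  · rintro ⟨_, ⟨r, rfl⟩, rfl⟩
    exact ⟨r, rfl⟩
  · rintro ⟨r, rfl⟩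
    exact ⟨_, ⟨r, rfl⟩, rfl⟩

/-- the subgroup of `GL₁₄(2)` generated by the two generators. -/
def H0 : Subgroup GLm := Subgroup.closure (Set.range AG)

/-- the subgroup of `SL₃(9)` generated by the two unitary generators. -/
def T0 : Subgroup SLK := Subgroup.closure (Set.range BG)

/-- the isomorphism between the two subgroups. -/
noncomputable def isoH0T0 : H0 ≃* T0 :=
  ((MulEquiv.subgroupCongr f1_range).symm.trans (MonoidHom.ofInjective f1_inj).symm).trans
    ((MonoidHom.ofInjective f2_inj).trans (MulEquiv.subgroupCongr f2_range))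

theorem card_T0_ge : 6048 ≤ Nat.card T0 := by
  have e : Gam ≃* T0 := (MonoidHom.ofInjective f2_inj).trans (MulEquiv.subgroupCongr f2_range)
  rw [← Nat.card_congr e.toEquiv]
  exact card_Gam_ge

theorem mem_H0_iff (g : GLm) : g ∈ H0 ↔ ∃ i, i < 6048 ∧ (g : Matrix I14 I14 (ZMod 2)) = dec14 (Mi i) := by
  constructor
  · intro hg
    rw [H0, ← f1_range] at hg
    obtain ⟨p, rfl⟩ := hg
    obtain ⟨i, hi, h1, _⟩ := mem_S_of_mem_Gam p.2
    exact ⟨i, hi, h1⟩
  · rintro ⟨i, hi, h⟩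
    obtain ⟨p, hp, h1, _⟩ := exists_mem_Gam i hi
    have : g = f1 ⟨p, hp⟩ := Units.ext (h.trans h1.symm)
    rw [H0, ← f1_range, this]
    exact ⟨_, rfl⟩

end Cfsg.Agent.Lib.Helper19.G2Graph
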