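/-
Helper19 library: the subgroup `H0` of order 6048 of `GL₁₄(2)` is the derived subgroup of the group `G0` generated by
the twelve root elements `x_r(1)` of type `G₂`.
-/
import Mathlib
import Cfsg.Agent.Lib.Helper19.G2Graph

set_option autoImplicit false

namespace Cfsg.Agent.Lib.Helper19.G2Der

open Cfsg.Agent.Lib.Helper19.B2Enc Cfsg.Agent.Lib.Helper19.G2Enc Cfsg.Agent.Lib.Helper19.G2Data
open Cfsg.Agent.Lib.Helper19.G2Check Cfsg.Agent.Lib.Helper19.G2Graph
open scoped commutatorElement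

theorem XE_mul_self (r : Fin 12) : dec14 (XE r.val) * dec14 (XE r.val) = 1 := by
  rw [← dec14_mul, XE_sq r.val (List.mem_range.2 r.isLt), dec14_one]

/-- the root elements as units. -/
def XG (r : Fin 12) : GLm := ⟨dec14 (XE r.val), dec14 (XE r.val), XE_mul_self r, XE_mul_self r⟩

theorem XG_inv (r : Fin 12) : (XG r)⁻¹ = XG r := Units.ext rfl

/-- the group generated by the root elements. -/
def G0 : Subgroup GLm := Subgroup.closure (Set.range XG)

theorem XG_mem (r : Fin 12) : XG r ∈ G0 := Subgroup.subset_closure ⟨r, rfl⟩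

theorem AG0_eq : AG 0 = ⁅XG 0, XG 6⁆ := by
  rw [commutatorElement_def, XG_inv, XG_inv]
  apply Units.ext
  show dec14 (AE 0) = dec14 (XE 0) * dec14 (XE 6) * dec14 (XE 0) * dec14 (XE 6)
  rw [A0_word, dec14_mul, dec14_mul, dec14_mul, mul_assoc, mul_assoc]

theorem AG1_eq : AG 1 = ⁅XG 0 * XG 2, XG 9⁆ := by
  rw [commutatorElement_def, mul_inv_rev, XG_inv, XG_inv, XG_inv]
  apply Units.ext
  show dec14 (AE 1) = dec14 (XE 0) * dec14 (XE 2) * dec14 (XE 9) * (dec14 (XE 2) * dec14 (XE 0)) *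
    dec14 (XE 9)
  rw [A1_word, dec14_mul, dec14_mul, dec14_mul, dec14_mul, dec14_mul]
  simp only [mul_assoc]

theorem AG_mem_G0 (r : Fin 2) : AG r ∈ G0 := by
  fin_cases r
  · show AG 0 ∈ G0
    rw [AG0_eq, commutatorElement_def]
    exact G0.mul_mem (G0.mul_mem (G0.mul_mem (XG_mem 0) (XG_mem 6)) (G0.inv_mem (XG_mem 0)))
      (G0.inv_mem (XG_mem 6))
  · show AG 1 ∈ G0
    rw [AG1_eq, commutatorElement_def]
    exact G0.mul_mem (G0.mul_mem (G0.mul_mem (G0.mul_mem (XG_mem 0) (XG_mem 2)) (XG_mem 9))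
      (G0.inv_mem (G0.mul_mem (XG_mem 0) (XG_mem 2)))) (G0.inv_mem (XG_mem 9))

theorem H0_le_G0 : H0 ≤ G0 := by
  rw [H0, Subgroup.closure_le]
  rintro _ ⟨r, rfl⟩
  exact AG_mem_G0 r

theorem conj_gen_mem (r : Fin 12) (i : Fin 2) : XG r * AG i * XG r ∈ H0 := by
  rw [mem_H0_iff]
  obtain ⟨h1, h2⟩ := conj_cert r.val (List.mem_range.2 r.isLt) i.val (List.mem_range.2 i.isLt)
  refine ⟨cjI r.val i.val, h2, ?_⟩
  show dec14 (XE r.val) * dec14 (AE i.val) * dec14 (XE r.val) = _
  rw [← h1, dec14_mul, dec14_mul, mul_assoc]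

theorem conj_XG_mem (r : Fin 12) {h : GLm} (hh : h ∈ H0) : XG r * h * XG r ∈ H0 := by
  induction hh using Subgroup.closure_induction with
  | mem x hx =>
    obtain ⟨i, rfl⟩ := hx
    exact conj_gen_mem r i
  | one =>
    have : XG r * 1 * XG r = 1 := by
      rw [mul_one]
      nth_rewrite 1 [← XG_inv r]
      exact inv_mul_cancel _
    rw [this]
    exact H0.one_mem
  | mul x y _ _ ihx ihy =>
    have : XG r * (x * y) * XG r = (XG r * x * XG r) * (XG r * y * XG r) := by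
      have e : XG r * XG r = 1 := by
        nth_rewrite 1 [← XG_inv r]
        exact inv_mul_cancel _
      calc XG r * (x * y) * XG r = XG r * x * 1 * y * XG r := by group
        _ = XG r * x * (XG r * XG r) * y * XG r := by rw [e]
        _ = (XG r * x * XG r) * (XG r * y * XG r) := by group
    rw [this]
    exact H0.mul_mem ihx ihy
  | inv x _ ih =>
    have : XG r * x⁻¹ * XG r = (XG r * x * XG r)⁻¹ := by
      rw [mul_inv_rev, mul_inv_rev, XG_inv, mul_assoc]
    rw [this]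
    exact H0.inv_mem ih

theorem conj_mem {k : GLm} (hk : k ∈ G0) :
    ∀ h ∈ H0, k * h * k⁻¹ ∈ H0 ∧ k⁻¹ * h * k ∈ H0 := by
  induction hk using Subgroup.closure_induction with
  | mem x hx =>
    obtain ⟨r, rfl⟩ := hx
    intro h hh
    rw [XG_inv]
    exact ⟨conj_XG_mem r hh, conj_XG_mem r hh⟩
  | one =>
    intro h hh
    simpa using hh
  | mul x y _ _ ihx ihy =>
    intro h hh
    constructor
    · have : x * y * h * (x * y)⁻¹ = x * (y * h * y⁻¹) * x⁻¹ := by group
      rw [this]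
      exact (ihx _ (ihy h hh).1).1
    · have : (x * y)⁻¹ * h * (x * y) = y⁻¹ * (x⁻¹ * h * x) * y := by group
      rw [this]
      exact (ihy _ (ihx h hh).2).2
  | inv x _ ih =>
    intro h hh
    rw [inv_inv]
    exact ⟨(ih h hh).2, (ih h hh).1⟩

/-- `H0` as a subgroup of `G0`. -/
def N0 : Subgroup G0 := H0.subgroupOf G0

instance N0_normal : N0.Normal :=
  (Subgroup.normal_subgroupOf_iff H0_le_G0).mpr fun h k hh hk => (conj_mem hk h hh).1

/-- the short root element used as a coset representative. -/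
def tG : G0 := ⟨XG 2, XG_mem 2⟩

theorem mk_XG_mem (r : Fin 12) :
    QuotientGroup.mk' N0 ⟨XG r, XG_mem r⟩ ∈ Subgroup.zpowers (QuotientGroup.mk' N0 tG) := by
  obtain ⟨h1, h2⟩ := coset_cert r.val (List.mem_range.2 r.isLt)
  by_cases hk : csK r.val = 0
  · rw [if_pos hk] at h1
    have hm : XG r ∈ H0 := (mem_H0_iff _).mpr ⟨csI r.val, h2, by rw [← h1]; rfl⟩
    have : QuotientGroup.mk' N0 ⟨XG r, XG_mem r⟩ = 1 := by
      rw [QuotientGroup.mk'_apply, QuotientGroup.eq_one_iff]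
      exact hm
    rw [this]
    exact one_mem _
  · rw [if_neg hk] at h1
    have hm : XG r * XG 2 ∈ H0 := (mem_H0_iff _).mpr ⟨csI r.val, h2, by
      rw [← h1, dec14_mul]; rfl⟩
    have h3 : QuotientGroup.mk' N0 (⟨XG r, XG_mem r⟩ * tG) = 1 := by
      rw [QuotientGroup.mk'_apply, QuotientGroup.eq_one_iff]
      exact hm
    rw [map_mul] at h3
    rw [eq_inv_of_mul_eq_one_left h3]
    exact Subgroup.inv_mem _ (Subgroup.mem_zpowers _)

theorem mk_mem_zpowers (g : GLm) (hg : g ∈ G0) :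
    QuotientGroup.mk' N0 ⟨g, hg⟩ ∈ Subgroup.zpowers (QuotientGroup.mk' N0 tG) := by
  induction hg using Subgroup.closure_induction with
  | mem x hx =>
    obtain ⟨r, rfl⟩ := hx
    exact mk_XG_mem r
  | one => exact one_mem _
  | mul x y hx hy ihx ihy =>
    have : (⟨x * y, G0.mul_mem hx hy⟩ : G0) = ⟨x, hx⟩ * ⟨y, hy⟩ := rfl
    rw [this, map_mul]
    exact mul_mem ihx ihy
  | inv x hx ih =>
    have : (⟨x⁻¹, G0.inv_mem hx⟩ : G0) = (⟨x, hx⟩ : G0)⁻¹ := rfl
    rw [this, map_inv]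
    exact inv_mem ih

theorem commutator_le_N0 : commutator G0 ≤ N0 := by
  rw [commutator_def, Subgroup.commutator_le]
  intro g₁ _ g₂ _
  rw [← QuotientGroup.eq_one_iff, ← QuotientGroup.mk'_apply, map_commutatorElement]
  obtain ⟨a, ha⟩ := Subgroup.mem_zpowers_iff.mp (mk_mem_zpowers g₁.1 g₁.2)
  obtain ⟨b, hb⟩ := Subgroup.mem_zpowers_iff.mp (mk_mem_zpowers g₂.1 g₂.2)
  rw [commutatorElement_eq_one_iff_mul_comm]
  have e1 : QuotientGroup.mk' N0 g₁ = QuotientGroup.mk' N0 tG ^ a := ha.symm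
  have e2 : QuotientGroup.mk' N0 g₂ = QuotientGroup.mk' N0 tG ^ b := hb.symm
  rw [e1, e2, ← zpow_add, ← zpow_add, add_comm]

theorem N0_le_commutator : N0 ≤ commutator G0 := by
  have key : ∀ x : GLm, x ∈ H0 → ∀ hx : x ∈ G0, (⟨x, hx⟩ : G0) ∈ commutator G0 := by
    intro x hx
    induction hx using Subgroup.closure_induction with
    | mem x hx =>
      obtain ⟨r, rfl⟩ := hx
      intro hxG
      fin_cases r
      · have : (⟨AG 0, hxG⟩ : G0) = ⁅(⟨XG 0, XG_mem 0⟩ : G0), ⟨XG 6, XG_mem 6⟩⁆ :=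
          Subtype.ext AG0_eq
        show (⟨AG 0, hxG⟩ : G0) ∈ commutator G0
        rw [this, commutator_def]
        exact Subgroup.commutator_mem_commutator (Subgroup.mem_top _) (Subgroup.mem_top _)
      · have : (⟨AG 1, hxG⟩ : G0) =
            ⁅(⟨XG 0 * XG 2, G0.mul_mem (XG_mem 0) (XG_mem 2)⟩ : G0), ⟨XG 9, XG_mem 9⟩⁆ :=
          Subtype.ext AG1_eq
        show (⟨AG 1, hxG⟩ : G0) ∈ commutator G0
        rw [this, commutator_def]
        exact Subgroup.commutator_mem_commutator (Subgroup.mem_top _) (Subgroup.mem_top _)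
    | one =>
      intro hxG
      exact (commutator G0).one_mem
    | mul x y hx hy ihx ihy =>
      intro hxG
      have hx' : x ∈ G0 := H0_le_G0 hx
      have hy' : y ∈ G0 := H0_le_G0 hy
      have : (⟨x * y, hxG⟩ : G0) = ⟨x, hx'⟩ * ⟨y, hy'⟩ := rfl
      rw [this]
      exact (commutator G0).mul_mem (ihx hx') (ihy hy')
    | inv x hx ih =>
      intro hxG
      have hx' : x ∈ G0 := H0_le_G0 hx
      have : (⟨x⁻¹, hxG⟩ : G0) = (⟨x, hx'⟩ : G0)⁻¹ := rfl
      rw [this]
      exact (commutator G0).inv_mem (ih hx')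
  intro n hn
  exact key n.1 hn n.2

theorem commutator_eq : commutator G0 = N0 := le_antisymm commutator_le_N0 N0_le_commutator

/-- the derived subgroup of `G0` is isomorphic to `H0`. -/
noncomputable def isoCommutator : ↥(commutator G0) ≃* H0 :=
  (MulEquiv.subgroupCongr commutator_eq).trans (Subgroup.subgroupOfEquivOfLe H0_le_G0)

end Cfsg.Agent.Lib.Helper19.G2Der
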