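/-
Helper19 library: the derived subgroup of the adjoint Chevalley group `G₂(2)` is isomorphic to `PSU₃(3)`.
-/
import Mathlib
import Cfsg.Agent.Lib.Helper19.G2Der
import Cfsg.Agent.Lib.Helper19.B2Iso
import Cfsg.Agent.Lib.Helper18.SU3Sylow

set_option autoImplicit false

namespace Cfsg.Agent.Lib.Helper19.G2Iso

open Cfsg.Agent.Lib.Helper19.B2Enc Cfsg.Agent.Lib.Helper19.G2Enc Cfsg.Agent.Lib.Helper19.G2Data
open Cfsg.Agent.Lib.Helper19.G2Check Cfsg.Agent.Lib.Helper19.G2Graph Cfsg.Agent.Lib.Helper19.G2Der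
open Cfsg.Agent.Lib.Helper19.PSU33Spec Cfsg.Agent.Lib.Helper14 Cfsg.Lie

/-- the Chevalley group over `ZMod 2` with the index type unfolded. -/
def G2g : Subgroup GLm := chevG2.group (ZMod 2)

theorem G2g_eq : G2g = Subgroup.closure {g : GLm | ∃ (r : Fin 12) (t : ZMod 2),
    (g : Matrix I14 I14 (ZMod 2)) = X14 r t} := rfl

theorem group_eq : G2g = G0 := by
  rw [G2g_eq, G0]
  apply le_antisymm
  · rw [Subgroup.closure_le]
    rintro g ⟨r, t, hg⟩
    have ht : t = 0 ∨ t = 1 := by
      fin_cases t
      · left; rfl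
      · right; rfl
    rcases ht with rfl | rfl
    · have h1 : g = 1 := Units.ext (hg.trans (X14_zero r))
      rw [h1]
      exact one_mem _
    · have h1 : g = XG r := Units.ext (hg.trans (dec_XE r).symm)
      rw [h1]
      exact Subgroup.subset_closure ⟨r, rfl⟩
  · rw [Subgroup.closure_le]
    rintro _ ⟨r, rfl⟩
    exact Subgroup.subset_closure ⟨r, 1, dec_XE r⟩

/-- a group isomorphism induces an isomorphism of the derived subgroups. -/
noncomputable def commutatorCongr {A B : Type*} [Group A] [Group B] (e : A ≃* B) :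
    ↥(commutator A) ≃* ↥(commutator B) :=
  (e.subgroupMap (commutator A)).trans (MulEquiv.subgroupCongr (by
    rw [commutator_def, Subgroup.map_commutator]
    have : Subgroup.map (e : A →* B) ⊤ = ⊤ := Subgroup.map_top_of_surjective _ e.surjective
    rw [this, commutator_def]))

/-- the derived subgroup of the Chevalley group over `ZMod 2` is isomorphic to `H0`. -/
noncomputable def isoH0 : ↥(commutator ↥(chevG2.group (ZMod 2))) ≃* H0 :=
  (commutatorCongr (MulEquiv.subgroupCongr group_eq)).trans isoCommutator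

section unitary

variable {K : Type*} [Field K] [Fintype K]

theorem map_injective (hK : Fintype.card K = 9) :
    Function.Injective (Matrix.SpecialLinearGroup.map (n := Fin 3) (phi hK).toRingHom) := by
  intro A B h
  apply Subtype.ext
  refine Matrix.ext fun i j => ?_
  have h1 := congrArg
    (fun X : Matrix.SpecialLinearGroup (Fin 3) K => (X : Matrix (Fin 3) (Fin 3) K) i j) h
  simp only [Matrix.SpecialLinearGroup.map_apply_coe, RingHom.mapMatrix_apply,
    Matrix.map_apply] at h1
  exact (phi hK).injective h1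

theorem map_mem_SU (hK : Fintype.card K = 9) (h : SLK) (hh : h ∈ T0) :
    Matrix.SpecialLinearGroup.map (n := Fin 3) (phi hK).toRingHom h ∈ Cfsg.SU 3 K 3 := by
  have hle : T0 ≤ (Cfsg.SU 3 K 3).comap (Matrix.SpecialLinearGroup.map (phi hK).toRingHom) := by
    apply (Subgroup.closure_le _).mpr
    rintro _ ⟨r, rfl⟩
    exact (mem_SU_iff _).mpr (isUni_of_mul_eq_one hK _
      (map_uni hK (dec9 (BE r.val)) (B_uni r.val (List.mem_range.2 r.isLt))))
  exact hle hh

/-- the embedding of `T0` in `SU₃(3)`. -/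
noncomputable def psi0 (hK : Fintype.card K = 9) : T0 →* Cfsg.SU 3 K 3 :=
  ((Matrix.SpecialLinearGroup.map (n := Fin 3) (phi hK).toRingHom).comp T0.subtype).codRestrict
    (Cfsg.SU 3 K 3) (fun h => map_mem_SU hK h.1 h.2)

/-- the embedding of `T0` in `PSU₃(3)`. -/
noncomputable def psi (hK : Fintype.card K = 9) : T0 →* Cfsg.PSU 3 K 3 :=
  (QuotientGroup.mk' (Subgroup.center (Cfsg.SU 3 K 3))).comp (psi0 hK)

theorem psi_injective (hK : Fintype.card K = 9) : Function.Injective (psi hK) := by
  intro a b hab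
  have h1 := mk_injective hK hab
  have h2 := congrArg Subtype.val h1
  exact Subtype.ext (map_injective hK h2)

theorem card_PSU (hK : Fintype.card K = 9) : Nat.card (Cfsg.PSU 3 K 3) = 6048 := by
  classical
  have h1 : Nat.card (Cfsg.SU 3 K 3) = 6048 := by
    rw [Cfsg.Agent.Lib.Helper18.SU3Model.card_SU3 (hF' hK)]
    norm_num
  have hb : Function.Bijective (QuotientGroup.mk' (Subgroup.center (Cfsg.SU 3 K 3))) :=
    ⟨mk_injective hK, QuotientGroup.mk'_surjective _⟩
  rw [← Nat.card_congr (Equiv.ofBijective _ hb), h1]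

theorem psi_bijective (hK : Fintype.card K = 9) : Function.Bijective (psi hK) := by
  classical
  haveI : Finite (Cfsg.PSU 3 K 3) := Nat.finite_of_card_ne_zero (by rw [card_PSU hK]; norm_num)
  apply (psi_injective hK).bijective_of_nat_card_le
  rw [card_PSU hK]
  exact card_T0_ge

end unitary

theorem nonempty_iso {F K : Type*} [Field F] [Fintype F] [Field K] [Fintype K]
    (hF : Fintype.card F = 2) (hK : Fintype.card K = 9) :
    Nonempty (↥(commutator ↥(chevG2.group F)) ≃* Cfsg.PSU 3 K 3) := by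
  let e : ZMod 2 ≃+* F := ZMod.ringEquivOfPrime F Nat.prime_two hF
  have h := Cfsg.Agent.Lib.Helper19.B2Iso.group_map_glE chevG2 e
  let e1 : ↥(chevG2.group F) ≃* ↥(chevG2.group (ZMod 2)) :=
    (MulEquiv.subgroupCongr h).symm.trans
      ((Cfsg.Agent.Lib.Helper19.B2Iso.glE chevG2.Idx e).subgroupMap (chevG2.group (ZMod 2))).symm
  exact ⟨(((commutatorCongr e1).trans isoH0).trans isoH0T0).trans
    (MulEquiv.ofBijective (psi hK) (psi_bijective hK))⟩

end Cfsg.Agent.Lib.Helper19.G2Iso
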