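/-
helper19: S4607 leaf (C2) `arith_two` (planner helper27), pure arithmetic:
`d₁² + d₂² = p^d`, `n₁ d₁ + n₂ d₂ = 1`, `p^d g² = 2 n²`, `g ≠ 0` force `p^d = 2`.
[2-adic valuation of `p^d g² = 2 n²`: `d · v₂(p)` is odd, so `p = 2` and `d` is odd; if `d ≥ 3` then
`4 ∣ d₁² + d₂²` forces `d₁, d₂` both even, against coprimality.]  Mathlib only.
-/
import Mathlib

set_option autoImplicit false

namespace Cfsg.Agent.Lib.Helper19.BlkGlueC2

/-- LEAF C2. -/
theorem arith_two (p : ℕ) (hp : p.Prime) (d g n d₁ d₂ : ℕ) (n₁ n₂ : ℤ)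
    (hsum : d₁ ^ 2 + d₂ ^ 2 = p ^ d) (hcop : n₁ * d₁ + n₂ * d₂ = 1)
    (hg : g ≠ 0) (hdim : p ^ d * g ^ 2 = 2 * n ^ 2) : p ^ d = 2 := by
  have hpd : p ^ d ≠ 0 := pow_ne_zero _ hp.ne_zero
  have hg2 : g ^ 2 ≠ 0 := pow_ne_zero _ hg
  have hn : n ≠ 0 := by
    rintro rfl
    have h0 : p ^ d * g ^ 2 = 0 := by rw [hdim]; norm_num
    exact (mul_ne_zero hpd hg2) h0
  have hn2 : n ^ 2 ≠ 0 := pow_ne_zero _ hn
  have : Fact (Nat.Prime 2) := ⟨Nat.prime_two⟩
  have hv := congrArg (padicValNat 2) hdim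
  rw [padicValNat.mul hpd hg2, padicValNat.mul two_ne_zero hn2, padicValNat.pow g 2,
    padicValNat.pow n 2, padicValNat.pow p d, padicValNat.self (by norm_num)] at hv
  by_cases hp2 : p = 2
  · subst hp2
    rw [padicValNat.self (by norm_num), mul_one] at hv
    -- `d` is odd
    by_cases hd1 : d = 1
    · rw [hd1, pow_one]
    · exfalso
      have hd3 : 3 ≤ d := by omega
      obtain ⟨e, rfl⟩ : ∃ e, d = e + 2 := ⟨d - 2, by omega⟩
      have h4 : d₁ ^ 2 + d₂ ^ 2 = 4 * 2 ^ e := by rw [hsum, pow_add]; ring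
      have hboth : 2 ∣ d₁ ∧ 2 ∣ d₂ := by
        rcases Nat.even_or_odd' d₁ with ⟨a, ha | ha⟩ <;> rcases Nat.even_or_odd' d₂ with ⟨b, hb | hb⟩
        · exact ⟨⟨a, ha⟩, ⟨b, hb⟩⟩
        · exfalso
          have e1 : d₁ ^ 2 = 4 * (a * a) := by rw [ha]; ring
          have e2 : d₂ ^ 2 = 4 * (b * b + b) + 1 := by rw [hb]; ring
          omega
        · exfalso
          have e1 : d₁ ^ 2 = 4 * (a * a + a) + 1 := by rw [ha]; ring
          have e2 : d₂ ^ 2 = 4 * (b * b) := by rw [hb]; ring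
          omega
        · exfalso
          have e1 : d₁ ^ 2 = 4 * (a * a + a) + 1 := by rw [ha]; ring
          have e2 : d₂ ^ 2 = 4 * (b * b + b) + 1 := by rw [hb]; ring
          omega
      obtain ⟨⟨a, ha⟩, ⟨b, hb⟩⟩ := hboth
      have h21 : (2 : ℤ) ∣ 1 := by
        rw [← hcop, ha, hb]
        push_cast
        exact ⟨n₁ * a + n₂ * b, by ring⟩
      norm_num at h21
  · exfalso
    have hnd : ¬ 2 ∣ p := by
      intro h
      exact hp2 ((Nat.prime_dvd_prime_iff_eq Nat.prime_two hp).1 h).symm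
    rw [padicValNat.eq_zero_of_not_dvd hnd] at hv
    omega

end Cfsg.Agent.Lib.Helper19.BlkGlueC2
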