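import Mathlib
import Cfsg.Prelude.Def_GeometricClasses
import Cfsg.Agent.Lib.Helper8.TW.Defs
import Cfsg.Agent.Lib.Helper19.TWGrow
import Cfsg.Agent.Lib.Helper12.TWTS
import Cfsg.Agent.Lib.Helper23.TWG1
import Cfsg.Agent.Lib.Helper13.TA

set_option autoImplicit false
set_option linter.unusedSectionVars false
set_option linter.unusedVariables false

namespace Cfsg.Agent.Lib.Helper19.TWCaseA
open Matrix Cfsg.Geo Cfsg.Agent.Lib.Helper18.AschA89 Cfsg.Agent.Lib.Helper20.AschLeaf
open Cfsg.Agent.Lib.Helper8.TW Cfsg.Agent.Lib.Helper19.TWGrow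

variable {F : Type*} [Field F] {T m : ℕ}

/-- the matrix unit `E_{ab}` at position `l` -/
def EU (l : Fin T) (a b : Fin m) : Matrix (Idx T m) (Idx T m) F :=
  slot m T l (Matrix.single a b (1 : F))

lemma slot_mul_apply' (l : Fin T) (A : Matrix (Fin m) (Fin m) F) (M : Matrix (Idx T m) (Idx T m) F)
    (p q : Idx T m) :
    (slot m T l A * M) p q = ∑ c, A (p l) c * M (Function.update p l c) q := by
  have := Cfsg.Agent.Lib.Helper12.TWLeaf.slot_mulVec_apply l A (fun x => M x q) p
  rw [← this]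
  rfl

lemma EU_mul_apply (l : Fin T) (a b : Fin m) (M : Matrix (Idx T m) (Idx T m) F) (p q : Idx T m) :
    (EU l a b * M : Matrix (Idx T m) (Idx T m) F) p q = if p l = a then M (Function.update p l b) q else 0 := by
  unfold EU
  rw [slot_mul_apply']
  by_cases h : p l = a
  · rw [if_pos h, Finset.sum_eq_single b]
    · rw [h, Matrix.single_apply_same, one_mul]
    · intro c _ hc
      rw [Matrix.single_apply_of_col_ne _ _ (Ne.symm hc), zero_mul]
    · intro hb; exact absurd (Finset.mem_univ b) hb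
  · rw [if_neg h]
    apply Finset.sum_eq_zero
    intro c _
    rw [Matrix.single_apply_of_row_ne (Ne.symm h), zero_mul]

lemma mul_EU_apply (l : Fin T) (a b : Fin m) (M : Matrix (Idx T m) (Idx T m) F) (p q : Idx T m) :
    (M * EU l a b : Matrix (Idx T m) (Idx T m) F) p q = if q l = b then M p (Function.update q l a) else 0 := by
  have h1 : (M * EU l a b : Matrix (Idx T m) (Idx T m) F) p q =
      ((EU l a b)ᵀ * Mᵀ : Matrix (Idx T m) (Idx T m) F) q p := by
    rw [← Matrix.transpose_mul]; rfl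
  have h2 : (EU (F := F) l a b)ᵀ = EU l b a := by
    unfold EU
    ext x y
    simp only [Matrix.transpose_apply, slot_apply, Matrix.single_apply]
    by_cases h : ∀ j, j ≠ l → x j = y j
    · have h' : ∀ j, j ≠ l → y j = x j := fun j hj => (h j hj).symm
      rw [if_pos h, if_pos h']
      by_cases c1 : a = y l ∧ b = x l
      · rw [if_pos c1, if_pos ⟨c1.2, c1.1⟩]
      · rw [if_neg c1, if_neg (fun c => c1 ⟨c.2, c.1⟩)]
    · have h' : ¬ ∀ j, j ≠ l → y j = x j := fun h' => h (fun j hj => (h' j hj).symm)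
      rw [if_neg h, if_neg h']
  rw [h1, h2, EU_mul_apply]
  rfl

lemma EU_mul_EU_same (l : Fin T) (a b c : Fin m) : EU (F := F) l a b * EU l b c = EU l a c := by
  unfold EU
  rw [slot_mul, Matrix.single_mul_single_same, mul_one]

lemma EU_mul_EU_ne (l : Fin T) (a b c d : Fin m) (h : b ≠ c) : EU (F := F) l a b * EU l c d = 0 := by
  unfold EU
  rw [slot_mul, Matrix.single_mul_single_of_ne _ _ _ _ h, slot_zero]

/-- `Xθ - θX - XθX` -/
def Dm {R : Type*} [Ring R] (X θ : R) : R := X * θ - θ * X - X * θ * X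

lemma conj_sub_eq {R : Type*} [Ring R] (X θ : R) : (1 + X) * θ * (1 - X) - θ = Dm X θ := by
  unfold Dm
  noncomm_ring

/-- chain3 in matrix-unit form -/
lemma chain3 {R : Type*} [Ring R] (eki ekj eji θ : R)
    (h1 : ekj * eki = 0) (h2 : eki * ekj = 0) (h3 : eji * ekj = 0) (h4 : eji * eki = 0)
    (h5 : eki * eji = 0) (h6 : ekj * eji = eki) :
    Dm eji (Dm ekj (Dm eki θ)) = eki * θ * eki := by
  have h1' : ∀ x : R, ekj * (eki * x) = 0 := fun x => by rw [← mul_assoc, h1, zero_mul]
  have h2' : ∀ x : R, eki * (ekj * x) = 0 := fun x => by rw [← mul_assoc, h2, zero_mul]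
  have h3' : ∀ x : R, eji * (ekj * x) = 0 := fun x => by rw [← mul_assoc, h3, zero_mul]
  have h4' : ∀ x : R, eji * (eki * x) = 0 := fun x => by rw [← mul_assoc, h4, zero_mul]
  have h5' : ∀ x : R, eki * (eji * x) = 0 := fun x => by rw [← mul_assoc, h5, zero_mul]
  have h6' : ∀ x : R, ekj * (eji * x) = eki * x := fun x => by rw [← mul_assoc, h6]
  unfold Dm
  simp only [mul_sub, sub_mul, mul_assoc, h1, h2, h3, h4, h5, h6, h1', h2', h3', h4', h5', h6',
    mul_zero, zero_mul, sub_zero, zero_sub, sub_self, neg_zero, mul_neg, neg_mul, neg_neg, sub_neg_eq_add,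
    zero_add, add_zero]


/-! ### elementary elements of `H` -/

lemma slot_tu (l : Fin T) (p r : Fin m) (c : F) :
    slot m T l (1 + Matrix.single p r c) = 1 + c • EU (F := F) l p r := by
  unfold EU
  rw [slot_add, slot_one, ← slot_smul, Matrix.smul_single, smul_eq_mul, mul_one]

lemma elem_mem_H (l : Fin T) (p r : Fin m) (hpr : p ≠ r) (c : F) :
    ∃ g ∈ Hstd T m F, ((g : GL (Idx T m) F) : Matrix (Idx T m) (Idx T m) F) = 1 + c • EU l p r ∧
      ((g⁻¹ : GL (Idx T m) F) : Matrix (Idx T m) (Idx T m) F) = 1 - c • EU l p r := by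
  refine ⟨slotGL l (Cfsg.Agent.Lib.Helper13.TensLeaf.tu p r hpr c), ⟨?_, ?_⟩, ?_, ?_⟩
  · exact Cfsg.Agent.Lib.Helper23.TWLeaf.slotGL_mem_G l _
  · show slotGL l (Cfsg.Agent.Lib.Helper13.TensLeaf.tu p r hpr c) ∈
      (Matrix.GeneralLinearGroup.det : GL (Idx T m) F →* Fˣ).ker
    rw [MonoidHom.mem_ker]
    apply Units.ext
    show (slot m T l ((Cfsg.Agent.Lib.Helper13.TensLeaf.tu p r hpr c : GL (Fin m) F) :
      Matrix (Fin m) (Fin m) F)).det = 1
    rw [Cfsg.Agent.Lib.Helper12.TWLeaf.det_slot, Cfsg.Agent.Lib.Helper13.TensLeaf.tu_det, one_pow]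
  · show slot m T l (1 + Matrix.single p r c) = _
    exact slot_tu l p r c
  · show slot m T l (1 - Matrix.single p r c) = _
    have : (1 - Matrix.single p r c : Matrix (Fin m) (Fin m) F) = 1 + Matrix.single p r (-c) := by
      rw [sub_eq_add_neg, ← Matrix.single_neg]
    rw [this, slot_tu, neg_smul, sub_eq_add_neg]

/-! ### the set `𝒮` -/

/-- shape: nonzero entries only at `p i = o`, `q i = j` -/
def Sh (i : Fin T) (o j : Fin m) (Θ : Matrix (Idx T m) (Idx T m) F) : Prop :=
  ∀ p q, Θ p q ≠ 0 → p i = o ∧ q i = j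

/-- `Θ ∈ 𝒮` -/
def InS (X : Subgroup (GL (Idx T m) F)) (i : Fin T) (o j : Fin m)
    (Θ : Matrix (Idx T m) (Idx T m) F) : Prop :=
  Sh i o j Θ ∧ InM X (1 + Θ)

lemma Sh_mul_zero {i : Fin T} {o j : Fin m} (hoj : o ≠ j) {Θ Θ' : Matrix (Idx T m) (Idx T m) F}
    (h : Sh i o j Θ) (h' : Sh i o j Θ') : Θ * Θ' = 0 := by
  ext p q
  rw [Matrix.mul_apply, Matrix.zero_apply]
  apply Finset.sum_eq_zero
  intro r _
  by_cases h1 : Θ p r = 0
  · rw [h1, zero_mul]
  · by_cases h2 : Θ' r q = 0
    · rw [h2, mul_zero]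
    · exact absurd ((h' r q h2).1.symm.trans (h p r h1).2) hoj

lemma Sh_add {i : Fin T} {o j : Fin m} {Θ Θ' : Matrix (Idx T m) (Idx T m) F}
    (h : Sh i o j Θ) (h' : Sh i o j Θ') : Sh i o j (Θ + Θ') := by
  intro p q hne
  by_cases h1 : Θ p q = 0
  · by_cases h2 : Θ' p q = 0
    · exfalso; apply hne; rw [Matrix.add_apply, h1, h2, add_zero]
    · exact h' p q h2
  · exact h p q h1

lemma Sh_neg {i : Fin T} {o j : Fin m} {Θ : Matrix (Idx T m) (Idx T m) F}
    (h : Sh i o j Θ) : Sh i o j (-Θ) := by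
  intro p q hne
  apply h p q
  intro h0
  apply hne
  rw [Matrix.neg_apply, h0, neg_zero]

lemma Sh_sub {i : Fin T} {o j : Fin m} {Θ Θ' : Matrix (Idx T m) (Idx T m) F}
    (h : Sh i o j Θ) (h' : Sh i o j Θ') : Sh i o j (Θ - Θ') := by
  rw [sub_eq_add_neg]; exact Sh_add h (Sh_neg h')

lemma Sh_EU_mul {i l : Fin T} (hli : l ≠ i) {o j : Fin m} (a b : Fin m)
    {Θ : Matrix (Idx T m) (Idx T m) F} (h : Sh i o j Θ) : Sh i o j (EU l a b * Θ) := by
  intro p q hne
  rw [EU_mul_apply] at hne
  by_cases hp : p l = a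
  · rw [if_pos hp] at hne
    have := h _ _ hne
    rw [Function.update_of_ne hli.symm] at this
    exact this
  · rw [if_neg hp] at hne; exact absurd rfl hne

lemma Sh_mul_EU {i l : Fin T} (hli : l ≠ i) {o j : Fin m} (a b : Fin m)
    {Θ : Matrix (Idx T m) (Idx T m) F} (h : Sh i o j Θ) : Sh i o j (Θ * EU l a b) := by
  intro p q hne
  rw [mul_EU_apply] at hne
  by_cases hq : q l = b
  · rw [if_pos hq] at hne
    have := h _ _ hne
    rw [Function.update_of_ne hli.symm] at this
    exact this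
  · rw [if_neg hq] at hne; exact absurd rfl hne

variable {X : Subgroup (GL (Idx T m) F)} {i : Fin T} {o j : Fin m}

lemma InS_add (hoj : o ≠ j) {Θ Θ' : Matrix (Idx T m) (Idx T m) F}
    (h : InS X i o j Θ) (h' : InS X i o j Θ') : InS X i o j (Θ + Θ') := by
  refine ⟨Sh_add h.1 h'.1, ?_⟩
  obtain ⟨g, hg, hgv⟩ := h.2
  obtain ⟨g', hg', hgv'⟩ := h'.2
  refine ⟨g * g', X.mul_mem hg hg', ?_⟩
  have h0 := Sh_mul_zero hoj h.1 h'.1
  rw [Units.val_mul, hgv, hgv']
  calc (1 + Θ) * (1 + Θ') = 1 + (Θ + Θ') + Θ * Θ' := by noncomm_ring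
    _ = 1 + (Θ + Θ') := by rw [h0, add_zero]

lemma InS_neg (hoj : o ≠ j) {Θ : Matrix (Idx T m) (Idx T m) F}
    (h : InS X i o j Θ) : InS X i o j (-Θ) := by
  refine ⟨Sh_neg h.1, ?_⟩
  obtain ⟨g, hg, hgv⟩ := h.2
  refine ⟨g⁻¹, X.inv_mem hg, ?_⟩
  have h0 : Θ * Θ = 0 := Sh_mul_zero hoj h.1 h.1
  have e : (g : Matrix (Idx T m) (Idx T m) F) * (1 + -Θ) = 1 := by
    rw [hgv]
    calc (1 + Θ) * (1 + -Θ) = 1 - Θ * Θ := by noncomm_ring
      _ = 1 := by rw [h0, sub_zero]
  exact Units.inv_eq_of_mul_eq_one_right e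

lemma InS_sub (hoj : o ≠ j) {Θ Θ' : Matrix (Idx T m) (Idx T m) F}
    (h : InS X i o j Θ) (h' : InS X i o j Θ') : InS X i o j (Θ - Θ') := by
  rw [sub_eq_add_neg]; exact InS_add hoj h (InS_neg hoj h')

lemma InS_conj (hHX : Hstd T m F ≤ X) {l : Fin T} (hli : l ≠ i) {p r : Fin m} (hpr : p ≠ r)
    {Θ : Matrix (Idx T m) (Idx T m) F} (h : InS X i o j Θ) :
    InS X i o j ((1 + EU l p r) * Θ * (1 - EU l p r)) := by
  constructor
  · have e : (1 + EU l p r) * Θ * (1 - EU l p r) =
        Θ + EU l p r * Θ - Θ * EU l p r - EU l p r * Θ * EU l p r := by noncomm_ring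
    rw [e]
    exact Sh_sub (Sh_sub (Sh_add h.1 (Sh_EU_mul hli p r h.1)) (Sh_mul_EU hli p r h.1))
      (Sh_mul_EU hli p r (Sh_EU_mul hli p r h.1))
  · obtain ⟨g, hg, hgv, hgi⟩ := elem_mem_H (F := F) l p r hpr 1
    obtain ⟨u, hu, huv⟩ := h.2
    refine ⟨g * u * g⁻¹, X.mul_mem (X.mul_mem (hHX hg) hu) (X.inv_mem (hHX hg)), ?_⟩
    rw [Units.val_mul, Units.val_mul, hgv, hgi, huv, one_smul]
    have hsq : EU (F := F) l p r * EU l p r = 0 := EU_mul_EU_ne l p r p r hpr.symm
    have : (1 + EU l p r) * (1 - EU l p r) = (1 : Matrix (Idx T m) (Idx T m) F) := by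
      calc (1 + EU l p r) * (1 - EU l p r) = 1 - EU l p r * EU l p r := by noncomm_ring
        _ = (1 : Matrix (Idx T m) (Idx T m) F) := by rw [hsq, sub_zero]
    calc (1 + EU l p r) * (1 + Θ) * (1 - EU l p r)
        = (1 + EU l p r) * (1 - EU l p r) + (1 + EU l p r) * Θ * (1 - EU l p r) := by noncomm_ring
      _ = 1 + (1 + EU l p r) * Θ * (1 - EU l p r) := by rw [this]

lemma InS_Dm (hHX : Hstd T m F ≤ X) (hoj : o ≠ j) {l : Fin T} (hli : l ≠ i) {p r : Fin m} (hpr : p ≠ r)
    {Θ : Matrix (Idx T m) (Idx T m) F} (h : InS X i o j Θ) :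
    InS X i o j (Dm (EU l p r) Θ) := by
  rw [← conj_sub_eq]
  exact InS_sub hoj (InS_conj hHX hli hpr h) h

/-- select-and-swap at position `l ≠ i` -/
lemma InS_select (hm : 3 ≤ m) (hHX : Hstd T m F ≤ X) (hoj : o ≠ j) {l : Fin T} (hli : l ≠ i)
    {k i' : Fin m} (hk : k ≠ i') {Θ : Matrix (Idx T m) (Idx T m) F} (h : InS X i o j Θ) :
    InS X i o j (EU l k i' * Θ * EU l k i') := by
  obtain ⟨j', hj1, hj2⟩ := exists_avoid hm k i'
  rw [← chain3 (EU l k i') (EU l k j') (EU l j' i') Θ
    (EU_mul_EU_ne l k j' k i' hj1) (EU_mul_EU_ne l k i' k j' hk.symm)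
    (EU_mul_EU_ne l j' i' k j' hk.symm) (EU_mul_EU_ne l j' i' k i' hk.symm)
    (EU_mul_EU_ne l k i' j' i' hj2.symm) (EU_mul_EU_same l k j' i')]
  exact InS_Dm hHX hoj hli hj2 (InS_Dm hHX hoj hli hj1.symm (InS_Dm hHX hoj hli hk h))


/-! ### `(D,a,b)`-shaped matrices -/

/-- nonzero entries only at `p|D = a|D`, `q|D = b|D` -/
def Shaped (D : Finset (Fin T)) (a b : Idx T m) (Θ : Matrix (Idx T m) (Idx T m) F) : Prop :=
  ∀ p q, Θ p q ≠ 0 → ∀ l ∈ D, p l = a l ∧ q l = b l

lemma Shaped_add {D : Finset (Fin T)} {a b : Idx T m} {Θ Θ' : Matrix (Idx T m) (Idx T m) F}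
    (h : Shaped D a b Θ) (h' : Shaped D a b Θ') : Shaped D a b (Θ + Θ') := by
  intro p q hne
  by_cases h1 : Θ p q = 0
  · by_cases h2 : Θ' p q = 0
    · exfalso; apply hne; rw [Matrix.add_apply, h1, h2, add_zero]
    · exact h' p q h2
  · exact h p q h1

lemma Shaped_neg {D : Finset (Fin T)} {a b : Idx T m} {Θ : Matrix (Idx T m) (Idx T m) F}
    (h : Shaped D a b Θ) : Shaped D a b (-Θ) := by
  intro p q hne
  apply h p q
  intro h0
  apply hne
  rw [Matrix.neg_apply, h0, neg_zero]

lemma Shaped_sub {D : Finset (Fin T)} {a b : Idx T m} {Θ Θ' : Matrix (Idx T m) (Idx T m) F}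
    (h : Shaped D a b Θ) (h' : Shaped D a b Θ') : Shaped D a b (Θ - Θ') := by
  rw [sub_eq_add_neg]; exact Shaped_add h (Shaped_neg h')

lemma Shaped_EU_mul {D : Finset (Fin T)} {a b : Idx T m} {l : Fin T} (hl : l ∉ D) (x y : Fin m)
    {Θ : Matrix (Idx T m) (Idx T m) F} (h : Shaped D a b Θ) : Shaped D a b (EU l x y * Θ) := by
  intro p q hne l' hl'
  rw [EU_mul_apply] at hne
  by_cases hp : p l = x
  · rw [if_pos hp] at hne
    have := h _ _ hne l' hl'
    rw [Function.update_of_ne (fun e : l' = l => hl (by rw [← e]; exact hl'))] at this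
    exact this
  · rw [if_neg hp] at hne; exact absurd rfl hne

lemma Shaped_mul_EU {D : Finset (Fin T)} {a b : Idx T m} {l : Fin T} (hl : l ∉ D) (x y : Fin m)
    {Θ : Matrix (Idx T m) (Idx T m) F} (h : Shaped D a b Θ) : Shaped D a b (Θ * EU l x y) := by
  intro p q hne l' hl'
  rw [mul_EU_apply] at hne
  by_cases hq : q l = y
  · rw [if_pos hq] at hne
    have := h _ _ hne l' hl'
    rw [Function.update_of_ne (fun e : l' = l => hl (by rw [← e]; exact hl'))] at this
    exact this
  · rw [if_neg hq] at hne; exact absurd rfl hne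

lemma Shaped_Dm {D : Finset (Fin T)} {a b : Idx T m} {l : Fin T} (hl : l ∉ D) (x y : Fin m)
    {Θ : Matrix (Idx T m) (Idx T m) F} (h : Shaped D a b Θ) : Shaped D a b (Dm (EU l x y) Θ) := by
  unfold Dm
  exact Shaped_sub (Shaped_sub (Shaped_EU_mul hl x y h) (Shaped_mul_EU hl x y h))
    (Shaped_mul_EU hl x y (Shaped_EU_mul hl x y h))

lemma select_apply (l : Fin T) (k i' : Fin m) (Θ : Matrix (Idx T m) (Idx T m) F) (p q : Idx T m) :
    (EU l k i' * Θ * EU l k i' : Matrix (Idx T m) (Idx T m) F) p q =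
      if p l = k ∧ q l = i' then Θ (Function.update p l i') (Function.update q l k) else 0 := by
  rw [mul_EU_apply]
  by_cases hq : q l = i'
  · rw [if_pos hq, EU_mul_apply]
    by_cases hp : p l = k
    · rw [if_pos hp, if_pos ⟨hp, hq⟩]
    · rw [if_neg hp, if_neg (fun h => hp h.1)]
  · rw [if_neg hq, if_neg (fun h => hq h.2)]

/-- Case A of the step: an entry off the diagonal at a free position -/
lemma stepA (hm : 3 ≤ m) (hHX : Hstd T m F ≤ X) (hoj : o ≠ j) (D : Finset (Fin T)) (hiD : i ∈ D)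
    (a b : Idx T m) (Θ : Matrix (Idx T m) (Idx T m) F) (hS : InS X i o j Θ) (hsh : Shaped D a b Θ)
    (p q : Idx T m) (hpq : Θ p q ≠ 0) (l : Fin T) (hl : l ∉ D) (hne : p l ≠ q l) :
    ∃ (l : Fin T) (a' b' : Idx T m) (Θ' : Matrix (Idx T m) (Idx T m) F), l ∉ D ∧ a' l ≠ b' l ∧
      (∀ l' ∈ D, a' l' = a l' ∧ b' l' = b l') ∧ InS X i o j Θ' ∧ Shaped (insert l D) a' b' Θ' ∧
      Θ' ≠ 0 := by
  have hli : l ≠ i := fun e => hl (e ▸ hiD)
  refine ⟨l, Function.update a l (q l), Function.update b l (p l),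
    EU l (q l) (p l) * Θ * EU l (q l) (p l), hl, ?_, ?_, ?_, ?_, ?_⟩
  · rw [Function.update_self, Function.update_self]; exact hne.symm
  · intro l' hl'
    have : l' ≠ l := fun e => hl (e ▸ hl')
    rw [Function.update_of_ne this, Function.update_of_ne this]
    exact ⟨rfl, rfl⟩
  · exact InS_select hm hHX hoj hli hne.symm hS
  · intro p' q' hne' l' hl'
    rw [select_apply] at hne'
    by_cases hc : p' l = q l ∧ q' l = p l
    · rw [if_pos hc] at hne'
      rw [Finset.mem_insert] at hl'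
      rcases hl' with rfl | hl'
      · rw [Function.update_self, Function.update_self]; exact hc
      · have hne2 : l' ≠ l := fun e => hl (e ▸ hl')
        have := hsh _ _ hne' l' hl'
        rw [Function.update_of_ne hne2, Function.update_of_ne hne2] at this
        rw [Function.update_of_ne hne2, Function.update_of_ne hne2]
        exact this
    · rw [if_neg hc] at hne'; exact absurd rfl hne'
  · intro h0
    have e := congrFun (congrFun h0 (Function.update p l (q l))) (Function.update q l (p l))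
    rw [select_apply, if_pos ⟨Function.update_self .., Function.update_self ..⟩,
      Function.update_idem, Function.update_idem, Function.update_eq_self,
      Function.update_eq_self] at e
    exact hpq e

/-- a walk along coordinates -/
lemma hamming {α : Type*} (f : Idx T m → α) (s : Finset (Fin T)) :
    ∀ p p' : Idx T m, (∀ l, l ∉ s → p l = p' l) → f p ≠ f p' →
      ∃ (p₁ : Idx T m) (l : Fin T), l ∈ s ∧ (∀ l', l' ∉ s → p₁ l' = p l') ∧
        f p₁ ≠ f (Function.update p₁ l (p' l)) := by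
  classical
  induction s using Finset.induction_on with
  | empty =>
    intro p p' h hne
    exfalso
    apply hne
    congr 1
    funext l
    exact h l (Finset.notMem_empty l)
  | insert l₀ s hl₀ ih =>
    intro p p' h hne
    by_cases h1 : f p = f (Function.update p l₀ (p' l₀))
    · have h2 : ∀ l, l ∉ s → (Function.update p l₀ (p' l₀)) l = p' l := by
        intro l hl
        by_cases e : l = l₀
        · subst e; rw [Function.update_self]
        · rw [Function.update_of_ne e]
          exact h l (fun hmem => by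
            rw [Finset.mem_insert] at hmem
            rcases hmem with hmem | hmem
            · exact e hmem
            · exact hl hmem)
      obtain ⟨p₁, l, hls, hag, hf⟩ := ih _ p' h2 (by rw [← h1]; exact hne)
      refine ⟨p₁, l, Finset.mem_insert_of_mem hls, ?_, hf⟩
      intro l' hl'
      have hl's : l' ∉ s := fun hmem => hl' (Finset.mem_insert_of_mem hmem)
      have hne' : l' ≠ l₀ := fun e => hl' (e ▸ Finset.mem_insert_self _ _)
      rw [hag l' hl's, Function.update_of_ne hne']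
    · exact ⟨p, l₀, Finset.mem_insert_self _ _, fun _ _ => rfl, h1⟩


/-- the partner column index of a row index -/
def qof (D : Finset (Fin T)) (b p : Idx T m) : Idx T m := fun l => if l ∈ D then b l else p l

lemma NJ_apply (D : Finset (Fin T)) (a b p q : Idx T m) :
    NJ (F := F) D a b p q =
      if (∀ l ∈ D, p l = a l ∧ q l = b l) ∧ (∀ l, l ∉ D → p l = q l) then 1 else 0 := by
  rw [← nilJ_eq_NJ]
  rfl

/-- the step of the induction -/
lemma step (hm : 3 ≤ m) (hHX : Hstd T m F ≤ X) (hoj : o ≠ j) (D : Finset (Fin T)) (hiD : i ∈ D)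
    (a b : Idx T m) (Θ : Matrix (Idx T m) (Idx T m) F) (hS : InS X i o j Θ) (hsh : Shaped D a b Θ)
    (hns : ∀ c : F, Θ ≠ c • NJ D a b) :
    ∃ (l : Fin T) (a' b' : Idx T m) (Θ' : Matrix (Idx T m) (Idx T m) F), l ∉ D ∧ a' l ≠ b' l ∧
      (∀ l' ∈ D, a' l' = a l' ∧ b' l' = b l') ∧ InS X i o j Θ' ∧ Shaped (insert l D) a' b' Θ' ∧
      Θ' ≠ 0 := by
  by_cases hA : ∃ p q, Θ p q ≠ 0 ∧ ∃ l, l ∉ D ∧ p l ≠ q l
  · obtain ⟨p, q, hpq, l, hl, hne⟩ := hA
    exact stepA hm hHX hoj D hiD a b Θ hS hsh p q hpq l hl hne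
  · have hA' : ∀ p q, Θ p q ≠ 0 → ∀ l, l ∉ D → p l = q l := by
      intro p q hpq l hl
      by_contra hne
      exact hA ⟨p, q, hpq, l, hl, hne⟩
    set f : Idx T m → F := fun x => Θ x (qof D b x) with hf_def
    have hex : ∃ p : Idx T m, (∀ l ∈ D, p l = a l) ∧ f p ≠ f a := by
      by_contra hcon
      have hcon' : ∀ p : Idx T m, (∀ l ∈ D, p l = a l) → f p = f a := by
        intro p hp
        by_contra hne
        exact hcon ⟨p, hp, hne⟩
      apply hns (f a)
      ext p q
      rw [Matrix.smul_apply, NJ_apply, smul_eq_mul]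
      by_cases hc : (∀ l ∈ D, p l = a l ∧ q l = b l) ∧ (∀ l, l ∉ D → p l = q l)
      · rw [if_pos hc, mul_one]
        have hq : q = qof D b p := by
          funext l
          unfold qof
          by_cases hl : l ∈ D
          · rw [if_pos hl]; exact (hc.1 l hl).2
          · rw [if_neg hl]; exact (hc.2 l hl).symm
        rw [hq]
        exact hcon' p (fun l hl => (hc.1 l hl).1)
      · rw [if_neg hc, mul_zero]
        by_contra hne
        exact hc ⟨hsh p q hne, hA' p q hne⟩
    obtain ⟨p, hpD, hfp⟩ := hex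
    obtain ⟨p₁, l, hls, hag, hf⟩ := hamming f (Dᶜ) a p
      (fun l hl => by
        rw [Finset.mem_compl, not_not] at hl
        exact (hpD l hl).symm) (Ne.symm hfp)
    rw [Finset.mem_compl] at hls
    have hli : l ≠ i := fun e => hls (e ▸ hiD)
    have hik : p₁ l ≠ p l := by
      intro e
      apply hf
      rw [← e, Function.update_eq_self]
    have hS₁ := InS_Dm hHX hoj hli hik hS
    have hsh₁ : Shaped D a b (Dm (EU l (p₁ l) (p l)) Θ) := Shaped_Dm hls (p₁ l) (p l) hsh
    have hq1 : qof D b (Function.update p₁ l (p l)) l = p l := by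
      unfold qof
      rw [if_neg hls, Function.update_self]
    have hq2 : Function.update (qof D b (Function.update p₁ l (p l))) l (p₁ l) = qof D b p₁ := by
      funext l'
      by_cases e : l' = l
      · subst e
        rw [Function.update_self]
        unfold qof
        rw [if_neg hls]
      · rw [Function.update_of_ne e]
        unfold qof
        by_cases hl' : l' ∈ D
        · rw [if_pos hl', if_pos hl']
        · rw [if_neg hl', if_neg hl', Function.update_of_ne e]
    have hzero : Θ (Function.update p₁ l (p l)) (qof D b p₁) = 0 := by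
      by_contra hne
      have := hA' _ _ hne l hls
      rw [Function.update_self] at this
      unfold qof at this
      rw [if_neg hls] at this
      exact hik this.symm
    have hentry : Dm (EU l (p₁ l) (p l)) Θ p₁ (qof D b (Function.update p₁ l (p l))) =
        f (Function.update p₁ l (p l)) - f p₁ := by
      unfold Dm
      rw [Matrix.sub_apply, Matrix.sub_apply, select_apply, EU_mul_apply, mul_EU_apply,
        if_pos rfl, if_pos hq1, if_pos ⟨rfl, hq1⟩, hq2, hzero, sub_zero]
    have hne1 : Dm (EU l (p₁ l) (p l)) Θ p₁ (qof D b (Function.update p₁ l (p l))) ≠ 0 := by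
      rw [hentry]
      exact sub_ne_zero.2 (Ne.symm hf)
    exact stepA hm hHX hoj D hiD a b _ hS₁ hsh₁ p₁ _ hne1 l hls (by rw [hq1]; exact hik)

/-- the induction: from a nonzero shaped element of `𝒮` to an elementary one with `|J| ≥ 2` -/
theorem exists_NJ (hm : 3 ≤ m) (hHX : Hstd T m F ≤ X) (hoj : o ≠ j) :
    ∀ (n : ℕ) (D : Finset (Fin T)) (a b : Idx T m) (Θ : Matrix (Idx T m) (Idx T m) F),
      Dᶜ.card = n → i ∈ D → (∀ l ∈ D, a l ≠ b l) → InS X i o j Θ → Shaped D a b Θ → Θ ≠ 0 →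
      (D = {i} → ∀ c : F, Θ ≠ c • NJ D a b) →
      ∃ (J : Finset (Fin T)) (a' b' : Idx T m) (c : F), 2 ≤ J.card ∧ c ≠ 0 ∧
        (∀ l ∈ J, a' l ≠ b' l) ∧ InM X (1 + c • NJ J a' b') := by
  intro n
  induction n with
  | zero =>
    intro D a b Θ hc hiD hab hS hsh h0 hside
    by_cases hsc : ∃ c : F, Θ = c • NJ D a b
    · obtain ⟨c, hc'⟩ := hsc
      refine ⟨D, a, b, c, ?_, ?_, hab, ?_⟩
      · by_contra hlt
        have h1 : D.card = 1 := by
          have : 0 < D.card := Finset.card_pos.2 ⟨i, hiD⟩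
          omega
        have : D = {i} := by
          obtain ⟨x, hx⟩ := Finset.card_eq_one.1 h1
          rw [hx] at hiD ⊢
          rw [Finset.mem_singleton] at hiD
          rw [hiD]
        exact hside this c hc'
      · rintro rfl
        apply h0
        rw [hc', zero_smul]
      · rw [← hc']; exact hS.2
    · exfalso
      have hns : ∀ c : F, Θ ≠ c • NJ D a b := fun c e => hsc ⟨c, e⟩
      obtain ⟨l, _, _, _, hl, _⟩ := step hm hHX hoj D hiD a b Θ hS hsh hns
      rw [Finset.card_eq_zero, Finset.compl_eq_empty_iff] at hc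
      rw [hc] at hl
      exact hl (Finset.mem_univ l)
  | succ n ih =>
    intro D a b Θ hc hiD hab hS hsh h0 hside
    by_cases hsc : ∃ c : F, Θ = c • NJ D a b
    · obtain ⟨c, hc'⟩ := hsc
      refine ⟨D, a, b, c, ?_, ?_, hab, ?_⟩
      · by_contra hlt
        have h1 : D.card = 1 := by
          have : 0 < D.card := Finset.card_pos.2 ⟨i, hiD⟩
          omega
        have : D = {i} := by
          obtain ⟨x, hx⟩ := Finset.card_eq_one.1 h1
          rw [hx] at hiD ⊢
          rw [Finset.mem_singleton] at hiD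
          rw [hiD]
        exact hside this c hc'
      · rintro rfl
        apply h0
        rw [hc', zero_smul]
      · rw [← hc']; exact hS.2
    · have hns : ∀ c : F, Θ ≠ c • NJ D a b := fun c e => hsc ⟨c, e⟩
      obtain ⟨l, a', b', Θ', hl, hab', hag, hS', hsh', h0'⟩ := step hm hHX hoj D hiD a b Θ hS hsh hns
      apply ih (insert l D) a' b' Θ' ?_ (Finset.mem_insert_of_mem hiD) ?_ hS' hsh' h0' ?_
      · have e1 : (insert l D).card = D.card + 1 := Finset.card_insert_of_notMem hl
        have e2 := Finset.card_compl (insert l D)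
        have e3 := Finset.card_compl D
        have e4 : (insert l D).card ≤ Fintype.card (Fin T) := Finset.card_le_univ _
        omega
      · intro l' hl'
        rw [Finset.mem_insert] at hl'
        rcases hl' with rfl | hl'
        · exact hab'
        · rw [(hag l' hl').1, (hag l' hl').2]; exact hab l' hl'
      · intro e
        exfalso
        have : l ∈ ({i} : Finset (Fin T)) := by rw [← e]; exact Finset.mem_insert_self _ _
        rw [Finset.mem_singleton] at this
        exact hl (this ▸ hiD)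

end Cfsg.Agent.Lib.Helper19.TWCaseA
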