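import Mathlib
import Cfsg.Prelude.Def_GeometricClasses
import Cfsg.Agent.Lib.Helper8.TW.Defs
import Cfsg.Agent.Lib.Helper19.TWGrow
import Cfsg.Agent.Lib.Helper19.TWCaseA1

set_option autoImplicit false
set_option linter.unusedSectionVars false
set_option linter.unusedVariables false

namespace Cfsg.Agent.Lib.Helper19.TWCaseA
open Matrix Cfsg.Geo Cfsg.Agent.Lib.Helper18.AschA89 Cfsg.Agent.Lib.Helper20.AschLeaf
open Cfsg.Agent.Lib.Helper8.TW Cfsg.Agent.Lib.Helper19.TWGrow

variable {F : Type*} [Field F] {T m : ℕ} {X : Subgroup (GL (Idx T m) F)}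

lemma InM_mul' {A B : Matrix (Idx T m) (Idx T m) F} (hA : InM X A) (hB : InM X B) : InM X (A * B) := by
  obtain ⟨g, hg, rfl⟩ := hA
  obtain ⟨g', hg', rfl⟩ := hB
  exact ⟨g * g', X.mul_mem hg hg', rfl⟩

lemma InM_unip_neg {N : Matrix (Idx T m) (Idx T m) F} (hN : N * N = 0) (c : F)
    (h : InM X (1 + c • N)) : InM X (1 + (-c) • N) := by
  obtain ⟨g, hg, hgv⟩ := h
  refine ⟨g⁻¹, X.inv_mem hg, ?_⟩
  have e : (g : Matrix (Idx T m) (Idx T m) F) * (1 + (-c) • N) = 1 := by
    rw [hgv]
    calc (1 + c • N) * (1 + (-c) • N) = 1 - (c * c) • (N * N) := by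
          simp only [neg_smul, mul_add, add_mul, mul_one, one_mul, mul_neg, Matrix.smul_mul,
            Matrix.mul_smul, smul_smul]
          abel
      _ = 1 := by rw [hN, smul_zero, sub_zero]
  exact Units.inv_eq_of_mul_eq_one_right e

lemma famJ_update_left (J : Finset (Fin T)) (a b : Idx T m) (l : Fin T) (hl : l ∈ J) (x : Fin m) :
    Function.update (famJ (F := F) J a b) l (Matrix.single x (b l) 1) =
      famJ J (Function.update a l x) b := by
  funext l'
  by_cases e : l' = l
  · subst e
    rw [Function.update_self, famJ_mem _ _ hl, Function.update_self]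
  · rw [Function.update_of_ne e]
    unfold famJ
    rw [Function.update_of_ne e]

lemma famJ_update_right (J : Finset (Fin T)) (a b : Idx T m) (l : Fin T) (hl : l ∈ J) (y : Fin m) :
    Function.update (famJ (F := F) J a b) l (Matrix.single (a l) y 1) =
      famJ J a (Function.update b l y) := by
  funext l'
  by_cases e : l' = l
  · subst e
    rw [Function.update_self, famJ_mem _ _ hl, Function.update_self]
  · rw [Function.update_of_ne e]
    unfold famJ
    rw [Function.update_of_ne e]

lemma EU_mul_NJ (J : Finset (Fin T)) (a b : Idx T m) (l : Fin T) (hl : l ∈ J) (x : Fin m) :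
    EU l x (a l) * NJ (F := F) J a b = NJ J (Function.update a l x) b := by
  unfold EU NJ
  rw [Cfsg.Agent.Lib.Helper12.TWLeaf.slot_mul_ptens, famJ_mem a b hl,
    Matrix.single_mul_single_same, mul_one, famJ_update_left J a b l hl]

lemma EU_mul_NJ_zero (J : Finset (Fin T)) (a b : Idx T m) (l : Fin T) (hl : l ∈ J) (x y : Fin m)
    (hy : y ≠ a l) : EU l x y * NJ (F := F) J a b = 0 := by
  unfold EU NJ
  rw [Cfsg.Agent.Lib.Helper12.TWLeaf.slot_mul_ptens, famJ_mem a b hl,
    Matrix.single_mul_single_of_ne _ _ _ _ hy]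
  exact ptens_eq_zero_of_factor _ l (Function.update_self ..)

lemma NJ_mul_EU (J : Finset (Fin T)) (a b : Idx T m) (l : Fin T) (hl : l ∈ J) (y : Fin m) :
    NJ (F := F) J a b * EU l (b l) y = NJ J a (Function.update b l y) := by
  unfold EU NJ
  rw [Cfsg.Agent.Lib.Helper12.TWLeaf.ptens_mul_slot, famJ_mem a b hl,
    Matrix.single_mul_single_same, mul_one, famJ_update_right J a b l hl]

lemma NJ_mul_EU_zero (J : Finset (Fin T)) (a b : Idx T m) (l : Fin T) (hl : l ∈ J) (x y : Fin m)
    (hx : b l ≠ x) : NJ (F := F) J a b * EU l x y = 0 := by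
  unfold EU NJ
  rw [Cfsg.Agent.Lib.Helper12.TWLeaf.ptens_mul_slot, famJ_mem a b hl,
    Matrix.single_mul_single_of_ne _ _ _ _ hx]
  exact ptens_eq_zero_of_factor _ l (Function.update_self ..)

lemma NJ_sq (J : Finset (Fin T)) (a b : Idx T m) (l : Fin T) (hl : l ∈ J) (hab : a l ≠ b l) :
    NJ (F := F) J a b * NJ J a b = 0 := by
  unfold NJ
  rw [ptens_mul]
  apply ptens_eq_zero_of_factor _ l
  show famJ J a b l * famJ J a b l = 0
  rw [famJ_mem a b hl]
  exact Matrix.single_mul_single_of_ne _ _ _ _ hab.symm _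

lemma NJ_congr (J : Finset (Fin T)) (a a' b b' : Idx T m) (ha : ∀ l ∈ J, a l = a' l)
    (hb : ∀ l ∈ J, b l = b' l) : NJ (F := F) J a b = NJ J a' b' := by
  unfold NJ
  congr 1
  funext l
  unfold famJ
  by_cases hl : l ∈ J
  · rw [if_pos hl, if_pos hl, ha l hl, hb l hl]
  · rw [if_neg hl, if_neg hl]

lemma InM_elem (hHX : Hstd T m F ≤ X) (l : Fin T) (p r : Fin m) (hpr : p ≠ r) (c : F) :
    InM X (1 + c • EU l p r) := by
  obtain ⟨g, hg, hgv, _⟩ := elem_mem_H (F := F) l p r hpr c
  exact ⟨g, hHX hg, hgv⟩

/-- Steinberg move on the left index -/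
lemma move_left (hHX : Hstd T m F ≤ X) (J : Finset (Fin T)) (a b : Idx T m) (l : Fin T) (hl : l ∈ J)
    (hab : a l ≠ b l) (x : Fin m) (hxa : x ≠ a l) (hxb : x ≠ b l) (c₀ : F)
    (h : InM X (1 + c₀ • NJ J a b)) (c' : F) :
    InM X (1 + (c' * c₀) • NJ J (Function.update a l x) b) := by
  have hsq := NJ_sq (F := F) J a b l hl hab
  have hA : (c' • EU (F := F) l x (a l)) * (c' • EU l x (a l)) = 0 := by
    rw [Matrix.smul_mul, Matrix.mul_smul, EU_mul_EU_ne l x (a l) x (a l) hxa.symm, smul_zero, smul_zero]
  have hB : (c₀ • NJ (F := F) J a b) * (c₀ • NJ J a b) = 0 := by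
    rw [Matrix.smul_mul, Matrix.mul_smul, hsq, smul_zero, smul_zero]
  have hBA : (c₀ • NJ (F := F) J a b) * (c' • EU l x (a l)) = 0 := by
    rw [Matrix.smul_mul, Matrix.mul_smul, NJ_mul_EU_zero J a b l hl x (a l) hxb.symm, smul_zero,
      smul_zero]
  have hAB : (c' • EU (F := F) l x (a l)) * (c₀ • NJ J a b) =
      (c' * c₀) • NJ J (Function.update a l x) b := by
    rw [Matrix.smul_mul, Matrix.mul_smul, EU_mul_NJ J a b l hl, smul_smul]
  have key : (1 + c' • EU (F := F) l x (a l)) * (1 + c₀ • NJ J a b) * (1 + (-c') • EU l x (a l)) *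
      (1 + (-c₀) • NJ J a b) = 1 + (c' * c₀) • NJ J (Function.update a l x) b := by
    have := comm_identity (c' • EU (F := F) l x (a l)) (c₀ • NJ J a b) hA hB hBA 1
    rw [hAB] at this
    simpa [smul_smul] using this
  rw [← key]
  exact InM_mul' (InM_mul' (InM_mul' (InM_elem hHX l x (a l) hxa c') h)
    (InM_elem hHX l x (a l) hxa (-c'))) (InM_unip_neg hsq c₀ h)

/-- Steinberg move on the right index -/
lemma move_right (hHX : Hstd T m F ≤ X) (J : Finset (Fin T)) (a b : Idx T m) (l : Fin T) (hl : l ∈ J)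
    (hab : a l ≠ b l) (y : Fin m) (hya : y ≠ a l) (hyb : y ≠ b l) (c₀ : F)
    (h : InM X (1 + c₀ • NJ J a b)) (c' : F) :
    InM X (1 + (c₀ * c') • NJ J a (Function.update b l y)) := by
  have hsq := NJ_sq (F := F) J a b l hl hab
  have hB : (c' • EU (F := F) l (b l) y) * (c' • EU l (b l) y) = 0 := by
    rw [Matrix.smul_mul, Matrix.mul_smul, EU_mul_EU_ne l (b l) y (b l) y hyb, smul_zero, smul_zero]
  have hA : (c₀ • NJ (F := F) J a b) * (c₀ • NJ J a b) = 0 := by
    rw [Matrix.smul_mul, Matrix.mul_smul, hsq, smul_zero, smul_zero]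
  have hBA : (c' • EU (F := F) l (b l) y) * (c₀ • NJ J a b) = 0 := by
    rw [Matrix.smul_mul, Matrix.mul_smul, EU_mul_NJ_zero J a b l hl (b l) y hya, smul_zero,
      smul_zero]
  have hAB : (c₀ • NJ (F := F) J a b) * (c' • EU l (b l) y) =
      (c₀ * c') • NJ J a (Function.update b l y) := by
    rw [Matrix.smul_mul, Matrix.mul_smul, NJ_mul_EU J a b l hl, smul_smul, mul_comm]
  have key : (1 + c₀ • NJ (F := F) J a b) * (1 + c' • EU l (b l) y) * (1 + (-c₀) • NJ J a b) *
      (1 + (-c') • EU l (b l) y) = 1 + (c₀ * c') • NJ J a (Function.update b l y) := by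
    have := comm_identity (c₀ • NJ (F := F) J a b) (c' • EU l (b l) y) hA hB hBA 1
    rw [hAB] at this
    simpa [smul_smul] using this
  rw [← key]
  exact InM_mul' (InM_mul' (InM_mul' h (InM_elem hHX l (b l) y hyb.symm c'))
    (InM_unip_neg hsq c₀ h)) (InM_elem hHX l (b l) y hyb.symm (-c'))


/-- the move graph on ordered pairs of distinct indices is connected (`m ≥ 3`) -/
lemma pair_connect (hm : 3 ≤ m) (Q : Fin m → Fin m → Prop)
    (hL : ∀ x y z, Q x y → x ≠ y → z ≠ x → z ≠ y → Q z y)
    (hR : ∀ x y z, Q x y → x ≠ y → z ≠ x → z ≠ y → Q x z)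
    (x y x'' y'' : Fin m) (hxy : x ≠ y) (hxy'' : x'' ≠ y'') (h : Q x y) : Q x'' y'' := by
  by_cases h1 : x'' = x
  · subst h1
    by_cases h2 : y'' = y
    · subst h2; exact h
    · exact hR _ _ _ h hxy hxy''.symm h2
  · by_cases h3 : x'' = y
    · subst h3
      by_cases h4 : y'' = x
      · subst h4
        obtain ⟨c, hc1, hc2⟩ := exists_avoid hm y'' x''
        have q1 : Q y'' c := hR _ _ _ h hxy hc1 hc2
        have q2 : Q x'' c := hL _ _ _ q1 hc1.symm hxy.symm hc2.symm
        exact hR _ _ _ q2 hc2.symm hxy hc1.symm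
      · have q1 : Q x y'' := hR _ _ _ h hxy h4 hxy''.symm
        exact hL _ _ _ q1 (Ne.symm h4) hxy.symm hxy''
    · have q1 : Q x'' y := hL _ _ _ h hxy h1 h3
      by_cases h5 : y'' = y
      · subst h5; exact q1
      · exact hR _ _ _ q1 h3 hxy''.symm h5

/-- all scalar multiples for the pattern `(a,b)` -/
def Full (X : Subgroup (GL (Idx T m) F)) (J : Finset (Fin T)) (a b : Idx T m) : Prop :=
  ∀ c : F, InM X (1 + c • NJ J a b)

lemma full_left (hHX : Hstd T m F ≤ X) (J : Finset (Fin T)) (a b : Idx T m) (l : Fin T) (hl : l ∈ J)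
    (hab : a l ≠ b l) (x : Fin m) (hxa : x ≠ a l) (hxb : x ≠ b l) (h : Full X J a b) :
    Full X J (Function.update a l x) b := by
  intro c
  have := move_left hHX J a b l hl hab x hxa hxb 1 (h 1) c
  rwa [mul_one] at this

lemma full_right (hHX : Hstd T m F ≤ X) (J : Finset (Fin T)) (a b : Idx T m) (l : Fin T) (hl : l ∈ J)
    (hab : a l ≠ b l) (y : Fin m) (hya : y ≠ a l) (hyb : y ≠ b l) (h : Full X J a b) :
    Full X J a (Function.update b l y) := by
  intro c
  have := move_right hHX J a b l hl hab y hya hyb 1 (h 1) c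
  rwa [one_mul] at this

/-- change the pattern at one position -/
lemma full_pos (hm : 3 ≤ m) (hHX : Hstd T m F ≤ X) (J : Finset (Fin T)) (a b : Idx T m) (l : Fin T)
    (hl : l ∈ J) (hab : a l ≠ b l) (x'' y'' : Fin m) (hxy'' : x'' ≠ y'') (h : Full X J a b) :
    Full X J (Function.update a l x'') (Function.update b l y'') := by
  have key := pair_connect hm
    (fun x y => Full X J (Function.update a l x) (Function.update b l y)) ?_ ?_
    (a l) (b l) x'' y'' hab hxy'' (by
      show Full X J (Function.update a l (a l)) (Function.update b l (b l))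
      rw [Function.update_eq_self, Function.update_eq_self]; exact h)
  · exact key
  · intro x y z hQ hxy hzx hzy
    have := full_left hHX J (Function.update a l x) (Function.update b l y) l hl
      (by rw [Function.update_self, Function.update_self]; exact hxy) z
      (by rw [Function.update_self]; exact hzx) (by rw [Function.update_self]; exact hzy) hQ
    rwa [Function.update_idem] at this
  · intro x y z hQ hxy hzx hzy
    have := full_right hHX J (Function.update a l x) (Function.update b l y) l hl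
      (by rw [Function.update_self, Function.update_self]; exact hxy) z
      (by rw [Function.update_self]; exact hzx) (by rw [Function.update_self]; exact hzy) hQ
    rwa [Function.update_idem] at this

/-- all patterns -/
lemma full_all (hm : 3 ≤ m) (hHX : Hstd T m F ≤ X) (J : Finset (Fin T)) (a b : Idx T m)
    (hab : ∀ l ∈ J, a l ≠ b l) (h : Full X J a b) (a'' b'' : Idx T m)
    (hab'' : ∀ l ∈ J, a'' l ≠ b'' l) : Full X J a'' b'' := by
  classical
  have key : ∀ K : Finset (Fin T), K ⊆ J →
      Full X J (fun l => if l ∈ K then a'' l else a l) (fun l => if l ∈ K then b'' l else b l) := by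
    intro K
    induction K using Finset.induction_on with
    | empty =>
      intro _
      simpa using h
    | insert l K hlK ih =>
      intro hsub
      have hKJ : K ⊆ J := fun x hx => hsub (Finset.mem_insert_of_mem hx)
      have hlJ : l ∈ J := hsub (Finset.mem_insert_self _ _)
      have h1 := ih hKJ
      have h2 := full_pos hm hHX J _ _ l hlJ (by
        show (if l ∈ K then a'' l else a l) ≠ (if l ∈ K then b'' l else b l)
        rw [if_neg hlK, if_neg hlK]; exact hab l hlJ) (a'' l) (b'' l) (hab'' l hlJ) h1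
      have ea : Function.update (fun l => if l ∈ K then a'' l else a l) l (a'' l) =
          (fun l' => if l' ∈ insert l K then a'' l' else a l') := by
        funext l'
        by_cases e : l' = l
        · subst e; rw [Function.update_self, if_pos (Finset.mem_insert_self _ _)]
        · rw [Function.update_of_ne e]
          by_cases hk : l' ∈ K
          · rw [if_pos hk, if_pos (Finset.mem_insert_of_mem hk)]
          · rw [if_neg hk, if_neg (fun hh => by
              rw [Finset.mem_insert] at hh
              rcases hh with hh | hh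
              · exact e hh
              · exact hk hh)]
      have eb : Function.update (fun l => if l ∈ K then b'' l else b l) l (b'' l) =
          (fun l' => if l' ∈ insert l K then b'' l' else b l') := by
        funext l'
        by_cases e : l' = l
        · subst e; rw [Function.update_self, if_pos (Finset.mem_insert_self _ _)]
        · rw [Function.update_of_ne e]
          by_cases hk : l' ∈ K
          · rw [if_pos hk, if_pos (Finset.mem_insert_of_mem hk)]
          · rw [if_neg hk, if_neg (fun hh => by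
              rw [Finset.mem_insert] at hh
              rcases hh with hh | hh
              · exact e hh
              · exact hk hh)]
      rw [ea, eb] at h2
      exact h2
  intro c
  have := key J (Finset.Subset.refl J) c
  rw [NJ_congr J _ a'' _ b'' (fun l hl => if_pos hl) (fun l hl => if_pos hl)] at this
  exact this

/-- **(A5)**: one elementary element with nonzero scalar gives `XT X J` -/
theorem XT_of_one (hm : 3 ≤ m) (hHX : Hstd T m F ≤ X) (J : Finset (Fin T)) (hJ : J.Nonempty)
    (a b : Idx T m) (hab : ∀ l ∈ J, a l ≠ b l) (c₀ : F) (hc₀ : c₀ ≠ 0)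
    (h : InM X (1 + c₀ • NJ J a b)) : XT X J := by
  obtain ⟨l₀, hl₀⟩ := hJ
  obtain ⟨x, hx1, hx2⟩ := exists_avoid hm (a l₀) (b l₀)
  have hfull : Full X J (Function.update a l₀ x) b := by
    intro c
    have := move_left hHX J a b l₀ hl₀ (hab l₀ hl₀) x hx1 hx2 c₀ h (c / c₀)
    rwa [div_mul_cancel₀ c hc₀] at this
  have hab' : ∀ l ∈ J, (Function.update a l₀ x) l ≠ b l := by
    intro l hl
    by_cases e : l = l₀
    · subst e; rw [Function.update_self]; exact hx2
    · rw [Function.update_of_ne e]; exact hab l hl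
  rw [XT_iff_XTJ]
  intro a'' b'' hab'' c
  exact full_all hm hHX J _ b hab' hfull a'' b'' hab'' c

end Cfsg.Agent.Lib.Helper19.TWCaseA
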