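import Mathlib
import Cfsg.Prelude.Def_GeometricClasses
import Cfsg.Agent.Lib.Helper8.TW.Defs
import Cfsg.Agent.Lib.Helper19.TWGrow
import Cfsg.Agent.Lib.Helper19.TWCaseA1
import Cfsg.Agent.Lib.Helper19.TWCaseA2
import Cfsg.Agent.Lib.Helper26.TWFibA
import Cfsg.Agent.Lib.Helper1.SLMTools

set_option autoImplicit false
set_option linter.unusedSectionVars false
set_option linter.unusedVariables false

namespace Cfsg.Agent.Lib.Helper19.TWCaseA
open Matrix Cfsg.Geo Cfsg.Agent.Lib.Helper18.AschA89 Cfsg.Agent.Lib.Helper20.AschLeaf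
open Cfsg.Agent.Lib.Helper8.TW Cfsg.Agent.Lib.Helper19.TWGrow

variable {F : Type*} [Field F] {T m : ℕ} {X : Subgroup (GL (Idx T m) F)}

/-- membership in the standard fibre `W(i, e_o)` -/
lemma mem_Wf_single (i : Fin T) (o : Fin m) (w : Idx T m → F) :
    w ∈ Wf i (Pi.single o (1 : F)) ↔ ∀ p, p i ≠ o → w p = 0 := by
  unfold Wf
  rw [mem_fib]
  constructor
  · intro h p hp
    have := h p
    rw [Submodule.mem_span_singleton] at this
    obtain ⟨c, hc⟩ := this
    have e := congrFun hc (p i)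
    unfold slice at e
    rw [Function.update_eq_self, Pi.smul_apply, Pi.single_apply, if_neg hp, smul_zero] at e
    exact e.symm
  · intro h x
    rw [Submodule.mem_span_singleton]
    refine ⟨w (Function.update x i o), ?_⟩
    funext a
    unfold slice
    rw [Pi.smul_apply, Pi.single_apply, smul_eq_mul]
    by_cases ha : a = o
    · subst ha; rw [if_pos rfl, mul_one]
    · rw [if_neg ha, mul_zero]
      exact (h _ (by rw [Function.update_self]; exact ha)).symm

section std
variable {i : Fin T} {o : Fin m} {u : GL (Idx T m) F}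
  (hu1 : ∀ v, mv u v - v ∈ Wf i (Pi.single o (1 : F)))
  (hu2 : ∀ v ∈ Wf i (Pi.single o (1 : F)), mv u v = v)

include hu1 in
lemma N_row (p q : Idx T m) (hp : p i ≠ o) :
    ((u : Matrix (Idx T m) (Idx T m) F) - 1) p q = 0 := by
  have h := (mem_Wf_single i o _).1 (hu1 (Pi.single q 1)) p hp
  unfold mv at h
  rw [Pi.sub_apply, Matrix.mulVec_single_one] at h
  rw [Matrix.sub_apply, Matrix.one_apply]
  simpa [Pi.single_apply, eq_comm] using h

include hu2 in
lemma N_col (p q : Idx T m) (hq : q i = o) :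
    ((u : Matrix (Idx T m) (Idx T m) F) - 1) p q = 0 := by
  have hmem : (Pi.single q (1 : F) : Idx T m → F) ∈ Wf i (Pi.single o (1 : F)) := by
    rw [mem_Wf_single]
    intro p' hp'
    rw [Pi.single_apply, if_neg]
    rintro rfl
    exact hp' hq
  have h := congrFun (hu2 _ hmem) p
  unfold mv at h
  rw [Matrix.mulVec_single_one] at h
  rw [Matrix.sub_apply, Matrix.one_apply]
  simp only [Matrix.col_apply] at h
  rw [h, Pi.single_apply]
  simp [eq_comm]


include hu1 hu2 in
lemma N_sq : ((u : Matrix (Idx T m) (Idx T m) F) - 1) * ((u : Matrix (Idx T m) (Idx T m) F) - 1) = 0 := by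
  ext p q
  rw [Matrix.mul_apply, Matrix.zero_apply]
  apply Finset.sum_eq_zero
  intro r _
  by_cases hr : r i = o
  · rw [N_col hu2 p r hr, zero_mul]
  · rw [N_row hu1 r q hr, mul_zero]

include hu1 hu2 in
lemma u_inv_val : ((u⁻¹ : GL (Idx T m) F) : Matrix (Idx T m) (Idx T m) F) =
    1 - ((u : Matrix (Idx T m) (Idx T m) F) - 1) := by
  have e : (u : Matrix (Idx T m) (Idx T m) F) * (1 - ((u : Matrix (Idx T m) (Idx T m) F) - 1)) = 1 := by
    have h := N_sq hu1 hu2
    set N := (u : Matrix (Idx T m) (Idx T m) F) - 1 with hN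
    have hu : (u : Matrix (Idx T m) (Idx T m) F) = 1 + N := by rw [hN]; abel
    rw [hu]
    calc (1 + N) * (1 - N) = 1 - N * N := by noncomm_ring
      _ = 1 := by rw [h, sub_zero]
  exact Units.inv_eq_of_mul_eq_one_right e

include hu1 in
lemma EU_mul_N (q0 j : Fin m) (hj : j ≠ o) :
    EU i q0 j * ((u : Matrix (Idx T m) (Idx T m) F) - 1) = 0 := by
  ext p q
  rw [EU_mul_apply, Matrix.zero_apply]
  by_cases hp : p i = q0
  · rw [if_pos hp]
    exact N_row hu1 _ q (by rw [Function.update_self]; exact hj)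
  · rw [if_neg hp]

/-- the block at `q0` is the scalar `c` -/
def BlkScal (i : Fin T) (o : Fin m) (N : Matrix (Idx T m) (Idx T m) F) (q0 : Fin m) (c : F) : Prop :=
  ∀ p q, q i = q0 → N p q = if p i = o ∧ ∀ l, l ≠ i → p l = q l then c else 0

include hu1 hu2 in
/-- if all blocks are scalar then `u ∈ G` -/
lemma mem_G_of_blkScal
    (hall : ∀ q0 : Fin m, q0 ≠ o → ∃ c : F, BlkScal i o ((u : Matrix (Idx T m) (Idx T m) F) - 1) q0 c) :
    u ∈ Gstd T m F := by
  classical
  choose c hc using hall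
  set A₀ : Matrix (Fin m) (Fin m) F :=
    Matrix.of fun a b => if h : a = o ∧ b ≠ o then c b h.2 else 0 with hA₀
  have hA0sq : A₀ * A₀ = 0 := by
    ext a b
    rw [Matrix.mul_apply, Matrix.zero_apply]
    apply Finset.sum_eq_zero
    intro r _
    by_cases hr : r = o
    · have : A₀ a r = 0 := by
        rw [hA₀, Matrix.of_apply, dif_neg]
        rintro ⟨_, h2⟩; exact h2 hr
      rw [this, zero_mul]
    · have : A₀ r b = 0 := by
        rw [hA₀, Matrix.of_apply, dif_neg]
        rintro ⟨h1, _⟩; exact hr h1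
      rw [this, mul_zero]
  have hN : (u : Matrix (Idx T m) (Idx T m) F) - 1 = slot m T i A₀ := by
    ext p q
    rw [slot_apply]
    by_cases hq : q i = o
    · rw [N_col hu2 p q hq]
      have : A₀ (p i) (q i) = 0 := by
        rw [hA₀, Matrix.of_apply, dif_neg]
        rintro ⟨_, h2⟩; exact h2 hq
      rw [this]; simp
    · rw [hc (q i) hq p q rfl]
      by_cases hag : ∀ l, l ≠ i → p l = q l
      · rw [if_pos hag]
        by_cases hp : p i = o
        · rw [if_pos ⟨hp, hag⟩, hA₀, Matrix.of_apply, dif_pos ⟨hp, hq⟩]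
        · rw [if_neg (fun h => hp h.1), hA₀, Matrix.of_apply, dif_neg (fun h => hp h.1)]
      · rw [if_neg hag, if_neg (fun h => hag h.2)]
  let α : GL (Fin m) F := ⟨1 + A₀, 1 - A₀, by
      calc (1 + A₀) * (1 - A₀) = 1 - A₀ * A₀ := by noncomm_ring
        _ = 1 := by rw [hA0sq, sub_zero], by
      calc (1 - A₀) * (1 + A₀) = 1 - A₀ * A₀ := by noncomm_ring
        _ = 1 := by rw [hA0sq, sub_zero]⟩
  have hu : u = slotGL i α := by
    apply Units.ext
    show (u : Matrix (Idx T m) (Idx T m) F) = slot m T i (1 + A₀)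
    rw [slot_add, slot_one, ← hN]; abel
  rw [hu]
  exact Cfsg.Agent.Lib.Helper23.TWLeaf.slotGL_mem_G i α

include hu1 hu2 in
/-- **Case A** for the standard fibre `W(i, e_o)` -/
theorem caseA_std (hm : 3 ≤ m) (hHX : Hstd T m F ≤ X) (huX : u ∈ X) (huG : u ∉ Gstd T m F) :
    ∃ J : Finset (Fin T), 2 ≤ J.card ∧ XT X J := by
  classical
  set N := (u : Matrix (Idx T m) (Idx T m) F) - 1 with hNdef
  -- a non-scalar block
  obtain ⟨q0, hq0, hns⟩ : ∃ q0 : Fin m, q0 ≠ o ∧ ∀ c : F, ¬ BlkScal i o N q0 c := by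
    by_contra hcon
    apply huG
    apply mem_G_of_blkScal hu1 hu2
    intro q0 hq0
    by_contra hne
    exact hcon ⟨q0, hq0, fun c hc => hne ⟨c, hc⟩⟩
  obtain ⟨j, hjo, hjq⟩ := exists_avoid hm o q0
  have hoj : o ≠ j := hjo.symm
  set Θ₀ := N * EU i q0 j with hΘ₀
  have hΘapp : ∀ p q, Θ₀ p q = if q i = j then N p (Function.update q i q0) else 0 := by
    intro p q; rw [hΘ₀, mul_EU_apply]
  -- shape
  have hSh : Sh i o j Θ₀ := by
    intro p q hne
    rw [hΘapp] at hne
    by_cases hq : q i = j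
    · rw [if_pos hq] at hne
      refine ⟨?_, hq⟩
      by_contra hp
      exact hne (N_row hu1 p _ hp)
    · rw [if_neg hq] at hne; exact absurd rfl hne
  -- membership
  have hIn : InM X (1 + Θ₀) := by
    obtain ⟨g, hg, hgv, hgi⟩ := elem_mem_H (F := F) i q0 j hjq.symm (-1)
    refine ⟨g * u * g⁻¹ * u⁻¹, X.mul_mem (X.mul_mem (X.mul_mem (hHX hg) huX) (X.inv_mem (hHX hg)))
      (X.inv_mem huX), ?_⟩
    rw [Units.val_mul, Units.val_mul, Units.val_mul, hgv, hgi, u_inv_val hu1 hu2]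
    have hEN : EU i q0 j * N = 0 := EU_mul_N hu1 q0 j hjo
    have hNN : N * N = 0 := N_sq hu1 hu2
    have hEE : EU (F := F) i q0 j * EU i q0 j = 0 := EU_mul_EU_ne i q0 j q0 j hjq
    have hu : (u : Matrix (Idx T m) (Idx T m) F) = 1 + N := by rw [hNdef]; abel
    rw [hu]
    have hNEN : N * EU i q0 j * N = 0 := by rw [mul_assoc, hEN, mul_zero]
    calc (1 + (-1 : F) • EU i q0 j) * (1 + N) * (1 - (-1 : F) • EU i q0 j) * (1 - (1 + N - 1))
        = 1 + N * EU i q0 j - EU i q0 j * N - EU i q0 j * EU i q0 j - N * N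
            + EU i q0 j * N * N + EU i q0 j * EU i q0 j * N - N * EU i q0 j * N
            - EU i q0 j * N * EU i q0 j + EU i q0 j * N * EU i q0 j * N := by
          simp only [neg_smul, one_smul]
          noncomm_ring
      _ = 1 + Θ₀ := by
          rw [hEN, hEE, hNN, hNEN]
          simp [hΘ₀]
  have hS : InS X i o j Θ₀ := ⟨hSh, hIn⟩
  -- (D,a,b) = ({i}, o, j)
  have hshaped : Shaped {i} (fun _ => o) (fun _ => j) Θ₀ := by
    intro p q hne l hl
    rw [Finset.mem_singleton] at hl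
    subst hl
    exact hSh p q hne
  have hnotsc : ∀ c : F, Θ₀ ≠ c • NJ {i} (fun _ => o) (fun _ => j) := by
    intro c hc
    apply hns c
    intro p q hq
    have e := congrFun (congrFun hc p) (Function.update q i j)
    rw [hΘapp, Function.update_self, if_pos rfl, Function.update_idem, ← hq,
      Function.update_eq_self, Matrix.smul_apply, NJ_apply, smul_eq_mul] at e
    rw [e]
    by_cases hcond : p i = o ∧ ∀ l, l ≠ i → p l = q l
    · rw [if_pos hcond, if_pos, mul_one]
      refine ⟨?_, ?_⟩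
      · intro l hl
        rw [Finset.mem_singleton] at hl
        subst hl
        exact ⟨hcond.1, Function.update_self ..⟩
      · intro l hl
        rw [Finset.mem_singleton] at hl
        rw [Function.update_of_ne hl]
        exact hcond.2 l hl
    · rw [if_neg hcond, if_neg, mul_zero]
      rintro ⟨h1, h2⟩
      apply hcond
      refine ⟨(h1 i (Finset.mem_singleton_self i)).1, ?_⟩
      intro l hl
      have := h2 l (by rw [Finset.mem_singleton]; exact hl)
      rwa [Function.update_of_ne hl] at this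
  have h0 : Θ₀ ≠ 0 := by
    intro h
    apply hnotsc 0
    rw [h, zero_smul]
  obtain ⟨J, a', b', c, hJ, hc, hab, hin⟩ :=
    exists_NJ hm hHX hoj _ {i} (fun _ => o) (fun _ => j) Θ₀ rfl (Finset.mem_singleton_self i)
      (fun _ _ => hoj) hS hshaped h0 (fun _ => hnotsc)
  refine ⟨J, hJ, XT_of_one hm hHX J ?_ a' b' hab c hc hin⟩
  rw [← Finset.card_pos]; omega

end std


/-- **Case A**, general fibre `W(i,y)` -/
theorem caseA_gen (hm : 3 ≤ m) (hHX : Hstd T m F ≤ X) (i : Fin T) (y : Fin m → F) (hy : y ≠ 0)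
    (u : GL (Idx T m) F) (huX : u ∈ X) (huG : u ∉ Gstd T m F)
    (hu1 : ∀ v, mv u v - v ∈ Wf i y) (hu2 : ∀ v ∈ Wf i y, mv u v = v) :
    ∃ J : Finset (Fin T), 2 ≤ J.card ∧ XT X J := by
  classical
  have hm0 : 0 < m := by omega
  set o : Fin m := ⟨0, hm0⟩ with ho
  have heo : (Pi.single o (1 : F) : Fin m → F) ≠ 0 := by
    intro h
    have := congrFun h o
    rw [Pi.single_eq_same, Pi.zero_apply] at this
    exact one_ne_zero this
  obtain ⟨α, hαS, hαy⟩ := Cfsg.Agent.Lib.Helper1.SLMLeaf.exists_sl_map_vec' (K := F) (n := m)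
    (by omega) hy heo
  have hαdet : (α : Matrix (Fin m) (Fin m) F).det = 1 :=
    (Cfsg.Agent.Lib.Helper1.SLMLeaf.mem_specialLinear_iff α).1 hαS
  set g : GL (Idx T m) F := slotGL i α with hg
  have hgG : g ∈ Gstd T m F := Cfsg.Agent.Lib.Helper23.TWLeaf.slotGL_mem_G i α
  have hgH : g ∈ Hstd T m F := by
    refine ⟨hgG, ?_⟩
    show g ∈ (Matrix.GeneralLinearGroup.det : GL (Idx T m) F →* Fˣ).ker
    rw [MonoidHom.mem_ker]
    apply Units.ext
    show (slot m T i (α : Matrix (Fin m) (Fin m) F)).det = 1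
    rw [Cfsg.Agent.Lib.Helper12.TWLeaf.det_slot, hαdet, one_pow]
  have himg : img g (Wf i y) = Wf i (Pi.single o (1 : F)) := by
    unfold Wf
    rw [hg, Cfsg.Agent.Lib.Helper26.TWLeaf.img_slot_fib, Submodule.map_span, Set.image_singleton,
      Matrix.toLin'_apply, hαy]
  have hmv_mul : ∀ (a b : GL (Idx T m) F) (v : Idx T m → F), mv (a * b) v = mv a (mv b v) := by
    intro a b v
    unfold mv
    rw [Units.val_mul, Matrix.mulVec_mulVec]
  have hmv_inv : ∀ (a : GL (Idx T m) F) (v : Idx T m → F), mv a (mv a⁻¹ v) = v := by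
    intro a v
    rw [← hmv_mul, mul_inv_cancel]
    unfold mv
    rw [Units.val_one, Matrix.one_mulVec]
  have hmv_inv' : ∀ (a : GL (Idx T m) F) (v : Idx T m → F), mv a⁻¹ (mv a v) = v := by
    intro a v
    rw [← hmv_mul, inv_mul_cancel]
    unfold mv
    rw [Units.val_one, Matrix.one_mulVec]
  have hmv_sub : ∀ (a : GL (Idx T m) F) (v w : Idx T m → F), mv a (v - w) = mv a v - mv a w := by
    intro a v w
    unfold mv
    rw [Matrix.mulVec_sub]
  have hmem_img : ∀ w ∈ Wf i y, mv g w ∈ Wf i (Pi.single o (1 : F)) := by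
    intro w hw
    rw [← himg]
    unfold img
    exact Submodule.mem_map_of_mem (f := Matrix.toLin' (g : Matrix (Idx T m) (Idx T m) F)) hw
  have hmem_img' : ∀ v ∈ Wf i (Pi.single o (1 : F)), ∃ w ∈ Wf i y, mv g w = v := by
    intro v hv
    rw [← himg] at hv
    unfold img at hv
    obtain ⟨w, hw, hwv⟩ := Submodule.mem_map.1 hv
    exact ⟨w, hw, hwv⟩
  set u' : GL (Idx T m) F := g * u * g⁻¹ with hu'
  have hu'X : u' ∈ X := X.mul_mem (X.mul_mem (hHX hgH) huX) (X.inv_mem (hHX hgH))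
  have hu'G : u' ∉ Gstd T m F := by
    intro h
    apply huG
    have : u = g⁻¹ * u' * g := by rw [hu']; group
    rw [this]
    exact (Gstd T m F).mul_mem ((Gstd T m F).mul_mem ((Gstd T m F).inv_mem hgG) h) hgG
  have h1' : ∀ v, mv u' v - v ∈ Wf i (Pi.single o (1 : F)) := by
    intro v
    have e : mv u' v - v = mv g (mv u (mv g⁻¹ v) - mv g⁻¹ v) := by
      rw [hmv_sub, hmv_inv, hu', hmv_mul, hmv_mul]
    rw [e]
    exact hmem_img _ (hu1 _)
  have h2' : ∀ v ∈ Wf i (Pi.single o (1 : F)), mv u' v = v := by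
    intro v hv
    obtain ⟨w, hw, rfl⟩ := hmem_img' v hv
    rw [hu', hmv_mul, hmv_mul, hmv_inv', hu2 w hw]
  exact caseA_std h1' h2' hm hHX hu'X hu'G

/-- **Case A** of Stage II (S5641 plan §3 (IIA)), exact interface of helper8's msg 3962. -/
theorem caseA {t : ℕ} [Fintype F] (hm : 3 ≤ m) (ht : 1 ≤ t) (X : Subgroup (GL (Idx (t + 1) m) F))
    (hHX : Hstd (t + 1) m F ≤ X) (i : Fin (t + 1)) (y : Fin m → F) (hy : y ≠ 0)
    (u : GL (Idx (t + 1) m) F) (huX : u ∈ X) (huG : u ∉ Gstd (t + 1) m F)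
    (hu1 : ∀ v, mv u v - v ∈ Wf i y) (hu2 : ∀ v ∈ Wf i y, mv u v = v) :
    ∃ J : Finset (Fin (t + 1)), 2 ≤ J.card ∧ XT X J :=
  caseA_gen hm hHX i y hy u huX huG hu1 hu2

end Cfsg.Agent.Lib.Helper19.TWCaseA
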