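import Mathlib
import Cfsg.Agent.Lib.Helper8.TW.Defs
import Cfsg.Agent.Lib.Helper19.TWCaseA3

/-!
S5641 (C7 maximal in `SL_n`), Stage II, **Case A** (plan §3 (IIA)): exact interface of helper8's msg 3962 /
`notes/S5641_IIB_leaves.lean` (`caseA`).  Proof: `TWCaseA1` (matrix-unit calculus, the set `𝒮`, induction over the free
positions), `TWCaseA2` (Steinberg moves: one elementary element gives `XT X J`), `TWCaseA3` (isolation of a non-scalar block,
reduction to the standard fibre).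
-/

set_option autoImplicit false
set_option linter.unusedSectionVars false
set_option linter.unusedVariables false

namespace Cfsg.Agent.Lib.Helper19.TWIIBLeaf
open Matrix Cfsg.Geo Cfsg.Agent.Lib.Helper18.AschA89 Cfsg.Agent.Lib.Helper20.AschLeaf Cfsg.Agent.Lib.Helper8.TW

variable {F : Type*} [Field F] {t m : ℕ}

/-- (IIA) Case A of Stage II -/
theorem caseA [Fintype F] (hm : 3 ≤ m) (ht : 1 ≤ t) (X : Subgroup (GL (Idx (t + 1) m) F))
    (hHX : Hstd (t + 1) m F ≤ X) (i : Fin (t + 1)) (y : Fin m → F) (hy : y ≠ 0) (u : GL (Idx (t + 1) m) F)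
    (huX : u ∈ X) (huG : u ∉ Gstd (t + 1) m F) (hu1 : ∀ v, mv u v - v ∈ Wf i y) (hu2 : ∀ v ∈ Wf i y, mv u v = v) :
    ∃ J : Finset (Fin (t + 1)), 2 ≤ J.card ∧ XT X J :=
  Cfsg.Agent.Lib.Helper19.TWCaseA.caseA_gen hm hHX i y hy u huX huG hu1 hu2

end Cfsg.Agent.Lib.Helper19.TWIIBLeaf
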