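/-
Helper19 library: a ring isomorphism `F ≃+* K` induces `SU n F q ≃* SU n K q` and `PSU n F q ≃* PSU n K q`;
transport of "normalizer has a given order and centralizer is the subgroup itself" along group isomorphisms.
-/
import Mathlib
import Cfsg.Agent.Lib.Helper14.Unitary3

set_option autoImplicit false

namespace Cfsg.Agent.Lib.Helper19.SUCongr

open Cfsg.Agent.Lib.Helper14

section ring

variable {F K : Type*} [Field F] [Field K] {n q : ℕ}

theorem hermForm_map (φ : F →+* K) (u v : Fin n → F) :
    Cfsg.hermForm n K q (fun i => φ (u i)) (fun i => φ (v i)) = φ (Cfsg.hermForm n F q u v) := by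
  unfold Cfsg.hermForm
  rw [map_sum]
  apply Finset.sum_congr rfl
  intro i _
  rw [map_mul, map_pow]

theorem isUni_map (φ : F ≃+* K) (M : Matrix (Fin n) (Fin n) F) (hM : IsUni F q n M) :
    IsUni K q n (M.map φ) := by
  intro u v
  have hu : u = fun i => φ (φ.symm (u i)) := by ext i; simp
  have hv : v = fun i => φ (φ.symm (v i)) := by ext i; simp
  have e1 : ∀ w : Fin n → F, (M.map φ).mulVec (fun i => φ (w i)) = fun i => φ (M.mulVec w i) := by
    intro w
    have := RingHom.map_mulVec (φ : F →+* K) M w
    ext i
    exact (this i).symm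
  rw [hu, hv, e1, e1]
  have h1 := hermForm_map (q := q) (φ : F →+* K) (M.mulVec fun i => φ.symm (u i))
    (M.mulVec fun i => φ.symm (v i))
  have h2 := hermForm_map (q := q) (φ : F →+* K) (fun i => φ.symm (u i)) (fun i => φ.symm (v i))
  exact h1.trans ((congrArg _ (hM _ _)).trans h2.symm)

/-- the isomorphism of special linear groups induced by a ring isomorphism. -/
def slCongr (φ : F ≃+* K) : Matrix.SpecialLinearGroup (Fin n) F ≃* Matrix.SpecialLinearGroup (Fin n) K where
  toFun := Matrix.SpecialLinearGroup.map (φ : F →+* K)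
  invFun := Matrix.SpecialLinearGroup.map (φ.symm : K →+* F)
  left_inv g := by
    apply Subtype.ext
    ext i j
    show φ.symm (φ (g.1 i j)) = g.1 i j
    simp
  right_inv g := by
    apply Subtype.ext
    ext i j
    show φ (φ.symm (g.1 i j)) = g.1 i j
    simp
  map_mul' g h := map_mul _ g h

theorem slCongr_coe (φ : F ≃+* K) (g : Matrix.SpecialLinearGroup (Fin n) F) :
    ((slCongr φ g : Matrix.SpecialLinearGroup (Fin n) K) : Matrix (Fin n) (Fin n) K) =
      (g : Matrix (Fin n) (Fin n) F).map φ := rfl

theorem slCongr_mem (φ : F ≃+* K) (g : Matrix.SpecialLinearGroup (Fin n) F)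
    (hg : g ∈ Cfsg.SU n F q) : slCongr φ g ∈ Cfsg.SU n K q := by
  rw [mem_SU_iff] at hg ⊢
  rw [slCongr_coe]
  exact isUni_map φ _ hg

/-- the isomorphism of special unitary groups induced by a ring isomorphism. -/
def suCongr (φ : F ≃+* K) : Cfsg.SU n F q ≃* Cfsg.SU n K q where
  toFun g := ⟨slCongr φ g.1, slCongr_mem φ g.1 g.2⟩
  invFun g := ⟨slCongr φ.symm g.1, slCongr_mem φ.symm g.1 g.2⟩
  left_inv g := by
    apply Subtype.ext
    exact (slCongr (n := n) φ).left_inv g.1
  right_inv g := by
    apply Subtype.ext
    exact (slCongr (n := n) φ).right_inv g.1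
  map_mul' g h := by
    apply Subtype.ext
    exact map_mul (slCongr (n := n) φ) g.1 h.1

end ring

section group

variable {G H : Type*} [Group G] [Group H]

theorem map_center (e : G ≃* H) : (Subgroup.center G).map e.toMonoidHom = Subgroup.center H := by
  ext x
  rw [Subgroup.mem_map, Subgroup.mem_center_iff]
  constructor
  · rintro ⟨z, hz, rfl⟩ y
    obtain ⟨y, rfl⟩ := e.surjective y
    show e y * e z = e z * e y
    rw [← map_mul, ← map_mul, Subgroup.mem_center_iff.mp hz y]
  · intro hx
    refine ⟨e.symm x, ?_, by simp⟩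
    rw [Subgroup.mem_center_iff]
    intro y
    apply e.injective
    rw [map_mul, map_mul, e.apply_symm_apply]
    exact hx (e y)

/-- an isomorphism of groups induces an isomorphism of the quotients by the centres. -/
noncomputable def centerQuotCongr (e : G ≃* H) : G ⧸ Subgroup.center G ≃* H ⧸ Subgroup.center H :=
  QuotientGroup.congr _ _ e (map_center e)

theorem map_centralizer (e : G ≃* H) (X : Subgroup G) :
    (Subgroup.centralizer (X : Set G)).map e.toMonoidHom =
      Subgroup.centralizer ((X.map e.toMonoidHom : Subgroup H) : Set H) := by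
  ext x
  rw [Subgroup.mem_map, Subgroup.mem_centralizer_iff]
  constructor
  · rintro ⟨z, hz, rfl⟩ y hy
    obtain ⟨y, hy, rfl⟩ := hy
    show e y * e z = e z * e y
    rw [← map_mul, ← map_mul, Subgroup.mem_centralizer_iff.mp hz y hy]
  · intro hx
    refine ⟨e.symm x, ?_, by simp⟩
    rw [Subgroup.mem_centralizer_iff]
    intro y hy
    apply e.injective
    rw [map_mul, map_mul, e.apply_symm_apply]
    exact hx (e y) ⟨y, hy, rfl⟩

/-- transport of the conclusion "`|N(X)| = m` and `C(X) = X`" along an isomorphism. -/
theorem transport (e : G ≃* H) (X : Subgroup G) (m : ℕ)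
    (h : Nat.card (Subgroup.normalizer (X : Set G)) = m ∧ Subgroup.centralizer (X : Set G) = X) :
    Nat.card (Subgroup.normalizer ((X.map e.toMonoidHom : Subgroup H) : Set H)) = m ∧
      Subgroup.centralizer ((X.map e.toMonoidHom : Subgroup H) : Set H) = X.map e.toMonoidHom := by
  constructor
  · have h1 := Subgroup.map_equiv_normalizer_eq X e
    rw [← h.1]
    have h2 : Nat.card ((Subgroup.normalizer (X : Set G)).map e.toMonoidHom) =
        Nat.card (Subgroup.normalizer (X : Set G)) :=
      Subgroup.card_map_of_injective e.injective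
    rw [← h2]
    exact congrArg (fun S : Subgroup H => Nat.card S) h1.symm
  · rw [← map_centralizer, h.2]

end group

section psu

variable {F K : Type*} [Field F] [Field K] {n q : ℕ}

/-- the isomorphism of projective special unitary groups induced by a ring isomorphism. -/
noncomputable def psuCongr (φ : F ≃+* K) : Cfsg.PSU n F q ≃* Cfsg.PSU n K q :=
  centerQuotCongr (suCongr φ)

end psu

end Cfsg.Agent.Lib.Helper19.SUCongr
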