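/-
Helper19 library: a central extension of the alternating groups `A₆`, `A₇` with an element of order 3 in
kernel ∩ commutator subgroup: the pullback of `GL₃(𝔽₂₅) → PGL₃(𝔽₂₅)` along the projective representation given
on Moore's generators (helper25) by explicit matrices generating `3.A₇ ≤ SU₃(5)`.
-/
import Mathlib
import Cfsg.Agent.Lib.Helper25.Moore

set_option autoImplicit false

namespace Cfsg.Agent.Lib.Helper19.SchurAltCover

universe u v

open Subgroup Cfsg.Agent.Lib.Helper25.Moore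
open scoped commutatorElement

section abstract

variable {W : Type*} [Group W]

theorem mooreRel_mono {y : ℕ → W} {m m' : ℕ} (h : MooreRel y m) (hm : m' ≤ m) : MooreRel y m' :=
  ⟨fun h0 => h.cube (by omega), fun i h1 h2 => h.sq i h1 (by omega), fun i h1 => h.adj i (by omega),
    fun i j h1 h2 => h.far i j h1 (by omega)⟩

theorem inv_swap (a b : W) (hb : b ^ 2 = 1) (hab : (a * b) ^ 2 = 1) : b * a⁻¹ = a * b := by
  have hbi : b⁻¹ = b := by
    rw [inv_eq_iff_mul_eq_one, ← pow_two, hb]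
  have h1 : a * b * (a * b) = 1 := by rw [← pow_two, hab]
  have h2 : (a * b)⁻¹ = a * b := inv_eq_of_mul_eq_one_left h1
  rw [mul_inv_rev, hbi] at h2
  calc b * a⁻¹ = a * b := h2

/-- in a group with Moore's relations the first generator commutes with the product of the third and fourth -/
theorem mooreRel_comm_zero {y : ℕ → W} {m : ℕ} (h : MooreRel y m) (hm : 4 ≤ m) :
    y 0 * (y 2 * y 3) = y 2 * y 3 * y 0 := by
  have hb := h.sq 2 (by omega) (by omega)
  have hc := h.sq 3 (by omega) (by omega)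
  have hab := h.far 0 2 (by omega) (by omega)
  have hac := h.far 0 3 (by omega) (by omega)
  have h1 : y 2 * (y 0)⁻¹ = y 0 * y 2 := inv_swap _ _ hb hab
  have h2 : y 3 * (y 0)⁻¹ = y 0 * y 3 := inv_swap _ _ hc hac
  -- `y 3 * y 0 = (y 0)⁻¹ * y 3`
  have h3 : y 3 * y 0 = (y 0)⁻¹ * y 3 := by
    have : (y 0)⁻¹ * (y 0 * y 3) * y 0 = (y 0)⁻¹ * (y 3 * (y 0)⁻¹) * y 0 := by rw [h2]
    calc y 3 * y 0 = (y 0)⁻¹ * (y 0 * y 3) * y 0 := by group
      _ = (y 0)⁻¹ * (y 3 * (y 0)⁻¹) * y 0 := this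
      _ = (y 0)⁻¹ * y 3 := by group
  calc y 0 * (y 2 * y 3) = (y 0 * y 2) * y 3 := by rw [mul_assoc]
    _ = y 2 * (y 0)⁻¹ * y 3 := by rw [h1]
    _ = y 2 * ((y 0)⁻¹ * y 3) := by rw [mul_assoc]
    _ = y 2 * (y 3 * y 0) := by rw [h3]
    _ = y 2 * y 3 * y 0 := by rw [mul_assoc]

/-- **pullback of a projective representation given on Moore's generators** -/
theorem exists_central_ext_of_moore {L : Type v} [Group L] {A : Type u} [Group A] (m : ℕ) (hm : 4 ≤ m)
    (e : MooreGroup m ≃* A) (g : ℕ → L)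
    (hrel : MooreRel (fun k => (QuotientGroup.mk (g k) : L ⧸ center L)) m)
    (c : L) (hcomm : g 0 * (g 2 * g 3) = c * (g 2 * g 3 * g 0)) (hc1 : c ≠ 1) (hc3 : c ^ 3 = 1) :
    ∃ (E : Type (max u v)) (_ : Group E) (σ : E →* A), Function.Surjective σ ∧ σ.ker ≤ center E ∧
      ∃ z : E, z ∈ σ.ker ∧ z ∈ commutator E ∧ orderOf z = 3 := by
  classical
  obtain ⟨φ, hφ⟩ := exists_hom_of_mooreRel _ m hrel
  have hφN : ∀ k, k < m → φ (xN m k) = (QuotientGroup.mk (g k) : L ⧸ center L) := by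
    intro k hk
    rw [xN_of_lt m k hk]
    exact hφ ⟨k, hk⟩
  let ρ : A →* L ⧸ center L := φ.comp e.symm.toMonoidHom
  have hρ : ∀ a, ρ a = φ (e.symm a) := fun _ => rfl
  let E : Subgroup (L × A) :=
    ((QuotientGroup.mk' (center L)).comp (MonoidHom.fst L A)).eqLocus (ρ.comp (MonoidHom.snd L A))
  have hE : ∀ x : L × A, x ∈ E ↔ (QuotientGroup.mk x.1 : L ⧸ center L) = ρ x.2 := fun _ => Iff.rfl
  let σE : E →* A := (MonoidHom.snd L A).comp E.subtype
  have hσE : ∀ x : E, σE x = x.1.2 := fun _ => rfl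
  refine ⟨E, inferInstance, σE, ?_, ?_, ?_⟩
  · intro a
    obtain ⟨l, hl⟩ := QuotientGroup.mk_surjective (ρ a)
    exact ⟨⟨(l, a), (hE _).mpr hl⟩, rfl⟩
  · intro x hx
    have hx2 : x.1.2 = 1 := hx
    have hx1 : x.1.1 ∈ center L := by
      have := (hE x.1).mp x.2
      rw [hx2, map_one] at this
      exact (QuotientGroup.eq_one_iff _).mp this
    rw [Subgroup.mem_center_iff]
    intro y
    apply Subtype.ext
    apply Prod.ext
    · exact Subgroup.mem_center_iff.mp hx1 y.1.1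
    · show y.1.2 * x.1.2 = x.1.2 * y.1.2
      rw [hx2, mul_one, one_mul]
  · -- the element
    let X : E := ⟨(g 0, e (xN m 0)), by
      rw [hE, hρ, MulEquiv.symm_apply_apply, hφN 0 (by omega)]⟩
    let Y : E := ⟨(g 2 * g 3, e (xN m 2 * xN m 3)), by
      rw [hE, hρ, MulEquiv.symm_apply_apply]
      show (QuotientGroup.mk (g 2 * g 3) : L ⧸ center L) = φ (xN m 2 * xN m 3)
      rw [map_mul φ, hφN 2 (by omega), hφN 3 (by omega)]
      rfl⟩
    have hxy : xN m 0 * (xN m 2 * xN m 3) = xN m 2 * xN m 3 * xN m 0 :=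
      mooreRel_comm_zero (mooreRel_xN m) hm
    have hz : (⁅X, Y⁆ : E).1 = (c, 1) := by
      show (⁅(g 0, e (xN m 0)), (g 2 * g 3, e (xN m 2 * xN m 3))⁆ : L × A) = (c, 1)
      apply Prod.ext
      · show ⁅g 0, g 2 * g 3⁆ = c
        rw [commutatorElement_def, hcomm]
        group
      · show ⁅e (xN m 0), e (xN m 2 * xN m 3)⁆ = 1
        rw [commutatorElement_eq_one_iff_commute]
        show e (xN m 0) * e (xN m 2 * xN m 3) = e (xN m 2 * xN m 3) * e (xN m 0)
        rw [← map_mul, ← map_mul, hxy]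
    refine ⟨⁅X, Y⁆, ?_, Subgroup.commutator_mem_commutator (Subgroup.mem_top _) (Subgroup.mem_top _), ?_⟩
    · show (⁅X, Y⁆ : E).1.2 = 1
      rw [hz]
    · have : Fact (Nat.Prime 3) := ⟨Nat.prime_three⟩
      apply orderOf_eq_prime
      · apply Subtype.ext
        show ((⁅X, Y⁆ : E).1) ^ 3 = 1
        rw [hz]
        apply Prod.ext
        · exact hc3
        · show (1 : A) ^ 3 = 1
          rw [one_pow]
      · intro h
        have h1 : (⁅X, Y⁆ : E).1 = 1 := congrArg Subtype.val h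
        rw [hz] at h1
        exact hc1 (congrArg Prod.fst h1)

end abstract

end Cfsg.Agent.Lib.Helper19.SchurAltCover
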