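/-
Helper19 library: explicit generators of `3.A₇ ≤ SL₃(𝔽₂₅)` satisfying Moore's relations modulo scalars; the
resulting central extensions of `A₆` and `A₇` with an element of order 3 in kernel ∩ commutator subgroup.
-/
import Mathlib
import Cfsg.Agent.Lib.Helper19.SchurAltCover

set_option autoImplicit false

namespace Cfsg.Agent.Lib.Helper19.SchurAltCover

open Subgroup Cfsg.Agent.Lib.Helper25.Moore
open scoped commutatorElement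

/-- the field with 25 elements, `𝔽₅[√2]` -/
abbrev K25 : Type := QuadraticAlgebra (ZMod 5) 2 0

abbrev M3 : Type := Matrix (Fin 3) (Fin 3) K25

def A0 : M3 := !![⟨2, 2⟩, ⟨2, 4⟩, ⟨3, 1⟩; ⟨0, 3⟩, ⟨1, 1⟩, ⟨1, 2⟩; ⟨0, 3⟩, ⟨0, 1⟩, ⟨2, 2⟩]
def A0i : M3 := !![⟨2, 3⟩, ⟨2, 1⟩, ⟨3, 4⟩; ⟨0, 2⟩, ⟨1, 4⟩, ⟨1, 3⟩; ⟨0, 2⟩, ⟨0, 4⟩, ⟨2, 3⟩]
def A1 : M3 := !![⟨0, 0⟩, ⟨0, 0⟩, ⟨3, 0⟩; ⟨0, 0⟩, ⟨4, 0⟩, ⟨0, 0⟩; ⟨2, 0⟩, ⟨0, 0⟩, ⟨0, 0⟩]
def A2 : M3 := !![⟨2, 0⟩, ⟨1, 0⟩, ⟨3, 0⟩; ⟨3, 0⟩, ⟨0, 0⟩, ⟨3, 0⟩; ⟨3, 0⟩, ⟨1, 0⟩, ⟨2, 0⟩]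
def A3 : M3 := !![⟨0, 0⟩, ⟨0, 0⟩, ⟨2, 0⟩; ⟨0, 0⟩, ⟨4, 0⟩, ⟨0, 0⟩; ⟨3, 0⟩, ⟨0, 0⟩, ⟨0, 0⟩]
def A4 : M3 := !![⟨3, 0⟩, ⟨3, 0⟩, ⟨3, 0⟩; ⟨2, 0⟩, ⟨3, 0⟩, ⟨4, 0⟩; ⟨2, 0⟩, ⟨4, 0⟩, ⟨3, 0⟩]
/-- the scalar matrices `ω`, `ω²` -/
def Z1 : M3 := !![⟨2, 3⟩, 0, 0; 0, ⟨2, 3⟩, 0; 0, 0, ⟨2, 3⟩]
def Z2 : M3 := !![⟨2, 2⟩, 0, 0; 0, ⟨2, 2⟩, 0; 0, 0, ⟨2, 2⟩]

set_option maxRecDepth 100000

theorem A0_inv : A0 * A0i = 1 ∧ A0i * A0 = 1 := by decide +kernel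
theorem A1_inv : A1 * A1 = 1 := by decide +kernel
theorem A2_inv : A2 * A2 = 1 := by decide +kernel
theorem A3_inv : A3 * A3 = 1 := by decide +kernel
theorem A4_inv : A4 * A4 = 1 := by decide +kernel
theorem Z_inv : Z1 * Z2 = 1 ∧ Z2 * Z1 = 1 := by decide +kernel
theorem Z1_eq : Z1 = (⟨2, 3⟩ : K25) • (1 : M3) := by decide +kernel
theorem Z2_eq : Z2 = (⟨2, 2⟩ : K25) • (1 : M3) := by decide +kernel

abbrev L3 : Type := (Matrix (Fin 3) (Fin 3) K25)ˣ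

def U0 : L3 := ⟨A0, A0i, A0_inv.1, A0_inv.2⟩
def U1 : L3 := ⟨A1, A1, A1_inv, A1_inv⟩
def U2 : L3 := ⟨A2, A2, A2_inv, A2_inv⟩
def U3 : L3 := ⟨A3, A3, A3_inv, A3_inv⟩
def U4 : L3 := ⟨A4, A4, A4_inv, A4_inv⟩
def V1 : L3 := ⟨Z1, Z2, Z_inv.1, Z_inv.2⟩
def V2 : L3 := ⟨Z2, Z1, Z_inv.2, Z_inv.1⟩

theorem V1_mem : V1 ∈ center L3 := by
  rw [mem_center_iff]
  intro h
  apply Units.ext
  show h.val * Z1 = Z1 * h.val
  rw [Z1_eq, Matrix.mul_smul, Matrix.smul_mul, mul_one, one_mul]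

/-- the generators -/
def gen : ℕ → L3
  | 0 => U0
  | 1 => U1
  | 2 => U2
  | 3 => U3
  | 4 => U4
  | _ => 1

theorem rel_cube : A0 ^ 3 = 1 := by decide +kernel
theorem rel_adj01 : (A0 * A1) ^ 3 = 1 := by decide +kernel
theorem rel_adj12 : (A1 * A2) ^ 3 = 1 := by decide +kernel
theorem rel_adj23 : (A2 * A3) ^ 3 = 1 := by decide +kernel
theorem rel_adj34 : (A3 * A4) ^ 3 = 1 := by decide +kernel
theorem rel_far02 : (A0 * A2) ^ 2 = 1 := by decide +kernel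
theorem rel_far03 : (A0 * A3) ^ 2 = Z1 := by decide +kernel
theorem rel_far04 : (A0 * A4) ^ 2 = 1 := by decide +kernel
theorem rel_far13 : (A1 * A3) ^ 2 = 1 := by decide +kernel
theorem rel_far14 : (A1 * A4) ^ 2 = 1 := by decide +kernel
theorem rel_far24 : (A2 * A4) ^ 2 = 1 := by decide +kernel
theorem rel_comm : A0 * (A2 * A3) = Z2 * (A2 * A3 * A0) := by decide +kernel
theorem Z2_ne : Z2 ≠ 1 := by decide +kernel
theorem Z2_cube : Z2 ^ 3 = 1 := by decide +kernel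

theorem mk_eq_one_of_val {x : L3} (h : x.val = 1) : (QuotientGroup.mk x : L3 ⧸ center L3) = 1 := by
  have : x = 1 := Units.ext h
  rw [this]; rfl

theorem mooreRel_gen : MooreRel (fun k => (QuotientGroup.mk (gen k) : L3 ⧸ center L3)) 5 := by
  refine ⟨fun _ => ?_, ?_, ?_, ?_⟩
  · show (QuotientGroup.mk (gen 0) : L3 ⧸ center L3) ^ 3 = 1
    rw [← QuotientGroup.mk_pow]
    exact mk_eq_one_of_val rel_cube
  · intro i h1 h2
    show (QuotientGroup.mk (gen i) : L3 ⧸ center L3) ^ 2 = 1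
    rw [← QuotientGroup.mk_pow]
    apply mk_eq_one_of_val
    show (gen i).val ^ 2 = 1
    rw [pow_two]
    interval_cases i
    · exact A1_inv
    · exact A2_inv
    · exact A3_inv
    · exact A4_inv
  · intro i h1
    show ((QuotientGroup.mk (gen i) : L3 ⧸ center L3) * QuotientGroup.mk (gen (i + 1))) ^ 3 = 1
    rw [← QuotientGroup.mk_mul, ← QuotientGroup.mk_pow]
    apply mk_eq_one_of_val
    show ((gen i).val * (gen (i + 1)).val) ^ 3 = 1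
    have hi : i < 4 := by omega
    interval_cases i
    · exact rel_adj01
    · exact rel_adj12
    · exact rel_adj23
    · exact rel_adj34
  · intro i j h1 h2
    show ((QuotientGroup.mk (gen i) : L3 ⧸ center L3) * QuotientGroup.mk (gen j)) ^ 2 = 1
    rw [← QuotientGroup.mk_mul, ← QuotientGroup.mk_pow]
    by_cases h03 : i = 0 ∧ j = 3
    · obtain ⟨rfl, rfl⟩ := h03
      have : (gen 0 * gen 3) ^ 2 = V1 := Units.ext rel_far03
      rw [this]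
      exact (QuotientGroup.eq_one_iff _).mpr V1_mem
    · apply mk_eq_one_of_val
      show ((gen i).val * (gen j).val) ^ 2 = 1
      have hj : j < 5 := h2
      have hi : i < 3 := by omega
      interval_cases i <;> interval_cases j <;> first | omega | skip
      · exact rel_far02
      · exact rel_far04
      · exact rel_far13
      · exact rel_far14
      · exact rel_far24

/-- **a central extension of `A₆` or `A₇` with an element of order 3 in kernel ∩ commutator subgroup** -/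
theorem exists_cover_three (m : ℕ) (hm : m = 4 ∨ m = 5) :
    ∃ (E : Type) (_ : Group E) (σ : E →* alternatingGroup (Fin (m + 1 + 1))),
      Function.Surjective σ ∧ σ.ker ≤ center E ∧
        ∃ z : E, z ∈ σ.ker ∧ z ∈ commutator E ∧ orderOf z = 3 := by
  obtain ⟨e⟩ := nonempty_mulEquiv_alternatingGroup m
  have hm4 : 4 ≤ m := by omega
  have hm5 : m ≤ 5 := by omega
  refine exists_central_ext_of_moore m hm4 e gen (mooreRel_mono mooreRel_gen hm5) V2 ?_ ?_ ?_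
  · exact Units.ext rel_comm
  · intro h
    exact Z2_ne (congrArg Units.val h)
  · exact Units.ext Z2_cube

end Cfsg.Agent.Lib.Helper19.SchurAltCover
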