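import Mathlib
import Cfsg.Agent.Lib.Helper15.AschFormMat
import Cfsg.Agent.Lib.Helper18.AschA89Defs
import Cfsg.Agent.Lib.Helper6.TWSlot
import Cfsg.Agent.Lib.Helper12.TWTS

/-!
helper19: AF market (generic form blocks), packet [PRF]: `adjoin_slot_eq_top`, `isUnit_det_slot`,
`slot_factor_of_invariant` (Schur core for one slot), `ptens_of_factors` (separation of variables).
-/

set_option autoImplicit false
set_option linter.unusedSectionVars false
set_option linter.unusedVariables false

namespace Cfsg.Agent.Lib.Helper19.AFLeaf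
open Matrix Cfsg.Geo Cfsg.Agent.Lib.Helper20.Asch Cfsg.Agent.Lib.Helper7.AschLeaf
open Cfsg.Agent.Lib.Helper15.AschForm Cfsg.Agent.Lib.Helper18.AschA89
open scoped Kronecker

variable {F : Type*} [Field F] [Fintype F] {n : ℕ}

/-! ### (PRF1) -/

/-- (PRF1) as (TNS2), for `slot i` instead of `· ⊗ₖ 1` -/
theorem adjoin_slot_eq_top {X : Subgroup (GL (Fin n) F)} {m r : ℕ} (i : Fin r) (e : Fin n ≃ (Fin r → Fin m))
    (P : GL (Fin n) F)
    (h1 : ∀ A : Matrix (Fin m) (Fin m) F, conjR e P (slot m r i A) ∈ Env X)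
    (h2 : ∀ T ∈ Env X, ∃ A : Matrix (Fin m) (Fin m) F, T = conjR e P (slot m r i A)) :
    Algebra.adjoin F {R : Matrix (Fin m) (Fin m) F | conjR e P (slot m r i R) ∈ matrixSet X} = ⊤ := by
  rcases Nat.eq_zero_or_pos m with rfl | hm
  · rw [eq_top_iff]
    intro A _
    have : A = 1 := Subsingleton.elim _ _
    rw [this]
    exact one_mem _
  · let Φ : Matrix (Fin m) (Fin m) F →ₐ[F] Matrix (Fin n) (Fin n) F :=
      AlgHom.ofLinearMap
        { toFun := fun A => conjR e P (slot m r i A)
          map_add' := fun A B => by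
            show conjR e P (slot m r i (A + B)) = _
            rw [Cfsg.Agent.Lib.Helper6.TWQ.slot_add, conjR_add]
          map_smul' := fun c A => by
            show conjR e P (slot m r i (c • A)) = _
            rw [Cfsg.Agent.Lib.Helper6.TWQ.slot_smul, conjR_smul]
            rfl }
        (by
          show conjR e P (slot m r i 1) = 1
          rw [Cfsg.Agent.Lib.Helper6.TWQ.slot_one, conjR_one])
        (fun A B => by
          show conjR e P (slot m r i (A * B)) = conjR e P (slot m r i A) * conjR e P (slot m r i B)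
          rw [Cfsg.Agent.Lib.Helper6.TWQ.slot_mul, conjR_mul])
    have hΦ : ∀ A, Φ A = conjR e P (slot m r i A) := fun A => rfl
    have hinj : Function.Injective Φ := by
      intro A B hAB
      rw [hΦ, hΦ] at hAB
      exact Cfsg.Agent.Lib.Helper6.TWQ.slot_injective hm i (conjR_injective e P hAB)
    set S : Set (Matrix (Fin m) (Fin m) F) := {R | conjR e P (slot m r i R) ∈ matrixSet X} with hS
    have hle : Env X ≤ (Algebra.adjoin F S).map Φ := by
      unfold Env
      apply Algebra.adjoin_le
      intro T hT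
      obtain ⟨A, hA⟩ := h2 T (Algebra.subset_adjoin hT)
      have hAS : A ∈ S := by
        show conjR e P (slot m r i A) ∈ matrixSet X
        rw [← hA]
        exact hT
      rw [SetLike.mem_coe, Subalgebra.mem_map]
      exact ⟨A, Algebra.subset_adjoin hAS, by rw [hΦ, hA]⟩
    rw [eq_top_iff]
    intro A _
    have := hle (h1 A)
    rw [Subalgebra.mem_map] at this
    obtain ⟨A', hA', hAA'⟩ := this
    have : A' = A := hinj (by rw [hAA', hΦ])
    rw [← this]
    exact hA'

/-! ### (PRF2) -/

/-- (PRF2) as (TNS4) -/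
theorem isUnit_det_slot {m r : ℕ} (hm : 0 < m) (i : Fin r) (e : Fin n ≃ (Fin r → Fin m)) (P : GL (Fin n) F)
    (R : Matrix (Fin m) (Fin m) F) (x : GL (Fin n) F)
    (hx : (x : Matrix (Fin n) (Fin n) F) = conjR e P (slot m r i R)) : IsUnit R.det := by
  have h1 : IsUnit (x : Matrix (Fin n) (Fin n) F).det :=
    (Matrix.isUnit_iff_isUnit_det _).1 x.isUnit
  have h2 : (x : Matrix (Fin n) (Fin n) F).det = R.det ^ (m ^ (r - 1)) := by
    rw [hx]
    unfold conjR
    rw [Matrix.det_mul, Matrix.det_mul, Matrix.det_reindex_self, Cfsg.Agent.Lib.Helper12.TWLeaf.det_slot]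
    have : (P : Matrix (Fin n) (Fin n) F).det * ((P⁻¹ : GL (Fin n) F) : Matrix (Fin n) (Fin n) F).det = 1 := by
      rw [← Matrix.det_mul, ← Units.val_mul, mul_inv_cancel, Units.val_one, Matrix.det_one]
    calc (P : Matrix (Fin n) (Fin n) F).det * R.det ^ (m ^ (r - 1)) *
          ((P⁻¹ : GL (Fin n) F) : Matrix (Fin n) (Fin n) F).det
        = R.det ^ (m ^ (r - 1)) * ((P : Matrix (Fin n) (Fin n) F).det *
          ((P⁻¹ : GL (Fin n) F) : Matrix (Fin n) (Fin n) F).det) := by ring
      _ = _ := by rw [this, mul_one]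
  rw [h2] at h1
  exact (isUnit_pow_iff (pow_pos hm _).ne').1 h1

/-! ### (PRF4) separation of variables -/

/-- (PRF4) a function on `(Fin r → Fin m)²` which factors through every coordinate is a product. -/
theorem ptens_of_factors {m r : ℕ} (J' : Matrix (Fin r → Fin m) (Fin r → Fin m) F)
    (hfac : ∀ i : Fin r, ∃ (G : Matrix (Fin m) (Fin m) F) (K : Matrix (Fin r → Fin m) (Fin r → Fin m) F),
      (∀ x y a b, K (Function.update x i a) (Function.update y i b) = K x y) ∧
      ∀ x y, J' x y = G (x i) (y i) * K x y) :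
    ∃ (c : F) (G : Fin r → Matrix (Fin m) (Fin m) F), J' = c • ptens m r G := by
  by_cases h0 : ∀ x y, J' x y = 0
  · refine ⟨0, fun _ => 0, ?_⟩
    ext x y
    rw [h0, zero_smul, Matrix.zero_apply]
  · push_neg at h0
    obtain ⟨x0, y0, h00⟩ := h0
    choose G K hK hJ using hfac
    have step : ∀ i x y a b, J' (Function.update x i a) (Function.update y i b) * G i (x i) (y i) =
        G i a b * J' x y := by
      intro i x y a b
      rw [hJ i (Function.update x i a) (Function.update y i b), hJ i x y, Function.update_self,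
        Function.update_self, hK]
      ring
    have g0 : ∀ i, G i (x0 i) (y0 i) ≠ 0 := fun i h => h00 (by rw [hJ i, h, zero_mul])
    refine ⟨J' x0 y0, fun i => Matrix.of fun a b =>
      J' (Function.update x0 i a) (Function.update y0 i b) / J' x0 y0, ?_⟩
    ext x y
    rw [Matrix.smul_apply, ptens_apply, smul_eq_mul]
    simp only [Matrix.of_apply]
    have key : ∀ S : Finset (Fin r),
        J' (fun j => if j ∈ S then x j else x0 j) (fun j => if j ∈ S then y j else y0 j) =
          J' x0 y0 * ∏ i ∈ S, (J' (Function.update x0 i (x i)) (Function.update y0 i (y i)) / J' x0 y0) := by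
      intro S
      induction S using Finset.induction_on with
      | empty => simp
      | insert i S hi ih =>
        rw [Finset.prod_insert hi]
        have e1 : ∀ (z z0 : Fin r → Fin m), (fun j => if j ∈ insert i S then z j else z0 j) =
            Function.update (fun j => if j ∈ S then z j else z0 j) i (z i) := by
          intro z z0
          funext j
          by_cases hj : j = i
          · subst hj
            simp
          · rw [Function.update_of_ne hj]
            simp [Finset.mem_insert, hj]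
        rw [e1 x x0, e1 y y0]
        have s1 := step i (fun j => if j ∈ S then x j else x0 j) (fun j => if j ∈ S then y j else y0 j)
          (x i) (y i)
        simp only [if_neg hi] at s1
        have s2 := step i x0 y0 (x i) (y i)
        rw [ih] at s1
        set A := J' (Function.update (fun j => if j ∈ S then x j else x0 j) i (x i))
          (Function.update (fun j => if j ∈ S then y j else y0 j) i (y i)) with hA
        set D := J' (Function.update x0 i (x i)) (Function.update y0 i (y i)) with hD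
        set Pr := ∏ i ∈ S, (J' (Function.update x0 i (x i)) (Function.update y0 i (y i)) / J' x0 y0) with hPr
        have hAD : A = D * Pr := by
          apply mul_right_cancel₀ (g0 i)
          rw [s1]
          calc G i (x i) (y i) * (J' x0 y0 * Pr) = (G i (x i) (y i) * J' x0 y0) * Pr := by ring
            _ = (D * G i (x0 i) (y0 i)) * Pr := by rw [s2]
            _ = D * Pr * G i (x0 i) (y0 i) := by ring
        rw [hAD]
        field_simp
    have := key Finset.univ
    simpa using this

/-! ### (PRF3) the Schur core for one slot -/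

section schur
variable {m : ℕ} {σ : F →+* F}

lemma map_single_one (a b : Fin m) :
    (Matrix.single a b (1 : F)).map σ = Matrix.single a b (1 : F) := by
  ext j k
  rw [Matrix.map_apply, Matrix.single_apply]
  by_cases h : a = j ∧ b = k
  · rw [if_pos h, map_one]
  · rw [if_neg h, map_zero]

/-- every matrix has a "twisted adjoint" with respect to all invariant matrices simultaneously -/
lemma exists_twist (𝒳 : Set (Matrix (Fin m) (Fin m) F)) (hgen : Algebra.adjoin F 𝒳 = ⊤)
    (hunit : ∀ R ∈ 𝒳, IsUnit R.det) (𝒮 : Set (Matrix (Fin m) (Fin m) F))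
    (hS : ∀ B ∈ 𝒮, ∀ R ∈ 𝒳, Rᵀ * B * R.map σ = B) (A : Matrix (Fin m) (Fin m) F) :
    ∃ A' : Matrix (Fin m) (Fin m) F, ∀ B ∈ 𝒮, A' * B = B * A.map σ := by
  have hA : A ∈ Algebra.adjoin F 𝒳 := by rw [hgen]; exact Algebra.mem_top
  induction hA using Algebra.adjoin_induction with
  | mem R hR =>
    refine ⟨(Rᵀ)⁻¹, fun B hB => ?_⟩
    have hu : IsUnit (Rᵀ).det := by rw [Matrix.det_transpose]; exact hunit R hR
    have h := hS B hB R hR
    calc (Rᵀ)⁻¹ * B = (Rᵀ)⁻¹ * (Rᵀ * B * R.map σ) := by rw [h]
      _ = ((Rᵀ)⁻¹ * Rᵀ) * B * R.map σ := by simp only [mul_assoc]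
      _ = B * R.map σ := by rw [Matrix.nonsing_inv_mul _ hu, one_mul]
  | algebraMap c =>
    refine ⟨algebraMap F _ (σ c), fun B hB => ?_⟩
    have : (algebraMap F (Matrix (Fin m) (Fin m) F) c).map σ = algebraMap F _ (σ c) := by
      ext j k
      rw [Matrix.map_apply, Matrix.algebraMap_matrix_apply, Matrix.algebraMap_matrix_apply]
      by_cases h : j = k
      · rw [if_pos h, if_pos h]; rfl
      · rw [if_neg h, if_neg h, map_zero]
    rw [this, Algebra.commutes]
  | add A₁ A₂ _ _ ih₁ ih₂ =>
    obtain ⟨A₁', h₁⟩ := ih₁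
    obtain ⟨A₂', h₂⟩ := ih₂
    refine ⟨A₁' + A₂', fun B hB => ?_⟩
    have hmap : (A₁ + A₂).map σ = A₁.map σ + A₂.map σ := by
      ext j k
      simp
    rw [hmap, add_mul, mul_add, h₁ B hB, h₂ B hB]
  | mul A₁ A₂ _ _ ih₁ ih₂ =>
    obtain ⟨A₁', h₁⟩ := ih₁
    obtain ⟨A₂', h₂⟩ := ih₂
    refine ⟨A₁' * A₂', fun B hB => ?_⟩
    rw [Matrix.map_mul, mul_assoc, h₂ B hB, ← mul_assoc, h₁ B hB, mul_assoc]

/-- Schur: the invariant matrices form a space of dimension at most one -/
lemma schur_core (𝒳 : Set (Matrix (Fin m) (Fin m) F)) (hgen : Algebra.adjoin F 𝒳 = ⊤)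
    (hunit : ∀ R ∈ 𝒳, IsUnit R.det) (𝒮 : Set (Matrix (Fin m) (Fin m) F))
    (hS : ∀ B ∈ 𝒮, ∀ R ∈ 𝒳, Rᵀ * B * R.map σ = B)
    (B₀ : Matrix (Fin m) (Fin m) F) (hB₀ : B₀ ∈ 𝒮) (a₀ b₀ : Fin m) (h₀ : B₀ a₀ b₀ ≠ 0)
    (B : Matrix (Fin m) (Fin m) F) (hB : B ∈ 𝒮) : B = (B a₀ b₀ / B₀ a₀ b₀) • B₀ := by
  have htw := exists_twist 𝒳 hgen hunit 𝒮 hS
  -- `B₀` is invertible
  have hdet : B₀.det ≠ 0 := by
    intro hd
    obtain ⟨v, hv0, hv⟩ := Matrix.exists_mulVec_eq_zero_iff.mpr hd
    obtain ⟨b, hb⟩ : ∃ b, v b ≠ 0 := by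
      by_contra hne
      push_neg at hne
      exact hv0 (funext hne)
    have hcol : ∀ a a', B₀ a' a = 0 := by
      intro a a'
      obtain ⟨A', hA'⟩ := htw (Matrix.single a b (1 : F))
      have h1 := hA' B₀ hB₀
      rw [map_single_one] at h1
      have h2 : (B₀ * Matrix.single a b (1 : F)) *ᵥ v = 0 := by
        rw [← h1, ← Matrix.mulVec_mulVec, hv, Matrix.mulVec_zero]
      rw [← Matrix.mulVec_mulVec, Matrix.single_mulVec, one_mul] at h2
      have h3 := congrFun h2 a'
      rw [Matrix.mulVec, dotProduct, Finset.sum_eq_single a] at h3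
      · rw [Function.update_self, Pi.zero_apply] at h3
        exact (mul_eq_zero.mp h3).resolve_right hb
      · intro j _ hj
        rw [Function.update_of_ne hj, Pi.zero_apply, mul_zero]
      · intro h; exact absurd (Finset.mem_univ a) h
    exact h₀ (hcol b₀ a₀)
  have hu : IsUnit B₀.det := isUnit_iff_ne_zero.mpr hdet
  -- `C := B₀⁻¹ * B` commutes with all matrix units
  have hcomm : ∀ a b, Commute (Matrix.single a b (1 : F)) (B₀⁻¹ * B) := by
    intro a b
    obtain ⟨A', hA'⟩ := htw (Matrix.single a b (1 : F))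
    have h1 := hA' B₀ hB₀
    have h2 := hA' B hB
    rw [map_single_one] at h1 h2
    -- A' = B₀ * E * B₀⁻¹
    have hA'eq : A' = B₀ * Matrix.single a b (1 : F) * B₀⁻¹ := by
      rw [← h1, mul_assoc, Matrix.mul_nonsing_inv _ hu, mul_one]
    show Matrix.single a b (1 : F) * (B₀⁻¹ * B) = B₀⁻¹ * B * Matrix.single a b (1 : F)
    calc Matrix.single a b (1 : F) * (B₀⁻¹ * B)
        = (B₀⁻¹ * B₀) * Matrix.single a b (1 : F) * B₀⁻¹ * B := by
          rw [Matrix.nonsing_inv_mul _ hu, one_mul, mul_assoc]
      _ = B₀⁻¹ * (B₀ * Matrix.single a b (1 : F) * B₀⁻¹) * B := by simp only [mul_assoc]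
      _ = B₀⁻¹ * (A' * B) := by rw [← hA'eq, mul_assoc]
      _ = B₀⁻¹ * B * Matrix.single a b (1 : F) := by rw [h2, mul_assoc]
  obtain ⟨c, hc⟩ := Matrix.mem_range_scalar_of_commute_single (fun a b _ => hcomm a b)
  have hBc : B = c • B₀ := by
    have : B = B₀ * (B₀⁻¹ * B) := by rw [← mul_assoc, Matrix.mul_nonsing_inv _ hu, one_mul]
    rw [this, ← hc]
    ext j k
    rw [Matrix.smul_apply, smul_eq_mul, Matrix.scalar_apply, Matrix.mul_apply, Finset.sum_eq_single k]
    · rw [Matrix.diagonal_apply_eq, mul_comm]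
    · intro l _ hl
      rw [Matrix.diagonal_apply_ne _ hl, mul_zero]
    · intro h; exact absurd (Finset.mem_univ k) h
  have hcval : c = B a₀ b₀ / B₀ a₀ b₀ := by
    have := congrFun (congrFun hBc a₀) b₀
    rw [Matrix.smul_apply, smul_eq_mul] at this
    rw [this]
    field_simp
  rw [← hcval]
  exact hBc

end schur

section slotcalc
variable {m r : ℕ}

lemma slot_transpose' (i : Fin r) (A : Matrix (Fin m) (Fin m) F) :
    (slot m r i A)ᵀ = slot m r i Aᵀ := by
  ext x y
  rw [Matrix.transpose_apply, slot_apply, slot_apply, Matrix.transpose_apply]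
  by_cases h : ∀ j, j ≠ i → y j = x j
  · rw [if_pos h, if_pos (fun j hj => (h j hj).symm)]
  · rw [if_neg h, if_neg (fun h' => h (fun j hj => (h' j hj).symm))]

lemma slot_map (σ : F →+* F) (i : Fin r) (A : Matrix (Fin m) (Fin m) F) :
    (slot m r i A).map σ = slot m r i (A.map σ) := by
  ext x y
  rw [Matrix.map_apply, slot_apply, slot_apply]
  by_cases h : ∀ j, j ≠ i → x j = y j
  · rw [if_pos h, if_pos h, Matrix.map_apply]
  · rw [if_neg h, if_neg h, map_zero]

/-- left multiplication by a slot matrix, entrywise -/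
lemma slot_mul_apply (i : Fin r) (A : Matrix (Fin m) (Fin m) F)
    (K : Matrix (Fin r → Fin m) (Fin r → Fin m) F) (x y : Fin r → Fin m) :
    (slot m r i A * K) x y = ∑ a, A (x i) a * K (Function.update x i a) y := by
  have h := Cfsg.Agent.Lib.Helper12.TWLeaf.slot_mulVec_apply (F := F) i A (fun x' => K x' y) x
  rw [← h]
  rfl

/-- right multiplication by a slot matrix, entrywise -/
lemma mul_slot_apply (i : Fin r) (A : Matrix (Fin m) (Fin m) F)
    (K : Matrix (Fin r → Fin m) (Fin r → Fin m) F) (x y : Fin r → Fin m) :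
    (K * slot m r i A) x y = ∑ b, K x (Function.update y i b) * A b (y i) := by
  have h1 : (K * slot m r i A) x y = ((slot m r i A)ᵀ * Kᵀ) y x := by
    rw [← Matrix.transpose_mul, Matrix.transpose_apply]
  rw [h1, slot_transpose', slot_mul_apply]
  apply Finset.sum_congr rfl
  intro b _
  rw [Matrix.transpose_apply, Matrix.transpose_apply, mul_comm]

end slotcalc

/-- (PRF3) THE CORE, one slot: a matrix invariant under slot `i` factors through slot `i`. -/
theorem slot_factor_of_invariant {σ : F →+* F} {m r : ℕ} (i : Fin r)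
    (J' : Matrix (Fin r → Fin m) (Fin r → Fin m) F)
    (𝒳 : Set (Matrix (Fin m) (Fin m) F)) (hgen : Algebra.adjoin F 𝒳 = ⊤) (hunit : ∀ R ∈ 𝒳, IsUnit R.det)
    (hfix : ∀ R ∈ 𝒳, (slot m r i R)ᵀ * J' * (slot m r i R).map σ = J') :
    ∃ (G : Matrix (Fin m) (Fin m) F) (K : Matrix (Fin r → Fin m) (Fin r → Fin m) F),
      (∀ x y a b, K (Function.update x i a) (Function.update y i b) = K x y) ∧
      ∀ x y, J' x y = G (x i) (y i) * K x y := by
  by_cases h0 : ∀ x y, J' x y = 0
  · exact ⟨0, 0, fun _ _ _ _ => rfl, fun x y => by rw [h0, Matrix.zero_apply, zero_mul]⟩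
  · push_neg at h0
    obtain ⟨x0, y0, h00⟩ := h0
    -- the blocks
    let Bl : (Fin r → Fin m) → (Fin r → Fin m) → Matrix (Fin m) (Fin m) F :=
      fun u v => Matrix.of fun a b => J' (Function.update u i a) (Function.update v i b)
    have hBl : ∀ u v a b, Bl u v a b = J' (Function.update u i a) (Function.update v i b) :=
      fun _ _ _ _ => rfl
    have hinv : ∀ u v, ∀ R ∈ 𝒳, Rᵀ * Bl u v * R.map σ = Bl u v := by
      intro u v R hR
      ext a b
      have h := congrFun (congrFun (hfix R hR) (Function.update u i a)) (Function.update v i b)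
      rw [slot_map, mul_slot_apply] at h
      rw [hBl, ← h, Matrix.mul_apply]
      apply Finset.sum_congr rfl
      intro b' _
      rw [Function.update_self, Function.update_idem]
      congr 1
      rw [slot_transpose', slot_mul_apply, Matrix.mul_apply]
      apply Finset.sum_congr rfl
      intro a' _
      rw [Function.update_self, Function.update_idem, hBl]
    set 𝒮 : Set (Matrix (Fin m) (Fin m) F) := {B | ∃ u v, B = Bl u v} with h𝒮
    have hS : ∀ B ∈ 𝒮, ∀ R ∈ 𝒳, Rᵀ * B * R.map σ = B := by
      rintro B ⟨u, v, rfl⟩ R hR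
      exact hinv u v R hR
    have h₀ : Bl x0 y0 (x0 i) (y0 i) ≠ 0 := by
      rw [hBl, Function.update_eq_self, Function.update_eq_self]
      exact h00
    have hsch := schur_core 𝒳 hgen hunit 𝒮 hS (Bl x0 y0) ⟨x0, y0, rfl⟩ (x0 i) (y0 i) h₀
    refine ⟨Bl x0 y0, Matrix.of fun x y => Bl x y (x0 i) (y0 i) / Bl x0 y0 (x0 i) (y0 i), ?_, ?_⟩
    · intro x y a b
      simp only [Matrix.of_apply, hBl, Function.update_idem]
    · intro x y
      have h1 := hsch (Bl x y) ⟨x, y, rfl⟩
      have h2 : J' x y = Bl x y (x i) (y i) := by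
        rw [hBl, Function.update_eq_self, Function.update_eq_self]
      rw [h2, h1, Matrix.smul_apply, smul_eq_mul, Matrix.of_apply, mul_comm]

end Cfsg.Agent.Lib.Helper19.AFLeaf
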