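/-
Helper19 library: a concrete model `F8` of the field with eight elements (polynomials over `ZMod 2` modulo
`x³ + x + 1`, coefficients stored as the binary digits of an element of `Fin 8`), with decidable equality and
kernel-friendly arithmetic.
-/
import Mathlib

set_option autoImplicit false

namespace Cfsg.Agent.Lib.Helper19.F8Model

/-- the field with eight elements. -/
structure F8 where
  /-- the coefficients as binary digits. -/
  v : Fin 8
  deriving DecidableEq, Fintype

/-- carry-less multiplication followed by reduction modulo `x³ + x + 1`. -/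
def mulN (a b : ℕ) : ℕ :=
  let r := (if a.testBit 0 then b else 0) ^^^ (if a.testBit 1 then 2 * b else 0) ^^^
    (if a.testBit 2 then 4 * b else 0)
  let r1 := if r.testBit 4 then r ^^^ 22 else r
  if r1.testBit 3 then r1 ^^^ 11 else r1

/-- from natural numbers. -/
def toF8 (n : ℕ) : F8 := ⟨Fin.ofNat 8 n⟩

/-- addition. -/
def F8.add (a b : F8) : F8 := toF8 (a.v.val ^^^ b.v.val)

/-- multiplication. -/
def F8.mul (a b : F8) : F8 := toF8 (mulN a.v.val b.v.val)

/-- inversion (the sixth power). -/
def F8.inv (a : F8) : F8 :=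
  F8.mul a (F8.mul a (F8.mul a (F8.mul a (F8.mul a a))))

instance : Zero F8 := ⟨toF8 0⟩
instance : One F8 := ⟨toF8 1⟩
instance : Add F8 := ⟨F8.add⟩
instance : Mul F8 := ⟨F8.mul⟩
instance : Neg F8 := ⟨id⟩
instance : Inv F8 := ⟨F8.inv⟩

theorem add_assoc' : ∀ a b c : F8, a + b + c = a + (b + c) := by decide
theorem zero_add' : ∀ a : F8, 0 + a = a := by decide
theorem add_zero' : ∀ a : F8, a + 0 = a := by decide
theorem add_comm' : ∀ a b : F8, a + b = b + a := by decide
theorem neg_add' : ∀ a : F8, -a + a = 0 := by decide
theorem mul_assoc' : ∀ a b c : F8, a * b * c = a * (b * c) := by decide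
theorem one_mul' : ∀ a : F8, 1 * a = a := by decide
theorem mul_one' : ∀ a : F8, a * 1 = a := by decide
theorem mul_comm' : ∀ a b : F8, a * b = b * a := by decide
theorem left_distrib' : ∀ a b c : F8, a * (b + c) = a * b + a * c := by decide
theorem right_distrib' : ∀ a b c : F8, (a + b) * c = a * c + b * c := by decide
theorem zero_mul' : ∀ a : F8, 0 * a = 0 := by decide
theorem mul_zero' : ∀ a : F8, a * 0 = 0 := by decide
theorem mul_inv' : ∀ a : F8, a ≠ 0 → a * a⁻¹ = 1 := by decide
theorem inv_zero' : (0 : F8)⁻¹ = 0 := by decide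

instance : Field F8 where
  add_assoc := add_assoc'
  zero_add := zero_add'
  add_zero := add_zero'
  add_comm := add_comm'
  neg_add_cancel := neg_add'
  mul_assoc := mul_assoc'
  one_mul := one_mul'
  mul_one := mul_one'
  mul_comm := mul_comm'
  left_distrib := left_distrib'
  right_distrib := right_distrib'
  zero_mul := zero_mul'
  mul_zero := mul_zero'
  nsmul := nsmulRec
  zsmul := zsmulRec
  exists_pair_ne := ⟨0, 1, by decide⟩
  mul_inv_cancel := mul_inv'
  inv_zero := inv_zero'
  nnqsmul := _
  nnqsmul_def := fun _ _ => rfl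
  qsmul := _
  qsmul_def := fun _ _ => rfl

theorem card_F8 : Fintype.card F8 = 8 := by decide

/-- decoding of a list of four elements as a `2 × 2` matrix. -/
def decU (l : List ℕ) : Matrix (Fin 2) (Fin 2) F8 :=
  Matrix.of fun i j => toF8 (l.getD (2 * i.val + j.val) 0)

end Cfsg.Agent.Lib.Helper19.F8Model
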