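import Mathlib
import Cfsg.Agent.Lib.Helper15.AschUCtx
import Cfsg.Agent.Lib.Helper18.AschA89Defs
import Cfsg.Agent.Lib.Helper17.UAE3Defs
import Cfsg.Agent.Lib.Helper24.AschUNIL
import Cfsg.Agent.Lib.Helper12.TWTS
import Cfsg.Agent.Lib.Helper17.UAE3W

/-!
S5663 SUB-BLOCK E3 (sub-planner helper17), packet E3-R3 (helper19): symplectic type of `Rstd`, CORE forms
(the leaves of the packets E3-R1 / E3-R2 enter as hypotheses) + the EXACT leaf R3b `slotFo_conj`.
`pow_three_Rstd_core` (R3a), `slotFo_conj_core` / `slotFo_conj` (R3b), `cyclic_of_char_Rstd_core` (R3c), `isUnit_Fo`.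
The exact leaves R3a / R3c are in `Cfsg.Agent.Lib.Helper19.UAE3R3`.
-/

set_option autoImplicit false
set_option linter.unusedSectionVars false
set_option linter.unusedVariables false

namespace Cfsg.Agent.Lib.Helper19.UAE3Leaf
open Matrix Cfsg Cfsg.Geo Cfsg.Agent.Lib.Helper20.Asch
open Cfsg.Agent.Lib.Helper15.AschU Cfsg.Agent.Lib.Helper15.AschForm Cfsg.Agent.Lib.Helper18.AschA89
open Cfsg.Agent.Lib.Helper17.E3

variable {F : Type*} [Field F] [Fintype F]

/-! ### R3b -/

/-- core of R3b -/
theorem slotFo_conj_core {ω : F}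
    (hadd : ∀ x y : Fin 3, wp ω (x + y) = wp ω x * wp ω y)
    (hFoW : ∀ a b : Fin 3, Fo ω * W ω a b = (wp ω (a * b) • W ω b (-a)) * Fo ω)
    {t : ℕ} (i : Fin t) (c : Fin 3) (a b : Fin t → Fin 3) :
    slot 3 t i (Fo ω) * T ω c a b =
      T ω (c + a i * b i) (Function.update a i (b i)) (Function.update b i (- a i)) * slot 3 t i (Fo ω) := by
  unfold T
  rw [Matrix.mul_smul, Matrix.smul_mul, Cfsg.Agent.Lib.Helper12.TWLeaf.slot_mul_ptens,
    Cfsg.Agent.Lib.Helper12.TWLeaf.ptens_mul_slot, hadd, mul_smul]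
  congr 1
  -- the `i`-th factor
  have h1 : Function.update (fun j => W ω (a j) (b j)) i (Fo ω * W ω (a i) (b i)) =
      fun j => (if j = i then wp ω (a i * b i) else 1) •
        Function.update (fun j => W ω (Function.update a i (b i) j) (Function.update b i (- a i) j)) i
          (W ω (Function.update a i (b i) i) (Function.update b i (- a i) i) * Fo ω) j := by
    funext j
    by_cases hj : j = i
    · subst hj
      rw [Function.update_self, Function.update_self, Function.update_self, Function.update_self, if_pos rfl, hFoW,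
        Matrix.smul_mul]
    · rw [Function.update_of_ne hj, Function.update_of_ne hj, Function.update_of_ne hj, Function.update_of_ne hj,
        if_neg hj, one_smul]
  rw [h1, Cfsg.Agent.Lib.Helper20.AschLeaf.ptens_smul]
  congr 1
  rw [Finset.prod_ite_eq' Finset.univ i (fun _ => wp ω (a i * b i))]
  simp

/-- R3b: THE AUTOMORPHISM: conjugation by the Fourier matrix in slot `i` -/
theorem slotFo_conj (hF : Fintype.card F = 2 ^ 2) {ω : F} (hω : ω ^ 2 + ω + 1 = 0) {t : ℕ} (i : Fin t)
    (c : Fin 3) (a b : Fin t → Fin 3) :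
    slot 3 t i (Fo ω) * T ω c a b =
      T ω (c + a i * b i) (Function.update a i (b i)) (Function.update b i (- a i)) * slot 3 t i (Fo ω) :=
  slotFo_conj_core (Cfsg.Agent.Lib.Helper17.UAE3Leaf.wp_add hω) (Cfsg.Agent.Lib.Helper17.UAE3Leaf.Fo_W hF hω) i c a b

/-- the Fourier matrix is invertible -/
lemma isUnit_Fo (hF : Fintype.card F = 2 ^ 2) {ω : F} (hω : ω ^ 2 + ω + 1 = 0) : IsUnit (Fo ω) := by
  obtain ⟨σ, hσ⟩ := exists_isFrob (q := 2) hF
  have h := Cfsg.Agent.Lib.Helper17.UAE3Leaf.Fo_unitary hF hω hσ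
  have h1 : IsUnit (Fo ω)ᵀ.det := Matrix.isUnit_det_of_right_inverse h
  rw [Matrix.det_transpose] at h1
  exact (Matrix.isUnit_iff_isUnit_det _).mpr h1

/-! ### R3a -/

lemma fin3_cube_aux (x y : Fin 3) : x * y + x * (y + y) = 0 := by
  revert x y; decide

lemma fin3_triple (x : Fin 3) : x + x + x = 0 := by
  revert x; decide

/-- core of R3a -/
theorem pow_three_Rstd_core {ω : F} {t : ℕ}
    (hmem : ∀ g : GL (Fin t → Fin 3) F, g ∈ Rstd ω t → ∃ (c : Fin 3) (a b : Fin t → Fin 3),
      (g : Matrix (Fin t → Fin 3) (Fin t → Fin 3) F) = T ω c a b)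
    (hmul : ∀ (c c' : Fin 3) (a b a' b' : Fin t → Fin 3),
      T ω c a b * T ω c' a' b' = T ω (c + c' - ∑ i, a' i * b i) (a + a') (b + b'))
    (hone : T ω (0 : Fin 3) (0 : Fin t → Fin 3) 0 = 1)
    (g : Rstd ω t) : g ^ 3 = 1 := by
  obtain ⟨c, a, b, h⟩ := hmem g.1 g.2
  apply Subtype.ext
  apply Units.ext
  rw [Subgroup.coe_pow, Units.val_pow_eq_pow_val, Subgroup.coe_one, Units.val_one, h, pow_succ, pow_two, hmul, hmul,
    ← hone]
  have e1 : a + a + a = 0 := by funext i; exact fin3_triple (a i)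
  have e2 : b + b + b = 0 := by funext i; exact fin3_triple (b i)
  have e3 : c + c - ∑ i, a i * b i + c - ∑ i, a i * (b + b) i = 0 := by
    have : ∑ i, a i * b i + ∑ i, a i * (b + b) i = 0 := by
      rw [← Finset.sum_add_distrib]
      exact Finset.sum_eq_zero fun i _ => fin3_cube_aux (a i) (b i)
    have hc := fin3_triple c
    calc c + c - ∑ i, a i * b i + c - ∑ i, a i * (b + b) i
        = (c + c + c) - (∑ i, a i * b i + ∑ i, a i * (b + b) i) := by abel
      _ = 0 := by rw [this, hc, sub_zero]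
  rw [e1, e2, e3]

/-! ### R3c -/

lemma fin3_sq_aux (x y : Fin 3) (h : x * (-x) - y * y = 0) : x = 0 ∧ y = 0 := by
  revert x y; decide

/-- the element of `GL` with matrix `slot i B`, `B` invertible -/
noncomputable def slotUnit {t : ℕ} (i : Fin t) (B : Matrix (Fin 3) (Fin 3) F) (hB : IsUnit B) :
    GL (Fin t → Fin 3) F :=
  ⟨slot 3 t i B, slot 3 t i (↑(hB.unit⁻¹) : Matrix (Fin 3) (Fin 3) F),
    by rw [← Cfsg.Agent.Lib.Helper6.TWQ.slot_mul, IsUnit.mul_val_inv, Cfsg.Agent.Lib.Helper6.TWQ.slot_one],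
    by rw [← Cfsg.Agent.Lib.Helper6.TWQ.slot_mul, IsUnit.val_inv_mul, Cfsg.Agent.Lib.Helper6.TWQ.slot_one]⟩

lemma slotUnit_val {t : ℕ} (i : Fin t) (B : Matrix (Fin 3) (Fin 3) F) (hB : IsUnit B) :
    ((slotUnit i B hB : GL (Fin t → Fin 3) F) : Matrix (Fin t → Fin 3) (Fin t → Fin 3) F) = slot 3 t i B := rfl

/-- an element of `GL` that maps a finite subgroup into itself by conjugation induces an automorphism of it -/
noncomputable def conjAut {G : Type*} [Group G] (S : Subgroup G) [Finite S] (P : G)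
    (hP : ∀ g ∈ S, P * g * P⁻¹ ∈ S) : S ≃* S :=
  MulEquiv.ofBijective
    (((MulAut.conj P).toMonoidHom.comp S.subtype).codRestrict S (fun g => hP g.1 g.2))
    (by
      have hinj : Function.Injective
          (((MulAut.conj P).toMonoidHom.comp S.subtype).codRestrict S (fun g => hP g.1 g.2)) := by
        intro g h hgh
        have := congrArg Subtype.val hgh
        apply Subtype.ext
        exact (MulAut.conj P).injective this
      exact ⟨hinj, Finite.injective_iff_surjective.mp hinj⟩)

lemma conjAut_val {G : Type*} [Group G] (S : Subgroup G) [Finite S] (P : G)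
    (hP : ∀ g ∈ S, P * g * P⁻¹ ∈ S) (g : S) : ((conjAut S P hP g : S) : G) = P * g * P⁻¹ := rfl

/-- core of R3c -/
theorem cyclic_of_char_Rstd_core {ω : F} {t : ℕ}
    (hmem : ∀ g : GL (Fin t → Fin 3) F, g ∈ Rstd ω t ↔ ∃ (c : Fin 3) (a b : Fin t → Fin 3),
      (g : Matrix (Fin t → Fin 3) (Fin t → Fin 3) F) = T ω c a b)
    (hcomm : ∀ (c c' : Fin 3) (a b a' b' : Fin t → Fin 3),
      T ω c a b * T ω c' a' b' = wp ω (∑ i, (a i * b' i - a' i * b i)) • (T ω c' a' b' * T ω c a b))
    (hone_iff : ∀ x : Fin 3, wp ω x = 1 ↔ x = 0)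
    (hcen : ∀ g : Rstd ω t, g ∈ Subgroup.center (Rstd ω t) ↔
      ∃ c : Fin 3, ((g : GL (Fin t → Fin 3) F) : Matrix (Fin t → Fin 3) (Fin t → Fin 3) F) = T ω c 0 0)
    (hcard : Nat.card (Subgroup.center (Rstd ω t)) = 3)
    (hconj : ∀ (i : Fin t) (c : Fin 3) (a b : Fin t → Fin 3),
      slot 3 t i (Fo ω) * T ω c a b =
        T ω (c + a i * b i) (Function.update a i (b i)) (Function.update b i (- a i)) * slot 3 t i (Fo ω))
    (hFo : IsUnit (Fo ω))
    (A : Subgroup (Rstd ω t)) (hA : A.Characteristic) (hab : IsMulCommutative A) : IsCyclic A := by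
  classical
  -- conjugation by `slot i (Fo ω)` maps `Rstd` into itself
  have hnorm : ∀ (i : Fin t) (g : GL (Fin t → Fin 3) F), g ∈ Rstd ω t →
      slotUnit i (Fo ω) hFo * g * (slotUnit i (Fo ω) hFo)⁻¹ ∈ Rstd ω t := by
    intro i g hg
    obtain ⟨c, a, b, h⟩ := (hmem g).mp hg
    refine (hmem _).mpr ⟨c + a i * b i, Function.update a i (b i), Function.update b i (- a i), ?_⟩
    rw [Units.val_mul, Units.val_mul, slotUnit_val, h, hconj, Matrix.mul_assoc, ← slotUnit_val i (Fo ω) hFo,
      ← Units.val_mul, mul_inv_cancel, Units.val_one, Matrix.mul_one]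
  -- the key claim
  have hkey : ∀ x ∈ A, ∀ (c : Fin 3) (a b : Fin t → Fin 3),
      ((x : GL (Fin t → Fin 3) F) : Matrix (Fin t → Fin 3) (Fin t → Fin 3) F) = T ω c a b → a = 0 ∧ b = 0 := by
    intro x hx c a b h
    suffices hi : ∀ i, a i = 0 ∧ b i = 0 from
      ⟨funext fun i => (hi i).1, funext fun i => (hi i).2⟩
    intro i
    set φ := conjAut (Rstd ω t) (slotUnit i (Fo ω) hFo) (hnorm i) with hφ
    have hφx : φ x ∈ A := by
      have := hA.fixed φ
      rw [← this] at hx
      exact hx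
    have hφval : (((φ x : Rstd ω t) : GL (Fin t → Fin 3) F) : Matrix (Fin t → Fin 3) (Fin t → Fin 3) F) =
        T ω (c + a i * b i) (Function.update a i (b i)) (Function.update b i (- a i)) := by
      rw [hφ, conjAut_val, Units.val_mul, Units.val_mul, slotUnit_val, h, hconj, Matrix.mul_assoc,
        ← slotUnit_val i (Fo ω) hFo, ← Units.val_mul, mul_inv_cancel, Units.val_one, Matrix.mul_one]
    have hc : x * φ x = φ x * x := by
      have := hab.is_comm.comm ⟨x, hx⟩ ⟨φ x, hφx⟩
      exact congrArg Subtype.val this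
    have hc' : T ω c a b * T ω (c + a i * b i) (Function.update a i (b i)) (Function.update b i (- a i)) =
        T ω (c + a i * b i) (Function.update a i (b i)) (Function.update b i (- a i)) * T ω c a b := by
      rw [← h, ← hφval, ← Units.val_mul, ← Units.val_mul, ← Subgroup.coe_mul, ← Subgroup.coe_mul, hc]
    rw [hcomm] at hc'
    have hs : (∑ j, (a j * Function.update b i (- a i) j - Function.update a i (b i) j * b j)) =
        a i * (- a i) - b i * b i := by
      rw [Finset.sum_eq_single i]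
      · rw [Function.update_self, Function.update_self]
      · intro j _ hj
        rw [Function.update_of_ne hj, Function.update_of_ne hj, sub_self]
      · intro hi
        exact absurd (Finset.mem_univ i) hi
    rw [hs] at hc'
    -- the product is invertible
    have hunit : IsUnit (T ω (c + a i * b i) (Function.update a i (b i)) (Function.update b i (- a i)) * T ω c a b) := by
      rw [← h, ← hφval, ← Units.val_mul]
      exact Units.isUnit _
    have h1 : wp ω (a i * (- a i) - b i * b i) = 1 := by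
      obtain ⟨u, hu⟩ := hunit
      rw [← hu] at hc'
      have h2 := congrArg (fun M => M * (↑(u⁻¹) : Matrix (Fin t → Fin 3) (Fin t → Fin 3) F)) hc'
      simp only [Matrix.smul_mul, Units.mul_inv] at h2
      -- `1 = wp • 1`
      have h3 := congrFun (congrFun h2 (fun _ => 0)) (fun _ => 0)
      rw [Matrix.smul_apply, Matrix.one_apply_eq, smul_eq_mul, mul_one] at h3
      exact h3
    exact fin3_sq_aux (a i) (b i) ((hone_iff _).mp h1)
  -- `A` is central
  have hle : A ≤ Subgroup.center (Rstd ω t) := by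
    intro x hx
    obtain ⟨c, a, b, h⟩ := (hmem x.1).mp x.2
    obtain ⟨ha, hb⟩ := hkey x hx c a b h
    rw [ha, hb] at h
    exact (hcen x).mpr ⟨c, h⟩
  have hdvd : Nat.card A ∣ 3 := by
    have := Subgroup.card_dvd_of_le hle
    rwa [hcard] at this
  rcases (Nat.dvd_prime Nat.prime_three).mp hdvd with h | h
  · have : Subsingleton A := (Nat.card_eq_one_iff_unique.mp h).1
    exact isCyclic_of_subsingleton
  · have : Fact (Nat.Prime 3) := ⟨Nat.prime_three⟩
    exact isCyclic_of_prime_card h

end Cfsg.Agent.Lib.Helper19.UAE3Leaf
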