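/-
helper19: Bender–Glauberman 12.10(b), second assertion: every `τ₂(M)`-subgroup of a complement `E`
of `M_σ` in `M` is abelian.  Black-box corollary of S1350, S1408, S1414, S1416–S1420.
-/
import Mathlib
import Cfsg.Agent.Lib.Helper19.BG127D
import Cfsg.Agent.Lib.Helper1.Hall
import Cfsg.Agent.Lib.Helper9.FStar4
import Cfsg.Agent.Lib.Helper12.CNMinG
import Cfsg.Agent.S1414
import Cfsg.Agent.S1416
import Cfsg.Agent.S1417
import Cfsg.Agent.S1418
import Cfsg.Agent.S1419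
import Cfsg.Agent.S1420

set_option autoImplicit false
set_option linter.unusedSectionVars false
set_option linter.unusedVariables false

namespace Cfsg.Agent.Lib.Helper19.BG1210

open Cfsg Subgroup
open scoped Pointwise
open Cfsg.Agent.Lib.Helper8 (mem_map_conj conj_mem_map_conj map_conj_map_conj map_conj_one
  map_conj_le_iff map_conj_eq_iff card_map_conj mem_normalizer_iff_map_conj map_conj_eq_of_le)
open Cfsg.Agent.Lib.Helper19.BG127

variable {G : Type*} [Group G] [Finite G]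

/-- a Sylow `p`-subgroup of `G` contained in `H` with `N_G(P) ≤ H` puts `p` in `σ(H)`. -/
theorem mem_sigma_of_sylow {H : Subgroup G} {p : ℕ} [Fact p.Prime] (Ps : Sylow p G)
    (hPH : (Ps : Subgroup G) ≤ H) (hP1 : (Ps : Subgroup G) ≠ ⊥)
    (hN : normalizer (((Ps : Subgroup G)) : Set G) ≤ H) : p ∈ Cfsg.sigma H := by
  have hpp : p.Prime := Fact.out
  obtain ⟨Q, hQ⟩ := (Ps.2.comap_subtype (K := H)).exists_le_sylow
  have hle : (Ps : Subgroup G) ≤ (Q : Subgroup ↥H).map H.subtype := by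
    intro x hx
    exact ⟨⟨x, hPH hx⟩, hQ (Subgroup.mem_subgroupOf.mpr hx), rfl⟩
  have heq : (Q : Subgroup ↥H).map H.subtype = (Ps : Subgroup G) :=
    Ps.is_maximal' (Q.2.map H.subtype) hle
  refine ⟨hpp, ?_, Q, ?_⟩
  · obtain ⟨n, hn⟩ := IsPGroup.iff_card.mp Ps.2
    have hn0 : n ≠ 0 := by
      rintro rfl
      rw [pow_zero] at hn
      exact hP1 (Subgroup.card_eq_one.mp hn)
    have h1 : p ∣ Nat.card (Ps : Subgroup G) := hn ▸ dvd_pow_self p hn0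
    exact h1.trans (Subgroup.card_dvd_of_le hPH)
  · rw [heq]; exact hN

/-- commutativity of Sylow subgroups is a conjugacy invariant. -/
theorem sylow_comm_of_comm {p : ℕ} [Fact p.Prime] {S₀ S : Sylow p G}
    (h : IsMulCommutative (S : Subgroup G)) : IsMulCommutative (S₀ : Subgroup G) := by
  obtain ⟨g, hg⟩ := MulAction.exists_smul_eq G S₀ S
  refine ⟨⟨?_⟩⟩
  rintro ⟨a, ha⟩ ⟨b, hb⟩
  apply Subtype.ext
  have ha' : g * a * g⁻¹ ∈ (S : Subgroup G) := by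
    rw [← hg, Cfsg.Agent.Lib.Helper1.mem_sylow_smul_iff]
    have e : g⁻¹ * (g * a * g⁻¹) * g = a := by group
    rw [e]; exact ha
  have hb' : g * b * g⁻¹ ∈ (S : Subgroup G) := by
    rw [← hg, Cfsg.Agent.Lib.Helper1.mem_sylow_smul_iff]
    have e : g⁻¹ * (g * b * g⁻¹) * g = b := by group
    rw [e]; exact hb
  have h1 : (g * a * g⁻¹) * (g * b * g⁻¹) = (g * b * g⁻¹) * (g * a * g⁻¹) :=
    congrArg Subtype.val (h.is_comm.comm ⟨_, ha'⟩ ⟨_, hb'⟩)
  show a * b = b * a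
  calc a * b = g⁻¹ * ((g * a * g⁻¹) * (g * b * g⁻¹)) * g := by group
    _ = g⁻¹ * ((g * b * g⁻¹) * (g * a * g⁻¹)) * g := by rw [h1]
    _ = b * a := by group

/-- an elementary abelian subgroup of order `q²` inside the complement `E`, for `q ∈ τ₂(M)`. -/
theorem exists_elemAb_le_compl (hG : Cfsg.IsMinSimpleOddOrder G) {M E : Subgroup G}
    (hM : IsCoatom M) (hE : Cfsg.IsComplIn E (Cfsg.sigmaCore M) M) {q : ℕ} [Fact q.Prime]
    (hq : q ∈ Cfsg.tau2 M) :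
    ∃ A : Subgroup G, A ≤ E ∧ Cfsg.IsElementaryAbelian q A ∧ Nat.card A = q ^ 2 := by
  obtain ⟨hq_prime, hqσ, -, hqr1⟩ := hq
  obtain ⟨A', hA'M, hA'e, hA'2⟩ := Cfsg.Agent.Lib.Helper23.BGY.exists_elemAb_sq hqr1
  have hHall := (Cfsg.Agent.S1350.result hG M hM).1
  obtain ⟨g, hgM, hgE⟩ := Cfsg.Agent.Lib.Helper2.BGCor.exists_conj_le_compl hG hM hHall hE
    hA'M (by
      intro r hr hrd
      rw [hA'2] at hrd
      rw [prime_eq_of_dvd_sq hq_prime hr hrd]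
      exact hqσ)
  exact ⟨_, hgE, elemAb_map_conj hA'e g, by rw [card_map_conj]; exact hA'2⟩

/-- a subgroup all of whose prime divisors equal `q` is a `q`-group. -/
theorem isPGroup_of_primes {X : Subgroup G} {q : ℕ} [Fact q.Prime]
    (h : ∀ r : ℕ, r.Prime → r ∣ Nat.card X → r = q) : IsPGroup q X := by
  have h1 := Nat.eq_prime_pow_of_unique_prime_dvd (n := Nat.card X) (p := q) Nat.card_pos.ne'
    (fun {d} hd hdd => h d hd hdd)
  exact IsPGroup.of_card h1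

/-- Case of a nonabelian Sylow `q`-subgroup. -/
theorem comm_of_nonabelian (hG : Cfsg.IsMinSimpleOddOrder G) {M E X : Subgroup G}
    (hM : IsCoatom M) (hE : Cfsg.IsComplIn E (Cfsg.sigmaCore M) M) (hXE : X ≤ E)
    (hX : ∀ q : ℕ, q.Prime → q ∣ Nat.card X → q ∈ Cfsg.tau2 M)
    {q : ℕ} [Fact q.Prime] (hq : q ∈ Cfsg.tau2 M) (S₀ : Sylow q G)
    (hS₀ : ¬ IsMulCommutative (S₀ : Subgroup G)) : IsMulCommutative X := by
  have hS : ∀ S : Sylow q G, ¬ IsMulCommutative (S : Subgroup G) :=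
    fun S h => hS₀ (sylow_comm_of_comm h)
  obtain ⟨A, hAE, hAe, hA2⟩ := exists_elemAb_le_compl hG hM hE hq
  have hAM : A ≤ M := hAE.trans hE.1
  have hτ := (Cfsg.Agent.S1419.result hG M hM E hE q hq hS A ⟨hAE, hAe, hA2⟩).1
  have hXq : IsPGroup q X := by
    apply isPGroup_of_primes
    intro r hr hrd
    have := hX r hr hrd
    rw [hτ] at this
    exact this
  have hXM : X ≤ M := hXE.trans hE.1
  obtain ⟨Q, hQ⟩ := (hXq.comap_subtype (K := M)).exists_le_sylow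
  have hQc := ((Cfsg.Agent.S1417.result hG M hM q hq A ⟨hAM, hAe, hA2⟩).2.1 Q).1
  refine ⟨⟨?_⟩⟩
  rintro ⟨a, ha⟩ ⟨b, hb⟩
  apply Subtype.ext
  have h1 := hQc.is_comm.comm ⟨⟨a, hXM ha⟩, hQ (Subgroup.mem_subgroupOf.mpr ha)⟩
    ⟨⟨b, hXM hb⟩, hQ (Subgroup.mem_subgroupOf.mpr hb)⟩
  have h2 : (⟨a, hXM ha⟩ : ↥M) * ⟨b, hXM hb⟩ = ⟨b, hXM hb⟩ * ⟨a, hXM ha⟩ :=
    congrArg Subtype.val h1
  have h3 : a * b = b * a := congrArg Subtype.val h2
  exact h3

/-- Case of abelian Sylow subgroups. -/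
theorem comm_of_abelian (hG : Cfsg.IsMinSimpleOddOrder G) {M E X : Subgroup G}
    (hM : IsCoatom M) (hE : Cfsg.IsComplIn E (Cfsg.sigmaCore M) M) (hXE : X ≤ E)
    (hX : ∀ q : ℕ, q.Prime → q ∣ Nat.card X → q ∈ Cfsg.tau2 M)
    (hab : ∀ (q : ℕ) [Fact q.Prime], q ∈ Cfsg.tau2 M → ∀ S : Sylow q G,
      IsMulCommutative (S : Subgroup G)) : IsMulCommutative X := by
  classical
  haveI hsimple : IsSimpleGroup G := hG.2.1
  have hnc := hG.2.2.1
  have hXM : X ≤ M := hXE.trans hE.1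
  by_cases hX1 : Nat.card X = 1
  · have hXbot := Subgroup.card_eq_one.mp hX1
    refine ⟨⟨?_⟩⟩
    rintro ⟨a, ha⟩ ⟨b, hb⟩
    apply Subtype.ext
    rw [hXbot, Subgroup.mem_bot] at ha hb
    show a * b = b * a
    rw [ha, hb]
  obtain ⟨p, hpp, hpX⟩ := Nat.exists_prime_and_dvd hX1
  haveI : Fact p.Prime := ⟨hpp⟩
  have hp : p ∈ Cfsg.tau2 M := hX p hpp hpX
  obtain ⟨A, hAE, hAe, hA2⟩ := exists_elemAb_le_compl hG hM hE hp
  have hAM : A ≤ M := hAE.trans hE.1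
  have h16 := (Cfsg.Agent.S1416.result hG M hM p A ⟨hAM, hAe, hA2⟩).1
  have h17 := Cfsg.Agent.S1417.result hG M hM p hp A ⟨hAM, hAe, hA2⟩
  have h18 := Cfsg.Agent.S1418.result hG M hM E hE p hp A ⟨hAE, hAe, hA2⟩
  have hAp : IsPGroup p A := elemAb_isPGroup hAe
  have hA1 : A ≠ ⊥ := by
    rintro rfl
    rw [Subgroup.card_bot] at hA2
    have : 1 < p ^ 2 := Nat.one_lt_pow (by norm_num) hpp.one_lt
    omega
  have hAtop : A ≠ ⊤ := Cfsg.Agent.Lib.Helper9.BG95Inv.ne_top_of_isPGroup hnc hAp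
  -- the Sylow subgroups
  obtain ⟨PM, hPM⟩ := (hAp.comap_subtype (K := M)).exists_le_sylow
  have hAP : A ≤ (PM : Subgroup M).map M.subtype := by
    intro a ha
    exact ⟨⟨a, hAM ha⟩, hPM (Subgroup.mem_subgroupOf.mpr ha), rfl⟩
  obtain ⟨Ps, hPPs⟩ := (PM.2.map M.subtype).exists_le_sylow
  have hAPs : A ≤ (Ps : Subgroup G) := hAP.trans hPPs
  have hPscomm := hab p hp Ps
  have hPsM : (Ps : Subgroup G) ≤ M := by
    intro x hx
    apply h16
    rw [Subgroup.mem_centralizer_iff]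
    intro a ha
    exact congrArg Subtype.val (hPscomm.is_comm.comm ⟨a, hAPs ha⟩ ⟨x, hx⟩)
  have hPeq : (PM : Subgroup M).map M.subtype = (Ps : Subgroup G) := by
    have h1 := PM.is_maximal' (Ps.2.comap_subtype (K := M))
      (fun x hx => Subgroup.mem_subgroupOf.mpr (hPPs ⟨x, hx, rfl⟩))
    apply le_antisymm hPPs
    intro x hx
    refine ⟨⟨x, hPsM hx⟩, ?_, rfl⟩
    rw [← h1]
    exact Subgroup.mem_subgroupOf.mpr hx
  have hNN : normalizer (((Ps : Subgroup G)) : Set G) ≤ normalizer (A : Set G) := by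
    intro g hg
    apply Cfsg.Agent.Lib.Helper1.mem_normalizer_of_forall_conj_mem
    intro a ha
    have h1 : g * a * g⁻¹ ∈ (Ps : Subgroup G) :=
      (Subgroup.mem_normalizer_iff.mp hg a).mp (hAPs ha)
    rw [← hPeq] at h1
    apply (((h17.2.1 PM).2 hAP).1 _ h1).mp
    rw [conj_pow, hAe.2 a ha, mul_one, mul_inv_cancel]
  -- the maximal subgroup `H ≥ N_G(A)`
  obtain ⟨H, hH, hNH⟩ := Cfsg.Agent.Lib.Helper17.BGU.exists_coatom_ge
    (Cfsg.Agent.Lib.Helper17.BGU.normalizer_ne_top hA1 hAtop)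
  have hHM : H ≠ M := fun h => h18.2.1.2.2 (h ▸ hNH)
  have hEH : E ≤ H := h18.1.1.trans hNH
  have hPsH : (Ps : Subgroup G) ≤ H := Subgroup.le_normalizer.trans (hNN.trans hNH)
  have hPs1 : (Ps : Subgroup G) ≠ ⊥ := fun h => hA1 (le_bot_iff.mp (h ▸ hAPs))
  have hpH : p ∈ Cfsg.sigma H := mem_sigma_of_sylow Ps hPsH hPs1 (hNN.trans hNH)
  have hPsσ : (Ps : Subgroup G) ≤ Cfsg.sigmaCore H := by
    apply Cfsg.Agent.Lib.Helper19.BG123.le_sigmaCore_of_primes hG hH hPsH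
    intro r hr hrd
    obtain ⟨n, hn⟩ := IsPGroup.iff_card.mp Ps.2
    rw [hn] at hrd
    rw [prime_eq_of_dvd_sq hpp hr hrd]
    exact hpH
  -- every prime of `X` lies in `σ(H)`
  have hqH : ∀ q : ℕ, q.Prime → q ∣ Nat.card X → q ∈ Cfsg.sigma H := by
    intro q hq hqX
    haveI : Fact q.Prime := ⟨hq⟩
    have hqτ := hX q hq hqX
    by_contra hqσ
    obtain ⟨Aq, hAqE, hAqe, hAq2⟩ := exists_elemAb_le_compl hG hM hE hqτ
    have hAqH : Aq ≤ H := hAqE.trans hEH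
    have hr1 : ¬ Cfsg.PRankLE q 1 ↥H :=
      Cfsg.Agent.Lib.Helper17.BGU.not_pRankLE_of_elemAb hAqH (elemAb_comm hAqe) hAqe.2 (by
        rw [hAq2, pow_one, pow_two]
        exact lt_mul_of_one_lt_left hq.pos hq.one_lt)
    have hτH := Cfsg.Agent.Lib.Helper23.BGY.mem_tau2_of_not_rank_one hG hH hq hqσ hr1
    have h17H := Cfsg.Agent.S1417.result hG H hH q hτH Aq ⟨hAqH, hAqe, hAq2⟩
    have h1 := h17H.2.2.2.2.1 M hM (Ne.symm hHM) (hAqE.trans hE.1)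
    have h2 : A ≤ Cfsg.sigmaCore H ⊓ M := le_inf (hAPs.trans hPsσ) hAM
    rw [h1] at h2
    exact hA1 (le_bot_iff.mp h2)
  have hXσ : X ≤ Cfsg.sigmaCore H :=
    Cfsg.Agent.Lib.Helper19.BG123.le_sigmaCore_of_primes hG hH (hXE.trans hEH) hqH
  -- the nilpotent Hall `β(H)'`-subgroup of `H_σ`
  obtain ⟨-, -, -, ⟨N, hN, hNnil⟩, -⟩ := Cfsg.Agent.S1414.result hG H hH
  obtain ⟨T, hTdef⟩ : ∃ T : Subgroup G, T = Cfsg.sigmaCore H := ⟨_, rfl⟩
  rw [← hTdef] at hN hXσ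
  have hTH : T ≤ H := hTdef ▸ Cfsg.Agent.Lib.Helper2.BGCor.sigmaCore_le H
  have hTtop : T ≠ ⊤ := fun h => hH.1 (top_le_iff.mp (h ▸ hTH))
  haveI hTsol : Group.IsSolvable ↥T := hG.2.2.2 T hTtop
  have hNT : N ≤ T := hN.1
  have hidx : (N.subgroupOf T).index = N.relIndex T := rfl
  have hcop1 : (Nat.card (N.subgroupOf T)).Coprime (N.subgroupOf T).index := by
    rw [hidx, Cfsg.Agent.Lib.Helper1.card_subgroupOf_of_le hNT]
    apply Nat.coprime_of_dvd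
    intro r hr h1 h2
    exact hN.2.2 r hr (hN.2.1 r hr h1) h2
  have hcop2 : (Nat.card (X.subgroupOf T)).Coprime (N.subgroupOf T).index := by
    rw [hidx, Cfsg.Agent.Lib.Helper1.card_subgroupOf_of_le hXσ]
    apply Nat.coprime_of_dvd
    intro r hr h1 h2
    haveI : Fact r.Prime := ⟨hr⟩
    have hrτ := hX r hr h1
    have hnotβ : r ∉ Cfsg.beta H := fun hβ =>
      (Cfsg.Agent.S1408.result hG M hM r hrτ.2.1 hrτ.2.2.1 hrτ.2.2.2).1 hβ.2
    exact hN.2.2 r hr ⟨hr, hnotβ⟩ h2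
  obtain ⟨g, hg⟩ := Cfsg.Agent.Lib.Helper1.hall_dominance _ ↥T rfl (N.subgroupOf T)
    (X.subgroupOf T) hcop1 hcop2
  have hXN : X ≤ N.map (MulAut.conj (g : G)).toMonoidHom := by
    intro x hx
    have hxg : (⟨x, hXσ hx⟩ : ↥T) ∈ MulAut.conj g • N.subgroupOf T :=
      hg (Subgroup.mem_subgroupOf.mpr hx)
    rw [Subgroup.mem_pointwise_smul_iff_inv_smul_mem] at hxg
    have hxg' : g⁻¹ * ⟨x, hXσ hx⟩ * g ∈ N.subgroupOf T := by
      have : (MulAut.conj g)⁻¹ • (⟨x, hXσ hx⟩ : ↥T) = g⁻¹ * ⟨x, hXσ hx⟩ * g := by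
        rw [← map_inv, MulAut.smul_def, MulAut.conj_apply, inv_inv]
      rwa [this] at hxg
    have h1 : ((g⁻¹ * ⟨x, hXσ hx⟩ * g : ↥T) : G) ∈ N := Subgroup.mem_subgroupOf.mp hxg'
    refine ⟨_, h1, ?_⟩
    simp only [MulEquiv.coe_toMonoidHom, MulAut.conj_apply]
    show (g : G) * ((g : G)⁻¹ * x * (g : G)) * (g : G)⁻¹ = x
    group
  have hXnil : Group.IsNilpotent ↥X :=
    Cfsg.Agent.Lib.Helper9.isNilpotent_of_le hXN
      (Cfsg.Agent.Lib.Helper12.CNMin.isNilpotent_map_conj N hNnil (g : G))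
  exact (Cfsg.Agent.S1420.result hG M hM E hE).1 X hXM hXnil
    (fun q hq hqd => (hX q hq hqd).2.1)

/-- **B&G 12.10(b), second assertion**: every `τ₂(M)`-subgroup of a complement `E` is abelian. -/
theorem tau2_subgroup_comm (hG : Cfsg.IsMinSimpleOddOrder G) {M E X : Subgroup G}
    (hM : IsCoatom M) (hE : Cfsg.IsComplIn E (Cfsg.sigmaCore M) M) (hXE : X ≤ E)
    (hX : ∀ q : ℕ, q.Prime → q ∣ Nat.card X → q ∈ Cfsg.tau2 M) : IsMulCommutative X := by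
  classical
  by_cases hab : ∀ (q : ℕ) [Fact q.Prime], q ∈ Cfsg.tau2 M → ∀ S : Sylow q G,
      IsMulCommutative (S : Subgroup G)
  · exact comm_of_abelian hG hM hE hXE hX hab
  · push Not at hab
    obtain ⟨q, hqf, hq, S₀, hS₀⟩ := hab
    exact comm_of_nonabelian hG hM hE hXE hX hq S₀ hS₀

end Cfsg.Agent.Lib.Helper19.BG1210
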