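/-
helper19: maximal subgroups `M` of a minimal simple group of odd order, `p ∈ τ₂(M)` with abelian
Sylow `p`-subgroups in `G` (B&G 12.8-like): the Sylow `p`-subgroup of a complement `E` of `M_σ` is
normal in `E`.
-/
import Mathlib
import Cfsg.Agent.Lib.Helper19.BG1210
import Cfsg.Agent.Lib.Helper17.BGFitA
import Cfsg.Agent.Lib.Helper1.BG36R5
import Cfsg.Agent.Lib.Helper24.BGTen4
import Cfsg.Agent.S1411

set_option autoImplicit false
set_option linter.unusedSectionVars false
set_option linter.unusedVariables false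
open scoped commutatorElement

namespace Cfsg.Agent.Lib.Helper19.BGTypeF

open Cfsg Subgroup
open Cfsg.Agent.Lib.Helper8 (mem_map_conj conj_mem_map_conj map_conj_map_conj map_conj_one
  map_conj_le_iff map_conj_eq_iff card_map_conj mem_normalizer_iff_map_conj map_conj_eq_of_le)
open Cfsg.Agent.Lib.Helper19.BG127 Cfsg.Agent.Lib.Helper19.BG1210

variable {G : Type*} [Group G] [Finite G]

/-- a normal `r`-subgroup of `K` lies in `O_r(K)`. -/
theorem le_pCoreOf {r : ℕ} {N K : Subgroup G} (hNK : N ≤ K)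
    (hn : K ≤ normalizer (N : Set G)) (hN : IsPGroup r N) : N ≤ Cfsg.pCoreOf r K := by
  have hNn : (N.subgroupOf K).Normal := (Subgroup.normal_subgroupOf_iff_le_normalizer hNK).mpr hn
  have h1 := Cfsg.Agent.Lib.Helper1.le_pCore hNn (hN.comap_subtype (K := K))
  intro c hc
  exact ⟨⟨c, hNK hc⟩, h1 (by rw [Subgroup.mem_subgroupOf]; exact hc), rfl⟩

/-- two normal subgroups of `E` with trivial intersection commute elementwise. -/
theorem commute_of_normal_of_disjoint {E N₁ N₂ : Subgroup G} (h1 : N₁ ≤ E) (h2 : N₂ ≤ E)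
    (hn1 : E ≤ normalizer (N₁ : Set G)) (hn2 : E ≤ normalizer (N₂ : Set G))
    (hd : N₁ ⊓ N₂ = ⊥) : N₁ ≤ centralizer (N₂ : Set G) := by
  intro x hx
  rw [Subgroup.mem_centralizer_iff]
  intro a ha
  have h3 : x * a * x⁻¹ ∈ N₂ := (Subgroup.mem_normalizer_iff.mp (hn2 (h1 hx)) a).mp ha
  have h4 : a * x⁻¹ * a⁻¹ ∈ N₁ :=
    (Subgroup.mem_normalizer_iff.mp (hn1 (h2 ha)) x⁻¹).mp (N₁.inv_mem hx)
  have h5 : x * a * x⁻¹ * a⁻¹ ∈ N₁ ⊓ N₂ := by
    refine ⟨?_, N₂.mul_mem h3 (N₂.inv_mem ha)⟩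
    have e : x * a * x⁻¹ * a⁻¹ = x * (a * x⁻¹ * a⁻¹) := by group
    rw [e]; exact N₁.mul_mem hx h4
  rw [hd, Subgroup.mem_bot] at h5
  calc a * x = (x * a * x⁻¹ * a⁻¹)⁻¹ * (x * a) := by group
    _ = x * a := by rw [h5, inv_one, one_mul]

/-- subgroups of `M` of prime-power order `r^k` with `M` of `r`-rank one are cyclic. -/
theorem isCyclic_of_rank_one (hG : Cfsg.IsMinSimpleOddOrder G) {M R : Subgroup G} {r : ℕ}
    [Fact r.Prime] (hrk : Cfsg.PRankLE r 1 ↥M) (hRM : R ≤ M) (hR : IsPGroup r R) :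
    IsCyclic ↥R := by
  by_cases hR1 : R = ⊥
  · subst hR1; infer_instance
  have hrR : r ∣ Nat.card R := by
    obtain ⟨n, hn⟩ := IsPGroup.iff_card.mp hR
    rw [hn]
    apply dvd_pow_self
    rintro rfl
    rw [pow_zero] at hn
    exact hR1 (Subgroup.card_eq_one.mp hn)
  have hr2 : r ≠ 2 := Cfsg.Agent.Lib.Helper1.BGX.ne_two_of_dvd_sub hG.1 hrR
  have h1 : IsCyclic ↥(R.subgroupOf M) :=
    Cfsg.Agent.Lib.Helper17.isCyclic_of_pRankLE_one hr2 hrk (R.subgroupOf M) hR.comap_subtype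
  exact (Subgroup.subgroupOfEquivOfLe hRM).isCyclic.mp h1

/-- **Normal Sylow subgroup.** If `p ∈ τ₂(M)` and a Sylow `p`-subgroup `Ps` of `G` containing
`A ∈ ℰ²_p(E)` is abelian, then `Ps ≤ O_p(E)`. -/
theorem sylow_le_pCoreOf (hG : Cfsg.IsMinSimpleOddOrder G) {M E A : Subgroup G} {p : ℕ}
    [Fact p.Prime] (hM : IsCoatom M) (hE : Cfsg.IsComplIn E (Cfsg.sigmaCore M) M)
    (hp : p ∈ Cfsg.tau2 M) (hAE : A ≤ E) (hAe : Cfsg.IsElementaryAbelian p A)
    (hA2 : Nat.card A = p ^ 2) (Ps : Sylow p G) (hAPs : A ≤ (Ps : Subgroup G))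
    (hPsc : IsMulCommutative (Ps : Subgroup G)) :
    (Ps : Subgroup G) ≤ Cfsg.pCoreOf p E := by
  classical
  have hpp : p.Prime := Fact.out
  have hAM : A ≤ M := hAE.trans hE.1
  have hAp : IsPGroup p A := elemAb_isPGroup hAe
  have h18 := Cfsg.Agent.S1418.result hG M hM E hE p hp A ⟨hAE, hAe, hA2⟩
  have hPscomm : ∀ a ∈ (Ps : Subgroup G), ∀ b ∈ (Ps : Subgroup G), a * b = b * a :=
    fun a ha b hb => congrArg Subtype.val (hPsc.is_comm.comm ⟨a, ha⟩ ⟨b, hb⟩)
  have hPsC : (Ps : Subgroup G) ≤ centralizer (A : Set G) := by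
    intro x hx
    rw [Subgroup.mem_centralizer_iff]
    intro a ha
    exact hPscomm a (hAPs ha) x hx
  have hCE : centralizer (A : Set G) ≤ E := by
    have h1 := h18.2.1.1
    rw [h18.2.1.2.1] at h1
    exact h1
  have hPsE : (Ps : Subgroup G) ≤ E := hPsC.trans hCE
  have hEN : E ≤ normalizer (A : Set G) := h18.1.1
  have hEM : E ≤ M := hE.1
  have hEtop : E ≠ ⊤ := fun h => hM.1 (top_le_iff.mp (h ▸ hEM))
  have hEsol : Group.IsSolvable ↥E := hG.2.2.2 E hEtop
  obtain ⟨V, hV, -⟩ := Cfsg.Agent.Lib.Helper24.BGTen.exists_compl_normalizer Ps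
  have h11 := (Cfsg.Agent.S1411.result hG p Ps V hV).1
  have hVN : V ≤ normalizer (((Ps : Subgroup G)) : Set G) := hV.2.1
  have hNN : normalizer (((Ps : Subgroup G)) : Set G) ≤ normalizer (A : Set G) := by
    intro g hg
    apply Cfsg.Agent.Lib.Helper1.mem_normalizer_of_forall_conj_mem
    intro a ha
    obtain ⟨y, hy⟩ : ∃ y : G, y = g * a * g⁻¹ := ⟨_, rfl⟩
    rw [← hy]
    have h1 : y ∈ (Ps : Subgroup G) := hy ▸ (Subgroup.mem_normalizer_iff.mp hg a).mp (hAPs ha)
    have h2 : y ^ p = 1 := by rw [hy, conj_pow, hAe.2 a ha, mul_one, mul_inv_cancel]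
    by_cases h3 : y = 1
    · rw [h3]; exact A.one_mem
    · have hcard : Nat.card (zpowers y) = p := by
        rw [Nat.card_zpowers]
        rcases (Nat.dvd_prime hpp).mp (orderOf_dvd_of_pow_eq_one h2) with h | h
        · exact absurd (orderOf_eq_one_iff.mp h) h3
        · exact h
      exact h18.1.2 (zpowers y) (by rw [Subgroup.zpowers_le]; exact hPsE h1) hcard
        (Subgroup.mem_zpowers y)
  -- `Ps` centralizes every `O_r(E)`
  have hcent : ∀ r : ℕ, r.Prime →
      (Ps : Subgroup G) ≤ centralizer ((Cfsg.pCoreOf r E : Subgroup G) : Set G) := by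
    intro r hr
    haveI : Fact r.Prime := ⟨hr⟩
    have hRE : Cfsg.pCoreOf r E ≤ E := Cfsg.Agent.Lib.Helper17.PrimeAct.pCoreOf_le r E
    have hRr : IsPGroup r (Cfsg.pCoreOf r E) :=
      Cfsg.Agent.Lib.Helper17.PrimeAct.pCoreOf_isPGroup r E
    have hER : E ≤ normalizer ((Cfsg.pCoreOf r E : Subgroup G) : Set G) :=
      Subgroup.le_normalizer.trans
        (Cfsg.Agent.Lib.Helper17.PrimeAct.normalizer_le_normalizer_pCoreOf r E)
    by_cases hrk : Cfsg.PRankLE r 1 ↥M
    · have hrp : r ≠ p := by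
        rintro rfl
        exact hp.2.2.2 hrk
      -- `O_r(E)` centralizes `A`
      have hdisj : Cfsg.pCoreOf r E ⊓ A = ⊥ :=
        (IsPGroup.disjoint_of_ne r p hrp _ _ hRr hAp).eq_bot
      have hRC : Cfsg.pCoreOf r E ≤ centralizer (A : Set G) :=
        commute_of_normal_of_disjoint hRE hAE hER hEN hdisj
      obtain ⟨C, hCdef⟩ : ∃ C : Subgroup G, C = centralizer (A : Set G) := ⟨_, rfl⟩
      rw [← hCdef] at hRC hPsC hCE
      obtain ⟨R', hR'def⟩ : ∃ R' : Subgroup G, R' = Cfsg.pCoreOf r C := ⟨_, rfl⟩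
      have hR'C : R' ≤ C := hR'def ▸ Cfsg.Agent.Lib.Helper17.PrimeAct.pCoreOf_le r C
      have hR'r : IsPGroup r R' := hR'def ▸ Cfsg.Agent.Lib.Helper17.PrimeAct.pCoreOf_isPGroup r C
      have hNC : normalizer (A : Set G) ≤ normalizer ((C : Subgroup G) : Set G) := by
        rw [hCdef]
        exact Cfsg.Agent.Lib.Helper12.CNMin.normalizer_le_normalizer_centralizer' A
      have hNR' : normalizer (A : Set G) ≤ normalizer ((R' : Subgroup G) : Set G) := by
        rw [hR'def]
        exact hNC.trans (Cfsg.Agent.Lib.Helper17.PrimeAct.normalizer_le_normalizer_pCoreOf r C)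
      have hRR' : Cfsg.pCoreOf r E ≤ R' := by
        rw [hR'def]
        apply le_pCoreOf hRC _ hRr
        exact hCE.trans hER
      have hcyc : IsCyclic ↥R' :=
        isCyclic_of_rank_one hG hrk ((hR'C.trans hCE).trans hEM) hR'r
      have hPsR' : (Ps : Subgroup G) ≤ normalizer ((R' : Subgroup G) : Set G) :=
        (hPsE.trans hEN).trans hNR'
      have hVR' : V ≤ normalizer ((R' : Subgroup G) : Set G) := (hVN.trans hNN).trans hNR'
      have hcomm : ⁅(Ps : Subgroup G), V⁆ ≤ centralizer ((R' : Subgroup G) : Set G) := by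
        rw [Subgroup.commutator_le]
        intro x hx y hy
        exact Cfsg.Agent.Lib.Helper1.BG36R.comm_mem_centralizer_of_isCyclic hcyc (hPsR' hx)
          (hVR' hy)
      rw [← h11] at hcomm
      exact hcomm.trans (Subgroup.centralizer_le hRR')
    · by_cases hrσ : r ∈ Cfsg.sigma M
      · -- `O_r(E) = 1`
        have hbot : Cfsg.pCoreOf r E = ⊥ := by
          by_contra hne
          have hrd : r ∣ Nat.card (Cfsg.pCoreOf r E) := by
            obtain ⟨n, hn⟩ := IsPGroup.iff_card.mp hRr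
            rw [hn]
            apply dvd_pow_self
            rintro rfl
            rw [pow_zero] at hn
            exact hne (Subgroup.card_eq_one.mp hn)
          have hrE : r ∣ Nat.card E := hrd.trans (Subgroup.card_dvd_of_le hRE)
          have hHall := (Cfsg.Agent.S1350.result hG M hM).1
          have hcard := Cfsg.Agent.Lib.Helper9.isComplIn_card_mul_card hE
          have h3 := Cfsg.Agent.Lib.Helper20.card_mul_relIndex_of_le
            (Cfsg.Agent.Lib.Helper2.BGCor.sigmaCore_le M)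
          rw [← hcard, mul_comm] at h3
          have h4 : (Cfsg.sigmaCore M).relIndex M = Nat.card E :=
            Nat.eq_of_mul_eq_mul_right Nat.card_pos h3
          exact hHall.2.2 r hr hrσ (h4 ▸ hrE)
        rw [hbot]
        intro x _
        rw [Subgroup.mem_centralizer_iff]
        intro a ha
        rw [Subgroup.coe_bot, Set.mem_singleton_iff] at ha
        rw [ha, one_mul, mul_one]
      · have hrτ := Cfsg.Agent.Lib.Helper23.BGY.mem_tau2_of_not_rank_one hG hM hr hrσ hrk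
        -- `O_r(E) Ps` is a `τ₂(M)`-subgroup of `E`
        obtain ⟨X, hXdef⟩ : ∃ X : Subgroup G, X = Cfsg.pCoreOf r E ⊔ (Ps : Subgroup G) := ⟨_, rfl⟩
        have hXE : X ≤ E := hXdef ▸ sup_le hRE hPsE
        have hXprimes : ∀ q : ℕ, q.Prime → q ∣ Nat.card X → q ∈ Cfsg.tau2 M := by
          intro q hq hqd
          have h1 := Cfsg.Agent.Lib.Helper4.card_sup_mul_card_inf (Ps : Subgroup G)
            (Cfsg.pCoreOf r E) (hPsE.trans hER)
          have h2 : Nat.card X ∣ Nat.card (Ps : Subgroup G) * Nat.card (Cfsg.pCoreOf r E) := by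
            rw [hXdef, sup_comm, ← h1]
            exact Dvd.intro _ rfl
          have h3 := hqd.trans h2
          rcases (Nat.Prime.dvd_mul hq).mp h3 with h4 | h4
          · obtain ⟨n, hn⟩ := IsPGroup.iff_card.mp Ps.2
            rw [hn] at h4
            rw [prime_eq_of_dvd_sq hpp hq h4]; exact hp
          · obtain ⟨n, hn⟩ := IsPGroup.iff_card.mp hRr
            rw [hn] at h4
            rw [prime_eq_of_dvd_sq hr hq h4]; exact hrτ
        have hXc := tau2_subgroup_comm hG hM hE hXE hXprimes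
        intro x hx
        rw [Subgroup.mem_centralizer_iff]
        intro a ha
        have hxX : x ∈ X := hXdef ▸ Subgroup.mem_sup_right hx
        have haX : a ∈ X := hXdef ▸ Subgroup.mem_sup_left ha
        exact congrArg Subtype.val (hXc.is_comm.comm ⟨a, haX⟩ ⟨x, hxX⟩)
  have h1 : (Ps : Subgroup G) ≤ centralizer ((Cfsg.fittingOf E : Subgroup G) : Set G) :=
    Cfsg.Agent.Lib.Helper17.BGU.le_centralizer_fittingOf_of_forall hcent
  have h2 : (Ps : Subgroup G) ≤ Cfsg.fittingOf E :=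
    (le_inf hPsE h1).trans (Cfsg.Agent.Lib.Helper17.BGU.inf_centralizer_fittingOf_le hEsol)
  exact Cfsg.Agent.Lib.Helper17.BGU.le_pCoreOf_of_le_fittingOf h2 Ps.2

end Cfsg.Agent.Lib.Helper19.BGTypeF
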