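/-
helper19: maximal subgroups of "Frobenius type" (every `τ₁ ∪ τ₃`-element of a complement `E` acts
regularly on `M_σ`): `E` has an abelian normal subgroup `A₀` containing `C_E(x)` for all
`x ∈ M_σ^#`  (B&G 14.3(d) for `K = 1`; first half of S1421).
-/
import Mathlib
import Cfsg.Agent.Lib.Helper19.BGTypeF1

set_option autoImplicit false
set_option linter.unusedSectionVars false
set_option linter.unusedVariables false
open scoped commutatorElement

namespace Cfsg.Agent.Lib.Helper19.BGTypeF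

open Cfsg Subgroup
open Cfsg.Agent.Lib.Helper8 (mem_map_conj conj_mem_map_conj map_conj_map_conj map_conj_one
  map_conj_le_iff map_conj_eq_iff card_map_conj mem_normalizer_iff_map_conj map_conj_eq_of_le)
open Cfsg.Agent.Lib.Helper19.BG127 Cfsg.Agent.Lib.Helper19.BG1210

variable {G : Type*} [Group G] [Finite G]

/-- the regularity hypothesis of S1421. -/
def Reg (M E : Subgroup G) : Prop :=
  ∀ e ∈ E, e ≠ 1 → (∀ p : ℕ, p.Prime → p ∣ orderOf e → p ∈ Cfsg.tau1 M ∪ Cfsg.tau3 M) →
    Cfsg.sigmaCore M ⊓ Subgroup.centralizer ({e} : Set G) = ⊥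

/-- primes dividing `|E|` are outside `σ(M)`. -/
theorem not_mem_sigma_of_dvd_card_compl (hG : Cfsg.IsMinSimpleOddOrder G) {M E : Subgroup G}
    (hM : IsCoatom M) (hE : Cfsg.IsComplIn E (Cfsg.sigmaCore M) M) {r : ℕ} (hr : r.Prime)
    (hrE : r ∣ Nat.card E) : r ∉ Cfsg.sigma M := by
  intro hrσ
  have hHall := (Cfsg.Agent.S1350.result hG M hM).1
  have hcard := Cfsg.Agent.Lib.Helper9.isComplIn_card_mul_card hE
  have h3 := Cfsg.Agent.Lib.Helper20.card_mul_relIndex_of_le
    (Cfsg.Agent.Lib.Helper2.BGCor.sigmaCore_le M)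
  rw [← hcard, mul_comm] at h3
  have h4 : (Cfsg.sigmaCore M).relIndex M = Nat.card E :=
    Nat.eq_of_mul_eq_mul_right Nat.card_pos h3
  exact hHall.2.2 r hr hrσ (h4 ▸ hrE)

/-- Step 0: under the regularity hypothesis, the elements of `E` centralizing a non-identity element
of `M_σ` are `τ₂(M)`-elements. -/
theorem mem_tau2_of_dvd_orderOf (hG : Cfsg.IsMinSimpleOddOrder G) {M E : Subgroup G}
    (hM : IsCoatom M) (hE : Cfsg.IsComplIn E (Cfsg.sigmaCore M) M) (h : Reg M E)
    {x y : G} (hx : x ∈ Cfsg.sigmaCore M) (hx1 : x ≠ 1) (hyE : y ∈ E) (hyx : y * x = x * y)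
    {r : ℕ} (hr : r.Prime) (hrd : r ∣ orderOf y) : r ∈ Cfsg.tau2 M := by
  by_contra hrτ
  obtain ⟨y', hy'⟩ : ∃ y' : G, y' = y ^ (orderOf y / r) := ⟨_, rfl⟩
  have hord : orderOf y' = r := by
    rw [hy']
    exact orderOf_pow_orderOf_div (orderOf_pos y).ne' hrd
  have hy'E : y' ∈ E := hy' ▸ E.pow_mem hyE _
  have hy'1 : y' ≠ 1 := by
    intro h1
    rw [h1, orderOf_one] at hord
    exact hr.one_lt.ne hord
  have hy'x : y' * x = x * y' := by
    rw [hy']
    exact ((Commute.pow_left (show Commute y x from hyx) _).eq)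
  have hrE : r ∣ Nat.card E := by
    have h1 : orderOf (⟨y', hy'E⟩ : ↥E) = r := by
      rw [← hord]; exact Subgroup.orderOf_mk y' hy'E
    rw [← h1]
    exact orderOf_dvd_natCard _
  have hrσ := not_mem_sigma_of_dvd_card_compl hG hM hE hr hrE
  have hrM : r ∣ Nat.card M := hrE.trans (Subgroup.card_dvd_of_le hE.1)
  have hrk : Cfsg.PRankLE r 1 ↥M := by
    by_contra hrk
    exact hrτ (Cfsg.Agent.Lib.Helper23.BGY.mem_tau2_of_not_rank_one hG hM hr hrσ hrk)
  have hprimes : ∀ p : ℕ, p.Prime → p ∣ orderOf y' → p ∈ Cfsg.tau1 M ∪ Cfsg.tau3 M := by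
    intro p hp hpd
    rw [hord] at hpd
    have hpr : p = r := (Nat.prime_dvd_prime_iff_eq hp hr).mp hpd
    rw [hpr]
    by_cases hd : r ∣ Nat.card ↥⁅M, M⁆
    · right; exact ⟨hr, hrσ, hd, hrk⟩
    · left; exact ⟨hr, hrσ, hrM, hd, hrk⟩
  have hreg := h y' hy'E hy'1 hprimes
  have hmem : x ∈ Cfsg.sigmaCore M ⊓ Subgroup.centralizer ({y'} : Set G) := by
    refine ⟨hx, ?_⟩
    show x ∈ Subgroup.centralizer ({y'} : Set G)
    rw [Subgroup.mem_centralizer_singleton_iff]
    exact hy'x.symm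
  rw [hreg, Subgroup.mem_bot] at hmem
  exact hx1 hmem

/-- normalizer of the closure of an invariant set. -/
theorem le_normalizer_closure {E : Subgroup G} {S : Set G}
    (hS : ∀ e ∈ E, ∀ s ∈ S, e * s * e⁻¹ ∈ S) : E ≤ normalizer ((closure S : Subgroup G) : Set G) := by
  intro e he
  apply Cfsg.Agent.Lib.Helper1.mem_normalizer_of_forall_conj_mem
  intro a ha
  induction ha using Subgroup.closure_induction with
  | mem a ha => exact Subgroup.subset_closure (hS e he a ha)
  | one => simp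
  | mul a b _ _ iha ihb =>
    have : e * (a * b) * e⁻¹ = (e * a * e⁻¹) * (e * b * e⁻¹) := by group
    rw [this]
    exact Subgroup.mul_mem _ iha ihb
  | inv a _ iha =>
    have : e * a⁻¹ * e⁻¹ = (e * a * e⁻¹)⁻¹ := by group
    rw [this]
    exact Subgroup.inv_mem _ iha

/-- the closure of a set of pairwise commuting elements is commutative. -/
theorem isMulCommutative_closure {S : Set G} (hS : ∀ a ∈ S, ∀ b ∈ S, a * b = b * a) :
    IsMulCommutative ↥(closure S) := by
  have h1 : closure S ≤ centralizer S := by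
    rw [Subgroup.closure_le]
    intro a ha
    show a ∈ centralizer S
    rw [Subgroup.mem_centralizer_iff]
    intro b hb
    exact hS b hb a ha
  have h2 : closure S ≤ centralizer ((closure S : Subgroup G) : Set G) := by
    rw [Subgroup.closure_le]
    intro s hs
    show s ∈ centralizer ((closure S : Subgroup G) : Set G)
    rw [Subgroup.mem_centralizer_iff]
    intro a ha
    exact ((Subgroup.mem_centralizer_iff.mp (h1 ha)) s hs).symm
  refine ⟨⟨?_⟩⟩
  rintro ⟨a, ha⟩ ⟨b, hb⟩
  apply Subtype.ext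
  exact ((Subgroup.mem_centralizer_iff.mp (h2 hb)) a ha)

end Cfsg.Agent.Lib.Helper19.BGTypeF
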