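/-
helper19: maximal subgroups of "Frobenius type", Case Ab (all Sylow `q`-subgroups of `G` for
`q ∈ τ₂(M)` abelian): `A₀ := ⟨O_q(E) | q ∈ τ₂(M)⟩` is an abelian normal subgroup of `E` containing
`C_E(x)` for all `x ∈ M_σ^#`.
-/
import Mathlib
import Cfsg.Agent.Lib.Helper19.BGTypeF2
import Cfsg.Agent.Lib.Helper19.BG123

set_option autoImplicit false
set_option linter.unusedSectionVars false
set_option linter.unusedVariables false
open scoped commutatorElement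

namespace Cfsg.Agent.Lib.Helper19.BGTypeF

open Cfsg Subgroup
open Cfsg.Agent.Lib.Helper8 (mem_map_conj conj_mem_map_conj map_conj_map_conj map_conj_one
  map_conj_le_iff map_conj_eq_iff card_map_conj mem_normalizer_iff_map_conj map_conj_eq_of_le)
open Cfsg.Agent.Lib.Helper19.BG127 Cfsg.Agent.Lib.Helper19.BG1210

variable {G : Type*} [Group G] [Finite G]

/-- `E` normalizes `O_r(E)`. -/
theorem le_normalizer_pCoreOf (r : ℕ) [Fact r.Prime] (E : Subgroup G) :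
    E ≤ normalizer ((Cfsg.pCoreOf r E : Subgroup G) : Set G) :=
  Subgroup.le_normalizer.trans
    (Cfsg.Agent.Lib.Helper17.PrimeAct.normalizer_le_normalizer_pCoreOf r E)

/-- **Case Ab** of B&G 14.3(d) for `K = 1`. -/
theorem typeF_a_abelian (hG : Cfsg.IsMinSimpleOddOrder G) {M E : Subgroup G}
    (hM : IsCoatom M) (hE : Cfsg.IsComplIn E (Cfsg.sigmaCore M) M) (h : Reg M E)
    (hab : ∀ (q : ℕ) [Fact q.Prime], q ∈ Cfsg.tau2 M → ∀ S : Sylow q G,
      IsMulCommutative (S : Subgroup G)) :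
    ∃ A₀ : Subgroup G, A₀ ≤ E ∧ E ≤ normalizer (A₀ : Set G) ∧ IsMulCommutative A₀ ∧
      ∀ x ∈ Cfsg.sigmaCore M, x ≠ 1 → E ⊓ centralizer ({x} : Set G) ≤ A₀ := by
  classical
  obtain ⟨S₂, hS₂⟩ : ∃ S₂ : Set G, S₂ = {y | ∃ q : ℕ, q.Prime ∧ q ∈ Cfsg.tau2 M ∧
      y ∈ Cfsg.pCoreOf q E} := ⟨_, rfl⟩
  have hmemS : ∀ {q : ℕ}, q.Prime → q ∈ Cfsg.tau2 M → ∀ y ∈ Cfsg.pCoreOf q E, y ∈ S₂ := by
    intro q hq hqτ y hy
    rw [hS₂]; exact ⟨q, hq, hqτ, hy⟩
  have hA₀E : closure S₂ ≤ E := by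
    rw [Subgroup.closure_le]
    intro y hy
    rw [hS₂] at hy
    obtain ⟨q, hq, hqτ, hyq⟩ := hy
    exact Cfsg.Agent.Lib.Helper17.PrimeAct.pCoreOf_le q E hyq
  have hnorm : E ≤ normalizer ((closure S₂ : Subgroup G) : Set G) := by
    apply le_normalizer_closure
    intro e he s hs
    rw [hS₂] at hs ⊢
    obtain ⟨q, hq, hqτ, hsq⟩ := hs
    haveI : Fact q.Prime := ⟨hq⟩
    exact ⟨q, hq, hqτ, (Subgroup.mem_normalizer_iff.mp (le_normalizer_pCoreOf q E he) s).mp hsq⟩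
  have hcomm : IsMulCommutative ↥(closure S₂) := by
    apply isMulCommutative_closure
    intro a ha b hb
    rw [hS₂] at ha hb
    obtain ⟨q, hq, hqτ, haq⟩ := ha
    obtain ⟨r, hr, hrτ, hbr⟩ := hb
    haveI : Fact q.Prime := ⟨hq⟩
    haveI : Fact r.Prime := ⟨hr⟩
    obtain ⟨X, hXdef⟩ : ∃ X : Subgroup G, X = Cfsg.pCoreOf q E ⊔ Cfsg.pCoreOf r E := ⟨_, rfl⟩
    have hqE := Cfsg.Agent.Lib.Helper17.PrimeAct.pCoreOf_le q E
    have hrE := Cfsg.Agent.Lib.Helper17.PrimeAct.pCoreOf_le r E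
    have hXE : X ≤ E := hXdef ▸ sup_le hqE hrE
    have hXprimes : ∀ s : ℕ, s.Prime → s ∣ Nat.card X → s ∈ Cfsg.tau2 M := by
      intro s hs hsd
      have h1 := Cfsg.Agent.Lib.Helper4.card_sup_mul_card_inf (Cfsg.pCoreOf r E)
        (Cfsg.pCoreOf q E) (hrE.trans (le_normalizer_pCoreOf q E))
      have h2 : Nat.card X ∣ Nat.card (Cfsg.pCoreOf r E) * Nat.card (Cfsg.pCoreOf q E) := by
        rw [hXdef, sup_comm, ← h1]
        exact Dvd.intro _ rfl
      have h3 := hsd.trans h2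
      rcases (Nat.Prime.dvd_mul hs).mp h3 with h4 | h4
      · obtain ⟨n, hn⟩ := IsPGroup.iff_card.mp
          (Cfsg.Agent.Lib.Helper17.PrimeAct.pCoreOf_isPGroup r E)
        rw [hn] at h4
        rw [prime_eq_of_dvd_sq hr hs h4]; exact hrτ
      · obtain ⟨n, hn⟩ := IsPGroup.iff_card.mp
          (Cfsg.Agent.Lib.Helper17.PrimeAct.pCoreOf_isPGroup q E)
        rw [hn] at h4
        rw [prime_eq_of_dvd_sq hq hs h4]; exact hqτ
    have hXc := tau2_subgroup_comm hG hM hE hXE hXprimes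
    have haX : a ∈ X := hXdef ▸ Subgroup.mem_sup_left haq
    have hbX : b ∈ X := hXdef ▸ Subgroup.mem_sup_right hbr
    exact congrArg Subtype.val (hXc.is_comm.comm ⟨a, haX⟩ ⟨b, hbX⟩)
  refine ⟨closure S₂, hA₀E, hnorm, hcomm, ?_⟩
  intro x hx hx1 y hy
  have hyE : y ∈ E := hy.1
  have hyx : y * x = x * y := by
    have h2 : y ∈ centralizer ({x} : Set G) := hy.2
    rw [Subgroup.mem_centralizer_singleton_iff] at h2
    exact h2
  have hYE : zpowers y ≤ E := by rw [Subgroup.zpowers_le]; exact hyE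
  have hle : zpowers y ≤ closure S₂ := by
    apply Cfsg.Agent.Lib.Helper19.BG123.le_of_coprime_relIndex hA₀E hYE (hYE.trans hnorm)
    apply Nat.coprime_of_dvd
    intro r hr hrd hrI
    haveI : Fact r.Prime := ⟨hr⟩
    rw [Nat.card_zpowers] at hrd
    have hrτ := mem_tau2_of_dvd_orderOf hG hM hE h hx hx1 hyE hyx hr hrd
    obtain ⟨A, hAE, hAe, hA2⟩ := exists_elemAb_le_compl hG hM hE hrτ
    obtain ⟨Ps, hAPs⟩ := (elemAb_isPGroup hAe).exists_le_sylow
    have hPs := sylow_le_pCoreOf hG hM hE hrτ hAE hAe hA2 Ps hAPs (hab r hrτ Ps)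
    have hPsA₀ : (Ps : Subgroup G) ≤ closure S₂ := by
      intro z hz
      exact Subgroup.subset_closure (hmemS hr hrτ z (hPs hz))
    have h1 : (closure S₂).relIndex E ∣ (Ps : Subgroup G).relIndex E :=
      Subgroup.relIndex_dvd_of_le_left E hPsA₀
    have h2 : (Ps : Subgroup G).relIndex E ∣ (Ps : Subgroup G).index :=
      Subgroup.relIndex_dvd_index_of_le (hPsA₀.trans hA₀E)
    exact Ps.not_dvd_index ((hrI.trans h1).trans h2)
  exact hle (Subgroup.mem_zpowers y)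

end Cfsg.Agent.Lib.Helper19.BGTypeF
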