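/-
helper19: maximal subgroups of "Frobenius type", Case N (some `q ∈ τ₂(M)` has nonabelian Sylow
`q`-subgroups in `G`): `A₀ := A ∩ C(M_σ)` (of order `q`) is a normal subgroup of `E` containing
`C_E(x)` for all `x ∈ M_σ^#`.
-/
import Mathlib
import Cfsg.Agent.Lib.Helper19.BGTypeF2
import Cfsg.Agent.S1416
import Cfsg.Agent.S1417
import Cfsg.Agent.S1418

set_option autoImplicit false
set_option linter.unusedSectionVars false
set_option linter.unusedVariables false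
open scoped commutatorElement

namespace Cfsg.Agent.Lib.Helper19.BG127

open Cfsg Subgroup
open Cfsg.Agent.Lib.Helper8 (mem_map_conj conj_mem_map_conj map_conj_map_conj map_conj_one
  map_conj_le_iff map_conj_eq_iff card_map_conj mem_normalizer_iff_map_conj map_conj_eq_of_le)

variable {G : Type*} [Group G] [Finite G]

/-- construction of the context with the Sylow subgroup `P` of `M` containing a given `p`-subgroup
`Q ⊇ A` of `M`. -/
theorem exists_ctx_ge (hG : Cfsg.IsMinSimpleOddOrder G) (h16 : C16 G) (h17 : C17 G) (h18 : C18 G)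
    {M E A Q : Subgroup G} {p : ℕ} [Fact p.Prime] (hM : IsCoatom M)
    (hE : Cfsg.IsComplIn E (Cfsg.sigmaCore M) M) (hp : p ∈ Cfsg.tau2 M)
    (hS : ∀ S : Sylow p G, ¬ IsMulCommutative (S : Subgroup G))
    (hA : A ≤ E ∧ Cfsg.IsElementaryAbelian p A ∧ Nat.card A = p ^ 2)
    (hQM : Q ≤ M) (hQ : IsPGroup p Q) (hAQ : A ≤ Q) :
    ∃ c : Ctx M E A p, Q ≤ c.P := by
  classical
  have hpp : p.Prime := Fact.out
  have hAM : A ≤ M := hA.1.trans hE.1
  have hAp : IsPGroup p A := elemAb_isPGroup hA.2.1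
  obtain ⟨PM, hPM⟩ := (hQ.comap_subtype (K := M)).exists_le_sylow
  have hQP : Q ≤ (PM : Subgroup M).map M.subtype := by
    intro a ha
    exact ⟨⟨a, hQM ha⟩, hPM (Subgroup.mem_subgroupOf.mpr ha), rfl⟩
  have hAP : A ≤ (PM : Subgroup M).map M.subtype := hAQ.trans hQP
  obtain ⟨Ps, hPPs⟩ := (PM.2.map M.subtype).exists_le_sylow
  have t17 := h17 M hM p hp A ⟨hAM, hA.2.1, hA.2.2⟩
  have hPcomm : ∀ a ∈ (PM : Subgroup M).map M.subtype, ∀ b ∈ (PM : Subgroup M).map M.subtype,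
      a * b = b * a := by
    rintro _ ⟨a, ha, rfl⟩ _ ⟨b, hb, rfl⟩
    have := (t17.2.1 PM).1.is_comm.comm ⟨a, ha⟩ ⟨b, hb⟩
    have h2 : a * b = b * a := congrArg Subtype.val this
    exact congrArg Subtype.val h2
  have hlt : (PM : Subgroup M).map M.subtype < (Ps : Subgroup G) := by
    apply lt_of_le_of_ne hPPs
    intro h
    apply hS Ps
    refine ⟨⟨?_⟩⟩
    rintro ⟨a, ha⟩ ⟨b, hb⟩
    apply Subtype.ext
    exact hPcomm a (h ▸ ha) b (h ▸ hb)
  obtain ⟨v, hv, hvP⟩ := SetLike.exists_of_lt (Cfsg.Agent.Lib.Helper17.BGU.lt_inf_normalizer Ps.2 hlt)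
  have hvM : v ∉ M := by
    intro hvM
    apply hvP
    obtain ⟨Q', hQdef⟩ : ∃ Q' : Subgroup G, Q' = (PM : Subgroup M).map M.subtype ⊔ zpowers v :=
      ⟨_, rfl⟩
    have hQPs : Q' ≤ (Ps : Subgroup G) := by
      rw [hQdef]
      exact sup_le hPPs (by rw [Subgroup.zpowers_le]; exact hv.1)
    have hQp : IsPGroup p (Q'.subgroupOf M) := (Ps.2.to_le hQPs).comap_subtype
    have hle : (PM : Subgroup M) ≤ Q'.subgroupOf M := by
      intro x hx
      rw [Subgroup.mem_subgroupOf, hQdef]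
      exact Subgroup.mem_sup_left ⟨x, hx, rfl⟩
    have h1 := PM.is_maximal' hQp hle
    have h2 : (⟨v, hvM⟩ : ↥M) ∈ Q'.subgroupOf M := by
      rw [Subgroup.mem_subgroupOf, hQdef]
      exact Subgroup.mem_sup_right (Subgroup.mem_zpowers v)
    rw [h1] at h2
    exact ⟨⟨v, hvM⟩, h2, rfl⟩
  obtain ⟨k, hk⟩ := Ps.2 ⟨v, hv.1⟩
  have hk' : v ^ (p ^ k) = 1 := by simpa using congrArg Subtype.val hk
  exact ⟨⟨hG, h16, h17, h18, hM, hE, hp, hA.1, hA.2.1, hA.2.2, PM, hAP, Ps, hPPs, v, k, hv.1, hv.2,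
    hvM, hk'⟩, hQP⟩

namespace Ctx

variable {M E A : Subgroup G} {p : ℕ} [Fact p.Prime]

/-- no element of `P` has its `p`-th power a generator of `A₀` (when the Sylow `p`-subgroups of `G`
are nonabelian). -/
theorem false_of_pow (c : Ctx M E A p) (hS : ¬ IsMulCommutative (c.Ps : Subgroup G)) {y₀ : G}
    (hy₀ : y₀ ∈ c.P) (hzA0 : y₀ ^ p ∈ A ⊓ centralizer (Cfsg.sigmaCore M : Set G))
    (hz1 : y₀ ^ p ≠ 1) : False := by
  classical
  have hpp := c.hpp
  obtain ⟨A0, hA0def⟩ : ∃ A0 : Subgroup G, A0 = A ⊓ centralizer (Cfsg.sigmaCore M : Set G) :=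
    ⟨_, rfl⟩
  rw [← hA0def] at hzA0
  have hA0A : A0 ≤ A := hA0def ▸ inf_le_left
  have hA0p : Nat.card A0 = p := hA0def ▸ c.part2a
  have hZ0 : c.Z A0 := hA0def ▸ c.hZA₀
  obtain ⟨W, hWdef⟩ : ∃ W : Subgroup G, W = powSub c.P c.hPcomm p := ⟨_, rfl⟩
  -- `A₀ ≤ W`
  have hA0W : A0 ≤ W := by
    have h1 := eq_zpowers_of_card_prime hA0p hzA0 hz1
    intro a ha
    rw [h1] at ha
    obtain ⟨n, rfl⟩ := Subgroup.mem_zpowers_iff.mp ha
    rw [hWdef, mem_powSub]
    refine ⟨y₀ ^ n, c.P.zpow_mem hy₀ n, ?_⟩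
    rw [← zpow_natCast, ← zpow_natCast, ← zpow_mul, ← zpow_mul, mul_comm]
  -- `cj v A₀ ≤ W`
  have hvA0W : A0.map (MulAut.conj c.v).toMonoidHom ≤ W := by
    rintro _ ⟨a, ha, rfl⟩
    obtain ⟨y, hy, rfl⟩ := mem_powSub.mp (hWdef ▸ hA0W ha)
    rw [hWdef, mem_powSub]
    refine ⟨c.v * y * c.v⁻¹, (Subgroup.mem_normalizer_iff.mp c.hvP y).mp hy, ?_⟩
    simp only [MulEquiv.coe_toMonoidHom, MulAut.conj_apply]
    rw [conj_pow]
  have hvA0A : A0.map (MulAut.conj c.v).toMonoidHom ≤ A := by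
    rintro _ ⟨a, ha, rfl⟩
    exact (Subgroup.mem_normalizer_iff.mp c.hvA a).mp (hA0A ha)
  have hAmax := (Cfsg.Agent.S1408.result c.hG M c.hM p c.hpσ c.hp.2.2.1 c.hp.2.2.2).2 A c.hAM
    c.hAe c.hA2
  by_cases hWA : A ≤ W
  · apply not_forall_pow c.hG c.Ps hS c.hAPs c.hAe c.hA2 c.not_isCyclic_A hAmax
    intro a ha
    obtain ⟨y, hy, h⟩ := mem_powSub.mp (hWdef ▸ hWA ha)
    exact ⟨y, c.hPPs hy, h⟩
  · have hcard : Nat.card ↥(W ⊓ A) ≤ p := by
      have hd : Nat.card ↥(W ⊓ A) ∣ p ^ 2 := c.hA2 ▸ Subgroup.card_dvd_of_le inf_le_right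
      obtain ⟨j, hj, hj2⟩ := (Nat.dvd_prime_pow hpp).mp hd
      have hj2' : j ≠ 2 := by
        rintro rfl
        apply hWA
        have h6 : W ⊓ A = A := Subgroup.eq_of_le_of_card_ge inf_le_right (by rw [hj2, c.hA2])
        rw [← h6]; exact inf_le_left
      rw [hj2]
      calc p ^ j ≤ p ^ 1 := Nat.pow_le_pow_right hpp.pos (by omega)
        _ = p := pow_one p
    have e1 : A0 = W ⊓ A :=
      Subgroup.eq_of_le_of_card_ge (le_inf hA0W hA0A) (by rw [hA0p]; exact hcard)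
    have e2 : A0.map (MulAut.conj c.v).toMonoidHom = W ⊓ A :=
      Subgroup.eq_of_le_of_card_ge (le_inf hvA0W hvA0A) (by
        rw [card_map_conj, hA0p]; exact hcard)
    have e3 : A0.map (MulAut.conj c.v).toMonoidHom = A0 := e2.trans e1.symm
    exact c.hvM (c.mem_of_conj hA0A hA0p hZ0 (e3.le.trans hA0A) (by rw [e3]; exact hZ0))

/-- an element of order `p` of `P` centralizing a non-identity element of `M_σ` generates `A₀`. -/
theorem zpowers_eq_A₀ (c : Ctx M E A p) {z x : G} (hzP : z ∈ c.P) (hzp : z ^ p = 1) (hz1 : z ≠ 1)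
    (hx : x ∈ Cfsg.sigmaCore M) (hx1 : x ≠ 1) (hzx : z * x = x * z) :
    zpowers z = A ⊓ centralizer (Cfsg.sigmaCore M : Set G) := by
  have hzA : z ∈ A := (c.hPA z hzP).mp hzp
  have hle : zpowers z ≤ A := by rw [Subgroup.zpowers_le]; exact hzA
  have hcard : Nat.card (zpowers z) = p := c.card_zpowers_of_mem hzA hz1
  have hZ : c.Z (zpowers z) := by
    unfold Z
    intro hbot
    have hmem : x ∈ Cfsg.sigmaCore M ⊓ centralizer ((zpowers z : Subgroup G) : Set G) := by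
      refine ⟨hx, ?_⟩
      show x ∈ centralizer ((zpowers z : Subgroup G) : Set G)
      rw [Subgroup.mem_centralizer_iff]
      intro a ha
      obtain ⟨n, rfl⟩ := Subgroup.mem_zpowers_iff.mp ha
      exact ((Commute.zpow_left (show Commute z x from hzx) n).eq)
    rw [hbot, Subgroup.mem_bot] at hmem
    exact hx1 hmem
  exact c.Z_unique inf_le_left c.part2a c.hZA₀ hle hcard hZ

end Ctx

end Cfsg.Agent.Lib.Helper19.BG127

namespace Cfsg.Agent.Lib.Helper19.BGTypeF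

open Cfsg Subgroup
open Cfsg.Agent.Lib.Helper19.BG127 Cfsg.Agent.Lib.Helper19.BG1210

variable {G : Type*} [Group G] [Finite G]

/-- **Case N** of B&G 14.3(d) for `K = 1`. -/
theorem typeF_a_nonabelian (hG : Cfsg.IsMinSimpleOddOrder G) {M E : Subgroup G}
    (hM : IsCoatom M) (hE : Cfsg.IsComplIn E (Cfsg.sigmaCore M) M) (h : Reg M E)
    {q : ℕ} [Fact q.Prime] (hq : q ∈ Cfsg.tau2 M) (S₀ : Sylow q G)
    (hS₀ : ¬ IsMulCommutative (S₀ : Subgroup G)) :
    ∃ A₀ : Subgroup G, A₀ ≤ E ∧ E ≤ normalizer (A₀ : Set G) ∧ IsMulCommutative A₀ ∧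
      ∀ x ∈ Cfsg.sigmaCore M, x ≠ 1 → E ⊓ centralizer ({x} : Set G) ≤ A₀ := by
  classical
  have hqq : q.Prime := Fact.out
  have hS : ∀ S : Sylow q G, ¬ IsMulCommutative (S : Subgroup G) :=
    fun S h => hS₀ (sylow_comm_of_comm h)
  obtain ⟨A, hAE, hAe, hA2⟩ := exists_elemAb_le_compl hG hM hE hq
  have h16 : C16 G := fun M hM p _ A hA => (Cfsg.Agent.S1416.result hG M hM p A hA).1
  have h17 : C17 G := fun M hM p _ hp A hA => Cfsg.Agent.S1417.result hG M hM p hp A hA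
  have h18 : C18 G := fun M hM E hE p _ hp A hA => Cfsg.Agent.S1418.result hG M hM E hE p hp A hA
  obtain ⟨c0, -⟩ := exists_ctx hG h16 h17 h18 hM hE hq hS ⟨hAE, hAe, hA2⟩
  have hτ := c0.tau2_eq
  refine ⟨A ⊓ centralizer (Cfsg.sigmaCore M : Set G), inf_le_left.trans hAE,
    hE.1.trans c0.le_normalizer_A₀, ?_, ?_⟩
  · refine ⟨⟨?_⟩⟩
    rintro ⟨a, ha⟩ ⟨b, hb⟩
    apply Subtype.ext
    exact c0.hAcomm a ha.1 b hb.1
  · intro x hx hx1 y hy
    have hyE : y ∈ E := hy.1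
    have hyx : y * x = x * y := by
      have h2 : y ∈ centralizer ({x} : Set G) := hy.2
      rw [Subgroup.mem_centralizer_singleton_iff] at h2
      exact h2
    have hprime : ∀ r : ℕ, r.Prime → r ∣ orderOf y → r = q := by
      intro r hr hrd
      have h1 := mem_tau2_of_dvd_orderOf hG hM hE h hx hx1 hyE hyx hr hrd
      rw [hτ] at h1
      exact h1
    have hYq : IsPGroup q (zpowers y) :=
      isPGroup_of_primes (by rw [Nat.card_zpowers]; exact hprime)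
    have hYE : zpowers y ≤ E := by rw [Subgroup.zpowers_le]; exact hyE
    have hQq : IsPGroup q ↥(zpowers y ⊔ A) :=
      IsPGroup.to_sup_of_normal_right' hYq (elemAb_isPGroup hAe) (hYE.trans c0.t18.1.1)
    have hQM : zpowers y ⊔ A ≤ M := sup_le (hYE.trans hE.1) (hAE.trans hE.1)
    obtain ⟨c, hc⟩ := exists_ctx_ge hG h16 h17 h18 hM hE hq hS ⟨hAE, hAe, hA2⟩ hQM hQq le_sup_right
    have hyP : y ∈ c.P := hc (Subgroup.mem_sup_left (Subgroup.mem_zpowers y))
    by_cases hy1 : y = 1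
    · rw [hy1]; exact Subgroup.one_mem _
    obtain ⟨j, hj⟩ : ∃ j, orderOf y = q ^ j :=
      ⟨_, Nat.eq_prime_pow_of_unique_prime_dvd (orderOf_pos y).ne'
        (fun {d} hd hdd => hprime d hd hdd)⟩
    have hj0 : j ≠ 0 := by
      rintro rfl
      rw [pow_zero, orderOf_eq_one_iff] at hj
      exact hy1 hj
    obtain ⟨i, rfl⟩ : ∃ i, j = i + 1 := ⟨j - 1, by omega⟩
    obtain ⟨z, hz⟩ : ∃ z : G, z = y ^ (q ^ i) := ⟨_, rfl⟩
    have hzP : z ∈ c.P := hz ▸ c.P.pow_mem hyP _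
    have hzq : z ^ q = 1 := by
      rw [hz, ← pow_mul, ← pow_succ, ← hj]
      exact pow_orderOf_eq_one y
    have hz1 : z ≠ 1 := by
      rw [hz]
      intro h1
      have h2 := orderOf_dvd_of_pow_eq_one h1
      rw [hj] at h2
      have h3 := (Nat.pow_dvd_pow_iff_le_right hqq.one_lt).mp h2
      omega
    have hzx : z * x = x * z := by
      rw [hz]
      exact (Commute.pow_left (show Commute y x from hyx) _).eq
    have hzA₀ := c.zpowers_eq_A₀ hzP hzq hz1 hx hx1 hzx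
    by_cases hi : i = 0
    · subst hi
      rw [pow_zero, pow_one] at hz
      rw [← hz, ← hzA₀]
      exact Subgroup.mem_zpowers z
    · exfalso
      obtain ⟨i', rfl⟩ : ∃ i', i = i' + 1 := ⟨i - 1, by omega⟩
      have e : (y ^ (q ^ i')) ^ q = z := by rw [hz, ← pow_mul, ← pow_succ]
      apply c.false_of_pow (hS c.Ps) (y₀ := y ^ (q ^ i')) (c.P.pow_mem hyP _)
      · rw [e, ← hzA₀]
        exact Subgroup.mem_zpowers z
      · rw [e]
        exact hz1

end Cfsg.Agent.Lib.Helper19.BGTypeF
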