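/-
helper19: maximal subgroups of "Frobenius type" (`κ(M) = ∅`): assembly of B&G 14.3(d) for `K = 1`:
`E` has an abelian normal subgroup `A₀` containing `C_E(x)` for all `x ∈ M_σ^#`; in particular
`⟨E ∩ M̂_σ⟩` is abelian (S1359 for `K = 1`).
-/
import Mathlib
import Cfsg.Agent.Lib.Helper19.BGTypeF3
import Cfsg.Agent.Lib.Helper19.BGTypeF4

set_option autoImplicit false
set_option linter.unusedSectionVars false
set_option linter.unusedVariables false
open scoped commutatorElement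

namespace Cfsg.Agent.Lib.Helper19.BGTypeF

open Cfsg Subgroup
open Cfsg.Agent.Lib.Helper19.BG127 Cfsg.Agent.Lib.Helper19.BG1210

variable {G : Type*} [Group G] [Finite G]

/-- **B&G 14.3(d) for `K = 1`** (first half of S1421): under the regularity hypothesis, the
complement `E` has an abelian normal subgroup `A₀` with `C_E(x) ≤ A₀` for all `x ∈ M_σ^#`. -/
theorem typeF_a (hG : Cfsg.IsMinSimpleOddOrder G) {M E : Subgroup G}
    (hM : IsCoatom M) (hE : Cfsg.IsComplIn E (Cfsg.sigmaCore M) M) (h : Reg M E) :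
    ∃ A₀ : Subgroup G, A₀ ≤ E ∧ E ≤ normalizer (A₀ : Set G) ∧ IsMulCommutative A₀ ∧
      ∀ x ∈ Cfsg.sigmaCore M, x ≠ 1 → E ⊓ centralizer ({x} : Set G) ≤ A₀ := by
  classical
  by_cases hab : ∀ (q : ℕ) [Fact q.Prime], q ∈ Cfsg.tau2 M → ∀ S : Sylow q G,
      IsMulCommutative (S : Subgroup G)
  · exact typeF_a_abelian hG hM hE h hab
  · push Not at hab
    obtain ⟨q, hqf, hq, S₀, hS₀⟩ := hab
    exact typeF_a_nonabelian hG hM hE h hq S₀ hS₀

/-- under the regularity hypothesis, `⟨E ∩ M̂_σ⟩` is abelian. -/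
theorem closure_inter_sigmaHat_comm (hG : Cfsg.IsMinSimpleOddOrder G) {M E : Subgroup G}
    (hM : IsCoatom M) (hE : Cfsg.IsComplIn E (Cfsg.sigmaCore M) M) (h : Reg M E) :
    IsMulCommutative ↥(closure ((E : Set G) ∩ Cfsg.sigmaHat M)) := by
  obtain ⟨A₀, hA₀E, hn, hc, hcent⟩ := typeF_a hG hM hE h
  have hle : closure ((E : Set G) ∩ Cfsg.sigmaHat M) ≤ A₀ := by
    rw [Subgroup.closure_le]
    rintro a ⟨haE, -, y, hy, hy1, hay⟩
    apply hcent y hy hy1
    refine ⟨haE, ?_⟩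
    show a ∈ centralizer ({y} : Set G)
    rw [Subgroup.mem_centralizer_singleton_iff]
    exact hay
  refine ⟨⟨?_⟩⟩
  rintro ⟨a, ha⟩ ⟨b, hb⟩
  apply Subtype.ext
  have h1 : a * b = b * a := congrArg Subtype.val (hc.is_comm.comm ⟨a, hle ha⟩ ⟨b, hle hb⟩)
  exact h1

/-- `κ(M) = ∅` implies the regularity hypothesis. -/
theorem reg_of_kappa_eq_empty (hG : Cfsg.IsMinSimpleOddOrder G) {M E : Subgroup G}
    (hM : IsCoatom M) (hE : Cfsg.IsComplIn E (Cfsg.sigmaCore M) M) (hκ : Cfsg.kappa M = ∅) :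
    Reg M E := by
  classical
  intro e he he1 hprimes
  by_contra hne
  have hoe : orderOf e ≠ 1 := fun h1 => he1 (orderOf_eq_one_iff.mp h1)
  obtain ⟨p, hp, hpd⟩ := Nat.exists_prime_and_dvd hoe
  haveI : Fact p.Prime := ⟨hp⟩
  obtain ⟨e', he'⟩ : ∃ e' : G, e' = e ^ (orderOf e / p) := ⟨_, rfl⟩
  have hord : orderOf e' = p := by
    rw [he']
    exact orderOf_pow_orderOf_div (orderOf_pos e).ne' hpd
  have he'M : e' ∈ M := he' ▸ M.pow_mem (hE.1 he) _
  have he'1 : e' ≠ 1 := by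
    intro h1
    rw [h1, orderOf_one] at hord
    exact hp.one_lt.ne hord
  -- a fixed point
  obtain ⟨y, hy1⟩ := (Subgroup.ne_bot_iff_exists_ne_one).mp hne
  have hyK : (y : G) ∈ Cfsg.sigmaCore M := y.2.1
  have hyC : (y : G) ∈ centralizer ({e} : Set G) := y.2.2
  have hy1' : (y : G) ≠ 1 := fun h1 => hy1 (Subtype.ext h1)
  have hey : e * (y : G) = (y : G) * e := by
    rw [Subgroup.mem_centralizer_singleton_iff] at hyC
    exact hyC.symm
  have he'y : e' * (y : G) = (y : G) * e' := by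
    rw [he']
    exact (Commute.pow_left (show Commute e (y : G) from hey) _).eq
  have hpτ := hprimes p hp hpd
  have hpσ : p ∉ Cfsg.sigma M := by
    rcases hpτ with h1 | h3
    · exact h1.2.1
    · exact h3.2.1
  have hrk : Cfsg.PRankLE p 1 ↥M := by
    rcases hpτ with h1 | h3
    · exact h1.2.2.2.2
    · exact h3.2.2.2
  have hpM : p ∣ Nat.card M := by
    have h1 : orderOf (⟨e', he'M⟩ : ↥M) = p := by
      rw [← hord]; exact Subgroup.orderOf_mk e' he'M
    rw [← h1]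
    exact orderOf_dvd_natCard _
  have hp2 : p ≠ 2 := Cfsg.Agent.Lib.Helper1.BGX.ne_two_of_dvd_sub hG.1 hpM
  have hmem : p ∈ Cfsg.kappa M := by
    refine ⟨hp, hpM, hpσ, ?_⟩
    intro P
    refine ⟨Cfsg.Agent.Lib.Helper17.isCyclic_of_pRankLE_one hp2 hrk (P : Subgroup ↥M) P.2, ?_⟩
    have hZp : IsPGroup p ↥(zpowers (⟨e', he'M⟩ : ↥M)) := by
      apply IsPGroup.of_card (n := 1)
      rw [Nat.card_zpowers, pow_one, Subgroup.orderOf_mk, hord]
    obtain ⟨Q, hQ⟩ := hZp.exists_le_sylow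
    obtain ⟨g, hg⟩ := MulAction.exists_smul_eq ↥M Q P
    have he'Q : (⟨e', he'M⟩ : ↥M) ∈ (Q : Subgroup ↥M) := hQ (Subgroup.mem_zpowers _)
    refine ⟨g * ⟨e', he'M⟩ * g⁻¹, ?_, ?_, (g : G) * y * (g : G)⁻¹, ?_, ?_, ?_⟩
    · rw [← hg, Cfsg.Agent.Lib.Helper1.mem_sylow_smul_iff]
      have e1 : g⁻¹ * (g * ⟨e', he'M⟩ * g⁻¹) * g = (⟨e', he'M⟩ : ↥M) := by group
      rw [e1]; exact he'Q
    · intro h1
      apply he'1
      have h2 : (⟨e', he'M⟩ : ↥M) = 1 := by
        calc (⟨e', he'M⟩ : ↥M) = g⁻¹ * (g * ⟨e', he'M⟩ * g⁻¹) * g := by group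
          _ = 1 := by rw [h1]; group
      exact congrArg Subtype.val h2
    · exact (Subgroup.mem_normalizer_iff.mp
        (Cfsg.Agent.Lib.Helper23.BGY.le_normalizer_sigmaCore M g.2) _).mp hyK
    · intro h1
      apply hy1'
      calc (y : G) = (g : G)⁻¹ * ((g : G) * y * (g : G)⁻¹) * (g : G) := by group
        _ = 1 := by rw [h1]; group
    · show (g : G) * e' * (g : G)⁻¹ * ((g : G) * y * (g : G)⁻¹) =
        (g : G) * y * (g : G)⁻¹ * ((g : G) * e' * (g : G)⁻¹)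
      calc (g : G) * e' * (g : G)⁻¹ * ((g : G) * y * (g : G)⁻¹)
          = (g : G) * (e' * (y : G)) * (g : G)⁻¹ := by group
        _ = (g : G) * ((y : G) * e') * (g : G)⁻¹ := by rw [he'y]
        _ = (g : G) * y * (g : G)⁻¹ * ((g : G) * e' * (g : G)⁻¹) := by group
  rw [hκ] at hmem
  exact hmem

/-- in a standard factorisation with `K = 1`, `κ(M) = ∅`. -/
theorem kappa_eq_empty_of_bot {M U : Subgroup G}
    (hKU : Cfsg.IsSigmaDecomposition M ⊥ U) : Cfsg.kappa M = ∅ := by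
  apply Set.eq_empty_of_forall_notMem
  intro p hp
  have h1 := hKU.hall.2.2 p hp.1 hp
  apply h1
  have h2 : (⊥ : Subgroup G).relIndex M = Nat.card M := Subgroup.relIndex_bot_left M
  rw [h2]
  exact hp.2.1

/-- in a standard factorisation with `κ(M) = ∅`, `K = 1`. -/
theorem eq_bot_of_kappa_eq_empty {M K U : Subgroup G}
    (hKU : Cfsg.IsSigmaDecomposition M K U) (hκ : Cfsg.kappa M = ∅) : K = ⊥ := by
  by_contra hK
  have h1 : Nat.card K ≠ 1 := fun h => hK (Subgroup.card_eq_one.mp h)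
  obtain ⟨p, hp, hpd⟩ := Nat.exists_prime_and_dvd h1
  have h2 := hKU.hall.2.1 p hp hpd
  rw [hκ] at h2
  exact h2

/-- **S1359 for `K = 1`**. -/
theorem s1359_of_bot (hG : Cfsg.IsMinSimpleOddOrder G) {M U : Subgroup G} (hM : IsCoatom M)
    (hKU : Cfsg.IsSigmaDecomposition M ⊥ U) :
    IsMulCommutative ↥(closure ((U : Set G) ∩ Cfsg.sigmaHat M)) := by
  have hE : Cfsg.IsComplIn U (Cfsg.sigmaCore M) M := by
    have := hKU.compl
    rwa [bot_sup_eq] at this
  exact closure_inter_sigmaHat_comm hG hM hE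
    (reg_of_kappa_eq_empty hG hM hE (kappa_eq_empty_of_bot hKU))

/-- **S1359 for `κ(M) = ∅`**. -/
theorem s1359_of_kappa_eq_empty (hG : Cfsg.IsMinSimpleOddOrder G) {M K U : Subgroup G}
    (hM : IsCoatom M) (hKU : Cfsg.IsSigmaDecomposition M K U) (hκ : Cfsg.kappa M = ∅) :
    IsMulCommutative ↥(closure ((U : Set G) ∩ Cfsg.sigmaHat M)) := by
  have hK := eq_bot_of_kappa_eq_empty hKU hκ
  subst hK
  exact s1359_of_bot hG hM hKU

end Cfsg.Agent.Lib.Helper19.BGTypeF
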