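import Mathlib
import Cfsg.Prelude.Def_Classical
import Cfsg.Prelude.Def_ClassicalGeometry
import Cfsg.Prelude.Def_GeometricClasses
import Cfsg.Agent.Lib.Helper5.SUMax
import Cfsg.Agent.Lib.Helper22.C3LDefs
import Cfsg.Agent.Lib.Helper22.C3LTool
import Cfsg.Agent.Lib.Helper16.C3uDefs

/-!
Unitary C3 (cubic field) leaf market (helper16), leaf C3uF4 `exists_skew_mul_mem` (helper19): counting.
`|Fix|·|Skew| ≥ |E|` (`e ↦ e - st e`), `|Fix|² ≤ |E|` (`(a, b) ↦ a + b x`, `x` moved), and if no skew `b ≠ 0` has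
`b φ ∈ B` then `(a, b) ↦ a φ + b` is injective on `Skew × B`: `|Skew| q⁴ ≤ q⁶`.  By-products: `exists_pow_q_ne`,
`st_ne_refl'` (= leaf F1), `skewAdd`, `fixAdd`, `card_le_fix_mul_skew`, `fix_sq_le_card`, `skew_mul_mem_core`.
-/

set_option autoImplicit false
set_option linter.unusedSectionVars false
set_option linter.unusedVariables false

namespace Cfsg.Agent.Lib.Helper19.C3uLeaf
open Cfsg Matrix Module Cfsg.Agent.Lib.Helper5.SpMax Cfsg.Agent.Lib.Helper5.SUMax
  Cfsg.Agent.Lib.Helper22.C3L Cfsg.Agent.Lib.Helper16.C3u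

universe u
variable {F : Type u} [Field F] [Fintype F] {n q : ℕ} {E : Type u} [Field E] [Algebra F E]

local notation "𝕍" => (Fin n → F)
local notation "𝕄" => Matrix (Fin n) (Fin n) F
local notation "ℍ" => (Cfsg.GU n F q ⊓ Cfsg.Geo.specialLinear (Fin n) F)

/-- some element of `F` is moved by `c ↦ c ^ q` -/
lemma exists_pow_q_ne (hF : Fintype.card F = q ^ 2) : ∃ c : F, c ^ q ≠ c := by
  obtain ⟨θ, hθ⟩ := Cfsg.Agent.Lib.Helper5.UForm.exists_moved
    (Cfsg.Agent.Lib.Helper5.HermBridge.herm_unitary (n := 0) hF).ne_refl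
  exact ⟨θ, hθ⟩

/-- the involution of `E` is not the identity -/
lemma st_ne_refl' (S : KU n q F E) (hF : Fintype.card F = q ^ 2) : S.st ≠ RingEquiv.refl E := by
  intro h
  obtain ⟨c, hc⟩ := exists_pow_q_ne hF
  apply hc
  have h1 := S.st_alg c
  rw [h] at h1
  exact ((algebraMap F E).injective h1).symm

/-- the skew elements, as an additive subgroup -/
def skewAdd (st : E ≃+* E) : AddSubgroup E where
  carrier := {a | st a = -a}
  zero_mem' := by simp
  add_mem' := by
    intro a b ha hb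
    simp only [Set.mem_ofPred_eq] at ha hb ⊢
    rw [map_add, ha, hb]; ring
  neg_mem' := by
    intro a ha
    simp only [Set.mem_ofPred_eq] at ha ⊢
    rw [map_neg, ha]

/-- the fixed elements, as an additive subgroup -/
def fixAdd (st : E ≃+* E) : AddSubgroup E where
  carrier := {a | st a = a}
  zero_mem' := by simp
  add_mem' := by
    intro a b ha hb
    simp only [Set.mem_ofPred_eq] at ha hb ⊢
    rw [map_add, ha, hb]
  neg_mem' := by
    intro a ha
    simp only [Set.mem_ofPred_eq] at ha ⊢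
    rw [map_neg, ha]

lemma mem_skewAdd {st : E ≃+* E} {a : E} : a ∈ skewAdd st ↔ st a = -a := Iff.rfl
lemma mem_fixAdd {st : E ≃+* E} {a : E} : a ∈ fixAdd st ↔ st a = a := Iff.rfl

/-- `|E| ≤ |Fix| * |Skew|` -/
lemma card_le_fix_mul_skew [Finite E] (st : E ≃+* E) (hst : ∀ e, st (st e) = e) :
    Nat.card E ≤ Nat.card (fixAdd st) * Nat.card (skewAdd st) := by
  let ψ : E →+ E := (AddMonoidHom.id E) - (st : E →+ E)
  have hψ : ∀ e, ψ e = e - st e := fun e => rfl
  have hker : ψ.ker = fixAdd st := by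
    ext a
    rw [AddMonoidHom.mem_ker, hψ, mem_fixAdd, sub_eq_zero]
    exact eq_comm
  have hrange : ψ.range ≤ skewAdd st := by
    rintro _ ⟨e, rfl⟩
    rw [mem_skewAdd, hψ, map_sub, hst]; ring
  have h1 : Nat.card ψ.ker * ψ.ker.index = Nat.card E := AddSubgroup.card_mul_index _
  rw [AddSubgroup.index_ker, hker] at h1
  rw [← h1]
  exact Nat.mul_le_mul_left _ (AddSubgroup.card_le_of_le hrange)

/-- `|Fix|² ≤ |E|` -/
lemma fix_sq_le_card [Finite E] (st : E ≃+* E) (hne : st ≠ RingEquiv.refl E) :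
    Nat.card (fixAdd st) * Nat.card (fixAdd st) ≤ Nat.card E := by
  obtain ⟨x, hx⟩ := Cfsg.Agent.Lib.Helper5.UForm.exists_moved hne
  rw [← Nat.card_prod]
  refine Nat.card_le_card_of_injective (fun p : fixAdd st × fixAdd st => (p.1 : E) + p.2 * x) ?_
  rintro ⟨⟨a, ha⟩, ⟨b, hb⟩⟩ ⟨⟨a', ha'⟩, ⟨b', hb'⟩⟩ h
  simp only at h
  rw [mem_fixAdd] at ha hb ha' hb'
  have hbb : b = b' := by
    by_contra hne'
    have hd : b - b' ≠ 0 := sub_ne_zero.mpr hne'
    have hx' : x = (a' - a) / (b - b') := by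
      field_simp
      linear_combination h
    apply hx
    rw [hx', map_div₀, map_sub, map_sub, ha, ha', hb, hb']
  subst hbb
  have haa : a = a' := by linear_combination h
  subst haa
  rfl

/-- counting core of F4 -/
theorem skew_mul_mem_core (st : E ≃+* E) (hst : ∀ e, st (st e) = e) (hne : st ≠ RingEquiv.refl E)
    (hq : 2 ≤ q) (hF : Fintype.card F = q ^ 2) (hr3 : finrank F E = 3) (B : Submodule F E)
    (hB : finrank F B = 2) {φ : E} (hφ : φ ≠ 0) :
    ∃ b : E, b ≠ 0 ∧ st b = -b ∧ b * φ ∈ B := by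
  have : Module.Finite F E := Module.finite_of_finrank_pos (by omega)
  have : Finite E := Module.finite_of_finite F
  have hE : Nat.card E = q ^ 6 := by
    rw [Module.natCard_eq_pow_finrank (K := F) (V := E), hr3, Nat.card_eq_fintype_card, hF, ← pow_mul]
  have hBc : Nat.card B = q ^ 4 := by
    rw [Module.natCard_eq_pow_finrank (K := F) (V := B), hB, Nat.card_eq_fintype_card, hF, ← pow_mul]
  by_contra hcon
  push Not at hcon
  -- the map `(a, b) ↦ a φ + b` is injective on `Skew × B`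
  have hinj : Nat.card (skewAdd st) * Nat.card B ≤ Nat.card E := by
    rw [← Nat.card_prod]
    refine Nat.card_le_card_of_injective (fun p : skewAdd st × B => (p.1 : E) * φ + p.2) ?_
    rintro ⟨⟨a, ha⟩, ⟨b, hb⟩⟩ ⟨⟨a', ha'⟩, ⟨b', hb'⟩⟩ h
    simp only at h
    have hsk : st (a - a') = -(a - a') := (skewAdd st).sub_mem ha ha'
    have hmem : (a - a') * φ ∈ B := by
      have : (a - a') * φ = b' - b := by linear_combination h
      rw [this]
      exact B.sub_mem hb' hb
    have haa : a = a' := by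
      by_contra hne'
      exact hcon (a - a') (sub_ne_zero.mpr hne') hsk hmem
    subst haa
    have hbb : b = b' := by linear_combination h
    subst hbb
    rfl
  have h1 := card_le_fix_mul_skew st hst
  have h2 := fix_sq_le_card st hne
  rw [hE] at h1 h2 hinj
  rw [hBc] at hinj
  set s := Nat.card (skewAdd st)
  set f := Nat.card (fixAdd st)
  -- arithmetic
  have hq0 : 0 < q := by omega
  have hs : s ≤ q ^ 2 := by
    have : s * q ^ 4 ≤ q ^ 2 * q ^ 4 := by rw [← pow_add]; exact hinj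
    exact Nat.le_of_mul_le_mul_right this (by positivity)
  have hf : q ^ 4 ≤ f := by
    have : q ^ 4 * q ^ 2 ≤ f * q ^ 2 := by
      rw [← pow_add]
      exact h1.trans (Nat.mul_le_mul_left _ hs)
    exact Nat.le_of_mul_le_mul_right this (by positivity)
  have h3 : q ^ 8 ≤ q ^ 6 := by
    calc q ^ 8 = q ^ 4 * q ^ 4 := by rw [← pow_add]
      _ ≤ f * f := Nat.mul_le_mul hf hf
      _ ≤ q ^ 6 := h2
  have h4 : q ^ 6 < q ^ 8 := Nat.pow_lt_pow_right (by omega) (by norm_num)
  omega

/-- F4 (counting): a skew multiple of `φ` in a given hyperplane of the cubic extension `E` -/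
theorem exists_skew_mul_mem (S : KU n q F E) (hF : Fintype.card F = q ^ 2)
    (hr3 : finrank F E = 3) (B : Submodule F E) (hB : finrank F B = 2) {φ : E} (hφ : φ ≠ 0) :
    ∃ b : E, b ≠ 0 ∧ S.st b = -b ∧ b * φ ∈ B := by
  classical
  exact skew_mul_mem_core S.st S.st_st (st_ne_refl' S hF) (Cfsg.Agent.Lib.Helper14.herm_two_le hF) hF hr3 B hB hφ

end Cfsg.Agent.Lib.Helper19.C3uLeaf
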