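import Mathlib
import Cfsg.Prelude.Def_Classical
import Cfsg.Prelude.Def_ClassicalGeometry
import Cfsg.Prelude.Def_GeometricClasses
import Cfsg.Agent.Lib.Helper5.SUMax
import Cfsg.Agent.Lib.Helper22.C3LDefs
import Cfsg.Agent.Lib.Helper22.C3LTool
import Cfsg.Agent.Lib.Helper16.C3uDefs
import Cfsg.Agent.Lib.Helper19.C3uF4

/-!
Unitary C3 (cubic field) leaf market (helper16), leaf C3uF5 `exists_theta` (helper19): field theory in the cubic extension.
`B₀ = {θ : ℓ (θ π) = 0} ∋ 1` has dimension 2, so contains `θ₀ ∉ F`; for `θ ∈ B₀ \ F`, `θ⁻¹ ∉ B₀` (`1, θ, θ⁻¹` are independent: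
`no_quadratic`, the degree of `θ` divides 3).  If `ℓ (θ⁻¹ π) • θ` were skew for all `θ = θ₀ + c`, comparing `c` and `0` gives
`c ^ q = c` for all `c ∈ F`.  By-products: `no_quadratic`, `coeff_zero_of_not_mem`, `functional_inv_ne`, `exists_ker_not_mem`.
-/

set_option autoImplicit false
set_option linter.unusedSectionVars false
set_option linter.unusedVariables false

namespace Cfsg.Agent.Lib.Helper19.C3uLeaf
open Cfsg Matrix Module Cfsg.Agent.Lib.Helper5.SpMax Cfsg.Agent.Lib.Helper5.SUMax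
  Cfsg.Agent.Lib.Helper22.C3L Cfsg.Agent.Lib.Helper16.C3u

universe u
variable {F : Type u} [Field F] [Fintype F] {n q : ℕ} {E : Type u} [Field E] [Algebra F E]

local notation "𝕍" => (Fin n → F)
local notation "𝕄" => Matrix (Fin n) (Fin n) F
local notation "ℍ" => (Cfsg.GU n F q ⊓ Cfsg.Geo.specialLinear (Fin n) F)

open Polynomial in
/-- an element of a cubic extension outside `F` satisfies no quadratic relation -/
lemma no_quadratic {θ : E} (hr3 : finrank F E = 3) (hθ : θ ∉ (algebraMap F E).range) {x y z : F}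
    (h : algebraMap F E z * θ ^ 2 + algebraMap F E y * θ + algebraMap F E x = 0) :
    x = 0 ∧ y = 0 ∧ z = 0 := by
  have hfin : Module.Finite F E := Module.finite_of_finrank_pos (by omega)
  have hint : IsIntegral F θ := IsIntegral.of_finite F θ
  by_contra hcon
  set p : Polynomial F := C z * X ^ 2 + C y * X + C x with hp
  have hp0 : p ≠ 0 := by
    intro hp'
    have h0 := congrArg (fun r => Polynomial.coeff r 0) hp'
    have h1 := congrArg (fun r => Polynomial.coeff r 1) hp'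
    have h2 := congrArg (fun r => Polynomial.coeff r 2) hp'
    simp [hp] at h0 h1 h2
    exact hcon ⟨h0, h1, h2⟩
  have hpθ : aeval θ p = 0 := by
    rw [hp]
    simp only [map_add, map_mul, aeval_C, map_pow, aeval_X]
    exact h
  have hdeg : (minpoly F θ).natDegree ≤ 2 := by
    have h1 := Polynomial.natDegree_le_natDegree (minpoly.degree_le_of_ne_zero F θ hp0 hpθ)
    refine h1.trans ?_
    rw [hp]
    compute_degree
  have hdvd : (minpoly F θ).natDegree ∣ 3 := by
    rw [← IntermediateField.adjoin.finrank hint, ← hr3]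
    exact ⟨_, (Module.finrank_mul_finrank F (IntermediateField.adjoin F {θ}) E).symm⟩
  have h1 : (minpoly F θ).natDegree = 1 := by
    rcases (Nat.dvd_prime Nat.prime_three).mp hdvd with h | h
    · exact h
    · omega
  exact hθ (minpoly.natDegree_eq_one_iff.mp h1)

/-- a relation `a X * θ + a Y = 0` with `θ ∉ F` forces `X = Y = 0` -/
lemma coeff_zero_of_not_mem {θ : E} (hθ : θ ∉ (algebraMap F E).range) {X Y : F}
    (h : algebraMap F E X * θ + algebraMap F E Y = 0) : X = 0 ∧ Y = 0 := by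
  have hX : X = 0 := by
    by_contra hX
    apply hθ
    refine ⟨-(Y / X), ?_⟩
    have hX' : algebraMap F E X ≠ 0 := by
      rwa [Ne, map_eq_zero]
    rw [map_neg, map_div₀]
    field_simp
    linear_combination -h
  refine ⟨hX, ?_⟩
  rw [hX, map_zero, zero_mul, zero_add, map_eq_zero] at h
  exact h

/-- step 2: a functional vanishing at `1` and `θ ∉ F` does not vanish at `θ⁻¹` -/
lemma functional_inv_ne (hr3 : finrank F E = 3) (ℓ' : E →ₗ[F] F) (hℓ' : ℓ' ≠ 0) (h1 : ℓ' 1 = 0) {θ : E}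
    (hθ : θ ∉ (algebraMap F E).range) (hθB : ℓ' θ = 0) : ℓ' θ⁻¹ ≠ 0 := by
  have hfin : Module.Finite F E := Module.finite_of_finrank_pos (by omega)
  have hθ0 : θ ≠ 0 := by
    rintro rfl
    exact hθ ⟨0, map_zero _⟩
  intro hinv
  apply hℓ'
  -- `1, θ, θ⁻¹` are linearly independent, hence span `E`
  have hli : LinearIndependent F ![(1 : E), θ, θ⁻¹] := by
    rw [Fintype.linearIndependent_iff]
    intro g hg
    rw [Fin.sum_univ_three] at hg
    simp only [Matrix.cons_val_zero, Matrix.cons_val_one, Matrix.cons_val_two, Matrix.head_cons, Matrix.tail_cons,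
      Algebra.smul_def] at hg
    have hq : algebraMap F E (g 1) * θ ^ 2 + algebraMap F E (g 0) * θ + algebraMap F E (g 2) = 0 := by
      have := congrArg (fun e => e * θ) hg
      simp only [zero_mul] at this
      rw [← this]
      field_simp
      ring
    obtain ⟨h2, h0, h1'⟩ := no_quadratic hr3 hθ hq
    intro i
    fin_cases i
    · exact h0
    · exact h1'
    · exact h2
  have hspan : Submodule.span F (Set.range ![(1 : E), θ, θ⁻¹]) = ⊤ :=
    hli.span_eq_top_of_card_eq_finrank (by rw [Fintype.card_fin, hr3])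
  apply LinearMap.ext_on_range hspan
  intro i
  fin_cases i
  · simpa using h1
  · simpa using hθB
  · simpa using hinv

/-- step 1: the kernel of a functional contains an element outside `F` -/
lemma exists_ker_not_mem (hr3 : finrank F E = 3) (ℓ' : E →ₗ[F] F) :
    ∃ θ : E, ℓ' θ = 0 ∧ θ ∉ (algebraMap F E).range := by
  have hfin : Module.Finite F E := Module.finite_of_finrank_pos (by omega)
  by_contra hcon
  push Not at hcon
  have hle : LinearMap.ker ℓ' ≤ Submodule.span F {(1 : E)} := by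
    intro θ hθ
    obtain ⟨c, hc⟩ := hcon θ (LinearMap.mem_ker.mp hθ)
    rw [Submodule.mem_span_singleton]
    exact ⟨c, by rw [← hc, Algebra.smul_def, mul_one]⟩
  have h1 : finrank F (LinearMap.ker ℓ') ≤ 1 :=
    (Submodule.finrank_mono hle).trans (by rw [finrank_span_singleton one_ne_zero])
  have h2 := LinearMap.finrank_range_add_finrank_ker ℓ'
  have h3 : finrank F (LinearMap.range ℓ') ≤ 1 := by
    have := Submodule.finrank_le (LinearMap.range ℓ')
    rwa [finrank_self] at this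
  omega

/-- `st (c • e) = c ^ q • st e`, in multiplicative form -/
lemma st_algebraMap_mul (S : KU n q F E) (c : F) (e : E) :
    S.st (algebraMap F E c * e) = algebraMap F E c ^ q * S.st e := by
  rw [map_mul, S.st_alg, map_pow]

/-- F5: the choice of `θ` in step C (pure field theory in the cubic extension) -/
theorem exists_theta (S : KU n q F E) (hF : Fintype.card F = q ^ 2) (hr3 : finrank F E = 3)
    (ℓ : E →ₗ[F] F) (hℓ : ℓ ≠ 0) {π : E} (hπ : π ≠ 0) (hℓπ : ℓ π = 0) :
    ∃ θ : E, θ ≠ 0 ∧ ℓ (θ * π) = 0 ∧ ℓ (θ⁻¹ * π) ≠ 0 ∧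
      S.st (ℓ (θ⁻¹ * π) • θ) ≠ - (ℓ (θ⁻¹ * π) • θ) := by
  classical
  -- the functional `e ↦ ℓ (e * π)`
  let ℓ' : E →ₗ[F] F := ℓ.comp (LinearMap.mulRight F π)
  have hℓ'a : ∀ e, ℓ' e = ℓ (e * π) := fun e => rfl
  have hℓ'0 : ℓ' ≠ 0 := by
    intro h
    apply hℓ
    ext e
    have := congrArg (fun f : E →ₗ[F] F => f (e * π⁻¹)) h
    simp only [hℓ'a, LinearMap.zero_apply] at this
    rw [mul_assoc, inv_mul_cancel₀ hπ, mul_one] at this
    rw [this, LinearMap.zero_apply]
  have hℓ'1 : ℓ' 1 = 0 := by rw [hℓ'a, one_mul, hℓπ]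
  obtain ⟨θ₀, hθ₀B, hθ₀F⟩ := exists_ker_not_mem hr3 ℓ'
  by_contra hcon
  push Not at hcon
  -- the family `θ₀ + c`
  have hfam : ∀ c : F, ℓ ((θ₀ + algebraMap F E c)⁻¹ * π) ≠ 0 ∧
      algebraMap F E (ℓ ((θ₀ + algebraMap F E c)⁻¹ * π)) ^ q * (S.st θ₀ + algebraMap F E c ^ q) =
        -(algebraMap F E (ℓ ((θ₀ + algebraMap F E c)⁻¹ * π)) * (θ₀ + algebraMap F E c)) := by
    intro c
    have hF' : θ₀ + algebraMap F E c ∉ (algebraMap F E).range := by
      rintro ⟨d, hd⟩
      apply hθ₀F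
      refine ⟨d - c, ?_⟩
      rw [map_sub, hd]; ring
    have h0 : θ₀ + algebraMap F E c ≠ 0 := by
      intro h
      apply hF'
      rw [h]
      exact ⟨0, map_zero _⟩
    have hB : ℓ' (θ₀ + algebraMap F E c) = 0 := by
      rw [map_add, hθ₀B, zero_add, hℓ'a, ← Algebra.smul_def, map_smul, hℓπ, smul_zero]
    have hne : ℓ ((θ₀ + algebraMap F E c)⁻¹ * π) ≠ 0 := by
      have := functional_inv_ne hr3 ℓ' hℓ'0 hℓ'1 hF' hB
      rwa [hℓ'a] at this
    refine ⟨hne, ?_⟩
    have hsk := hcon (θ₀ + algebraMap F E c) h0 (by rw [← hℓ'a]; exact hB) hne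
    rw [Algebra.smul_def, st_algebraMap_mul, map_add, S.st_alg, map_pow] at hsk
    exact hsk
  -- notation
  obtain ⟨hl0, hE0⟩ := hfam 0
  rw [map_zero, add_zero] at hl0 hE0
  have hq0 : q ≠ 0 := by
    have := Cfsg.Agent.Lib.Helper14.herm_two_le hF
    omega
  rw [zero_pow hq0, add_zero] at hE0
  set l0 : F := ℓ (θ₀⁻¹ * π) with hl0def
  -- the two equations for each `c`
  have hAB : ∀ c : F, l0 ^ q * ℓ ((θ₀ + algebraMap F E c)⁻¹ * π) =
        ℓ ((θ₀ + algebraMap F E c)⁻¹ * π) ^ q * l0 ∧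
      ℓ ((θ₀ + algebraMap F E c)⁻¹ * π) ^ q * c ^ q = -(ℓ ((θ₀ + algebraMap F E c)⁻¹ * π) * c) := by
    intro c
    obtain ⟨hlc, hEc⟩ := hfam c
    set lc : F := ℓ ((θ₀ + algebraMap F E c)⁻¹ * π) with hlcdef
    have hrel : algebraMap F E (l0 ^ q * lc - lc ^ q * l0) * θ₀ +
        algebraMap F E (l0 ^ q * (lc ^ q * c ^ q + lc * c)) = 0 := by
      simp only [map_sub, map_mul, map_add, map_pow]
      linear_combination (algebraMap F E l0) ^ q * hEc - (algebraMap F E lc) ^ q * hE0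
    obtain ⟨hX, hY⟩ := coeff_zero_of_not_mem hθ₀F hrel
    refine ⟨sub_eq_zero.mp hX, ?_⟩
    have hl0q : l0 ^ q ≠ 0 := pow_ne_zero _ hl0
    have := (mul_eq_zero.mp hY).resolve_left hl0q
    exact eq_neg_of_add_eq_zero_left this
  -- `c = 1`
  obtain ⟨hA1, hB1⟩ := hAB 1
  obtain ⟨hl1, -⟩ := hfam 1
  set l1 : F := ℓ ((θ₀ + algebraMap F E 1)⁻¹ * π) with hl1def
  rw [one_pow, mul_one, mul_one] at hB1
  have hl0sk : l0 ^ q = -l0 := by
    rw [hB1] at hA1
    have h : l1 * (l0 ^ q + l0) = 0 := by linear_combination hA1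
    exact eq_neg_of_add_eq_zero_left ((mul_eq_zero.mp h).resolve_left hl1)
  -- all `c` are fixed
  obtain ⟨c, hc⟩ := exists_pow_q_ne hF
  apply hc
  obtain ⟨hAc, hBc⟩ := hAB c
  obtain ⟨hlc, -⟩ := hfam c
  set lc : F := ℓ ((θ₀ + algebraMap F E c)⁻¹ * π) with hlcdef
  have hlcsk : lc ^ q = -lc := by
    rw [hl0sk] at hAc
    have h : l0 * (lc ^ q + lc) = 0 := by linear_combination -hAc
    exact eq_neg_of_add_eq_zero_left ((mul_eq_zero.mp h).resolve_left hl0)
  rw [hlcsk] at hBc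
  have h : lc * (c ^ q - c) = 0 := by linear_combination -hBc
  exact sub_eq_zero.mp ((mul_eq_zero.mp h).resolve_left hlc)

end Cfsg.Agent.Lib.Helper19.C3uLeaf
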