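import Mathlib
import Cfsg.Prelude.Def_CaseTheorems
import Cfsg.Agent.Lib.Helper18.UniqueInvolution
import Cfsg.Agent.Lib.Helper19.Derangement

/-!
# `p`-groups acting linearly and transitively on the nonzero vectors of a finite vector space
over a prime field (helper19, for S3370).
-/

set_option autoImplicit false
set_option linter.unusedSectionVars false
set_option linter.style.haveILetI false

namespace Cfsg.Agent.Lib.Helper19.PTransLin

/-- if `x^2 ≡ 1 mod M` and `n` is odd then `x^n ≡ x mod M`. -/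
theorem pow_odd_modEq {x M n : ℕ} (hx : x ^ 2 ≡ 1 [MOD M]) (hn : Odd n) : x ^ n ≡ x [MOD M] := by
  obtain ⟨j, rfl⟩ := hn
  have : x ^ (2 * j + 1) = (x ^ 2) ^ j * x := by rw [pow_succ, pow_mul]
  rw [this]
  have h1 : (x ^ 2) ^ j ≡ 1 ^ j [MOD M] := hx.pow j
  rw [one_pow] at h1
  simpa using h1.mul_right x

/-- `2^d = p^k + 1` with `p ≥ 2`, `k ≥ 1` forces `k = 1`. -/
theorem nt1 {p k d : ℕ} (hp : 2 ≤ p) (hk : k ≠ 0) (h : 2 ^ d = p ^ k + 1) : k = 1 := by
  have hpodd : Odd p := by
    by_contra hne
    rw [Nat.not_odd_iff_even] at hne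
    have h1 : Even (p ^ k) := (Nat.even_pow.2 ⟨hne, hk⟩)
    have h2 : Odd (2 ^ d) := by rw [h]; exact h1.add_one
    have hd : d = 0 := by
      by_contra hd
      have : Even (2 ^ d) := (Nat.even_pow.2 ⟨even_two, hd⟩)
      exact (Nat.not_odd_iff_even.2 this) h2
    rw [hd, pow_zero] at h
    have : 0 < p ^ k := Nat.pos_of_ne_zero (pow_ne_zero _ (by omega))
    omega
  have hpk1 : 2 ≤ p ^ k := by
    calc 2 ≤ p := hp
      _ = p ^ 1 := (pow_one p).symm
      _ ≤ p ^ k := Nat.pow_le_pow_right (by omega) (by omega)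
  rcases Nat.even_or_odd k with hkev | hkodd
  · -- k even: contradiction mod 4
    exfalso
    obtain ⟨j, rfl⟩ := hkev
    have hj : Odd (p ^ j) := hpodd.pow
    obtain ⟨m, hm⟩ := hj
    have hsq : p ^ (j + j) = 4 * (m * m + m) + 1 := by
      rw [pow_add, hm]; ring
    have hd2 : 2 ≤ d := by
      by_contra hd
      have : d = 0 ∨ d = 1 := by omega
      rcases this with rfl | rfl <;> omega
    obtain ⟨e, rfl⟩ : ∃ e, d = e + 2 := ⟨d - 2, by omega⟩
    rw [pow_add, hsq] at h
    omega
  · -- k odd
    have hdvd : p + 1 ∣ 2 ^ d := by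
      rw [h]
      have := hkodd.nat_add_dvd_pow_add_pow p 1
      rwa [one_pow] at this
    obtain ⟨e, hed, he⟩ := (Nat.dvd_prime_pow Nat.prime_two).1 hdvd
    have hsq : p ^ 2 ≡ 1 [MOD 2 ^ (e + 1)] := by
      obtain ⟨m, hm⟩ := hpodd
      have h2 : p ^ 2 = 2 ^ (e + 1) * m + 1 := by
        have : p + 1 = 2 * m + 2 := by omega
        have he' : 2 ^ e = 2 * m + 2 := by omega
        rw [pow_succ 2 e, he', hm]; ring
      rw [h2]
      exact (Nat.modEq_iff_dvd' (by omega)).2 (by simp) |>.symm
    have h3 := pow_odd_modEq hsq hkodd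
    have h4 : p ^ k + 1 ≡ p + 1 [MOD 2 ^ (e + 1)] := h3.add_right 1
    rw [← h, he] at h4
    have hde : d = e := by
      by_contra hne
      have hlt : e + 1 ≤ d := by omega
      have : 2 ^ (e + 1) ∣ 2 ^ d := pow_dvd_pow 2 hlt
      have h5 : 2 ^ d ≡ 0 [MOD 2 ^ (e + 1)] := (Nat.modEq_zero_iff_dvd).2 this
      have h6 : 2 ^ e ≡ 0 [MOD 2 ^ (e + 1)] := h4.symm.trans h5
      have h7 := (Nat.modEq_zero_iff_dvd).1 h6
      have h8 := Nat.le_of_dvd (by positivity) h7
      have : 2 ^ e < 2 ^ (e + 1) := Nat.pow_lt_pow_right (by omega) (by omega)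
      omega
    rw [hde] at h
    have : p ^ k = p ^ 1 := by rw [pow_one]; omega
    exact Nat.pow_right_injective hp this

/-- `q^d = 2^k + 1` with `q` odd, `d ≥ 2` forces `q = 3`, `d = 2`. -/
theorem nt2 {q d k : ℕ} (hq : Odd q) (hq3 : 3 ≤ q) (hd : 2 ≤ d) (h : q ^ d = 2 ^ k + 1) :
    q = 3 ∧ d = 2 := by
  rcases Nat.even_or_odd d with hdev | hdodd
  · obtain ⟨j, rfl⟩ := hdev
    have hj : 1 ≤ j := by omega
    have hqj : 3 ≤ q ^ j := by
      calc 3 ≤ q := hq3
        _ = q ^ 1 := (pow_one q).symm
        _ ≤ q ^ j := Nat.pow_le_pow_right (by omega) hj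
    have hfac : (q ^ j - 1) * (q ^ j + 1) = 2 ^ k := by
      have : q ^ (j + j) = q ^ j * q ^ j := pow_add _ _ _
      have h1 : q ^ j * q ^ j = 2 ^ k + 1 := by rw [← this]; exact h
      obtain ⟨a, ha⟩ : ∃ a, q ^ j = a + 1 := ⟨q ^ j - 1, by omega⟩
      rw [ha] at h1 ⊢
      simp only [Nat.add_sub_cancel]
      have : (a + 1) * (a + 1) = a * (a + 1 + 1) + 1 := by ring
      omega
    have hd1 : q ^ j - 1 ∣ 2 ^ k := ⟨_, hfac.symm⟩
    have hd2 : q ^ j + 1 ∣ 2 ^ k := ⟨_, by rw [mul_comm]; exact hfac.symm⟩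
    obtain ⟨a, -, ha⟩ := (Nat.dvd_prime_pow Nat.prime_two).1 hd1
    obtain ⟨b, -, hb⟩ := (Nat.dvd_prime_pow Nat.prime_two).1 hd2
    have hab : 2 ^ b = 2 ^ a + 2 := by omega
    have ha1 : a = 1 := by
      rcases Nat.lt_or_ge a 2 with ha2 | ha2
      · have : a = 0 ∨ a = 1 := by omega
        rcases this with rfl | rfl
        · exfalso
          simp at hab
          have : b ≠ 0 := by rintro rfl; simp at hab
          obtain ⟨b', rfl⟩ : ∃ b', b = b' + 1 := ⟨b - 1, by omega⟩
          rw [pow_succ] at hab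
          omega
        · rfl
      · exfalso
        obtain ⟨a', rfl⟩ : ∃ a', a = a' + 2 := ⟨a - 2, by omega⟩
        have hb2 : 2 ≤ b := by
          by_contra hb2
          have : b = 0 ∨ b = 1 := by omega
          have h4 : 4 ≤ 2 ^ (a' + 2) := by
            rw [pow_add]; have : 1 ≤ 2 ^ a' := Nat.one_le_two_pow; omega
          rcases this with rfl | rfl <;> omega
        obtain ⟨b', rfl⟩ : ∃ b', b = b' + 2 := ⟨b - 2, by omega⟩
        rw [pow_add, pow_add] at hab
        omega
    rw [ha1] at ha
    have hq3' : q ^ j = 3 := by omega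
    have hqd : q ∣ 3 := by
      rw [← hq3']; exact dvd_pow_self q (by omega)
    have hq3'' : q = 3 := by
      rcases (Nat.prime_three.eq_one_or_self_of_dvd q hqd) with h1 | h1
      · omega
      · exact h1
    refine ⟨hq3'', ?_⟩
    rw [hq3''] at hq3'
    have : j = 1 := Nat.pow_right_injective (le_refl 2 |>.trans (by norm_num : 2 ≤ 3)) (by simpa using hq3')
    omega
  · exfalso
    have hdvd : q - 1 ∣ 2 ^ k := by
      have := Nat.sub_dvd_pow_sub_pow q 1 d
      rw [one_pow, h] at this
      simpa using this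
    obtain ⟨e, -, he⟩ := (Nat.dvd_prime_pow Nat.prime_two).1 hdvd
    have hsq : q ^ 2 ≡ 1 [MOD 2 ^ (e + 1)] := by
      obtain ⟨m, hm⟩ := hq
      have he' : 2 ^ e = 2 * m := by omega
      have h2 : q ^ 2 = 2 ^ (e + 1) * (m + 1) + 1 := by
        rw [pow_succ 2 e, he', hm]; ring
      rw [h2]
      exact (Nat.modEq_iff_dvd' (by omega)).2 (by simp) |>.symm
    have h3 := pow_odd_modEq hsq hdodd
    rw [h] at h3
    -- 2^k + 1 ≡ q = 2^e + 1
    have hqe : q = 2 ^ e + 1 := by omega
    rw [hqe] at h3
    have h4 : 2 ^ k ≡ 2 ^ e [MOD 2 ^ (e + 1)] := Nat.ModEq.add_right_cancel' 1 h3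
    have hek : e ≤ k := by
      have h5 : q ≤ q ^ d := by
        calc q = q ^ 1 := (pow_one q).symm
          _ ≤ q ^ d := Nat.pow_le_pow_right (by omega) (by omega)
      have : 2 ^ e ≤ 2 ^ k := by omega
      exact (Nat.pow_le_pow_iff_right (by omega)).1 this
    have hke : k = e := by
      by_contra hne
      have hlt : e + 1 ≤ k := by omega
      have : 2 ^ (e + 1) ∣ 2 ^ k := pow_dvd_pow 2 hlt
      have h5 : 2 ^ k ≡ 0 [MOD 2 ^ (e + 1)] := (Nat.modEq_zero_iff_dvd).2 this
      have h6 : 2 ^ e ≡ 0 [MOD 2 ^ (e + 1)] := h4.symm.trans h5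
      have h7 := (Nat.modEq_zero_iff_dvd).1 h6
      have h8 := Nat.le_of_dvd (by positivity) h7
      have : 2 ^ e < 2 ^ (e + 1) := Nat.pow_lt_pow_right (by omega) (by omega)
      omega
    rw [hke] at h
    have : q ^ d = q ^ 1 := by rw [pow_one, h, hqe]
    have := Nat.pow_right_injective (by omega : 2 ≤ q) this
    omega

section Setup

variable {q : ℕ} [Fact q.Prime] {V : Type*} [AddCommGroup V] [Module (ZMod q) V] [Finite V]
  {G : Type*} [Group G] [Finite G] (ρ : G →* (V ≃ₗ[ZMod q] V))

/-- The action of `G` on the nonzero vectors. -/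
@[reducible] def actX : MulAction G {v : V // v ≠ 0} where
  smul g x := ⟨ρ g x.1, fun h => x.2 ((ρ g).map_eq_zero_iff.1 h)⟩
  one_smul x := Subtype.ext (by show ρ 1 x.1 = x.1; rw [map_one]; rfl)
  mul_smul g h x := Subtype.ext (by show ρ (g * h) x.1 = ρ g (ρ h x.1); rw [map_mul]; rfl)

theorem actX_val (g : G) (x : {v : V // v ≠ 0}) :
    (letI := actX ρ; (g • x)).1 = ρ g x.1 := rfl

theorem pretrans (htrans : ∀ v w : V, v ≠ 0 → w ≠ 0 → ∃ g : G, ρ g v = w) :
    letI := actX ρ; MulAction.IsPretransitive G {v : V // v ≠ 0} := by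
  letI := actX ρ
  refine ⟨fun x y => ?_⟩
  obtain ⟨g, hg⟩ := htrans x.1 y.1 x.2 y.2
  exact ⟨g, Subtype.ext hg⟩

theorem eq_one_of_fix (hρ : Function.Injective ρ) (g : G)
    (h : ∀ v : V, v ≠ 0 → ρ g v = v) : g = 1 := by
  apply hρ
  rw [map_one]
  ext v
  by_cases hv : v = 0
  · rw [hv, map_zero, map_zero]
  · rw [h v hv]; rfl

theorem card_X : Nat.card {v : V // v ≠ 0} + 1 = Nat.card V := by
  classical
  letI := Fintype.ofFinite V
  rw [Nat.card_eq_fintype_card, Nat.card_eq_fintype_card, Fintype.card_subtype_compl,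
    Fintype.card_subtype_eq]
  have : 0 < Fintype.card V := Fintype.card_pos
  omega

theorem card_X_dvd (htrans : ∀ v w : V, v ≠ 0 → w ≠ 0 → ∃ g : G, ρ g v = w) [Nontrivial V] :
    Nat.card {v : V // v ≠ 0} ∣ Nat.card G := by
  letI := actX ρ
  haveI := pretrans ρ htrans
  obtain ⟨v, hv⟩ := exists_ne (0 : V)
  rw [← MulAction.index_stabilizer_of_transitive G (⟨v, hv⟩ : {v : V // v ≠ 0})]
  exact Subgroup.index_dvd_card _

theorem faithful_toPerm (hρ : Function.Injective ρ) :
    letI := actX ρ; Function.Injective (MulAction.toPermHom G {v : V // v ≠ 0}) := by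
  letI := actX ρ
  rw [injective_iff_map_eq_one]
  intro g hg
  apply eq_one_of_fix ρ hρ
  intro v hv
  have := congrArg (fun σ : Equiv.Perm {v : V // v ≠ 0} => (σ ⟨v, hv⟩).1) hg
  exact this

/-- case `q = 2`-type: if the number of nonzero vectors is the prime `p` and `G` is a `p`-group
then `G` has order `p`. -/
theorem card_eq_prime {p : ℕ} [Fact p.Prime] (hG : IsPGroup p G) [Nontrivial G]
    (hρ : Function.Injective ρ) (hX : Nat.card {v : V // v ≠ 0} = p) : Nat.card G = p := by
  letI := actX ρ
  have hdvd : Nat.card G ∣ Nat.card (Equiv.Perm {v : V // v ≠ 0}) :=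
    Subgroup.card_dvd_of_injective _ (faithful_toPerm ρ hρ)
  rw [Nat.card_perm, hX] at hdvd
  obtain ⟨a, ha⟩ := IsPGroup.iff_card.1 hG
  have hp := (Fact.out : p.Prime)
  have ha0 : a ≠ 0 := by
    rintro rfl
    rw [pow_zero] at ha
    have : Subsingleton G := (Nat.card_eq_one_iff_unique.1 ha).1
    exact not_subsingleton G this
  have ha1 : a ≤ 1 := by
    by_contra hlt
    have h2 : p ^ 2 ∣ p.factorial := by
      refine dvd_trans ?_ hdvd
      rw [ha]
      exact pow_dvd_pow p (by omega)
    obtain ⟨p', rfl⟩ : ∃ p', p = p' + 1 := ⟨p - 1, by have := hp.pos; omega⟩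
    rw [Nat.factorial_succ, pow_two] at h2
    have h3 : (p' + 1) ∣ p'.factorial := Nat.dvd_of_mul_dvd_mul_left (by omega) h2
    have := (hp.dvd_factorial).1 h3
    omega
  have : a = 1 := by omega
  rw [ha, this, pow_one]

end Setup

section Line

variable {q : ℕ} [Fact q.Prime] {V : Type*} [AddCommGroup V] [Module (ZMod q) V] [Finite V]
  {G : Type*} [Group G] [Finite G] (ρ : G →* (V ≃ₗ[ZMod q] V))

/-- one-dimensional case: `G` embeds in the multiplicative group of the prime field. -/
theorem cyclic_of_card_eq (hρ : Function.Injective ρ) (hV : Nat.card V = q) :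
    IsCyclic G ∧ Nat.card G ≤ q - 1 := by
  classical
  have hq := (Fact.out : q.Prime)
  haveI : Nontrivial V := by
    rw [← Finite.one_lt_card_iff_nontrivial, hV]; exact hq.one_lt
  obtain ⟨v₀, hv₀⟩ := exists_ne (0 : V)
  let φ : ZMod q → V := fun c => c • v₀
  have hφinj : Function.Injective φ := by
    intro c c' h
    have h1 : (c - c') • v₀ = 0 := by rw [sub_smul]; exact sub_eq_zero.2 h
    rcases smul_eq_zero.1 h1 with h2 | h2
    · exact sub_eq_zero.1 h2
    · exact absurd h2 hv₀
  have hφsurj : Function.Surjective φ := by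
    have : Function.Bijective φ := by
      rw [Nat.bijective_iff_injective_and_card]
      exact ⟨hφinj, by rw [hV, Nat.card_zmod]⟩
    exact this.2
  choose c hc using fun g : G => hφsurj (ρ g v₀)
  have hc' : ∀ g : G, c g • v₀ = ρ g v₀ := hc
  have hscal : ∀ (g : G) (v : V), ρ g v = c g • v := by
    intro g v
    obtain ⟨a, rfl⟩ := hφsurj v
    show ρ g (a • v₀) = c g • (a • v₀)
    rw [map_smul, ← hc' g, smul_smul, smul_smul, mul_comm]
  have hmul : ∀ g h : G, c (g * h) = c g * c h := by
    intro g h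
    apply hφinj
    show c (g * h) • v₀ = (c g * c h) • v₀
    rw [hc', map_mul, LinearEquiv.mul_apply, hscal h, hscal g, smul_smul]
  have hone : c 1 = 1 := by
    apply hφinj
    show c 1 • v₀ = (1 : ZMod q) • v₀
    rw [hc', map_one, one_smul]; rfl
  let f : G →* ZMod q := { toFun := c, map_one' := hone, map_mul' := hmul }
  have hf : Function.Injective f := by
    intro g h hgh
    apply hρ
    ext v
    rw [hscal, hscal]
    show c g • v = c h • v
    have : c g = c h := hgh
    rw [this]
  refine ⟨isCyclic_of_injective_ringHom f hf, ?_⟩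
  have hne : ∀ g : G, c g ≠ 0 := by
    intro g h0
    have := hscal g v₀
    rw [h0, zero_smul] at this
    exact hv₀ ((ρ g).map_eq_zero_iff.1 this)
  let f' : G → {a : ZMod q // a ≠ 0} := fun g => ⟨c g, hne g⟩
  have hf' : Function.Injective f' := by
    intro g h hgh
    exact hf (congrArg Subtype.val hgh)
  have h1 := Nat.card_le_card_of_injective f' hf'
  have h2 : Nat.card {a : ZMod q // a ≠ 0} + 1 = q := by
    rw [Nat.card_eq_fintype_card, Fintype.card_subtype_compl, Fintype.card_subtype_eq, ZMod.card]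
    have := hq.pos
    omega
  omega

end Line

/-- Abstract recognition of the semidihedral group of order 16. -/
theorem qd16 {G : Type*} [Group G] [Fintype G] [DecidableEq G] (hcard : Fintype.card G = 16)
    (z : G) (hz1 : z ≠ 1) (hzc : ∀ g : G, g * z = z * g)
    (R : Finset G) (hR4 : R.card ≤ 4) (hRne : R.Nonempty)
    (ha : ∀ s : G, s ^ 2 = 1 → s ≠ 1 → s = z ∨ s ∈ R)
    (hb : ∀ r ∈ R, r ^ 2 = 1 ∧ r ≠ 1)
    (hc : ∀ r ∈ R, ∀ g : G, g * r = r * g → g ^ 2 = 1) :
    ∃ x y : G, orderOf x = 8 ∧ orderOf y = 2 ∧ y * x * y⁻¹ = x ^ 3 := by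
  have hcardN : Nat.card G = 16 := by rw [Nat.card_eq_fintype_card, hcard]
  -- Step 1: an element of order 8
  have hex8 : ∃ x : G, orderOf x = 8 := by
    by_contra hno
    push Not at hno
    have h4 : ∀ g : G, g ^ 4 = 1 := by
      intro g
      have hdvd : orderOf g ∣ 2 ^ 4 := by
        have := orderOf_dvd_natCard g
        rw [hcardN] at this
        exact this
      obtain ⟨k, hk, hko⟩ := (Nat.dvd_prime_pow Nat.prime_two).1 hdvd
      have hk2 : k ≤ 2 := by
        by_contra hlt
        have : k = 3 ∨ k = 4 := by omega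
        rcases this with rfl | rfl
        · exact hno g (by rw [hko]; norm_num)
        · apply hno (g ^ 2)
          rw [orderOf_pow, hko]
          norm_num
      rw [← orderOf_dvd_iff_pow_eq_one, hko]
      exact pow_dvd_pow 2 hk2
    have hA : ∀ g : G, g ^ 2 ≠ 1 → g ^ 2 = z := by
      intro g hg
      have h1 : (g ^ 2) ^ 2 = 1 := by rw [← pow_mul]; exact h4 g
      rcases ha (g ^ 2) h1 hg with h | h
      · exact h
      · exfalso
        apply hg
        apply hc (g ^ 2) h g
        rw [← pow_succ, ← pow_succ']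
    have hB : ∀ r ∈ R, ∀ g : G, g ^ 2 ≠ 1 → r * g * r = g⁻¹ := by
      intro r hr g hg
      obtain ⟨hr2, hr1⟩ := hb r hr
      have hrinv : r⁻¹ = r := by
        rw [inv_eq_iff_mul_eq_one, ← pow_two, hr2]
      by_cases hh : (g * r) ^ 2 = 1
      · have : g * r * (g * r) = 1 := by rw [← pow_two]; exact hh
        have h2 : r * g * r = g⁻¹ := by
          have h3 : g * (r * g * r) = 1 := by rw [← this]; group
          exact (eq_inv_of_mul_eq_one_right h3)
        exact h2
      · exfalso
        have h1 := hA (g * r) hh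
        have h2 := hA g hg
        apply hg
        apply hc r hr g
        have h3 : g * r * (g * r) = g * g := by rw [← pow_two, ← pow_two, h1, h2]
        have h4' : r * g * r = g := by
          have : g * (r * g * r) = g * g := by rw [← h3]; group
          exact mul_left_cancel this
        calc g * r = (r * g * r) * r := by rw [h4']
          _ = r * g * (r * r) := by group
          _ = r * g := by rw [← pow_two, hr2, mul_one]
    obtain ⟨r, hr⟩ := hRne
    obtain ⟨hr2, hr1⟩ := hb r hr
    have hrr : r * r = 1 := by rw [← pow_two, hr2]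
    have hC : ∀ g h : G, g ^ 2 ≠ 1 → h ^ 2 ≠ 1 → (g * h) ^ 2 ≠ 1 → g * h = h * g := by
      intro g h hg hh hgh
      have h1 := hB r hr g hg
      have h2 := hB r hr h hh
      have h3 := hB r hr (g * h) hgh
      have h4' : r * (g * h) * r = (r * g * r) * (r * h * r) := by
        have : (r * g * r) * (r * h * r) = r * g * (r * r) * h * r := by group
        rw [this, hrr]; group
      rw [h4', h1, h2, mul_inv_rev] at h3
      have h5 := congrArg (fun t => t⁻¹) h3
      have h6 : h * g = g * h := by simpa using h5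
      exact h6.symm
    -- an element of order 4
    have hg₀ : ∃ g₀ : G, g₀ ^ 2 ≠ 1 := by
      by_contra hcon
      push Not at hcon
      have hsub : (Finset.univ : Finset G) ⊆ insert 1 (insert z R) := by
        intro s _
        by_cases hs : s = 1
        · simp [hs]
        · rcases ha s (hcon s) hs with h | h
          · simp [h]
          · simp [h]
      have := Finset.card_le_card hsub
      rw [Finset.card_univ, hcard] at this
      have h1 := Finset.card_insert_le (1 : G) (insert z R)
      have h2 := Finset.card_insert_le z R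
      omega
    obtain ⟨g₀, hg₀⟩ := hg₀
    have hD : ∀ h : G, h ∉ R → g₀ * h = h * g₀ := by
      intro h hhR
      by_cases hh2 : h ^ 2 = 1
      · by_cases hh1 : h = 1
        · rw [hh1, mul_one, one_mul]
        · rcases ha h hh2 hh1 with h' | h'
          · rw [h']; exact hzc g₀
          · exact absurd h' hhR
      · by_cases hgh : (g₀ * h) ^ 2 = 1
        · by_cases hgh1 : g₀ * h = 1
          · have : h = g₀⁻¹ := (eq_inv_of_mul_eq_one_right hgh1)
            rw [this, mul_inv_cancel, inv_mul_cancel]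
          · rcases ha (g₀ * h) hgh hgh1 with h' | h'
            · have : h = g₀⁻¹ * z := by rw [← h']; group
              rw [this, ← mul_assoc, mul_inv_cancel, one_mul, mul_assoc, ← hzc g₀, ← mul_assoc,
                inv_mul_cancel, one_mul]
            · exfalso
              apply hh2
              have hB' := hB (g₀ * h) h' g₀ hg₀
              have hr'2 := (hb _ h').1
              have hh : h = g₀⁻¹ * (g₀ * h) := by group
              set r' := g₀ * h with hr'
              have hr'r' : r' * r' = 1 := by rw [← pow_two, hr'2]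
              have h6 : r' * g₀⁻¹ * r' = g₀ := by
                have := congrArg (fun t => t⁻¹) hB'
                simp only [mul_inv_rev, inv_inv] at this
                have hinv : r'⁻¹ = r' := by rw [inv_eq_iff_mul_eq_one]; exact hr'r'
                rw [hinv, ← mul_assoc] at this
                exact this
              rw [hh, pow_two]
              calc g₀⁻¹ * r' * (g₀⁻¹ * r') = g₀⁻¹ * (r' * g₀⁻¹ * r') := by group
                _ = 1 := by rw [h6, inv_mul_cancel]
        · exact hC g₀ h hg₀ hh2 hgh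
    -- centralizer of g₀ is everything
    have hcent : Subgroup.centralizer {g₀} = ⊤ := by
      apply Subgroup.eq_top_of_card_eq
      have hdvd := Subgroup.card_subgroup_dvd_card (Subgroup.centralizer {g₀})
      rw [hcardN] at hdvd
      have hge : 12 ≤ Nat.card (Subgroup.centralizer {g₀}) := by
        have h1 : (Finset.univ \ R).card ≤ Nat.card (Subgroup.centralizer {g₀}) := by
          have hsub : ((Finset.univ \ R : Finset G) : Set G) ⊆
              ((Subgroup.centralizer {g₀} : Subgroup G) : Set G) := by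
            intro h hh
            rw [Finset.mem_coe, Finset.mem_sdiff] at hh
            rw [SetLike.mem_coe, Subgroup.mem_centralizer_singleton_iff]
            exact (hD h hh.2).symm
          have h1 := Set.ncard_le_ncard hsub (Set.toFinite _)
          rw [Set.ncard_coe_finset] at h1
          have h2 : Nat.card (Subgroup.centralizer {g₀}) =
              ((Subgroup.centralizer {g₀} : Subgroup G) : Set G).ncard :=
            Nat.card_coe_set_eq _
          rw [h2]; exact h1
        have h2 : (Finset.univ \ R).card = 16 - R.card := by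
          rw [Finset.card_sdiff_of_subset (Finset.subset_univ R), Finset.card_univ, hcard]
        omega
      have hmem : Nat.card (Subgroup.centralizer {g₀}) ∈ Nat.divisors 16 := by
        rw [Nat.mem_divisors]; exact ⟨hdvd, by norm_num⟩
      have hdiv : Nat.divisors 16 = {1, 2, 4, 8, 16} := by decide
      rw [hdiv] at hmem
      simp only [Finset.mem_insert, Finset.mem_singleton] at hmem
      rw [hcardN]
      omega
    apply hg₀
    apply hc r hr g₀
    have : r ∈ Subgroup.centralizer {g₀} := by rw [hcent]; trivial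
    rw [Subgroup.mem_centralizer_singleton_iff] at this
    exact this.symm
  obtain ⟨x, hx⟩ := hex8
  have hx8 : x ^ 8 = 1 := by rw [← hx]; exact pow_orderOf_eq_one x
  have hx8k : ∀ k : ℕ, x ^ (8 * k) = 1 := fun k => by rw [pow_mul, hx8, one_pow]
  have hx4ne : x ^ 4 ≠ 1 := by
    intro h
    have := orderOf_dvd_of_pow_eq_one h
    rw [hx] at this
    have := Nat.le_of_dvd (by norm_num) this
    omega
  have hx2ne : x ^ 2 ≠ 1 := by
    intro h; apply hx4ne; rw [show 4 = 2 * 2 from rfl, pow_mul, h, one_pow]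
  have hx4z : x ^ 4 = z := by
    have h1 : (x ^ 4) ^ 2 = 1 := by rw [← pow_mul]; exact hx8
    rcases ha (x ^ 4) h1 hx4ne with h | h
    · exact h
    · exfalso; apply hx2ne; apply hc (x ^ 4) h x; rw [← pow_succ, ← pow_succ']
  obtain ⟨r, hr⟩ := hRne
  obtain ⟨hr2, hr1⟩ := hb r hr
  have hrr : r * r = 1 := by rw [← pow_two, hr2]
  have hrinv : r⁻¹ = r := by rw [inv_eq_iff_mul_eq_one]; exact hrr
  have hrnot : r ∉ Subgroup.zpowers x := by
    intro hmem
    obtain ⟨k, hk⟩ := Subgroup.mem_zpowers_iff.1 hmem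
    apply hx2ne
    apply hc r hr x
    rw [← hk]
    exact (Commute.self_zpow x k).eq
  have hidx : (Subgroup.zpowers x).index = 2 := by
    have h1 := Subgroup.card_mul_index (Subgroup.zpowers x)
    rw [Nat.card_zpowers, hx, hcardN] at h1
    omega
  haveI hnorm : (Subgroup.zpowers x).Normal := Subgroup.normal_of_index_eq_two hidx
  have hconj : r * x * r⁻¹ ∈ Subgroup.zpowers x := hnorm.conj_mem x (Subgroup.mem_zpowers x) r
  obtain ⟨j, hj8, hj⟩ : ∃ j : ℕ, j < 8 ∧ x ^ j = r * x * r⁻¹ := by
    rw [← mem_powers_iff_mem_zpowers] at hconj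
    obtain ⟨n, hn⟩ := Submonoid.mem_powers_iff _ _ |>.1 hconj
    refine ⟨n % 8, Nat.mod_lt _ (by norm_num), ?_⟩
    rw [← hn, ← hx, pow_mod_orderOf]
  have hconj4 : (r * x * r⁻¹) ^ 4 = z := by
    rw [conj_pow, hx4z, hzc r, mul_assoc, mul_inv_cancel, mul_one]
  have hjpow4 : (x ^ j) ^ 4 = z := by rw [hj]; exact hconj4
  rw [← pow_mul] at hjpow4
  have hxr : ∀ i : ℕ, r * x ^ i * r⁻¹ = (x ^ j) ^ i := by
    intro i; rw [hj, conj_pow]
  interval_cases j
  · exfalso; apply hz1; rw [← hjpow4]; exact hx8k 0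
  · exfalso
    apply hx2ne
    apply hc r hr x
    rw [pow_one] at hj
    calc x * r = (r * x * r⁻¹) * r := by rw [← hj]
      _ = r * x := by group
  · exfalso; apply hz1; rw [← hjpow4]; exact hx8k 1
  · exact ⟨x, r, hx, orderOf_eq_prime hr2 hr1, hj.symm⟩
  · exfalso; apply hz1; rw [← hjpow4]; exact hx8k 2
  · exfalso
    apply hx4ne
    have h1 : (x ^ 2) ^ 2 = 1 := by
      apply hc r hr (x ^ 2)
      have h2 := hxr 2
      have h3 : (x ^ 5) ^ 2 = x ^ 2 := by
        rw [← pow_mul, show 5 * 2 = 8 * 1 + 2 from rfl, pow_add, hx8k 1, one_mul]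
      rw [h3] at h2
      calc x ^ 2 * r = (r * x ^ 2 * r⁻¹) * r := by rw [h2]
        _ = r * x ^ 2 := by group
    rw [← pow_mul] at h1
    exact h1
  · exfalso; apply hz1; rw [← hjpow4]; exact hx8k 3
  · exfalso
    have hinvol : ∀ i : ℕ, (r * x ^ i) ^ 2 = 1 := by
      intro i
      have h2 := hxr i
      rw [pow_two]
      calc r * x ^ i * (r * x ^ i) = (r * x ^ i * r⁻¹) * x ^ i := by rw [hrinv]; group
        _ = (x ^ 7) ^ i * x ^ i := by rw [h2]
        _ = 1 := by rw [← pow_mul, ← pow_add, show 7 * i + i = 8 * i by ring, hx8k]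
    have hmemR : ∀ i : ℕ, r * x ^ i ∈ R := by
      intro i
      have hne1 : r * x ^ i ≠ 1 := by
        intro h
        apply hrnot
        have : r = (x ^ i)⁻¹ := eq_inv_of_mul_eq_one_left h
        rw [this]
        exact (Subgroup.zpowers x).inv_mem (Subgroup.pow_mem _ (Subgroup.mem_zpowers x) i)
      rcases ha (r * x ^ i) (hinvol i) hne1 with h | h
      · exfalso
        apply hrnot
        have : r = z * (x ^ i)⁻¹ := by rw [← h]; group
        rw [this, ← hx4z]
        exact (Subgroup.zpowers x).mul_mem (Subgroup.pow_mem _ (Subgroup.mem_zpowers x) 4)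
          ((Subgroup.zpowers x).inv_mem (Subgroup.pow_mem _ (Subgroup.mem_zpowers x) i))
      · exact h
    have hle : (Finset.range 8).card ≤ R.card := by
      apply Finset.card_le_card_of_injOn (fun i => r * x ^ i)
      · intro i _; exact hmemR i
      · intro i hi k hk hik
        have h1 : x ^ i = x ^ k := mul_left_cancel hik
        have hi' : i < orderOf x := by rw [hx]; simpa using hi
        have hk' : k < orderOf x := by rw [hx]; simpa using hk
        exact pow_injOn_Iio_orderOf hi' hk' h1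
    rw [Finset.card_range] at hle
    omega

theorem two_ne_zero_zmod3 : (2 : ZMod 3) ≠ 0 := by decide

section Nine

variable [Fact (Nat.Prime 3)] {V : Type*} [AddCommGroup V] [Module (ZMod 3) V] [Finite V]
  {G : Type*} [Group G] [Finite G] (ρ : G →* (V ≃ₗ[ZMod 3] V))

theorem ne_neg {v : V} (hv : v ≠ 0) : v ≠ -v := by
  intro h
  have h2 : (2 : ZMod 3) • v = 0 := by
    rw [two_smul]
    nth_rewrite 2 [h]
    exact add_neg_cancel v
  have h20 : (2 : ZMod 3) ≠ 0 := two_ne_zero_zmod3
  rcases smul_eq_zero.1 h2 with h3 | h3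
  · exact absurd h3 h20
  · exact hv h3

theorem eq_one_of_two_fixed (hρ : Function.Injective ρ) (hV : Nat.card V = 9) (g : G) {v w : V}
    (hv : v ≠ 0) (hgv : ρ g v = v) (hgw : ρ g w = w) (hw0 : w ≠ 0) (hwv : w ≠ v)
    (hwv' : w ≠ -v) : g = 1 := by
  classical
  let F : Submodule (ZMod 3) V := LinearMap.eqLocus (ρ g).toLinearMap LinearMap.id
  have hmem : ∀ u, u ∈ F ↔ ρ g u = u := fun u => Iff.rfl
  have hdvd : Nat.card F ∣ 9 := by
    rw [← hV]; exact AddSubgroup.card_addSubgroup_dvd_card F.toAddSubgroup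
  have h4 : 4 ≤ Nat.card F := by
    let s : Finset V := {0, v, -v, w}
    have hs : s.card = 4 := by
      have h1 : (-v : V) ≠ w := fun h => hwv' h.symm
      have h2 : v ∉ ({-v, w} : Finset V) := by
        simp only [Finset.mem_insert, Finset.mem_singleton, not_or]
        exact ⟨ne_neg hv, fun h => hwv h.symm⟩
      have h3 : (0 : V) ∉ ({v, -v, w} : Finset V) := by
        simp only [Finset.mem_insert, Finset.mem_singleton, not_or]
        exact ⟨fun h => hv h.symm, fun h => hv (neg_eq_zero.1 h.symm), fun h => hw0 h.symm⟩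
      rw [Finset.card_insert_of_notMem h3, Finset.card_insert_of_notMem h2, Finset.card_pair h1]
    have hsub : (s : Set V) ⊆ (F : Set V) := by
      intro u hu
      simp only [s, Finset.coe_insert, Finset.coe_singleton, Set.mem_insert_iff,
        Set.mem_singleton_iff] at hu
      rw [SetLike.mem_coe, hmem]
      rcases hu with rfl | rfl | rfl | rfl
      · exact map_zero _
      · exact hgv
      · rw [map_neg, hgv]
      · exact hgw
    have := Set.ncard_le_ncard hsub (Set.toFinite _)
    rw [Set.ncard_coe_finset, hs] at this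
    have h2 : Nat.card F = (F : Set V).ncard := Nat.card_coe_set_eq _
    rw [h2]; exact this
  have h9 : Nat.card F = 9 := by
    have hmem9 : Nat.card F ∈ Nat.divisors 9 := by
      rw [Nat.mem_divisors]; exact ⟨hdvd, by norm_num⟩
    have hdiv : Nat.divisors 9 = {1, 3, 9} := by decide
    rw [hdiv] at hmem9
    simp only [Finset.mem_insert, Finset.mem_singleton] at hmem9
    omega
  have htop : F.toAddSubgroup = ⊤ := by
    apply AddSubgroup.eq_top_of_card_eq
    rw [hV]; exact h9
  apply eq_one_of_fix ρ hρ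
  intro u _
  have : u ∈ F.toAddSubgroup := by rw [htop]; trivial
  exact (hmem u).1 this

theorem card_fixedBy_of_fix (hρ : Function.Injective ρ) (hV : Nat.card V = 9) (g : G)
    (hg : g ≠ 1) (x : {v : V // v ≠ 0}) (hx : ρ g x.1 = x.1) :
    letI := actX ρ; Nat.card (MulAction.fixedBy {v : V // v ≠ 0} g) = 2 := by
  letI := actX ρ
  have hset : MulAction.fixedBy {v : V // v ≠ 0} g = {x, ⟨-x.1, neg_ne_zero.2 x.2⟩} := by
    ext y
    rw [MulAction.mem_fixedBy]
    constructor
    · intro hy
      have hy' : ρ g y.1 = y.1 := congrArg Subtype.val hy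
      by_contra hne
      simp only [Set.mem_insert_iff, Set.mem_singleton_iff, not_or] at hne
      apply hg
      apply eq_one_of_two_fixed ρ hρ hV g x.2 hx hy' y.2
      · intro h; exact hne.1 (Subtype.ext h)
      · intro h; exact hne.2 (Subtype.ext h)
    · rintro (rfl | rfl)
      · exact Subtype.ext hx
      · apply Subtype.ext
        show ρ g (-x.1) = -x.1
        rw [map_neg, hx]
  rw [hset, Nat.card_coe_set_eq, Set.ncard_pair]
  intro h
  exact ne_neg x.2 (congrArg Subtype.val h)

theorem card_fixedBy_of_noFix (g : G) (hg : ∀ v : V, v ≠ 0 → ρ g v ≠ v) :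
    letI := actX ρ; Nat.card (MulAction.fixedBy {v : V // v ≠ 0} g) = 0 := by
  letI := actX ρ
  have : IsEmpty (MulAction.fixedBy {v : V // v ≠ 0} g) := by
    refine ⟨fun ⟨y, hy⟩ => ?_⟩
    rw [MulAction.mem_fixedBy] at hy
    exact hg y.1 y.2 (congrArg Subtype.val hy)
  exact Nat.card_of_isEmpty

theorem card_X_nine (hV : Nat.card V = 9) : Nat.card {v : V // v ≠ 0} = 8 := by
  have := card_X (V := V)
  omega

theorem card_stabilizer_dvd_six (hρ : Function.Injective ρ) (hV : Nat.card V = 9)
    (x : {v : V // v ≠ 0}) :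
    letI := actX ρ; Nat.card (MulAction.stabilizer G x) ∣ 6 := by
  letI := actX ρ
  classical
  letI : Fintype (MulAction.stabilizer G x) := Fintype.ofFinite _
  have hB := Cfsg.Agent.Lib.Helper19.burnside_natCard (G := MulAction.stabilizer G x)
    (Ω := {v : V // v ≠ 0})
  have hterm : ∀ t : MulAction.stabilizer G x,
      Nat.card (MulAction.fixedBy {v : V // v ≠ 0} t) = 2 + (if t = 1 then 6 else 0) := by
    intro t
    by_cases ht : t = 1
    · subst ht
      rw [if_pos rfl]
      have : MulAction.fixedBy {v : V // v ≠ 0} (1 : MulAction.stabilizer G x) = Set.univ := by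
        ext y; simp
      rw [this, Nat.card_coe_set_eq, Set.ncard_univ, card_X_nine hV]
    · rw [if_neg ht, add_zero]
      have h1 : (t : G) ≠ 1 := fun h => ht (Subtype.ext h)
      have h2 : ρ (t : G) x.1 = x.1 := congrArg Subtype.val (MulAction.mem_stabilizer_iff.1 t.2)
      exact card_fixedBy_of_fix ρ hρ hV (t : G) h1 x h2
  rw [Finset.sum_congr rfl (fun t _ => hterm t), Finset.sum_add_distrib, Finset.sum_const,
    Finset.sum_ite_eq' Finset.univ (1 : MulAction.stabilizer G x) (fun _ => 6),
    if_pos (Finset.mem_univ _), Finset.card_univ, smul_eq_mul, ← Nat.card_eq_fintype_card] at hB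
  have h1 : Nat.card (MulAction.stabilizer G x) ∣
      Nat.card (MulAction.stabilizer G x) * 2 + 6 := by
    rw [hB]; exact dvd_mul_left _ _
  exact (Nat.dvd_add_right (dvd_mul_right _ _)).1 h1

theorem neg_of_invol_no_fix (s : G) (hs : s ^ 2 = 1) (hnf : ∀ v : V, v ≠ 0 → ρ s v ≠ v) :
    ∀ w : V, ρ s w = -w := by
  intro w
  have h1 : ρ s (ρ s w) = w := by
    rw [← LinearEquiv.mul_apply, ← map_mul, ← pow_two, hs, map_one]; rfl
  have h2 : ρ s (w + ρ s w) = w + ρ s w := by rw [map_add, h1, add_comm]
  by_contra hne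
  apply hnf (w + ρ s w) ?_ h2
  intro h0
  apply hne
  exact (eq_neg_of_add_eq_zero_right h0)

end Nine

end Cfsg.Agent.Lib.Helper19.PTransLin
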