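import Mathlib
import Cfsg.Agent.Lib.Helper19.PTransLin

set_option autoImplicit false
set_option linter.unusedSectionVars false
set_option linter.style.haveILetI false

namespace Cfsg.Agent.Lib.Helper19.PTransLin

section Nine2

variable [Fact (Nat.Prime 3)] {V : Type*} [AddCommGroup V] [Module (ZMod 3) V] [Finite V]
  {G : Type*} [Group G] [Finite G] (ρ : G →* (V ≃ₗ[ZMod 3] V))

/-- the central involution acts as `-1`. -/
theorem exists_neg (hG : IsPGroup 2 G) [Nontrivial G] (hρ : Function.Injective ρ)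
    (htrans : ∀ v w : V, v ≠ 0 → w ≠ 0 → ∃ g : G, ρ g v = w) :
    ∃ z : G, z ≠ 1 ∧ (∀ g : G, g * z = z * g) ∧ ∀ w : V, ρ z w = -w := by
  haveI : Fact (Nat.Prime 2) := ⟨Nat.prime_two⟩
  haveI := IsPGroup.center_nontrivial hG
  have h2 : 2 ∣ Nat.card (Subgroup.center G) := by
    obtain ⟨k, hk⟩ := IsPGroup.iff_card.1 (hG.to_subgroup (Subgroup.center G))
    have hk0 : k ≠ 0 := by
      rintro rfl
      rw [pow_zero] at hk
      have : Subsingleton (Subgroup.center G) := (Nat.card_eq_one_iff_unique.1 hk).1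
      exact not_subsingleton _ this
    rw [hk]
    exact dvd_pow_self 2 hk0
  obtain ⟨c, hc⟩ := exists_prime_orderOf_dvd_card' 2 h2
  have hc1 : c ≠ 1 := by
    rintro rfl
    rw [orderOf_one] at hc
    omega
  have hc2 : c ^ 2 = 1 := by rw [← hc]; exact pow_orderOf_eq_one c
  have hz1 : (c : G) ≠ 1 := fun h => hc1 (Subtype.ext h)
  have hz2 : (c : G) ^ 2 = 1 := by
    have := congrArg Subtype.val hc2
    simpa using this
  have hzc : ∀ g : G, g * (c : G) = (c : G) * g := fun g => (Subgroup.mem_center_iff.1 c.2 g)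
  refine ⟨(c : G), hz1, hzc, ?_⟩
  apply neg_of_invol_no_fix ρ (c : G) hz2
  intro v hv hfix
  apply hz1
  apply eq_one_of_fix ρ hρ
  intro w hw
  obtain ⟨g, rfl⟩ := htrans v w hv hw
  rw [← LinearEquiv.mul_apply, ← map_mul, ← hzc g, map_mul, LinearEquiv.mul_apply, hfix]

theorem nine (hG : IsPGroup 2 G) (hρ : Function.Injective ρ)
    (htrans : ∀ v w : V, v ≠ 0 → w ≠ 0 → ∃ g : G, ρ g v = w) (hV : Nat.card V = 9) :
    (IsCyclic G ∧ Nat.card G = 8) ∨ Nonempty (G ≃* QuaternionGroup 2) ∨
      (Cfsg.IsQuasiDihedral G ∧ Nat.card G = 16) := by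
  classical
  letI := actX ρ
  haveI := pretrans ρ htrans
  haveI : Nontrivial V := by
    rw [← Finite.one_lt_card_iff_nontrivial, hV]; norm_num
  obtain ⟨v₀, hv₀⟩ := exists_ne (0 : V)
  let x₀ : {v : V // v ≠ 0} := ⟨v₀, hv₀⟩
  haveI : Nonempty {v : V // v ≠ 0} := ⟨x₀⟩
  have hX := card_X_nine (V := V) hV
  -- stabilizers have order 1 or 2
  have hT : ∀ x : {v : V // v ≠ 0}, Nat.card (MulAction.stabilizer G x) = 1 ∨
      Nat.card (MulAction.stabilizer G x) = 2 := by
    intro x
    have h6 := card_stabilizer_dvd_six ρ hρ hV x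
    obtain ⟨k, hk⟩ := IsPGroup.iff_card.1 (hG.to_subgroup (MulAction.stabilizer G x))
    rw [hk] at h6 ⊢
    have hk1 : k ≤ 1 := by
      by_contra hlt
      have : 2 ^ 2 ∣ 2 ^ k := pow_dvd_pow 2 (by omega)
      have := dvd_trans this h6
      omega
    have : k = 0 ∨ k = 1 := by omega
    rcases this with rfl | rfl
    · left; rfl
    · right; rfl
  have hGc : ∀ x : {v : V // v ≠ 0}, Nat.card G = 8 * Nat.card (MulAction.stabilizer G x) := by
    intro x
    have h1 := Subgroup.index_mul_card (MulAction.stabilizer G x)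
    rw [MulAction.index_stabilizer_of_transitive G x, hX] at h1
    exact h1.symm
  have hfixmem : ∀ (g : G) (v : V) (hv : v ≠ 0), ρ g v = v →
      g ∈ MulAction.stabilizer G (⟨v, hv⟩ : {v : V // v ≠ 0}) := by
    intro g v hv h
    rw [MulAction.mem_stabilizer_iff]
    exact Subtype.ext h
  rcases hT x₀ with h1 | h2
  · -- order 8
    have hG8 : Nat.card G = 8 := by rw [hGc x₀, h1]
    have hTall : ∀ x : {v : V // v ≠ 0}, MulAction.stabilizer G x = ⊥ := by
      intro x
      have := hGc x
      rw [hG8] at this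
      have h1' : Nat.card (MulAction.stabilizer G x) = 1 := by omega
      exact Subgroup.card_eq_one.1 h1'
    have hnofix : ∀ s : G, s ≠ 1 → ∀ v : V, v ≠ 0 → ρ s v ≠ v := by
      intro s hs v hv h
      have := hfixmem s v hv h
      rw [hTall, Subgroup.mem_bot] at this
      exact hs this
    have huniq : ∀ s t : G, orderOf s = 2 → orderOf t = 2 → s = t := by
      intro s t hs ht
      have hs1 : s ≠ 1 := by rintro rfl; rw [orderOf_one] at hs; omega
      have ht1 : t ≠ 1 := by rintro rfl; rw [orderOf_one] at ht; omega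
      have hs2 : s ^ 2 = 1 := by rw [← hs]; exact pow_orderOf_eq_one s
      have ht2 : t ^ 2 = 1 := by rw [← ht]; exact pow_orderOf_eq_one t
      apply hρ
      ext w
      rw [neg_of_invol_no_fix ρ s hs2 (hnofix s hs1) w, neg_of_invol_no_fix ρ t ht2 (hnofix t ht1) w]
    rcases Cfsg.Agent.Lib.Helper18.isCyclic_or_quaternion_of_unique_involution hG huniq with
      hc | ⟨n, hn, ⟨e⟩⟩
    · left; exact ⟨hc, hG8⟩
    · right; left
      have hcard : Nat.card G = Nat.card (QuaternionGroup (2 ^ n)) := Nat.card_congr e.toEquiv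
      haveI : NeZero (2 ^ n) := ⟨by positivity⟩
      rw [hG8, Nat.card_eq_fintype_card, QuaternionGroup.card] at hcard
      have hn1 : n = 1 := by
        have h2n : 2 ^ n = 2 ^ 1 := by omega
        exact Nat.pow_right_injective (le_refl 2) h2n
      subst hn1
      exact ⟨e⟩
  · -- order 16
    right; right
    have hG16 : Nat.card G = 16 := by rw [hGc x₀, h2]
    have hTall : ∀ x : {v : V // v ≠ 0}, Nat.card (MulAction.stabilizer G x) = 2 := by
      intro x
      have := hGc x
      rw [hG16] at this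
      omega
    haveI : Nontrivial G := by
      rw [← Finite.one_lt_card_iff_nontrivial, hG16]; norm_num
    obtain ⟨z, hz1, hzc, hzneg⟩ := exists_neg ρ hG hρ htrans
    letI := Fintype.ofFinite G
    have hstab2 : ∀ (g : G) (v : V), v ≠ 0 → ρ g v = v → g ^ 2 = 1 := by
      intro g v hv h
      have hm := hfixmem g v hv h
      have := pow_card_eq_one' (G := MulAction.stabilizer G (⟨v, hv⟩ : {v : V // v ≠ 0}))
        (x := ⟨g, hm⟩)
      rw [hTall] at this
      have := congrArg Subtype.val this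
      simpa using this
    have hz2 : z ^ 2 = 1 := by
      apply hρ
      ext w
      rw [pow_two, map_mul, LinearEquiv.mul_apply, hzneg, hzneg, neg_neg, map_one]; rfl
    let R : Finset G := Finset.univ.filter (fun g : G => g ≠ 1 ∧ ∃ v : V, v ≠ 0 ∧ ρ g v = v)
    have hRmem : ∀ g : G, g ∈ R ↔ (g ≠ 1 ∧ ∃ v : V, v ≠ 0 ∧ ρ g v = v) := by
      intro g; simp [R]
    -- Burnside count
    have hR4 : R.card ≤ 4 := by
      have hB := Cfsg.Agent.Lib.Helper19.burnside_natCard (G := G) (Ω := {v : V // v ≠ 0})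
      rw [Cfsg.Agent.Lib.Helper19.card_orbits_eq_one, one_mul, hG16] at hB
      have hterm : ∀ g : G, Nat.card (MulAction.fixedBy {v : V // v ≠ 0} g) =
          (if g = 1 then 8 else 0) + (if g ∈ R then 2 else 0) := by
        intro g
        by_cases hg1 : g = 1
        · subst hg1
          have hnR : (1 : G) ∉ R := by rw [hRmem]; simp
          rw [if_pos rfl, if_neg hnR, add_zero]
          have : MulAction.fixedBy {v : V // v ≠ 0} (1 : G) = Set.univ := by
            ext y; simp
          rw [this, Nat.card_coe_set_eq, Set.ncard_univ, hX]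
        · rw [if_neg hg1, zero_add]
          by_cases hgR : g ∈ R
          · rw [if_pos hgR]
            obtain ⟨_, v, hv, hfix⟩ := (hRmem g).1 hgR
            exact card_fixedBy_of_fix ρ hρ hV g hg1 ⟨v, hv⟩ hfix
          · rw [if_neg hgR]
            apply card_fixedBy_of_noFix ρ g
            intro v hv hfix
            exact hgR ((hRmem g).2 ⟨hg1, v, hv, hfix⟩)
      rw [Finset.sum_congr rfl (fun g _ => hterm g), Finset.sum_add_distrib,
        Finset.sum_ite_eq' Finset.univ (1 : G) (fun _ => 8), if_pos (Finset.mem_univ _),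
        Finset.sum_ite_mem, Finset.univ_inter, Finset.sum_const, smul_eq_mul] at hB
      omega
    have hRne : R.Nonempty := by
      have hnt : Nontrivial (MulAction.stabilizer G x₀) := by
        rw [← Finite.one_lt_card_iff_nontrivial, hTall]; norm_num
      obtain ⟨t, ht⟩ := exists_ne (1 : MulAction.stabilizer G x₀)
      refine ⟨(t : G), (hRmem _).2 ⟨fun h => ht (Subtype.ext h), v₀, hv₀, ?_⟩⟩
      exact congrArg Subtype.val (MulAction.mem_stabilizer_iff.1 t.2)
    have ha : ∀ s : G, s ^ 2 = 1 → s ≠ 1 → s = z ∨ s ∈ R := by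
      intro s hs2 hs1
      by_cases hfix : ∃ v : V, v ≠ 0 ∧ ρ s v = v
      · right; exact (hRmem s).2 ⟨hs1, hfix⟩
      · left
        push Not at hfix
        apply hρ
        ext w
        rw [neg_of_invol_no_fix ρ s hs2 hfix w, hzneg]
    have hb : ∀ r ∈ R, r ^ 2 = 1 ∧ r ≠ 1 := by
      intro r hr
      obtain ⟨hr1, v, hv, hfix⟩ := (hRmem r).1 hr
      exact ⟨hstab2 r v hv hfix, hr1⟩
    have hc : ∀ r ∈ R, ∀ g : G, g * r = r * g → g ^ 2 = 1 := by
      intro r hr g hgr
      obtain ⟨hr1, v, hv, hfix⟩ := (hRmem r).1 hr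
      have hgv0 : ρ g v ≠ 0 := fun h => hv ((ρ g).map_eq_zero_iff.1 h)
      have hfix2 : ρ r (ρ g v) = ρ g v := by
        rw [← LinearEquiv.mul_apply, ← map_mul, ← hgr, map_mul, LinearEquiv.mul_apply, hfix]
      by_cases h1 : ρ g v = v
      · exact hstab2 g v hv h1
      · by_cases h2 : ρ g v = -v
        · have h3 : ρ (z * g) v = v := by
            rw [map_mul, LinearEquiv.mul_apply, hzneg, h2, neg_neg]
          have h4 := hstab2 (z * g) v hv h3
          have h5 : (z * g) ^ 2 = z ^ 2 * g ^ 2 := by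
            rw [pow_two, pow_two, pow_two]
            calc z * g * (z * g) = z * (g * z) * g := by group
              _ = z * (z * g) * g := by rw [hzc g]
              _ = z * z * (g * g) := by group
          rw [h5, hz2, one_mul] at h4
          exact h4
        · exfalso
          exact hr1 (eq_one_of_two_fixed ρ hρ hV r hv hfix hfix2 hgv0 h1 h2)
    obtain ⟨x, y, hx, hy, hrel⟩ := qd16 (by rw [← Nat.card_eq_fintype_card, hG16]) z hz1 hzc R hR4 hRne
      ha hb hc
    refine ⟨⟨3, le_refl 3, by rw [hG16]; norm_num, x, y, by rw [hx]; norm_num, hy, ?_⟩, hG16⟩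
    rw [hrel]
    norm_num

end Nine2

theorem main (q : ℕ) [Fact q.Prime] {V : Type*} [AddCommGroup V] [Module (ZMod q) V] [Finite V]
    [Nontrivial V] {G : Type*} [Group G] [Finite G] [Nontrivial G] (p : ℕ) [Fact p.Prime]
    (hG : IsPGroup p G) (ρ : G →* (V ≃ₗ[ZMod q] V)) (hρ : Function.Injective ρ)
    (htrans : ∀ v w : V, v ≠ 0 → w ≠ 0 → ∃ g : G, ρ g v = w) :
    (q = 2 ∧ p = Nat.card V - 1 ∧ Nat.card G = p) ∨
    (p = 2 ∧ Nat.card V = q ∧ (∃ m : ℕ, q = 2 ^ m + 1 ∧ Nat.card G = 2 ^ m) ∧ IsCyclic G) ∨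
    (p = 2 ∧ q = 3 ∧ Nat.card V = 9 ∧
      ((IsCyclic G ∧ Nat.card G = 8) ∨ Nonempty (G ≃* QuaternionGroup 2) ∨
        (Cfsg.IsQuasiDihedral G ∧ Nat.card G = 16))) := by
  have hq := (Fact.out : q.Prime)
  have hp := (Fact.out : p.Prime)
  obtain ⟨d, hd⟩ : ∃ d : ℕ, Nat.card V = q ^ d :=
    ⟨Module.finrank (ZMod q) V, by rw [Module.natCard_eq_pow_finrank (K := ZMod q), Nat.card_zmod]⟩
  have hd0 : d ≠ 0 := by
    rintro rfl
    rw [pow_zero] at hd
    have : Subsingleton V := (Nat.card_eq_one_iff_unique.1 hd).1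
    exact not_subsingleton V this
  have hXc := card_X (V := V)
  have hdvd := card_X_dvd ρ htrans
  obtain ⟨a, ha⟩ := IsPGroup.iff_card.1 hG
  rw [ha] at hdvd
  obtain ⟨k, -, hk⟩ := (Nat.dvd_prime_pow hp).1 hdvd
  have hqd : q ^ d = p ^ k + 1 := by rw [← hd, ← hXc, hk]
  -- the case of a single nonzero vector is impossible
  have hk0 : k ≠ 0 := by
    rintro rfl
    rw [pow_zero] at hk
    letI := actX ρ
    have hdvd1 : Nat.card G ∣ Nat.card (Equiv.Perm {v : V // v ≠ 0}) :=
      Subgroup.card_dvd_of_injective _ (faithful_toPerm ρ hρ)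
    rw [Nat.card_perm, hk, Nat.factorial_one, Nat.dvd_one] at hdvd1
    have : Subsingleton G := (Nat.card_eq_one_iff_unique.1 hdvd1).1
    exact not_subsingleton G this
  by_cases hq2 : q = 2
  · left
    subst hq2
    have hk1 : k = 1 := nt1 hp.two_le hk0 hqd
    subst hk1
    rw [pow_one] at hk hqd
    refine ⟨rfl, ?_, card_eq_prime ρ hG hρ hk⟩
    rw [hd, hqd]; simp
  · right
    have hqodd : Odd q := hq.odd_of_ne_two hq2
    have hq3 : 3 ≤ q := by
      have := hq.two_le
      omega
    have hp2 : p = 2 := by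
      have hev : Even (p ^ k) := by
        have h1 : Odd (q ^ d) := hqodd.pow
        rw [hqd] at h1
        by_contra hne
        rw [Nat.not_even_iff_odd] at hne
        have := hne.add_one
        exact (Nat.not_odd_iff_even.2 this) h1
      have := (Nat.even_pow.1 hev).1
      exact (Nat.Prime.even_iff hp).1 this
    subst hp2
    by_cases hd1 : d = 1
    · left
      subst hd1
      rw [pow_one] at hd hqd
      obtain ⟨hcyc, hle⟩ := cyclic_of_card_eq ρ hρ hd
      refine ⟨rfl, hd, ⟨k, hqd, ?_⟩, hcyc⟩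
      have h1 : 2 ^ k ∣ Nat.card G := by
        have := card_X_dvd ρ htrans
        rwa [hk] at this
      have h2 : Nat.card G ≤ 2 ^ k := by omega
      have h3 : 0 < Nat.card G := Nat.card_pos
      exact le_antisymm h2 (Nat.le_of_dvd h3 h1)
    · right
      have hd2 : 2 ≤ d := by omega
      obtain ⟨hq3', hd2'⟩ := nt2 hqodd hq3 hd2 hqd
      subst hq3'
      subst hd2'
      have hV9 : Nat.card V = 9 := by rw [hd]; norm_num
      exact ⟨rfl, rfl, hV9, nine ρ hG hρ htrans hV9⟩

end Cfsg.Agent.Lib.Helper19.PTransLin
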