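/-
helper19: S4539 leaf (NB3): the integer matrix `N = nMat p e` of a `p`-block `e` satisfies
`N² = p^d N` (`d` the defect of `e`).  Proof: `⟨ζ̃, ζ''̃⟩` computed in two ways gives
`∑_ξ [ζ̃, ξ][ξ̃, ζ''] = p^a [ζ̃, ζ'']`; the terms with `ξ ∉ e` vanish; divide by `p^{2m}`.
-/
import Mathlib
import Cfsg.Agent.Lib.Helper27.MajSubDefs

set_option autoImplicit false

namespace Cfsg.Agent.Lib.Helper19.MajSubNB3

open Cfsg Cfsg.Agent.CharLib Cfsg.Agent.Lib.Helper24 Cfsg.Agent.Lib.Helper6 Cfsg.Agent.Lib.Helper23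
open Cfsg.Agent.Lib.Helper23.Subsec Cfsg.Agent.Lib.Helper27.MajSub
open scoped ComplexConjugate

universe u

variable {C : Type u} [Group C] [Fintype C] {M : Ideal AlgInt} {p : ℕ} [hpp : Fact p.Prime]

/-- `⟨ζ̃, ζ''̃⟩ = p^a [ζ̃, ζ'']`. -/
theorem classInner_tilde_tilde (ζ ζ'' : IrrCharacter C) :
    classInner (tildeFun p (ζ : C → ℂ)) (tildeFun p (ζ'' : C → ℂ)) =
      ((p ^ (Nat.card C).factorization p : ℕ) : ℂ) * (tildeInt p ζ ζ'' : ℂ) := by
  rw [← tildeInt_spec]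
  unfold classInner
  rw [mul_left_comm]
  congr 1
  rw [Finset.mul_sum]
  apply Finset.sum_congr rfl
  intro g _
  unfold tildeFun
  by_cases hg : p ∣ orderOf g
  · simp [hg]
  · simp only [hg, if_false, map_mul, Complex.conj_natCast]; ring

/-- `⟨ζ̃, ζ''̃⟩ = ∑_ξ [ζ̃, ξ][ξ̃, ζ'']`. -/
theorem classInner_tilde_tilde' [Fintype (IrrCharacter C)] (ζ ζ'' : IrrCharacter C) :
    classInner (tildeFun p (ζ : C → ℂ)) (tildeFun p (ζ'' : C → ℂ)) =
      ∑ ξ : IrrCharacter C, (tildeInt p ζ ξ : ℂ) * (tildeInt p ξ ζ'' : ℂ) := by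
  have h : ∀ ξ : IrrCharacter C, (tildeInt p ζ ξ : ℂ) * (tildeInt p ξ ζ'' : ℂ) =
      (Nat.card C : ℂ)⁻¹ * ∑ g : C, tildeFun p (ζ : C → ℂ) g *
        ((tildeInt p ζ'' ξ : ℂ) * conj ((ξ : C → ℂ) g)) := by
    intro ξ
    rw [tildeInt_symm ξ ζ'', ← tildeInt_spec (p := p) ζ ξ]
    unfold classInner
    rw [mul_assoc, Finset.sum_mul]
    congr 1
    apply Finset.sum_congr rfl
    intro g _
    ring
  rw [Finset.sum_congr rfl (fun ξ _ => h ξ), ← Finset.mul_sum, Finset.sum_comm]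
  conv_lhs => rw [tildeFun_eq_sum (p := p) ζ'']
  unfold classInner
  congr 1
  apply Finset.sum_congr rfl
  intro g _
  rw [← Finset.mul_sum]
  congr 1
  rw [Finset.sum_apply, map_sum]
  apply Finset.sum_congr rfl
  intro ξ _
  rw [Pi.smul_apply, smul_eq_mul, map_mul, map_intCast]

/-- `∑_ξ [ζ̃, ξ][ξ̃, ζ''] = p^a [ζ̃, ζ'']`. -/
theorem tildeInt_sq [Fintype (IrrCharacter C)] (ζ ζ'' : IrrCharacter C) :
    ∑ ξ : IrrCharacter C, tildeInt p ζ ξ * tildeInt p ξ ζ'' =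
      (p : ℤ) ^ (Nat.card C).factorization p * tildeInt p ζ ζ'' := by
  have h := (classInner_tilde_tilde' (p := p) ζ ζ'').symm.trans (classInner_tilde_tilde ζ ζ'')
  exact_mod_cast h

/-- Local copy of (NB2): `p^m N = [ζ̃, ζ']` on `e × e`. -/
theorem nMat_mul_pow' (hM : IsPModular p M) (e : Set (IrrCharacter C)) {ζ ζ' : IrrCharacter C}
    (hζ : ζ ∈ e) (hζ' : ζ' ∈ e) :
    (p : ℤ) ^ minVal p e * nMat p e ζ ζ' = tildeInt p ζ ζ' := by
  unfold nMat
  rw [if_pos ⟨hζ, hζ'⟩]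
  exact Int.mul_ediv_cancel' (dvd_trans (pow_dvd_pow _ (minVal_le hζ')) (pow_dvd_tildeInt hM ζ ζ'))

theorem nMat_eq_zero_left (e : Set (IrrCharacter C)) {ζ : IrrCharacter C} (hζ : ζ ∉ e)
    (ζ' : IrrCharacter C) : nMat p e ζ ζ' = 0 := by
  unfold nMat
  rw [if_neg (fun h => hζ h.1)]

theorem nMat_eq_zero_right (e : Set (IrrCharacter C)) (ζ : IrrCharacter C) {ζ' : IrrCharacter C}
    (hζ' : ζ' ∉ e) : nMat p e ζ ζ' = 0 := by
  unfold nMat
  rw [if_neg (fun h => hζ' h.2)]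

omit hpp in
/-- `m + d = a`. -/
theorem minVal_add_blockDefect {e : Set (IrrCharacter C)} (hne : e.Nonempty) :
    minVal p e + blockDefect p e = (Nat.card C).factorization p := by
  have h := minVal_le_factorization_card (p := p) hne
  unfold blockDefect
  unfold minVal at h ⊢
  omega

/-- (NB3) `N² = p^d N`. -/
theorem nMat_sq [Fintype (IrrCharacter C)] (hM : IsPModular p M) (e : Set (IrrCharacter C))
    (he : IsPBlock M e) (ζ ζ'' : IrrCharacter C) :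
    ∑ ζ' : IrrCharacter C, nMat p e ζ ζ' * nMat p e ζ' ζ'' =
      (p : ℤ) ^ blockDefect p e * nMat p e ζ ζ'' := by
  classical
  have hp : p.Prime := hpp.out
  by_cases hζ : ζ ∈ e
  swap
  · rw [nMat_eq_zero_left e hζ, mul_zero]
    apply Finset.sum_eq_zero
    intro ζ' _
    rw [nMat_eq_zero_left e hζ, zero_mul]
  by_cases hζ'' : ζ'' ∈ e
  swap
  · rw [nMat_eq_zero_right e ζ hζ'', mul_zero]
    apply Finset.sum_eq_zero
    intro ζ' _
    rw [nMat_eq_zero_right e ζ' hζ'', mul_zero]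
  have hne : e.Nonempty := ⟨ζ, hζ⟩
  have hpm0 : ((p : ℤ) ^ minVal p e) ≠ 0 := pow_ne_zero _ (by exact_mod_cast hp.ne_zero)
  have hsq := tildeInt_sq (p := p) ζ ζ''
  -- the terms off `e` vanish, the others are `p^{2m}` times the entries of `N`
  have hterm : ∀ ξ : IrrCharacter C, tildeInt p ζ ξ * tildeInt p ξ ζ'' =
      ((p : ℤ) ^ minVal p e * (p : ℤ) ^ minVal p e) * (nMat p e ζ ξ * nMat p e ξ ζ'') := by
    intro ξ
    by_cases hξ : ξ ∈ e
    · rw [← nMat_mul_pow' hM e hζ hξ, ← nMat_mul_pow' hM e hξ hζ'']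
      ring
    · rw [tildeInt_eq_zero hM he hζ hξ, nMat_eq_zero_right e ζ hξ]
      ring
  rw [Finset.sum_congr rfl (fun ξ _ => hterm ξ), ← Finset.mul_sum,
    ← nMat_mul_pow' hM e hζ hζ'', ← minVal_add_blockDefect (p := p) hne, pow_add] at hsq
  have h2 : (p : ℤ) ^ minVal p e * (p : ℤ) ^ minVal p e *
      ∑ ξ : IrrCharacter C, nMat p e ζ ξ * nMat p e ξ ζ'' =
      (p : ℤ) ^ minVal p e * (p : ℤ) ^ minVal p e *
        ((p : ℤ) ^ blockDefect p e * nMat p e ζ ζ'') := by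
    rw [hsq]; ring
  exact mul_left_cancel₀ (mul_ne_zero hpm0 hpm0) h2

end Cfsg.Agent.Lib.Helper19.MajSubNB3
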