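import Mathlib
import Cfsg.Agent.Lib.Helper4.SubnormalFamily
import Cfsg.Agent.Lib.Helper4.Basic

/-!
# Sylow subgroups of joins of subnormal subgroups (helper19)

`sylow_join`: for subnormal `A₁ A₂` and a Sylow `p`-subgroup `S` of a finite group,
`(A₁ ⊔ A₂) ⊓ S = (A₁ ⊓ S) ⊔ (A₂ ⊓ S)`.  Also the family version `main_gen` for subnormal subgroups
generated by `p'`-elements, the product formula `sylow_inf_sup`, and `Op p X` (= `O^p(X)`).
-/

set_option autoImplicit false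
open Pointwise
open scoped commutatorElement

namespace Cfsg.Agent.Lib.Helper19.SylowJoin
universe u

open Cfsg.Agent.Lib.Helper4 Cfsg.Agent.Lib.Helper1 Cfsg.Agent.Lib.Helper20

section
variable {G : Type u} [Group G]

/-- `X` is generated by its `p'`-elements (universal form). -/
def Gen (p : ℕ) (X : Subgroup G) : Prop :=
  ∀ K : Subgroup G, (∀ x ∈ X, (orderOf x).Coprime p → x ∈ K) → X ≤ K

/-- `O^p(X)` as the subgroup generated by the `p'`-elements of `X`. -/
def Op (p : ℕ) (X : Subgroup G) : Subgroup G :=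
  Subgroup.closure {x | x ∈ X ∧ (orderOf x).Coprime p}

theorem Op_le (p : ℕ) (X : Subgroup G) : Op p X ≤ X := by
  unfold Op
  rw [Subgroup.closure_le]
  intro x hx
  exact hx.1

theorem gen_Op (p : ℕ) (X : Subgroup G) : Gen p (Op p X) := by
  intro K hK
  unfold Op
  rw [Subgroup.closure_le]
  intro x hx
  exact hK x (Subgroup.subset_closure hx) hx.2

theorem conj_mem_Op (p : ℕ) (X : Subgroup G) {g y : G} (hg : g ∈ X) (hy : y ∈ Op p X) :
    g * y * g⁻¹ ∈ Op p X := by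
  unfold Op at hy ⊢
  induction hy using Subgroup.closure_induction with
  | mem x hx =>
    apply Subgroup.subset_closure
    refine ⟨X.mul_mem (X.mul_mem hg hx.1) (X.inv_mem hg), ?_⟩
    have : orderOf (g * x * g⁻¹) = orderOf x := by
      have := (MulAut.conj g).orderOf_eq x
      simpa [MulAut.conj_apply] using this
    rw [this]; exact hx.2
  | one => simp
  | mul a b _ _ iha ihb =>
    have : g * (a * b) * g⁻¹ = (g * a * g⁻¹) * (g * b * g⁻¹) := by group
    rw [this]; exact Subgroup.mul_mem _ iha ihb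
  | inv a _ iha =>
    have : g * a⁻¹ * g⁻¹ = (g * a * g⁻¹)⁻¹ := by group
    rw [this]; exact Subgroup.inv_mem _ iha

theorem le_normalizer_Op (p : ℕ) (X : Subgroup G) :
    X ≤ Subgroup.normalizer ((Op p X : Subgroup G) : Set G) := by
  intro g hg
  rw [Subgroup.mem_normalizer_iff]
  intro h
  constructor
  · intro hh; exact conj_mem_Op p X hg hh
  · intro hh
    have := conj_mem_Op p X (X.inv_mem hg) hh
    simpa [mul_assoc] using this

theorem isSubnormal_Op (p : ℕ) {X : Subgroup G} (hX : X.IsSubnormal) : (Op p X).IsSubnormal := by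
  refine Subgroup.IsSubnormal.trans (Op_le p X) ?_ hX
  have : ((Op p X).subgroupOf X).Normal :=
    (Subgroup.normal_subgroupOf_iff_le_normalizer (Op_le p X)).mpr (le_normalizer_Op p X)
  exact this.isSubnormal

theorem gen_map {G' : Type*} [Group G'] (p : ℕ) (φ : G →* G') {X : Subgroup G} (hX : Gen p X) :
    Gen p (X.map φ) := by
  intro K hK
  rw [Subgroup.map_le_iff_le_comap]
  apply hX
  intro x hx hc
  rw [Subgroup.mem_comap]
  apply hK _ (Subgroup.mem_map_of_mem φ hx)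
  exact Nat.Coprime.coprime_dvd_left (orderOf_map_dvd φ x) hc

theorem gen_subgroupOf (p : ℕ) {X J : Subgroup G} (hXJ : X ≤ J) (hX : Gen p X) :
    Gen p (X.subgroupOf J) := by
  intro K hK
  have h1 : X ≤ K.map J.subtype := by
    apply hX
    intro x hx hc
    refine ⟨⟨x, hXJ hx⟩, ?_, rfl⟩
    apply hK
    · rw [Subgroup.mem_subgroupOf]; exact hx
    · rw [Subgroup.orderOf_mk]; exact hc
  intro y hy
  rw [Subgroup.mem_subgroupOf] at hy
  obtain ⟨z, hz, hzy⟩ := h1 hy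
  have : z = y := Subtype.ext hzy
  rw [← this]; exact hz

theorem gen_sSup (p : ℕ) (𝓗 : Set (Subgroup G)) (h : ∀ X ∈ 𝓗, Gen p X) : Gen p (sSup 𝓗) := by
  intro K hK
  apply sSup_le
  intro X hX
  apply h X hX
  intro x hx hc
  exact hK x ((le_sSup hX) hx) hc

/-- For subnormal `Y`, `|S ∩ Y|` is the full `p`-part of `|Y|`. -/
theorem card_inf_sylow [Finite G] {p : ℕ} [Fact p.Prime] (S : Sylow p G) {Y : Subgroup G}
    (hY : Y.IsSubnormal) :
    Nat.card ((S : Subgroup G) ⊓ Y : Subgroup G) = p ^ (Nat.card Y).factorization p := by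
  have hp : p.Prime := Fact.out
  have hPG : IsPGroup p ((S : Subgroup G) ⊓ Y : Subgroup G) := S.2.to_le inf_le_left
  obtain ⟨k, hk⟩ := hPG.exists_card_eq
  have h1 : Nat.card ((S : Subgroup G) ⊓ Y : Subgroup G) * ((S : Subgroup G) ⊓ Y).relIndex Y
      = Nat.card Y := card_mul_relIndex inf_le_right
  rw [Subgroup.inf_relIndex_right] at h1
  have h2 : ¬ p ∣ (S : Subgroup G).relIndex Y := not_dvd_relIndex_of_isSubnormal hY S
  have h3 : (S : Subgroup G).relIndex Y ≠ 0 := by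
    intro h0; rw [h0] at h1; simp at h1
    exact absurd h1.symm (Nat.card_pos.ne')
  rw [← h1, hk, Nat.factorization_mul (pow_ne_zero _ hp.ne_zero) h3]
  simp [Nat.factorization_eq_zero_of_not_dvd h2, hp.factorization_pow]

theorem inf_le_normalizer_inf' {S X Y : Subgroup G}
    (h : X ≤ Subgroup.normalizer (Y : Set G)) :
    S ⊓ X ≤ Subgroup.normalizer ((S ⊓ Y : Subgroup G) : Set G) := by
  intro g hg
  rw [Subgroup.mem_normalizer_iff]
  intro x
  have hgY := Subgroup.mem_normalizer_iff.mp (h hg.2) x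
  constructor
  · rintro ⟨hxS, hxY⟩
    exact ⟨S.mul_mem (S.mul_mem hg.1 hxS) (S.inv_mem hg.1), hgY.mp hxY⟩
  · rintro ⟨hxS, hxY⟩
    refine ⟨?_, hgY.mpr hxY⟩
    have := S.mul_mem (S.mul_mem (S.inv_mem hg.1) hxS) hg.1
    simpa [mul_assoc] using this

/-- Product formula for Sylow intersections: `S ∩ XY = (S ∩ X)(S ∩ Y)` for subnormal `X`, `Y`
with `X` normalizing `Y`. -/
theorem sylow_inf_sup [Finite G] {p : ℕ} [Fact p.Prime] (S : Sylow p G) {X Y : Subgroup G}
    (hX : X.IsSubnormal) (hY : Y.IsSubnormal)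
    (hXY : X ≤ Subgroup.normalizer (Y : Set G)) :
    (S : Subgroup G) ⊓ (X ⊔ Y) = ((S : Subgroup G) ⊓ X) ⊔ ((S : Subgroup G) ⊓ Y) := by
  have hp : p.Prime := Fact.out
  symm
  apply Subgroup.eq_of_le_of_card_ge
  · exact sup_le (inf_le_inf_left _ le_sup_left) (inf_le_inf_left _ le_sup_right)
  · have hXYs : (X ⊔ Y).IsSubnormal := isSubnormal_sup X Y hX hY
    have hXYi : (X ⊓ Y).IsSubnormal := hX.inf hY
    have e1 := card_sup_mul_card_inf X Y hXY
    have e2 := card_sup_mul_card_inf ((S : Subgroup G) ⊓ X) ((S : Subgroup G) ⊓ Y)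
      (inf_le_normalizer_inf' hXY)
    have e3 : ((S : Subgroup G) ⊓ X) ⊓ ((S : Subgroup G) ⊓ Y) = (S : Subgroup G) ⊓ (X ⊓ Y) := by
      exact (inf_inf_distrib_left _ _ _).symm
    rw [e3, card_inf_sylow S hX, card_inf_sylow S hY, card_inf_sylow S hXYi] at e2
    rw [card_inf_sylow S hXYs]
    have e4 : (Nat.card (X ⊔ Y : Subgroup G)).factorization p
        + (Nat.card (X ⊓ Y : Subgroup G)).factorization p
        = (Nat.card X).factorization p + (Nat.card Y).factorization p := by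
      have h1 := congrArg (fun f => f p) (Nat.factorization_mul
        (Nat.card_pos (α := (X ⊔ Y : Subgroup G))).ne' (Nat.card_pos (α := (X ⊓ Y : Subgroup G))).ne')
      have h2 := congrArg (fun f => f p) (Nat.factorization_mul
        (Nat.card_pos (α := X)).ne' (Nat.card_pos (α := Y)).ne')
      simp only [Finsupp.coe_add, Pi.add_apply] at h1 h2
      rw [← h1, ← h2, e1]
    rw [← pow_add, ← e4, pow_add] at e2
    have := Nat.eq_of_mul_eq_mul_right (pow_pos hp.pos _) e2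
    rw [this]

theorem le_normalizer_sSup' [Finite G] (N : Subgroup G) (𝓕 : Set (Subgroup G))
    (h : ∀ Y ∈ 𝓕, N ≤ Subgroup.normalizer (Y : Set G)) :
    N ≤ Subgroup.normalizer ((sSup 𝓕 : Subgroup G) : Set G) := by
  have hfin : 𝓕.Finite := Set.toFinite 𝓕
  induction 𝓕, hfin using Set.Finite.induction_on with
  | empty =>
    rw [sSup_empty]
    intro g _
    rw [Subgroup.mem_normalizer_iff]
    intro x
    simp only [Subgroup.mem_bot]
    constructor
    · rintro rfl; simp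
    · intro hx
      have : x = g⁻¹ * (g * x * g⁻¹) * g := by group
      rw [this, hx]; simp
  | insert _ _ ih =>
    rw [sSup_insert]
    exact le_normalizer_sup _ _ _ (h _ (Set.mem_insert _ _))
      (ih (fun Y hY => h Y (Set.mem_insert_of_mem _ hY)))

/-- Family version of `sylow_inf_sup`. -/
theorem sylow_inf_sSup [Finite G] {p : ℕ} [Fact p.Prime] (S : Sylow p G) (N : Subgroup G)
    (𝓕 : Set (Subgroup G))
    (h : ∀ Y ∈ 𝓕, Y.IsSubnormal ∧ Y ≤ N ∧ N ≤ Subgroup.normalizer (Y : Set G)) :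
    (S : Subgroup G) ⊓ sSup 𝓕 ≤ ⨆ Y ∈ 𝓕, (S : Subgroup G) ⊓ Y := by
  have hfin : 𝓕.Finite := Set.toFinite 𝓕
  induction 𝓕, hfin using Set.Finite.induction_on with
  | empty => simp
  | @insert a s _ _ ih =>
    rw [sSup_insert, iSup_insert]
    have ha := h a (Set.mem_insert _ _)
    have hs : ∀ Y ∈ s, Y.IsSubnormal ∧ Y ≤ N ∧ N ≤ Subgroup.normalizer (Y : Set G) :=
      fun Y hY => h Y (Set.mem_insert_of_mem _ hY)
    rw [sylow_inf_sup S ha.1 (isSubnormal_sSup s (fun Y hY => (hs Y hY).1))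
      (ha.2.1.trans (le_normalizer_sSup' N s (fun Y hY => (hs Y hY).2.2)))]
    exact sup_le_sup le_rfl (ih hs)

theorem mem_sup_of_le_normalizer {J T : Subgroup G}
    (h : T ≤ Subgroup.normalizer (J : Set G)) {x : G} (hx : x ∈ J ⊔ T) :
    ∃ j ∈ J, ∃ t ∈ T, j * t = x := by
  rw [Subgroup.sup_eq_closure] at hx
  induction hx using Subgroup.closure_induction with
  | mem x hx =>
    rcases hx with hx | hx
    · exact ⟨x, hx, 1, T.one_mem, by simp⟩
    · exact ⟨1, J.one_mem, x, hx, by simp⟩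
  | one => exact ⟨1, J.one_mem, 1, T.one_mem, by simp⟩
  | mul a b _ _ iha ihb =>
    obtain ⟨j1, hj1, t1, ht1, rfl⟩ := iha
    obtain ⟨j2, hj2, t2, ht2, rfl⟩ := ihb
    refine ⟨j1 * (t1 * j2 * t1⁻¹), J.mul_mem hj1 ?_, t1 * t2, T.mul_mem ht1 ht2, by group⟩
    exact (Subgroup.mem_normalizer_iff.mp (h ht1) j2).mp hj2
  | inv a _ iha =>
    obtain ⟨j, hj, t, ht, rfl⟩ := iha
    refine ⟨t⁻¹ * j⁻¹ * t⁻¹⁻¹, ?_, t⁻¹, T.inv_mem ht, by group⟩
    exact (Subgroup.mem_normalizer_iff.mp (h (T.inv_mem ht)) j⁻¹).mp (J.inv_mem hj)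

/-- `X / O^p(X)` is a `p`-group: index form. -/
theorem relIndex_Op_pow [Finite G] (p : ℕ) [Fact p.Prime] (X : Subgroup G) :
    ∃ j : ℕ, (Op p X).relIndex X = p ^ j := by
  have hp : p.Prime := Fact.out
  haveI : ((Op p X).subgroupOf X).Normal :=
    (Subgroup.normal_subgroupOf_iff_le_normalizer (Op_le p X)).mpr (le_normalizer_Op p X)
  have hPG : IsPGroup p (↥X ⧸ (Op p X).subgroupOf X) := by
    intro q
    obtain ⟨a, rfl⟩ := QuotientGroup.mk_surjective q
    refine ⟨(orderOf a).factorization p, ?_⟩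
    rw [← QuotientGroup.mk_pow, QuotientGroup.eq_one_iff, Subgroup.mem_subgroupOf]
    apply Subgroup.subset_closure
    refine ⟨(a ^ _).2, ?_⟩
    rw [Subgroup.coe_pow, orderOf_pow, Subgroup.orderOf_coe,
      Nat.gcd_eq_right (Nat.ordProj_dvd _ _)]
    exact (Nat.coprime_ordCompl hp (orderOf_pos a).ne').symm
  obtain ⟨j, hj⟩ := hPG.exists_card_eq
  exact ⟨j, by rw [Subgroup.relIndex, Subgroup.index_eq_card, hj]⟩

theorem le_Op_sup [Finite G] {p : ℕ} [Fact p.Prime] (S : Sylow p G) {X : Subgroup G}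
    (hX : X.IsSubnormal) : X ≤ Op p X ⊔ ((S : Subgroup G) ⊓ X) := by
  have hp : p.Prime := Fact.out
  rw [← Subgroup.relIndex_eq_one]
  obtain ⟨j, hj⟩ := relIndex_Op_pow p X
  have h1 : (Op p X ⊔ ((S : Subgroup G) ⊓ X)).relIndex X ∣ p ^ j := by
    rw [← hj]; exact Subgroup.relIndex_dvd_of_le_left X le_sup_left
  have h2 : (Op p X ⊔ ((S : Subgroup G) ⊓ X)).relIndex X ∣ (S : Subgroup G).relIndex X := by
    rw [← Subgroup.inf_relIndex_right (S : Subgroup G) X]
    exact Subgroup.relIndex_dvd_of_le_left X le_sup_right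
  have h3 : ¬ p ∣ (S : Subgroup G).relIndex X := not_dvd_relIndex_of_isSubnormal hX S
  obtain ⟨k, -, hk⟩ := (Nat.dvd_prime_pow hp).mp h1
  rcases Nat.eq_zero_or_pos k with rfl | hkpos
  · simpa using hk
  · exfalso; apply h3
    refine dvd_trans ?_ h2
    rw [hk]; exact dvd_pow_self p hkpos.ne'

end

/-- Quotient step: `S ≤ T (S ∩ N)` provided the theorem holds in `G ⧸ N`. -/
theorem quotient_step {G : Type u} [Group G] [Finite G] {p : ℕ} [Fact p.Prime]
    (S : Sylow p G) (𝓗 : Set (Subgroup G)) (hsn : ∀ X ∈ 𝓗, X.IsSubnormal)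
    (hgen : ∀ X ∈ 𝓗, Gen p X) (htop : sSup 𝓗 = ⊤) (N : Subgroup G) [N.Normal]
    (ih : ∀ (S' : Sylow p (G ⧸ N)) (𝓗' : Set (Subgroup (G ⧸ N))), (∀ X ∈ 𝓗', X.IsSubnormal) →
      (∀ X ∈ 𝓗', Gen p X) → sSup 𝓗' = ⊤ →
      (S' : Subgroup (G ⧸ N)) ≤ ⨆ X ∈ 𝓗', (S' : Subgroup (G ⧸ N)) ⊓ X) :
    (S : Subgroup G) ≤ (⨆ X ∈ 𝓗, (S : Subgroup G) ⊓ X) ⊔ ((S : Subgroup G) ⊓ N) := by
  set T : Subgroup G := ⨆ X ∈ 𝓗, (S : Subgroup G) ⊓ X with hT
  have hTS : T ≤ S := iSup₂_le (fun X _ => inf_le_left)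
  have hπ : Function.Surjective (QuotientGroup.mk' N) := QuotientGroup.mk'_surjective N
  have h1 := ih (S.mapSurjective hπ) ((Subgroup.map (QuotientGroup.mk' N)) '' 𝓗)
    (by rintro _ ⟨X, hX, rfl⟩; exact (hsn X hX).map hπ)
    (by rintro _ ⟨X, hX, rfl⟩; exact gen_map p _ (hgen X hX))
    (by
      rw [sSup_image, ← (Subgroup.gc_map_comap (QuotientGroup.mk' N)).l_sSup, htop]
      exact Subgroup.map_top_of_surjective _ hπ)
  rw [Sylow.coe_mapSurjective, iSup_image] at h1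
  have h2 : ∀ X ∈ 𝓗, (S : Subgroup G).map (QuotientGroup.mk' N) ⊓ X.map (QuotientGroup.mk' N)
      ≤ ((S : Subgroup G) ⊓ X).map (QuotientGroup.mk' N) := by
    intro X hX y hy
    obtain ⟨⟨s, hs, rfl⟩, ⟨x, hx, hxs⟩⟩ := hy
    have hk : x⁻¹ * s ∈ N := by
      have : (QuotientGroup.mk' N) (x⁻¹ * s) = 1 := by
        rw [map_mul, map_inv, hxs]; simp
      rwa [← MonoidHom.mem_ker, QuotientGroup.ker_mk'] at this
    have hsXN : s ∈ (S : Subgroup G) ⊓ (X ⊔ N) := by
      refine ⟨hs, ?_⟩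
      have : s = x * (x⁻¹ * s) := by group
      rw [this]
      exact Subgroup.mul_mem_sup hx hk
    rw [sylow_inf_sup S (hsn X hX) (Subgroup.Normal.isSubnormal inferInstance)
      (by rw [Subgroup.normalizer_eq_top]; exact le_top)] at hsXN
    have h3 : (QuotientGroup.mk' N) s ∈
        (((S : Subgroup G) ⊓ X) ⊔ ((S : Subgroup G) ⊓ N)).map (QuotientGroup.mk' N) :=
      Subgroup.mem_map_of_mem _ hsXN
    rw [Subgroup.map_sup] at h3
    have h4 : ((S : Subgroup G) ⊓ N).map (QuotientGroup.mk' N) = ⊥ := by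
      rw [← le_bot_iff, Subgroup.map_le_iff_le_comap]
      intro z hz
      rw [Subgroup.mem_comap, Subgroup.mem_bot, ← MonoidHom.mem_ker, QuotientGroup.ker_mk']
      exact hz.2
    rwa [h4, sup_bot_eq] at h3
  have h5 : (S : Subgroup G).map (QuotientGroup.mk' N) ≤ T.map (QuotientGroup.mk' N) := by
    refine h1.trans (iSup₂_le fun X hX => (h2 X hX).trans (Subgroup.map_mono ?_))
    rw [hT]
    exact le_iSup₂_of_le X hX le_rfl
  have h6 : (S : Subgroup G) ≤ T ⊔ N := by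
    have := Subgroup.comap_mono (f := QuotientGroup.mk' N) h5
    rw [Subgroup.comap_map_eq, Subgroup.comap_map_eq, QuotientGroup.ker_mk'] at this
    exact le_sup_left.trans this
  intro s hs
  obtain ⟨t, ht, n, hn, rfl⟩ := Subgroup.mem_sup_of_normal_right.mp (h6 hs)
  refine Subgroup.mul_mem_sup ht ⟨?_, hn⟩
  have : n = t⁻¹ * (t * n) := by group
  rw [this]
  exact Subgroup.mul_mem _ (Subgroup.inv_mem _ (hTS ht)) hs

/-- The subgroup `D = ⟨N ∩ X : X ∈ 𝓗⟩` is normal in `G = ⟨𝓗⟩` and contains `[N, G]`, when the normal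
subgroup `N` normalizes every member of `𝓗`. -/
theorem D_step {G : Type u} [Group G] (𝓗 : Set (Subgroup G)) (htop : sSup 𝓗 = ⊤)
    (N : Subgroup G) [hNn : N.Normal]
    (hNX : ∀ X ∈ 𝓗, N ≤ Subgroup.normalizer (X : Set G)) :
    ∃ D : Subgroup G, D.Normal ∧ D ≤ N ∧ D ≤ sSup ((fun X => N ⊓ X) '' 𝓗) ∧
      ∀ g : G, ∀ n ∈ N, g * n * g⁻¹ * n⁻¹ ∈ D := by
  set D : Subgroup G := Subgroup.closure {d | ∃ Y ∈ 𝓗, d ∈ N ∧ d ∈ Y} with hD
  have hDN : D ≤ N := by
    rw [hD, Subgroup.closure_le]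
    rintro d ⟨Y, _, hdN, _⟩
    exact hdN
  have hDs : D ≤ sSup ((fun X => N ⊓ X) '' 𝓗) := by
    rw [hD, Subgroup.closure_le]
    rintro d ⟨Y, hY, hdN, hdY⟩
    exact (le_sSup (Set.mem_image_of_mem _ hY) : N ⊓ Y ≤ _) ⟨hdN, hdY⟩
  have hcomm : ∀ X ∈ 𝓗, ∀ x ∈ X, ∀ n ∈ N, x * n * x⁻¹ * n⁻¹ ∈ D := by
    intro X hX x hx n hn
    apply Subgroup.subset_closure
    refine ⟨X, hX, N.mul_mem (hNn.conj_mem n hn x) (N.inv_mem hn), ?_⟩
    have h1 : n * x⁻¹ * n⁻¹ ∈ X :=
      (Subgroup.mem_normalizer_iff.mp (hNX X hX hn) x⁻¹).mp (X.inv_mem hx)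
    have : x * n * x⁻¹ * n⁻¹ = x * (n * x⁻¹ * n⁻¹) := by group
    rw [this]
    exact X.mul_mem hx h1
  have hconj : ∀ X ∈ 𝓗, ∀ x ∈ X, ∀ d ∈ D, x * d * x⁻¹ ∈ D := by
    intro X hX x hx d hd
    rw [hD] at hd
    induction hd using Subgroup.closure_induction with
    | mem d hd =>
      obtain ⟨Y, hY, hdN, hdY⟩ := hd
      have : x * d * x⁻¹ = (x * d * x⁻¹ * d⁻¹) * d := by group
      rw [this]
      exact D.mul_mem (hcomm X hX x hx d hdN) (Subgroup.subset_closure ⟨Y, hY, hdN, hdY⟩)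
    | one => simp
    | mul a b _ _ iha ihb =>
      have : x * (a * b) * x⁻¹ = (x * a * x⁻¹) * (x * b * x⁻¹) := by group
      rw [this]; exact D.mul_mem iha ihb
    | inv a _ iha =>
      have : x * a⁻¹ * x⁻¹ = (x * a * x⁻¹)⁻¹ := by group
      rw [this]; exact D.inv_mem iha
  have hDnorm : D.Normal := by
    rw [← Subgroup.normalizer_eq_top_iff, eq_top_iff, ← htop]
    apply sSup_le
    intro X hX x hx
    rw [Subgroup.mem_normalizer_iff]
    intro d
    constructor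
    · exact hconj X hX x hx d
    · intro h
      have := hconj X hX x⁻¹ (X.inv_mem hx) _ h
      simpa [mul_assoc] using this
  let C : Subgroup G :=
    { carrier := {g | ∀ n ∈ N, g * n * g⁻¹ * n⁻¹ ∈ D}
      one_mem' := by intro n _; simp
      mul_mem' := by
        intro a b ha hb n hn
        have : a * b * n * (a * b)⁻¹ * n⁻¹ = a * (b * n * b⁻¹ * n⁻¹) * a⁻¹ * (a * n * a⁻¹ * n⁻¹) := by
          group
        rw [this]
        exact D.mul_mem (hDnorm.conj_mem _ (hb n hn) a) (ha n hn)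
      inv_mem' := by
        intro a ha n hn
        have h1 := ha (a⁻¹ * n * a) (by simpa using hNn.conj_mem n hn a⁻¹)
        have : a⁻¹ * n * a⁻¹⁻¹ * n⁻¹ = (a * (a⁻¹ * n * a) * a⁻¹ * (a⁻¹ * n * a)⁻¹)⁻¹ := by group
        rw [this]
        exact D.inv_mem h1 }
  have hC : (⊤ : Subgroup G) ≤ C := by
    rw [← htop]
    apply sSup_le
    intro X hX x hx n hn
    exact hcomm X hX x hx n hn
  exact ⟨D, hDnorm, hDN, hDs, fun g n hn => hC (Subgroup.mem_top g) n hn⟩

/-- Central step (transfer): `G` generated by `p'`-elements, `N0 ≤ S ∩ Z(G)`, `S = T N0` ⇒ `S = T`. -/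
theorem central_step {G : Type u} [Group G] [Finite G] {p : ℕ} [Fact p.Prime] (S : Sylow p G)
    (hG : Gen p (⊤ : Subgroup G)) (T N0 : Subgroup G) (hN0S : N0 ≤ S)
    (hN0Z : N0 ≤ Subgroup.center G) (hS : (S : Subgroup G) ≤ T ⊔ N0) : (S : Subgroup G) ≤ T := by
  have hp : p.Prime := Fact.out
  -- commutator subgroup of S lies in T
  have hcomm : ∀ w ∈ commutator ↥(S : Subgroup G), (w : G) ∈ T := by
    have : N0.Normal := ⟨fun n hn g => by
      have := Subgroup.mem_center_iff.mp (hN0Z hn) g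
      have h2 : g * n * g⁻¹ = n := by rw [this]; group
      rw [h2]; exact hn⟩
    intro w hw
    rw [commutator_eq_closure] at hw
    induction hw using Subgroup.closure_induction with
    | mem w hw =>
      obtain ⟨a, b, rfl⟩ := hw
      obtain ⟨t1, ht1, n1, hn1, h1⟩ := Subgroup.mem_sup_of_normal_right.mp (hS a.2)
      obtain ⟨t2, ht2, n2, hn2, h2⟩ := Subgroup.mem_sup_of_normal_right.mp (hS b.2)
      have hc1 := Subgroup.mem_center_iff.mp (hN0Z hn1)
      have hc2 := Subgroup.mem_center_iff.mp (hN0Z hn2)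
      have ha : ∀ x, n1 * x * n1⁻¹ = x := fun x => by rw [← hc1 x, mul_inv_cancel_right]
      have hb : ∀ x, n2 * x * n2⁻¹ = x := fun x => by rw [← hc2 x, mul_inv_cancel_right]
      have : ((⁅a, b⁆ : ↥(S : Subgroup G)) : G) = t1 * t2 * t1⁻¹ * t2⁻¹ := by
        rw [commutatorElement_def]
        push_cast
        rw [← h1, ← h2]
        calc t1 * n1 * (t2 * n2) * (t1 * n1)⁻¹ * (t2 * n2)⁻¹
            = t1 * (n1 * (t2 * n2) * n1⁻¹) * t1⁻¹ * (t2 * n2)⁻¹ := by group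
          _ = t1 * (t2 * n2) * t1⁻¹ * (t2 * n2)⁻¹ := by rw [ha]
          _ = t1 * t2 * (n2 * t1⁻¹ * n2⁻¹) * t2⁻¹ := by group
          _ = t1 * t2 * t1⁻¹ * t2⁻¹ := by rw [hb]
      rw [this]
      exact T.mul_mem (T.mul_mem (T.mul_mem ht1 ht2) (T.inv_mem ht1)) (T.inv_mem ht2)
    | one => exact T.one_mem
    | mul a b _ _ iha ihb => rw [Subgroup.coe_mul]; exact T.mul_mem iha ihb
    | inv a _ iha => rw [Subgroup.coe_inv]; exact T.inv_mem iha
  -- the transfer into `S / S'` is trivial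
  have hA : IsPGroup p (Abelianization ↥(S : Subgroup G)) := S.2.to_quotient _
  have hV : ∀ g : G, MonoidHom.transfer (Abelianization.of : ↥(S : Subgroup G) →* _) g = 1 := by
    intro g
    have h1 : (⊤ : Subgroup G) ≤
        (MonoidHom.transfer (Abelianization.of : ↥(S : Subgroup G) →* _)).ker := by
      apply hG
      intro x _ hx
      rw [MonoidHom.mem_ker]
      obtain ⟨k, hk⟩ := IsPGroup.iff_orderOf.mp hA
        (MonoidHom.transfer (Abelianization.of : ↥(S : Subgroup G) →* _) x)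
      have h2 : orderOf (MonoidHom.transfer (Abelianization.of : ↥(S : Subgroup G) →* _) x)
          ∣ orderOf x := orderOf_map_dvd _ x
      rw [← orderOf_eq_one_iff]
      have h3 : (orderOf (MonoidHom.transfer (Abelianization.of : ↥(S : Subgroup G) →* _) x)).Coprime p :=
        Nat.Coprime.coprime_dvd_left h2 hx
      rw [hk] at h3 ⊢
      rcases Nat.eq_zero_or_pos k with rfl | hkpos
      · simp
      · exfalso
        have := (Nat.coprime_pow_left_iff hkpos p p).mp h3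
        rw [Nat.coprime_self] at this
        exact hp.one_lt.ne' this
    exact MonoidHom.mem_ker.mp (h1 (Subgroup.mem_top g))
  -- central elements of S lie in S'
  have hz : ∀ z (hz : z ∈ N0), (⟨z, hN0S hz⟩ : ↥(S : Subgroup G)) ∈ commutator ↥(S : Subgroup G) := by
    intro z hz
    have hzc := Subgroup.mem_center_iff.mp (hN0Z hz)
    have key : ∀ (k : ℕ) (g₀ : G), g₀⁻¹ * z ^ k * g₀ ∈ (S : Subgroup G) →
        g₀⁻¹ * z ^ k * g₀ = z ^ k := by
      intro k g₀ _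
      have : Commute g₀ (z ^ k) := (Commute.pow_right (hzc g₀) k)
      rw [mul_assoc, ← this.eq, inv_mul_cancel_left]
    have h1 := MonoidHom.transfer_eq_pow (Abelianization.of : ↥(S : Subgroup G) →* _) z key
    rw [hV z] at h1
    have h2 : (⟨z ^ (S : Subgroup G).index, MonoidHom.transfer_eq_pow_aux z key⟩ :
        ↥(S : Subgroup G)) ∈ commutator ↥(S : Subgroup G) := by
      rw [← Abelianization.ker_of, MonoidHom.mem_ker]
      exact h1.symm
    -- z is a power of z ^ index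
    have hzS : z ∈ (S : Subgroup G) := hN0S hz
    obtain ⟨k, hk⟩ := IsPGroup.iff_orderOf.mp S.2 (⟨z, hzS⟩ : ↥(S : Subgroup G))
    have hcop : Nat.Coprime (S : Subgroup G).index (orderOf (⟨z, hzS⟩ : ↥(S : Subgroup G))) := by
      rw [hk]
      apply Nat.Coprime.pow_right
      exact (Nat.Coprime.symm ((Nat.Prime.coprime_iff_not_dvd hp).mpr S.not_dvd_index))
    obtain ⟨m, hm⟩ := exists_pow_eq_self_of_coprime hcop
    rw [← hm]
    apply Subgroup.pow_mem
    exact h2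
  intro s hs
  have : N0.Normal := ⟨fun n hn g => by
    have := Subgroup.mem_center_iff.mp (hN0Z hn) g
    have h2 : g * n * g⁻¹ = n := by rw [this]; group
    rw [h2]; exact hn⟩
  obtain ⟨t, ht, n, hn, rfl⟩ := Subgroup.mem_sup_of_normal_right.mp (hS hs)
  exact T.mul_mem ht (hcomm _ (hz n hn))

/-- Main theorem, generating case: `G = ⟨𝓗⟩` with all members subnormal and generated by
`p'`-elements; then `S = ⟨S ∩ X : X ∈ 𝓗⟩`. -/
theorem main_top (p : ℕ) [Fact p.Prime] : ∀ n : ℕ, ∀ (G : Type u) [Group G] [Finite G],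
    Nat.card G = n →
    ∀ (S : Sylow p G) (𝓗 : Set (Subgroup G)), (∀ X ∈ 𝓗, X.IsSubnormal) → (∀ X ∈ 𝓗, Gen p X) →
    sSup 𝓗 = ⊤ → (S : Subgroup G) ≤ ⨆ X ∈ 𝓗, (S : Subgroup G) ⊓ X := by
  intro n
  induction n using Nat.strong_induction_on with
  | _ n ih =>
  intro G _ _ hn S 𝓗 hsn hgen htop
  by_cases htriv : Subsingleton G
  · intro x _; rw [Subsingleton.elim x 1]; exact Subgroup.one_mem _
  rw [not_subsingleton_iff_nontrivial] at htriv
  obtain ⟨N, hN⟩ := exists_isMinNormal (G := G)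
  haveI hNn : N.Normal := hN.1
  have hcard : Nat.card (G ⧸ N) < n := by
    rw [← hn, Subgroup.card_eq_card_quotient_mul_card_subgroup N]
    have h1 : 1 < Nat.card N := (Subgroup.one_lt_card_iff_ne_bot (H := N)).mpr hN.2.1
    have h2 : 0 < Nat.card (G ⧸ N) := Nat.card_pos
    nlinarith
  have step1 := quotient_step S 𝓗 hsn hgen htop N
    (fun S' 𝓗' h1 h2 h3 => ih _ hcard (G ⧸ N) rfl S' 𝓗' h1 h2 h3)
  have hNX : ∀ X ∈ 𝓗, N ≤ Subgroup.normalizer (X : Set G) :=
    fun X hX => minNormal_le_normalizer_of_subnormal G X N (hsn X hX) hN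
  obtain ⟨D, hDn, hDN, hDs, hDc⟩ := D_step 𝓗 htop N hNX
  rcases hN.2.2 D hDn hDN with hD | hD
  · -- central case
    have hNZ : N ≤ Subgroup.center G := by
      intro z hz
      rw [Subgroup.mem_center_iff]
      intro g
      have := hDc g z hz
      rw [hD, Subgroup.mem_bot] at this
      have h2 : g * z = (g * z * g⁻¹ * z⁻¹) * z * g := by group
      rw [h2, this, one_mul]
    exact central_step S (by rw [← htop]; exact gen_sSup p 𝓗 hgen) _ ((S : Subgroup G) ⊓ N)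
      inf_le_left (inf_le_right.trans hNZ) step1
  · -- D = N
    have h1 : (S : Subgroup G) ⊓ N ≤ ⨆ X ∈ 𝓗, (S : Subgroup G) ⊓ X := by
      calc (S : Subgroup G) ⊓ N ≤ (S : Subgroup G) ⊓ sSup ((fun X => N ⊓ X) '' 𝓗) :=
            inf_le_inf_left _ (hD ▸ hDs)
        _ ≤ ⨆ Y ∈ ((fun X => N ⊓ X) '' 𝓗), (S : Subgroup G) ⊓ Y := by
            apply sylow_inf_sSup S N
            rintro _ ⟨X, hX, rfl⟩
            refine ⟨hN.1.isSubnormal.inf (hsn X hX), inf_le_left, ?_⟩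
            exact (le_inf le_rfl le_rfl).trans (inf_le_normalizer_inf' (S := N) (hNX X hX))
        _ ≤ ⨆ X ∈ 𝓗, (S : Subgroup G) ⊓ X := by
            rw [iSup_image]
            exact iSup₂_mono (fun X hX => inf_le_inf_left _ inf_le_right)
    exact step1.trans (sup_le le_rfl h1)

/-- Family of subnormal subgroups generated by `p'`-elements: `S ∩ ⟨𝓗⟩ = ⟨S ∩ X : X ∈ 𝓗⟩`. -/
theorem main_gen {G : Type u} [Group G] [Finite G] {p : ℕ} [Fact p.Prime] (S : Sylow p G)
    (𝓗 : Set (Subgroup G)) (hsn : ∀ X ∈ 𝓗, X.IsSubnormal) (hgen : ∀ X ∈ 𝓗, Gen p X) :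
    (S : Subgroup G) ⊓ sSup 𝓗 ≤ ⨆ X ∈ 𝓗, (S : Subgroup G) ⊓ X := by
  set J : Subgroup G := sSup 𝓗 with hJ
  have hJsn : J.IsSubnormal := isSubnormal_sSup 𝓗 hsn
  have hPG : IsPGroup p ((S : Subgroup G).subgroupOf J) := S.2.comap_subtype
  have hidx : ¬ p ∣ ((S : Subgroup G).subgroupOf J).index :=
    not_dvd_relIndex_of_isSubnormal hJsn S
  obtain ⟨SJ, hSJ⟩ : ∃ SJ : Sylow p ↥J, (SJ : Subgroup ↥J) = (S : Subgroup G).subgroupOf J :=
    ⟨hPG.toSylow hidx, IsPGroup.toSylow_coe _ _⟩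
  set 𝓗' : Set (Subgroup ↥J) := {Y | Y.map J.subtype ∈ 𝓗} with h𝓗'
  have hY : ∀ Y ∈ 𝓗', Y = (Y.map J.subtype).subgroupOf J := by
    intro Y _
    exact (Subgroup.comap_map_eq_self_of_injective (Subgroup.subtype_injective J) Y).symm
  have h1 : ∀ Y ∈ 𝓗', Y.IsSubnormal := by
    intro Y hY'
    rw [hY Y hY']
    exact (hsn _ hY').subgroupOf
  have h2 : ∀ Y ∈ 𝓗', Gen p Y := by
    intro Y hY'
    rw [hY Y hY']
    exact gen_subgroupOf p (Subgroup.map_subtype_le Y) (hgen _ hY')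
  have h3 : sSup 𝓗' = ⊤ := by
    rw [eq_top_iff]
    have h4 : J ≤ (sSup 𝓗').map J.subtype := by
      refine (sSup_le ?_ : sSup 𝓗 ≤ _)
      intro X hX
      have hXJ : X ≤ J := le_sSup hX
      have hm : (X.subgroupOf J).map J.subtype = X := Subgroup.map_subgroupOf_eq_of_le hXJ
      have hmem : X.subgroupOf J ∈ 𝓗' := by
        rw [h𝓗', Set.mem_ofPred_eq, hm]; exact hX
      rw [← hm]
      exact Subgroup.map_mono (le_sSup hmem)
    intro y _
    obtain ⟨z, hz, hzy⟩ := h4 y.2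
    have : z = y := Subtype.ext hzy
    rw [← this]; exact hz
  have h5 := main_top p _ ↥J rfl SJ 𝓗' h1 h2 h3
  intro x hx
  have hxJ : x ∈ J := hx.2
  have h6 : (⟨x, hxJ⟩ : ↥J) ∈ (SJ : Subgroup ↥J) := by
    rw [hSJ, Subgroup.mem_subgroupOf]
    exact hx.1
  have h7 : (⨆ Y ∈ 𝓗', (SJ : Subgroup ↥J) ⊓ Y) ≤
      (⨆ X ∈ 𝓗, (S : Subgroup G) ⊓ X).comap J.subtype := by
    apply iSup₂_le
    intro Y hY' z hz
    rw [Subgroup.mem_comap]
    have hzS : (z : G) ∈ (S : Subgroup G) := by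
      have h8 : z ∈ (SJ : Subgroup ↥J) := hz.1
      rw [hSJ] at h8
      exact Subgroup.mem_subgroupOf.mp h8
    have hzY : (z : G) ∈ Y.map J.subtype := ⟨z, hz.2, rfl⟩
    exact (le_iSup₂_of_le (Y.map J.subtype) hY' le_rfl :
      (S : Subgroup G) ⊓ Y.map J.subtype ≤ _) ⟨hzS, hzY⟩
  exact h7 (h5 h6)

/-- **Sylow subgroups of joins of subnormal subgroups**:
`⟨A₁, A₂⟩ ∩ S = ⟨A₁ ∩ S, A₂ ∩ S⟩` for subnormal `A₁`, `A₂` and a Sylow `p`-subgroup `S`. -/
theorem sylow_join {G : Type u} [Group G] [Finite G] {p : ℕ} [Fact p.Prime] (S : Sylow p G)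
    (A₁ A₂ : Subgroup G) (h₁ : A₁.IsSubnormal) (h₂ : A₂.IsSubnormal) :
    (A₁ ⊔ A₂) ⊓ (S : Subgroup G) = (A₁ ⊓ (S : Subgroup G)) ⊔ (A₂ ⊓ (S : Subgroup G)) := by
  set T : Subgroup G := (A₁ ⊓ (S : Subgroup G)) ⊔ (A₂ ⊓ (S : Subgroup G)) with hT
  have hTS : T ≤ S := sup_le inf_le_right inf_le_right
  have hTJ : T ≤ A₁ ⊔ A₂ := sup_le_sup inf_le_left inf_le_left
  apply le_antisymm _ (le_inf hTJ hTS)
  set 𝓗 : Set (Subgroup G) := {Z | ∃ t ∈ T, Z = (Op p A₁).map (MulAut.conj t).toMonoidHom ∨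
    Z = (Op p A₂).map (MulAut.conj t).toMonoidHom} with h𝓗
  have hsn : ∀ Z ∈ 𝓗, Z.IsSubnormal := by
    rintro Z ⟨t, _, rfl | rfl⟩
    · exact (isSubnormal_Op p h₁).map (MulAut.conj t).surjective
    · exact (isSubnormal_Op p h₂).map (MulAut.conj t).surjective
  have hgen : ∀ Z ∈ 𝓗, Gen p Z := by
    rintro Z ⟨t, _, rfl | rfl⟩
    · exact gen_map p _ (gen_Op p A₁)
    · exact gen_map p _ (gen_Op p A₂)
  have hb : ∀ Z ∈ 𝓗, (S : Subgroup G) ⊓ Z ≤ T := by
    have aux : ∀ (A : Subgroup G), A ⊓ (S : Subgroup G) ≤ T → ∀ t ∈ T,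
        (S : Subgroup G) ⊓ (Op p A).map (MulAut.conj t).toMonoidHom ≤ T := by
      intro A hA t ht x hx
      obtain ⟨hxS, y, hy, hyx⟩ := hx
      have hyx' : t * y * t⁻¹ = x := by simpa [MulAut.conj_apply] using hyx
      have hyS : y ∈ (S : Subgroup G) := by
        have : y = t⁻¹ * x * t := by rw [← hyx']; group
        rw [this]
        exact Subgroup.mul_mem _ (Subgroup.mul_mem _ (Subgroup.inv_mem _ (hTS ht)) hxS) (hTS ht)
      have hyT : y ∈ T := hA ⟨Op_le p A hy, hyS⟩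
      rw [← hyx']
      exact T.mul_mem (T.mul_mem ht hyT) (T.inv_mem ht)
    rintro Z ⟨t, ht, rfl | rfl⟩
    · exact aux A₁ le_sup_left t ht
    · exact aux A₂ le_sup_right t ht
  set J : Subgroup G := sSup 𝓗 with hJ
  have hc : (S : Subgroup G) ⊓ J ≤ T :=
    (main_gen S 𝓗 hsn hgen).trans (iSup₂_le hb)
  have hconj : ∀ t ∈ T, J.map (MulAut.conj t).toMonoidHom ≤ J := by
    intro t ht
    rw [hJ, (Subgroup.gc_map_comap (MulAut.conj t).toMonoidHom).l_sSup]
    apply iSup₂_le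
    rintro Z ⟨t', ht', rfl | rfl⟩
    · rw [Subgroup.map_map]
      apply le_sSup
      refine ⟨t * t', T.mul_mem ht ht', Or.inl ?_⟩
      congr 1
      ext y
      simp [MulAut.conj_apply, mul_assoc]
    · rw [Subgroup.map_map]
      apply le_sSup
      refine ⟨t * t', T.mul_mem ht ht', Or.inr ?_⟩
      congr 1
      ext y
      simp [MulAut.conj_apply, mul_assoc]
  have hd : T ≤ Subgroup.normalizer (J : Set G) := by
    intro t ht
    rw [Subgroup.mem_normalizer_iff]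
    intro j
    constructor
    · intro hj
      exact hconj t ht ⟨j, hj, by simp [MulAut.conj_apply]⟩
    · intro hj
      have := hconj t⁻¹ (T.inv_mem ht) ⟨t * j * t⁻¹, hj, rfl⟩
      simpa [MulAut.conj_apply, mul_assoc] using this
  have he : ∀ A : Subgroup G, A.IsSubnormal → A ⊓ (S : Subgroup G) ≤ T →
      (∀ t ∈ T, (Op p A).map (MulAut.conj t).toMonoidHom ∈ 𝓗) → A ≤ J ⊔ T := by
    intro A hA hAT hmem
    refine (le_Op_sup S hA).trans (sup_le_sup ?_ (by rw [inf_comm]; exact hAT))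
    have h1 := hmem 1 T.one_mem
    have h2 : (Op p A).map (MulAut.conj (1 : G)).toMonoidHom = Op p A := by
      ext y; simp
    rw [h2] at h1
    exact le_sSup h1
  have hf : A₁ ⊔ A₂ ≤ J ⊔ T :=
    sup_le (he A₁ h₁ le_sup_left (fun t ht => ⟨t, ht, Or.inl rfl⟩))
      (he A₂ h₂ le_sup_right (fun t ht => ⟨t, ht, Or.inr rfl⟩))
  intro x hx
  obtain ⟨j, hj, t, ht, rfl⟩ := mem_sup_of_le_normalizer hd (hf hx.1)
  have hjS : j ∈ (S : Subgroup G) := by
    have : j = j * t * t⁻¹ := by group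
    rw [this]
    exact Subgroup.mul_mem _ hx.2 (Subgroup.inv_mem _ (hTS ht))
  exact T.mul_mem (hc ⟨hjS, hj⟩) ht

end Cfsg.Agent.Lib.Helper19.SylowJoin
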