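import Mathlib
import Cfsg.Agent.Lib.Lead.BrLeo13
import Cfsg.Agent.Lib.Helper12.BSFDeg
import Cfsg.Agent.Lib.Helper24.IrrFacts

/-!
# Permutation groups of prime degree `p` with `|N(P)| = 2p` (helper19), part B

The principal `p`-block of a group with a self-centralizing Sylow `p`-subgroup of order `p ≥ 5`,
`|N(P)| = 2p`, possessing an irreducible character `χ` of degree `p - 1` with value `-1` on all
`p`-singular elements: it consists of `1`, `χ` and `(p - 1) / 2` characters `η` with
`η = χ - 1` on `p`-regular elements; all other irreducible characters vanish on `P#`.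
-/

set_option autoImplicit false
set_option linter.unusedSectionVars false
set_option linter.style.haveILetI false

namespace Cfsg.Agent.Lib.Helper19.PDeg

open Cfsg Cfsg.Agent.CharLib Cfsg.Agent.Lib.Helper24 Cfsg.Agent.Lib.Helper6
open scoped ComplexConjugate

universe u

variable {G : Type u} [Group G] [Finite G] {p : ℕ} [hp : Fact p.Prime]

/-- irreducible characters outside the principal block vanish on `P#` (self-centralizing case) -/
theorem vanish_off_block {M : Ideal AlgInt} (hM : IsPModular p M) (P : Sylow p G)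
    (hab : IsMulCommutative P) (hfrob : BLFrob P) (y : G) (hy : y ∈ (P : Subgroup G))
    (hy1 : y ≠ 1)
    (hCy : Nat.card (Subgroup.centralizer ({y} : Set G)) = Nat.card (P : Subgroup G))
    (ψ : IrrCharacter G) (hψ : ψ ∉ principalBlock M G) : (ψ : G → ℂ) y = 0 := by
  classical
  letI : Fintype G := Fintype.ofFinite G
  letI : Fintype (IrrCharacter G) := fintypeIrr G
  have h1 := sum_irr_mul_conj y y
  have hci : classIndicator y y = 1 := by
    unfold classIndicator
    rw [if_pos (IsConj.refl y)]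
  rw [hci, one_mul, hCy] at h1
  have h2 := hfrob.sum_sq hM hab y hy hy1
  have hS : principalBlock M G =
      ↑(Finset.univ.filter (fun χ : IrrCharacter G => χ ∈ principalBlock M G)) := by
    ext χ; simp
  rw [hS, finsum_mem_coe_finset] at h2
  have h3 := Finset.sum_filter_add_sum_filter_not (Finset.univ : Finset (IrrCharacter G))
    (fun χ => χ ∈ principalBlock M G) (fun χ => (χ : G → ℂ) y * conj ((χ : G → ℂ) y))
  rw [h1, h2] at h3
  have h4 : ∑ χ ∈ Finset.univ.filter (fun χ : IrrCharacter G => ¬ χ ∈ principalBlock M G),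
      (χ : G → ℂ) y * conj ((χ : G → ℂ) y) = 0 := by
    linear_combination h3
  have h5 : ∑ χ ∈ Finset.univ.filter (fun χ : IrrCharacter G => ¬ χ ∈ principalBlock M G),
      Complex.normSq ((χ : G → ℂ) y) = 0 := by
    have : ((∑ χ ∈ Finset.univ.filter (fun χ : IrrCharacter G => ¬ χ ∈ principalBlock M G),
        Complex.normSq ((χ : G → ℂ) y) : ℝ) : ℂ) = 0 := by
      rw [Complex.ofReal_sum, ← h4]
      apply Finset.sum_congr rfl
      intro χ _
      rw [Complex.mul_conj]
    exact_mod_cast this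
  have h6 := (Finset.sum_eq_zero_iff_of_nonneg (fun χ _ => Complex.normSq_nonneg _)).mp h5 ψ
    (Finset.mem_filter.mpr ⟨Finset.mem_univ _, hψ⟩)
  exact Complex.normSq_eq_zero.mp h6

/-- the arithmetic of the Brauer–Leonard norm equation for `m = 2` and two non-exceptional
characters with `a = ± 1` -/
theorem bl_arith (t d δ : ℤ) (ht : 2 ≤ t) (hδ : δ = 1 ∨ δ = -1)
    (h : (d - δ) ^ 2 + (t - 1) * d ^ 2 = 1) : t * d - δ = 1 ∨ t * d - δ = -1 := by
  by_cases hd : d = 0
  · subst hd
    rcases hδ with h1 | h1 <;> subst h1 <;> simp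
  · have hd2 : 1 ≤ d ^ 2 := by
      have : 0 < d ^ 2 := by positivity
      omega
    have h1 : 0 ≤ (d - δ) ^ 2 := sq_nonneg _
    have h2 : (t - 1) * d ^ 2 ≥ 1 := by nlinarith
    have h3 : (d - δ) ^ 2 = 0 := by nlinarith
    have h4 : d = δ := by
      have := pow_eq_zero_iff (two_ne_zero) |>.mp h3
      omega
    have h5 : (t - 1) * d ^ 2 = 1 := by nlinarith
    have h6 : d ^ 2 = 1 := by
      rw [h4]
      rcases hδ with h1 | h1 <;> subst h1 <;> norm_num
    rw [h6, mul_one] at h5
    have ht2 : t = 2 := by omega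
    subst ht2
    rw [h4]
    rcases hδ with h1 | h1 <;> subst h1 <;> norm_num

/-- **Structure of the principal block.** -/
theorem block_structure (hp5 : 5 ≤ p) (P : Sylow p G) (hP : Nat.card (P : Subgroup G) = p)
    (hcent : ∀ y : G, y ∈ (P : Subgroup G) → y ≠ 1 →
      Subgroup.centralizer ({y} : Set G) = (P : Subgroup G))
    (hN : Nat.card (Subgroup.normalizer ((P : Subgroup G) : Set G)) = 2 * p)
    (χ : IrrCharacter G) (hχ1 : (χ : G → ℂ) 1 = (p : ℂ) - 1)
    (hχs : ∀ g : G, p ∣ orderOf g → (χ : G → ℂ) g = -1) :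
    ∃ (χ₁ : IrrCharacter G) (Y : Finset (IrrCharacter G)), (χ₁ : G → ℂ) = (fun _ => 1) ∧
      χ₁ ∉ Y ∧ χ ∉ Y ∧ χ ≠ χ₁ ∧ Y.card = (p - 1) / 2 ∧
      (∀ η ∈ Y, ∀ g : G, ¬ p ∣ orderOf g → (η : G → ℂ) g = (χ : G → ℂ) g - 1) ∧
      (∀ ψ : IrrCharacter G, ψ ≠ χ₁ → ψ ≠ χ → ψ ∉ Y → ∀ y : G, y ∈ (P : Subgroup G) → y ≠ 1 →
        (ψ : G → ℂ) y = 0) := by
  classical
  letI : Fintype G := Fintype.ofFinite G
  have hpp : p.Prime := hp.out
  obtain ⟨M, hM⟩ := exists_isPModular p
  have hPc : Nat.card P = p := hP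
  have hcyc0 : IsCyclic ↥(P : Subgroup G) := isCyclic_of_prime_card hP
  have hab : IsMulCommutative P := IsCyclic.isMulCommutative
  -- a generator
  obtain ⟨y', hy'⟩ := exists_prime_orderOf_dvd_card' (G := ↥(P : Subgroup G)) p (by rw [hP])
  set y : G := (y' : G) with hydef
  have hyP : y ∈ (P : Subgroup G) := y'.2
  have hyo : orderOf y = p := by rw [hydef, Subgroup.orderOf_coe, hy']
  have hy1 : y ≠ 1 := by
    intro h
    rw [h, orderOf_one] at hyo
    exact hpp.one_lt.ne hyo
  -- the centralizer of `P`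
  have hC : Subgroup.centralizer ((P : Subgroup G) : Set G) = (P : Subgroup G) := by
    apply le_antisymm
    · calc Subgroup.centralizer ((P : Subgroup G) : Set G)
          ≤ Subgroup.centralizer ({y} : Set G) :=
            Subgroup.centralizer_le (Set.singleton_subset_iff.mpr hyP)
        _ = (P : Subgroup G) := hcent y hyP hy1
    · intro g hg
      rw [Subgroup.mem_centralizer_iff]
      intro h hh
      have := hab.is_comm.comm (⟨h, hh⟩ : P) ⟨g, hg⟩
      exact congrArg Subtype.val this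
  have hCleN : Subgroup.centralizer ((P : Subgroup G) : Set G) ≤
      Subgroup.normalizer ((P : Subgroup G) : Set G) := Subgroup.centralizer_le_normalizer _
  have hCN : (Subgroup.centralizer ((P : Subgroup G) : Set G)).relIndex
      (Subgroup.normalizer ((P : Subgroup G) : Set G)) = 2 := by
    have h1 := Subgroup.relIndex_mul_relIndex (⊥ : Subgroup G)
      (Subgroup.centralizer ((P : Subgroup G) : Set G))
      (Subgroup.normalizer ((P : Subgroup G) : Set G)) bot_le hCleN
    have hCcard : Nat.card (Subgroup.centralizer ((P : Subgroup G) : Set G)) = p := by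
      rw [hC]; exact hP
    rw [Subgroup.relIndex_bot_left, Subgroup.relIndex_bot_left, hN, hCcard, mul_comm 2 p] at h1
    exact Nat.eq_of_mul_eq_mul_left hpp.pos h1
  have hcyc := Cfsg.Agent.Lib.Helper12.BSF.exists_cyc_of_relIndex_prime _ _ hCleN 2
    Nat.prime_two hCN
  have hfrob : ∀ y : G, y ∈ (P : Subgroup G) → y ≠ 1 →
      Subgroup.centralizer ({y} : Set G) ⊓ Subgroup.normalizer ((P : Subgroup G) : Set G) =
        Subgroup.centralizer ((P : Subgroup G) : Set G) := by
    intro z hz hz1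
    rw [hcent z hz hz1, hC]
    exact inf_eq_left.mpr Subgroup.le_normalizer
  have hfrob' : BLFrob P := hfrob
  obtain ⟨s, X, Y, hs, hB, hdisj, hXc, hYc, ⟨χ₁, hχ₁X, hχ₁⟩, a, d, δ, ζ, hδ, hX, -, -, -, -, heq,
    hYreg, hrel⟩ := brauer_leonard_main p M hM P hab 2 (by norm_num) (by rw [hPc]; omega) hCN
      hcyc hfrob
  rw [hPc] at hYc heq hrel
  obtain ⟨t, ht⟩ : ∃ t : ℕ, p = 2 * t + 1 := by
    rcases hpp.eq_two_or_odd with h | h
    · omega
    · exact ⟨p / 2, by omega⟩
  have ht2 : 2 ≤ t := by omega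
  have htdiv : (p - 1) / 2 = t := by omega
  rw [htdiv] at hYc hrel
  have hYn : Y.ncard = t := by rw [← Nat.card_coe_set_eq, hYc]
  have hXn : X.ncard = s := by rw [← Nat.card_coe_set_eq, hXc]
  have hpp' : IsPPart p y y := isPPart_self_of_mem_sylow P y hyP
  -- values at `y`
  have hχy : (χ : G → ℂ) y = -1 := hχs y (by rw [hyo])
  have ha1 : a χ₁ = 1 := by
    have h1 := (hX χ₁ hχ₁X).2 y y hpp' hyP hy1
    rw [hχ₁] at h1
    have h2 : ((a χ₁ : ℤ) : ℂ) = ((1 : ℤ) : ℂ) := by rw [← h1]; norm_num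
    exact_mod_cast h2
  have hne1 : χ ≠ χ₁ := by
    intro h
    rw [h, hχ₁] at hχy
    norm_num at hχy
  -- `χ` lies in the principal block
  have hχB : χ ∈ principalBlock M G := by
    by_contra hcon
    have := vanish_off_block hM P hab hfrob' y hyP hy1 (by rw [hcent y hyP hy1]) χ hcon
    rw [hχy] at this
    norm_num at this
  -- `χ` is not exceptional
  have hχY : χ ∉ Y := by
    intro hχY
    obtain ⟨η', hη'Y, hη'ne⟩ := Set.exists_ne_of_one_lt_ncard (by rw [hYn]; omega) χ
    have hη'1 : η' ≠ χ₁ := by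
      intro h
      rw [h] at hη'Y
      exact Set.disjoint_left.mp hdisj hχ₁X hη'Y
    have hagree : ∀ g : G, ¬ p ∣ orderOf g → (η' : G → ℂ) g = (χ : G → ℂ) g :=
      fun g hg => hYreg η' hη'Y χ hχY g hg
    have hfun : (fun g => 1 + (χ : G → ℂ) g) = (χ₁ : G → ℂ) + (χ : G → ℂ) := by
      funext g
      rw [hχ₁]
      rfl
    have h1 : classInner (η' : G → ℂ) (fun g => 1 + (χ : G → ℂ) g) =
        classInner (χ : G → ℂ) (fun g => 1 + (χ : G → ℂ) g) := by
      unfold classInner
      congr 1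
      apply Finset.sum_congr rfl
      intro g _
      beta_reduce
      by_cases hg : p ∣ orderOf g
      · rw [hχs g hg]
        simp
      · rw [hagree g hg]
    rw [hfun, classInner_add_right, classInner_add_right, classInner_irr', classInner_irr',
      classInner_irr', classInner_irr', if_neg hη'1, if_neg hη'ne, if_neg hne1, if_pos rfl] at h1
    norm_num at h1
  have hχX : χ ∈ X := by
    have : χ ∈ X ∪ Y := by rw [← hB]; exact hχB
    rcases this with h | h
    · exact h
    · exact absurd h hχY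
  have ha2 : a χ = -1 := by
    have h1 := (hX χ hχX).2 y y hpp' hyP hy1
    rw [hχy] at h1
    have h2 : ((a χ : ℤ) : ℂ) = ((-1 : ℤ) : ℂ) := by rw [← h1]; norm_num
    exact_mod_cast h2
  -- `X = {χ₁, χ}`
  have hXeq : X = {χ₁, χ} := by
    have hsub : ({χ₁, χ} : Set (IrrCharacter G)) ⊆ X := by
      intro ψ hψ
      rcases hψ with h | h
      · rw [h]; exact hχ₁X
      · rw [Set.mem_singleton_iff] at h
        rw [h]; exact hχX
    have h2 : ({χ₁, χ} : Set (IrrCharacter G)).ncard = 2 := Set.ncard_pair hne1.symm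
    exact (Set.eq_of_subset_of_ncard_le hsub (by rw [h2, hXn]; exact hs) (Set.toFinite X)).symm
  -- the norm equation
  have heq' : (d - δ) ^ 2 + ((t : ℤ) - 1) * d ^ 2 = 1 := by
    rw [hXeq, finsum_mem_pair hne1.symm, ha1, ha2] at heq
    have e : (((p : ℕ) : ℤ) - 1) / ((2 : ℕ) : ℤ) = (t : ℤ) := by
      rw [ht]
      push_cast
      omega
    rw [e] at heq
    push_cast at heq
    linarith
  have hu := bl_arith (t : ℤ) d δ (by exact_mod_cast ht2) hδ heq'
  obtain ⟨η₀, hη₀⟩ := Set.nonempty_of_ncard_ne_zero (by rw [hYn]; omega : Y.ncard ≠ 0)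
  have hreg1 : ¬ p ∣ orderOf (1 : G) := by
    rw [orderOf_one]
    exact fun h => hpp.one_lt.ne' (Nat.dvd_one.mp h)
  have hrel' : ∀ η ∈ Y, ∀ g : G, ¬ p ∣ orderOf g →
      (((t : ℤ) * d - δ : ℤ) : ℂ) * (η : G → ℂ) g + (1 - (χ : G → ℂ) g) = 0 := by
    intro η hη g hg
    have h1 := hrel η hη g hg
    rw [hXeq, finsum_mem_pair hne1.symm, ha1, ha2, hχ₁] at h1
    push_cast at h1 ⊢
    linear_combination h1
  have hu1 : (t : ℤ) * d - δ = 1 := by
    rcases hu with h | h
    · exact h
    · exfalso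
      have h1 := hrel' η₀ hη₀ 1 hreg1
      obtain ⟨n, hn, hn1⟩ := IsIrrCharacter.apply_one_pos η₀.2
      rw [h, hn1, hχ1, ht] at h1
      have h2 : ((-1 * (n : ℤ) + (1 - ((2 * t + 1 : ℕ) - 1)) : ℤ) : ℂ) = ((0 : ℤ) : ℂ) := by
        push_cast at h1 ⊢
        linear_combination h1
      have h3 : -1 * (n : ℤ) + (1 - ((2 * t + 1 : ℕ) - 1)) = 0 := by exact_mod_cast h2
      push_cast at h3
      omega
  refine ⟨χ₁, (Set.toFinite Y).toFinset, hχ₁, ?_, ?_, hne1, ?_, ?_, ?_⟩
  · rw [Set.Finite.mem_toFinset]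
    exact fun h => Set.disjoint_left.mp hdisj hχ₁X h
  · rw [Set.Finite.mem_toFinset]
    exact hχY
  · rw [← Set.ncard_eq_toFinset_card Y, hYn, htdiv]
  · intro η hη g hg
    rw [Set.Finite.mem_toFinset] at hη
    have h1 := hrel' η hη g hg
    rw [hu1] at h1
    push_cast at h1
    linear_combination h1
  · intro ψ hψ1 hψχ hψY z hz hz1
    rw [Set.Finite.mem_toFinset] at hψY
    apply vanish_off_block hM P hab hfrob' z hz hz1 (by rw [hcent z hz hz1]) ψ
    rw [hB, hXeq]
    rintro ((h | h) | h)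
    · exact hψ1 h
    · exact hψχ h
    · exact hψY h

end Cfsg.Agent.Lib.Helper19.PDeg
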