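import Mathlib
import Cfsg.Agent.Lib.Helper19.PDegB
import Cfsg.Agent.Lib.Helper24.Ord4320Cnt

/-!
# Permutation groups of prime degree `p` with `|N(P)| = 2p` (helper19), part C

Consequences of the structure of the principal block: the sum of the exceptional characters on
`P#`, and the class multiplication constant `(s^G)(s^G) ∋ z` for a `p`-regular `s` and `z ∈ P#`.
-/

set_option autoImplicit false
set_option linter.unusedSectionVars false
set_option linter.style.haveILetI false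

namespace Cfsg.Agent.Lib.Helper19.PDeg

open Cfsg Cfsg.Agent.CharLib Cfsg.Agent.Lib.Helper24 Cfsg.Agent.Lib.Helper6
open scoped ComplexConjugate

universe u

variable {G : Type u} [Group G] [Finite G] {p : ℕ} [hp : Fact p.Prime]

/-- the data produced by `block_structure` -/
structure BlockData (p : ℕ) (P : Subgroup G) (χ χ₁ : IrrCharacter G)
    (Y : Finset (IrrCharacter G)) : Prop where
  triv : (χ₁ : G → ℂ) = fun _ => 1
  not_mem₁ : χ₁ ∉ Y
  not_mem : χ ∉ Y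
  ne : χ ≠ χ₁
  card : Y.card = (p - 1) / 2
  reg : ∀ η ∈ Y, ∀ g : G, ¬ p ∣ orderOf g → (η : G → ℂ) g = (χ : G → ℂ) g - 1
  van : ∀ ψ : IrrCharacter G, ψ ≠ χ₁ → ψ ≠ χ → ψ ∉ Y → ∀ y : G, y ∈ P → y ≠ 1 →
    (ψ : G → ℂ) y = 0
  deg : (χ : G → ℂ) 1 = (p : ℂ) - 1
  sing : ∀ g : G, p ∣ orderOf g → (χ : G → ℂ) g = -1

theorem exists_blockData (hp5 : 5 ≤ p) (P : Sylow p G) (hP : Nat.card (P : Subgroup G) = p)
    (hcent : ∀ y : G, y ∈ (P : Subgroup G) → y ≠ 1 →
      Subgroup.centralizer ({y} : Set G) = (P : Subgroup G))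
    (hN : Nat.card (Subgroup.normalizer ((P : Subgroup G) : Set G)) = 2 * p)
    (χ : IrrCharacter G) (hχ1 : (χ : G → ℂ) 1 = (p : ℂ) - 1)
    (hχs : ∀ g : G, p ∣ orderOf g → (χ : G → ℂ) g = -1) :
    ∃ (χ₁ : IrrCharacter G) (Y : Finset (IrrCharacter G)), BlockData p (P : Subgroup G) χ χ₁ Y := by
  obtain ⟨χ₁, Y, h1, h2, h3, h4, h5, h6, h7⟩ := block_structure hp5 P hP hcent hN χ hχ1 hχs
  exact ⟨χ₁, Y, ⟨h1, h2, h3, h4, h5, h6, h7, hχ1, hχs⟩⟩

variable {P : Subgroup G} {χ χ₁ : IrrCharacter G} {Y : Finset (IrrCharacter G)}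

/-- splitting a sum over all irreducible characters -/
theorem BlockData.sum_split (h : BlockData p P χ χ₁ Y) [Fintype (IrrCharacter G)]
    (F : IrrCharacter G → ℂ)
    (hF : ∀ ψ : IrrCharacter G, ψ ≠ χ₁ → ψ ≠ χ → ψ ∉ Y → F ψ = 0) :
    ∑ ψ : IrrCharacter G, F ψ = F χ₁ + F χ + ∑ η ∈ Y, F η := by
  classical
  have h1 : ∑ ψ ∈ insert χ₁ (insert χ Y), F ψ = ∑ ψ : IrrCharacter G, F ψ := by
    apply Finset.sum_subset (Finset.subset_univ _)
    intro ψ _ hψ
    rw [Finset.mem_insert, Finset.mem_insert] at hψ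
    push Not at hψ
    exact hF ψ hψ.1 hψ.2.1 hψ.2.2
  rw [← h1, Finset.sum_insert, Finset.sum_insert h.not_mem, add_assoc]
  rw [Finset.mem_insert]
  push Not
  exact ⟨h.ne.symm, h.not_mem₁⟩

/-- the degree of the exceptional characters -/
theorem BlockData.exc_deg (h : BlockData p P χ χ₁ Y) (η : IrrCharacter G) (hη : η ∈ Y) :
    (η : G → ℂ) 1 = (p : ℂ) - 2 := by
  have hreg1 : ¬ p ∣ orderOf (1 : G) := by
    rw [orderOf_one]
    exact fun h => hp.out.one_lt.ne' (Nat.dvd_one.mp h)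
  rw [h.reg η hη 1 hreg1, h.deg]
  ring

/-- the exceptional characters sum to `1` on `P#` -/
theorem BlockData.sum_exc (h : BlockData p P χ χ₁ Y) (hp3 : 3 ≤ p) (y : G) (hy : y ∈ P)
    (hy1 : y ≠ 1) (hyo : p ∣ orderOf y) : ∑ η ∈ Y, (η : G → ℂ) y = 1 := by
  classical
  letI : Fintype G := Fintype.ofFinite G
  letI : Fintype (IrrCharacter G) := fintypeIrr G
  have h1 := sum_irr_mul_conj (1 : G) y
  have hci : classIndicator y (1 : G) = 0 := by
    unfold classIndicator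
    rw [if_neg]
    rw [isConj_comm, isConj_one_left]
    exact hy1
  rw [hci, zero_mul] at h1
  rw [h.sum_split (fun ψ => (ψ : G → ℂ) 1 * conj ((ψ : G → ℂ) y))
    (fun ψ h1 h2 h3 => by
      rw [h.van ψ h1 h2 h3 y hy hy1, map_zero, mul_zero])] at h1
  rw [h.triv, h.deg, h.sing y hyo] at h1
  have h2 : ∑ η ∈ Y, (η : G → ℂ) 1 * conj ((η : G → ℂ) y) =
      ((p : ℂ) - 2) * conj (∑ η ∈ Y, (η : G → ℂ) y) := by
    rw [map_sum, Finset.mul_sum]
    apply Finset.sum_congr rfl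
    intro η hη
    rw [h.exc_deg η hη]
  rw [h2] at h1
  have hp2 : (p : ℂ) - 2 ≠ 0 := by
    have : (2 : ℂ) = ((2 : ℕ) : ℂ) := by norm_num
    rw [this, sub_ne_zero]
    intro h
    have := Nat.cast_injective h
    omega
  have h3 : conj (∑ η ∈ Y, (η : G → ℂ) y) = 1 := by
    have : ((p : ℂ) - 2) * (conj (∑ η ∈ Y, (η : G → ℂ) y) - 1) = 0 := by
      simp only [map_one, map_neg] at h1
      linear_combination h1
    rcases mul_eq_zero.mp this with h | h
    · exact absurd h hp2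
    · linear_combination h
  have := congrArg conj h3
  rwa [Complex.conj_conj, map_one] at this

/-- **Class multiplication**: a `p`-regular element `s` on which `χ` does not take the value
`p - 1` has two conjugates with product a given element of `P#`. -/
theorem BlockData.exists_conj_mul (h : BlockData p P χ χ₁ Y) (hp3 : 3 ≤ p) (s : G)
    (hs : ¬ p ∣ orderOf s) (hsχ : (χ : G → ℂ) s ≠ (p : ℂ) - 1) (z : G) (hz : z ∈ P)
    (hz1 : z ≠ 1) (hzo : p ∣ orderOf z) :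
    ∃ a b : G, a * s * a⁻¹ * (b * s * b⁻¹) = z := by
  classical
  letI : Fintype G := Fintype.ofFinite G
  letI : Fintype (IrrCharacter G) := fintypeIrr G
  have hzi : z⁻¹ ∈ P := Subgroup.inv_mem _ hz
  have hzi1 : z⁻¹ ≠ 1 := fun h => hz1 (inv_eq_one.mp h)
  have hzio : p ∣ orderOf z⁻¹ := by rw [orderOf_inv]; exact hzo
  have hcount := Cfsg.Agent.Lib.Helper24.Ord4320.class_mul_count s s z
  rw [h.sum_split (fun ψ => (ψ : G → ℂ) s * (ψ : G → ℂ) s * (ψ : G → ℂ) z⁻¹ / (ψ : G → ℂ) 1)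
    (fun ψ h1 h2 h3 => by
      rw [h.van ψ h1 h2 h3 z⁻¹ hzi hzi1, mul_zero, zero_div])] at hcount
  rw [h.triv, h.deg, h.sing z⁻¹ hzio] at hcount
  set x : ℂ := (χ : G → ℂ) s with hx
  have h2 : ∑ η ∈ Y, (η : G → ℂ) s * (η : G → ℂ) s * (η : G → ℂ) z⁻¹ / (η : G → ℂ) 1 =
      (x - 1) * (x - 1) / ((p : ℂ) - 2) := by
    have : ∀ η ∈ Y, (η : G → ℂ) s * (η : G → ℂ) s * (η : G → ℂ) z⁻¹ / (η : G → ℂ) 1 =
        (x - 1) * (x - 1) / ((p : ℂ) - 2) * (η : G → ℂ) z⁻¹ := by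
      intro η hη
      rw [h.exc_deg η hη, h.reg η hη s hs]
      ring
    rw [Finset.sum_congr rfl this, ← Finset.mul_sum, h.sum_exc hp3 z⁻¹ hzi hzi1 hzio, mul_one]
  rw [h2] at hcount
  have hp2 : (p : ℂ) - 2 ≠ 0 := by
    have : (2 : ℂ) = ((2 : ℕ) : ℂ) := by norm_num
    rw [this, sub_ne_zero]
    intro h
    have := Nat.cast_injective h
    omega
  have hp1 : (p : ℂ) - 1 ≠ 0 := by
    have : (1 : ℂ) = ((1 : ℕ) : ℂ) := by norm_num
    rw [this, sub_ne_zero]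
    intro h
    have := Nat.cast_injective h
    omega
  have hval : (1 : ℂ) * 1 * 1 / 1 + x * x * (-1) / ((p : ℂ) - 1) +
      (x - 1) * (x - 1) / ((p : ℂ) - 2) =
      ((p : ℂ) - 1 - x) ^ 2 / (((p : ℂ) - 1) * ((p : ℂ) - 2)) := by
    field_simp
    ring
  rw [hval] at hcount
  have hne : (Nat.card {q : G × G // q.1 * s * q.1⁻¹ * (q.2 * s * q.2⁻¹) = z} : ℂ) ≠ 0 := by
    rw [hcount]
    apply mul_ne_zero
    · exact_mod_cast Fintype.card_ne_zero
    · apply div_ne_zero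
      · apply pow_ne_zero
        rw [sub_ne_zero]
        exact fun h => hsχ h.symm
      · exact mul_ne_zero hp1 hp2
  have hne' : Nat.card {q : G × G // q.1 * s * q.1⁻¹ * (q.2 * s * q.2⁻¹) = z} ≠ 0 := by
    intro h0
    rw [h0] at hne
    exact hne (by norm_num)
  have hnonempty : Nonempty {q : G × G // q.1 * s * q.1⁻¹ * (q.2 * s * q.2⁻¹) = z} := by
    by_contra hcon
    rw [not_nonempty_iff] at hcon
    exact hne' Nat.card_of_isEmpty
  obtain ⟨⟨⟨a, b⟩, hab⟩⟩ := hnonempty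
  exact ⟨a, b, hab⟩

end Cfsg.Agent.Lib.Helper19.PDeg
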