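/-
helper19: S0720 (Wielandt `2p`): W2P-EXPAND: the decomposition of `π` given `Chi1`.
-/
import Mathlib
import Cfsg.Agent.Lib.Helper19.W2PDefs

set_option autoImplicit false

namespace Cfsg.Agent.Lib.Helper19.W2PEXP

open Cfsg Cfsg.Agent.CharLib Cfsg.Agent.Lib.Helper19.CentAlg Cfsg.Agent.Lib.Helper19.W2P

universe u v

open scoped Classical

variable {G : Type u} [Group G] [Fintype G] {Ω : Type v} [Fintype Ω] [DecidableEq Ω] [MulAction G Ω]

/-- W2P-EXPAND (helper19): the decomposition of `π` given `Chi1`. -/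
theorem expand_pi {p : ℕ} [Fintype (IrrCharacter G)] [MulAction.IsPretransitive G Ω] (a₀ : Ω)
    (P : Subgroup G) (χ₁ : IrrCharacter G) (h : Chi1 p P Ω χ₁) (hne : χ₁ ≠ trivIrr G) :
    ∃ T : Finset (IrrCharacter G), trivIrr G ∉ T ∧ χ₁ ∉ T ∧
      (∀ g : G, permChar G Ω g = 1 + (χ₁ : G → ℂ) g + ∑ χ ∈ T, (χ : G → ℂ) g) ∧
      Nat.card (MulAction.orbitRel.Quotient (MulAction.stabilizer G a₀) Ω) = T.card + 2 := by
  have hne' : Nonempty Ω := ⟨a₀⟩
  set π : G → ℂ := permChar G Ω with hπ
  have hπc : IsCharacter G π := isCharacter_card_fixedBy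
  have hexp := classFunction_eq_sum (IsCharacter.isClassFunction hπc)
  set U : Finset (IrrCharacter G) := Finset.univ.filter (fun χ => classInner π (χ : G → ℂ) = 1) with hU
  have htrivU : trivIrr G ∈ U := by
    rw [hU, Finset.mem_filter]
    refine ⟨Finset.mem_univ _, ?_⟩
    have h1 := classInner_perm_one (G := G) (Ω := Ω)
    have h2 : (permRep ℂ G Ω).character = π := by
      funext g
      exact permRep_character g
    rw [h2] at h1
    exact h1
  have hχ₁U : χ₁ ∈ U := by
    rw [hU, Finset.mem_filter]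
    exact ⟨Finset.mem_univ _, h.mult⟩
  have hsumU : ∀ g : G, π g = ∑ χ ∈ U, (χ : G → ℂ) g := by
    intro g
    have h0 := congrFun hexp g
    rw [Finset.sum_apply] at h0
    rw [h0, hU, Finset.sum_filter]
    apply Finset.sum_congr rfl
    intro χ _
    rw [Pi.smul_apply, smul_eq_mul]
    rcases h.multFree χ with h1 | h1
    · have h1' : classInner π (χ : G → ℂ) = 0 := h1
      rw [h1', if_neg (by simp), zero_mul]
    · have h1' : classInner π (χ : G → ℂ) = 1 := h1
      rw [h1', if_pos rfl, one_mul]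
  refine ⟨(U.erase (trivIrr G)).erase χ₁, ?_, ?_, ?_, ?_⟩
  · intro h1
    exact (Finset.mem_erase.mp (Finset.mem_erase.mp h1).2).1 rfl
  · intro h1
    exact (Finset.mem_erase.mp h1).1 rfl
  · intro g
    have hχ₁mem : χ₁ ∈ U.erase (trivIrr G) := Finset.mem_erase.mpr ⟨hne, hχ₁U⟩
    rw [hsumU g, ← Finset.add_sum_erase U _ htrivU, ← Finset.add_sum_erase (U.erase (trivIrr G)) _ hχ₁mem,
      ← add_assoc]
    rfl
  · obtain ⟨m, dd, hm, -, -, hrank, -⟩ := Cfsg.Agent.Lib.Helper19.CentAlgRank.exists_mult (G := G) (Ω := Ω) a₀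
    have hm01 : ∀ χ : IrrCharacter G, m χ ^ 2 = if χ ∈ U then 1 else 0 := by
      intro χ
      have h1 : classInner π (χ : G → ℂ) = m χ := hm χ
      rcases h.multFree χ with h2 | h2
      · have h2' : classInner π (χ : G → ℂ) = 0 := h2
        have h3 : (m χ : ℂ) = 0 := by rw [← h1, h2']
        have h4 : m χ = 0 := by exact_mod_cast h3
        rw [h4, if_neg]
        · rfl
        · intro hχ
          rw [hU, Finset.mem_filter] at hχ
          rw [h2'] at hχ
          exact zero_ne_one hχ.2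
      · have h2' : classInner π (χ : G → ℂ) = 1 := h2
        have h3 : (m χ : ℂ) = 1 := by rw [← h1, h2']
        have h4 : m χ = 1 := by exact_mod_cast h3
        rw [h4, if_pos]
        · rfl
        · rw [hU, Finset.mem_filter]
          exact ⟨Finset.mem_univ _, h2'⟩
    rw [Finset.sum_congr rfl (fun χ _ => hm01 χ), Finset.sum_boole, Nat.cast_id, Finset.filter_mem_eq_inter,
      Finset.univ_inter] at hrank
    have hχ₁mem : χ₁ ∈ U.erase (trivIrr G) := Finset.mem_erase.mpr ⟨hne, hχ₁U⟩
    rw [← hrank, Finset.card_erase_of_mem hχ₁mem, Finset.card_erase_of_mem htrivU]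
    have : 2 ≤ U.card := by
      have h1 : ({trivIrr G, χ₁} : Finset (IrrCharacter G)) ⊆ U := by
        intro χ hχ
        rw [Finset.mem_insert, Finset.mem_singleton] at hχ
        rcases hχ with rfl | rfl
        · exact htrivU
        · exact hχ₁U
      have h2 := Finset.card_le_card h1
      rw [Finset.card_pair (Ne.symm hne)] at h2
      exact h2
    omega

end Cfsg.Agent.Lib.Helper19.W2PEXP
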