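/-
helper19: S0720 (Wielandt `2p`): W2P-XEQ: RANK1 + CYCLO + the inverting element give `X = 1 ∪ S`.
-/
import Mathlib
import Cfsg.Agent.Lib.Helper19.W2PDefs
import Cfsg.Agent.Lib.Helper5.W2PRANK1
import Cfsg.Agent.Lib.Helper22.W2PCYCLO

set_option autoImplicit false

namespace Cfsg.Agent.Lib.Helper19.W2PXEQ

open Cfsg Cfsg.Agent.CharLib Cfsg.Agent.Lib.Helper19.CentAlg Cfsg.Agent.Lib.Helper19.W2P

universe u v

open scoped Classical

section

variable {G : Type u} [Group G] [Fintype G] {Ω : Type v} [Fintype Ω] [DecidableEq Ω] [MulAction G Ω]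

theorem free_of_semireg (P : Subgroup G) (hsemi : Semireg P Ω) (y y' : P) (ω : Ω)
    (h : (y : G) • ω = (y' : G) • ω) : y = y' := by
  by_contra hne
  have h1 : ((y'⁻¹ * y : P) : G) • ω = ω := by
    rw [Subgroup.coe_mul, Subgroup.coe_inv, mul_smul, h, inv_smul_smul]
  have h2 : ((y'⁻¹ * y : P) : G) ≠ 1 := by
    intro h3
    apply hne
    have h4 : y'⁻¹ * y = 1 := Subtype.ext h3
    exact (inv_mul_eq_one.mp h4).symm
  exact hsemi _ (y'⁻¹ * y).2 h2 ω h1

/-- `Ω = Pα ⊔ Pβ`. -/
theorem sum_split {p : ℕ} (hcard : Fintype.card Ω = 2 * p) (P : Subgroup G) [Fintype P]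
    (hP : Nat.card P = p) (hsemi : Semireg P Ω) (α β : Ω) (hαβ : ∀ y ∈ P, y • α ≠ β)
    {M : Type*} [AddCommMonoid M] (F : Ω → M) :
    ∑ ω : Ω, F ω = ∑ y : P, F ((y : G) • α) + ∑ y : P, F ((y : G) • β) := by
  set φ : P ⊕ P → Ω := fun z => Sum.elim (fun y : P => (y : G) • α) (fun y : P => (y : G) • β) z
    with hφ
  have hφinj : Function.Injective φ := by
    rintro (y | y) (y' | y') h
    · exact congrArg Sum.inl (free_of_semireg P hsemi y y' α h)
    · exfalso
      have h1 : ((y'⁻¹ * y : P) : G) • α = β := by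
        have h' : (y : G) • α = (y' : G) • β := h
        rw [Subgroup.coe_mul, Subgroup.coe_inv, mul_smul, h', inv_smul_smul]
      exact hαβ _ (y'⁻¹ * y).2 h1
    · exfalso
      have h1 : ((y⁻¹ * y' : P) : G) • α = β := by
        have h' : (y : G) • β = (y' : G) • α := h
        rw [Subgroup.coe_mul, Subgroup.coe_inv, mul_smul, ← h', inv_smul_smul]
      exact hαβ _ (y⁻¹ * y').2 h1
    · exact congrArg Sum.inr (free_of_semireg P hsemi y y' β h)
  have hφbij : Function.Bijective φ := by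
    rw [Fintype.bijective_iff_injective_and_card]
    refine ⟨hφinj, ?_⟩
    rw [Fintype.card_sum, hcard, ← Nat.card_eq_fintype_card, hP]
    ring
  rw [← Equiv.sum_comp (Equiv.ofBijective φ hφbij) F, Fintype.sum_sum_type]
  rfl

/-- W2P-XEQ. -/
theorem X_eq {p : ℕ} (hp : p.Prime) (hodd : p ≠ 2) [MulAction.IsPretransitive G Ω]
    (hcard : Fintype.card Ω = 2 * p)
    (P : Subgroup G) (hP : Nat.card P = p) (hsemi : Semireg P Ω) (χ₁ : G → ℂ)
    (f : IdemFacts (Ω := Ω) p P χ₁) (a : ℕ) (S : Set G) (d : OrbData (Ω := Ω) P χ₁ a S)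
    (hlt : Nat.card S + 1 < p)
    (z : G) (α β : Ω) (hzα : z • α = α) (hzβ : z • β = β) (hαβ : ∀ y ∈ P, y • α ≠ β)
    (hz : ∀ x ∈ P, z * x * z⁻¹ = x⁻¹) :
    ∀ y ∈ P, (ent χ₁ α (y • β) ≠ 0 ↔ y = 1 ∨ y ∈ S) := by
  have : Fact p.Prime := ⟨hp⟩
  haveI : IsCyclic P := isCyclic_of_prime_card hP
  letI : CommGroup P := IsCyclic.commGroup
  have hcP : Fintype.card P = p := by rw [← Nat.card_eq_fintype_card]; exact hP
  set c : ℂ := 1 / (2 * (2 * (a : ℂ) + 1)) with hc
  have h2a : (2 * (a : ℂ) + 1) ≠ 0 := by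
    have : ((2 * a + 1 : ℕ) : ℂ) ≠ 0 := Nat.cast_ne_zero.mpr (Nat.succ_ne_zero _)
    push_cast at this
    exact this
  have hc0 : c ≠ 0 := one_div_ne_zero (mul_ne_zero two_ne_zero h2a)
  have hapos := d.apos
  have hhalf1 : (1 / 2 : ℂ) ≠ c := by
    intro h
    rw [hc] at h
    field_simp at h
    have h3 : (a : ℂ) = 0 := by linear_combination h / 2
    have : a = 0 := by exact_mod_cast h3
    omega
  have hhalf2 : (1 / 2 : ℂ) ≠ -c := by
    intro h
    rw [hc] at h
    field_simp at h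
    have h3 : ((a + 1 : ℕ) : ℂ) = 0 := by push_cast; linear_combination h / 2
    have : a + 1 = 0 := by exact_mod_cast h3
    omega
  have hcc : c ≠ -c := by
    intro h
    apply hc0
    have : 2 * c = 0 := by linear_combination h
    rcases mul_eq_zero.mp this with h' | h'
    · norm_num at h'
    · exact h'
  -- the indicator identity
  have hind : ∀ ω : Ω, (if ent χ₁ α ω ≠ 0 then 1 else 0 : ℕ) =
      (if ω = α then 1 else 0) + (if ent χ₁ α ω = c then 1 else 0) +
        (if ent χ₁ α ω = -c then 1 else 0) := by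
    intro ω
    by_cases hω : ω = α
    · subst hω
      have h1 := d.ent_diag ω
      rw [h1, if_pos (by norm_num), if_pos rfl, if_neg hhalf1, if_neg hhalf2]
    · rcases d.ent_vals α ω (Ne.symm hω) with h | h | h
      · rw [h, if_neg (by simp), if_neg hω, if_neg (Ne.symm hc0), if_neg]
        intro h'
        exact hc0 (neg_eq_zero.mp h'.symm)
      · have h' : ent χ₁ α ω = c := h
        rw [h', if_pos hc0, if_neg hω, if_pos rfl, if_neg hcc]
      · have h' : ent χ₁ α ω = -c := h
        rw [h', if_pos (neg_ne_zero.mpr hc0), if_neg hω, if_neg (Ne.symm hcc), if_pos rfl]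
  have htotal : ∑ ω : Ω, (if ent χ₁ α ω ≠ 0 then 1 else 0 : ℕ) =
      1 + a * (2 * a + 1) + (a + 1) * (2 * a + 1) := by
    rw [Finset.sum_congr rfl (fun ω _ => hind ω), Finset.sum_add_distrib, Finset.sum_add_distrib]
    have e1 : ∑ ω : Ω, (if ω = α then 1 else 0 : ℕ) = 1 := by
      rw [Finset.sum_ite_eq' Finset.univ α]
      simp
    have e2 : ∑ ω : Ω, (if ent χ₁ α ω = c then 1 else 0 : ℕ) = a * (2 * a + 1) := by
      rw [← d.card_pos α, Nat.card_eq_fintype_card, Fintype.card_subtype, Finset.card_filter]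
    have e3 : ∑ ω : Ω, (if ent χ₁ α ω = -c then 1 else 0 : ℕ) = (a + 1) * (2 * a + 1) := by
      rw [← d.card_neg α, Nat.card_eq_fintype_card, Fintype.card_subtype, Finset.card_filter]
    rw [e1, e2, e3]
  set A : Finset P := Finset.univ.filter (fun y : P => y = 1 ∨ (y : G) ∈ S) with hA
  set B : Finset P := Finset.univ.filter (fun y : P => ent χ₁ α ((y : G) • β) ≠ 0) with hB
  have hAeq : A = insert (1 : P) (Finset.univ.filter (fun y : P => (y : G) ∈ S)) := by
    ext y
    simp only [hA, Finset.mem_filter, Finset.mem_univ, true_and, Finset.mem_insert]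
  have h1S : (1 : P) ∉ Finset.univ.filter (fun y : P => (y : G) ∈ S) := by
    intro h
    rw [Finset.mem_filter] at h
    exact (d.S_sub _ h.2).2 rfl
  have hcardS : (Finset.univ.filter (fun y : P => (y : G) ∈ S)).card = Nat.card S := by
    rw [← Fintype.card_subtype, ← Nat.card_eq_fintype_card]
    apply Nat.card_congr
    refine ⟨fun y => ⟨(y.1 : G), y.2⟩, fun s => ⟨⟨s.1, (d.S_sub s.1 s.2).1⟩, s.2⟩, ?_, ?_⟩
    · intro y; rfl
    · intro s; rfl
  have hcardA : A.card = Nat.card S + 1 := by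
    rw [hAeq, Finset.card_insert_of_notMem h1S, hcardS]
  have hrowα : ∑ y : P, (if ent χ₁ α ((y : G) • α) ≠ 0 then 1 else 0 : ℕ) = A.card := by
    rw [hA, Finset.card_filter]
    apply Finset.sum_congr rfl
    intro y _
    by_cases hy : y = 1
    · subst hy
      rw [Subgroup.coe_one, one_smul, d.ent_diag, if_pos (by norm_num), if_pos (Or.inl rfl)]
    · have hy' : (y : G) ≠ 1 := fun h => hy (Subtype.ext h)
      have := d.supp (y : G) y.2 hy' α
      by_cases hyS : (y : G) ∈ S
      · rw [if_pos (this.mpr hyS), if_pos (Or.inr hyS)]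
      · rw [if_neg (fun h => hyS (this.mp h)), if_neg]
        rintro (h | h)
        · exact hy h
        · exact hyS h
  have hrowβ : ∑ y : P, (if ent χ₁ α ((y : G) • β) ≠ 0 then 1 else 0 : ℕ) = B.card := by
    rw [hB, Finset.card_filter]
  have hcardB : B.card = Nat.card S + 1 := by
    have h1 := sum_split hcard P hP hsemi α β hαβ (fun ω => (if ent χ₁ α ω ≠ 0 then 1 else 0 : ℕ))
    rw [htotal, hrowα, hrowβ, hcardA, d.S_card] at h1
    rw [d.S_card]
    have h2 : 1 + a * (2 * a + 1) + (a + 1) * (2 * a + 1) = (2 * a * (a + 1) + 1) + (2 * a * (a + 1) + 1) := by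
      ring
    omega
  -- X = X⁻¹
  have hinv : ∀ y : P, ent χ₁ α ((y⁻¹ : P) • β) = ent χ₁ α ((y : G) • β) := by
    intro y
    have h1 := d.ent_smul z α ((y : G) • β)
    rw [hzα] at h1
    rw [← h1]
    congr 1
    have h2 : z • (y : G) • β = (z * (y : G) * z⁻¹) • z • β := by
      rw [mul_smul, mul_smul, inv_smul_smul]
    rw [h2, hz (y : G) y.2, hzβ]
    rfl
  have hBinv : ∀ y : P, y ∈ B ↔ y⁻¹ ∈ B := by
    intro y
    simp only [hB, Finset.mem_filter, Finset.mem_univ, true_and]
    have := hinv y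
    have e : ((y⁻¹ : P) : G) • β = (y⁻¹ : P) • β := rfl
    rw [e, this]
  have hAB : A = B := by
    apply Cfsg.Agent.Lib.Helper22.W2PCYCLO.eq_of_sq_eq hp hodd hcP A B (hcardA.trans hcardB.symm)
    · rw [hcardA, hcardB]; omega
    · intro lam
      have hR := Cfsg.Agent.Lib.Helper5.W2PRANK1.rank_one hp hodd hcard P hP hsemi χ₁ f a S d α β hαβ lam
      have hsumA : ∑ y ∈ A, lam y =
          1 + ∑ y ∈ (Finset.univ : Finset P).filter (fun y : P => (y : G) ∈ S), lam y := by
        rw [hAeq, Finset.sum_insert h1S, map_one]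
      have hsumB : ∑ y ∈ B, lam y⁻¹ = ∑ y ∈ B, lam y := by
        apply Finset.sum_nbij' (fun y => y⁻¹) (fun y => y⁻¹)
        · intro y hy
          exact (hBinv y).mp hy
        · intro y hy
          exact (hBinv y).mp hy
        · intro y _
          exact inv_inv y
        · intro y _
          exact inv_inv y
        · intro y _
          rfl
      rw [hsumA, hR, hsumB, sq]
  intro y hy
  have h1 : (⟨y, hy⟩ : P) ∈ B ↔ (⟨y, hy⟩ : P) ∈ A := by rw [hAB]
  simp only [hA, hB, Finset.mem_filter, Finset.mem_univ, true_and] at h1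
  rw [h1]
  constructor
  · rintro (h | h)
    · left
      exact congrArg Subtype.val h
    · right
      exact h
  · rintro (h | h)
    · left
      exact Subtype.ext h
    · right
      exact h

end

end Cfsg.Agent.Lib.Helper19.W2PXEQ
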