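/-
helper19: S0720 (Wielandt `2p`): the final assembly, modulo the leaves DECOMP, IDEM, ORB, BLK, COUNT
(taken as hypotheses in `wielandt_2p_of`).
-/
import Mathlib
import Cfsg.Agent.Lib.Helper19.W2PDefs
import Cfsg.Agent.Lib.Lead.PermChar
import Cfsg.Agent.Lib.Helper19.W2PXEQ
import Cfsg.Agent.Lib.Helper19.W2PEXP
import Cfsg.Agent.Lib.Helper12.W2PINV
import Cfsg.Agent.Lib.Helper12.W2PSMALL
import Cfsg.Agent.Lib.Helper16.W2PPI
import Cfsg.Agent.Lib.Helper16.W2PREDUCE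
import Cfsg.Agent.Lib.Helper16.W2PTWIN

set_option autoImplicit false

namespace Cfsg.Agent.Lib.Helper19.W2PFinal

open Cfsg Cfsg.Agent.CharLib Cfsg.Agent.Lib.Helper19.CentAlg Cfsg.Agent.Lib.Helper19.W2P

universe u v

open scoped Classical

variable {G : Type u} [Group G] [Fintype G] {Ω : Type v} [Fintype Ω] [DecidableEq Ω] [MulAction G Ω]

theorem wielandt_2p_of [FaithfulSMul G Ω] {p : ℕ} (hp : p.Prime) (hcard : Fintype.card Ω = 2 * p)
    (hprim : MulAction.IsPreprimitive G Ω) (a₀ : Ω)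
    (hDECOMP : p ≠ 2 → ¬ MulAction.IsMultiplyPretransitive G Ω 2 →
      ∀ P : Subgroup G, Nat.card P = p → ¬ p ∣ P.index → Semireg P Ω →
      ∃ χ₁ : IrrCharacter G, Chi1 p P Ω χ₁)
    (hIDEM : ∀ (P : Subgroup G) (χ₁ : IrrCharacter G), Chi1 p P Ω χ₁ → χ₁ ≠ trivIrr G →
      IdemFacts (Ω := Ω) p P (χ₁ : G → ℂ))
    (hORB : p ≠ 2 → ∀ (P : Subgroup G), Nat.card P = p → Semireg P Ω → ∀ χ₁ : G → ℂ,
      IdemFacts (Ω := Ω) p P χ₁ → ∃ (a : ℕ) (S : Set G), OrbData (Ω := Ω) P χ₁ a S)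
    (hBLK : p ≠ 2 → ∀ (P : Subgroup G), Nat.card P = p → ¬ p ∣ P.index → ∀ π : G → ℂ,
      (∀ g : G, p ∣ orderOf g → π g = 0) →
      (∀ (g : G) (k : ℕ), k.Coprime (Nat.card G) → π (g ^ k) = π g) → π 1 = 2 * p →
      ∀ χ₁ : IrrCharacter G, (χ₁ : G → ℂ) 1 = p → (∀ x ∈ P, x ≠ 1 → (χ₁ : G → ℂ) x = 0) →
      ∀ T : Finset (IrrCharacter G), trivIrr G ∉ T → χ₁ ∉ T →
      (∀ g : G, π g = 1 + (χ₁ : G → ℂ) g + ∑ χ ∈ T, (χ : G → ℂ) g) → 2 ≤ T.card →
      (Subgroup.centralizer (P : Set G)).relIndex (Subgroup.normalizer (P : Set G)) * T.card =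
        p - 1)
    (hCOUNT : p ≠ 2 → ∀ (P : Subgroup G), Nat.card P = p → Semireg P Ω → ∀ (χ₁ : G → ℂ) (a : ℕ)
      (S : Set G), OrbData (Ω := Ω) P χ₁ a S → ∀ t : ℕ,
      Nat.card (MulAction.orbitRel.Quotient (MulAction.stabilizer G a₀) Ω) = t + 2 →
      (Subgroup.centralizer (P : Set G)).relIndex (Subgroup.normalizer (P : Set G)) * t = p - 1 →
      Nat.card S =
        (Subgroup.centralizer (P : Set G)).relIndex (Subgroup.normalizer (P : Set G))) :
    MulAction.IsMultiplyPretransitive G Ω 2 ∨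
      (Nat.card (MulAction.orbitRel.Quotient (MulAction.stabilizer G a₀) Ω) = 3 ∧
        ∃ a : ℕ, 0 < a ∧ p = 2 * a ^ 2 + 2 * a + 1 ∧ ∀ b : Ω, b ≠ a₀ →
          Nat.card (MulAction.orbit (MulAction.stabilizer G a₀) b) = a * (2 * a + 1) ∨
          Nat.card (MulAction.orbit (MulAction.stabilizer G a₀) b) = (a + 1) * (2 * a + 1)) := by
  by_cases h2 : MulAction.IsMultiplyPretransitive G Ω 2
  · exact Or.inl h2
  right
  by_cases hodd : p = 2
  · subst hodd
    exact absurd (Cfsg.Agent.Lib.Helper12.W2PSMALL.two_transitive_of_card_four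
      (by simpa using hcard) hprim) h2
  obtain ⟨P, hP, hSyl, hsemi⟩ :=
    Cfsg.Agent.Lib.Helper16.W2PREDUCE.exists_semiregular hp hodd hcard hprim h2
  obtain ⟨χ₁, hχ₁⟩ := hDECOMP hodd h2 P hP hSyl hsemi
  have htr : MulAction.IsPretransitive G Ω := hprim.toIsPretransitive
  have hne : Nonempty Ω := ⟨a₀⟩
  have hp2 : 2 ≤ p := hp.two_le
  have hχ₁ne : χ₁ ≠ trivIrr G := by
    intro h
    have h1 := hχ₁.deg
    rw [h] at h1
    have h2 : ((trivIrr G : IrrCharacter G) : G → ℂ) 1 = 1 := rfl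
    rw [h2] at h1
    have : (1 : ℕ) = p := by exact_mod_cast h1
    omega
  have f := hIDEM P χ₁ hχ₁ hχ₁ne
  obtain ⟨a, S, d⟩ := hORB hodd P hP hsemi _ f
  let _ : Fintype (IrrCharacter G) := Fintype.ofFinite _
  obtain ⟨T, hT1, hTχ, hdec, hrank⟩ := Cfsg.Agent.Lib.Helper19.W2PEXP.expand_pi a₀ P χ₁ hχ₁ hχ₁ne
  obtain ⟨hπ0, hπpow, hπ1⟩ := Cfsg.Agent.Lib.Helper16.W2PPI.permChar_facts hp hcard P hP hSyl hsemi
  rcases Nat.lt_or_ge T.card 2 with hlt | hge
  · -- rank ≤ 3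
    have hcases : T.card = 0 ∨ T.card = 1 := by omega
    rcases hcases with h0 | h1
    · -- `π = 1 + χ₁`: 2-transitive
      exfalso
      apply h2
      have hX : 2 ≤ Nat.card Ω := by
        rw [Nat.card_eq_fintype_card, hcard]; omega
      rw [← Cfsg.Agent.CharLib.isIrrCharacter_card_fixedBy_sub_one_iff hX]
      have hT0 : T = ∅ := Finset.card_eq_zero.mp h0
      have : (fun g : G => (Nat.card (MulAction.fixedBy Ω g) : ℂ) - 1) = (χ₁ : G → ℂ) := by
        funext g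
        have := hdec g
        rw [hT0, Finset.sum_empty, add_zero] at this
        show permChar G Ω g - 1 = _
        rw [this]; ring
      rw [this]
      exact χ₁.2
    · -- rank 3: S0719
      obtain ⟨χ₂, hχ₂⟩ := Finset.card_eq_one.mp h1
      have hrank3 : Nat.card (MulAction.orbitRel.Quotient (MulAction.stabilizer G a₀) Ω) = 3 := by
        rw [hrank, h1]
      refine ⟨hrank3, ?_⟩
      have hπ : (fun g : G => (Nat.card (MulAction.fixedBy Ω g) : ℂ)) =
          fun g => 1 + (χ₂ : G → ℂ) g + (χ₁ : G → ℂ) g := by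
        funext g
        have := hdec g
        rw [hχ₂, Finset.sum_singleton] at this
        show permChar G Ω g = _
        rw [this]; ring
      have hd₂ : (χ₂ : G → ℂ) 1 = (p : ℂ) - 1 := by
        have h1 : permChar G Ω 1 = 1 + (χ₂ : G → ℂ) 1 + (χ₁ : G → ℂ) 1 := congrFun hπ 1
        rw [hπ1, hχ₁.deg] at h1
        linear_combination -h1
      exact wielandt_rank3 hprim hcard a₀ hrank3 _ _ χ₂.2 χ₁.2 hπ hd₂ hχ₁.deg
  · -- rank ≥ 4: contradiction
    exfalso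
    have hblk := hBLK hodd P hP hSyl (permChar G Ω) hπ0 hπpow hπ1 χ₁ hχ₁.deg
      hχ₁.vanish T hT1 hTχ hdec hge
    have hS := hCOUNT hodd P hP hsemi _ a S d T.card hrank hblk
    set e := (Subgroup.centralizer (P : Set G)).relIndex (Subgroup.normalizer (P : Set G)) with he
    have h4 : 4 ∣ e := by
      rw [← hS, d.S_card]
      have : 2 ∣ a * (a + 1) := (Nat.even_mul_succ_self a).two_dvd
      obtain ⟨k, hk⟩ := this
      exact ⟨k, by rw [mul_assoc, hk]; ring⟩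
    have hlt : Nat.card S + 1 < p := by
      rw [hS]
      have h3 : 3 ≤ p := by
        rcases Nat.lt_or_ge p 3 with h | h
        · exfalso; omega
        · exact h
      have : e * 2 ≤ e * T.card := Nat.mul_le_mul_left e hge
      have he0 : 0 < e := by
        rcases Nat.eq_zero_or_pos e with h | h
        · rw [h, zero_mul] at hblk; omega
        · exact h
      omega
    obtain ⟨z, β, hzα, hzβ, hαβ, hz⟩ :=
      Cfsg.Agent.Lib.Helper12.W2PINV.exists_inverting hp hodd hcard P hP hsemi h4 a₀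
    have hX := Cfsg.Agent.Lib.Helper19.W2PXEQ.X_eq hp hodd hcard P hP hsemi _ f a S d hlt z a₀ β hzα hzβ
      hαβ hz
    exact Cfsg.Agent.Lib.Helper16.W2PTWIN.false_of_twin hp hodd hcard hprim P hP hsemi _ a S d hlt a₀ β
      hαβ hX

end Cfsg.Agent.Lib.Helper19.W2PFinal
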