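/-
helper19: S0720 (Wielandt `2p`): Fourier analysis of a representation of a finite abelian group, and the
"two rank-one idempotents" moment identities.
-/
import Mathlib
import Cfsg.Agent.Lib.Helper19.W2PDefs

set_option autoImplicit false

namespace Cfsg.Agent.Lib.Helper19.W2PFourier

open LinearMap

section rankone

variable {V : Type*} [AddCommGroup V] [Module ℂ V] [FiniteDimensional ℂ V]

/-- an idempotent of trace one is of rank one: `Q M Q = tr(Q M) Q`. -/
theorem rank_one_idem (Q M : Module.End ℂ V) (hQ : Q ∘ₗ Q = Q) (htr : trace ℂ V Q = 1) :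
    Q ∘ₗ M ∘ₗ Q = (trace ℂ V (Q ∘ₗ M)) • Q := by
  have hid : IsIdempotentElem Q := hQ
  have h1 : (Module.finrank ℂ (LinearMap.range Q) : ℂ) = 1 := by
    rw [← hid.isProj_range.trace, htr]
  have h2 : Module.finrank ℂ (LinearMap.range Q) = 1 := by exact_mod_cast h1
  obtain ⟨v, hv0, hv⟩ := finrank_eq_one_iff'.mp h2
  have hQQ : ∀ w, Q (Q w) = Q w := fun w => LinearMap.congr_fun hQ w
  have hQv : Q (v : V) = v := by
    obtain ⟨u, hu⟩ := v.2
    rw [← hu, hQQ]
  have hspan : ∀ w : V, ∃ c : ℂ, Q w = c • (v : V) := by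
    intro w
    obtain ⟨c, hc⟩ := hv ⟨Q w, ⟨w, rfl⟩⟩
    exact ⟨c, by rw [← Submodule.coe_smul, hc]⟩
  obtain ⟨c', hc'⟩ := hspan (M v)
  have key : Q ∘ₗ M ∘ₗ Q = c' • Q := by
    apply LinearMap.ext
    intro w
    obtain ⟨c, hc⟩ := hspan w
    simp only [LinearMap.comp_apply, LinearMap.smul_apply]
    rw [hc, map_smul, map_smul, hc', smul_smul, smul_smul, mul_comm]
  have htr2 : trace ℂ V (Q ∘ₗ M) = c' := by
    have h3 : trace ℂ V (Q ∘ₗ M ∘ₗ Q) = trace ℂ V (Q ∘ₗ M) := by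
      have := LinearMap.trace_mul_comm ℂ (Q ∘ₗ M) Q
      simp only [Module.End.mul_eq_comp] at this
      rw [LinearMap.comp_assoc] at this
      rw [this, ← LinearMap.comp_assoc, hQ]
    rw [← h3, key, map_smul, htr, smul_eq_mul, mul_one]
  rw [htr2, key]

end rankone

section fourier

variable {Q : Type*} [CommGroup Q] [Fintype Q] {V : Type*} [AddCommGroup V] [Module ℂ V]

/-- the isotypic projection of the character `ψ` -/
noncomputable def proj (ρ : Representation ℂ Q V) (ψ : AddChar (Additive Q) ℂ) : Module.End ℂ V :=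
  (Fintype.card Q : ℂ)⁻¹ • ∑ x : Q, ψ (Additive.ofMul x⁻¹) • ρ x

theorem card_ne_zero' : (Fintype.card Q : ℂ) ≠ 0 := by
  exact_mod_cast Fintype.card_ne_zero

theorem psi_mul (ψ : AddChar (Additive Q) ℂ) (x y : Q) :
    ψ (Additive.ofMul (x * y)) = ψ (Additive.ofMul x) * ψ (Additive.ofMul y) := by
  rw [ofMul_mul, AddChar.map_add_eq_mul]

theorem psi_one (ψ : AddChar (Additive Q) ℂ) : ψ (Additive.ofMul (1 : Q)) = 1 := by
  rw [ofMul_one, AddChar.map_zero_eq_one]

theorem psi_inv_mul (ψ : AddChar (Additive Q) ℂ) (x : Q) :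
    ψ (Additive.ofMul x⁻¹) * ψ (Additive.ofMul x) = 1 := by
  rw [← psi_mul, inv_mul_cancel, psi_one]

theorem rho_mul_psum (ρ : Representation ℂ Q V) (ψ : AddChar (Additive Q) ℂ) (y : Q) :
    ρ y * ∑ x : Q, ψ (Additive.ofMul x⁻¹) • ρ x =
      ψ (Additive.ofMul y) • ∑ x : Q, ψ (Additive.ofMul x⁻¹) • ρ x := by
  rw [Finset.mul_sum, Finset.smul_sum]
  rw [← Equiv.sum_comp (Equiv.mulLeft y) (fun x => ψ (Additive.ofMul y) • ψ (Additive.ofMul x⁻¹) • ρ x)]
  apply Finset.sum_congr rfl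
  intro x _
  rw [Equiv.coe_mulLeft, mul_smul_comm, ← map_mul, smul_smul]
  congr 1
  rw [mul_inv_rev, psi_mul, mul_comm (ψ (Additive.ofMul x⁻¹)), ← mul_assoc, mul_comm (ψ (Additive.ofMul y)),
    psi_inv_mul, one_mul]

theorem rho_mul_proj (ρ : Representation ℂ Q V) (ψ : AddChar (Additive Q) ℂ) (y : Q) :
    ρ y * proj ρ ψ = ψ (Additive.ofMul y) • proj ρ ψ := by
  rw [proj, mul_smul_comm, rho_mul_psum, smul_comm]

theorem proj_mul_proj (ρ : Representation ℂ Q V) (ψ : AddChar (Additive Q) ℂ) :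
    proj ρ ψ * proj ρ ψ = proj ρ ψ := by
  have : ∀ x : Q, (ψ (Additive.ofMul x⁻¹) • ρ x) * proj ρ ψ = proj ρ ψ := by
    intro x
    rw [smul_mul_assoc, rho_mul_proj, smul_smul, psi_inv_mul, one_smul]
  have h2 : (∑ x : Q, ψ (Additive.ofMul x⁻¹) • ρ x) * proj ρ ψ = (Fintype.card Q : ℂ) • proj ρ ψ := by
    rw [Finset.sum_mul, Finset.sum_congr rfl (fun x _ => this x), Finset.sum_const, Finset.card_univ,
      ← Nat.cast_smul_eq_nsmul ℂ]
  have h3 : proj ρ ψ * proj ρ ψ =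
      (Fintype.card Q : ℂ)⁻¹ • ((∑ x : Q, ψ (Additive.ofMul x⁻¹) • ρ x) * proj ρ ψ) := by
    conv_lhs => rw [proj]
    rw [smul_mul_assoc]
    rfl
  rw [h3, h2, smul_smul, inv_mul_cancel₀ card_ne_zero', one_smul]

theorem sum_proj [DecidableEq Q] (ρ : Representation ℂ Q V) :
    ∑ ψ : AddChar (Additive Q) ℂ, proj ρ ψ = 1 := by
  unfold proj
  rw [← Finset.smul_sum, Finset.sum_comm]
  have : ∀ x : Q, ∑ ψ : AddChar (Additive Q) ℂ, ψ (Additive.ofMul x⁻¹) • ρ x =
      if x = 1 then (Fintype.card Q : ℂ) • (1 : Module.End ℂ V) else 0 := by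
    intro x
    rw [← Finset.sum_smul, AddChar.sum_apply_eq_ite]
    by_cases hx : x = 1
    · subst hx
      simp
    · have : Additive.ofMul x⁻¹ ≠ 0 := by
        intro h
        apply hx
        have : x⁻¹ = 1 := h
        exact inv_eq_one.mp this
      rw [if_neg this, if_neg hx, zero_smul]
  rw [Finset.sum_congr rfl (fun x _ => this x), Finset.sum_ite_eq' Finset.univ (1 : Q)]
  simp only [Finset.mem_univ, if_true]
  rw [smul_smul, inv_mul_cancel₀ card_ne_zero', one_smul]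

theorem commute_proj (ρ : Representation ℂ Q V) (ψ : AddChar (Additive Q) ℂ) (M : Module.End ℂ V)
    (hM : ∀ x, Commute M (ρ x)) : Commute M (proj ρ ψ) := by
  unfold proj
  apply Commute.smul_right
  apply Commute.sum_right
  intro x _
  exact (hM x).smul_right _

theorem trace_proj_mul (ρ : Representation ℂ Q V) (ψ : AddChar (Additive Q) ℂ) (M : Module.End ℂ V) :
    trace ℂ V (proj ρ ψ * M) =
      (Fintype.card Q : ℂ)⁻¹ * ∑ x : Q, ψ (Additive.ofMul x⁻¹) * trace ℂ V (ρ x * M) := by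
  unfold proj
  rw [smul_mul_assoc, map_smul, smul_eq_mul, Finset.sum_mul, map_sum]
  congr 1
  apply Finset.sum_congr rfl
  intro x _
  rw [smul_mul_assoc, map_smul, smul_eq_mul]

variable [FiniteDimensional ℂ V]

/-- Parseval. -/
theorem parseval [DecidableEq Q] (ρ : Representation ℂ Q V) (M M' : Module.End ℂ V) :
    ∑ ψ : AddChar (Additive Q) ℂ, trace ℂ V (proj ρ ψ * M) * trace ℂ V (proj ρ ψ * M') =
      (Fintype.card Q : ℂ)⁻¹ * ∑ x : Q, trace ℂ V (ρ x * M) * trace ℂ V (ρ x⁻¹ * M') := by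
  simp only [trace_proj_mul]
  have h1 : ∀ ψ : AddChar (Additive Q) ℂ,
      ((Fintype.card Q : ℂ)⁻¹ * ∑ x : Q, ψ (Additive.ofMul x⁻¹) * trace ℂ V (ρ x * M)) *
      ((Fintype.card Q : ℂ)⁻¹ * ∑ y : Q, ψ (Additive.ofMul y⁻¹) * trace ℂ V (ρ y * M')) =
      (Fintype.card Q : ℂ)⁻¹ * (Fintype.card Q : ℂ)⁻¹ * ∑ x : Q, ∑ y : Q,
        ψ (Additive.ofMul (x⁻¹ * y⁻¹)) * (trace ℂ V (ρ x * M) * trace ℂ V (ρ y * M')) := by
    intro ψ
    rw [mul_mul_mul_comm, Finset.sum_mul_sum]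
    congr 1
    apply Finset.sum_congr rfl
    intro x _
    apply Finset.sum_congr rfl
    intro y _
    rw [psi_mul]; ring
  rw [Finset.sum_congr rfl (fun ψ _ => h1 ψ), ← Finset.mul_sum, Finset.sum_comm]
  have h2 : ∀ x : Q, ∑ ψ : AddChar (Additive Q) ℂ, ∑ y : Q,
      ψ (Additive.ofMul (x⁻¹ * y⁻¹)) * (trace ℂ V (ρ x * M) * trace ℂ V (ρ y * M')) =
      (Fintype.card Q : ℂ) * (trace ℂ V (ρ x * M) * trace ℂ V (ρ x⁻¹ * M')) := by
    intro x
    rw [Finset.sum_comm]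
    have h3 : ∀ y : Q, ∑ ψ : AddChar (Additive Q) ℂ,
        ψ (Additive.ofMul (x⁻¹ * y⁻¹)) * (trace ℂ V (ρ x * M) * trace ℂ V (ρ y * M')) =
        if y = x⁻¹ then (Fintype.card Q : ℂ) * (trace ℂ V (ρ x * M) * trace ℂ V (ρ y * M')) else 0 := by
      intro y
      rw [← Finset.sum_mul, AddChar.sum_apply_eq_ite]
      by_cases hy : y = x⁻¹
      · subst hy
        simp
      · have : Additive.ofMul (x⁻¹ * y⁻¹) ≠ 0 := by
          intro h
          apply hy
          have h' : x⁻¹ * y⁻¹ = 1 := h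
          rw [← mul_inv_rev, inv_eq_one] at h'
          exact eq_inv_of_mul_eq_one_left h'
        rw [if_neg this, if_neg hy, zero_mul]
    rw [Finset.sum_congr rfl (fun y _ => h3 y), Finset.sum_ite_eq' Finset.univ (x⁻¹ : Q)]
    simp
  rw [Finset.sum_congr rfl (fun x _ => h2 x), ← Finset.mul_sum, ← mul_assoc, mul_assoc _ _ (Fintype.card Q : ℂ),
    inv_mul_cancel₀ card_ne_zero', mul_one]

end fourier

section moments

variable {Q : Type*} [CommGroup Q] [Fintype Q] [DecidableEq Q] {V : Type*} [AddCommGroup V] [Module ℂ V]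
  [FiniteDimensional ℂ V]

/-- the abstract situation: `ρ` is twice the regular representation of `Q`, and `E` is an idempotent commuting with `Q`
whose range affords the regular representation. -/
structure Setup (ρ : Representation ℂ Q V) (E : Module.End ℂ V) : Prop where
  idem : E * E = E
  comm : ∀ x, Commute E (ρ x)
  trρ : ∀ x : Q, x ≠ 1 → trace ℂ V (ρ x) = 0
  trρ1 : trace ℂ V (1 : Module.End ℂ V) = 2 * Fintype.card Q
  trE : ∀ x : Q, x ≠ 1 → trace ℂ V (ρ x * E) = 0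
  trE1 : trace ℂ V E = Fintype.card Q

variable {ρ : Representation ℂ Q V} {E : Module.End ℂ V}

theorem sum_psi_mul_eq (ψ : AddChar (Additive Q) ℂ) (t : Q → ℂ) (h : ∀ x : Q, x ≠ 1 → t x = 0) :
    (Fintype.card Q : ℂ)⁻¹ * ∑ x : Q, ψ (Additive.ofMul x⁻¹) * t x = (Fintype.card Q : ℂ)⁻¹ * t 1 := by
  congr 1
  rw [Finset.sum_eq_single (1 : Q)]
  · rw [inv_one, psi_one, one_mul]
  · intro x _ hx
    rw [h x hx, mul_zero]
  · intro h1
    exact absurd (Finset.mem_univ _) h1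

theorem Setup.trace_proj (S : Setup ρ E) (ψ : AddChar (Additive Q) ℂ) : trace ℂ V (proj ρ ψ) = 2 := by
  have := trace_proj_mul ρ ψ (1 : Module.End ℂ V)
  rw [mul_one] at this
  rw [this, sum_psi_mul_eq ψ (fun x => trace ℂ V (ρ x * 1))]
  · simp only [map_one, mul_one]
    rw [S.trρ1, ← mul_assoc, mul_comm _ (2 : ℂ), mul_assoc, inv_mul_cancel₀ card_ne_zero', mul_one]
  · intro x hx
    simp only [mul_one]
    exact S.trρ x hx

theorem Setup.trace_proj_E (S : Setup ρ E) (ψ : AddChar (Additive Q) ℂ) : trace ℂ V (proj ρ ψ * E) = 1 := by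
  rw [trace_proj_mul, sum_psi_mul_eq ψ (fun x => trace ℂ V (ρ x * E))]
  · simp only [map_one, one_mul]
    rw [S.trE1, inv_mul_cancel₀ card_ne_zero']
  · intro x hx
    exact S.trE x hx

theorem Setup.commute_proj_E (S : Setup ρ E) (ψ : AddChar (Additive Q) ℂ) : Commute E (proj ρ ψ) :=
  commute_proj ρ ψ E S.comm

/-- the second rank-one idempotent -/
theorem Setup.idem' (S : Setup ρ E) (ψ : AddChar (Additive Q) ℂ) :
    (proj ρ ψ * (1 - E)) * (proj ρ ψ * (1 - E)) = proj ρ ψ * (1 - E) := by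
  have hc : Commute (1 - E) (proj ρ ψ) := (Commute.one_left _).sub_left (S.commute_proj_E ψ)
  have h1 : (1 - E) * (1 - E) = 1 - E := by
    rw [mul_sub, sub_mul, sub_mul, one_mul, one_mul, mul_one, S.idem, sub_self, sub_zero]
  calc (proj ρ ψ * (1 - E)) * (proj ρ ψ * (1 - E))
      = proj ρ ψ * ((1 - E) * proj ρ ψ) * (1 - E) := by simp only [mul_assoc]
    _ = proj ρ ψ * (proj ρ ψ * (1 - E)) * (1 - E) := by rw [hc.eq]
    _ = (proj ρ ψ * proj ρ ψ) * ((1 - E) * (1 - E)) := by simp only [mul_assoc]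
    _ = proj ρ ψ * (1 - E) := by rw [proj_mul_proj, h1]

theorem Setup.trace' (S : Setup ρ E) (ψ : AddChar (Additive Q) ℂ) :
    trace ℂ V (proj ρ ψ * (1 - E)) = 1 := by
  rw [mul_sub, mul_one, map_sub, S.trace_proj, S.trace_proj_E]
  norm_num

/-- the eigenvalue of `A` on the second rank-one piece -/
noncomputable def sval (ρ : Representation ℂ Q V) (E : Module.End ℂ V) (ψ : AddChar (Additive Q) ℂ)
    (A : Module.End ℂ V) : ℂ := trace ℂ V (proj ρ ψ * (1 - E) * A)

theorem Setup.mul_Q' (S : Setup ρ E) (ψ : AddChar (Additive Q) ℂ) (A : Module.End ℂ V)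
    (hAρ : ∀ x, Commute A (ρ x)) (hAE : Commute A E) :
    A * (proj ρ ψ * (1 - E)) = sval ρ E ψ A • (proj ρ ψ * (1 - E)) := by
  have hc : Commute A (proj ρ ψ * (1 - E)) :=
    (commute_proj ρ ψ A hAρ).mul_right ((Commute.one_right _).sub_right hAE)
  have h := rank_one_idem (proj ρ ψ * (1 - E)) A (S.idem' ψ) (S.trace' ψ)
  simp only [← Module.End.mul_eq_comp] at h
  rw [sval, ← h]
  calc A * (proj ρ ψ * (1 - E)) = proj ρ ψ * (1 - E) * A := hc.eq
    _ = (proj ρ ψ * (1 - E)) * (proj ρ ψ * (1 - E)) * A := by rw [S.idem' ψ]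
    _ = (proj ρ ψ * (1 - E)) * ((proj ρ ψ * (1 - E)) * A) := by rw [mul_assoc]
    _ = (proj ρ ψ * (1 - E)) * (A * (proj ρ ψ * (1 - E))) := by rw [hc.eq]

theorem Setup.trace_proj_A (S : Setup ρ E) (ψ : AddChar (Additive Q) ℂ) (A : Module.End ℂ V)
    (hAE : Commute A E) (r : ℂ) (hr : A * E = r • E) :
    trace ℂ V (proj ρ ψ * A) = r + sval ρ E ψ A := by
  have h1 : proj ρ ψ * A = proj ρ ψ * (A * E) + proj ρ ψ * (1 - E) * A := by
    rw [hAE.eq, mul_assoc, ← mul_add, ← add_mul, add_sub_cancel, one_mul]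
  rw [h1, map_add, hr, mul_smul_comm, map_smul, S.trace_proj_E, smul_eq_mul, mul_one, sval]

theorem Setup.trace_proj_AA' (S : Setup ρ E) (ψ : AddChar (Additive Q) ℂ) (A A' : Module.End ℂ V)
    (hAρ : ∀ x, Commute A (ρ x)) (hA'ρ : ∀ x, Commute A' (ρ x))
    (hAE : Commute A E) (hA'E : Commute A' E) (r r' : ℂ) (hr : A * E = r • E)
    (hr' : A' * E = r' • E) :
    trace ℂ V (proj ρ ψ * (A * A')) = r * r' + sval ρ E ψ A * sval ρ E ψ A' := by
  have hAA'E : Commute (A * A') E := hAE.mul_left hA'E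
  have h1 : proj ρ ψ * (A * A') = proj ρ ψ * (A * A' * E) + proj ρ ψ * (1 - E) * (A * A') := by
    rw [hAA'E.eq, mul_assoc _ (1 - E), ← mul_add, ← add_mul, add_sub_cancel, one_mul]
  have h2 : A * A' * E = (r * r') • E := by
    rw [mul_assoc, hr', mul_smul_comm, hr, smul_smul, mul_comm]
  have h3 : trace ℂ V (proj ρ ψ * (1 - E) * (A * A')) = sval ρ E ψ A * sval ρ E ψ A' := by
    rw [LinearMap.trace_mul_comm, mul_assoc A, S.mul_Q' ψ A' hA'ρ hA'E, mul_smul_comm,
      S.mul_Q' ψ A hAρ hAE, smul_smul, map_smul, S.trace' ψ, smul_eq_mul, mul_one, mul_comm]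
  rw [h1, map_add, h2, mul_smul_comm, map_smul, S.trace_proj_E, smul_eq_mul, mul_one, h3]

theorem card_addChar : (Fintype.card (AddChar (Additive Q) ℂ) : ℂ) = Fintype.card Q := by
  rw [AddChar.card_eq, Fintype.card_additive]

theorem Setup.sum_sval (S : Setup ρ E) (A : Module.End ℂ V) (hAE : Commute A E) (r : ℂ)
    (hr : A * E = r • E) :
    ∑ ψ : AddChar (Additive Q) ℂ, sval ρ E ψ A = trace ℂ V A - Fintype.card Q * r := by
  have h1 : ∀ ψ : AddChar (Additive Q) ℂ, sval ρ E ψ A = trace ℂ V (proj ρ ψ * A) - r := by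
    intro ψ
    rw [S.trace_proj_A ψ A hAE r hr]; ring
  rw [Finset.sum_congr rfl (fun ψ _ => h1 ψ), Finset.sum_sub_distrib, ← map_sum, ← Finset.sum_mul, sum_proj,
    one_mul, Finset.sum_const, Finset.card_univ, nsmul_eq_mul, card_addChar]

/-- the second moment identity. -/
theorem Setup.second_moment (S : Setup ρ E) (A A' : Module.End ℂ V)
    (hAρ : ∀ x, Commute A (ρ x)) (hA'ρ : ∀ x, Commute A' (ρ x))
    (hAE : Commute A E) (hA'E : Commute A' E) (r r' : ℂ) (hr : A * E = r • E)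
    (hr' : A' * E = r' • E) :
    ∑ x : Q, trace ℂ V (ρ x * A) * trace ℂ V (ρ x⁻¹ * A') =
      Fintype.card Q * (r * trace ℂ V A' + r' * trace ℂ V A + trace ℂ V (A * A') -
        2 * Fintype.card Q * r * r') := by
  have hP := parseval ρ A A'
  have h1 : ∀ ψ : AddChar (Additive Q) ℂ, trace ℂ V (proj ρ ψ * A) * trace ℂ V (proj ρ ψ * A') =
      r * r' + r * sval ρ E ψ A' + r' * sval ρ E ψ A + (trace ℂ V (proj ρ ψ * (A * A')) - r * r') := by
    intro ψ
    rw [S.trace_proj_A ψ A hAE r hr, S.trace_proj_A ψ A' hA'E r' hr',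
      S.trace_proj_AA' ψ A A' hAρ hA'ρ hAE hA'E r r' hr hr']
    ring
  rw [Finset.sum_congr rfl (fun ψ _ => h1 ψ)] at hP
  simp only [Finset.sum_add_distrib, Finset.sum_sub_distrib, ← Finset.mul_sum, Finset.sum_const,
    Finset.card_univ, nsmul_eq_mul, card_addChar] at hP
  rw [S.sum_sval A hAE r hr, S.sum_sval A' hA'E r' hr', ← map_sum, ← Finset.sum_mul, sum_proj, one_mul] at hP
  have hc : (Fintype.card Q : ℂ) ≠ 0 := card_ne_zero'
  have h2 : ∑ x : Q, trace ℂ V (ρ x * A) * trace ℂ V (ρ x⁻¹ * A') =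
      Fintype.card Q * ((Fintype.card Q : ℂ)⁻¹ *
        ∑ x : Q, trace ℂ V (ρ x * A) * trace ℂ V (ρ x⁻¹ * A')) := by
    rw [← mul_assoc, mul_inv_cancel₀ hc, one_mul]
  rw [h2, ← hP]
  ring

/-- the first moment identity. -/
theorem Setup.first_moment (S : Setup ρ E) (A : Module.End ℂ V)
    (hAρ : ∀ x, Commute A (ρ x)) (hAE : Commute A E) (r : ℂ) (hr : A * E = r • E)
    (v : V) (hv : v ≠ 0) (hfix : ∀ x, ρ x v = v) (hEv : E v = 0) (n : ℂ) (hAv : A v = n • v) :
    ∑ x : Q, trace ℂ V (ρ x * A) = Fintype.card Q * (r + n) := by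
  have h0 : proj ρ (0 : AddChar (Additive Q) ℂ) v = v := by
    rw [proj, LinearMap.smul_apply, LinearMap.sum_apply]
    have : ∀ x : Q, ((0 : AddChar (Additive Q) ℂ) (Additive.ofMul x⁻¹) • ρ x) v = v := by
      intro x
      rw [LinearMap.smul_apply, hfix, AddChar.zero_apply, one_smul]
    rw [Finset.sum_congr rfl (fun x _ => this x), Finset.sum_const, Finset.card_univ,
      ← Nat.cast_smul_eq_nsmul ℂ, smul_smul, inv_mul_cancel₀ card_ne_zero', one_smul]
  have h1 : (proj ρ 0 * (1 - E)) v = v := by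
    rw [Module.End.mul_apply, LinearMap.sub_apply, Module.End.one_apply, hEv, sub_zero, h0]
  have h2 := LinearMap.congr_fun (S.mul_Q' 0 A hAρ hAE) v
  rw [Module.End.mul_apply, h1, LinearMap.smul_apply, h1, hAv] at h2
  have h3 : sval ρ E 0 A = n := by
    have : (n - sval ρ E 0 A) • v = 0 := by rw [sub_smul, h2, sub_self]
    rcases smul_eq_zero.mp this with h | h
    · exact (sub_eq_zero.mp h).symm
    · exact absurd h hv
  have h4 := S.trace_proj_A 0 A hAE r hr
  rw [trace_proj_mul, h3] at h4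
  have h5 : ∀ x : Q, (0 : AddChar (Additive Q) ℂ) (Additive.ofMul x⁻¹) * trace ℂ V (ρ x * A) =
      trace ℂ V (ρ x * A) := by
    intro x
    rw [AddChar.zero_apply, one_mul]
  rw [Finset.sum_congr rfl (fun x _ => h5 x)] at h4
  rw [← h4, ← mul_assoc, mul_inv_cancel₀ card_ne_zero', one_mul]

end moments

end Cfsg.Agent.Lib.Helper19.W2PFourier
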