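/-
helper19: S0720 (Wielandt `2p`): matrix entries of endomorphisms of `ℂ^Ω`; W2P-DIAG.
-/
import Mathlib
import Cfsg.Agent.Lib.Helper19.W2PDefs

set_option autoImplicit false

namespace Cfsg.Agent.Lib.Helper19.W2PMat

open Cfsg Cfsg.Agent.CharLib Cfsg.Agent.Lib.Helper19.CentAlg Cfsg.Agent.Lib.Helper19.W2P LinearMap

universe u v

section gen

variable {Ω : Type v} [Fintype Ω] [DecidableEq Ω]

theorem apply_eq_sum (M : Module.End ℂ (Ω → ℂ)) (φ : Ω → ℂ) (α : Ω) :
    M φ α = ∑ β : Ω, φ β * M (Pi.single β 1) α := by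
  have h : φ = ∑ β : Ω, φ β • (Pi.single β (1 : ℂ) : Ω → ℂ) := by
    funext γ
    rw [Finset.sum_apply]
    simp [Pi.single_apply]
  conv_lhs => rw [h]
  rw [map_sum, Finset.sum_apply]
  apply Finset.sum_congr rfl
  intro β _
  rw [map_smul, Pi.smul_apply, smul_eq_mul]

theorem trace_eq_sum (M : Module.End ℂ (Ω → ℂ)) :
    trace ℂ (Ω → ℂ) M = ∑ α : Ω, M (Pi.single α 1) α := by
  rw [LinearMap.trace_eq_matrix_trace ℂ (Pi.basisFun ℂ Ω), Matrix.trace]
  apply Finset.sum_congr rfl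
  intro α _
  simp only [Matrix.diag_apply, LinearMap.toMatrix_apply, Pi.basisFun_apply, Pi.basisFun_repr]

theorem comp_single (M N : Module.End ℂ (Ω → ℂ)) (α γ : Ω) :
    (M * N) (Pi.single γ 1) α = ∑ β : Ω, M (Pi.single β 1) α * N (Pi.single γ 1) β := by
  rw [Module.End.mul_apply, apply_eq_sum M]
  apply Finset.sum_congr rfl
  intro β _
  rw [mul_comm]

end gen

section perm

variable {G : Type u} [Group G] {Ω : Type v} [Fintype Ω] [DecidableEq Ω] [MulAction G Ω]

theorem permRep_single (g : G) (β : Ω) :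
    permRep ℂ G Ω g (Pi.single β 1) = Pi.single (g • β) 1 := by
  funext α
  show (Pi.single β (1 : ℂ) : Ω → ℂ) (g⁻¹ • α) = _
  rw [Pi.single_apply, Pi.single_apply]
  congr 1
  rw [eq_iff_iff, inv_smul_eq_iff]

theorem permRep_apply' (g : G) (φ : Ω → ℂ) (α : Ω) : permRep ℂ G Ω g φ α = φ (g⁻¹ • α) := rfl

open Classical in
theorem adjEnd_single (R : Ω → Ω → Prop) (α β : Ω) :
    adjEnd R (Pi.single β 1) α = if R α β then 1 else 0 := by
  rw [adjEnd_apply]
  rw [Finset.sum_eq_single β]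
  · simp
  · intro γ _ hγ
    simp [Pi.single_apply, hγ]
  · intro h
    exact absurd (Finset.mem_univ _) h

end perm

section diag

variable {G : Type u} [Group G] [Fintype G] {Ω : Type v} [Fintype Ω] [DecidableEq Ω] [MulAction G Ω]

/-- `G`-invariance of the entries of an operator commuting with `G` -/
theorem single_smul (M : Module.End ℂ (Ω → ℂ)) (hM : ∀ g : G, Commute M (permRep ℂ G Ω g)) (g : G)
    (α β : Ω) : M (Pi.single (g • β) 1) (g • α) = M (Pi.single β 1) α := by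
  rw [← permRep_single (G := G) g β]
  have h := LinearMap.congr_fun (hM g).eq (Pi.single β 1)
  rw [Module.End.mul_apply, Module.End.mul_apply] at h
  rw [h, permRep_apply', inv_smul_smul]

/-- W2P-DIAG. -/
theorem ent_facts {p : ℕ} (hp : p.Prime) [MulAction.IsPretransitive G Ω]
    (hcard : Fintype.card Ω = 2 * p) (P : Subgroup G) (χ₁ : G → ℂ)
    (f : IdemFacts (Ω := Ω) p P χ₁) :
    (∀ (g : G) (α β : Ω), ent χ₁ (g • α) (g • β) = ent χ₁ α β) ∧
    (∀ α : Ω, ent χ₁ α α = 1 / 2) ∧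
    (∀ α : Ω, ∑ β : Ω, ent χ₁ α β = 0) ∧
    (∀ α γ : Ω, ∑ β : Ω, ent χ₁ α β * ent χ₁ β γ = ent χ₁ α γ) ∧
    (∀ x ∈ P, x ≠ 1 → ∑ γ : Ω, ent χ₁ γ (x • γ) = 0) := by
  have hsmul : ∀ (g : G) (α β : Ω), ent χ₁ (g • α) (g • β) = ent χ₁ α β := by
    intro g α β
    exact single_smul _ f.comm g α β
  refine ⟨hsmul, ?_, ?_, ?_, ?_⟩
  · intro α
    have h1 := f.tr_one
    rw [trace_eq_sum] at h1
    have h2 : ∀ β : Ω, idemEnd (G := G) χ₁ (Pi.single β 1) β = ent χ₁ α α := by
      intro β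
      obtain ⟨g, rfl⟩ := MulAction.exists_smul_eq G α β
      exact hsmul g α α
    rw [Finset.sum_congr rfl (fun β _ => h2 β), Finset.sum_const, Finset.card_univ, hcard,
      nsmul_eq_mul] at h1
    have hp0 : (p : ℂ) ≠ 0 := by exact_mod_cast hp.ne_zero
    push_cast at h1
    have h3 : ent χ₁ α α * 2 = 1 := by
      apply mul_left_cancel₀ hp0
      linear_combination h1
    rw [eq_div_iff (by norm_num)]
    exact h3
  · intro α
    have h1 := congrFun f.const α
    rw [apply_eq_sum] at h1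
    simp only [one_mul, Pi.zero_apply] at h1
    exact h1
  · intro α γ
    have h1 := LinearMap.congr_fun f.idem (Pi.single γ 1)
    have h2 := congrFun h1 α
    rw [← Module.End.mul_eq_comp, comp_single] at h2
    exact h2
  · intro x hx hx1
    have h1 := f.tr_P x hx hx1
    rw [trace_eq_sum] at h1
    rw [← h1]
    symm
    rw [← Equiv.sum_comp (MulAction.toPerm x : Equiv.Perm Ω)]
    apply Finset.sum_congr rfl
    intro γ _
    rw [LinearMap.comp_apply, permRep_apply', MulAction.toPerm_apply, inv_smul_smul]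
    rfl

end diag

end Cfsg.Agent.Lib.Helper19.W2PMat
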