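/-
helper19: S0720 (Wielandt `2p`): W2P-MOM, the moments of an orbital along `P`.
-/
import Mathlib
import Cfsg.Agent.Lib.Helper19.W2PDefs
import Cfsg.Agent.Lib.Helper19.W2PFourier
import Cfsg.Agent.Lib.Helper19.W2PMat

set_option autoImplicit false

namespace Cfsg.Agent.Lib.Helper19.W2PMOM

open Cfsg Cfsg.Agent.CharLib Cfsg.Agent.Lib.Helper19.CentAlg Cfsg.Agent.Lib.Helper19.W2P LinearMap
open Cfsg.Agent.Lib.Helper19.W2PFourier Cfsg.Agent.Lib.Helper19.W2PMat

universe u v

open scoped Classical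

section traces

variable {G : Type u} [Group G] {Ω : Type v} [Fintype Ω] [DecidableEq Ω] [MulAction G Ω]

theorem trace_permRep_mul_adjEnd (R : Ω → Ω → Prop) (x : G) :
    trace ℂ (Ω → ℂ) (permRep ℂ G Ω x * adjEnd R) = (Nat.card {γ : Ω // R γ (x • γ)} : ℂ) := by
  rw [trace_eq_sum]
  have h1 : ∀ γ : Ω, (permRep ℂ G Ω x * adjEnd R) (Pi.single γ 1) γ =
      if R (x⁻¹ • γ) γ then 1 else 0 := by
    intro γ
    rw [Module.End.mul_apply, permRep_apply', adjEnd_single]
  rw [Finset.sum_congr rfl (fun γ _ => h1 γ)]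
  rw [← Equiv.sum_comp (MulAction.toPerm x : Equiv.Perm Ω)]
  simp only [MulAction.toPerm_apply, inv_smul_smul]
  rw [Finset.sum_boole, Nat.card_eq_fintype_card, Fintype.card_subtype]

theorem trace_adjEnd_mul (R : Ω → Ω → Prop) (M : Module.End ℂ (Ω → ℂ)) :
    trace ℂ (Ω → ℂ) (adjEnd R * M) =
      ∑ γ : Ω, ∑ δ : Ω, if R γ δ then M (Pi.single γ 1) δ else 0 := by
  rw [trace_eq_sum]
  apply Finset.sum_congr rfl
  intro γ _
  rw [comp_single]
  apply Finset.sum_congr rfl
  intro δ _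
  rw [adjEnd_single]
  split_ifs <;> simp

theorem trace_adjEnd_mul_adjEnd (R R' : Ω → Ω → Prop) (hR' : ∀ x y, R' x y ↔ R y x) (n : ℕ)
    (hdeg : ∀ γ, (Finset.univ.filter (fun δ => R γ δ)).card = n) :
    trace ℂ (Ω → ℂ) (adjEnd R * adjEnd R') = (Fintype.card Ω : ℂ) * n := by
  rw [trace_adjEnd_mul]
  have h1 : ∀ γ : Ω, (∑ δ : Ω, if R γ δ then adjEnd R' (Pi.single γ 1) δ else 0) = (n : ℂ) := by
    intro γ
    have h2 : ∀ δ : Ω, (if R γ δ then adjEnd R' (Pi.single γ 1) δ else 0) =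
        if R γ δ then (1 : ℂ) else 0 := by
      intro δ
      split_ifs with h
      · rw [adjEnd_single, if_pos ((hR' δ γ).mpr h)]
      · rfl
    rw [Finset.sum_congr rfl (fun δ _ => h2 δ), Finset.sum_boole, hdeg γ]
  rw [Finset.sum_congr rfl (fun γ _ => h1 γ), Finset.sum_const, Finset.card_univ, nsmul_eq_mul]

end traces

section cntvals

variable {G : Type u} [Group G] [Fintype G] {Ω : Type v} [Fintype Ω] [DecidableEq Ω] [MulAction G Ω]

theorem exists_ne_one_of_card {p : ℕ} (hp : p.Prime) (P : Subgroup G) (hP : Nat.card P = p) :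
    ∃ y ∈ P, y ≠ 1 := by
  have : Finite P := Nat.finite_of_card_ne_zero (hP ▸ hp.ne_zero)
  have h1 : 1 < Nat.card P := hP ▸ hp.one_lt
  have : Nontrivial P := Finite.one_lt_card_iff_nontrivial.mp h1
  obtain ⟨y, hy⟩ := exists_ne (1 : P)
  exact ⟨y, y.2, fun h => hy (Subtype.ext h)⟩

/-- a `P`-invariant set of points has `0`, `p` or `2p` elements -/
theorem card_vals {p : ℕ} (hp : p.Prime) (hcard : Fintype.card Ω = 2 * p) (P : Subgroup G)
    (hP : Nat.card P = p) (hsemi : Semireg P Ω) (Γ : Set Ω) (hΓ : ∀ y ∈ P, ∀ γ ∈ Γ, y • γ ∈ Γ) :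
    Nat.card Γ = 0 ∨ Nat.card Γ = p ∨ Nat.card Γ = 2 * p := by
  have : Fact p.Prime := ⟨hp⟩
  let Γ' : SubMulAction P Ω := { carrier := Γ, smul_mem' := fun y γ h => hΓ y y.2 γ h }
  have hPG : IsPGroup p P := IsPGroup.of_card (n := 1) (by rw [hP, pow_one])
  have h1 := hPG.card_modEq_card_fixedPoints Γ'
  have h2 : Nat.card (MulAction.fixedPoints P Γ') = 0 := by
    have : IsEmpty (MulAction.fixedPoints P Γ') := by
      constructor
      rintro ⟨γ, hγ⟩
      obtain ⟨y, hy, hy1⟩ := exists_ne_one_of_card hp P hP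
      have h3 := hγ ⟨y, hy⟩
      have h4 : y • (γ : Ω) = γ := congrArg Subtype.val h3
      exact hsemi y hy hy1 γ h4
    exact Nat.card_of_isEmpty
  rw [h2] at h1
  have h3 : p ∣ Nat.card Γ := (Nat.modEq_zero_iff_dvd.mp h1)
  have h4 : Nat.card Γ ≤ 2 * p := by
    rw [← hcard, ← Nat.card_eq_fintype_card]
    exact Nat.card_le_card_of_injective _ Subtype.val_injective
  obtain ⟨k, hk⟩ := h3
  have hp0 : 0 < p := hp.pos
  have hk2 : k ≤ 2 := by
    by_contra h
    push Not at h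
    have : p * 3 ≤ p * k := Nat.mul_le_mul_left p h
    omega
  interval_cases k
  · left; rw [hk]; ring
  · right; left; rw [hk]; ring
  · right; right; rw [hk]; ring

theorem cnt_vals {p : ℕ} (hp : p.Prime) (hcard : Fintype.card Ω = 2 * p) (P : Subgroup G)
    (hP : Nat.card P = p) (hsemi : Semireg P Ω) (hcomm : ∀ x ∈ P, ∀ y ∈ P, x * y = y * x) (α β : Ω)
    (x : G) (hx : x ∈ P) :
    cnt G α β x = 0 ∨ cnt G α β x = p ∨ cnt G α β x = 2 * p := by
  apply card_vals hp hcard P hP hsemi {γ : Ω | orbitalRel G α β γ (x • γ)}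
  intro y hy γ hγ
  show orbitalRel G α β (y • γ) (x • y • γ)
  rw [← mul_smul, hcomm x hx y hy, mul_smul, orbitalRel_inv]
  exact hγ

end cntvals

section core

variable {G : Type u} [Group G] [Fintype G] {Ω : Type v} [Fintype Ω] [DecidableEq Ω] [MulAction G Ω]
variable {Q : Type*} [CommGroup Q] [Fintype Q] [DecidableEq Q]

/-- the hypotheses on `E` relative to the abelian group `Q` mapped to `G` by `ι` -/
structure QFacts (ι : Q →* G) (E : Module.End ℂ (Ω → ℂ)) : Prop where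
  semi : ∀ q : Q, q ≠ 1 → ∀ γ : Ω, ι q • γ ≠ γ
  card : Fintype.card Ω = 2 * Fintype.card Q
  idem : E ∘ₗ E = E
  comm : ∀ g : G, Commute E (permRep ℂ G Ω g)
  tr_one : trace ℂ (Ω → ℂ) E = Fintype.card Q
  tr_Q : ∀ q : Q, q ≠ 1 → trace ℂ (Ω → ℂ) (permRep ℂ G Ω (ι q) ∘ₗ E) = 0
  const : E (fun _ => 1) = 0
  commA : ∀ A : Module.End ℂ (Ω → ℂ), (∀ g : G, Commute A (permRep ℂ G Ω g)) → Commute A E

theorem QFacts.setup {ι : Q →* G} {E : Module.End ℂ (Ω → ℂ)} (h : QFacts ι E) :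
    Setup ((permRep ℂ G Ω).comp ι) E where
  idem := h.idem
  comm := fun x => h.comm (ι x)
  trρ := by
    intro x hx
    have h1 := permRep_character (G := G) (Ω := Ω) (ι x)
    have h2 : IsEmpty (MulAction.fixedBy Ω (ι x)) := by
      constructor
      rintro ⟨γ, hγ⟩
      exact h.semi x hx γ hγ
    rw [Nat.card_of_isEmpty, Nat.cast_zero] at h1
    exact h1
  trρ1 := by
    rw [LinearMap.trace_one, Module.finrank_fintype_fun_eq_card, h.card]
    push_cast
    ring
  trE := h.tr_Q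
  trE1 := h.tr_one

variable [MulAction.IsPretransitive G Ω]

theorem adjEnd_const (α β : Ω) :
    adjEnd (orbitalRel G α β) (fun _ => (1 : ℂ)) =
      (Nat.card (MulAction.orbit (MulAction.stabilizer G α) β) : ℂ) • (fun _ => (1 : ℂ)) := by
  funext γ
  rw [adjEnd_apply, Finset.sum_boole, Pi.smul_apply, smul_eq_mul, mul_one, ← orbitalRel_card α β γ]

theorem first_core {ι : Q →* G} {E : Module.End ℂ (Ω → ℂ)} (h : QFacts ι E) (α β : Ω) (θ : ℂ)
    (hθ : adjEnd (orbitalRel G α β) ∘ₗ E = θ • E) :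
    ∑ q : Q, (cnt G α β (ι q) : ℂ) =
      Fintype.card Q * (θ + Nat.card (MulAction.orbit (MulAction.stabilizer G α) β)) := by
  have hne : Nonempty Ω := by
    rcases isEmpty_or_nonempty Ω with h0 | h0
    · exact ⟨α⟩
    · exact h0
  have hAρ : ∀ g : G, Commute (adjEnd (orbitalRel G α β)) (permRep ℂ G Ω g) :=
    adjEnd_commute _ (fun g x y => orbitalRel_inv α β g x y)
  have hv : (fun _ : Ω => (1 : ℂ)) ≠ 0 := by
    intro h0
    have := congrFun h0 α
    simp at this
  have hAE : Commute (adjEnd (orbitalRel G α β)) E := h.commA _ hAρ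
  have := h.setup.first_moment (adjEnd (orbitalRel G α β)) (fun x => hAρ (ι x)) hAE θ hθ
    (fun _ => (1 : ℂ)) hv (fun x => by funext γ; rfl) h.const _ (adjEnd_const α β)
  rw [← this]
  apply Finset.sum_congr rfl
  intro q _
  rw [cnt]
  exact (trace_permRep_mul_adjEnd _ _).symm

end core

section core2

variable {G : Type u} [Group G] [Fintype G] {Ω : Type v} [Fintype Ω] [DecidableEq Ω] [MulAction G Ω]
variable {Q : Type*} [CommGroup Q] [Fintype Q] [DecidableEq Q]

theorem orbitalRel_swap (α β γ δ : Ω) : orbitalRel G β α γ δ ↔ orbitalRel G α β δ γ := by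
  constructor <;> rintro ⟨g, h1, h2⟩ <;> exact ⟨g, h2, h1⟩

theorem cnt_swap (α β : Ω) (x : G) : cnt G β α x = cnt G α β x⁻¹ := by
  unfold cnt
  apply Nat.card_congr
  refine Equiv.subtypeEquiv (MulAction.toPerm x) ?_
  intro γ
  rw [orbitalRel_swap, MulAction.toPerm_apply, inv_smul_smul]

theorem cnt_one {α β : Ω} (hαβ : α ≠ β) : cnt G α β 1 = 0 := by
  unfold cnt
  have : IsEmpty {γ : Ω // orbitalRel G α β γ ((1 : G) • γ)} := by
    constructor
    rintro ⟨γ, hγ⟩
    rw [one_smul] at hγ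
    exact orbitalRel_irrefl (Ne.symm hαβ) γ hγ
  exact Nat.card_of_isEmpty

variable [MulAction.IsPretransitive G Ω]

theorem valency_swap (α β : Ω) :
    Nat.card (MulAction.orbit (MulAction.stabilizer G β) α) =
      Nat.card (MulAction.orbit (MulAction.stabilizer G α) β) := by
  have h1 : ∑ γ : Ω, ∑ δ : Ω, (if orbitalRel G α β γ δ then 1 else 0 : ℕ) =
      Fintype.card Ω * Nat.card (MulAction.orbit (MulAction.stabilizer G α) β) := by
    have : ∀ γ : Ω, ∑ δ : Ω, (if orbitalRel G α β γ δ then 1 else 0 : ℕ) =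
        Nat.card (MulAction.orbit (MulAction.stabilizer G α) β) := by
      intro γ
      rw [Finset.sum_boole, Nat.cast_id, orbitalRel_card]
    rw [Finset.sum_congr rfl (fun γ _ => this γ), Finset.sum_const, Finset.card_univ, smul_eq_mul]
  have h2 : ∑ δ : Ω, ∑ γ : Ω, (if orbitalRel G α β γ δ then 1 else 0 : ℕ) =
      Fintype.card Ω * Nat.card (MulAction.orbit (MulAction.stabilizer G β) α) := by
    have : ∀ δ : Ω, ∑ γ : Ω, (if orbitalRel G α β γ δ then 1 else 0 : ℕ) =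
        Nat.card (MulAction.orbit (MulAction.stabilizer G β) α) := by
      intro δ
      rw [← orbitalRel_card β α δ, Finset.card_filter]
      apply Finset.sum_congr rfl
      intro γ _
      simp only [orbitalRel_swap]
    rw [Finset.sum_congr rfl (fun γ _ => this γ), Finset.sum_const, Finset.card_univ, smul_eq_mul]
  rw [Finset.sum_comm, h2] at h1
  have hpos : 0 < Fintype.card Ω := Fintype.card_pos_iff.mpr ⟨α⟩
  exact Nat.eq_of_mul_eq_mul_left hpos h1

theorem second_core {ι : Q →* G} {E : Module.End ℂ (Ω → ℂ)} (h : QFacts ι E) (α β : Ω) (hαβ : α ≠ β)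
    (θ θ' : ℂ) (hθ : adjEnd (orbitalRel G α β) ∘ₗ E = θ • E)
    (hθ' : adjEnd (orbitalRel G β α) ∘ₗ E = θ' • E) :
    ∑ q : Q, (cnt G α β (ι q) : ℂ) * (cnt G α β (ι q) : ℂ) =
      Fintype.card Q * ((Fintype.card Ω : ℂ) *
        Nat.card (MulAction.orbit (MulAction.stabilizer G α) β) - 2 * Fintype.card Q * θ * θ') := by
  have hAρ : ∀ g : G, Commute (adjEnd (orbitalRel G α β)) (permRep ℂ G Ω g) :=
    adjEnd_commute _ (fun g x y => orbitalRel_inv α β g x y)
  have hA'ρ : ∀ g : G, Commute (adjEnd (orbitalRel G β α)) (permRep ℂ G Ω g) :=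
    adjEnd_commute _ (fun g x y => orbitalRel_inv β α g x y)
  have hAE := h.commA _ hAρ
  have hA'E := h.commA _ hA'ρ
  have := h.setup.second_moment (adjEnd (orbitalRel G α β)) (adjEnd (orbitalRel G β α))
    (fun x => hAρ (ι x)) (fun x => hA'ρ (ι x)) hAE hA'E θ θ' hθ hθ'
  rw [adjEnd_trace _ (orbitalRel_irrefl (Ne.symm hαβ)), adjEnd_trace _ (orbitalRel_irrefl hαβ),
    trace_adjEnd_mul_adjEnd (orbitalRel G α β) (orbitalRel G β α)
      (fun x y => orbitalRel_swap α β x y) _ (fun γ => orbitalRel_card α β γ)] at this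
  rw [mul_zero, mul_zero, zero_add, zero_add] at this
  rw [← this]
  apply Finset.sum_congr rfl
  intro q _
  have h1 : trace ℂ (Ω → ℂ) (((permRep ℂ G Ω).comp ι) q * adjEnd (orbitalRel G α β)) =
      (cnt G α β (ι q) : ℂ) := trace_permRep_mul_adjEnd _ _
  have h2 : trace ℂ (Ω → ℂ) (((permRep ℂ G Ω).comp ι) q⁻¹ * adjEnd (orbitalRel G β α)) =
      (cnt G α β (ι q) : ℂ) := by
    have h3 : trace ℂ (Ω → ℂ) (((permRep ℂ G Ω).comp ι) q⁻¹ * adjEnd (orbitalRel G β α)) =
        (cnt G β α (ι q⁻¹) : ℂ) := trace_permRep_mul_adjEnd _ _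
    rw [h3, cnt_swap, map_inv, inv_inv]
  rw [h1, h2]

theorem entry_core {E : Module.End ℂ (Ω → ℂ)} (hE : ∀ g : G, Commute E (permRep ℂ G Ω g))
    (α β : Ω) (θ : ℂ) (hθ : adjEnd (orbitalRel G α β) ∘ₗ E = θ • E) :
    θ * trace ℂ (Ω → ℂ) E = (Fintype.card Ω : ℂ) *
      Nat.card (MulAction.orbit (MulAction.stabilizer G α) β) * E (Pi.single α 1) β := by
  have h1 : trace ℂ (Ω → ℂ) (adjEnd (orbitalRel G α β) * E) = θ * trace ℂ (Ω → ℂ) E := by
    have : adjEnd (orbitalRel G α β) * E = θ • E := hθ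
    rw [this, map_smul, smul_eq_mul]
  rw [← h1, trace_adjEnd_mul]
  have h2 : ∀ γ : Ω, (∑ δ : Ω, if orbitalRel G α β γ δ then E (Pi.single γ 1) δ else 0) =
      (Nat.card (MulAction.orbit (MulAction.stabilizer G α) β) : ℂ) * E (Pi.single α 1) β := by
    intro γ
    have h3 : ∀ δ : Ω, (if orbitalRel G α β γ δ then E (Pi.single γ 1) δ else 0) =
        (if orbitalRel G α β γ δ then 1 else 0) * E (Pi.single α 1) β := by
      intro δ
      split_ifs with hR
      · obtain ⟨g, rfl, rfl⟩ := hR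
        rw [one_mul, single_smul E hE]
      · rw [zero_mul]
    rw [Finset.sum_congr rfl (fun δ _ => h3 δ), ← Finset.sum_mul, Finset.sum_boole, orbitalRel_card]
  rw [Finset.sum_congr rfl (fun γ _ => h2 γ), Finset.sum_const, Finset.card_univ, nsmul_eq_mul, mul_assoc]

end core2

section main

variable {G : Type u} [Group G] [Fintype G] {Ω : Type v} [Fintype Ω] [DecidableEq Ω] [MulAction G Ω]

theorem sum_filter_ne_one {Q : Type*} [One Q] [Fintype Q] [DecidablePred (fun x : Q => x ≠ 1)]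
    {M : Type*} [AddCommMonoid M] (F : Q → M) (h1 : F 1 = 0) : ∑ x ∈ (Finset.univ : Finset Q).filter (fun x : Q => x ≠ 1), F x = ∑ x : Q, F x := by
  rw [Finset.sum_filter]
  apply Finset.sum_congr rfl
  intro x _
  split_ifs with h
  · rfl
  · push Not at h
    rw [h, h1]

/-- W2P-MOM: the moments of an orbital along `P`. -/
theorem moments {p : ℕ} (hp : p.Prime) (hodd : p ≠ 2) [MulAction.IsPretransitive G Ω]
    (hcard : Fintype.card Ω = 2 * p) (P : Subgroup G) [Fintype P] (hP : Nat.card P = p)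
    (hsemi : Semireg P Ω) (χ₁ : G → ℂ) (f : IdemFacts (Ω := Ω) p P χ₁) (α β : Ω) (hαβ : α ≠ β) :
    ∃ r : ℤ, ent χ₁ α β * (2 * Nat.card (MulAction.orbit (MulAction.stabilizer G α) β)) = r ∧
      ent χ₁ β α = ent χ₁ α β ∧
      adjEnd (orbitalRel G α β) ∘ₗ idemEnd χ₁ = (r : ℂ) • idemEnd (Ω := Ω) χ₁ ∧
      (∀ x ∈ P, x ≠ 1 → cnt G α β x = 0 ∨ cnt G α β x = p ∨ cnt G α β x = 2 * p) ∧
      ((∑ x ∈ (Finset.univ : Finset P).filter (fun x : P => x ≠ 1), (cnt G α β (x : G) : ℤ)) =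
        p * (Nat.card (MulAction.orbit (MulAction.stabilizer G α) β) + r)) ∧
      ((∑ x ∈ (Finset.univ : Finset P).filter (fun x : P => x ≠ 1), (cnt G α β (x : G) : ℤ) ^ 2) =
        (p : ℤ) ^ 2 * (2 * Nat.card (MulAction.orbit (MulAction.stabilizer G α) β) - 2 * r ^ 2)) := by
  have : Fact p.Prime := ⟨hp⟩
  haveI : IsCyclic P := isCyclic_of_prime_card hP
  letI : CommGroup P := IsCyclic.commGroup
  have hcP : Fintype.card P = p := by rw [← Nat.card_eq_fintype_card]; exact hP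
  have hp0 : (p : ℂ) ≠ 0 := by exact_mod_cast hp.ne_zero
  set n := Nat.card (MulAction.orbit (MulAction.stabilizer G α) β) with hn
  have hn0 : n ≠ 0 := by
    rw [hn]
    have : Nonempty (MulAction.orbit (MulAction.stabilizer G α) β) := ⟨⟨β, MulAction.mem_orbit_self _⟩⟩
    exact Nat.card_pos.ne'
  have hcomm : ∀ x ∈ P, ∀ y ∈ P, x * y = y * x := by
    intro x hx y hy
    exact congrArg Subtype.val (mul_comm (⟨x, hx⟩ : P) ⟨y, hy⟩)
  have hvals : ∀ x ∈ P, cnt G α β x = 0 ∨ cnt G α β x = p ∨ cnt G α β x = 2 * p :=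
    fun x hx => cnt_vals hp hcard P hP hsemi hcomm α β x hx
  have hQ : QFacts (Ω := Ω) P.subtype (idemEnd χ₁) :=
    { semi := fun q hq γ => hsemi q q.2 (fun h => hq (Subtype.ext h)) γ
      card := by rw [hcard, hcP]
      idem := f.idem
      comm := f.comm
      tr_one := by rw [f.tr_one, hcP]
      tr_Q := fun q hq => f.tr_P q q.2 (fun h => hq (Subtype.ext h))
      const := f.const
      commA := fun A hA => commute_opT _ A hA }
  obtain ⟨θ, hθ⟩ := f.scalar (adjEnd (orbitalRel G α β))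
    (adjEnd_commute _ (fun g x y => orbitalRel_inv α β g x y))
  obtain ⟨θ', hθ'⟩ := f.scalar (adjEnd (orbitalRel G β α))
    (adjEnd_commute _ (fun g x y => orbitalRel_inv β α g x y))
  have hF1 := first_core hQ α β θ hθ
  have hF2 := first_core hQ β α θ' hθ'
  rw [hcP] at hF1 hF2
  simp only [Subgroup.coe_subtype] at hF1 hF2
  -- θ' = θ
  have hθθ' : θ' = θ := by
    have h1 : ∑ q : P, (cnt G β α (q : G) : ℂ) = ∑ q : P, (cnt G α β (q : G) : ℂ) := by
      rw [← Equiv.sum_comp (Equiv.inv P) (fun q : P => (cnt G α β (q : G) : ℂ))]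
      apply Finset.sum_congr rfl
      intro q _
      rw [cnt_swap]
      rfl
    rw [h1, hF1, valency_swap] at hF2
    have h2 := mul_left_cancel₀ hp0 hF2
    exact (add_right_cancel h2).symm
  subst hθθ'
  -- integrality
  have hdiv : ∀ q : P, cnt G α β (q : G) = p * (cnt G α β (q : G) / p) := by
    intro q
    rcases hvals q q.2 with h | h | h
    · rw [h]; simp
    · rw [h, Nat.div_self hp.pos, mul_one]
    · rw [h, Nat.mul_div_cancel _ hp.pos, mul_comm]
  set K : ℕ := ∑ q : P, cnt G α β (q : G) / p with hK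
  have hsumK : ∑ q : P, (cnt G α β (q : G) : ℂ) = p * K := by
    rw [hK]
    push_cast
    rw [Finset.mul_sum]
    apply Finset.sum_congr rfl
    intro q _
    have := hdiv q
    have h2 : (cnt G α β (q : G) : ℂ) = ((p * (cnt G α β (q : G) / p) : ℕ) : ℂ) := by rw [← this]
    rw [h2]
    push_cast
    rfl
  have hθK : θ' = (K : ℂ) - n := by
    rw [hsumK] at hF1
    have h2 := mul_left_cancel₀ hp0 hF1
    rw [h2]; ring
  refine ⟨(K : ℤ) - n, ?_, ?_, ?_, ?_, ?_, ?_⟩
  · have h1 := entry_core (G := G) f.comm β α θ' hθ'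
    rw [f.tr_one, valency_swap, hcard] at h1
    push_cast at h1
    push_cast
    rw [← hθK]
    apply mul_left_cancel₀ hp0
    have : ent χ₁ α β = idemEnd (G := G) χ₁ (Pi.single β 1) α := rfl
    rw [this]
    linear_combination -h1
  · have h1 := entry_core (G := G) f.comm β α θ' hθ'
    have h2 := entry_core (G := G) f.comm α β θ' hθ
    rw [f.tr_one, valency_swap, hcard] at h1
    rw [f.tr_one, hcard] at h2
    push_cast at h1 h2
    have hn0' : (n : ℂ) ≠ 0 := by exact_mod_cast hn0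
    have h3 : (2 * (p : ℂ) * n) * ent χ₁ β α = (2 * (p : ℂ) * n) * ent χ₁ α β := by
      have e1 : ent χ₁ α β = idemEnd (G := G) χ₁ (Pi.single β 1) α := rfl
      have e2 : ent χ₁ β α = idemEnd (G := G) χ₁ (Pi.single α 1) β := rfl
      rw [e1, e2]
      linear_combination h1 - h2
    exact mul_left_cancel₀ (mul_ne_zero (mul_ne_zero two_ne_zero hp0) hn0') h3
  · rw [hθ, hθK]
    push_cast
    rfl
  · intro x hx _
    exact hvals x hx
  · rw [sum_filter_ne_one (fun x : P => (cnt G α β (x : G) : ℤ)) (by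
      show ((cnt G α β ((1 : P) : G) : ℕ) : ℤ) = 0
      rw [Subgroup.coe_one, cnt_one hαβ]; rfl)]
    have h1 : ((∑ x : P, (cnt G α β (x : G) : ℤ) : ℤ) : ℂ) =
        ((p * ((n : ℤ) + ((K : ℤ) - n)) : ℤ) : ℂ) := by
      push_cast
      rw [hsumK]
      ring
    exact_mod_cast h1
  · rw [sum_filter_ne_one (fun x : P => (cnt G α β (x : G) : ℤ) ^ 2) (by
      show ((cnt G α β ((1 : P) : G) : ℕ) : ℤ) ^ 2 = 0
      rw [Subgroup.coe_one, cnt_one hαβ]; rfl)]
    have h2 := second_core hQ α β hαβ θ' θ' hθ hθ'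
    rw [hcP, hcard] at h2
    simp only [Subgroup.coe_subtype] at h2
    have h1 : ((∑ x : P, (cnt G α β (x : G) : ℤ) ^ 2 : ℤ) : ℂ) =
        (((p : ℤ) ^ 2 * (2 * (n : ℤ) - 2 * ((K : ℤ) - n) ^ 2) : ℤ) : ℂ) := by
      push_cast
      have h3 : ∀ x : P, (cnt G α β (x : G) : ℂ) ^ 2 = (cnt G α β (x : G) : ℂ) * (cnt G α β (x : G) : ℂ) :=
        fun x => sq _
      rw [Finset.sum_congr rfl (fun x _ => h3 x), h2, hθK]
      push_cast
      ring
    exact_mod_cast h1

end main

end Cfsg.Agent.Lib.Helper19.W2PMOM
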