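/-
helper19: S3282 (Brauer-Suzuki-Wall, abstract form), leaf M6a `plocal_odd`.
`_of` form over the leaf B8 (verbatim conclusion as hypothesis).
-/
import Mathlib
import Cfsg.Prelude.Def_Characters
import Cfsg.Agent.Lib.Helper24.BSWDefs

set_option autoImplicit false
open Cfsg Cfsg.Agent.Lib.Helper24.BSW

namespace Cfsg.Agent.Lib.Helper19.BSWM6a

variable {G : Type*} [Group G] [Finite G]

/-- an involution inverting `y` makes `invCount y` nonzero -/
theorem invCount_ne_zero_of (y u : G) (hu : orderOf u = 2) (huy : u * y * u⁻¹ = y⁻¹) :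
    invCount y ≠ 0 := by
  unfold invCount
  rw [Nat.card_ne_zero]
  exact ⟨⟨⟨u, hu, huy⟩⟩, inferInstance⟩

omit [Finite G] in
/-- an involution `w` inverts `z⁻¹ * (w z w⁻¹)` -/
theorem invol_inverts_comm (w z : G) (hw : orderOf w = 2) :
    w * (z⁻¹ * (w * z * w⁻¹)) * w⁻¹ = (z⁻¹ * (w * z * w⁻¹))⁻¹ := by
  have hww : w * w = 1 := by
    have := pow_orderOf_eq_one w
    rwa [hw, pow_two] at this
  have hinv : w⁻¹ = w := inv_eq_of_mul_eq_one_right hww
  rw [hinv]
  calc w * (z⁻¹ * (w * z * w)) * w = w * z⁻¹ * w * z * (w * w) := by group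
    _ = w * z⁻¹ * w * z := by rw [hww, mul_one]
    _ = w⁻¹ * z⁻¹ * w⁻¹ * z := by rw [hinv]
    _ = (z⁻¹ * (w * z * w))⁻¹ := by group

/-- **M6a** in `_of` form. -/
theorem plocal_odd_of {t s : G} {K : Subgroup G} (_h : Hyp t s K) (_hk : 4 ≤ Nat.card K)
    {X : G → ℂ} (hM : DataM K X)
    (hB8 : ∀ y ∈ RR K, Odd (Nat.card (Subgroup.centralizer ({y} : Set G))) ∧
      ∀ z ∈ Subgroup.centralizer ({y} : Set G), z ≠ 1 → z ∈ RR K)
    (I : Subgroup G) (hI : I ≠ ⊥)
    (hI0 : ∀ z ∈ I, z ≠ 1 → z ∈ RR K ∧ X z = 0) :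
    Odd (Nat.card (Subgroup.normalizer (I : Set G))) := by
  by_contra hodd
  rw [Nat.not_odd_iff_even] at hodd
  have h2 : 2 ∣ Nat.card (Subgroup.normalizer (I : Set G)) := hodd.two_dvd
  haveI : Fact (Nat.Prime 2) := ⟨Nat.prime_two⟩
  obtain ⟨w', hw'⟩ := exists_prime_orderOf_dvd_card' 2 h2
  set w : G := (w' : G) with hwdef
  have hw : orderOf w = 2 := by rw [hwdef, Subgroup.orderOf_coe]; exact hw'
  have hwN : w ∈ Subgroup.normalizer (I : Set G) := w'.2
  obtain ⟨z, hzI, hz1⟩ : ∃ z ∈ I, z ≠ 1 := by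
    obtain ⟨a, ha⟩ := Subgroup.ne_bot_iff_exists_ne_one.mp hI
    exact ⟨(a : G), a.2, fun h => ha (Subtype.ext h)⟩
  have hconj : w * z * w⁻¹ ∈ I := (Subgroup.mem_normalizer_iff.mp hwN z).mp hzI
  set a : G := z⁻¹ * (w * z * w⁻¹) with hadef
  have haI : a ∈ I := I.mul_mem (I.inv_mem hzI) hconj
  by_cases ha1 : a = 1
  · -- `w` centralizes `z`
    have hwz : w * z * w⁻¹ = z := by
      have : z * a = z := by rw [ha1, mul_one]
      rw [hadef] at this
      rw [← mul_assoc, mul_inv_cancel, one_mul] at this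
      exact this
    have hwC : w ∈ Subgroup.centralizer ({z} : Set G) := by
      rw [Subgroup.mem_centralizer_singleton_iff]
      calc w * z = w * z * w⁻¹ * w := by group
        _ = z * w := by rw [hwz]
    have hoddC := (hB8 z (hI0 z hzI hz1).1).1
    have hdvd : orderOf w ∣ Nat.card (Subgroup.centralizer ({z} : Set G)) := by
      have := orderOf_dvd_natCard (⟨w, hwC⟩ : Subgroup.centralizer ({z} : Set G))
      rwa [Subgroup.orderOf_mk] at this
    rw [hw] at hdvd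
    have := hoddC.of_dvd_nat hdvd
    exact absurd this (by decide)
  · obtain ⟨haRR, hXa⟩ := hI0 a haI ha1
    have hinv : w * a * w⁻¹ = a⁻¹ := invol_inverts_comm w z hw
    have hne := invCount_ne_zero_of a w hw hinv
    rcases hM.onRR a haRR with ⟨_, h0⟩ | ⟨h1, _⟩
    · exact hne h0
    · rw [hXa] at h1
      exact zero_ne_one h1

end Cfsg.Agent.Lib.Helper19.BSWM6a
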