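/-
helper19: S3282 leaf M6a `plocal_odd`, EXACT form (`BSWM6a.plocal_odd_of` + helper12's B8).
-/
import Mathlib
import Cfsg.Prelude.Def_Characters
import Cfsg.Agent.Lib.Helper24.BSWDefs
import Cfsg.Agent.Lib.Helper12.BSWB8
import Cfsg.Agent.Lib.Helper19.BSWM6a

set_option autoImplicit false
open Cfsg Cfsg.Agent.Lib.Helper24.BSW

namespace Cfsg.Agent.Lib.Helper19.BSWM6aX

variable {G : Type*} [Group G] [Finite G]

/-- **M6a** a subgroup `I ≠ 1` with `I \ 1 ⊆ R0` has a normalizer of odd order. -/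
theorem plocal_odd {t s : G} {K : Subgroup G} (h : Hyp t s K) (hk : 4 ≤ Nat.card K)
    {X : G → ℂ} (hM : DataM K X) (I : Subgroup G) (hI : I ≠ ⊥)
    (hI0 : ∀ z ∈ I, z ≠ 1 → z ∈ RR K ∧ X z = 0) :
    Odd (Nat.card (Subgroup.normalizer (I : Set G))) :=
  Cfsg.Agent.Lib.Helper19.BSWM6a.plocal_odd_of h hk hM
    (Cfsg.Agent.Lib.Helper12.BSWB8.RR_centralizer h) I hI hI0

end Cfsg.Agent.Lib.Helper19.BSWM6aX
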