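/-
helper19: S3282 (Brauer-Suzuki-Wall, abstract form), leaf M6 `centralizer_eq_of_mem_R0`, in `_of`
form over the leaves M3, M4, M5, M6b (verbatim conclusions as hypotheses); B0a, B8, M6a, M6c, M6d
are cited from their landed modules.  Also the Sylow structure `sylow_struct_of` used by M7.
-/
import Mathlib
import Cfsg.Prelude.Def_Characters
import Cfsg.Agent.Lib.Helper24.BSWDefs
import Cfsg.Agent.Lib.Lead.CharOrtho
import Cfsg.Agent.Lib.Helper14.BSWB0a
import Cfsg.Agent.Lib.Helper12.BSWB8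
import Cfsg.Agent.Lib.Helper7.BSWM6c
import Cfsg.Agent.Lib.Helper7.BSWM6d
import Cfsg.Agent.Lib.Helper19.BSWM6aX

set_option autoImplicit false
open Cfsg Cfsg.Agent.Lib.Helper24.BSW

namespace Cfsg.Agent.Lib.Helper19.BSWM6

open Cfsg.Agent.CharLib
open scoped Pointwise

variable {G : Type*} [Group G] [Finite G]

omit [Finite G] in
/-- the centralizer of a conjugate -/
theorem mem_centralizer_conj_iff (g y c : G) :
    c ∈ Subgroup.centralizer ({g * y * g⁻¹} : Set G) ↔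
      g⁻¹ * c * g ∈ Subgroup.centralizer ({y} : Set G) := by
  rw [Subgroup.mem_centralizer_singleton_iff, Subgroup.mem_centralizer_singleton_iff]
  constructor
  · intro h
    have : g⁻¹ * (c * (g * y * g⁻¹)) * g = g⁻¹ * ((g * y * g⁻¹) * c) * g := by rw [h]
    calc g⁻¹ * c * g * y = g⁻¹ * (c * (g * y * g⁻¹)) * g := by group
      _ = g⁻¹ * ((g * y * g⁻¹) * c) * g := this
      _ = y * (g⁻¹ * c * g) := by group
  · intro h
    calc c * (g * y * g⁻¹) = g * (g⁻¹ * c * g * y) * g⁻¹ := by group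
      _ = g * (y * (g⁻¹ * c * g)) * g⁻¹ := by rw [h]
      _ = g * y * g⁻¹ * c := by group

/-- arithmetic: a prime dividing `2k-1` divides neither `k` nor `2k-2` -/
theorem not_dvd_index (p k : ℕ) (hp : p.Prime) (hk : 4 ≤ k) (hq : p ∣ 2 * k - 1) :
    ¬ p ∣ k * (2 * k - 2) := by
  intro hd
  rcases (Nat.Prime.dvd_mul hp).mp hd with h1 | h1
  · have h2 : p ∣ 2 * k := Dvd.dvd.mul_left h1 2
    have h3 : p ∣ 2 * k - (2 * k - 1) := Nat.dvd_sub h2 hq
    have h4 : 2 * k - (2 * k - 1) = 1 := by omega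
    rw [h4] at h3
    exact hp.one_lt.ne' (Nat.dvd_one.mp h3)
  · have h3 : p ∣ (2 * k - 1) - (2 * k - 2) := Nat.dvd_sub hq h1
    have h4 : (2 * k - 1) - (2 * k - 2) = 1 := by omega
    rw [h4] at h3
    exact hp.one_lt.ne' (Nat.dvd_one.mp h3)

set_option maxHeartbeats 800000 in
/-- The Sylow structure in case M: `q = 2k-1 = p^a`; the centralizers `C(y)`, `y ∈ R0`, are Sylow
`p`-subgroups; the nonidentity elements of all Sylow `p`-subgroups are in `R0`; distinct Sylow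
`p`-subgroups intersect trivially. -/
theorem sylow_struct_of {t s : G} {K : Subgroup G} (h : Hyp t s K)
    (hk : 4 ≤ Nat.card K) {X : G → ℂ} (hM : DataM K X)
    (hM3 : ∀ y ∈ RR K, X y = 0 →
      (∀ z ∈ Subgroup.centralizer ({y} : Set G), z ≠ 1 → X z = 0) ∧
      Nat.card (Subgroup.centralizer ({y} : Set G)) ∣ 2 * Nat.card K - 1)
    (hM4 : ∀ y ∈ RR K, X y = 0 →
      Nat.card (Subgroup.centralizer ({y} : Set G)) = 2 * Nat.card K - 1 ∧
      ∀ z ∈ RR K, X z = 0 → IsConj z y ∨ IsConj z y⁻¹)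
    (hM5 : ∃ p a : ℕ, p.Prime ∧ 2 * Nat.card K - 1 = p ^ a ∧
      ∀ y ∈ RR K, X y = 0 → orderOf y = p)
    (hM6b : ∀ (L : Subgroup G), Odd (Nat.card L) →
      ∀ (r : ℕ) [Fact r.Prime] (R : Subgroup G), R ≤ L → R ≠ ⊥ → IsPGroup r R →
      (∀ e ∈ R, e ≠ 1 → ¬ (e ∈ RR K ∧ X e = 0)) →
      Subgroup.normalizer (R : Set G) ⊓ L ≤ Subgroup.centralizer (R : Set G)) :
    ∃ (p : ℕ) (_ : Fact p.Prime) (a : ℕ), 2 * Nat.card K - 1 = p ^ a ∧
      (∀ y ∈ RR K, X y = 0 → ∃ P : Sylow p G,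
        (P : Subgroup G) = Subgroup.centralizer ({y} : Set G)) ∧
      (∀ P : Sylow p G, ∀ z ∈ P, z ≠ 1 → z ∈ RR K ∧ X z = 0) ∧
      (∀ P Q : Sylow p G, P ≠ Q → (P : Subgroup G) ⊓ (Q : Subgroup G) = ⊥) := by
  classical
  obtain ⟨p, a, hp, hqa, hord⟩ := hM5
  haveI : Fact p.Prime := ⟨hp⟩
  have hXcf : IsClassFunction G X :=
    IsCharacter.isClassFunction (IsIrrCharacter.isCharacter hM.irr)
  have hB8 := Cfsg.Agent.Lib.Helper12.BSWB8.RR_centralizer h
  have ha0 : a ≠ 0 := by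
    intro h0
    rw [h0, pow_zero] at hqa
    omega
  have hpq : p ∣ 2 * Nat.card K - 1 := by
    rw [hqa]; exact dvd_pow_self p ha0
  have hndvd : ¬ p ∣ Nat.card K * (2 * Nat.card K - 2) := not_dvd_index p _ hp hk hpq
  -- the centralizers are Sylow
  have hS2 : ∀ y ∈ RR K, X y = 0 → ∃ P : Sylow p G,
      (P : Subgroup G) = Subgroup.centralizer ({y} : Set G) := by
    intro y hy hXy
    have hcard : Nat.card (Subgroup.centralizer ({y} : Set G)) = p ^ a := by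
      rw [(hM4 y hy hXy).1, hqa]
    have hPG : IsPGroup p (Subgroup.centralizer ({y} : Set G)) := IsPGroup.of_card hcard
    have hidx : (Subgroup.centralizer ({y} : Set G)).index =
        Nat.card K * (2 * Nat.card K - 2) := by
      have h1 := (Subgroup.centralizer ({y} : Set G)).card_mul_index
      rw [(hM4 y hy hXy).1, hM.card] at h1
      have h0 : 0 < 2 * Nat.card K - 1 := by omega
      apply Nat.eq_of_mul_eq_mul_left h0
      rw [h1]; ring
    have hnd : ¬ p ∣ (Subgroup.centralizer ({y} : Set G)).index := by rw [hidx]; exact hndvd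
    exact ⟨hPG.toSylow hnd, IsPGroup.toSylow_coe hPG hnd⟩
  -- some element of `R0`
  obtain ⟨y₀, hy₀, hXy₀⟩ : ∃ y₀ ∈ RR K, X y₀ = 0 := by
    have h0 : Nat.card {y : G // y ∈ RR K ∧ X y = 0} ≠ 0 := by
      rw [hM.card0]
      have : 0 < Nat.card K - 1 := by omega
      positivity
    rw [Nat.card_ne_zero] at h0
    obtain ⟨⟨⟨y, hy⟩⟩, _⟩ := h0
    exact ⟨y, hy.1, hy.2⟩
  obtain ⟨P₀, hP₀⟩ := hS2 y₀ hy₀ hXy₀
  -- elements of Sylow subgroups
  have hS3 : ∀ P : Sylow p G, ∀ z ∈ P, z ≠ 1 → z ∈ RR K ∧ X z = 0 := by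
    intro P z hz hz1
    obtain ⟨g, hg⟩ := MulAction.exists_smul_eq G P₀ P
    have hz' : z ∈ ((g • P₀ : Sylow p G) : Subgroup G) := by rw [hg]; exact hz
    rw [Sylow.coe_subgroup_smul, Subgroup.mem_pointwise_smul_iff_inv_smul_mem] at hz'
    have hw : g⁻¹ * z * g ∈ Subgroup.centralizer ({y₀} : Set G) := by
      rw [← hP₀]
      have : (MulAut.conj g)⁻¹ • z = g⁻¹ * z * g := by
        rw [← map_inv, MulAut.smul_def, MulAut.conj_apply, inv_inv]
      rw [← this]; exact hz'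
    have hw1 : g⁻¹ * z * g ≠ 1 := by
      intro h1
      apply hz1
      calc z = g * (g⁻¹ * z * g) * g⁻¹ := by group
        _ = 1 := by rw [h1]; group
    have hwRR : g⁻¹ * z * g ∈ RR K := (hB8 y₀ hy₀).2 _ hw hw1
    have hwX : X (g⁻¹ * z * g) = 0 := (hM3 y₀ hy₀ hXy₀).1 _ hw hw1
    have hzeq : z = g * (g⁻¹ * z * g) * g⁻¹ := by group
    constructor
    · rw [hzeq]
      exact (Cfsg.Agent.Lib.Helper14.BSWB0a.conj_mem_RR_iff K g _).mpr hwRR
    · rw [hzeq, hXcf (g⁻¹ * z * g) g]; exact hwX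
  refine ⟨p, ⟨hp⟩, a, hqa, hS2, hS3, ?_⟩
  -- T.I. by M6d
  apply Cfsg.Agent.Lib.Helper7.BSWM6d.sylow_TI_of_local p
  intro I hIp hI
  -- `I \ 1 ⊆ R0`
  obtain ⟨P, hIP⟩ := hIp.exists_le_sylow
  have hI0 : ∀ z ∈ I, z ≠ 1 → z ∈ RR K ∧ X z = 0 := fun z hz hz1 => hS3 P z (hIP hz) hz1
  have hoddL : Odd (Nat.card (Subgroup.normalizer (I : Set G))) :=
    Cfsg.Agent.Lib.Helper19.BSWM6aX.plocal_odd h hk hM I hI hI0
  set L : Subgroup G := Subgroup.normalizer (I : Set G) with hLdef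
  apply Cfsg.Agent.Lib.Helper7.BSWM6c.unique_sylow_of_central p
  intro r hr hrp _ R
  intro x hx
  rw [Subgroup.mem_centralizer_iff]
  intro hh hhR
  have hhR' : hh ∈ (R : Subgroup L) := hhR
  set R' : Subgroup G := (R : Subgroup L).map L.subtype with hR'def
  have hR'L : R' ≤ L := by
    rintro _ ⟨c, _, rfl⟩
    exact c.2
  have hhmem : (hh : G) ∈ R' := ⟨hh, hhR', rfl⟩
  by_cases hh1 : hh = 1
  · rw [hh1, one_mul, mul_one]
  have hR'ne : R' ≠ ⊥ := by
    intro hbot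
    apply hh1
    have : (hh : G) ∈ (⊥ : Subgroup G) := hbot ▸ hhmem
    exact Subtype.ext (Subgroup.mem_bot.mp this)
  have hR'r : IsPGroup r R' := R.2.map L.subtype
  have hR0 : ∀ e ∈ R', e ≠ 1 → ¬ (e ∈ RR K ∧ X e = 0) := by
    rintro e he he1 ⟨heRR, heX⟩
    have hoe : orderOf e = p := hord e heRR heX
    obtain ⟨j, hj⟩ := hR'r ⟨e, he⟩
    have hj' : e ^ r ^ j = 1 := by
      have := congrArg Subtype.val hj
      simpa using this
    have hdvd : p ∣ r ^ j := by rw [← hoe]; exact orderOf_dvd_of_pow_eq_one hj'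
    have hpr : p ∣ r := hp.dvd_of_dvd_pow hdvd
    have : p = r := (Nat.prime_dvd_prime_iff_eq hp hr).mp hpr
    exact hrp this.symm
  have hkey := hM6b L hoddL r R' hR'L hR'ne hR'r hR0
  -- `x` normalizes `R'` in `G`
  have hxN : (x : G) ∈ Subgroup.normalizer (R' : Set G) := by
    rw [Subgroup.mem_normalizer_iff]
    intro g
    constructor
    · rintro ⟨c, hc, rfl⟩
      refine ⟨x * c * x⁻¹, ?_, by simp⟩
      exact (Subgroup.mem_normalizer_iff.mp hx c).mp hc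
    · rintro ⟨c, hc, hceq⟩
      have hgL : g ∈ L := by
        have : g = (x : G)⁻¹ * (c : G) * (x : G) := by
          have h2 : (c : G) = (x : G) * g * (x : G)⁻¹ := hceq
          rw [h2]; group
        rw [this]
        exact L.mul_mem (L.mul_mem (L.inv_mem x.2) c.2) x.2
      refine ⟨⟨g, hgL⟩, ?_, rfl⟩
      have hc' : x * ⟨g, hgL⟩ * x⁻¹ = c := Subtype.ext hceq.symm
      have := (Subgroup.mem_normalizer_iff.mp hx ⟨g, hgL⟩).mpr
      apply this
      change x * ⟨g, hgL⟩ * x⁻¹ ∈ (R : Subgroup L)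
      rw [hc']; exact hc
  have hxC : (x : G) ∈ Subgroup.centralizer (R' : Set G) := hkey ⟨hxN, x.2⟩
  rw [Subgroup.mem_centralizer_iff] at hxC
  exact Subtype.ext (hxC (hh : G) hhmem)

/-- **M6** in `_of` form. -/
theorem centralizer_eq_of_mem_R0_of {t s : G} {K : Subgroup G} (h : Hyp t s K)
    (hk : 4 ≤ Nat.card K) {X : G → ℂ} (hM : DataM K X)
    (hM3 : ∀ y ∈ RR K, X y = 0 →
      (∀ z ∈ Subgroup.centralizer ({y} : Set G), z ≠ 1 → X z = 0) ∧
      Nat.card (Subgroup.centralizer ({y} : Set G)) ∣ 2 * Nat.card K - 1)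
    (hM4 : ∀ y ∈ RR K, X y = 0 →
      Nat.card (Subgroup.centralizer ({y} : Set G)) = 2 * Nat.card K - 1 ∧
      ∀ z ∈ RR K, X z = 0 → IsConj z y ∨ IsConj z y⁻¹)
    (hM5 : ∃ p a : ℕ, p.Prime ∧ 2 * Nat.card K - 1 = p ^ a ∧
      ∀ y ∈ RR K, X y = 0 → orderOf y = p)
    (hM6b : ∀ (L : Subgroup G), Odd (Nat.card L) →
      ∀ (r : ℕ) [Fact r.Prime] (R : Subgroup G), R ≤ L → R ≠ ⊥ → IsPGroup r R →
      (∀ e ∈ R, e ≠ 1 → ¬ (e ∈ RR K ∧ X e = 0)) →
      Subgroup.normalizer (R : Set G) ⊓ L ≤ Subgroup.centralizer (R : Set G)) :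
    ∀ y ∈ RR K, X y = 0 → ∀ z ∈ Subgroup.centralizer ({y} : Set G), z ≠ 1 →
      Subgroup.centralizer ({z} : Set G) = Subgroup.centralizer ({y} : Set G) := by
  obtain ⟨p, hpF, a, _, hS2, _, hS4⟩ := sylow_struct_of h hk hM hM3 hM4 hM5 hM6b
  intro y hy hXy z hz hz1
  have hB8 := Cfsg.Agent.Lib.Helper12.BSWB8.RR_centralizer h
  have hzRR : z ∈ RR K := (hB8 y hy).2 z hz hz1
  have hzX : X z = 0 := (hM3 y hy hXy).1 z hz hz1
  obtain ⟨P, hP⟩ := hS2 y hy hXy
  obtain ⟨P', hP'⟩ := hS2 z hzRR hzX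
  by_contra hne
  have hPP' : P' ≠ P := by
    intro heq
    apply hne
    rw [← hP', ← hP, heq]
  have hbot := hS4 P' P hPP'
  have hzmem : z ∈ (P' : Subgroup G) ⊓ (P : Subgroup G) := by
    rw [hP', hP]
    exact ⟨Subgroup.mem_centralizer_singleton_iff.mpr rfl, hz⟩
  rw [hbot] at hzmem
  exact hz1 (Subgroup.mem_bot.mp hzmem)

end Cfsg.Agent.Lib.Helper19.BSWM6
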