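/-
helper19: S3282 (Brauer-Suzuki-Wall, abstract form), leaf M6b `sylow_central_in_odd`, in `_of`
form over the leaf M2 (verbatim conclusion as hypothesis); B0a, B0b, B5, B6, G3 are cited from
their landed modules.
-/
import Mathlib
import Cfsg.Prelude.Def_Characters
import Cfsg.Agent.Lib.Helper24.BSWDefs
import Cfsg.Agent.Lib.Helper14.BSWB0a
import Cfsg.Agent.Lib.Helper14.BSWB0b
import Cfsg.Agent.Lib.Helper12.BSWB5
import Cfsg.Agent.Lib.Helper12.BSWB6
import Cfsg.Agent.Lib.Helper2.BSWG3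

set_option autoImplicit false
open Cfsg Cfsg.Agent.Lib.Helper24.BSW

namespace Cfsg.Agent.Lib.Helper19.BSWM6b

variable {G : Type*} [Group G] [Finite G]

omit [Finite G] in
/-- In `D ⊔ <u>` with `u` an involution inverting `D`, the elements of odd order lie in `D`. -/
theorem mem_of_odd_of_mem_sup (D : Subgroup G) (u : G) (hu : orderOf u = 2)
    (hinv : ∀ c ∈ D, u * c * u⁻¹ = c⁻¹) (n : G) (hn : n ∈ D ⊔ Subgroup.zpowers u)
    (hodd : Odd (orderOf n)) : n ∈ D := by
  have huu : u * u = 1 := by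
    have := pow_orderOf_eq_one u
    rwa [hu, pow_two] at this
  have huinv : u⁻¹ = u := inv_eq_of_mul_eq_one_right huu
  have hle : Subgroup.zpowers u ≤ Subgroup.normalizer (D : Set G) := by
    rw [Subgroup.zpowers_le]
    rw [Subgroup.mem_normalizer_iff]
    intro c
    constructor
    · intro hc
      rw [hinv c hc]; exact D.inv_mem hc
    · intro hc
      have h1 := hinv _ hc
      have h2 : u * (u * c * u⁻¹) * u⁻¹ = c := by
        rw [huinv]
        calc u * (u * c * u) * u = (u * u) * c * (u * u) := by group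
          _ = c := by rw [huu, one_mul, mul_one]
      rw [h2] at h1
      have := D.inv_mem hc
      rw [← h1] at this
      exact this
  have hset : n ∈ ((D ⊔ Subgroup.zpowers u : Subgroup G) : Set G) := hn
  rw [Subgroup.coe_mul_of_right_le_normalizer_left D (Subgroup.zpowers u) hle] at hset
  obtain ⟨d, hd, z, hz, rfl⟩ := Set.mem_mul.mp hset
  obtain ⟨i, rfl⟩ := Subgroup.mem_zpowers_iff.mp hz
  have hd' : d ∈ D := hd
  -- `u ^ i` is `1` or `u`
  have hcase : u ^ i = 1 ∨ u ^ i = u := by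
    have h2 : u ^ (2 : ℤ) = 1 := by
      rw [zpow_ofNat, pow_two]; exact huu
    have hi : i = 2 * (i / 2) + i % 2 := (Int.mul_ediv_add_emod i 2).symm
    rcases Int.emod_two_eq_zero_or_one i with h0 | h1
    · left
      rw [hi, h0, add_zero, zpow_mul, h2, one_zpow]
    · right
      rw [hi, h1, zpow_add, zpow_mul, h2, one_zpow, one_mul, zpow_one]
  rcases hcase with h1 | h1
  · simp only [h1, mul_one]; exact hd'
  · simp only [h1] at hodd ⊢
    have hsq : (d * u) * (d * u) = 1 := by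
      have h3 := hinv d hd'
      rw [huinv] at h3
      calc d * u * (d * u) = d * (u * d * u) := by group
        _ = d * d⁻¹ := by rw [h3]
        _ = 1 := mul_inv_cancel d
    have hdvd : orderOf (d * u) ∣ 2 := by
      apply orderOf_dvd_of_pow_eq_one
      rw [pow_two]; exact hsq
    have h1' : orderOf (d * u) = 1 := by
      rcases (Nat.dvd_prime Nat.prime_two).mp hdvd with h | h
      · exact h
      · rw [h] at hodd; exact absurd hodd (by decide)
    rw [orderOf_eq_one_iff.mp h1']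
    exact D.one_mem

set_option maxHeartbeats 800000 in
/-- **M6b** in `_of` form over M2. -/
theorem sylow_central_in_odd_of {t s : G} {K : Subgroup G} (h : Hyp t s K) (hk : 4 ≤ Nat.card K)
    {X : G → ℂ} (hM : DataM K X)
    (hM2 : ∀ d ∈ RR K, ∀ u : G, orderOf u = 2 → u * d * u⁻¹ = d⁻¹ →
      ∀ Y : Subgroup G, Y ≤ Subgroup.centralizer ({d} : Set G) → Y ≠ ⊥ →
        Subgroup.normalizer (Y : Set G) =
          Subgroup.normalizer ((Subgroup.centralizer ({d} : Set G) : Subgroup G) : Set G) ∧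
        ∃ u' : G, orderOf u' = 2 ∧ u' ∉ Subgroup.centralizer ({d} : Set G) ∧
          (∀ c ∈ Subgroup.centralizer ({d} : Set G), u' * c * u'⁻¹ = c⁻¹) ∧
          Subgroup.normalizer ((Subgroup.centralizer ({d} : Set G) : Subgroup G) : Set G) =
            Subgroup.centralizer ({d} : Set G) ⊔ Subgroup.zpowers u')
    (L : Subgroup G) (hL : Odd (Nat.card L))
    (r : ℕ) [Fact r.Prime] (R : Subgroup G) (hRL : R ≤ L) (hR : R ≠ ⊥) (hRr : IsPGroup r R)
    (hR0 : ∀ e ∈ R, e ≠ 1 → ¬ (e ∈ RR K ∧ X e = 0)) :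
    Subgroup.normalizer (R : Set G) ⊓ L ≤ Subgroup.centralizer (R : Set G) := by
  classical
  -- odd orders in `L`
  have hoddL : ∀ n ∈ L, Odd (orderOf n) := by
    intro n hn
    have hdvd : orderOf n ∣ Nat.card L := by
      have := orderOf_dvd_natCard (⟨n, hn⟩ : L)
      rwa [Subgroup.orderOf_mk] at this
    exact hL.of_dvd_nat hdvd
  -- a central element of `R`
  obtain ⟨e, heR, he1, hecomm⟩ : ∃ e ∈ R, e ≠ 1 ∧ ∀ g ∈ R, g * e = e * g := by
    haveI : Nontrivial R := (Subgroup.nontrivial_iff_ne_bot R).mpr hR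
    haveI : Nontrivial (Subgroup.center R) := IsPGroup.center_nontrivial hRr
    obtain ⟨e', he'⟩ := exists_ne (1 : Subgroup.center R)
    refine ⟨((e' : R) : G), (e' : R).2, ?_, ?_⟩
    · intro h1
      apply he'
      apply Subtype.ext
      apply Subtype.ext
      exact h1
    · intro g hg
      have := (Subgroup.mem_center_iff.mp e'.2) ⟨g, hg⟩
      exact congrArg Subtype.val this
  have hRCe : R ≤ Subgroup.centralizer ({e} : Set G) := by
    intro g hg
    exact Subgroup.mem_centralizer_singleton_iff.mpr (hecomm g hg)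
  intro n hn
  obtain ⟨hnN, hnL⟩ := hn
  rw [Subgroup.mem_centralizer_iff]
  intro g hg
  have hgR : g ∈ R := hg
  rcases Cfsg.Agent.Lib.Helper14.BSWB0a.mem_KK_or_mem_RR K e he1 with hKK | hRR
  · -- `e` is conjugate into `K`
    obtain ⟨-, x, hx⟩ := hKK
    have h' := Cfsg.Agent.Lib.Helper14.BSWB0b.hyp_conj h x⁻¹
    set K' : Subgroup G := K.map (MulAut.conj x⁻¹).toMonoidHom with hK'def
    set t' : G := x⁻¹ * t * x⁻¹⁻¹ with ht'def
    have heK' : e ∈ K' := by
      refine ⟨x * e * x⁻¹, hx, ?_⟩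
      simp only [MulEquiv.coe_toMonoidHom, MulAut.conj_apply]
      group
    obtain ⟨hB5a, hB5b⟩ := Cfsg.Agent.Lib.Helper12.BSWB5.normalizer_eq_cent h'
    have hB6 := Cfsg.Agent.Lib.Helper12.BSWB6.odd_mem_K h'
    have hCe : Subgroup.centralizer ({e} : Set G) ≤ Subgroup.centralizer ({t'} : Set G) :=
      hB5b e heK' he1
    have hRK' : R ≤ K' := by
      intro c hc
      exact hB6 c (hCe (hRCe hc)) (hoddL c (hRL hc))
    have hNR : Subgroup.normalizer (R : Set G) = Subgroup.centralizer ({t'} : Set G) :=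
      hB5a R hRK' hR
    have hnK' : n ∈ K' := by
      apply hB6 n _ (hoddL n hnL)
      rw [← hNR]; exact hnN
    have hgK' : g ∈ K' := hRK' hgR
    have hcomm : (⟨g, hgK'⟩ : K') * ⟨n, hnK'⟩ = ⟨n, hnK'⟩ * ⟨g, hgK'⟩ :=
      h'.hKab.is_comm.comm _ _
    exact congrArg Subtype.val hcomm
  · -- `e ∈ RR K` is real
    have hXe : X e ≠ 0 := fun h0 => hR0 e heR he1 ⟨hRR, h0⟩
    have hinvc : invCount e ≠ 0 := by
      rcases hM.onRR e hRR with ⟨h0, _⟩ | ⟨_, h1⟩
      · exact absurd h0 hXe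
      · rw [h1]; omega
    obtain ⟨u, hu, hue⟩ := (Cfsg.Agent.Lib.Helper14.BSWB0a.invCount_ne_zero_iff e).mp hinvc
    obtain ⟨hDab, -⟩ := Cfsg.Agent.Lib.Helper2.BSWG3.centralizer_eq_of_mem h e hRR u hu hue
    obtain ⟨hNR, u', hu', -, hu'inv, hND⟩ := hM2 e hRR u hu hue R hRCe hR
    have hnD : n ∈ Subgroup.centralizer ({e} : Set G) := by
      apply mem_of_odd_of_mem_sup _ u' hu' hu'inv n _ (hoddL n hnL)
      rw [← hND, ← hNR]; exact hnN
    exact hDab g (hRCe hgR) n hnD

end Cfsg.Agent.Lib.Helper19.BSWM6b
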