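/-
helper19: S3282 leaves M6b `sylow_central_in_odd` and M6 `centralizer_eq_of_mem_R0`, EXACT forms
(`BSWM6b.sylow_central_in_odd_of`, `BSWM6.centralizer_eq_of_mem_R0_of` + the landed leaves of
helper2 (G1-G4), helper15 (M1/M2 `_of`), helper21 (M3/M4/M5)).
-/
import Mathlib
import Cfsg.Prelude.Def_Characters
import Cfsg.Agent.Lib.Helper24.BSWDefs
import Cfsg.Agent.Lib.Helper2.BSWG1
import Cfsg.Agent.Lib.Helper2.BSWG2
import Cfsg.Agent.Lib.Helper2.BSWG3
import Cfsg.Agent.Lib.Helper2.BSWG4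
import Cfsg.Agent.Lib.Helper15.BSWM1Of
import Cfsg.Agent.Lib.Helper15.BSWM2Of
import Cfsg.Agent.Lib.Helper21.BSWM345X
import Cfsg.Agent.Lib.Helper19.BSWM6b
import Cfsg.Agent.Lib.Helper19.BSWM6

set_option autoImplicit false
open Cfsg Cfsg.Agent.Lib.Helper24.BSW

namespace Cfsg.Agent.Lib.Helper19.BSWM6X

variable {G : Type*} [Group G] [Finite G]

/-- **M1** (assembled from helper15's `_of` form and helper2's G2, G4). -/
theorem normalizer_D' {t s : G} {K : Subgroup G} (h : Hyp t s K) (hk : 4 ≤ Nat.card K)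
    {X : G → ℂ} (hM : DataM K X) :
    ∀ d ∈ RR K, ∀ u : G, orderOf u = 2 → u * d * u⁻¹ = d⁻¹ →
      Nat.card (Subgroup.centralizer ({d} : Set G)) = Nat.card K - 1 ∧
      Subgroup.normalizer ((Subgroup.centralizer ({d} : Set G) : Subgroup G) : Set G) =
        Subgroup.centralizer ({d} : Set G) ⊔ Subgroup.zpowers u :=
  Cfsg.Agent.Lib.Helper15.BSWM1Of.normalizer_D_of h hk hM
    (Cfsg.Agent.Lib.Helper2.BSWG2.invCount_eq_card h)
    (Cfsg.Agent.Lib.Helper2.BSWG4.normalizer_struct h)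

/-- **M2** (assembled from helper15's `_of` form, helper2's G1, G3 and M1). -/
theorem last_clause_D' {t s : G} {K : Subgroup G} (h : Hyp t s K) (hk : 4 ≤ Nat.card K)
    {X : G → ℂ} (hM : DataM K X) :
    ∀ d ∈ RR K, ∀ u : G, orderOf u = 2 → u * d * u⁻¹ = d⁻¹ →
      ∀ Y : Subgroup G, Y ≤ Subgroup.centralizer ({d} : Set G) → Y ≠ ⊥ →
        Subgroup.normalizer (Y : Set G) =
          Subgroup.normalizer ((Subgroup.centralizer ({d} : Set G) : Subgroup G) : Set G) ∧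
        ∃ u' : G, orderOf u' = 2 ∧ u' ∉ Subgroup.centralizer ({d} : Set G) ∧
          (∀ c ∈ Subgroup.centralizer ({d} : Set G), u' * c * u'⁻¹ = c⁻¹) ∧
          Subgroup.normalizer ((Subgroup.centralizer ({d} : Set G) : Subgroup G) : Set G) =
            Subgroup.centralizer ({d} : Set G) ⊔ Subgroup.zpowers u' :=
  Cfsg.Agent.Lib.Helper15.BSWM2Of.last_clause_D_of h
    (Cfsg.Agent.Lib.Helper2.BSWG1.inverts_centralizer h)
    (Cfsg.Agent.Lib.Helper2.BSWG3.centralizer_eq_of_mem h)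
    (normalizer_D' h hk hM)

/-- **M6b** Let `L` be a subgroup of odd order and `R ≤ L` a nontrivial `r`-subgroup none of whose
nonidentity elements lies in `R0`.  Then `N_L(R)` centralizes `R`. -/
theorem sylow_central_in_odd {t s : G} {K : Subgroup G} (h : Hyp t s K) (hk : 4 ≤ Nat.card K)
    {X : G → ℂ} (hM : DataM K X) (L : Subgroup G) (hL : Odd (Nat.card L))
    (r : ℕ) [Fact r.Prime] (R : Subgroup G) (hRL : R ≤ L) (hR : R ≠ ⊥) (hRr : IsPGroup r R)
    (hR0 : ∀ e ∈ R, e ≠ 1 → ¬ (e ∈ RR K ∧ X e = 0)) :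
    Subgroup.normalizer (R : Set G) ⊓ L ≤ Subgroup.centralizer (R : Set G) :=
  Cfsg.Agent.Lib.Helper19.BSWM6b.sylow_central_in_odd_of h hk hM (last_clause_D' h hk hM)
    L hL r R hRL hR hRr hR0

/-- **M6** for `y ∈ R0`: `C(z) = C(y)` for all `1 ≠ z ∈ C(y)`. -/
theorem centralizer_eq_of_mem_R0 {t s : G} {K : Subgroup G} (h : Hyp t s K)
    (hk : 4 ≤ Nat.card K) {X : G → ℂ} (hM : DataM K X) :
    ∀ y ∈ RR K, X y = 0 → ∀ z ∈ Subgroup.centralizer ({y} : Set G), z ≠ 1 →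
      Subgroup.centralizer ({z} : Set G) = Subgroup.centralizer ({y} : Set G) :=
  Cfsg.Agent.Lib.Helper19.BSWM6.centralizer_eq_of_mem_R0_of h hk hM
    (Cfsg.Agent.Lib.Helper21.BSWM345X.centralizer_dvd h hk hM)
    (Cfsg.Agent.Lib.Helper21.BSWM345X.centralizer_card h hk hM)
    (Cfsg.Agent.Lib.Helper21.BSWM345X.prime_power h hk hM)
    (fun L hL r _ R hRL hR hRr hR0 => sylow_central_in_odd h hk hM L hL r R hRL hR hRr hR0)

/-- The Sylow structure in case M (see `BSWM6.sylow_struct_of`), unconditional. -/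
theorem sylow_struct {t s : G} {K : Subgroup G} (h : Hyp t s K)
    (hk : 4 ≤ Nat.card K) {X : G → ℂ} (hM : DataM K X) :
    ∃ (p : ℕ) (_ : Fact p.Prime) (a : ℕ), 2 * Nat.card K - 1 = p ^ a ∧
      (∀ y ∈ RR K, X y = 0 → ∃ P : Sylow p G,
        (P : Subgroup G) = Subgroup.centralizer ({y} : Set G)) ∧
      (∀ P : Sylow p G, ∀ z ∈ P, z ≠ 1 → z ∈ RR K ∧ X z = 0) ∧
      (∀ P Q : Sylow p G, P ≠ Q → (P : Subgroup G) ⊓ (Q : Subgroup G) = ⊥) :=
  Cfsg.Agent.Lib.Helper19.BSWM6.sylow_struct_of h hk hM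
    (Cfsg.Agent.Lib.Helper21.BSWM345X.centralizer_dvd h hk hM)
    (Cfsg.Agent.Lib.Helper21.BSWM345X.centralizer_card h hk hM)
    (Cfsg.Agent.Lib.Helper21.BSWM345X.prime_power h hk hM)
    (fun L hL r _ R hRL hR hRr hR0 => sylow_central_in_odd h hk hM L hL r R hRL hR hRr hR0)

end Cfsg.Agent.Lib.Helper19.BSWM6X
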