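/-
helper19: S3282 (Brauer-Suzuki-Wall, abstract form), leaf M7 `card_normalizer_Q`, EXACT form
(over `BSWM6X.sylow_struct` and helper21's M4).
-/
import Mathlib
import Cfsg.Prelude.Def_Characters
import Cfsg.Agent.Lib.Helper24.BSWDefs
import Cfsg.Agent.Lib.Helper21.BSWM345X
import Cfsg.Agent.Lib.Helper19.BSWM6X

set_option autoImplicit false
open Cfsg Cfsg.Agent.Lib.Helper24.BSW

namespace Cfsg.Agent.Lib.Helper19.BSWM7

variable {G : Type*} [Group G] [Finite G]

omit [Finite G] in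
/-- the number of nonidentity elements of a finite subgroup -/
theorem card_ne_one (P : Subgroup G) [Finite P] :
    Nat.card {z : G // z ∈ P ∧ z ≠ 1} = Nat.card P - 1 := by
  have hset : {z : G | z ∈ P ∧ z ≠ 1} = (P : Set G) \ {1} := by
    ext z
    simp
  have h1 : Nat.card {z : G // z ∈ P ∧ z ≠ 1} = Set.ncard {z : G | z ∈ P ∧ z ≠ 1} :=
    Nat.card_coe_set_eq _
  rw [h1, hset]
  have hfin : (P : Set G).Finite := Set.toFinite _
  rw [Set.ncard_diff_singleton_of_mem (P.one_mem) ]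
  congr 1

set_option maxHeartbeats 800000 in
/-- **M7** for `y ∈ R0`: `|N(C(y))| = q (k-1)`. -/
theorem card_normalizer_Q {t s : G} {K : Subgroup G} (h : Hyp t s K) (hk : 4 ≤ Nat.card K)
    {X : G → ℂ} (hM : DataM K X) :
    ∀ y ∈ RR K, X y = 0 →
      Nat.card (Subgroup.normalizer ((Subgroup.centralizer ({y} : Set G) : Subgroup G) : Set G)) =
        (2 * Nat.card K - 1) * (Nat.card K - 1) := by
  classical
  intro y hy hXy
  obtain ⟨p, hpF, a, hqa, hS2, hS3, hS4⟩ :=
    Cfsg.Agent.Lib.Helper19.BSWM6X.sylow_struct h hk hM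
  have hM4 := Cfsg.Agent.Lib.Helper21.BSWM345X.centralizer_card h hk hM
  obtain ⟨P, hP⟩ := hS2 y hy hXy
  -- all Sylow subgroups have order `2k-1`
  have hcardS : ∀ Q : Sylow p G, Nat.card (Q : Subgroup G) = 2 * Nat.card K - 1 := by
    intro Q
    rw [Sylow.card_eq_multiplicity Q, ← Sylow.card_eq_multiplicity P, hP]
    exact (hM4 y hy hXy).1
  haveI : Fintype (Sylow p G) := Fintype.ofFinite _
  -- the bijection
  let f : (Σ Q : Sylow p G, {z : G // z ∈ (Q : Subgroup G) ∧ z ≠ 1}) →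
      {y : G // y ∈ RR K ∧ X y = 0} :=
    fun x => ⟨x.2.1, hS3 x.1 x.2.1 x.2.2.1 x.2.2.2⟩
  have hf : Function.Bijective f := by
    constructor
    · rintro ⟨Q, ⟨z, hzQ, hz1⟩⟩ ⟨Q', ⟨z', hz'Q', hz'1⟩⟩ hEq
      have hzz' : z = z' := congrArg Subtype.val hEq
      subst hzz'
      have hQQ' : Q = Q' := by
        by_contra hne
        have hbot := hS4 Q Q' hne
        have hmem : z ∈ (Q : Subgroup G) ⊓ (Q' : Subgroup G) := ⟨hzQ, hz'Q'⟩
        rw [hbot] at hmem
        exact hz1 (Subgroup.mem_bot.mp hmem)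
      subst hQQ'
      rfl
    · rintro ⟨z, hzRR, hzX⟩
      obtain ⟨Q, hQ⟩ := hS2 z hzRR hzX
      have hzQ : z ∈ (Q : Subgroup G) := by
        rw [hQ]; exact Subgroup.mem_centralizer_singleton_iff.mpr rfl
      exact ⟨⟨Q, ⟨z, hzQ, hzRR.1⟩⟩, rfl⟩
  have hcount : Nat.card {y : G // y ∈ RR K ∧ X y = 0} =
      Nat.card (Sylow p G) * (2 * Nat.card K - 2) := by
    rw [← Nat.card_eq_of_bijective f hf, Nat.card_sigma]
    have hterm : ∀ Q : Sylow p G,
        Nat.card {z : G // z ∈ (Q : Subgroup G) ∧ z ≠ 1} = 2 * Nat.card K - 2 := by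
      intro Q
      rw [card_ne_one, hcardS Q]
      omega
    rw [Finset.sum_congr rfl (fun Q _ => hterm Q), Finset.sum_const, Finset.card_univ,
      smul_eq_mul, ← Nat.card_eq_fintype_card]
  rw [hM.card0] at hcount
  -- the number of Sylow subgroups
  have hnp : Nat.card (Sylow p G) = 2 * Nat.card K := by
    have h0 : 0 < 2 * Nat.card K - 2 := by omega
    apply Nat.eq_of_mul_eq_mul_right h0
    rw [← hcount]
    have hk1 : 1 ≤ Nat.card K := by omega
    obtain ⟨m, hm⟩ : ∃ m, Nat.card K = m + 1 := ⟨Nat.card K - 1, by omega⟩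
    rw [hm]
    have e1 : m + 1 - 1 = m := by omega
    have e2 : 2 * (m + 1) - 2 = 2 * m := by omega
    rw [e1, e2]; ring
  have hidx : (Subgroup.normalizer ((P : Subgroup G) : Set G)).index = 2 * Nat.card K := by
    have h1 := Sylow.card_eq_index_normalizer P
    rw [hnp] at h1
    exact h1.symm
  rw [hP] at hidx
  have hmul := (Subgroup.normalizer
    ((Subgroup.centralizer ({y} : Set G) : Subgroup G) : Set G)).card_mul_index
  rw [hidx, hM.card] at hmul
  have h0 : 0 < 2 * Nat.card K := by omega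
  apply Nat.eq_of_mul_eq_mul_right h0
  rw [hmul]
  obtain ⟨m, hm⟩ : ∃ m, Nat.card K = m + 1 := ⟨Nat.card K - 1, by omega⟩
  rw [hm]
  have e1 : m + 1 - 1 = m := by omega
  have e2 : 2 * (m + 1) - 2 = 2 * m := by omega
  have e3 : 2 * (m + 1) - 1 = 2 * m + 1 := by omega
  rw [e1, e2, e3]; ring

end Cfsg.Agent.Lib.Helper19.BSWM7
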