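/-
helper19: S3282 (Brauer-Suzuki-Wall, abstract form), leaf M9 `exists_D_le_normalizer`.
`_of` form over the leaves B8, M3, M4, M7, M8 (verbatim conclusions as hypotheses).
-/
import Mathlib
import Cfsg.Prelude.Def_Characters
import Cfsg.Agent.Lib.Helper24.BSWDefs
import Cfsg.Agent.Lib.Helper6.IndFun
import Cfsg.Agent.Lib.Helper6.CharExtra
import Cfsg.Agent.Lib.Helper6.Gallagher2

set_option autoImplicit false
open Cfsg Cfsg.Agent.Lib.Helper24.BSW

namespace Cfsg.Agent.Lib.Helper19.BSWM9

open Cfsg.Agent.CharLib Cfsg.Agent.Lib.Helper6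
open scoped ComplexConjugate

variable {G : Type*} [Group G] [Finite G]

omit [Group G] [Finite G] in
/-- pigeonhole on a type with two elements -/
theorem two_of_three {F : Type*} (hF : Nat.card F = 2) (a b c : F) : a = b ∨ b = c ∨ a = c := by
  classical
  by_contra hcon
  push_neg at hcon
  obtain ⟨h1, h2, h3⟩ := hcon
  haveI : Finite F := Nat.finite_of_card_ne_zero (by omega)
  haveI := Fintype.ofFinite F
  have hc : ({a, b, c} : Finset F).card = 3 := by
    rw [Finset.card_insert_of_notMem, Finset.card_insert_of_notMem, Finset.card_singleton]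
    · simpa using h2
    · simp only [Finset.mem_insert, Finset.mem_singleton]
      tauto
  have := Finset.card_le_univ ({a, b, c} : Finset F)
  rw [hc, ← Nat.card_eq_fintype_card, hF] at this
  omega

omit [Finite G] in
/-- A subgroup of odd order commuting with `e ∈ N` lies in `N` when `e` fixes exactly two cosets
of `N`. -/
theorem le_of_two_fixed (N C : Subgroup G) [Finite C] (e : G) (he : e ∈ N) (hC : Odd (Nat.card C))
    (hcomm : ∀ c ∈ C, c * e = e * c)
    (h2 : Nat.card {q : G ⧸ N // e • q = q} = 2) : C ≤ N := by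
  intro c hc
  have hfix : ∀ g : G, g * e = e * g → e • (QuotientGroup.mk g : G ⧸ N) = QuotientGroup.mk g := by
    intro g hg
    rw [MulAction.Quotient.smul_mk, smul_eq_mul, ← hg]
    apply (QuotientGroup.eq).mpr
    have : (g * e)⁻¹ * g = e⁻¹ := by group
    rw [this]
    exact N.inv_mem he
  have hce := hcomm c hc
  have hcce : c * c * e = e * (c * c) := by
    rw [mul_assoc, hce, ← mul_assoc, hce, mul_assoc]
  let p0 : {q : G ⧸ N // e • q = q} := ⟨QuotientGroup.mk 1, hfix 1 (by simp)⟩
  let p1 : {q : G ⧸ N // e • q = q} := ⟨QuotientGroup.mk c, hfix c hce⟩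
  let p2 : {q : G ⧸ N // e • q = q} := ⟨QuotientGroup.mk (c * c), hfix (c * c) hcce⟩
  rcases two_of_three h2 p0 p1 p2 with h | h | h
  · have h' : (QuotientGroup.mk (1 : G) : G ⧸ N) = QuotientGroup.mk c := congrArg Subtype.val h
    have := (QuotientGroup.eq).mp h'
    simpa using this
  · have h' : (QuotientGroup.mk c : G ⧸ N) = QuotientGroup.mk (c * c) := congrArg Subtype.val h
    have := (QuotientGroup.eq).mp h'
    simpa using this
  · have h' : (QuotientGroup.mk (1 : G) : G ⧸ N) = QuotientGroup.mk (c * c) :=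
      congrArg Subtype.val h
    have hcc : c * c ∈ N := by
      have := (QuotientGroup.eq).mp h'
      simpa using this
    -- `c` has odd order
    have hord : orderOf c ∣ Nat.card C := by
      have := orderOf_dvd_natCard (⟨c, hc⟩ : C)
      rwa [Subgroup.orderOf_mk] at this
    have hodd : Odd (orderOf c) := hC.of_dvd_nat hord
    obtain ⟨m, hm⟩ := hodd
    have : c = (c * c) ^ (m + 1) := by
      rw [← pow_two, ← pow_mul]
      have h3 : 2 * (m + 1) = orderOf c + 1 := by omega
      rw [h3, pow_succ, pow_orderOf_eq_one, one_mul]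
    rw [this]
    exact N.pow_mem hcc _

set_option maxHeartbeats 800000 in
/-- **M9** in `_of` form. -/
theorem exists_D_le_normalizer_of {t s : G} {K : Subgroup G} (_h : Hyp t s K)
    (hk : 4 ≤ Nat.card K) {X : G → ℂ} (hM : DataM K X)
    (hB8 : ∀ y ∈ RR K, Odd (Nat.card (Subgroup.centralizer ({y} : Set G))) ∧
      ∀ z ∈ Subgroup.centralizer ({y} : Set G), z ≠ 1 → z ∈ RR K)
    (hM3 : ∀ y ∈ RR K, X y = 0 →
      (∀ z ∈ Subgroup.centralizer ({y} : Set G), z ≠ 1 → X z = 0) ∧
      Nat.card (Subgroup.centralizer ({y} : Set G)) ∣ 2 * Nat.card K - 1)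
    (hM4 : ∀ y ∈ RR K, X y = 0 →
      Nat.card (Subgroup.centralizer ({y} : Set G)) = 2 * Nat.card K - 1 ∧
      ∀ z ∈ RR K, X z = 0 → IsConj z y ∨ IsConj z y⁻¹)
    (hM7 : ∀ y ∈ RR K, X y = 0 →
      Nat.card (Subgroup.normalizer ((Subgroup.centralizer ({y} : Set G) : Subgroup G) : Set G)) =
        (2 * Nat.card K - 1) * (Nat.card K - 1))
    (hM8 : ∀ y ∈ RR K, X y = 0 →
      ∀ g ∈ Subgroup.normalizer ((Subgroup.centralizer ({y} : Set G) : Subgroup G) : Set G),
        g ∉ Subgroup.centralizer ({y} : Set G) → g ∈ RR K ∧ X g = 1) :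
    ∀ y ∈ RR K, X y = 0 →
      ∃ e ∈ Subgroup.normalizer ((Subgroup.centralizer ({y} : Set G) : Subgroup G) : Set G),
        e ∉ Subgroup.centralizer ({y} : Set G) ∧
        Subgroup.centralizer ({e} : Set G) ≤
          Subgroup.normalizer ((Subgroup.centralizer ({y} : Set G) : Subgroup G) : Set G) := by
  classical
  intro y hy hXy
  set Q : Subgroup G := Subgroup.centralizer ({y} : Set G) with hQdef
  set N : Subgroup G := Subgroup.normalizer (Q : Set G) with hNdef
  have hQN : Q ≤ N := Subgroup.le_normalizer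
  have hQcard : Nat.card Q = 2 * Nat.card K - 1 := (hM4 y hy hXy).1
  have hNcard : Nat.card N = (2 * Nat.card K - 1) * (Nat.card K - 1) := hM7 y hy hXy
  have hXQ : ∀ z ∈ Q, z ≠ 1 → X z = 0 := (hM3 y hy hXy).1
  have hXN : ∀ g ∈ N, g ∉ Q → g ∈ RR K ∧ X g = 1 := hM8 y hy hXy
  -- an element of `N \ Q`
  obtain ⟨e, heN, heQ⟩ : ∃ e ∈ N, e ∉ Q := by
    by_contra hcon
    push_neg at hcon
    have hle : N ≤ Q := fun g hg => hcon g hg
    have heq : N = Q := le_antisymm hle hQN
    have : Nat.card N = Nat.card Q := by rw [heq]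
    rw [hNcard, hQcard] at this
    have h1 : 0 < 2 * Nat.card K - 1 := by omega
    have h2 : Nat.card K - 1 = 1 := by
      have := Nat.eq_of_mul_eq_mul_left h1 (this.trans (mul_one _).symm)
      exact this
    omega
  refine ⟨e, heN, heQ, ?_⟩
  obtain ⟨heRR, hXe⟩ := hXN e heN heQ
  have hodd : Odd (Nat.card (Subgroup.centralizer ({e} : Set G))) := (hB8 e heRR).1
  haveI : Fintype G := Fintype.ofFinite G
  haveI : Fintype N := Fintype.ofFinite N
  have hXirr : IsIrrCharacter G X := hM.irr
  have hXchar : IsCharacter G X := IsIrrCharacter.isCharacter hXirr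
  have hXcf : IsClassFunction G X := IsCharacter.isClassFunction hXchar
  set ψ : G → ℂ := indFun N (1 : N → ℂ) with hψdef
  have hψchar : IsCharacter G ψ :=
    IsCharacter.indFun N (IsIrrCharacter.isCharacter (isIrrCharacter_one N))
  have hk2 : 1 ≤ 2 * Nat.card K := by omega
  have hk1 : 1 ≤ Nat.card K := by omega
  have hNC : (Nat.card N : ℂ) = (2 * (Nat.card K : ℂ) - 1) * ((Nat.card K : ℂ) - 1) := by
    rw [hNcard]; push_cast [Nat.cast_sub hk2, Nat.cast_sub hk1]; ring
  have hQC : (Nat.card Q : ℂ) = 2 * (Nat.card K : ℂ) - 1 := by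
    rw [hQcard]; push_cast [Nat.cast_sub hk2]; ring
  have hGC : (Nat.card G : ℂ) = 2 * (Nat.card K : ℂ) * (Nat.card N : ℂ) := by
    rw [hNC, hM.card]
    have h22 : 2 ≤ 2 * Nat.card K := by omega
    push_cast [Nat.cast_sub hk2, Nat.cast_sub h22]; ring
  have hN0 : (Nat.card N : ℂ) ≠ 0 := by
    exact_mod_cast (Nat.card_pos (α := N)).ne'
  -- degree of `ψ`
  have hψ1 : ψ 1 = ((2 * Nat.card K : ℕ) : ℂ) := by
    rw [hψdef, Cfsg.Agent.Lib.Helper6.indFun_apply_one, hGC]
    push_cast
    simp only [Pi.one_apply]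
    field_simp
  -- the sum of `X` over `N`
  have hsum : ∑ n : N, X n = (Nat.card N : ℂ) := by
    have hpt : ∀ n : N, X n = 1 - (if n ∈ Q.subgroupOf N then (1 : ℂ) else 0) +
        (if n = 1 then (2 * (Nat.card K : ℂ) - 1) else 0) := by
      intro n
      by_cases hn1 : n = 1
      · have : n ∈ Q.subgroupOf N := by rw [hn1]; exact Subgroup.one_mem _
        rw [if_pos this, if_pos hn1, hn1, Subgroup.coe_one, hM.deg]; ring
      · by_cases hnQ : n ∈ Q.subgroupOf N
        · rw [if_pos hnQ, if_neg hn1]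
          have h1 : (n : G) ≠ 1 := fun h => hn1 (Subtype.ext h)
          rw [hXQ n (Subgroup.mem_subgroupOf.mp hnQ) h1]; ring
        · rw [if_neg hnQ, if_neg hn1]
          have := (hXN n n.2 (fun h => hnQ (Subgroup.mem_subgroupOf.mpr h))).2
          rw [this]; ring
    rw [Finset.sum_congr rfl (fun n _ => hpt n), Finset.sum_add_distrib, Finset.sum_sub_distrib,
      Finset.sum_const, Finset.card_univ, Finset.sum_boole, Finset.sum_ite_eq' Finset.univ (1 : N)]
    simp only [Finset.mem_univ, if_true, nsmul_eq_mul, mul_one]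
    have hcardf : (Finset.univ.filter (fun n : N => n ∈ Q.subgroupOf N)).card = Nat.card Q := by
      rw [← Fintype.card_subtype, ← Nat.card_eq_fintype_card]
      exact Nat.card_congr (Subgroup.subgroupOfEquivOfLe hQN).toEquiv
    rw [hcardf, hQC, ← Nat.card_eq_fintype_card]
    ring
  -- multiplicities
  have hψX : classInner ψ X = 1 := by
    rw [hψdef, classInner_indFun_one N hXcf, hsum, Complex.conj_natCast]
    field_simp
  have h1irr : IsIrrCharacter G (1 : G → ℂ) := isIrrCharacter_one G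
  have hψ1' : classInner ψ (1 : G → ℂ) = 1 := by
    rw [hψdef, classInner_indFun_one N
      (IsCharacter.isClassFunction (IsIrrCharacter.isCharacter h1irr))]
    simp only [Pi.one_apply, Finset.sum_const, Finset.card_univ, nsmul_eq_mul, mul_one]
    rw [← Nat.card_eq_fintype_card, Complex.conj_natCast]
    field_simp
  have hΦ : IsCharacter G (ψ - 1) :=
    IsCharacter.sub_constituent hψchar h1irr (by rw [hψ1']; exact one_ne_zero)
  have h1X : (1 : G → ℂ) ≠ X := by
    intro h1
    have := congrFun h1 1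
    rw [hM.deg, Pi.one_apply] at this
    have h4 : (4 : ℝ) ≤ (Nat.card K : ℝ) := by exact_mod_cast hk
    have h5 : ((Nat.card K : ℕ) : ℂ) = 1 := by linear_combination (-1 / 2 : ℂ) * this
    have h6 : Nat.card K = 1 := by exact_mod_cast h5
    omega
  have hΦX : classInner (ψ - 1) X ≠ 0 := by
    rw [classInner_sub_left, hψX, classInner_irr h1irr hXirr, if_neg h1X, sub_zero]
    exact one_ne_zero
  have hΦ1 : (ψ - 1) 1 = ((2 * Nat.card K - 1 : ℕ) : ℂ) := by
    rw [Pi.sub_apply, hψ1, Pi.one_apply]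
    push_cast [Nat.cast_sub hk2]; ring
  have hX1 : X 1 = ((2 * Nat.card K - 1 : ℕ) : ℂ) := by
    rw [hM.deg]; push_cast [Nat.cast_sub hk2]; ring
  have hΦeq : ψ - 1 = X :=
    IsCharacter.eq_of_constituent_of_degree_le hΦ hXirr hΦX hΦ1 hX1 le_rfl
  have hψe : ψ e = 2 := by
    have := congrFun hΦeq e
    rw [Pi.sub_apply, Pi.one_apply, hXe] at this
    linear_combination this
  have hfix : Nat.card {q : G ⧸ N // e • q = q} = 2 := by
    have h1 := Cfsg.Agent.Lib.Helper6.indFun_one_eq_card_fixed N e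
    have h2 : indFun N (fun _ => (1 : ℂ)) e = 2 := hψe
    rw [h2] at h1
    exact_mod_cast h1.symm
  exact le_of_two_fixed N (Subgroup.centralizer ({e} : Set G)) e heN hodd
    (fun c hc => Subgroup.mem_centralizer_singleton_iff.mp hc) hfix

end Cfsg.Agent.Lib.Helper19.BSWM9
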