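/-
helper19: S3282 leaves M8 `normalizer_Q_elements` (helper21's `_of` form + my M7) and
M9 `exists_D_le_normalizer`, EXACT forms.
-/
import Mathlib
import Cfsg.Prelude.Def_Characters
import Cfsg.Agent.Lib.Helper24.BSWDefs
import Cfsg.Agent.Lib.Helper12.BSWB8
import Cfsg.Agent.Lib.Helper21.BSWM345X
import Cfsg.Agent.Lib.Helper21.BSWM8
import Cfsg.Agent.Lib.Helper19.BSWM7
import Cfsg.Agent.Lib.Helper19.BSWM9

set_option autoImplicit false
open Cfsg Cfsg.Agent.Lib.Helper24.BSW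

namespace Cfsg.Agent.Lib.Helper19.BSWM9X

variable {G : Type*} [Group G] [Finite G]

/-- **M8** for `y ∈ R0`, `Q = C(y)`: every `g ∈ N(Q) \ Q` lies in `RR K` with `X g = 1`. -/
theorem normalizer_Q_elements {t s : G} {K : Subgroup G} (h : Hyp t s K) (hk : 4 ≤ Nat.card K)
    {X : G → ℂ} (hM : DataM K X) :
    ∀ y ∈ RR K, X y = 0 →
      ∀ g ∈ Subgroup.normalizer ((Subgroup.centralizer ({y} : Set G) : Subgroup G) : Set G),
        g ∉ Subgroup.centralizer ({y} : Set G) → g ∈ RR K ∧ X g = 1 :=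
  Cfsg.Agent.Lib.Helper21.BSWM8.normalizer_Q_elements_of h hk hM
    (Cfsg.Agent.Lib.Helper19.BSWM7.card_normalizer_Q h hk hM)

/-- **M9** for `y ∈ R0`, `Q = C(y)`, `N = N(Q)`: there is `e ∈ N \ Q` with `C(e) ≤ N`. -/
theorem exists_D_le_normalizer {t s : G} {K : Subgroup G} (h : Hyp t s K) (hk : 4 ≤ Nat.card K)
    {X : G → ℂ} (hM : DataM K X) :
    ∀ y ∈ RR K, X y = 0 →
      ∃ e ∈ Subgroup.normalizer ((Subgroup.centralizer ({y} : Set G) : Subgroup G) : Set G),
        e ∉ Subgroup.centralizer ({y} : Set G) ∧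
        Subgroup.centralizer ({e} : Set G) ≤
          Subgroup.normalizer ((Subgroup.centralizer ({y} : Set G) : Subgroup G) : Set G) :=
  Cfsg.Agent.Lib.Helper19.BSWM9.exists_D_le_normalizer_of h hk hM
    (Cfsg.Agent.Lib.Helper12.BSWB8.RR_centralizer h)
    (Cfsg.Agent.Lib.Helper21.BSWM345X.centralizer_dvd h hk hM)
    (Cfsg.Agent.Lib.Helper21.BSWM345X.centralizer_card h hk hM)
    (Cfsg.Agent.Lib.Helper19.BSWM7.card_normalizer_Q h hk hM)
    (normalizer_Q_elements h hk hM)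

end Cfsg.Agent.Lib.Helper19.BSWM9X
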