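/-
helper19: linear algebra of an involution in a complex representation: trace and determinant in
terms of the multiplicity of the eigenvalue `-1`.
-/
import Mathlib
import Cfsg.Prelude.Def_Blocks
import Cfsg.Agent.Lib.Lead.CharBasic

set_option autoImplicit false

namespace Cfsg.Agent.Lib.Helper19.IP

open Cfsg Cfsg.Agent.CharLib
open Module

universe u v

variable {G : Type u} [Group G]

/-- the determinant of an endomorphism diagonal in the basis `b` with diagonal entries `μ` -/
theorem det_eq_prod_of_eigenbasis {V : Type*} [AddCommGroup V] [Module ℂ V]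
    {ι : Type*} [Fintype ι] [DecidableEq ι] (b : Basis ι ℂ V) (f : End ℂ V) (μ : ι → ℂ)
    (h : ∀ i, f (b i) = μ i • b i) :
    LinearMap.det f = ∏ i, μ i := by
  rw [← LinearMap.det_toMatrix b f]
  have : LinearMap.toMatrix b b f = Matrix.diagonal μ := by
    ext i j
    rw [LinearMap.toMatrix_apply, h j, map_smul, Finsupp.smul_apply, Basis.repr_self,
      Matrix.diagonal_apply, Finsupp.single_apply, smul_eq_mul]
    by_cases hij : i = j
    · subst hij
      simp
    · rw [if_neg hij, if_neg (Ne.symm hij), mul_zero]
  rw [this, Matrix.det_diagonal]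

/-- trace and determinant of the image of an involution -/
theorem involution_data {V : Type v} [AddCommGroup V] [Module ℂ V] [FiniteDimensional ℂ V]
    (ρ : Representation ℂ G V) (t : G) (ht : t * t = 1) :
    ∃ m : ℕ, m ≤ finrank ℂ V ∧ ρ.character t = (finrank ℂ V : ℂ) - 2 * (m : ℂ) ∧
      LinearMap.det (ρ t) = (-1 : ℂ) ^ m ∧ (m = 0 → ρ t = 1) ∧ (m = finrank ℂ V → ρ t = -1) := by
  classical
  have hsq : (ρ t) ^ 2 = 1 := by
    rw [pow_two, ← map_mul, ht, map_one]
  obtain ⟨ι, hι, b, μ, h1, h2⟩ := exists_eigenbasis_of_pow_eq_one (ρ t) 2 (by norm_num) hsq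
  have hμ : ∀ i, μ i = 1 ∨ μ i = -1 := by
    intro i
    have := h1 i
    rw [pow_two] at this
    exact mul_self_eq_one_iff.mp this
  have hn : finrank ℂ V = Fintype.card ι := finrank_eq_card_basis b
  set s : Finset ι := Finset.univ.filter (fun i => μ i = -1) with hs
  have hμs : ∀ i, μ i = if i ∈ s then -1 else 1 := by
    intro i
    by_cases hi : μ i = -1
    · have hi' : i ∈ s := Finset.mem_filter.mpr ⟨Finset.mem_univ _, hi⟩
      rw [if_pos hi', hi]
    · have hi' : i ∉ s := fun h => hi (Finset.mem_filter.mp h).2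
      rw [if_neg hi']
      exact (hμ i).resolve_right hi
  refine ⟨s.card, ?_, ?_, ?_, ?_, ?_⟩
  · rw [hn]
    exact Finset.card_le_univ s
  · unfold Representation.character
    rw [trace_eq_sum_of_eigenbasis b (ρ t) μ h2, Finset.sum_congr rfl (fun i _ => hμs i),
      Finset.sum_ite, Finset.sum_const, Finset.sum_const, hn]
    have h3 : Finset.univ.filter (fun i => i ∈ s) = s := by
      ext i; simp
    have h4 : (Finset.univ.filter (fun i => i ∉ s)).card = Fintype.card ι - s.card := by
      have h5 : Finset.univ.filter (fun i => i ∉ s) = Finset.univ \ s := by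
        ext i; simp
      rw [h5, Finset.card_sdiff_of_subset (Finset.subset_univ s), Finset.card_univ]
    rw [h3, h4, nsmul_eq_mul, nsmul_eq_mul, Nat.cast_sub (Finset.card_le_univ s)]
    ring
  · rw [det_eq_prod_of_eigenbasis b (ρ t) μ h2, Finset.prod_congr rfl (fun i _ => hμs i),
      Finset.prod_ite, Finset.prod_const, Finset.prod_const_one, mul_one]
    have h3 : Finset.univ.filter (fun i => i ∈ s) = s := by
      ext i; simp
    rw [h3]
  · intro h0
    have hs0 : s = ∅ := Finset.card_eq_zero.mp h0
    apply b.ext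
    intro i
    rw [h2 i, hμs i, hs0, if_neg (Finset.notMem_empty i), one_smul, Module.End.one_apply]
  · intro h0
    have hs1 : s = Finset.univ := by
      apply Finset.eq_univ_of_card
      rw [h0, hn]
    apply b.ext
    intro i
    rw [h2 i, hμs i, hs1, if_pos (Finset.mem_univ i)]
    simp

end Cfsg.Agent.Lib.Helper19.IP
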