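import Mathlib
import Cfsg.Agent.S0044
import Cfsg.Agent.Lib.Helper1.Fitting
import Cfsg.Agent.Lib.Helper9.PComponent
import Cfsg.Agent.Lib.Helper12.Cores
import Cfsg.Agent.Lib.Helper18.UniqueInvolution
import Cfsg.Agent.Lib.Helper18.AmbivalentSolv
import Cfsg.Agent.Lib.Helper23.Q8Normal
import Cfsg.Agent.Lib.Helper23.QuatOdd
import Cfsg.Agent.Lib.Helper23.RankOne

/-!
helper19: finite solvable groups with at most one involution and cyclic odd Sylow subgroups
(e.g. solvable Frobenius complements) have a homomorphism to `S₄` whose kernel is a Z-group.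
-/

set_option autoImplicit false

namespace Cfsg.Agent.Lib.Helper19.FrobSolv

/-- coset action of a subgroup of index at most `4`, landing in `Perm (Fin 4)` -/
theorem exists_hom_of_index_le {Y : Type*} [Group Y] [Finite Y] (A : Subgroup Y) (hA : A.index ≤ 4) :
    ∃ f : Y →* Equiv.Perm (Fin 4), f.ker ≤ A := by
  classical
  letI : Fintype (Y ⧸ A) := Fintype.ofFinite _
  have hc : Fintype.card (Y ⧸ A) ≤ Fintype.card (Fin 4) := by
    rw [Fintype.card_fin, ← Nat.card_eq_fintype_card]
    exact hA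
  obtain ⟨ι⟩ := Function.Embedding.nonempty_of_card_le hc
  refine ⟨(Equiv.Perm.viaEmbeddingHom ι).comp (MulAction.toPermHom Y (Y ⧸ A)), ?_⟩
  intro g hg
  rw [MonoidHom.mem_ker, MonoidHom.comp_apply] at hg
  have h1 : MulAction.toPermHom Y (Y ⧸ A) g = 1 :=
    Equiv.Perm.viaEmbeddingHom_injective ι (by rw [hg, map_one])
  have h2 : g • ((1 : Y) : Y ⧸ A) = ((1 : Y) : Y ⧸ A) := by
    have := congrArg (fun σ => σ ((1 : Y) : Y ⧸ A)) h1
    simpa using this
  rw [MulAction.Quotient.smul_coe, smul_eq_mul, mul_one] at h2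
  have h3 := QuotientGroup.eq.mp h2
  simpa using A.inv_mem h3

/-- a `2`-group with at most one involution maps to `S₄` with abelian kernel -/
theorem two_group_case {Y : Type*} [Group Y] [Finite Y] (hY : IsPGroup 2 Y)
    (huniq : ∀ s t : Y, orderOf s = 2 → orderOf t = 2 → s = t) :
    ∃ f : Y →* Equiv.Perm (Fin 4), ∀ a ∈ f.ker, ∀ b ∈ f.ker, a * b = b * a := by
  rcases Cfsg.Agent.Lib.Helper18.cyclic_or_quaternion_data hY huniq with
    hc | ⟨a, x, m, hm, hord, hxnot, hxa, hx2, hall⟩
  · refine ⟨1, fun u _ v _ => ?_⟩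
    obtain ⟨g, hg⟩ := hc.exists_generator
    obtain ⟨i, rfl⟩ := Subgroup.mem_zpowers_iff.mp (hg u)
    obtain ⟨j, rfl⟩ := Subgroup.mem_zpowers_iff.mp (hg v)
    rw [← zpow_add, ← zpow_add, add_comm]
  · have hidx : (Subgroup.zpowers a).index ≤ 4 := by
      let φ : Bool → Y ⧸ Subgroup.zpowers a :=
        fun b => if b then QuotientGroup.mk (1 : Y) else QuotientGroup.mk x
      have hφ : Function.Surjective φ := by
        intro q
        obtain ⟨g, rfl⟩ := QuotientGroup.mk_surjective q
        rcases hall g with hg | ⟨h, hh, rfl⟩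
        · refine ⟨true, ?_⟩
          show QuotientGroup.mk (1 : Y) = _
          rw [QuotientGroup.eq]
          simpa using hg
        · refine ⟨false, ?_⟩
          show QuotientGroup.mk x = _
          rw [QuotientGroup.eq]
          simpa using hh
      have := Nat.card_le_card_of_surjective φ hφ
      rw [Nat.card_eq_fintype_card (α := Bool), Fintype.card_bool] at this
      show Nat.card (Y ⧸ Subgroup.zpowers a) ≤ 4
      omega
    obtain ⟨f, hf⟩ := exists_hom_of_index_le (Subgroup.zpowers a) hidx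
    refine ⟨f, fun u hu v hv => ?_⟩
    obtain ⟨i, rfl⟩ := Subgroup.mem_zpowers_iff.mp (hf hu)
    obtain ⟨j, rfl⟩ := Subgroup.mem_zpowers_iff.mp (hf hv)
    rw [← zpow_add, ← zpow_add, add_comm]

open Cfsg.Agent.Lib.Helper23.Q8Aut Cfsg.Agent.Lib.Helper23.RankOne in
/-- the case of trivial odd core -/
theorem core {X : Type*} [Group X] [Finite X] [Group.IsSolvable X]
    (hO : Cfsg.pPrimeCore 2 X = ⊥)
    (huniq : ∀ s t : X, orderOf s = 2 → orderOf t = 2 → s = t) :
    ∃ f : X →* Equiv.Perm (Fin 4), ∀ a ∈ f.ker, ∀ b ∈ f.ker, a * b = b * a := by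
  classical
  haveI : Fact (Nat.Prime 2) := ⟨Nat.prime_two⟩
  set R := Cfsg.pCore 2 X with hR
  have hRn : R.Normal := Cfsg.Agent.Lib.Helper1.pCore_normal 2 X
  have hRp : IsPGroup 2 R := Cfsg.Agent.Lib.Helper1.pCore_isPGroup 2 X
  have hF : Cfsg.fittingSubgroup X = R :=
    Cfsg.Agent.Lib.Helper9.fittingSubgroup_eq_pCore_of_pPrimeCore_eq_bot 2 hO
  have hCQ : Subgroup.centralizer (R : Set X) ≤ R := by
    have := Cfsg.Agent.S0044.result (G := X)
    rwa [hF] at this
  have huniqR : ∀ s t : R, orderOf s = 2 → orderOf t = 2 → s = t := by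
    intro s t hs ht
    apply Subtype.ext
    apply huniq
    · rw [Subgroup.orderOf_coe, hs]
    · rw [Subgroup.orderOf_coe, ht]
  have h2grp : IsPGroup 2 X → ∃ f : X →* Equiv.Perm (Fin 4), ∀ a ∈ f.ker, ∀ b ∈ f.ker, a * b = b * a :=
    fun hX => two_group_case hX huniq
  rcases Cfsg.Agent.Lib.Helper18.isCyclic_or_quaternion_of_unique_involution hRp huniqR with
    hcyc | ⟨n, hn1, ⟨ε⟩⟩
  · exact h2grp (isPGroup_of_odd_aut_trivial R hRp hCQ (cyclic_odd_aut hRp))
  · rcases n with _ | _ | n
    · omega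
    · -- Q8
      have e : R ≃* Q := ε
      obtain ⟨ψ⟩ := mulAut_equiv_perm
      refine ⟨ψ.toMonoidHom.comp (Cfsg.Agent.Lib.Helper23.Q8Normal.Θ R e), ?_⟩
      have hker : ∀ a : X, a ∈ (ψ.toMonoidHom.comp (Cfsg.Agent.Lib.Helper23.Q8Normal.Θ R e)).ker →
          ∀ r ∈ R, a * r = r * a := by
        intro a ha
        rw [MonoidHom.mem_ker, MonoidHom.comp_apply] at ha
        have h1 : Cfsg.Agent.Lib.Helper23.Q8Normal.Θ R e a = 1 := by
          apply ψ.injective
          rw [map_one]
          exact ha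
        exact (Cfsg.Agent.Lib.Helper23.Q8Normal.Θ_eq_one_iff R e a).mp h1
      intro a ha b hb
      have haR : a ∈ R := by
        apply hCQ
        rw [Subgroup.mem_centralizer_iff]
        intro r hr
        exact (hker a ha r hr).symm
      exact (hker b hb a haR).symm
    · -- larger quaternion
      apply h2grp
      apply isPGroup_of_odd_aut_trivial R hRp hCQ
      apply odd_aut_congr ε
      intro θ k hk hθ
      exact Cfsg.Agent.Lib.Helper23.QuatOdd.mulAut_eq_one_of_odd (n := n + 1 + 1) (by omega) θ k hk hθ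


/-- a subgroup whose commutators lie in a normal subgroup of odd order is a Z-group, provided the odd
Sylow subgroups of the ambient group are cyclic and there is at most one involution -/
theorem isZGroup_of_commutators_mem {X : Type*} [Group X] [Finite X]
    (hodd : ∀ (p : ℕ) [Fact p.Prime], p ≠ 2 → ∀ P : Sylow p X, IsCyclic P)
    (huniq : ∀ s t : X, orderOf s = 2 → orderOf t = 2 → s = t)
    (D : Subgroup X) (hDc : (Nat.card D).Coprime 2) (K : Subgroup X)
    (hK : ∀ u ∈ K, ∀ v ∈ K, u⁻¹ * v⁻¹ * u * v ∈ D) : IsZGroup K := by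
  classical
  refine ⟨fun p hp P => ?_⟩
  haveI : Fact p.Prime := ⟨hp⟩
  by_cases hp2 : p = 2
  · subst hp2
    have hcomm : ∀ u v : (P : Subgroup K), u * v = v * u := by
      intro u v
      obtain ⟨c, hc⟩ : ∃ c : X, c = ((u : K) : X)⁻¹ * ((v : K) : X)⁻¹ * ((u : K) : X) * ((v : K) : X) :=
        ⟨_, rfl⟩
      have hcD : c ∈ D := by
        rw [hc]
        exact hK _ (u : K).2 _ (v : K).2
      have hcP : ∃ k, c ^ 2 ^ k = 1 := by
        obtain ⟨k, hk⟩ := P.isPGroup' (u⁻¹ * v⁻¹ * u * v)
        refine ⟨k, ?_⟩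
        have := congrArg (fun w : (P : Subgroup K) => ((w : K) : X)) hk
        rw [hc]
        simpa using this
      obtain ⟨k, hk⟩ := hcP
      have h1 : orderOf c ∣ 2 ^ k := orderOf_dvd_of_pow_eq_one hk
      have h2 : orderOf c ∣ Nat.card D := by
        have := orderOf_dvd_natCard (⟨c, hcD⟩ : D)
        rwa [Subgroup.orderOf_mk] at this
      have h3 : orderOf c = 1 := Nat.eq_one_of_dvd_coprimes (Nat.Coprime.pow_right k hDc) h2 h1
      have h4 : c = 1 := orderOf_eq_one_iff.mp h3
      apply Subtype.ext; apply Subtype.ext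
      have : ((u : K) : X) * ((v : K) : X) = ((v : K) : X) * ((u : K) : X) := by
        have h5 : ((v : K) : X) * ((u : K) : X) * c = ((u : K) : X) * ((v : K) : X) := by
          rw [hc]; group
        rw [← h5, h4, mul_one]
      simpa using this
    have h2P : IsPGroup 2 (P : Subgroup K) := P.isPGroup'
    have huP : ∀ s t : (P : Subgroup K), orderOf s = 2 → orderOf t = 2 → s = t := by
      intro s t hs ht
      apply Subtype.ext; apply Subtype.ext
      apply huniq
      · rw [Subgroup.orderOf_coe, Subgroup.orderOf_coe, hs]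
      · rw [Subgroup.orderOf_coe, Subgroup.orderOf_coe, ht]
    have htop : IsCyclic (⊤ : Subgroup (P : Subgroup K)) :=
      Cfsg.Agent.Lib.Helper18.isCyclic_of_comm_of_unique_involution h2P huP ⊤
        ⟨⟨fun a b => Subtype.ext (hcomm a b)⟩⟩
    exact isCyclic_of_surjective (Subgroup.topEquiv (G := (P : Subgroup K))).toMonoidHom
      Subgroup.topEquiv.surjective
  · have hP' : IsPGroup p ((P : Subgroup K).map K.subtype) := P.isPGroup'.map _
    obtain ⟨Q, hQ⟩ := hP'.exists_le_sylow
    haveI := hodd p hp2 Q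
    let g : (P : Subgroup K) →* (Q : Subgroup X) :=
      (K.subtype.comp (P : Subgroup K).subtype).codRestrict Q (fun u => hQ ⟨u, u.2, rfl⟩)
    apply isCyclic_of_injective g
    intro u v huv
    have := congrArg Subtype.val huv
    exact Subtype.ext (Subtype.ext this)

open Cfsg.Agent.Lib.Helper18.AmbivalentSolv in
/-- **Main structure theorem**: a finite solvable group with at most one involution and cyclic odd
Sylow subgroups has a homomorphism to `S₄` whose kernel is a Z-group. -/
theorem main {X : Type*} [Group X] [Finite X] [Group.IsSolvable X]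
    (hodd : ∀ (p : ℕ) [Fact p.Prime], p ≠ 2 → ∀ P : Sylow p X, IsCyclic P)
    (huniq : ∀ s t : X, orderOf s = 2 → orderOf t = 2 → s = t) :
    ∃ f : X →* Equiv.Perm (Fin 4), IsZGroup f.ker := by
  classical
  haveI : Fact (Nat.Prime 2) := ⟨Nat.prime_two⟩
  set D := Cfsg.pPrimeCore 2 X with hD
  haveI hDn : D.Normal := Cfsg.Agent.Lib.Helper1.pPrimeCore_normal 2 X
  have hDc : (Nat.card D).Coprime 2 := Cfsg.Agent.Lib.Helper12.pPrimeCore_coprime 2
  have hDodd : Odd (Nat.card D) := Nat.Coprime.odd_of_right hDc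
  have huniq' : ∀ s t : X ⧸ D, orderOf s = 2 → orderOf t = 2 → s = t := by
    intro s t hs ht
    obtain ⟨s0, hs0, rfl⟩ := exists_lift_involution D hDodd s hs
    obtain ⟨t0, ht0, rfl⟩ := exists_lift_involution D hDodd t ht
    rw [huniq s0 t0 hs0 ht0]
  obtain ⟨f0, hf0⟩ := core (X := X ⧸ D) (Cfsg.Agent.Lib.Helper9.pPrimeCore_quotient_eq_bot 2) huniq'
  refine ⟨f0.comp (QuotientGroup.mk' D), ?_⟩
  apply isZGroup_of_commutators_mem hodd huniq D hDc
  intro u hu v hv
  rw [MonoidHom.mem_ker, MonoidHom.comp_apply] at hu hv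
  rw [← QuotientGroup.eq_one_iff]
  have h1 := hf0 _ (MonoidHom.mem_ker.mpr hu) _ (MonoidHom.mem_ker.mpr hv)
  simp only [QuotientGroup.mk'_apply] at h1
  simp only [QuotientGroup.mk_mul, QuotientGroup.mk_inv]
  rw [mul_assoc, h1]
  group

end Cfsg.Agent.Lib.Helper19.FrobSolv
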