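/-
helper19: S2318 leaf D2 `gg_degree` (planner helper27, notes/S2318_leaves.lean): Gelfand-Graev multiplicity one.
`E_ψ` = `averageMap` of the twisted representation `u ↦ ψ(u)⁻¹ ρ(u)` of `U`; its invariants have dimension
`χ(1)/|U|` (`hvan`); a common `H`-eigenvector `v₁ ∈ V^U` (helper2); `f_ξ(g) = ξ(E_ψ ρ(g) v₁)` and D1 (helper14)
give `range E_ψ ≤ span {E_ψ ρ(n₀) v₁}`.
-/
import Mathlib
import Cfsg.Agent.Lib.Helper27.GGDefs
import Cfsg.Agent.Lib.Helper6.BNRedB
import Cfsg.Agent.Lib.Helper2.CommonEigen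
import Cfsg.Agent.Lib.Helper14.GGD1

set_option autoImplicit false

namespace Cfsg.Agent.Lib.Helper19.GG

open Cfsg Cfsg.Agent.Lib.Helper3.BN Cfsg.Agent.Lib.Helper3.WordLen Cfsg.Agent.Lib.Helper6.BNSt
open Cfsg.Agent.Lib.Helper6.CoxRed Cfsg.Agent.Lib.Helper27.GG
open scoped ComplexConjugate

section twist
variable {G : Type*} [Group G] {V : Type*} [AddCommGroup V] [Module ℂ V]

/-- the representation `u ↦ ψ(u)⁻¹ ρ(u)` of `U`. -/
noncomputable def twist (ρ : Representation ℂ G V) (U : Subgroup G) (ψ : U →* ℂˣ) :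
    Representation ℂ U V where
  toFun u := (((ψ u)⁻¹ : ℂˣ) : ℂ) • ρ (u : G)
  map_one' := by simp
  map_mul' a b := by
    rw [map_mul, mul_inv, Units.val_mul, Subgroup.coe_mul, map_mul, smul_mul_smul_comm]

theorem twist_apply (ρ : Representation ℂ G V) (U : Subgroup G) (ψ : U →* ℂˣ) (u : U) (v : V) :
    twist ρ U ψ u v = (((ψ u)⁻¹ : ℂˣ) : ℂ) • ρ (u : G) v := rfl

theorem rho_eq_twist (ρ : Representation ℂ G V) (U : Subgroup G) (ψ : U →* ℂˣ) (u : U) (v : V) :
    ρ (u : G) v = ((ψ u : ℂˣ) : ℂ) • twist ρ U ψ u v := by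
  rw [twist_apply, smul_smul, ← Units.val_mul, mul_inv_cancel, Units.val_one, one_smul]

theorem twist_character [FiniteDimensional ℂ V] (ρ : Representation ℂ G V) (U : Subgroup G)
    (ψ : U →* ℂˣ) (u : U) :
    (twist ρ U ψ).character u = (((ψ u)⁻¹ : ℂˣ) : ℂ) * ρ.character (u : G) := by
  unfold Representation.character
  show LinearMap.trace ℂ V ((((ψ u)⁻¹ : ℂˣ) : ℂ) • ρ (u : G)) = _
  rw [map_smul, smul_eq_mul]

/-- the dimension of the `ψ`-isotypic part of `V|_U` when `χ` vanishes on `U \ {1}`. -/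
theorem finrank_invariants_twist [Finite G] [FiniteDimensional ℂ V] (ρ : Representation ℂ G V)
    (U : Subgroup G) (ψ : U →* ℂˣ) (hvan : ∀ u ∈ U, u ≠ 1 → ρ.character u = 0) :
    (Module.finrank ℂ (Representation.invariants (twist ρ U ψ)) : ℂ) =
      (Nat.card U : ℂ)⁻¹ * ρ.character 1 := by
  classical
  haveI : Fintype U := Fintype.ofFinite U
  haveI : Invertible (Nat.card U : ℂ) :=
    invertibleOfNonzero (Nat.cast_ne_zero.mpr Nat.card_pos.ne')
  rw [← Representation.card_inv_mul_sum_char_eq_finrank (twist ρ U ψ)]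
  congr 1
  rw [Finset.sum_eq_single (1 : U)]
  · rw [twist_character, map_one, inv_one, Units.val_one, one_mul, Subgroup.coe_one]
  · intro u _ hu
    rw [twist_character, hvan (u : G) u.2 (fun h => hu (Subtype.ext h)), mul_zero]
  · intro h
    exact absurd (Finset.mem_univ _) h

end twist

section avg
variable {A : Type*} [Group A] [Fintype A] {V : Type*} [AddCommGroup V] [Module ℂ V]
  [Invertible (Fintype.card A : ℂ)]

theorem averageMap_apply_rho (σ : Representation ℂ A V) (a : A) (v : V) :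
    σ.averageMap (σ a v) = σ.averageMap v := by
  rw [Representation.averageMap, ← Representation.asAlgebraHom_single_one σ a,
    ← Module.End.mul_apply, ← map_mul (Representation.asAlgebraHom σ),
    GroupAlgebra.mul_average_right]

end avg

section D0
variable {G : Type*} [Group G]

/-- an irreducible representation is spanned by the translates of a nonzero vector -/
theorem span_translates_eq_top {V : Type*} [AddCommGroup V] [Module ℂ V]
    (ρ : Representation ℂ G V) [ρ.IsIrreducible] (v : V) (hv0 : v ≠ 0) :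
    Submodule.span ℂ (Set.range fun g : G => ρ g v) = ⊤ := by
  let U' : Submodule ℂ V := Submodule.span ℂ (Set.range fun g : G => ρ g v)
  let S : Subrepresentation ρ :=
    { toSubmodule := U'
      apply_mem_toSubmodule := by
        intro g w hw
        induction hw using Submodule.span_induction with
        | mem x hx =>
          obtain ⟨k, rfl⟩ := hx
          apply Submodule.subset_span
          refine ⟨g * k, ?_⟩
          show ρ (g * k) v = ρ g (ρ k v)
          rw [map_mul, Module.End.mul_apply]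
        | zero => rw [map_zero]; exact U'.zero_mem
        | add x y _ _ hx hy => rw [map_add]; exact U'.add_mem hx hy
        | smul c x _ hx => rw [map_smul]; exact U'.smul_mem c hx }
  have hS : S = ⊤ := by
    rcases eq_bot_or_eq_top S with h | h
    · exfalso
      have hvU : v ∈ U' := by
        apply Submodule.subset_span
        exact ⟨1, by simp⟩
      have hvS : v ∈ S := hvU
      rw [h] at hvS
      exact hv0 hvS
    · exact h
  have := congrArg Subrepresentation.toSubmodule hS
  exact this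

theorem nontrivial_of_irreducible {V : Type*} [AddCommGroup V] [Module ℂ V]
    (ρ : Representation ℂ G V) [ρ.IsIrreducible] : Nontrivial V := by
  by_contra hV
  rw [not_nontrivial_iff_subsingleton] at hV
  have : (⊥ : Subrepresentation ρ) = ⊤ := by
    apply Subrepresentation.toSubmodule_injective
    exact Subsingleton.elim _ _
  exact bot_ne_top this

end D0

section D
variable {G : Type*} [Group G] [Finite G] {P : Cfsg.BNPair G} {U : Subgroup G} {q : ℕ}

/-- **D2**: Gelfand–Graev multiplicity one gives `χ(1) = |U|`. -/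
theorem gg_degree (R : SplitBN P U q) (ψ : U →* ℂˣ)
    (hψ : ∀ i, ∃ x : U, (x : G) ∈ R.X i ∧ ψ x ≠ 1)
    {V : Type*} [AddCommGroup V] [Module ℂ V] [FiniteDimensional ℂ V]
    (ρ : Representation ℂ G V) [ρ.IsIrreducible]
    (hvan : ∀ u ∈ U, u ≠ 1 → ρ.character u = 0) : ρ.character 1 = (Nat.card U : ℂ) := by
  classical
  haveI : Fintype U := Fintype.ofFinite U
  haveI hinv : Invertible (Fintype.card U : ℂ) :=
    invertibleOfNonzero (Nat.cast_ne_zero.mpr Fintype.card_pos.ne')
  haveI hntV : Nontrivial V := nontrivial_of_irreducible ρ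
  have hcardU : (Nat.card U : ℂ) ≠ 0 := Nat.cast_ne_zero.mpr Nat.card_pos.ne'
  have hchi1 : ρ.character 1 ≠ 0 := by
    rw [Representation.char_one]
    exact Nat.cast_ne_zero.mpr (Module.finrank_pos (R := ℂ) (M := V)).ne'
  -- the `U`-invariants
  set σ₁ : Representation ℂ U V := twist ρ U 1 with hσ₁
  have hσ₁_apply : ∀ (u : U) (v : V), σ₁ u v = ρ (u : G) v := by
    intro u v
    rw [hσ₁, twist_apply, MonoidHom.one_apply, inv_one, Units.val_one, one_smul]
  set W₁ : Submodule ℂ V := Representation.invariants σ₁ with hW₁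
  have hW₁mem : ∀ v : V, v ∈ W₁ ↔ ∀ u ∈ U, ρ u v = v := by
    intro v
    rw [hW₁, Representation.mem_invariants]
    constructor
    · intro h u hu
      have := h ⟨u, hu⟩
      rwa [hσ₁_apply] at this
    · intro h u
      rw [hσ₁_apply]
      exact h u u.2
  have hW₁rank : (Module.finrank ℂ W₁ : ℂ) = (Nat.card U : ℂ)⁻¹ * ρ.character 1 :=
    finrank_invariants_twist ρ U 1 hvan
  haveI hntW : Nontrivial W₁ := by
    apply Module.nontrivial_of_finrank_pos (R := ℂ)
    rcases Nat.eq_zero_or_pos (Module.finrank ℂ W₁) with h | h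
    · exfalso
      rw [h, Nat.cast_zero] at hW₁rank
      exact mul_ne_zero (inv_ne_zero hcardU) hchi1 hW₁rank.symm
    · exact h
  -- `H` acts on the invariants
  have hstab : ∀ h ∈ P.B ⊓ P.N, ∀ v ∈ W₁, ρ h v ∈ W₁ := by
    intro h hh v hv
    rw [hW₁mem] at hv ⊢
    intro u hu
    have hhB : h ∈ P.B := (Subgroup.mem_inf.1 hh).1
    have hconj : h⁻¹ * u * h ∈ U := by
      have := R.hUn h⁻¹ (P.B.inv_mem hhB) u hu
      rwa [inv_inv] at this
    have e : u * h = h * (h⁻¹ * u * h) := by group
    calc ρ u (ρ h v) = ρ (u * h) v := by rw [map_mul, Module.End.mul_apply]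
      _ = ρ (h * (h⁻¹ * u * h)) v := by rw [← e]
      _ = ρ h (ρ (h⁻¹ * u * h) v) := by rw [map_mul, Module.End.mul_apply]
      _ = ρ h v := by rw [hv _ hconj]
  let τ : Representation ℂ ↥(P.B ⊓ P.N) W₁ :=
    { toFun := fun h => (ρ (h : G)).restrict (hstab h h.2)
      map_one' := by
        ext v
        simp
      map_mul' := by
        intro a b
        ext v
        simp [Module.End.mul_apply] }
  obtain ⟨v₁', hv₁ne, heig⟩ := Cfsg.Agent.Lib.Helper2.exists_common_eigenvector τ
    (fun a b => Subtype.ext (R.hHcomm a a.2 b b.2))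
  set v₁ : V := (v₁' : V) with hv₁
  have hv₁0 : v₁ ≠ 0 := fun h => hv₁ne (Subtype.ext h)
  have hv₁U : ∀ u ∈ U, ρ u v₁ = v₁ := (hW₁mem v₁).1 v₁'.2
  have hv₁H : ∀ h ∈ P.B ⊓ P.N, ∃ c : ℂ, ρ h v₁ = c • v₁ := by
    intro h hh
    obtain ⟨c, hc⟩ := heig ⟨h, hh⟩
    refine ⟨c, ?_⟩
    have := congrArg Subtype.val hc
    exact this
  -- the functional `ξ₀` and `μ`
  obtain ⟨φ, hφ⟩ : ∃ φ : Module.Dual ℂ V, φ v₁ ≠ 0 := by
    by_contra hcon
    push Not at hcon
    exact hv₁0 ((Module.forall_dual_apply_eq_zero_iff ℂ v₁).1 hcon)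
  set μ : G → ℂ := fun g => (φ v₁)⁻¹ * φ (ρ g v₁) with hμdef
  have hμc : ∀ (g : G) (c : ℂ), ρ g v₁ = c • v₁ → μ g = c := by
    intro g c hc
    show (φ v₁)⁻¹ * φ (ρ g v₁) = c
    rw [hc, map_smul, smul_eq_mul]
    field_simp
  have hB : ∀ b ∈ P.B, ρ b v₁ = μ b • v₁ := by
    intro b hb
    obtain ⟨u, hu, h, hh, rfl⟩ := R.hBUH b hb
    obtain ⟨c, hc⟩ := hv₁H h hh
    have e : ρ (u * h) v₁ = c • v₁ := by
      rw [map_mul, Module.End.mul_apply, hc, map_smul, hv₁U u hu]
    rw [hμc _ c e, e]
  have hμU : ∀ u ∈ U, μ u = 1 := by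
    intro u hu
    apply hμc
    rw [one_smul, hv₁U u hu]
  -- the `ψ`-projection
  set σ : Representation ℂ U V := twist ρ U ψ with hσ
  set E : V →ₗ[ℂ] V := σ.averageMap with hE
  have hEu : ∀ (u : U) (x : V), E (ρ (u : G) x) = ((ψ u : ℂˣ) : ℂ) • E x := by
    intro u x
    rw [rho_eq_twist ρ U ψ u x, map_smul, ← hσ, hE, averageMap_apply_rho]
  obtain ⟨n₀, hn₀, hw⟩ := mkW_surj P (w0 P)
  set y₀ : V := E (ρ n₀ v₁) with hy₀
  set S : Submodule ℂ V := Submodule.span ℂ {y₀} with hS
  have hES : ∀ g : G, E (ρ g v₁) ∈ S := by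
    intro g
    rw [← Submodule.Quotient.mk_eq_zero, ← Submodule.mkQ_apply,
      ← Module.forall_dual_apply_eq_zero_iff ℂ]
    intro ξ'
    have key := Cfsg.Agent.Lib.Helper14.GG.gg_eq_zero R ψ hψ μ hμU (fun g => ξ' (S.mkQ (E (ρ g v₁)))) ?_ n₀ hn₀ hw ?_ g
    · exact key
    · intro u g b hb
      show ξ' (S.mkQ (E (ρ ((u : G) * g * b) v₁))) = ((ψ u : ℂˣ) : ℂ) * μ b * ξ' (S.mkQ (E (ρ g v₁)))
      have e : ρ ((u : G) * g * b) v₁ = μ b • ρ (u : G) (ρ g v₁) := by
        rw [map_mul, map_mul, Module.End.mul_apply, Module.End.mul_apply, hB b hb, map_smul, map_smul]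
      rw [e, map_smul, hEu, map_smul, map_smul, map_smul, map_smul, smul_eq_mul, smul_eq_mul]
      ring
    · show ξ' (S.mkQ (E (ρ n₀ v₁))) = 0
      have : S.mkQ (E (ρ n₀ v₁)) = 0 := by
        rw [Submodule.mkQ_apply, Submodule.Quotient.mk_eq_zero]
        exact Submodule.subset_span rfl
      rw [this, map_zero]
  have hspan := span_translates_eq_top ρ v₁ hv₁0
  have hEall : ∀ v : V, E v ∈ S := by
    intro v
    have hv : v ∈ Submodule.span ℂ (Set.range fun g : G => ρ g v₁) := by
      rw [hspan]; exact Submodule.mem_top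
    induction hv using Submodule.span_induction with
    | mem x hx =>
      obtain ⟨g, rfl⟩ := hx
      exact hES g
    | zero => rw [map_zero]; exact S.zero_mem
    | add x y _ _ hx hy => rw [map_add]; exact S.add_mem hx hy
    | smul c x _ hx => rw [map_smul]; exact S.smul_mem c hx
  have hle : Representation.invariants σ ≤ S := by
    intro y hy
    have := hEall y
    rwa [hE, Representation.averageMap_id σ y hy] at this
  have hS1 : Module.finrank ℂ S ≤ 1 := by
    have := finrank_span_finset_le_card (R := ℂ) ({y₀} : Finset V)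
    rw [Finset.card_singleton, Finset.coe_singleton] at this
    exact this
  have hrank1 : Module.finrank ℂ (Representation.invariants σ) ≤ 1 :=
    (Submodule.finrank_mono hle).trans hS1
  have hrank : (Module.finrank ℂ (Representation.invariants σ) : ℂ) =
      (Nat.card U : ℂ)⁻¹ * ρ.character 1 := finrank_invariants_twist ρ U ψ hvan
  have hd : Module.finrank ℂ (Representation.invariants σ) = 1 := by
    rcases Nat.eq_zero_or_pos (Module.finrank ℂ (Representation.invariants σ)) with h | h
    · exfalso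
      rw [h, Nat.cast_zero] at hrank
      exact mul_ne_zero (inv_ne_zero hcardU) hchi1 hrank.symm
    · omega
  rw [hd, Nat.cast_one] at hrank
  field_simp at hrank
  exact hrank.symm

end D

end Cfsg.Agent.Lib.Helper19.GG
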