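import Mathlib
import Cfsg.Prelude.Def_GeometricClasses
import Cfsg.Agent.Lib.Helper20.AschDefs
import Cfsg.Agent.Lib.Helper29.SpAschDefs
import Cfsg.Agent.Lib.Helper29.SpAschTools
import Cfsg.Agent.Lib.Helper18.OAschDefs
import Cfsg.Agent.Lib.Helper18.OAschG
import Cfsg.Agent.Lib.Helper18.ReidxDefs
import Cfsg.Agent.Lib.Helper18.AschA89Defs
import Cfsg.Agent.Lib.Helper27.AschTW2
import Cfsg.Agent.Lib.Helper20.FCMain
import Cfsg.Agent.Lib.Helper14.OrthOdd
import Cfsg.Agent.Lib.Helper25.SpinForms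

/-!
helper19: S5673 market, packet O-T2: `octx_std` (the standing hypotheses for the standard odd form) and
`omegaGL_le` (T3).
-/

set_option autoImplicit false
set_option linter.unusedSectionVars false
set_option linter.unusedVariables false

namespace Cfsg.Agent.Lib.Helper19.OAschLeaf
open Matrix Cfsg Cfsg.Geo Cfsg.Agent.Lib.Helper20.Asch Cfsg.Agent.Lib.Helper29.SpAsch Cfsg.Agent.Lib.Helper18.OAsch
  Cfsg.Agent.Lib.Helper18.Reidx Cfsg.Agent.Lib.Helper18.AschA89 Cfsg.Agent.Lib.Helper27.AschLeaf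
open scoped Kronecker

variable {F : Type*} [Field F] [Fintype F] {n : ℕ} {G : Matrix (Fin n) (Fin n) F} {H N : Subgroup (GL (Fin n) F)}

section aux
variable {ι κ : Type} [Fintype ι] [DecidableEq ι] [Fintype κ] [DecidableEq κ]

open Cfsg.Agent.Lib.Helper14 in
/-- the polar map of an `IsQF` pair is the companion form -/
theorem polar_eq_of_isQF {Q : (ι → F) → F} {B : (ι → F) → (ι → F) → F} (h : IsQF Q B) :
    QuadraticMap.polar Q = B := by
  funext u v
  unfold QuadraticMap.polar
  rw [h.polar]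
  ring

open Cfsg.Agent.Lib.Helper14 in
/-- an `IsQF` pair gives a non-degenerate quadratic form in the sense of the prelude -/
theorem isNondegenerateQuadraticForm_of_isQF {Q : (ι → F) → F} {B : (ι → F) → (ι → F) → F}
    (h : IsQF Q B) : IsNondegenerateQuadraticForm Q := by
  have hp := polar_eq_of_isQF h
  refine ⟨fun c v => by rw [h.q_smul, pow_two], ?_, ?_⟩
  · rw [hp]
    refine ⟨fun x y v => h.b_add x y v, fun c x v => h.b_smul c x v, fun v x y => ?_, fun c v x => ?_⟩
    · rw [h.b_symm v (x + y), h.b_add, h.b_symm x v, h.b_symm y v]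
    · rw [h.b_symm v (c • x), h.b_smul, h.b_symm x v]
  · rw [hp]
    intro v hv
    obtain ⟨x, hx⟩ := h.nondeg v hv
    exact ⟨⟨x, by rwa [h.b_symm]⟩, ⟨x, hx⟩⟩

open Cfsg.Agent.Lib.Helper14 in
/-- transport of an `IsQF` pair along a bijection of the index types -/
theorem isQF_rq (e : ι ≃ κ) {Q : (ι → F) → F} {B : (ι → F) → (ι → F) → F} (h : IsQF Q B) :
    IsQF (rq e Q) (fun u v => B ((rv e).symm u) ((rv e).symm v)) where
  polar u v := by
    unfold rq
    rw [map_add, h.polar]
  q_smul c u := by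
    unfold rq
    rw [map_smul, h.q_smul]
  b_add u v w := by
    show B ((rv e).symm (u + v)) _ = _
    rw [map_add, h.b_add]
  b_smul c u w := by
    show B ((rv e).symm (c • u)) _ = _
    rw [map_smul, h.b_smul]
  b_symm u v := h.b_symm _ _
  nondeg u hu := by
    have : (rv (F := F) e).symm u ≠ 0 := by
      intro h0
      exact hu ((rv (F := F) e).symm.map_eq_zero_iff.mp h0)
    obtain ⟨v, hv⟩ := h.nondeg _ this
    refine ⟨rv e v, ?_⟩
    show B _ ((rv e).symm (rv e v)) ≠ 0
    rwa [LinearEquiv.symm_apply_apply]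

theorem rv_symm_single (e : ι ≃ κ) (a : κ) :
    (rv (F := F) e).symm (Pi.single a 1) = Pi.single (e.symm a) 1 := by
  funext i
  rw [rv_symm_apply]
  by_cases h : i = e.symm a
  · subst h
    simp
  · rw [Pi.single_eq_of_ne h, Pi.single_eq_of_ne]
    intro h'
    exact h (by rw [← h', Equiv.symm_apply_apply])

end aux

/-- the Gram matrix of the companion form of the standard odd form -/
theorem gram_oddPolar (m : ℕ) :
    gramMatrix (Cfsg.Agent.Lib.Helper14.oddPolar m F) =
      Matrix.fromBlocks ((2 : F) • (1 : Matrix Unit Unit F)) 0 0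
        (Matrix.fromBlocks (0 : Matrix (Fin m) (Fin m) F) 1 1 0) := by
  ext a b
  unfold gramMatrix Cfsg.Agent.Lib.Helper14.oddPolar
  rcases a with ⟨⟩ | a | a <;> rcases b with ⟨⟩ | b | b <;>
    simp [Matrix.one_apply, Pi.single_apply, Finset.sum_add_distrib, eq_comm]

theorem gram_oddPolar_sq (m : ℕ) :
    (gramMatrix (Cfsg.Agent.Lib.Helper14.oddPolar m F)).det *
      (gramMatrix (Cfsg.Agent.Lib.Helper14.oddPolar m F)).det = 4 := by
  rw [← Matrix.det_mul, gram_oddPolar, Matrix.fromBlocks_multiply, Matrix.fromBlocks_multiply]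
  simp only [Matrix.zero_mul, Matrix.mul_zero, add_zero, zero_add, Matrix.mul_one, Matrix.one_mul]
  rw [Matrix.fromBlocks_one, Matrix.det_fromBlocks_zero₂₁, Matrix.det_one, mul_one]
  simp
  norm_num

/-- (T2) the standing hypotheses for the standard form -/
theorem octx_std (hodd : Odd (Fintype.card F)) (m : ℕ) (hm : 3 ≤ m)
    (e : (Unit ⊕ (Fin m ⊕ Fin m)) ≃ Fin (2 * m + 1)) : OCtx (rq e (quadFormOdd m F)) := by
  have h2 : (2 : F) ≠ 0 := Cfsg.Agent.Lib.Helper25.Spin.two_ne_zero_of_odd_card hodd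
  have hq := isQF_rq e (Cfsg.Agent.Lib.Helper14.isQF_odd (F := F) (m := m) h2)
  refine ⟨isNondegenerateQuadraticForm_of_isQF hq, hodd, ⟨m, rfl⟩, by omega, ?_⟩
  rw [polar_eq_of_isQF hq]
  have hG : gramMatrix (fun u v => Cfsg.Agent.Lib.Helper14.oddPolar m F ((rv e).symm u) ((rv e).symm v)) =
      (gramMatrix (Cfsg.Agent.Lib.Helper14.oddPolar m F)).submatrix e.symm e.symm := by
    ext a b
    rw [Matrix.submatrix_apply]
    unfold gramMatrix
    show Cfsg.Agent.Lib.Helper14.oddPolar m F ((rv e).symm (Pi.single a 1)) ((rv e).symm (Pi.single b 1)) = _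
    rw [rv_symm_single, rv_symm_single]
  rw [hG, Matrix.det_submatrix_equiv_self]
  set d := (gramMatrix (Cfsg.Agent.Lib.Helper14.oddPolar m F)).det with hd
  have hsq : d * d = 4 := gram_oddPolar_sq m
  have hd2 : d = 2 ∨ d = -2 := by
    have : (d - 2) * (d + 2) = 0 := by
      have : (d - 2) * (d + 2) = d * d - 4 := by ring
      rw [this, hsq, sub_self]
    rcases mul_eq_zero.mp this with h | h
    · left; exact sub_eq_zero.mp h
    · right; exact eq_neg_of_add_eq_zero_left h
  have h2mem : (2 : F) ∈ (⊥ : Subfield F) := ofNat_mem _ 2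
  refine ⟨d, ?_, ?_, ⟨d, rfl⟩⟩
  · rcases hd2 with h | h
    · rw [h]; exact h2mem
    · rw [h]; exact neg_mem h2mem
  · rcases hd2 with h | h
    · rw [h]; exact h2
    · rw [h]; exact neg_ne_zero.mpr h2

/-- (T3) `Ω` lies in the isometry group -/
theorem omegaGL_le {ι : Type} [Fintype ι] [DecidableEq ι] (Q : (ι → F) → F) : omegaGL Q ≤ isometryGroup F Q := by
  unfold omegaGL
  exact Subgroup.map_subtype_le _

end Cfsg.Agent.Lib.Helper19.OAschLeaf
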