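import Cfsg.Agent.Lib.Helper19.SchurCyclic

set_option autoImplicit false

namespace Cfsg.Agent.Lib.Helper19.SchurCyclic

open scoped Pointwise

/-- A period that divides `p ^ m` and is not `p ^ m` divides `p ^ (m - 1)`. -/
theorem dvd_pred_pow {p m n : ℕ} (hp : p.Prime) (hn : n ∣ p ^ m) (hne : n ≠ p ^ m) :
    n ∣ p ^ (m - 1) := by
  obtain ⟨j, hj, rfl⟩ := (Nat.dvd_prime_pow hp).1 hn
  apply pow_dvd_pow
  have : j ≠ m := fun h => hne (by rw [h])
  omega

/-- An element of order `p ^ m` acting faithfully on `p ^ m` points generates a regular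
subgroup. -/
theorem regular_zpowers {Γ Ω : Type*} [Group Γ] [MulAction Γ Ω] [FaithfulSMul Γ Ω] [Fintype Ω]
    (p m : ℕ) (hp : p.Prime) (hm : 1 ≤ m) (hΩ : Fintype.card Ω = p ^ m) (g : Γ)
    (hg : orderOf g = p ^ m) :
    MulAction.IsPretransitive (Subgroup.zpowers g) Ω ∧
      ∀ a : Ω, MulAction.stabilizer (Subgroup.zpowers g) a = ⊥ := by
  classical
  have hex : ∃ ω : Ω, MulAction.period g ω = p ^ m := by
    by_contra hcon
    push Not at hcon
    have h1 : g ^ (p ^ (m - 1)) = 1 := by
      apply FaithfulSMul.eq_of_smul_eq_smul (α := Ω)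
      intro ω
      rw [one_smul, MulAction.pow_smul_eq_iff_period_dvd]
      apply dvd_pred_pow hp _ (hcon ω)
      rw [← hg]
      exact MulAction.period_dvd_orderOf g ω
    have h2 := orderOf_dvd_of_pow_eq_one h1
    rw [hg] at h2
    have h3 := Nat.le_of_dvd (pow_pos hp.pos _) h2
    have h4 : p ^ (m - 1) < p ^ m := Nat.pow_lt_pow_right hp.one_lt (by omega)
    omega
  obtain ⟨ω, hω⟩ := hex
  have hcardC : Nat.card (Subgroup.zpowers g) = p ^ m := by rw [Nat.card_zpowers, hg]
  have hfin : Finite (Subgroup.zpowers g) :=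
    Nat.finite_of_card_ne_zero (by rw [hcardC]; exact (pow_pos hp.pos _).ne')
  have horb : MulAction.orbit (Subgroup.zpowers g) ω = Set.univ := by
    have h1 : Fintype.card (MulAction.orbit (Subgroup.zpowers g) ω) = p ^ m := by
      rw [← MulAction.minimalPeriod_eq_card, ← MulAction.period_eq_minimalPeriod, hω]
    rw [Set.eq_univ_iff_ncard, ← Nat.card_coe_set_eq, Nat.card_eq_fintype_card, h1,
      Nat.card_eq_fintype_card, hΩ]
  have htrans : MulAction.IsPretransitive (Subgroup.zpowers g) Ω := by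
    refine ⟨fun x y => ?_⟩
    have hx : x ∈ MulAction.orbit (Subgroup.zpowers g) ω := by rw [horb]; trivial
    have hy : y ∈ MulAction.orbit (Subgroup.zpowers g) ω := by rw [horb]; trivial
    obtain ⟨c₁, rfl⟩ := hx
    obtain ⟨c₂, rfl⟩ := hy
    exact ⟨c₂ * c₁⁻¹, by rw [← mul_smul, inv_mul_cancel_right]⟩
  refine ⟨htrans, fun a => ?_⟩
  have h1 := Subgroup.card_mul_index (MulAction.stabilizer (Subgroup.zpowers g) a)
  rw [MulAction.index_stabilizer, MulAction.orbit_eq_univ, Set.ncard_univ,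
    Nat.card_eq_fintype_card (α := Ω), hΩ, hcardC] at h1
  have h2 : Nat.card (MulAction.stabilizer (Subgroup.zpowers g) a) = 1 := by
    have hpos : 0 < p ^ m := pow_pos hp.pos _
    exact Nat.eq_of_mul_eq_mul_right hpos (by rw [h1, one_mul])
  exact Subgroup.card_eq_one.1 h2


/-- An element of `p`-power order generating a transitive subgroup: its `p ^ (m-1)`-th power
fixes every block with at least two points. -/
theorem blockfix {Γ Ω : Type*} [Group Γ] [MulAction Γ Ω] (p m : ℕ) (hp : p.Prime) (g : Γ)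
    (hg : orderOf g = p ^ m) (htr : MulAction.IsPretransitive (Subgroup.zpowers g) Ω)
    {B : Set Ω} (hB : MulAction.IsBlock Γ B) (hBn : ¬ B.Subsingleton) :
    g ^ (p ^ (m - 1)) • B = B := by
  rw [Set.not_subsingleton_iff] at hBn
  obtain ⟨a, ha, b, hb, hab⟩ := hBn
  obtain ⟨⟨c, hc⟩, hcab⟩ := MulAction.exists_smul_eq (Subgroup.zpowers g) a b
  obtain ⟨k, rfl⟩ := Subgroup.mem_zpowers_iff.1 hc
  have hcab' : g ^ k • a = b := hcab
  have hfix : g ^ k • B = B := hB.smul_eq_of_mem ha (by rw [hcab']; exact hb)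
  rw [MulAction.zpow_smul_eq_iff_period_dvd] at hfix
  rw [MulAction.pow_smul_eq_iff_period_dvd]
  apply dvd_pred_pow hp
  · rw [← hg]
    exact MulAction.period_dvd_orderOf g B
  · intro hper
    rw [hper, ← hg] at hfix
    have : g ^ k = 1 := (orderOf_dvd_iff_zpow_eq_one).1 hfix
    rw [this, one_smul] at hcab'
    exact hab hcab'

/-- the subgroup fixing every translate of `B` -/
def blockKernel {Γ Ω : Type*} [Group Γ] [MulAction Γ Ω] (B : Set Ω) : Subgroup Γ where
  carrier := {x | ∀ h : Γ, x • (h • B) = h • B}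
  one_mem' := fun h => by rw [one_smul]
  mul_mem' := fun {x y} hx hy h => by rw [mul_smul, hy, hx]
  inv_mem' := fun {x} hx h => by rw [inv_smul_eq_iff, hx]

/-- Transitive, not doubly transitive groups of degree `p ^ m` (`m ≥ 2`) containing an element
of order `p ^ m` are imprimitive, and the normal closure of the element of order `p` in the
cycle is intransitive. -/
theorem pp_general {Γ Ω : Type*} [Group Γ] [MulAction Γ Ω] [FaithfulSMul Γ Ω] [Fintype Ω]
    (p m : ℕ) (hp : p.Prime) (hm : 2 ≤ m) (hΩ : Fintype.card Ω = p ^ m)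
    (htr : MulAction.IsPretransitive Γ Ω) (h2 : ¬ MulAction.IsMultiplyPretransitive Γ Ω 2)
    (g : Γ) (hg : orderOf g = p ^ m) :
    ¬ MulAction.IsPreprimitive Γ Ω ∧
      ¬ MulAction.IsPretransitive (Subgroup.normalClosure ({g ^ (p ^ (m - 1))} : Set Γ)) Ω := by
  obtain ⟨hreg_t, hreg_s⟩ := regular_zpowers p m hp (by omega) hΩ g hg
  have hnprim : ¬ MulAction.IsPreprimitive Γ Ω := by
    intro hprim
    have hΩne : Nonempty Ω := by
      apply Fintype.card_pos_iff.1
      rw [hΩ]
      exact pow_pos hp.pos _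
    obtain ⟨ω₀⟩ := hΩne
    apply h2
    refine schur_two_transitive hprim (Subgroup.zpowers g) inferInstance hreg_t hreg_s p hp ?_ ?_ ω₀
    · rw [Nat.card_eq_fintype_card, hΩ]
      exact dvd_pow_self p (by omega)
    · rw [Nat.card_eq_fintype_card, hΩ]
      intro h
      have h' : p ^ m = p ^ 1 := by rw [h, pow_one]
      have := Nat.pow_right_injective hp.two_le h'
      omega
  refine ⟨hnprim, ?_⟩
  intro hN
  have hexB : ∃ B : Set Ω, MulAction.IsBlock Γ B ∧ ¬ MulAction.IsTrivialBlock B := by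
    by_contra hcon
    push Not at hcon
    exact hnprim { toIsPretransitive := htr, isTrivialBlock_of_isBlock := fun {B} hB => hcon B hB }
  obtain ⟨B, hB, hBt⟩ := hexB
  have hBns : ¬ B.Subsingleton := fun h => hBt (Or.inl h)
  have hBnu : B ≠ Set.univ := fun h => hBt (Or.inr h)
  obtain ⟨K, hK⟩ : ∃ K : Subgroup Γ, ∀ x, x ∈ K ↔ ∀ h : Γ, x • (h • B) = h • B := by
    exact ⟨blockKernel B, fun x => Iff.rfl⟩
  have hKn : K.Normal := by
    refine ⟨fun x hx y => ?_⟩
    rw [hK] at hx ⊢
    intro h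
    have := hx (y⁻¹ * h)
    rw [mul_smul, mul_smul, ← mul_smul y⁻¹ h, this, ← mul_smul, mul_inv_cancel_left]
  have hzK : g ^ (p ^ (m - 1)) ∈ K := by
    rw [hK]
    intro h
    apply blockfix p m hp g hg hreg_t (hB.translate h)
    intro hs
    apply hBns
    intro x hx y hy
    have := hs (Set.smul_mem_smul_set (a := h) hx) (Set.smul_mem_smul_set (a := h) hy)
    exact smul_left_cancel h this
  have hle : Subgroup.normalClosure ({g ^ (p ^ (m - 1))} : Set Γ) ≤ K :=
    Subgroup.normalClosure_le_normal (by simpa using hzK)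
  obtain ⟨a, ha⟩ : B.Nonempty := by
    by_contra hne
    rw [Set.not_nonempty_iff_eq_empty] at hne
    exact hBns (by rw [hne]; exact Set.subsingleton_empty)
  apply hBnu
  rw [Set.eq_univ_iff_forall]
  intro ω
  obtain ⟨n, hn⟩ := MulAction.exists_smul_eq
    (Subgroup.normalClosure ({g ^ (p ^ (m - 1))} : Set Γ)) a ω
  have := (hK _).1 (hle n.2) 1
  rw [one_smul] at this
  rw [← this, ← hn]
  exact Set.smul_mem_smul_set (a := (n : Γ)) ha

end Cfsg.Agent.Lib.Helper19.SchurCyclic
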