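import Mathlib
import Cfsg.Agent.Lib.Helper14.SOT4A4abs

set_option autoImplicit false

/-!
S4004 leaf **A4_no_normalizing** (planner helper18, `notes/S4004_leaves.lean`): `A4_abs` (helper14) applied with
`A := ↥V`, `φ := MulAut.conjNormal`.
-/

namespace Cfsg.Agent.Lib.Helper19.SOT4

/-- two commuting elements of distinct prime orders `r`, `r'` give an element of order `r r'`. -/
theorem no_mixed {G : Type*} [Group G] (r r' : ℕ) (hr : r.Prime) (hr' : r'.Prime) (hne : r ≠ r')
    (hord : ∀ g : G, orderOf g = 1 ∨ orderOf g = r ∨ orderOf g = r')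
    (a b : G) (ha : orderOf a = r) (hb : orderOf b = r') (hab : Commute a b) : False := by
  have hcop : Nat.Coprime (orderOf a) (orderOf b) := by
    rw [ha, hb]; exact (Nat.coprime_primes hr hr').2 hne
  have h := hab.orderOf_mul_eq_mul_orderOf_of_coprime hcop
  rw [ha, hb] at h
  have h2 := hr.two_le
  have h2' := hr'.two_le
  rcases hord (a * b) with h1 | h1 | h1 <;> rw [h] at h1
  · nlinarith
  · nlinarith
  · nlinarith

/-- the commutative group structure on an abelian subgroup (same `Group` structure). -/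
@[reducible] def commGroupOfComm {G : Type*} [Group G] (V : Subgroup G)
    (hVc : ∀ a ∈ V, ∀ b ∈ V, a * b = b * a) : CommGroup V :=
  { (inferInstance : Group V) with mul_comm := fun a b => Subtype.ext (hVc a a.2 b b.2) }

theorem pow_mul_conj_prod {G : Type*} [Group G] (V : Subgroup G) [V.Normal]
    (hVc : ∀ a ∈ V, ∀ b ∈ V, a * b = b * a) (a : V) (σ : G) (k : ℕ) :
    letI := commGroupOfComm V hVc
    ((a : G) * σ) ^ k = ((∏ j ∈ Finset.range k, (MulAut.conjNormal (H := V) (σ ^ j)) a : V) : G) * σ ^ k := by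
  let _ := commGroupOfComm V hVc
  induction k with
  | zero => simp
  | succ k ih =>
    rw [pow_succ, ih, Finset.prod_range_succ, Subgroup.coe_mul, MulAut.conjNormal_apply, pow_succ]
    group

theorem A4_no_normalizing {G : Type*} [Group G] [Finite G] (r r' : ℕ) (hr : r.Prime) (hr' : r'.Prime) (hne : r ≠ r')
    (hord : ∀ g : G, orderOf g = 1 ∨ orderOf g = r ∨ orderOf g = r')
    (V : Subgroup G) [V.Normal] (hVc : ∀ a ∈ V, ∀ b ∈ V, a * b = b * a) (hVr : ∀ v ∈ V, v ^ r = 1) (hV : V ≠ ⊥)
    (y σ : G) (hy : orderOf y = r') (hσ : orderOf σ = r) (hnorm : σ * y * σ⁻¹ ∈ Subgroup.zpowers y) : False := by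
  let inst : CommGroup V := commGroupOfComm V hVc
  -- elements of V other than 1 have order r
  have hVord : ∀ v ∈ V, v ≠ 1 → orderOf v = r := fun v hv hv1 =>
    haveI := Fact.mk hr
    orderOf_eq_prime (hVr v hv) hv1
  have hnc : ¬ Commute σ y := fun hc => no_mixed r r' hr hr' hne hord σ y hσ hy hc
  have hfy : ∀ a : V, (MulAut.conjNormal (H := V) y) a = a → a = 1 := by
    intro a ha
    by_contra ha1
    have h1 : (a : G) ≠ 1 := fun h => ha1 (Subtype.ext h)
    have h2 := congrArg (Subtype.val) ha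
    rw [MulAut.conjNormal_apply] at h2
    have hc : Commute (a : G) y := by
      have : y * (a : G) = a * y := by
        calc y * (a : G) = y * a * y⁻¹ * y := by group
          _ = a * y := by rw [h2]
      exact this.symm
    exact no_mixed r r' hr hr' hne hord a y (hVord a a.2 h1) hy hc
  have hN : ∀ a : V, ∏ j ∈ Finset.range r, (MulAut.conjNormal (H := V) (σ ^ j)) a = 1 := by
    intro a
    have key := pow_mul_conj_prod V hVc a σ r
    have hσr : σ ^ r = 1 := by rw [← hσ]; exact pow_orderOf_eq_one σ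
    rw [hσr, mul_one] at key
    set P : V := ∏ j ∈ Finset.range r, (MulAut.conjNormal (H := V) (σ ^ j)) a with hP
    have hPr : ((a : G) * σ) ^ (r * r) = 1 := by
      rw [pow_mul, key]; exact hVr _ P.2
    have hdvd : orderOf ((a : G) * σ) ∣ r * r := orderOf_dvd_of_pow_eq_one hPr
    have hone : ((a : G) * σ) ^ r = 1 := by
      rcases hord ((a : G) * σ) with h1 | h1 | h1
      · rw [orderOf_eq_one_iff] at h1; rw [h1, one_pow]
      · rw [← h1]; exact pow_orderOf_eq_one _
      · exfalso
        rw [h1] at hdvd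
        rcases (Nat.Prime.dvd_mul hr').1 hdvd with h | h <;>
          exact hne ((Nat.prime_dvd_prime_iff_eq hr' hr).1 h).symm
    apply Subtype.ext
    rw [← key, hone]; rfl
  have hall := Cfsg.Agent.Lib.Helper14.SOT4.A4_abs (MulAut.conjNormal (H := V)) r r' hr hr' y σ hy hσ hnorm hnc hfy hN
  apply hV
  rw [Subgroup.eq_bot_iff_forall]
  intro v hv
  have h1 : (⟨v, hv⟩ : V) ^ r' = 1 := hall ⟨v, hv⟩
  have h1' : v ^ r' = 1 := by simpa using congrArg Subtype.val h1
  have h2 : v ^ r = 1 := hVr v hv
  have hcop : Nat.Coprime r r' := (Nat.coprime_primes hr hr').2 hne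
  have := (pow_gcd_eq_one (a := v) (m := r) (n := r')).2 ⟨h2, h1'⟩
  rwa [hcop.gcd_eq_one, pow_one] at this

end Cfsg.Agent.Lib.Helper19.SOT4
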