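import Mathlib

set_option autoImplicit false

namespace Cfsg.Agent.Lib.Helper19

set_option maxRecDepth 1000000 in
theorem a6_perm_pow (g : Equiv.Perm (Fin 6)) (hg : Equiv.Perm.sign g = 1) :
    g ^ 3 = 1 ∨ g ^ 4 = 1 ∨ g ^ 5 = 1 := by
  revert g
  decide +kernel

theorem dvd_three_four_five {n : ℕ} (h : n ∣ 3 ∨ n ∣ 4 ∨ n ∣ 5) :
    n = 1 ∨ n = 2 ∨ n = 3 ∨ n = 4 ∨ n = 5 := by
  rcases h with h | h | h
  · rcases (Nat.dvd_prime Nat.prime_three).mp h with h1 | h1 <;> simp [h1]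
  · have h4 : n ≤ 4 := Nat.le_of_dvd (by norm_num) h
    interval_cases n <;> simp_all
  · rcases (Nat.dvd_prime Nat.prime_five).mp h with h1 | h1 <;> simp [h1]

/-- element orders in `A₆` are `1, 2, 3, 4, 5` -/
theorem a6_orderOf (g : alternatingGroup (Fin 6)) :
    orderOf g = 1 ∨ orderOf g = 2 ∨ orderOf g = 3 ∨ orderOf g = 4 ∨ orderOf g = 5 := by
  have hs : Equiv.Perm.sign (g : Equiv.Perm (Fin 6)) = 1 := Equiv.Perm.mem_alternatingGroup.mp g.2
  rw [← Subgroup.orderOf_coe]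
  apply dvd_three_four_five
  rcases a6_perm_pow g.1 hs with h | h | h
  · exact Or.inl (orderOf_dvd_of_pow_eq_one h)
  · exact Or.inr (Or.inl (orderOf_dvd_of_pow_eq_one h))
  · exact Or.inr (Or.inr (orderOf_dvd_of_pow_eq_one h))

set_option maxRecDepth 100000 in
theorem a6_exists_order_two : ∃ g : alternatingGroup (Fin 6), orderOf g = 2 := by
  refine ⟨⟨Equiv.swap 0 1 * Equiv.swap 2 3, Equiv.Perm.mem_alternatingGroup.mpr (by decide)⟩, ?_⟩
  rw [← Subgroup.orderOf_coe]
  exact orderOf_eq_prime (p := 2) (by decide) (by decide)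

set_option maxRecDepth 100000 in
theorem a6_exists_order_three : ∃ g : alternatingGroup (Fin 6), orderOf g = 3 := by
  refine ⟨⟨Equiv.swap 0 1 * Equiv.swap 1 2, Equiv.Perm.mem_alternatingGroup.mpr (by decide)⟩, ?_⟩
  rw [← Subgroup.orderOf_coe]
  haveI : Fact (Nat.Prime 3) := ⟨Nat.prime_three⟩
  exact orderOf_eq_prime (p := 3) (by decide) (by decide)

set_option maxRecDepth 100000 in
theorem a6_exists_order_four : ∃ g : alternatingGroup (Fin 6), orderOf g = 4 := by
  refine ⟨⟨Equiv.swap 0 1 * Equiv.swap 1 2 * Equiv.swap 2 3 * Equiv.swap 4 5,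
    Equiv.Perm.mem_alternatingGroup.mpr (by decide)⟩, ?_⟩
  rw [← Subgroup.orderOf_coe]
  exact orderOf_eq_prime_pow (p := 2) (n := 1) (by decide) (by decide)

set_option maxRecDepth 100000 in
theorem a6_exists_order_five : ∃ g : alternatingGroup (Fin 6), orderOf g = 5 := by
  refine ⟨⟨Equiv.swap 0 1 * Equiv.swap 1 2 * Equiv.swap 2 3 * Equiv.swap 3 4,
    Equiv.Perm.mem_alternatingGroup.mpr (by decide)⟩, ?_⟩
  rw [← Subgroup.orderOf_coe]
  haveI : Fact (Nat.Prime 5) := ⟨Nat.prime_five⟩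
  exact orderOf_eq_prime (p := 5) (by decide) (by decide)

/-- the spectrum of `A₆` -/
theorem a6_spec : Set.range (orderOf : alternatingGroup (Fin 6) → ℕ) = {1, 2, 3, 4, 5} := by
  ext n
  simp only [Set.mem_range, Set.mem_insert_iff, Set.mem_singleton_iff]
  constructor
  · rintro ⟨g, rfl⟩
    exact a6_orderOf g
  · rintro (rfl | rfl | rfl | rfl | rfl)
    · exact ⟨1, orderOf_one⟩
    · exact a6_exists_order_two
    · exact a6_exists_order_three
    · exact a6_exists_order_four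
    · exact a6_exists_order_five

end Cfsg.Agent.Lib.Helper19
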