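import Mathlib

set_option autoImplicit false

namespace Cfsg.Agent.Lib.Helper19.B2Enc

/-- index set of the adjoint module of type `B₂`. -/
abbrev I10 : Type := Fin 2 ⊕ Fin 8

/-- position of an index. -/
def pos : I10 → ℕ
  | Sum.inl i => i.val
  | Sum.inr u => 2 + u.val

/-- the bit as an element of `ZMod 2`. -/
def bz (b : Bool) : ZMod 2 := if b then 1 else 0

theorem bz_xor (a b : Bool) : bz (a ^^ b) = bz a + bz b := by
  cases a <;> cases b <;> decide

theorem bz_and (a b : Bool) : bz (a && b) = bz a * bz b := by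
  cases a <;> cases b <;> decide

/-- decoding of a list of row masks. -/
def dec (m : List ℕ) : Matrix I10 I10 (ZMod 2) :=
  Matrix.of fun i j => bz ((m.getD (pos i) 0).testBit (pos j))

/-- a row times a matrix. -/
def rowMul (r : ℕ) (b : List ℕ) : ℕ :=
  (if r.testBit 0 then b.getD 0 0 else 0) ^^^ (if r.testBit 1 then b.getD 1 0 else 0) ^^^
  (if r.testBit 2 then b.getD 2 0 else 0) ^^^ (if r.testBit 3 then b.getD 3 0 else 0) ^^^
  (if r.testBit 4 then b.getD 4 0 else 0) ^^^ (if r.testBit 5 then b.getD 5 0 else 0) ^^^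
  (if r.testBit 6 then b.getD 6 0 else 0) ^^^ (if r.testBit 7 then b.getD 7 0 else 0) ^^^
  (if r.testBit 8 then b.getD 8 0 else 0) ^^^ (if r.testBit 9 then b.getD 9 0 else 0)

/-- product of encodings. -/
def mulE (a b : List ℕ) : List ℕ := a.map fun r => rowMul r b

theorem rowMul_zero (b : List ℕ) : rowMul 0 b = 0 := by
  simp [rowMul]

theorem testBit_ite (c : Bool) (x j : ℕ) :
    (if c then x else 0).testBit j = (c && x.testBit j) := by
  cases c <;> simp

theorem bz_rowMul (r : ℕ) (b : List ℕ) (c : ℕ) :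
    bz ((rowMul r b).testBit c) =
      ∑ k : I10, bz (r.testBit (pos k)) * bz ((b.getD (pos k) 0).testBit c) := by
  rw [Fintype.sum_sum_type, Fin.sum_univ_two, Fin.sum_univ_eight]
  simp only [rowMul, Nat.testBit_xor, testBit_ite, bz_xor, bz_and, pos]
  have e2 : ((2 : Fin 8) : ℕ) = 2 := rfl
  have e3 : ((3 : Fin 8) : ℕ) = 3 := rfl
  have e4 : ((4 : Fin 8) : ℕ) = 4 := rfl
  have e5 : ((5 : Fin 8) : ℕ) = 5 := rfl
  have e6 : ((6 : Fin 8) : ℕ) = 6 := rfl
  have e7 : ((7 : Fin 8) : ℕ) = 7 := rfl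
  simp only [Fin.val_zero, Fin.val_one, e2, e3, e4, e5, e6, e7, Nat.reduceAdd]
  ring

theorem dec_mul (a b : List ℕ) : dec (mulE a b) = dec a * dec b := by
  ext i j
  rw [Matrix.mul_apply]
  simp only [dec, Matrix.of_apply, mulE]
  have h : (List.map (fun r => rowMul r b) a).getD (pos i) 0 = rowMul (a.getD (pos i) 0) b := by
    simp only [List.getD_eq_getElem?_getD, List.getElem?_map]
    cases a[pos i]? <;> simp [rowMul_zero]
  rw [h, bz_rowMul]

/-- the identity. -/
def ONE : List ℕ := [1, 2, 4, 8, 16, 32, 64, 128, 256, 512]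

theorem dec_one : dec ONE = 1 := by
  decide +kernel

/-- decoding of a list of images as a self-map of six points. -/
def decP (a : List ℕ) : Fin 6 → Fin 6 := fun k => Fin.ofNat 6 (a.getD k.val 0)

/-- composition of encoded self-maps. -/
def mulP (a b : List ℕ) : List ℕ :=
  [a.getD (b.getD 0 0 % 6) 0, a.getD (b.getD 1 0 % 6) 0, a.getD (b.getD 2 0 % 6) 0,
   a.getD (b.getD 3 0 % 6) 0, a.getD (b.getD 4 0 % 6) 0, a.getD (b.getD 5 0 % 6) 0]

theorem decP_mul (a b : List ℕ) : decP (mulP a b) = decP a ∘ decP b := by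
  funext k
  fin_cases k <;> rfl

/-- the identity map. -/
def IDP : List ℕ := [0, 1, 2, 3, 4, 5]

theorem decP_one : decP IDP = id := by
  funext k
  fin_cases k <;> rfl

/-- binary trees for fast lookup. -/
inductive BT (α : Type) : Type
  | leaf : α → BT α
  | node : BT α → BT α → BT α

/-- lookup in a binary tree along the binary digits of the index. -/
def BT.get {α : Type} : BT α → ℕ → α
  | BT.leaf a, _ => a
  | BT.node l r, i => if i % 2 = 0 then l.get (i / 2) else r.get (i / 2)

end Cfsg.Agent.Lib.Helper19.B2Enc
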