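/-
Helper19 library: encodings of `4 × 4` matrices over `ZMod 2` (lists of four row masks), of vectors (masks) and of
self-maps of seven points, for kernel computations in `GL₄(2)`.
-/
import Mathlib
import Cfsg.Agent.Lib.Helper19.B2Enc

set_option autoImplicit false

namespace Cfsg.Agent.Lib.Helper19.A7Enc

open Cfsg.Agent.Lib.Helper19.B2Enc

/-- matrices over `ZMod 2`. -/
abbrev M4 : Type := Matrix (Fin 4) (Fin 4) (ZMod 2)

/-- vectors over `ZMod 2`. -/
abbrev V4 : Type := Fin 4 → ZMod 2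

/-- decoding of a list of row masks. -/
def dec4 (m : List ℕ) : M4 :=
  Matrix.of fun i j => bz ((m.getD i.val 0).testBit j.val)

/-- a row times a matrix. -/
def rowMul4 (r : ℕ) (b : List ℕ) : ℕ :=
  (if r.testBit 0 then b.getD 0 0 else 0) ^^^ (if r.testBit 1 then b.getD 1 0 else 0) ^^^
  (if r.testBit 2 then b.getD 2 0 else 0) ^^^ (if r.testBit 3 then b.getD 3 0 else 0)

/-- product of encodings. -/
def mul4 (a b : List ℕ) : List ℕ := a.map fun r => rowMul4 r b

theorem rowMul4_zero (b : List ℕ) : rowMul4 0 b = 0 := by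
  simp [rowMul4]

theorem bz_rowMul4 (r : ℕ) (b : List ℕ) (c : ℕ) :
    bz ((rowMul4 r b).testBit c) =
      ∑ k : Fin 4, bz (r.testBit k.val) * bz ((b.getD k.val 0).testBit c) := by
  rw [Fin.sum_univ_four]
  simp only [rowMul4, Nat.testBit_xor, testBit_ite, bz_xor, bz_and]
  rfl

theorem dec4_mul (a b : List ℕ) : dec4 (mul4 a b) = dec4 a * dec4 b := by
  ext i j
  rw [Matrix.mul_apply]
  simp only [dec4, Matrix.of_apply, mul4]
  have h : (List.map (fun r => rowMul4 r b) a).getD i.val 0 = rowMul4 (a.getD i.val 0) b := by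
    simp only [List.getD_eq_getElem?_getD, List.getElem?_map]
    cases a[i.val]? <;> simp [rowMul4_zero]
  rw [h, bz_rowMul4]

/-- the identity. -/
def ONE4 : List ℕ := [1, 2, 4, 8]

theorem dec4_one : dec4 ONE4 = 1 := by
  decide +kernel

/-- the mask of a vector. -/
def maskOf (v : V4) : ℕ := (v 0).val + 2 * (v 1).val + 4 * (v 2).val + 8 * (v 3).val

/-- the vector of a mask. -/
def vecOf (m : ℕ) : V4 := fun j => bz (m.testBit j.val)

theorem vecOf_maskOf_aux : ∀ a b c d : ZMod 2,
    bz ((a.val + 2 * b.val + 4 * c.val + 8 * d.val).testBit 0) = a ∧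
    bz ((a.val + 2 * b.val + 4 * c.val + 8 * d.val).testBit 1) = b ∧
    bz ((a.val + 2 * b.val + 4 * c.val + 8 * d.val).testBit 2) = c ∧
    bz ((a.val + 2 * b.val + 4 * c.val + 8 * d.val).testBit 3) = d ∧
    a.val + 2 * b.val + 4 * c.val + 8 * d.val < 16 := by
  decide

theorem vecOf_maskOf (v : V4) : vecOf (maskOf v) = v := by
  obtain ⟨h0, h1, h2, h3, _⟩ := vecOf_maskOf_aux (v 0) (v 1) (v 2) (v 3)
  funext j
  fin_cases j
  · exact h0
  · exact h1
  · exact h2
  · exact h3

theorem maskOf_lt (v : V4) : maskOf v < 16 := (vecOf_maskOf_aux (v 0) (v 1) (v 2) (v 3)).2.2.2.2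

theorem vecOf_zero : vecOf 0 = 0 := by
  funext j
  simp [vecOf, bz]

/-- the list of row masks of a matrix. -/
def enc4 (A : M4) : List ℕ := [maskOf (A 0), maskOf (A 1), maskOf (A 2), maskOf (A 3)]

theorem dec4_enc4 (A : M4) : dec4 (enc4 A) = A := by
  ext i j
  have h : ∀ i : Fin 4, (enc4 A).getD i.val 0 = maskOf (A i) := by
    intro i
    fin_cases i <;> rfl
  show bz (((enc4 A).getD i.val 0).testBit j.val) = A i j
  rw [h]
  exact congrFun (vecOf_maskOf (A i)) j

/-- parity of the four low bits. -/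
def par4 (x : ℕ) : Bool := (x.testBit 0 ^^ x.testBit 1) ^^ (x.testBit 2 ^^ x.testBit 3)

/-- the mask of the product of a matrix with a vector. -/
def mvE (a : List ℕ) (m : ℕ) : ℕ :=
  (if par4 (a.getD 0 0 &&& m) then 1 else 0) + (if par4 (a.getD 1 0 &&& m) then 2 else 0) +
  (if par4 (a.getD 2 0 &&& m) then 4 else 0) + (if par4 (a.getD 3 0 &&& m) then 8 else 0)

theorem testBit_mvE_aux : ∀ b0 b1 b2 b3 : Bool,
    ((if b0 then 1 else 0) + (if b1 then 2 else 0) + (if b2 then 4 else 0) +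
      (if b3 then 8 else 0) : ℕ).testBit 0 = b0 ∧
    ((if b0 then 1 else 0) + (if b1 then 2 else 0) + (if b2 then 4 else 0) +
      (if b3 then 8 else 0) : ℕ).testBit 1 = b1 ∧
    ((if b0 then 1 else 0) + (if b1 then 2 else 0) + (if b2 then 4 else 0) +
      (if b3 then 8 else 0) : ℕ).testBit 2 = b2 ∧
    ((if b0 then 1 else 0) + (if b1 then 2 else 0) + (if b2 then 4 else 0) +
      (if b3 then 8 else 0) : ℕ).testBit 3 = b3 := by
  decide

theorem bz_par4_and (r m : ℕ) :
    bz (par4 (r &&& m)) = ∑ k : Fin 4, bz (r.testBit k.val) * bz (m.testBit k.val) := by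
  rw [Fin.sum_univ_four]
  simp only [par4, Nat.testBit_and, bz_xor, bz_and]
  simp only [Fin.val_zero, Fin.val_one, Fin.val_two]
  have e3 : ((3 : Fin 4) : ℕ) = 3 := rfl
  rw [e3]
  ring

theorem dec4_mulVec (a : List ℕ) (m : ℕ) : Matrix.mulVec (dec4 a) (vecOf m) = vecOf (mvE a m) := by
  obtain ⟨h0, h1, h2, h3⟩ := testBit_mvE_aux (par4 (a.getD 0 0 &&& m)) (par4 (a.getD 1 0 &&& m))
    (par4 (a.getD 2 0 &&& m)) (par4 (a.getD 3 0 &&& m))
  funext i
  show ∑ k : Fin 4, dec4 a i k * vecOf m k = vecOf (mvE a m) i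
  simp only [dec4, Matrix.of_apply, vecOf]
  rw [← bz_par4_and]
  fin_cases i
  · exact congrArg bz h0.symm
  · exact congrArg bz h1.symm
  · exact congrArg bz h2.symm
  · exact congrArg bz h3.symm

/-- decoding of a list of images as a self-map of seven points. -/
def decP7 (a : List ℕ) : Fin 7 → Fin 7 := fun k => Fin.ofNat 7 (a.getD k.val 0)

/-- composition of encoded self-maps. -/
def mulP7 (a b : List ℕ) : List ℕ :=
  [a.getD (b.getD 0 0 % 7) 0, a.getD (b.getD 1 0 % 7) 0, a.getD (b.getD 2 0 % 7) 0,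
   a.getD (b.getD 3 0 % 7) 0, a.getD (b.getD 4 0 % 7) 0, a.getD (b.getD 5 0 % 7) 0,
   a.getD (b.getD 6 0 % 7) 0]

theorem decP7_mul (a b : List ℕ) : decP7 (mulP7 a b) = decP7 a ∘ decP7 b := by
  funext k
  fin_cases k <;> rfl

/-- the identity map. -/
def ID7 : List ℕ := [0, 1, 2, 3, 4, 5, 6]

theorem decP7_one : decP7 ID7 = id := by
  funext k
  fin_cases k <;> rfl

/-- the list of images of a self-map. -/
def encP7 (f : Fin 7 → Fin 7) : List ℕ :=
  [(f 0).val, (f 1).val, (f 2).val, (f 3).val, (f 4).val, (f 5).val, (f 6).val]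

/-- the permutation with given images and given images of the inverse. -/
def permOf7 (a b : List ℕ) (h1 : mulP7 b a = ID7) (h2 : mulP7 a b = ID7) : Equiv.Perm (Fin 7) where
  toFun := decP7 a
  invFun := decP7 b
  left_inv := by
    intro k
    have := congrFun (decP7_mul b a) k
    rw [h1, decP7_one] at this
    exact this.symm
  right_inv := by
    intro k
    have := congrFun (decP7_mul a b) k
    rw [h2, decP7_one] at this
    exact this.symm

theorem coe_perm7_injective :
    Function.Injective (fun σ : Equiv.Perm (Fin 7) => (⇑σ : Fin 7 → Fin 7)) :=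
  fun _ _ h => Equiv.ext (congrFun h)

end Cfsg.Agent.Lib.Helper19.A7Enc
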