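/-
Helper19 library: kernel-checked certificates: for every element `t` of order five of `GL₄(2)`, either a word in `s`, `t`
of order fifteen or a spanning tree for the action of `⟨s, t⟩` on ordered pairs of distinct non-zero vectors.
-/
import Mathlib
import Cfsg.Agent.Lib.Helper19.A7Enc
import Cfsg.Agent.Lib.Helper19.A7CertData

set_option autoImplicit false
set_option maxRecDepth 100000

namespace Cfsg.Agent.Lib.Helper19.A7CertCheck

open Cfsg.Agent.Lib.Helper19.B2Enc Cfsg.Agent.Lib.Helper19.G2Enc Cfsg.Agent.Lib.Helper19.A7Enc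
open Cfsg.Agent.Lib.Helper19.A7CertData

/-- the fifth power of an encoded matrix. -/
def pow5E (t : List ℕ) : List ℕ := mul4 (mul4 (mul4 t t) (mul4 t t)) t

/-- the word in `s` and `t` with binary code `w` (the lowest bit is the outermost factor; the leading `1` ends the word). -/
def wordE (TE : List ℕ) : ℕ → ℕ → List ℕ
  | 0, _ => ONE4
  | fuel + 1, w => if w ≤ 1 then ONE4 else mul4 (if w % 2 = 0 then SE else TE) (wordE TE fuel (w / 2))

/-- the action on the code `m₁ + 16 m₂` of a pair of vectors. -/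
def actE (a : List ℕ) (p : ℕ) : ℕ := mvE a (p % 16) + 16 * mvE a (p / 16)

/-- the `b`-th pair of the `k`-th orbit. -/
def orb (k b : ℕ) : ℕ := (ORBL.getD k []).getD b 0

/-- verification of a spanning tree on the orbits of `s`. -/
def chkTree (TE : List ℕ) : List ℕ → List ℕ → Bool
  | [], reached => (List.range 30).all fun k => reached.contains k
  | q :: qs, reached =>
    reached.contains (q / 32 % 32) && decide (q / 1024 % 8 < 7) && decide (q / 8192 < 7) &&
      (actE TE (orb (q / 32 % 32) (q / 1024 % 8)) == orb (q % 32) (q / 8192)) &&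
      chkTree TE qs ((q % 32) :: reached)

/-- the entries of a packed tree. -/
def entries (p : ℕ) : List ℕ := (List.range 29).map fun n => p / 65536 ^ n % 65536

/-- the third, fifth and fifteenth powers show that the order is fifteen. -/
def ord15 (W : List ℕ) : Bool :=
  (mul4 (mul4 (mul4 (mul4 (mul4 W W) W) (mul4 W W)) (mul4 (mul4 (mul4 W W) W) (mul4 W W)))
      (mul4 (mul4 (mul4 W W) W) (mul4 W W)) == ONE4) &&
    (mul4 (mul4 (mul4 W W) W) (mul4 W W) != ONE4) && (mul4 (mul4 W W) W != ONE4)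

/-- verification of a certificate. -/
def certOK (TE : List ℕ) (c : ℕ) : Bool :=
  if c % 2 = 0 then ord15 (wordE TE 10 (c / 2)) else chkTree TE (entries (c / 2)) [0]

/-- packing of four digits in base 16. -/
def pack4 (l : List ℕ) : ℕ := l.getD 0 0 + 16 * l.getD 1 0 + 256 * l.getD 2 0 + 4096 * l.getD 3 0

theorem certA0 : ∀ b ∈ List.range 16, ∀ c ∈ List.range 16, ∀ d ∈ List.range 16,
    pow5E [0, b, c, d] = ONE4 → [0, b, c, d] ≠ ONE4 →
      certOK [0, b, c, d] (CT.find (pack4 [0, b, c, d])) = true := by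
  decide +kernel

theorem certA1 : ∀ b ∈ List.range 16, ∀ c ∈ List.range 16, ∀ d ∈ List.range 16,
    pow5E [1, b, c, d] = ONE4 → [1, b, c, d] ≠ ONE4 →
      certOK [1, b, c, d] (CT.find (pack4 [1, b, c, d])) = true := by
  decide +kernel

theorem certA2 : ∀ b ∈ List.range 16, ∀ c ∈ List.range 16, ∀ d ∈ List.range 16,
    pow5E [2, b, c, d] = ONE4 → [2, b, c, d] ≠ ONE4 →
      certOK [2, b, c, d] (CT.find (pack4 [2, b, c, d])) = true := by
  decide +kernel

theorem certA3 : ∀ b ∈ List.range 16, ∀ c ∈ List.range 16, ∀ d ∈ List.range 16,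
    pow5E [3, b, c, d] = ONE4 → [3, b, c, d] ≠ ONE4 →
      certOK [3, b, c, d] (CT.find (pack4 [3, b, c, d])) = true := by
  decide +kernel

theorem certA4 : ∀ b ∈ List.range 16, ∀ c ∈ List.range 16, ∀ d ∈ List.range 16,
    pow5E [4, b, c, d] = ONE4 → [4, b, c, d] ≠ ONE4 →
      certOK [4, b, c, d] (CT.find (pack4 [4, b, c, d])) = true := by
  decide +kernel

theorem certA5 : ∀ b ∈ List.range 16, ∀ c ∈ List.range 16, ∀ d ∈ List.range 16,
    pow5E [5, b, c, d] = ONE4 → [5, b, c, d] ≠ ONE4 →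
      certOK [5, b, c, d] (CT.find (pack4 [5, b, c, d])) = true := by
  decide +kernel

theorem certA6 : ∀ b ∈ List.range 16, ∀ c ∈ List.range 16, ∀ d ∈ List.range 16,
    pow5E [6, b, c, d] = ONE4 → [6, b, c, d] ≠ ONE4 →
      certOK [6, b, c, d] (CT.find (pack4 [6, b, c, d])) = true := by
  decide +kernel

theorem certA7 : ∀ b ∈ List.range 16, ∀ c ∈ List.range 16, ∀ d ∈ List.range 16,
    pow5E [7, b, c, d] = ONE4 → [7, b, c, d] ≠ ONE4 →
      certOK [7, b, c, d] (CT.find (pack4 [7, b, c, d])) = true := by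
  decide +kernel

theorem certA8 : ∀ b ∈ List.range 16, ∀ c ∈ List.range 16, ∀ d ∈ List.range 16,
    pow5E [8, b, c, d] = ONE4 → [8, b, c, d] ≠ ONE4 →
      certOK [8, b, c, d] (CT.find (pack4 [8, b, c, d])) = true := by
  decide +kernel

theorem certA9 : ∀ b ∈ List.range 16, ∀ c ∈ List.range 16, ∀ d ∈ List.range 16,
    pow5E [9, b, c, d] = ONE4 → [9, b, c, d] ≠ ONE4 →
      certOK [9, b, c, d] (CT.find (pack4 [9, b, c, d])) = true := by
  decide +kernel

theorem certA10 : ∀ b ∈ List.range 16, ∀ c ∈ List.range 16, ∀ d ∈ List.range 16,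
    pow5E [10, b, c, d] = ONE4 → [10, b, c, d] ≠ ONE4 →
      certOK [10, b, c, d] (CT.find (pack4 [10, b, c, d])) = true := by
  decide +kernel

theorem certA11 : ∀ b ∈ List.range 16, ∀ c ∈ List.range 16, ∀ d ∈ List.range 16,
    pow5E [11, b, c, d] = ONE4 → [11, b, c, d] ≠ ONE4 →
      certOK [11, b, c, d] (CT.find (pack4 [11, b, c, d])) = true := by
  decide +kernel

theorem certA12 : ∀ b ∈ List.range 16, ∀ c ∈ List.range 16, ∀ d ∈ List.range 16,
    pow5E [12, b, c, d] = ONE4 → [12, b, c, d] ≠ ONE4 →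
      certOK [12, b, c, d] (CT.find (pack4 [12, b, c, d])) = true := by
  decide +kernel

theorem certA13 : ∀ b ∈ List.range 16, ∀ c ∈ List.range 16, ∀ d ∈ List.range 16,
    pow5E [13, b, c, d] = ONE4 → [13, b, c, d] ≠ ONE4 →
      certOK [13, b, c, d] (CT.find (pack4 [13, b, c, d])) = true := by
  decide +kernel

theorem certA14 : ∀ b ∈ List.range 16, ∀ c ∈ List.range 16, ∀ d ∈ List.range 16,
    pow5E [14, b, c, d] = ONE4 → [14, b, c, d] ≠ ONE4 →
      certOK [14, b, c, d] (CT.find (pack4 [14, b, c, d])) = true := by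
  decide +kernel

theorem certA15 : ∀ b ∈ List.range 16, ∀ c ∈ List.range 16, ∀ d ∈ List.range 16,
    pow5E [15, b, c, d] = ONE4 → [15, b, c, d] ≠ ONE4 →
      certOK [15, b, c, d] (CT.find (pack4 [15, b, c, d])) = true := by
  decide +kernel

theorem certAll (a b c d : ℕ) (ha : a < 16) (hb : b < 16) (hc : c < 16) (hd : d < 16)
    (h5 : pow5E [a, b, c, d] = ONE4) (h1 : [a, b, c, d] ≠ ONE4) :
    certOK [a, b, c, d] (CT.find (pack4 [a, b, c, d])) = true := by
  have hb' := List.mem_range.2 hb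
  have hc' := List.mem_range.2 hc
  have hd' := List.mem_range.2 hd
  interval_cases a
  · exact certA0 b hb' c hc' d hd' h5 h1
  · exact certA1 b hb' c hc' d hd' h5 h1
  · exact certA2 b hb' c hc' d hd' h5 h1
  · exact certA3 b hb' c hc' d hd' h5 h1
  · exact certA4 b hb' c hc' d hd' h5 h1
  · exact certA5 b hb' c hc' d hd' h5 h1
  · exact certA6 b hb' c hc' d hd' h5 h1
  · exact certA7 b hb' c hc' d hd' h5 h1
  · exact certA8 b hb' c hc' d hd' h5 h1
  · exact certA9 b hb' c hc' d hd' h5 h1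
  · exact certA10 b hb' c hc' d hd' h5 h1
  · exact certA11 b hb' c hc' d hd' h5 h1
  · exact certA12 b hb' c hc' d hd' h5 h1
  · exact certA13 b hb' c hc' d hd' h5 h1
  · exact certA14 b hb' c hc' d hd' h5 h1
  · exact certA15 b hb' c hc' d hd' h5 h1

theorem complete : ∀ m₁ ∈ List.range 16, ∀ m₂ ∈ List.range 16, m₁ ≠ 0 → m₂ ≠ 0 → m₁ ≠ m₂ →
    ∃ k ∈ List.range 30, ∃ b ∈ List.range 7, orb k b = m₁ + 16 * m₂ := by
  decide +kernel

theorem orb_cyc : ∀ k ∈ List.range 30, ∀ b ∈ List.range 7, actE SE (orb k b) = orb k ((b + 1) % 7) := by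
  decide +kernel

theorem S_pow : mul4 (mul4 (mul4 SE SE) SE) (mul4 (mul4 (mul4 SE SE) SE) SE) = ONE4 ∧ SE ≠ ONE4 := by
  decide +kernel

end Cfsg.Agent.Lib.Helper19.A7CertCheck
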