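/-
Helper19 library: the spectrum of `PSU₃(3)` is `{1,2,3,4,6,7,8,12}`.
-/
import Mathlib
import Cfsg.Agent.Lib.Helper14.Unitary3
import Cfsg.Agent.Lib.Helper9.FrobSpec

set_option autoImplicit false
set_option linter.unusedSectionVars false
set_option linter.style.haveILetI false

namespace Cfsg.Agent.Lib.Helper19.PSU33Spec

open Cfsg.Agent.Lib.Helper14 Cfsg.Agent.Lib.Helper9.FrobSpec

/-- the field with 9 elements, as `𝔽₃[√-1]`. -/
abbrev K9 : Type := QuadraticAlgebra (ZMod 3) 2 0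

instance fact3 : Fact (∀ r : ZMod 3, r ^ 2 ≠ (2 : ZMod 3) + 0 * r) := ⟨by decide⟩

noncomputable instance fintypeK9 : Fintype K9 :=
  Fintype.ofEquiv _ (QuadraticAlgebra.equivProd (2 : ZMod 3) 0).symm

theorem card_K9 : Fintype.card K9 = 9 := by
  rw [Fintype.card_congr (QuadraticAlgebra.equivProd (2 : ZMod 3) 0)]
  simp [ZMod.card]

/-- the coefficients of `M ^ k` in the basis `M ^ 2, M, 1`, for a `3 × 3` matrix of determinant 1
with trace `t` and second characteristic coefficient `s`. -/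
def rec3 {K : Type*} [CommRing K] (t s : K) : ℕ → K × K × K
  | 0 => (0, 0, 1)
  | k + 1 => ((rec3 t s k).1 * t + (rec3 t s k).2.1, (rec3 t s k).2.2 - (rec3 t s k).1 * s,
      (rec3 t s k).1)

/-- Cayley–Hamilton for `3 × 3` matrices, explicitly. -/
theorem ch3 {K : Type*} [CommRing K] (M : Matrix (Fin 3) (Fin 3) K) :
    M ^ 3 = M.trace • M ^ 2 - M.adjugate.trace • M + M.det • (1 : Matrix (Fin 3) (Fin 3) K) := by
  rw [Matrix.adjugate_fin_three, Matrix.det_fin_three, Matrix.trace_fin_three,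
    Matrix.trace_fin_three]
  ext i j
  fin_cases i <;> fin_cases j <;>
    simp [pow_succ, Matrix.mul_apply, Fin.sum_univ_three] <;> ring

theorem pow_eq_rec3 {K : Type*} [CommRing K] (M : Matrix (Fin 3) (Fin 3) K) (hdet : M.det = 1)
    (k : ℕ) :
    M ^ k = (rec3 M.trace M.adjugate.trace k).1 • M ^ 2 +
      (rec3 M.trace M.adjugate.trace k).2.1 • M +
      (rec3 M.trace M.adjugate.trace k).2.2 • (1 : Matrix (Fin 3) (Fin 3) K) := by
  induction k with
  | zero => simp [rec3]
  | succ k ih =>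
    have h3 := ch3 M
    rw [hdet, one_smul] at h3
    rw [pow_succ, ih]
    simp only [rec3]
    simp only [add_mul, smul_mul_assoc, one_mul]
    rw [← pow_succ M 2, show 2 + 1 = 3 from rfl, h3, pow_two]
    module

theorem map_rec3 {K L : Type*} [CommRing K] [CommRing L] (φ : K →+* L) (t s : K) (k : ℕ) :
    rec3 (φ t) (φ s) k = (φ (rec3 t s k).1, φ (rec3 t s k).2.1, φ (rec3 t s k).2.2) := by
  induction k with
  | zero => simp [rec3]
  | succ k ih => simp only [rec3, ih, map_add, map_mul, map_sub]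

set_option maxRecDepth 100000 in
theorem rec_K9 : ∀ x y : ZMod 3,
    rec3 (⟨x, y⟩ : K9) ((⟨x, y⟩ : K9) ^ 3) 7 = (0, 0, 1) ∨
    rec3 (⟨x, y⟩ : K9) ((⟨x, y⟩ : K9) ^ 3) 8 = (0, 0, 1) ∨
    rec3 (⟨x, y⟩ : K9) ((⟨x, y⟩ : K9) ^ 3) 12 = (0, 0, 1) := by decide +kernel

section field

variable {F : Type*} [Field F] [Fintype F]

/-- the identification of `K9` with any field with 9 elements. -/
noncomputable def phi (hF : Fintype.card F = 9) : K9 ≃+* F :=
  FiniteField.ringEquivOfCardEq (by rw [card_K9, hF])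

theorem rec_field (hF : Fintype.card F = 9) (t : F) :
    rec3 t (t ^ 3) 7 = (0, 0, 1) ∨ rec3 t (t ^ 3) 8 = (0, 0, 1) ∨
      rec3 t (t ^ 3) 12 = (0, 0, 1) := by
  obtain ⟨t', rfl⟩ := (phi hF).surjective t
  have h := rec_K9 t'.re t'.im
  have e : (⟨t'.re, t'.im⟩ : K9) = t' := rfl
  rw [e] at h
  have hm : ∀ k, rec3 ((phi hF) t') (((phi hF) t') ^ 3) k =
      ((phi hF) (rec3 t' (t' ^ 3) k).1, (phi hF) (rec3 t' (t' ^ 3) k).2.1,
        (phi hF) (rec3 t' (t' ^ 3) k).2.2) := by
    intro k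
    rw [← map_pow]
    exact map_rec3 (phi hF).toRingHom t' (t' ^ 3) k
  rcases h with h | h | h
  · left; rw [hm, h]; simp
  · right; left; rw [hm, h]; simp
  · right; right; rw [hm, h]; simp

theorem hF' (hF : Fintype.card F = 9) : Fintype.card F = 3 ^ 2 := by rw [hF]; norm_num

theorem orthoN_of_isUni (hF : Fintype.card F = 9) (M : Matrix (Fin 3) (Fin 3) F)
    (hU : IsUni F 3 3 M) : OrthoN F 3 3 3 (fun j i => M i j) := by
  classical
  intro j l
  have := hU (Pi.single j 1) (Pi.single l 1)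
  rw [hermForm_single (hF' hF), Matrix.mulVec_single_one, Matrix.mulVec_single_one] at this
  exact this

theorem orthoN_of_mul_eq_one (M : Matrix (Fin 3) (Fin 3) F)
    (h : M.transpose * M.map (fun x => x ^ 3) = 1) : OrthoN F 3 3 3 (fun j i => M i j) := by
  intro j l
  have h1 := congrFun (congrFun h j) l
  rw [Matrix.mul_apply, Matrix.one_apply] at h1
  unfold Cfsg.hermForm
  simpa using h1

theorem isUni_of_mul_eq_one (hF : Fintype.card F = 9) (M : Matrix (Fin 3) (Fin 3) F)
    (h : M.transpose * M.map (fun x => x ^ 3) = 1) : IsUni F 3 3 M := by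
  classical
  intro u v
  exact hermForm_mulVec_of_orthoN (hF' hF) M (orthoN_of_mul_eq_one M h) u v

theorem trace_adjugate_of_isUni (hF : Fintype.card F = 9) (M : Matrix (Fin 3) (Fin 3) F)
    (hU : IsUni F 3 3 M) (hdet : M.det = 1) : M.adjugate.trace = M.trace ^ 3 := by
  classical
  have h1 := transpose_mul_map_of_orthoN M (orthoN_of_isUni hF M hU)
  have h2 : M.map (fun x => x ^ 3) = M.adjugate.transpose := by
    have h := congrArg (fun X => M.transpose.adjugate * X) h1
    simp only [← mul_assoc, Matrix.adjugate_mul, Matrix.det_transpose, hdet, one_smul, one_mul,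
      mul_one] at h
    rw [h, Matrix.adjugate_transpose]
  have h3 : M.adjugate.trace = (M.map (fun x => x ^ 3)).trace := by
    rw [h2, Matrix.trace_transpose]
  rw [h3]
  unfold Matrix.trace
  simp only [Matrix.diag, Matrix.map_apply]
  exact (herm_sum_pow (hF' hF) Finset.univ (fun i => M i i)).symm

theorem pow_cases_of_isUni (hF : Fintype.card F = 9) (M : Matrix (Fin 3) (Fin 3) F)
    (hU : IsUni F 3 3 M) (hdet : M.det = 1) : M ^ 7 = 1 ∨ M ^ 8 = 1 ∨ M ^ 12 = 1 := by
  have hs := trace_adjugate_of_isUni hF M hU hdet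
  have key : ∀ k, rec3 M.trace (M.trace ^ 3) k = (0, 0, 1) → M ^ k = 1 := by
    intro k hk
    rw [pow_eq_rec3 M hdet k, hs, hk]
    simp
  rcases rec_field hF M.trace with h | h | h
  · left; exact key 7 h
  · right; left; exact key 8 h
  · right; right; exact key 12 h

theorem su_pow_eq_one_iff (A : Cfsg.SU 3 F 3) (k : ℕ) :
    A ^ k = 1 ↔ ((A : Matrix.SpecialLinearGroup (Fin 3) F) : Matrix (Fin 3) (Fin 3) F) ^ k = 1 := by
  rw [← Matrix.SpecialLinearGroup.coe_pow, ← Subgroup.coe_pow]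
  constructor
  · intro h; rw [h]; rfl
  · intro h
    apply Subtype.ext
    apply Subtype.ext
    exact h

theorem su_pow_cases (hF : Fintype.card F = 9) (A : Cfsg.SU 3 F 3) :
    A ^ 7 = 1 ∨ A ^ 8 = 1 ∨ A ^ 12 = 1 := by
  have hU : IsUni F 3 3 ((A : Matrix.SpecialLinearGroup (Fin 3) F) : Matrix (Fin 3) (Fin 3) F) :=
    (mem_SU_iff A.1).mp A.2
  rcases pow_cases_of_isUni hF _ hU A.1.2 with h | h | h
  · left; exact (su_pow_eq_one_iff A 7).mpr h
  · right; left; exact (su_pow_eq_one_iff A 8).mpr h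
  · right; right; exact (su_pow_eq_one_iff A 12).mpr h

theorem orderOf_mem_of_pow_cases {G : Type*} [Group G] (g : G)
    (h : g ^ 7 = 1 ∨ g ^ 8 = 1 ∨ g ^ 12 = 1) :
    orderOf g ∈ ({1, 2, 3, 4, 6, 7, 8, 12} : Set ℕ) := by
  rcases h with h | h | h
  · have hd := orderOf_dvd_of_pow_eq_one h
    have hle := Nat.le_of_dvd (by norm_num) hd
    have hpos := orderOf_pos_iff.mpr (isOfFinOrder_iff_pow_eq_one.mpr ⟨7, by norm_num, h⟩)
    interval_cases (orderOf g) <;> simp_all
  · have hd := orderOf_dvd_of_pow_eq_one h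
    have hle := Nat.le_of_dvd (by norm_num) hd
    have hpos := orderOf_pos_iff.mpr (isOfFinOrder_iff_pow_eq_one.mpr ⟨8, by norm_num, h⟩)
    interval_cases (orderOf g) <;> simp_all
  · have hd := orderOf_dvd_of_pow_eq_one h
    have hle := Nat.le_of_dvd (by norm_num) hd
    have hpos := orderOf_pos_iff.mpr (isOfFinOrder_iff_pow_eq_one.mpr ⟨12, by norm_num, h⟩)
    interval_cases (orderOf g) <;> simp_all

theorem orderOf_psu_mem (hF : Fintype.card F = 9) (g : Cfsg.PSU 3 F 3) :
    orderOf g ∈ ({1, 2, 3, 4, 6, 7, 8, 12} : Set ℕ) := by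
  obtain ⟨A, rfl⟩ := QuotientGroup.mk_surjective g
  apply orderOf_mem_of_pow_cases
  rcases su_pow_cases hF A with h | h | h
  · left; rw [← QuotientGroup.mk_pow, h]; rfl
  · right; left; rw [← QuotientGroup.mk_pow, h]; rfl
  · right; right; rw [← QuotientGroup.mk_pow, h]; rfl

end field

/-- 3 × 3 matrices over the field with nine elements. -/
abbrev M9 : Type := Matrix (Fin 3) (Fin 3) K9

/-- an element of order 7. -/
def d7 : M9 := !![⟨0, 0⟩, ⟨2, 2⟩, ⟨2, 1⟩; ⟨0, 0⟩, ⟨1, 2⟩, ⟨1, 1⟩; ⟨0, 1⟩, ⟨0, 0⟩, ⟨0, 0⟩]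
/-- an element of order 8. -/
def d8 : M9 := !![⟨0, 0⟩, ⟨1, 0⟩, ⟨0, 0⟩; ⟨0, 1⟩, ⟨0, 0⟩, ⟨0, 0⟩; ⟨0, 0⟩, ⟨0, 0⟩, ⟨0, 1⟩]
/-- an element of order 12. -/
def d12 : M9 := !![⟨2, 1⟩, ⟨2, 1⟩, ⟨0, 0⟩; ⟨2, 2⟩, ⟨1, 1⟩, ⟨0, 0⟩; ⟨0, 0⟩, ⟨0, 0⟩, ⟨2, 0⟩]

theorem det_d7 : d7.det = 1 := by decide +kernel
theorem det_d8 : d8.det = 1 := by decide +kernel
theorem det_d12 : d12.det = 1 := by decide +kernel
theorem uni_d7 : d7.transpose * d7.map (fun x => x ^ 3) = 1 := by decide +kernel
theorem uni_d8 : d8.transpose * d8.map (fun x => x ^ 3) = 1 := by decide +kernel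
theorem uni_d12 : d12.transpose * d12.map (fun x => x ^ 3) = 1 := by decide +kernel
theorem d7_pow7 : d7 ^ 7 = 1 := by decide +kernel
theorem d7_ne : d7 ≠ 1 := by decide +kernel
theorem d8_pow8 : d8 ^ 8 = 1 := by decide +kernel
theorem d8_pow4 : d8 ^ 4 ≠ 1 := by decide +kernel
theorem d12_pow12 : d12 ^ 12 = 1 := by decide +kernel
theorem d12_pow6 : d12 ^ 6 ≠ 1 := by decide +kernel
theorem d12_pow4 : d12 ^ 4 ≠ 1 := by decide +kernel

section exist

variable {F : Type*} [Field F] [Fintype F]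

theorem map_uni (hF : Fintype.card F = 9) (c : M9)
    (hc : c.transpose * c.map (fun x => x ^ 3) = 1) :
    (c.map (phi hF)).transpose * (c.map (phi hF)).map (fun x => x ^ 3) = 1 := by
  have h := congrArg (fun X : M9 => X.map (phi hF)) hc
  simp only [Matrix.map_mul, Matrix.transpose_map] at h
  have e : ((c.map fun x => x ^ 3).map (phi hF)) = (c.map (phi hF)).map (fun x => x ^ 3) := by
    ext i j
    simp [Matrix.map_apply]
  rw [e] at h
  rw [h]
  ext i j
  simp [Matrix.map_apply, Matrix.one_apply]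

/-- the image in `SU₃(3)` of a unitary matrix of determinant 1 over `K9`. -/
noncomputable def toSU (hF : Fintype.card F = 9) (c : M9) (hdet : c.det = 1)
    (hc : c.transpose * c.map (fun x => x ^ 3) = 1) : Cfsg.SU 3 F 3 :=
  ⟨⟨c.map (phi hF), by
    have := RingHom.map_det (phi hF).toRingHom c
    rw [hdet, map_one] at this
    exact this.symm⟩,
    (mem_SU_iff _).mpr (isUni_of_mul_eq_one hF _ (map_uni hF c hc))⟩

theorem toSU_pow_eq_one_iff (hF : Fintype.card F = 9) (c : M9) (hdet : c.det = 1)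
    (hc : c.transpose * c.map (fun x => x ^ 3) = 1) (k : ℕ) :
    (toSU hF c hdet hc) ^ k = 1 ↔ c ^ k = 1 := by
  rw [su_pow_eq_one_iff]
  show (c.map (phi hF)) ^ k = 1 ↔ c ^ k = 1
  have h1 : (c.map (phi hF)) ^ k = (c ^ k).map (phi hF) :=
    (map_pow (phi hF).toRingHom.mapMatrix c k).symm
  rw [h1]
  constructor
  · intro h
    apply Matrix.map_injective (phi hF).injective
    show (c ^ k).map (phi hF) = (1 : M9).map (phi hF)
    rw [h]
    ext i j
    simp [Matrix.map_apply, Matrix.one_apply]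
  · intro h
    rw [h]
    ext i j
    simp [Matrix.map_apply, Matrix.one_apply]

theorem orderOf_toSU7 (hF : Fintype.card F = 9) :
    orderOf (toSU (F := F) hF d7 det_d7 uni_d7) = 7 := by
  haveI : Fact (Nat.Prime 7) := ⟨by norm_num⟩
  apply orderOf_eq_prime
  · rw [toSU_pow_eq_one_iff]; exact d7_pow7
  · intro h
    have := (toSU_pow_eq_one_iff hF d7 det_d7 uni_d7 1).mp (by rw [pow_one]; exact h)
    rw [pow_one] at this
    exact d7_ne this

theorem orderOf_toSU8 (hF : Fintype.card F = 9) :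
    orderOf (toSU (F := F) hF d8 det_d8 uni_d8) = 8 := by
  have h := orderOf_eq_prime_pow (x := toSU (F := F) hF d8 det_d8 uni_d8) (p := 2) (n := 2) ?_ ?_
  · exact h
  · rw [toSU_pow_eq_one_iff]; exact d8_pow4
  · rw [toSU_pow_eq_one_iff]; exact d8_pow8

theorem orderOf_toSU12 (hF : Fintype.card F = 9) :
    orderOf (toSU (F := F) hF d12 det_d12 uni_d12) = 12 := by
  apply orderOf_eq_of_pow_and_pow_div_prime (by norm_num)
  · rw [toSU_pow_eq_one_iff]; exact d12_pow12
  · intro p hp hpd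
    have hp12 : p ∣ 12 := hpd
    have hle := Nat.le_of_dvd (by norm_num) hp12
    interval_cases p
    · exact absurd hp (by norm_num)
    · exact absurd hp (by norm_num)
    · rw [show (12 / 2 : ℕ) = 6 from rfl, Ne, toSU_pow_eq_one_iff]; exact d12_pow6
    · rw [show (12 / 3 : ℕ) = 4 from rfl, Ne, toSU_pow_eq_one_iff]; exact d12_pow4
    · exact absurd hp (by norm_num)
    · exact absurd hp12 (by norm_num)
    · exact absurd hp (by norm_num)
    · exact absurd hp12 (by norm_num)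
    · exact absurd hp (by norm_num)
    · exact absurd hp (by norm_num)
    · exact absurd hp (by norm_num)
    · exact absurd hp12 (by norm_num)
    · exact absurd hp (by norm_num)

theorem center_eq_bot (hF : Fintype.card F = 9) : Subgroup.center (Cfsg.SU 3 F 3) = ⊥ := by
  classical
  have h := card_center_SU (hF' hF) 3 (by norm_num)
  have h1 : Nat.card (Subgroup.center (Cfsg.SU 3 F 3)) = 1 := by rw [h]; rfl
  exact Subgroup.card_eq_one.mp h1

theorem mk_injective (hF : Fintype.card F = 9) :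
    Function.Injective (QuotientGroup.mk' (Subgroup.center (Cfsg.SU 3 F 3))) := by
  rw [← MonoidHom.ker_eq_bot_iff, QuotientGroup.ker_mk', center_eq_bot hF]

theorem orderOf_mk (hF : Fintype.card F = 9) (A : Cfsg.SU 3 F 3) :
    orderOf (QuotientGroup.mk' (Subgroup.center (Cfsg.SU 3 F 3)) A) = orderOf A :=
  orderOf_injective _ (mk_injective hF) A

/-- the spectrum of `PSU₃(3)`. -/
theorem range_orderOf_PSU33 (hF : Fintype.card F = 9) :
    Set.range (orderOf : Cfsg.PSU 3 F 3 → ℕ) = {1, 2, 3, 4, 6, 7, 8, 12} := by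
  have h7 := (orderOf_mk hF _).trans (orderOf_toSU7 (F := F) hF)
  have h8 := (orderOf_mk hF _).trans (orderOf_toSU8 (F := F) hF)
  have h12 := (orderOf_mk hF _).trans (orderOf_toSU12 (F := F) hF)
  apply Set.eq_of_subset_of_subset
  · rintro _ ⟨g, rfl⟩
    exact orderOf_psu_mem hF g
  · intro k hk
    simp only [Set.mem_insert_iff, Set.mem_singleton_iff] at hk
    rcases hk with rfl | rfl | rfl | rfl | rfl | rfl | rfl | rfl
    · exact mem_range_orderOf_of_dvd _ 8 1 h8 (by norm_num) (by norm_num)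
    · exact mem_range_orderOf_of_dvd _ 8 2 h8 (by norm_num) (by norm_num)
    · exact mem_range_orderOf_of_dvd _ 12 3 h12 (by norm_num) (by norm_num)
    · exact mem_range_orderOf_of_dvd _ 8 4 h8 (by norm_num) (by norm_num)
    · exact mem_range_orderOf_of_dvd _ 12 6 h12 (by norm_num) (by norm_num)
    · exact mem_range_orderOf_of_dvd _ 7 7 h7 (by norm_num) (by norm_num)
    · exact mem_range_orderOf_of_dvd _ 8 8 h8 (by norm_num) (by norm_num)
    · exact mem_range_orderOf_of_dvd _ 12 12 h12 (by norm_num) (by norm_num)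

end exist

end Cfsg.Agent.Lib.Helper19.PSU33Spec
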