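/-
Helper19 library: fast encodings for kernel computations with `14 × 14` matrices over `ZMod 2` (lists of row masks)
and `3 × 3` matrices over the field with nine elements `K9 = (ZMod 3)[i]` (lists of 18 residues), together with a
binary search tree for inverse lookups.
-/
import Mathlib
import Cfsg.Agent.Lib.Helper19.B2Enc
import Cfsg.Agent.Lib.Helper19.PSU33Spec

set_option autoImplicit false

namespace Cfsg.Agent.Lib.Helper19.G2Enc

open Cfsg.Agent.Lib.Helper19.B2Enc Cfsg.Agent.Lib.Helper19.PSU33Spec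

/-- index set of the adjoint module of type `G₂`. -/
abbrev I14 : Type := Fin 2 ⊕ Fin 12

/-- position of an index. -/
def pos14 : I14 → ℕ
  | Sum.inl i => i.val
  | Sum.inr u => 2 + u.val

/-- decoding of a list of row masks. -/
def dec14 (m : List ℕ) : Matrix I14 I14 (ZMod 2) :=
  Matrix.of fun i j => bz ((m.getD (pos14 i) 0).testBit (pos14 j))

/-- a row times a matrix. -/
def rowMul14 (r : ℕ) (b : List ℕ) : ℕ :=
  (if r.testBit 0 then b.getD 0 0 else 0) ^^^ (if r.testBit 1 then b.getD 1 0 else 0) ^^^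
  (if r.testBit 2 then b.getD 2 0 else 0) ^^^ (if r.testBit 3 then b.getD 3 0 else 0) ^^^
  (if r.testBit 4 then b.getD 4 0 else 0) ^^^ (if r.testBit 5 then b.getD 5 0 else 0) ^^^
  (if r.testBit 6 then b.getD 6 0 else 0) ^^^ (if r.testBit 7 then b.getD 7 0 else 0) ^^^
  (if r.testBit 8 then b.getD 8 0 else 0) ^^^ (if r.testBit 9 then b.getD 9 0 else 0) ^^^
  (if r.testBit 10 then b.getD 10 0 else 0) ^^^ (if r.testBit 11 then b.getD 11 0 else 0) ^^^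
  (if r.testBit 12 then b.getD 12 0 else 0) ^^^ (if r.testBit 13 then b.getD 13 0 else 0)

/-- product of encodings. -/
def mulE14 (a b : List ℕ) : List ℕ := a.map fun r => rowMul14 r b

theorem rowMul14_zero (b : List ℕ) : rowMul14 0 b = 0 := by
  simp [rowMul14]

theorem bz_rowMul14 (r : ℕ) (b : List ℕ) (c : ℕ) :
    bz ((rowMul14 r b).testBit c) =
      ∑ k : I14, bz (r.testBit (pos14 k)) * bz ((b.getD (pos14 k) 0).testBit c) := by
  rw [Fintype.sum_sum_type, Fin.sum_univ_two]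
  simp only [Fin.sum_univ_succ, Fin.sum_univ_zero]
  simp only [rowMul14, Nat.testBit_xor, testBit_ite, bz_xor, bz_and, pos14]
  simp only [Fin.val_zero, Fin.val_one, Fin.val_succ, Nat.reduceAdd, add_zero, zero_add]
  ring

theorem dec14_mul (a b : List ℕ) : dec14 (mulE14 a b) = dec14 a * dec14 b := by
  ext i j
  rw [Matrix.mul_apply]
  simp only [dec14, Matrix.of_apply, mulE14]
  have h : (List.map (fun r => rowMul14 r b) a).getD (pos14 i) 0 =
      rowMul14 (a.getD (pos14 i) 0) b := by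
    simp only [List.getD_eq_getElem?_getD, List.getElem?_map]
    cases a[pos14 i]? <;> simp [rowMul14_zero]
  rw [h, bz_rowMul14]

/-- the identity. -/
def ONE14 : List ℕ := [1, 2, 4, 8, 16, 32, 64, 128, 256, 512, 1024, 2048, 4096, 8192]

theorem dec14_one : dec14 ONE14 = 1 := by
  decide +kernel

/-- unpacking of fourteen rows of fourteen bits. -/
def unpack14 (m : ℕ) : List ℕ :=
  [m % 16384, m / 16384 % 16384, m / 16384 ^ 2 % 16384, m / 16384 ^ 3 % 16384,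
   m / 16384 ^ 4 % 16384, m / 16384 ^ 5 % 16384, m / 16384 ^ 6 % 16384, m / 16384 ^ 7 % 16384,
   m / 16384 ^ 8 % 16384, m / 16384 ^ 9 % 16384, m / 16384 ^ 10 % 16384, m / 16384 ^ 11 % 16384,
   m / 16384 ^ 12 % 16384, m / 16384 ^ 13 % 16384]

/-- an element of `K9` from two residues. -/
def toK (a b : ℕ) : K9 := ⟨(a : ZMod 3), (b : ZMod 3)⟩

/-- decoding of a list of eighteen residues (real and imaginary parts, row by row). -/
def dec9 (u : List ℕ) : M9 :=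
  Matrix.of fun i j => toK (u.getD (6 * i.val + 2 * j.val) 0) (u.getD (6 * i.val + 2 * j.val + 1) 0)

/-- real part of a sum of three products. -/
def re3 (a0 b0 a1 b1 a2 b2 c0 d0 c1 d1 c2 d2 : ℕ) : ℕ :=
  (a0 * c0 + 2 * (b0 * d0) + (a1 * c1 + 2 * (b1 * d1)) + (a2 * c2 + 2 * (b2 * d2))) % 3

/-- imaginary part of a sum of three products. -/
def im3 (a0 b0 a1 b1 a2 b2 c0 d0 c1 d1 c2 d2 : ℕ) : ℕ :=
  (a0 * d0 + b0 * c0 + (a1 * d1 + b1 * c1) + (a2 * d2 + b2 * c2)) % 3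

theorem toK_re3_im3 (a0 b0 a1 b1 a2 b2 c0 d0 c1 d1 c2 d2 : ℕ) :
    toK (re3 a0 b0 a1 b1 a2 b2 c0 d0 c1 d1 c2 d2) (im3 a0 b0 a1 b1 a2 b2 c0 d0 c1 d1 c2 d2) =
      toK a0 b0 * toK c0 d0 + toK a1 b1 * toK c1 d1 + toK a2 b2 * toK c2 d2 := by
  apply QuadraticAlgebra.ext
  · simp only [toK, re3, ZMod.natCast_mod, QuadraticAlgebra.re_add, QuadraticAlgebra.re_mul]
    push_cast
    ring
  · simp only [toK, im3, ZMod.natCast_mod, QuadraticAlgebra.im_add, QuadraticAlgebra.im_mul]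
    push_cast
    ring

/-- product of encodings. -/
def mul9 (u v : List ℕ) : List ℕ :=
  let g := fun k => u.getD k 0
  let h := fun k => v.getD k 0
  [re3 (g 0) (g 1) (g 2) (g 3) (g 4) (g 5) (h 0) (h 1) (h 6) (h 7) (h 12) (h 13),
   im3 (g 0) (g 1) (g 2) (g 3) (g 4) (g 5) (h 0) (h 1) (h 6) (h 7) (h 12) (h 13),
   re3 (g 0) (g 1) (g 2) (g 3) (g 4) (g 5) (h 2) (h 3) (h 8) (h 9) (h 14) (h 15),
   im3 (g 0) (g 1) (g 2) (g 3) (g 4) (g 5) (h 2) (h 3) (h 8) (h 9) (h 14) (h 15),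
   re3 (g 0) (g 1) (g 2) (g 3) (g 4) (g 5) (h 4) (h 5) (h 10) (h 11) (h 16) (h 17),
   im3 (g 0) (g 1) (g 2) (g 3) (g 4) (g 5) (h 4) (h 5) (h 10) (h 11) (h 16) (h 17),
   re3 (g 6) (g 7) (g 8) (g 9) (g 10) (g 11) (h 0) (h 1) (h 6) (h 7) (h 12) (h 13),
   im3 (g 6) (g 7) (g 8) (g 9) (g 10) (g 11) (h 0) (h 1) (h 6) (h 7) (h 12) (h 13),
   re3 (g 6) (g 7) (g 8) (g 9) (g 10) (g 11) (h 2) (h 3) (h 8) (h 9) (h 14) (h 15),
   im3 (g 6) (g 7) (g 8) (g 9) (g 10) (g 11) (h 2) (h 3) (h 8) (h 9) (h 14) (h 15),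
   re3 (g 6) (g 7) (g 8) (g 9) (g 10) (g 11) (h 4) (h 5) (h 10) (h 11) (h 16) (h 17),
   im3 (g 6) (g 7) (g 8) (g 9) (g 10) (g 11) (h 4) (h 5) (h 10) (h 11) (h 16) (h 17),
   re3 (g 12) (g 13) (g 14) (g 15) (g 16) (g 17) (h 0) (h 1) (h 6) (h 7) (h 12) (h 13),
   im3 (g 12) (g 13) (g 14) (g 15) (g 16) (g 17) (h 0) (h 1) (h 6) (h 7) (h 12) (h 13),
   re3 (g 12) (g 13) (g 14) (g 15) (g 16) (g 17) (h 2) (h 3) (h 8) (h 9) (h 14) (h 15),
   im3 (g 12) (g 13) (g 14) (g 15) (g 16) (g 17) (h 2) (h 3) (h 8) (h 9) (h 14) (h 15),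
   re3 (g 12) (g 13) (g 14) (g 15) (g 16) (g 17) (h 4) (h 5) (h 10) (h 11) (h 16) (h 17),
   im3 (g 12) (g 13) (g 14) (g 15) (g 16) (g 17) (h 4) (h 5) (h 10) (h 11) (h 16) (h 17)]

theorem dec9_mul (u v : List ℕ) : dec9 (mul9 u v) = dec9 u * dec9 v := by
  refine Matrix.ext fun i j => ?_
  rw [Matrix.mul_apply, Fin.sum_univ_three]
  fin_cases i <;> fin_cases j <;>
    exact toK_re3_im3 _ _ _ _ _ _ _ _ _ _ _ _

/-- the identity. -/
def ONE9 : List ℕ := [1, 0, 0, 0, 0, 0, 0, 0, 1, 0, 0, 0, 0, 0, 0, 0, 1, 0]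

theorem dec9_one : dec9 ONE9 = 1 := by
  decide +kernel

/-- the code of a matrix. -/
def enc9 (A : M9) : ℕ :=
  (A 0 0).re.val + 3 * ((A 0 0).im.val + 3 * ((A 0 1).re.val + 3 * ((A 0 1).im.val +
  3 * ((A 0 2).re.val + 3 * ((A 0 2).im.val + 3 * ((A 1 0).re.val + 3 * ((A 1 0).im.val +
  3 * ((A 1 1).re.val + 3 * ((A 1 1).im.val + 3 * ((A 1 2).re.val + 3 * ((A 1 2).im.val +
  3 * ((A 2 0).re.val + 3 * ((A 2 0).im.val + 3 * ((A 2 1).re.val + 3 * ((A 2 1).im.val +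
  3 * ((A 2 2).re.val + 3 * (A 2 2).im.val))))))))))))))))

/-- unpacking of eighteen ternary digits. -/
def unpack9 (c : ℕ) : List ℕ :=
  [c % 3, c / 3 % 3, c / 3 ^ 2 % 3, c / 3 ^ 3 % 3, c / 3 ^ 4 % 3, c / 3 ^ 5 % 3, c / 3 ^ 6 % 3,
   c / 3 ^ 7 % 3, c / 3 ^ 8 % 3, c / 3 ^ 9 % 3, c / 3 ^ 10 % 3, c / 3 ^ 11 % 3, c / 3 ^ 12 % 3,
   c / 3 ^ 13 % 3, c / 3 ^ 14 % 3, c / 3 ^ 15 % 3, c / 3 ^ 16 % 3, c / 3 ^ 17 % 3]

/-- binary search trees with natural keys and values. -/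
inductive KT : Type
  | nil : KT
  | node : KT → ℕ → ℕ → KT → KT

/-- lookup; the value `0` is returned for absent keys. -/
def KT.find : KT → ℕ → ℕ
  | KT.nil, _ => 0
  | KT.node l k v r, x => if x = k then v else if x < k then l.find x else r.find x

end Cfsg.Agent.Lib.Helper19.G2Enc
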