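/-
Helper19 library (generated data): the 2520 elements of a subgroup of `GL₄(2)` isomorphic to the alternating group of
degree seven (row masks packed in base 16) with the corresponding permutations (images packed in base 8), the tables of
left multiplication by two generators, a spanning tree and two search trees; entry `i` of the tree is
`[matrix, permutation, table 0, table 1, parent, generator]`.
-/
import Mathlib
import Cfsg.Agent.Lib.Helper19.G2Enc

set_option autoImplicit false
set_option maxRecDepth 100000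

namespace Cfsg.Agent.Lib.Helper19.A7IsoData

open Cfsg.Agent.Lib.Helper19.B2Enc Cfsg.Agent.Lib.Helper19.G2Enc

/-- row masks of the two generating matrices. -/
def MEL : List (List ℕ) := [[14, 5, 2, 1], [2, 4, 9, 12]]

/-- row masks of their inverses. -/
def MIL : List (List ℕ) := [[8, 4, 10, 15], [14, 1, 2, 10]]

/-- the permutations of the generators. -/
def PEL : List (List ℕ) := [[1, 2, 3, 4, 5, 6, 0], [0, 1, 6, 2, 5, 3, 4]]

/-- their inverses. -/
def PIL : List (List ℕ) := [[6, 0, 1, 2, 3, 4, 5], [0, 1, 3, 5, 6, 4, 2]]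

/-- the data tree. -/
def ET : BT (List ℕ) :=
 (.node (.node (.node (.node (.node (.node (.node (.node (.node (.node (.node (.node (.leaf [33825, 1754760, 1, 2, 0, 0])
 (.leaf [59693, 547939, 1335, 2429, 1447, 0]))
 (.leaf [45438, 377202, 902, 879, 592, 1]))
 (.node (.leaf [59183, 1072337, 893, 894, 281, 1])
 (.leaf [42641, 1091461, 1542, 544, 964, 1])))
 (.node (.node (.node (.leaf [44485, 1640233, 472, 473, 135, 0])
 (.leaf [5004, 1216915, 1609, 1640, 1797, 1]))
 (.leaf [62154, 1741852, 1905, 1165, 770, 0]))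
 (.node (.leaf [60504, 279965, 1016, 1278, 433, 0])
 (.leaf [33778, 1379427, 1464, 2300, 1182, 1]))))
 (.node (.node (.node (.node (.leaf [6508, 1644573, 243, 244, 67, 0])
 (.leaf [17123, 1645091, 2480, 2455, 1594, 0]))
 (.leaf [35681, 346822, 1755, 1756, 679, 1]))
 (.node (.leaf [38200, 1152368, 1094, 66, 358, 0])
 (.leaf [58100, 918897, 1720, 1716, 1079, 1])))
 (.node (.node (.node (.leaf [19123, 103733, 683, 684, 204, 1])
 (.leaf [7254, 1336034, 2306, 2420, 2055, 0]))
 (.leaf [7789, 1688085, 2025, 2026, 864, 0]))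
 (.node (.leaf [7732, 1420545, 40, 911, 513, 1])
 (.leaf [30126, 951188, 1072, 1065, 1299, 0])))))
 (.node (.node (.node (.node (.node (.leaf [29373, 372036, 123, 124, 33, 0])
 (.leaf [56136, 680169, 1281, 1274, 1519, 1]))
 (.leaf [27935, 80269, 1265, 1672, 635, 1]))
 (.node (.leaf [30925, 1155441, 996, 997, 319, 0])
 (.leaf [51828, 1092931, 864, 2179, 1026, 1])))
 (.node (.node (.node (.leaf [50283, 1607340, 329, 75, 170, 1])
 (.leaf [27858, 183505, 1172, 1133, 1908, 1]))
 (.leaf [61293, 830725, 1401, 580, 813, 0]))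
 (.node (.leaf [43233, 146314, 1366, 1367, 475, 0])
 (.leaf [38385, 1238216, 1079, 1250, 1238, 1]))))
 (.node (.node (.node (.node (.leaf [36595, 1691732, 361, 362, 100, 1])
 (.leaf [9308, 349958, 2384, 1808, 1691, 0]))
 (.leaf [55025, 1118621, 393, 385, 723, 0]))
 (.node (.leaf [20781, 656110, 1185, 1186, 394, 1])
 (.leaf [65162, 1674001, 2261, 2253, 1132, 1])))
 (.node (.node (.node (.leaf [8085, 961569, 212, 789, 242, 0])
 (.leaf [56463, 1709890, 1822, 1530, 2262, 0]))
 (.leaf [28632, 1591898, 2072, 2073, 910, 0]))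
 (.node (.leaf [27785, 1158213, 1529, 1402, 552, 1])
 (.leaf [51494, 741468, 2378, 610, 1366, 0]))))))
 (.node (.node (.node (.node (.node (.node (.leaf [20027, 725277, 62, 63, 15, 1])
 (.leaf [49877, 803957, 1584, 2048, 1480, 1]))
 (.leaf [58300, 1222536, 910, 1635, 613, 0]))
 (.node (.leaf [52073, 1369347, 436, 945, 300, 0])
 (.leaf [34723, 174174, 2154, 287, 987, 1])))
 (.node (.node (.node (.leaf [5771, 1260042, 522, 523, 152, 1])
 (.leaf [15470, 678923, 711, 1680, 1847, 1]))
 (.leaf [7323, 277410, 1936, 1937, 790, 0]))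
 (.node (.leaf [29935, 1324148, 1328, 1329, 455, 0])
 (.leaf [25325, 858886, 2320, 2321, 1217, 0]))))
 (.node (.node (.node (.node (.leaf [45555, 1681512, 4, 213, 83, 1])
 (.leaf [34094, 202517, 2248, 2163, 1644, 0]))
 (.leaf [48852, 1318170, 169, 1770, 703, 1]))
 (.node (.leaf [56927, 51058, 1141, 423, 377, 0])
 (.leaf [29085, 176820, 694, 498, 1104, 1])))
 (.node (.node (.node (.leaf [12996, 169379, 741, 413, 222, 1])
 (.leaf [6591, 413854, 514, 558, 2137, 1]))
 (.leaf [42380, 1325142, 2040, 2041, 887, 1]))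
 (.node (.leaf [6250, 1717261, 1494, 411, 534, 1])
 (.leaf [24114, 416794, 1844, 1845, 1332, 0])))))
 (.node (.node (.node (.node (.node (.leaf [30204, 1608404, 183, 184, 50, 0])
 (.leaf [33215, 808241, 536, 1377, 1555, 1]))
 (.leaf [19083, 583709, 1126, 1715, 657, 1]))
 (.node (.leaf [38131, 461013, 1048, 1049, 337, 0])
 (.leaf [55841, 347165, 1876, 1871, 1054, 0])))
 (.node (.node (.node (.leaf [60579, 1450379, 419, 634, 187, 1])
 (.leaf [38524, 1328754, 2465, 1543, 1983, 0]))
 (.leaf [11063, 44331, 1993, 1421, 838, 0]))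
 (.node (.leaf [18401, 1388940, 1408, 1409, 492, 1])
 (.leaf [11894, 329966, 178, 1707, 1263, 0]))))
 (.node (.node (.node (.node (.leaf [46650, 1070195, 403, 195, 118, 0])
 (.leaf [20346, 727776, 2483, 1523, 1749, 0]))
 (.leaf [25237, 284326, 1869, 1870, 745, 0]))
 (.node (.leaf [28018, 72030, 675, 1235, 413, 1])
 (.leaf [55612, 1673301, 1765, 670, 1155, 1])))
 (.node (.node (.leaf [32675, 1213835, 841, 842, 261, 1])
 (.leaf [27739, 625569, 2103, 256, 937, 0]))
 (.node (.leaf [32149, 1581867, 938, 1037, 572, 1])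
 (.leaf [24172, 944650, 371, 379, 1398, 1])))))))
 (.node (.node (.node (.node (.node (.node (.node (.leaf [41411, 1607914, 33, 34, 7, 1])
 (.leaf [31153, 662851, 2125, 2118, 1466, 0]))
 (.leaf [22209, 1417486, 1612, 1613, 602, 1]))
 (.node (.leaf [46932, 989205, 916, 917, 291, 0])
 (.leaf [52728, 1586018, 1889, 2142, 976, 0])))
 (.node (.node (.node (.leaf [18342, 1642844, 498, 499, 144, 0])
 (.leaf [57082, 1158472, 2433, 2165, 1824, 0]))
 (.leaf [41374, 836976, 1616, 1917, 781, 0]))
 (.node (.leaf [53780, 472360, 1301, 1302, 444, 0])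
 (.leaf [28229, 472388, 1411, 1379, 1198, 0]))))
 (.node (.node (.node (.node (.leaf [65140, 1346835, 272, 273, 75, 1])
 (.leaf [27764, 115542, 2193, 653, 1619, 1]))
 (.leaf [43876, 1344756, 1773, 1118, 689, 1]))
 (.node (.leaf [10977, 551516, 1118, 1119, 368, 1])
 (.leaf [64966, 1751050, 2237, 2238, 1094, 0])))
 (.node (.node (.node (.leaf [9601, 1525328, 407, 714, 213, 1])
 (.leaf [37157, 1467403, 844, 1620, 2105, 0]))
 (.leaf [9686, 380240, 301, 1834, 876, 0]))
 (.node (.leaf [11508, 344414, 1475, 1476, 526, 0])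
 (.leaf [47476, 576555, 2014, 2143, 1312, 0])))))
 (.node (.node (.node (.node (.node (.leaf [7899, 468741, 153, 154, 41, 1])
 (.leaf [19996, 219275, 2460, 832, 1535, 1]))
 (.leaf [59871, 152278, 1695, 1696, 647, 0]))
 (.node (.leaf [51181, 450835, 641, 1024, 328, 1])
 (.leaf [59890, 1136513, 733, 2152, 1042, 1])))
 (.node (.node (.node (.leaf [14712, 441616, 606, 607, 179, 0])
 (.leaf [50563, 649544, 2205, 485, 1941, 1]))
 (.leaf [6611, 791854, 70, 982, 828, 1]))
 (.node (.leaf [21627, 1114869, 1390, 1391, 483, 1])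
 (.leaf [58588, 120078, 1378, 535, 1249, 1]))))
 (.node (.node (.node (.node (.leaf [62318, 1069726, 135, 391, 109, 1])
 (.leaf [63947, 1328026, 2167, 2485, 1717, 1]))
 (.leaf [59749, 1121477, 1040, 955, 734, 1]))
 (.node (.leaf [37948, 836997, 469, 1211, 403, 1])
 (.leaf [33918, 1608474, 684, 689, 1143, 0])))
 (.node (.node (.node (.leaf [13706, 460971, 813, 814, 252, 0])
 (.leaf [60917, 1147762, 983, 2244, 2373, 0]))
 (.leaf [35930, 1425970, 2087, 2088, 924, 1]))
 (.node (.leaf [25564, 1515801, 1552, 1553, 562, 0])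
 (.leaf [59336, 1075795, 2407, 2400, 1381, 1]))))))
 (.node (.node (.node (.node (.node (.node (.leaf [23453, 1449112, 92, 93, 24, 0])
 (.leaf [16276, 1119797, 2440, 2439, 1497, 1]))
 (.leaf [60088, 1250333, 1652, 1653, 623, 1]))
 (.node (.leaf [46202, 1096578, 973, 974, 309, 0])
 (.leaf [23923, 1103494, 2165, 2166, 1003, 1])))
 (.node (.node (.node (.leaf [31023, 677446, 551, 552, 162, 0])
 (.leaf [18378, 943432, 1971, 2211, 1881, 0]))
 (.leaf [65213, 1623685, 1637, 1949, 800, 0]))
 (.node (.leaf [35451, 89180, 1348, 1349, 465, 1])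
 (.leaf [58397, 579635, 2331, 2332, 1228, 0]))))
 (.node (.node (.node (.node (.leaf [30434, 209706, 330, 331, 92, 0])
 (.leaf [4775, 581861, 358, 367, 1667, 1]))
 (.leaf [29107, 1153586, 1811, 143, 713, 0]))
 (.node (.leaf [28509, 854924, 1165, 1166, 386, 1])
 (.leaf [27524, 1118446, 2097, 661, 1118, 0])))
 (.node (.node (.node (.leaf [6133, 643636, 766, 767, 233, 1])
 (.leaf [15896, 109676, 2077, 1739, 2176, 0]))
 (.leaf [29262, 969808, 2055, 586, 899, 1]))
 (.node (.leaf [30901, 1089963, 900, 893, 542, 1])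
 (.leaf [11659, 1521800, 2246, 1425, 1351, 0])))))
 (.node (.node (.node (.node (.node (.leaf [52106, 841750, 213, 142, 58, 1])
 (.leaf [36519, 1520736, 975, 981, 1572, 1]))
 (.leaf [5060, 702534, 1734, 721, 669, 0]))
 (.node (.leaf [19675, 822570, 1073, 1074, 346, 1])
 (.leaf [32666, 174321, 1741, 1867, 1069, 1])))
 (.node (.node (.node (.leaf [52758, 796782, 655, 656, 195, 1])
 (.leaf [46179, 179284, 1066, 1071, 2025, 1]))
 (.leaf [39671, 975632, 473, 315, 849, 0]))
 (.node (.leaf [9141, 55699, 1430, 1431, 504, 1])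
 (.leaf [45372, 460012, 2366, 520, 1279, 0]))))
 (.node (.node (.node (.node (.leaf [27474, 1139033, 190, 445, 126, 1])
 (.leaf [46888, 1693713, 2337, 2442, 1780, 0]))
 (.leaf [51941, 723555, 1890, 1891, 758, 0]))
 (.node (.leaf [24191, 354088, 116, 105, 423, 0])
 (.leaf [54191, 1247050, 806, 798, 1171, 1])))
 (.node (.node (.leaf [5323, 1058421, 265, 868, 271, 0])
 (.leaf [23913, 584227, 1524, 2113, 953, 1]))
 (.node (.leaf [48746, 1587978, 1486, 1587, 583, 1])
 (.leaf [26525, 714504, 2422, 2423, 1425, 1]))))))))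
 (.node (.node (.node (.node (.node (.node (.node (.node (.leaf [47196, 280406, 17, 18, 3, 1])
 (.leaf [16358, 153230, 1925, 2434, 1457, 0]))
 (.leaf [16117, 206668, 1605, 1606, 598, 0]))
 (.node (.leaf [42771, 396445, 905, 906, 287, 0])
 (.leaf [9365, 1724947, 2135, 209, 970, 1])))
 (.node (.node (.node (.leaf [35186, 1401099, 483, 484, 139, 0])
 (.leaf [30180, 1754690, 2128, 2493, 1805, 0]))
 (.leaf [51803, 51926, 889, 886, 775, 0]))
 (.node (.leaf [44658, 714763, 249, 254, 438, 0])
 (.leaf [15178, 281813, 2307, 2308, 1191, 1]))))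
 (.node (.node (.node (.node (.leaf [62682, 1153936, 258, 259, 71, 0])
 (.leaf [5079, 727237, 2202, 1125, 1607, 0]))
 (.leaf [38266, 202986, 1764, 1765, 684, 1]))
 (.node (.leaf [37404, 739851, 1106, 1107, 364, 0])
 (.leaf [47569, 207627, 2229, 2230, 1088, 1])))
 (.node (.node (.node (.leaf [38117, 1524803, 699, 700, 209, 0])
 (.leaf [18869, 1419334, 2518, 2331, 2074, 1]))
 (.leaf [33811, 437276, 2030, 262, 870, 1]))
 (.node (.leaf [54860, 1138795, 1463, 466, 519, 1])
 (.leaf [7010, 1361304, 1365, 2234, 1304, 0])))))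
 (.node (.node (.node (.node (.node (.leaf [55682, 1623363, 138, 139, 37, 1])
 (.leaf [50657, 1237082, 1391, 1397, 1526, 0]))
 (.leaf [18826, 820582, 458, 1684, 642, 1]))
 (.node (.leaf [42023, 178318, 1009, 1010, 324, 0])
 (.leaf [47686, 1426544, 1145, 1139, 1036, 0])))
 (.node (.node (.node (.leaf [11989, 401821, 591, 592, 175, 0])
 (.leaf [9855, 419461, 2498, 443, 1922, 1]))
 (.leaf [32251, 1706649, 1970, 1971, 820, 0]))
 (.node (.leaf [5688, 105140, 1379, 1380, 479, 1])
 (.leaf [39029, 1316147, 2344, 1812, 1244, 1]))))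
 (.node (.node (.node (.node (.leaf [32479, 546721, 376, 377, 105, 0])
 (.leaf [58047, 272734, 1262, 2460, 1705, 1]))
 (.leaf [24516, 1388646, 898, 1836, 727, 0]))
 (.node (.leaf [14121, 1708266, 1198, 1199, 399, 0])
 (.leaf [37347, 1579179, 1089, 2266, 1138, 0])))
 (.node (.node (.node (.leaf [60009, 626990, 282, 272, 247, 1])
 (.leaf [47427, 107310, 1704, 2231, 2327, 0]))
 (.leaf [7507, 1336916, 2079, 2080, 916, 1]))
 (.node (.leaf [20249, 218708, 89, 1540, 557, 0])
 (.leaf [12638, 577955, 702, 2130, 1375, 1]))))))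
 (.node (.node (.node (.node (.node (.node (.leaf [17324, 1716554, 77, 78, 19, 1])
 (.leaf [17093, 872998, 2271, 2445, 1488, 1]))
 (.leaf [6205, 1642795, 106, 115, 617, 1]))
 (.node (.leaf [59538, 1750084, 959, 960, 304, 1])
 (.leaf [29122, 1096746, 2164, 1863, 998, 0])))
 (.node (.node (.node (.leaf [38616, 330484, 537, 538, 157, 0])
 (.leaf [22486, 1615684, 1088, 1085, 1864, 0]))
 (.leaf [26547, 211596, 1800, 1231, 794, 0]))
 (.node (.leaf [18711, 1737827, 1340, 68, 460, 1])
 (.leaf [51635, 627060, 2199, 2327, 1222, 0]))))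
 (.node (.node (.node (.node (.leaf [35299, 340270, 315, 316, 87, 1])
 (.leaf [9336, 877317, 2276, 1330, 1654, 1]))
 (.leaf [15572, 91917, 1801, 1802, 708, 0]))
 (.node (.leaf [41620, 661360, 1153, 1154, 381, 0])
 (.leaf [13478, 406896, 1590, 2247, 1110, 1])))
 (.node (.node (.node (.leaf [31186, 1069971, 754, 755, 228, 1])
 (.leaf [58547, 735245, 2319, 2346, 2156, 1]))
 (.leaf [40753, 345968, 2049, 1630, 892, 0]))
 (.node (.leaf [57878, 394667, 1502, 1503, 538, 1])
 (.leaf [58836, 1468040, 2053, 2136, 1338, 1])))))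
 (.node (.node (.node (.node (.node (.leaf [50365, 379946, 198, 199, 54, 1])
 (.leaf [31903, 1520897, 2470, 334, 1566, 0]))
 (.leaf [32134, 1445003, 1723, 824, 663, 1]))
 (.node (.leaf [51736, 1254085, 1061, 1062, 342, 0])
 (.leaf [11576, 1413426, 2203, 2204, 1060, 0])))
 (.node (.node (.node (.leaf [41526, 668584, 12, 410, 191, 1])
 (.leaf [30356, 169778, 1895, 1990, 2002, 1]))
 (.leaf [42115, 202909, 2001, 2002, 844, 0]))
 (.node (.leaf [60326, 1710618, 1418, 1419, 500, 0])
 (.leaf [58362, 558964, 1735, 2361, 1269, 0]))))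
 (.node (.node (.node (.node (.leaf [52127, 1413286, 430, 15, 122, 1])
 (.leaf [16687, 541611, 2294, 785, 1766, 0]))
 (.leaf [6395, 414771, 1879, 1880, 750, 0]))
 (.node (.leaf [60809, 642152, 786, 1247, 418, 1])
 (.leaf [40427, 1517761, 1008, 1013, 1164, 0])))
 (.node (.node (.leaf [14383, 1395905, 855, 856, 266, 1])
 (.leaf [53102, 87857, 679, 730, 946, 0]))
 (.node (.leaf [63579, 737387, 633, 1580, 578, 1])
 (.leaf [12725, 1266881, 1912, 2066, 1407, 0])))))))
 (.node (.node (.node (.node (.node (.node (.node (.leaf [44213, 1149526, 48, 49, 11, 1])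
 (.leaf [36212, 56483, 618, 1953, 1472, 0]))
 (.leaf [16242, 531230, 1624, 1625, 608, 0]))
 (.node (.leaf [64482, 1107778, 931, 932, 295, 1])
 (.leaf [37207, 1380638, 2146, 2147, 980, 1])))
 (.node (.node (.node (.leaf [31002, 78694, 509, 510, 148, 1])
 (.leaf [17031, 353829, 2482, 2505, 1835, 0]))
 (.leaf [59313, 1061718, 1928, 1929, 785, 1]))
 (.node (.leaf [45400, 436632, 1316, 1317, 450, 1])
 (.leaf [43094, 539756, 1375, 1381, 1205, 0]))))
 (.node (.node (.node (.node (.leaf [39103, 1660939, 287, 288, 79, 1])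
 (.leaf [59455, 1628368, 1044, 655, 1634, 0]))
 (.leaf [32417, 549731, 1782, 109, 698, 1]))
 (.node (.leaf [44184, 639877, 1129, 1130, 372, 1])
 (.leaf [30285, 1227912, 445, 453, 1099, 1])))
 (.node (.node (.node (.leaf [57172, 1618988, 521, 727, 218, 0])
 (.leaf [15196, 855393, 980, 2517, 2122, 0]))
 (.leaf [59963, 125069, 2035, 214, 881, 0]))
 (.node (.leaf [12711, 1152389, 523, 1484, 530, 0])
 (.leaf [46077, 1394246, 2385, 2386, 1321, 1])))))
 (.node (.node (.node (.node (.node (.leaf [60035, 569653, 108, 169, 46, 0])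
 (.leaf [47709, 968072, 1935, 1755, 1545, 0]))
 (.leaf [44913, 284067, 1077, 1705, 651, 1]))
 (.node (.leaf [39606, 1692194, 1035, 1036, 333, 0])
 (.leaf [10203, 830816, 1939, 1869, 1048, 0])))
 (.node (.node (.node (.leaf [12793, 203091, 619, 620, 183, 1])
 (.leaf [64549, 1120798, 2210, 841, 1964, 1]))
 (.leaf [57716, 1525377, 1169, 570, 833, 1]))
 (.node (.leaf [48258, 1005697, 1055, 1046, 488, 1])
 (.leaf [39567, 441378, 1000, 1997, 1256, 1]))))
 (.node (.node (.node (.node (.leaf [60696, 1083306, 404, 405, 114, 0])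
 (.leaf [35527, 677768, 474, 2495, 1734, 1]))
 (.leaf [14500, 345989, 1859, 1860, 740, 1]))
 (.node (.leaf [63517, 1082739, 1226, 1227, 409, 0])
 (.leaf [16270, 545587, 1549, 1552, 1149, 1])))
 (.node (.node (.leaf [23691, 104818, 826, 827, 256, 0])
 (.leaf [16957, 277270, 2094, 2095, 930, 0]))
 (.node (.leaf [33261, 921774, 1566, 1567, 568, 0])
 (.leaf [63204, 918442, 2323, 993, 1391, 1]))))))
 (.node (.node (.node (.node (.node (.node (.leaf [43458, 1434370, 107, 108, 28, 0])
 (.leaf [22854, 218316, 1068, 1212, 1506, 1]))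
 (.leaf [18069, 875777, 434, 439, 629, 0]))
 (.node (.leaf [42520, 625765, 984, 985, 313, 1])
 (.leaf [59005, 1521730, 2172, 2173, 1015, 1])))
 (.node (.node (.node (.leaf [49805, 330141, 565, 566, 166, 1])
 (.leaf [4936, 189665, 1943, 1591, 1893, 1]))
 (.leaf [19689, 1616412, 1957, 1958, 806, 0]))
 (.node (.leaf [41432, 952714, 244, 235, 471, 0])
 (.leaf [61878, 1680133, 718, 724, 1233, 1]))))
 (.node (.node (.node (.node (.leaf [11103, 1083061, 345, 346, 96, 1])
 (.leaf [50616, 1094002, 799, 805, 1673, 1]))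
 (.leaf [54199, 175308, 1819, 1432, 718, 1]))
 (.node (.leaf [63678, 43246, 1173, 1174, 390, 1])
 (.leaf [20323, 1218434, 1398, 1390, 1125, 1])))
 (.node (.node (.node (.leaf [36417, 386400, 779, 780, 237, 1])
 (.leaf [25259, 1402625, 2467, 2491, 2206, 0]))
 (.leaf [12052, 1675436, 769, 1216, 905, 1]))
 (.node (.leaf [57144, 1370264, 221, 289, 548, 1])
 (.leaf [30929, 723275, 2398, 2399, 1358, 0])))))
 (.node (.node (.node (.node (.node (.leaf [33333, 549612, 129, 228, 62, 1])
 (.leaf [17182, 1336524, 1438, 323, 1587, 1]))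
 (.leaf [58659, 810250, 1746, 153, 674, 0]))
 (.node (.leaf [53993, 1627416, 1083, 1084, 351, 0])
 (.leaf [57227, 1414196, 324, 1437, 1075, 0])))
 (.node (.node (.node (.leaf [64788, 845866, 670, 671, 200, 0])
 (.leaf [46629, 92491, 2273, 2417, 2033, 1]))
 (.leaf [15711, 625996, 1124, 719, 854, 1]))
 (.node (.leaf [62440, 677425, 1441, 1442, 509, 0])
 (.leaf [23369, 1337098, 2369, 2239, 1289, 1]))))
 (.node (.node (.node (.node (.leaf [37713, 1677984, 457, 458, 131, 0])
 (.leaf [29606, 813386, 2443, 1675, 1786, 1]))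
 (.leaf [10093, 476994, 583, 1603, 764, 0]))
 (.node (.leaf [10212, 429268, 32, 793, 427, 1])
 (.leaf [10525, 51891, 2293, 511, 1177, 1])))
 (.node (.node (.leaf [39770, 52381, 879, 880, 276, 1])
 (.leaf [48538, 152971, 84, 1291, 959, 1]))
 (.node (.leaf [34119, 579110, 1593, 408, 587, 1])
 (.leaf [51351, 1624728, 2388, 2426, 1440, 0])))))))))
 (.node (.node (.node (.node (.node (.node (.node (.node (.node (.leaf [16165, 146097, 9, 10, 1, 1])
 (.leaf [38210, 577780, 2216, 542, 1451, 1]))
 (.leaf [6366, 276654, 629, 619, 595, 1]))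
 (.node (.leaf [18782, 1508577, 658, 666, 285, 0])
 (.leaf [48625, 144501, 2132, 1418, 968, 1])))
 (.node (.node (.node (.leaf [17023, 793877, 477, 478, 137, 0])
 (.leaf [35252, 284851, 1310, 1312, 1800, 1]))
 (.leaf [14798, 1520162, 508, 1063, 772, 0]))
 (.node (.leaf [36755, 1221017, 1284, 1285, 435, 0])
 (.leaf [50817, 1147797, 2303, 575, 1186, 1]))))
 (.node (.node (.node (.node (.leaf [13453, 809074, 250, 251, 69, 0])
 (.leaf [62920, 1324449, 2113, 2483, 1597, 1]))
 (.leaf [18467, 443954, 493, 706, 682, 1]))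
 (.node (.leaf [65091, 1426054, 1099, 1100, 362, 0])
 (.leaf [55270, 1378062, 2225, 2226, 1085, 0])))
 (.node (.node (.node (.leaf [17144, 1716869, 691, 692, 206, 1])
 (.leaf [54777, 1096214, 2497, 1183, 2059, 0]))
 (.leaf [40658, 679105, 634, 2027, 866, 0]))
 (.node (.leaf [23508, 1389108, 1457, 1458, 515, 1])
 (.leaf [23062, 1594593, 1962, 2092, 1301, 1])))))
 (.node (.node (.node (.node (.node (.leaf [54161, 1150058, 130, 131, 35, 0])
 (.leaf [23791, 1217944, 2452, 2453, 1523, 1]))
 (.leaf [13015, 124005, 1676, 1677, 638, 1]))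
 (.node (.leaf [5110, 584003, 688, 1003, 322, 0])
 (.leaf [40495, 86947, 2005, 176, 1031, 1])))
 (.node (.node (.node (.leaf [47178, 1713733, 584, 585, 172, 1])
 (.leaf [37518, 707609, 2475, 2288, 1916, 0]))
 (.leaf [46869, 385189, 704, 695, 816, 0]))
 (.node (.leaf [7525, 1389472, 1372, 1373, 477, 0])
 (.leaf [46986, 480515, 2341, 2342, 1240, 1]))))
 (.node (.node (.node (.node (.leaf [6342, 792757, 215, 369, 103, 0])
 (.leaf [15327, 1376998, 1267, 2333, 1699, 0]))
 (.leaf [40878, 869288, 1829, 1830, 725, 0]))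
 (.node (.leaf [28355, 1627332, 1192, 1193, 397, 0])
 (.leaf [51578, 569772, 2243, 2241, 1134, 1])))
 (.node (.node (.node (.leaf [24281, 1447474, 794, 795, 244, 1])
 (.leaf [5545, 1116878, 2453, 1011, 2290, 0]))
 (.leaf [59087, 479444, 1515, 2077, 912, 1]))
 (.node (.leaf [14613, 1620612, 1535, 1536, 555, 0])
 (.leaf [43211, 153202, 1996, 2404, 1372, 0]))))))
 (.node (.node (.node (.node (.node (.node (.leaf [39508, 1620752, 45, 70, 17, 1])
 (.leaf [25822, 1579795, 1449, 1452, 1483, 0]))
 (.leaf [16850, 1117417, 1640, 1641, 615, 0]))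
 (.node (.leaf [58241, 1092840, 951, 952, 302, 0])
 (.leaf [10876, 1136240, 2159, 2160, 991, 0])))
 (.node (.node (.node (.leaf [57655, 1409814, 310, 530, 155, 0])
 (.leaf [11036, 109361, 2342, 1083, 1855, 1]))
 (.leaf [34207, 735777, 1414, 1940, 792, 0]))
 (.node (.leaf [12163, 1512728, 1333, 435, 458, 1])
 (.leaf [6475, 1594635, 2324, 470, 1219, 0]))))
 (.node (.node (.node (.node (.leaf [14868, 1678082, 308, 245, 85, 1])
 (.leaf [9550, 436100, 2472, 1115, 1650, 1]))
 (.leaf [7164, 362922, 917, 1783, 705, 1]))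
 (.node (.leaf [28412, 1005648, 1146, 1147, 379, 0])
 (.leaf [59986, 1225742, 400, 338, 1107, 1])))
 (.node (.node (.node (.leaf [26831, 1693762, 746, 747, 226, 0])
 (.leaf [54916, 144809, 1156, 1163, 2146, 0]))
 (.leaf [59473, 473424, 2045, 2046, 889, 1]))
 (.node (.leaf [19902, 1361094, 1498, 81, 536, 1])
 (.leaf [63524, 573853, 2088, 1673, 1335, 1])))))
 (.node (.node (.node (.node (.node (.leaf [32569, 704606, 191, 192, 52, 1])
 (.leaf [19941, 1417633, 2374, 2373, 1561, 1]))
 (.leaf [62763, 922005, 1718, 1719, 661, 1]))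
 (.node (.leaf [52980, 1583435, 1054, 1055, 339, 0])
 (.leaf [23143, 414099, 1646, 802, 1058, 0])))
 (.node (.node (.node (.leaf [25735, 924805, 78, 85, 189, 1])
 (.leaf [8588, 177254, 1623, 2480, 1988, 1]))
 (.leaf [31075, 71589, 1997, 1998, 840, 1]))
 (.node (.leaf [23116, 1336419, 320, 1414, 496, 1])
 (.leaf [58642, 349748, 188, 229, 1265, 1]))))
 (.node (.node (.node (.node (.leaf [44323, 1589917, 423, 424, 120, 1])
 (.leaf [34753, 1148238, 1539, 461, 1754, 1]))
 (.leaf [25537, 1345715, 1426, 1874, 748, 0]))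
 (.node (.leaf [39489, 387716, 1239, 1240, 415, 1])
 (.leaf [43003, 273203, 275, 2279, 1160, 0])))
 (.node (.node (.leaf [6807, 999754, 424, 849, 264, 1])
 (.leaf [52927, 868721, 2105, 1020, 942, 0]))
 (.node (.leaf [56403, 1454978, 557, 563, 576, 0])
 (.leaf [47749, 428274, 2265, 2267, 1405, 0])))))))
 (.node (.node (.node (.node (.node (.node (.node (.leaf [31530, 383110, 30, 41, 9, 1])
 (.leaf [35109, 1317022, 2438, 2398, 1469, 0]))
 (.leaf [62325, 92953, 1617, 1618, 604, 1]))
 (.node (.leaf [14173, 938378, 924, 925, 293, 1])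
 (.leaf [38603, 1453256, 547, 551, 978, 1])))
 (.node (.node (.node (.leaf [50599, 58604, 503, 504, 146, 0])
 (.leaf [46124, 59220, 312, 1691, 1828, 0]))
 (.leaf [44861, 342342, 958, 1922, 783, 1]))
 (.node (.leaf [40354, 829766, 1309, 1310, 446, 1])
 (.leaf [7303, 793954, 944, 935, 1201, 0]))))
 (.node (.node (.node (.node (.leaf [25007, 119602, 154, 280, 77, 1])
 (.leaf [65238, 371749, 2487, 891, 1627, 1]))
 (.leaf [11751, 479514, 1176, 1777, 695, 1]))
 (.node (.leaf [23002, 103852, 669, 183, 370, 1])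
 (.leaf [56984, 560364, 2083, 2079, 1096, 1])))
 (.node (.node (.node (.leaf [33106, 1382451, 721, 722, 216, 0])
 (.leaf [65079, 1517089, 2429, 2076, 2116, 0]))
 (.leaf [28974, 647976, 1664, 1666, 879, 0]))
 (.node (.leaf [17721, 1059422, 1479, 1480, 528, 0])
 (.leaf [55129, 1713705, 819, 2227, 1316, 1])))))
 (.node (.node (.node (.node (.node (.leaf [43391, 452116, 161, 162, 43, 1])
 (.leaf [8137, 444038, 2462, 761, 1540, 0]))
 (.leaf [43512, 957698, 1701, 877, 649, 0]))
 (.node (.leaf [59058, 439712, 69, 1029, 331, 0])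
 (.leaf [35858, 969738, 1533, 1859, 1046, 0])))
 (.node (.node (.node (.leaf [45378, 1353968, 614, 615, 181, 0])
 (.leaf [31229, 89313, 2513, 2270, 1954, 1]))
 (.leaf [14546, 1443414, 1371, 313, 830, 1]))
 (.node (.leaf [64729, 1129485, 1397, 1398, 486, 0])
 (.leaf [4789, 643174, 2313, 2349, 1254, 1]))))
 (.node (.node (.node (.node (.leaf [22951, 1257578, 397, 398, 111, 1])
 (.leaf [47346, 1450694, 2495, 372, 1726, 1]))
 (.leaf [14839, 1742370, 1852, 1853, 738, 0]))
 (.node (.leaf [59675, 1139523, 1218, 1219, 406, 0])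
 (.leaf [10158, 1746528, 2270, 2271, 1147, 1])))
 (.node (.node (.node (.leaf [32498, 154707, 818, 819, 254, 0])
 (.leaf [62518, 177058, 2505, 2504, 2409, 1]))
 (.leaf [40215, 967057, 2091, 1294, 926, 1]))
 (.node (.leaf [50557, 1151402, 1559, 1560, 564, 1])
 (.leaf [34714, 704907, 860, 855, 1385, 1]))))))
 (.node (.node (.node (.node (.node (.node (.leaf [17307, 942186, 99, 100, 26, 0])
 (.leaf [54467, 993349, 1775, 2401, 1502, 0]))
 (.leaf [33379, 1129576, 1658, 1659, 627, 0]))
 (.node (.leaf [47070, 1740963, 510, 980, 311, 1])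
 (.leaf [33268, 1724555, 597, 602, 1012, 0])))
 (.node (.node (.node (.leaf [16872, 142667, 558, 559, 164, 0])
 (.leaf [36708, 1089781, 2449, 1439, 1890, 0]))
 (.leaf [42725, 117649, 1952, 1512, 803, 1]))
 (.node (.leaf [59607, 1435728, 1352, 1353, 469, 0])
 (.leaf [9160, 712803, 2333, 2334, 1230, 1]))))
 (.node (.node (.node (.node (.leaf [32452, 1121155, 338, 339, 94, 1])
 (.leaf [5844, 701232, 2491, 2146, 1670, 1]))
 (.leaf [27371, 641606, 875, 881, 716, 0]))
 (.node (.leaf [27695, 1221507, 821, 56, 388, 1])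
 (.leaf [51759, 691425, 2254, 2255, 1122, 0])))
 (.node (.node (.node (.leaf [38433, 1640268, 442, 663, 235, 1])
 (.leaf [60237, 1457162, 1203, 1649, 2188, 1]))
 (.leaf [46553, 1326220, 2058, 2059, 901, 1]))
 (.node (.leaf [34750, 1246315, 1516, 1517, 546, 0])
 (.leaf [64408, 743008, 2131, 701, 1353, 1])))))
 (.node (.node (.node (.node (.node (.leaf [63260, 625009, 220, 221, 60, 1])
 (.leaf [11322, 1392755, 1271, 2475, 1576, 0]))
 (.leaf [37821, 1627668, 1739, 1514, 671, 1]))
 (.node (.leaf [21562, 1117081, 1078, 1079, 349, 0])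
 (.leaf [35631, 1320550, 2213, 2214, 1072, 0])))
 (.node (.node (.node (.leaf [14735, 975492, 663, 664, 198, 0])
 (.leaf [55237, 803502, 2206, 2370, 2030, 0]))
 (.leaf [29471, 1455496, 2012, 1941, 851, 1]))
 (.node (.leaf [33505, 1121008, 896, 1436, 507, 0])
 (.leaf [48423, 157017, 1626, 2368, 1282, 0]))))
 (.node (.node (.node (.node (.leaf [36246, 1251859, 299, 452, 128, 1])
 (.leaf [30171, 460628, 2357, 395, 1783, 1]))
 (.leaf [25231, 343301, 1087, 1895, 761, 1]))
 (.node (.leaf [11641, 841904, 833, 1262, 425, 0])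
 (.leaf [27003, 1394568, 2288, 1270, 1175, 0])))
 (.node (.node (.leaf [38078, 1411473, 872, 873, 274, 0])
 (.leaf [38478, 855148, 2117, 161, 956, 1]))
 (.node (.leaf [10008, 1428546, 1588, 1589, 585, 1])
 (.leaf [18973, 218393, 2279, 1069, 1435, 1]))))))))
 (.node (.node (.node (.node (.node (.node (.node (.node (.leaf [25419, 967729, 25, 26, 5, 1])
 (.leaf [42551, 1155910, 1396, 2419, 1461, 1]))
 (.leaf [16299, 1126958, 1608, 1609, 600, 1]))
 (.node (.leaf [16232, 1137689, 909, 910, 289, 0])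
 (.leaf [29802, 1653064, 1332, 1338, 974, 0])))
 (.node (.node (.node (.leaf [8663, 1094037, 490, 491, 141, 1])
 (.leaf [36666, 690291, 622, 2502, 1817, 0]))
 (.leaf [12138, 956466, 1915, 565, 779, 0]))
 (.node (.leaf [27108, 347368, 1294, 1295, 440, 1])
 (.leaf [64654, 154777, 1234, 1855, 1194, 1]))))
 (.node (.node (.node (.node (.leaf [24097, 873264, 266, 267, 73, 0])
 (.leaf [42193, 1266699, 1480, 2484, 1610, 0]))
 (.leaf [6105, 1218224, 1768, 1769, 687, 1]))
 (.node (.leaf [21703, 142429, 1113, 1114, 366, 1])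
 (.leaf [32092, 394926, 773, 1573, 1092, 0])))
 (.node (.node (.node (.leaf [5244, 82845, 706, 707, 211, 1])
 (.leaf [34242, 647717, 1737, 1742, 2085, 0]))
 (.leaf [42612, 722785, 1981, 2031, 873, 1]))
 (.node (.leaf [57254, 975884, 1469, 79, 523, 1])
 (.leaf [61255, 1428497, 1580, 1585, 1309, 0])))))
 (.node (.node (.node (.node (.node (.leaf [5575, 541429, 145, 146, 39, 1])
 (.leaf [9636, 1753808, 2036, 2071, 1529, 0]))
 (.leaf [7396, 873348, 1689, 1690, 644, 1]))
 (.node (.leaf [55988, 1583897, 390, 1017, 326, 1])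
 (.leaf [7295, 1717072, 2021, 1566, 1040, 0])))
 (.node (.node (.node (.leaf [27079, 1442546, 598, 599, 177, 0])
 (.leaf [28449, 803698, 1949, 1647, 1931, 1]))
 (.leaf [55367, 1170561, 1975, 134, 825, 1]))
 (.node (.leaf [21066, 1738324, 1384, 1182, 481, 1])
 (.leaf [19325, 1260112, 643, 2338, 1247, 1]))))
 (.node (.node (.node (.node (.leaf [64309, 169876, 383, 384, 107, 0])
 (.leaf [60193, 285852, 2224, 1605, 1709, 1]))
 (.leaf [28494, 280490, 1840, 1841, 730, 0]))
 (.node (.leaf [39078, 342069, 1204, 1205, 401, 1])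
 (.leaf [24891, 649740, 2086, 2268, 1141, 0])))
 (.node (.node (.node (.leaf [20860, 657013, 807, 808, 249, 1])
 (.leaf [19919, 821653, 2392, 2428, 2341, 0]))
 (.leaf [9242, 1383683, 1490, 1018, 920, 1]))
 (.node (.leaf [39873, 117390, 201, 138, 559, 1])
 (.leaf [48190, 452739, 137, 2011, 1379, 1]))))))
 (.node (.node (.node (.node (.node (.node (.leaf [62994, 395122, 85, 86, 22, 0])
 (.leaf [62369, 1064105, 2269, 2017, 1493, 0]))
 (.leaf [25848, 288533, 1074, 330, 619, 1]))
 (.node (.leaf [37991, 952406, 966, 967, 307, 0])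
 (.leaf [29829, 1724506, 1279, 1973, 1000, 1])))
 (.node (.node (.node (.leaf [35516, 1069810, 544, 545, 159, 0])
 (.leaf [10611, 558894, 2509, 2379, 1874, 1]))
 (.leaf [57020, 183386, 1882, 1945, 796, 0]))
 (.node (.leaf [28158, 1074269, 1343, 522, 463, 1])
 (.leaf [41468, 991340, 923, 715, 1224, 1]))))
 (.node (.node (.node (.node (.leaf [62631, 735812, 323, 324, 90, 0])
 (.leaf [25299, 1587873, 1927, 834, 1659, 0]))
 (.leaf [37626, 1245853, 1806, 770, 711, 0]))
 (.node (.leaf [59307, 73059, 1159, 1160, 384, 1])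
 (.leaf [46021, 347459, 2251, 1789, 1115, 1])))
 (.node (.node (.node (.leaf [20878, 82803, 761, 762, 230, 1])
 (.leaf [36282, 713475, 2226, 1518, 2170, 0]))
 (.leaf [10317, 1054578, 1803, 1806, 897, 0]))
 (.node (.leaf [24054, 1260161, 1090, 1094, 540, 1])
 (.leaf [53841, 1677354, 1966, 2392, 1346, 1])))))
 (.node (.node (.node (.node (.node (.leaf [14492, 869190, 2, 206, 56, 1])
 (.leaf [23345, 875532, 2471, 2472, 1569, 1]))
 (.leaf [30889, 690585, 722, 1728, 666, 1]))
 (.node (.leaf [10783, 137970, 380, 370, 344, 1])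
 (.leaf [6744, 1737932, 2208, 2209, 1062, 0])))
 (.node (.node (.node (.leaf [26665, 440706, 648, 593, 193, 1])
 (.leaf [38739, 138453, 2363, 2358, 2018, 0]))
 (.leaf [57692, 435750, 1738, 2005, 847, 0]))
 (.node (.leaf [53074, 80654, 1424, 1032, 502, 0])
 (.leaf [12891, 1167761, 801, 951, 1274, 1]))))
 (.node (.node (.node (.node (.leaf [65186, 477827, 437, 438, 124, 1])
 (.leaf [22424, 1363152, 2499, 756, 1775, 0]))
 (.leaf [15332, 1640037, 1884, 948, 754, 0]))
 (.node (.leaf [35382, 1074794, 1252, 1253, 421, 0])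
 (.leaf [14657, 989968, 673, 680, 1167, 1])))
 (.node (.node (.leaf [44573, 1167502, 863, 864, 269, 0])
 (.leaf [60308, 1316532, 502, 1095, 948, 0]))
 (.node (.leaf [16017, 575400, 1585, 632, 581, 0])
 (.leaf [19164, 1102003, 2419, 1142, 1414, 0])))))))
 (.node (.node (.node (.node (.node (.node (.node (.leaf [54938, 1134833, 56, 57, 13, 1])
 (.leaf [6371, 943145, 550, 2372, 1475, 0]))
 (.leaf [10630, 180894, 1630, 1307, 610, 0]))
 (.node (.leaf [44903, 1661121, 939, 940, 298, 0])
 (.leaf [42281, 1579221, 2150, 2151, 982, 1])))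
 (.node (.node (.node (.leaf [11480, 868749, 515, 19, 150, 1])
 (.leaf [41793, 1620514, 1677, 1682, 1840, 1]))
 (.leaf [50468, 1265866, 1931, 1529, 787, 1]))
 (.node (.leaf [18157, 1718801, 1324, 1325, 453, 0])
 (.leaf [35545, 71540, 2318, 1795, 1209, 1]))))
 (.node (.node (.node (.node (.leaf [12973, 571781, 294, 295, 81, 1])
 (.leaf [64211, 856422, 1195, 1187, 1640, 1]))
 (.leaf [39912, 181937, 1789, 1790, 701, 0]))
 (.node (.leaf [16763, 543837, 1134, 1135, 375, 0])
 (.leaf [20919, 1057693, 1403, 1931, 1101, 1])))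
 (.node (.node (.node (.leaf [54555, 694022, 14, 734, 220, 1])
 (.leaf [49451, 289492, 2291, 651, 2128, 0]))
 (.leaf [43310, 1513120, 1995, 2037, 884, 1]))
 (.node (.leaf [54689, 1237523, 1487, 1488, 532, 0])
 (.leaf [49827, 1378545, 164, 2149, 1326, 1])))))
 (.node (.node (.node (.node (.node (.leaf [55655, 1745121, 176, 177, 48, 0])
 (.leaf [27265, 576709, 2297, 2465, 1549, 1]))
 (.leaf [36140, 209573, 1709, 1710, 653, 1]))
 (.node (.leaf [34651, 108969, 1043, 1044, 335, 0])
 (.leaf [26708, 385364, 2197, 1258, 1051, 0])))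
 (.node (.node (.node (.leaf [53891, 1357874, 354, 627, 185, 1])
 (.leaf [8028, 1737491, 2515, 2512, 1975, 0]))
 (.leaf [22154, 1688617, 1988, 524, 836, 0]))
 (.node (.leaf [43478, 1004052, 812, 1406, 490, 1])
 (.leaf [20214, 104622, 2046, 2353, 1260, 0]))))
 (.node (.node (.node (.node (.leaf [49593, 924546, 411, 412, 116, 0])
 (.leaf [32019, 1656333, 1945, 2188, 1740, 1]))
 (.leaf [59222, 1054613, 1863, 1864, 742, 1]))
 (.node (.leaf [26842, 1519700, 228, 1230, 411, 0])
 (.leaf [14774, 480900, 2207, 202, 1152, 1])))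
 (.node (.node (.leaf [58964, 988512, 834, 835, 259, 1])
 (.leaf [64429, 1252034, 1786, 1791, 934, 1]))
 (.node (.leaf [29140, 1238538, 417, 1569, 570, 0])
 (.leaf [61893, 1754641, 2236, 1829, 1396, 0]))))))
 (.node (.node (.node (.node (.node (.node (.leaf [57801, 953617, 115, 116, 30, 0])
 (.leaf [62866, 287973, 2348, 2350, 1511, 0]))
 (.leaf [62510, 1097040, 333, 340, 632, 1]))
 (.node (.leaf [59731, 537509, 991, 992, 316, 0])
 (.leaf [15442, 682521, 2178, 2012, 1021, 0])))
 (.node (.node (.node (.leaf [7070, 467292, 572, 573, 168, 1])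
 (.leaf [58730, 924336, 2511, 759, 1901, 1]))
 (.leaf [29164, 202412, 1961, 847, 808, 0]))
 (.node (.leaf [52533, 1316770, 1359, 1360, 473, 0])
 (.leaf [32741, 206955, 2123, 2337, 1236, 0]))))
 (.node (.node (.node (.node (.leaf [8570, 649285, 353, 354, 98, 1])
 (.leaf [23618, 219226, 2389, 2329, 1677, 1]))
 (.leaf [50068, 146573, 1821, 1822, 721, 0]))
 (.node (.leaf [56398, 941122, 1179, 1136, 392, 1])
 (.leaf [62565, 1238608, 1641, 1608, 1129, 0])))
 (.node (.node (.node (.leaf [44077, 172774, 784, 211, 239, 1])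
 (.leaf [31062, 680645, 854, 2459, 2235, 0]))
 (.leaf [58210, 1157744, 2066, 2067, 907, 1]))
 (.node (.leaf [54507, 1410150, 1523, 1524, 550, 1])
 (.leaf [8694, 1151318, 1571, 2129, 1361, 1])))))
 (.node (.node (.node (.node (.node (.leaf [23083, 354501, 235, 236, 64, 1])
 (.leaf [55231, 1591947, 2477, 2478, 1592, 0]))
 (.leaf [59702, 157269, 1749, 1750, 677, 0]))
 (.node (.leaf [4719, 47446, 650, 1089, 355, 0])
 (.leaf [11864, 854133, 2222, 1264, 1077, 0])))
 (.node (.node (.node (.leaf [61785, 437507, 678, 679, 202, 1])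
 (.leaf [39900, 559923, 2006, 1986, 2047, 0]))
 (.leaf [64062, 1587537, 297, 241, 858, 1]))
 (.node (.leaf [19193, 46382, 1448, 1449, 511, 1])
 (.leaf [53545, 408464, 2372, 237, 1295, 1]))))
 (.node (.node (.node (.node (.leaf [19283, 190050, 464, 465, 133, 0])
 (.leaf [47679, 985194, 2151, 481, 1792, 1]))
 (.leaf [37480, 1214094, 1901, 1218, 766, 0]))
 (.node (.leaf [58482, 177457, 1272, 1273, 430, 0])
 (.leaf [43842, 1425802, 1544, 2297, 1179, 1])))
 (.node (.node (.leaf [60534, 1590379, 886, 887, 278, 1])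
 (.leaf [54583, 119462, 327, 317, 962, 0]))
 (.node (.leaf [9195, 741601, 409, 1595, 590, 0])
 (.leaf [11286, 1655017, 148, 2055, 1443, 1]))))))))))
 (.node (.node (.node (.node (.node (.node (.node (.node (.node (.node (.leaf [51522, 1168776, 5, 6, 0, 1])
 (.leaf [64041, 340389, 949, 2393, 1449, 0]))
 (.leaf [46913, 1619205, 1506, 1600, 594, 1]))
 (.node (.leaf [64355, 713440, 897, 898, 282, 1])
 (.leaf [46034, 1322209, 2130, 2131, 966, 0])))
 (.node (.node (.node (.leaf [44518, 1453081, 373, 474, 136, 0])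
 (.leaf [26024, 1606955, 1820, 2501, 1799, 1]))
 (.leaf [14811, 1692432, 1908, 1909, 771, 0]))
 (.node (.leaf [45871, 1442707, 1280, 1281, 434, 0])
 (.leaf [64300, 630112, 110, 1963, 1185, 1]))))
 (.node (.node (.node (.node (.leaf [6439, 1446067, 246, 247, 68, 0])
 (.leaf [9706, 953442, 2481, 2482, 1596, 0]))
 (.leaf [36393, 1742048, 1758, 1721, 680, 1]))
 (.node (.leaf [51365, 1345330, 934, 1096, 359, 0])
 (.leaf [26898, 1655640, 1790, 2223, 1082, 0])))
 (.node (.node (.node (.leaf [13788, 1411214, 687, 688, 205, 1])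
 (.leaf [50686, 177548, 2034, 2033, 2056, 1]))
 (.leaf [44057, 1084629, 1560, 1252, 865, 0]))
 (.node (.leaf [19638, 1688232, 1454, 1455, 514, 1])
 (.leaf [22515, 469700, 2375, 2376, 1300, 1])))))
 (.node (.node (.node (.node (.node (.leaf [49491, 1383648, 126, 127, 34, 0])
 (.leaf [14235, 342440, 831, 839, 1521, 0]))
 (.leaf [28599, 1330378, 1673, 1674, 637, 1]))
 (.node (.leaf [42418, 876645, 999, 1000, 321, 0])
 (.leaf [59834, 530278, 2078, 2007, 1030, 0])))
 (.node (.node (.node (.leaf [48689, 284466, 580, 581, 171, 1])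
 (.leaf [43132, 545692, 1793, 2345, 1913, 0]))
 (.leaf [34074, 695331, 1836, 1964, 814, 0]))
 (.node (.leaf [17709, 1058729, 348, 1369, 476, 0])
 (.leaf [22091, 1738891, 1235, 1474, 1239, 1]))))
 (.node (.node (.node (.node (.leaf [59346, 87654, 365, 366, 101, 1])
 (.leaf [45658, 1254925, 1440, 2448, 1694, 0]))
 (.leaf [45350, 1410444, 1826, 1827, 724, 0]))
 (.node (.leaf [51074, 381990, 1189, 1190, 396, 0])
 (.leaf [59212, 80801, 104, 1758, 1133, 1])))
 (.node (.node (.node (.leaf [58767, 408744, 791, 792, 243, 0])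
 (.leaf [63379, 690382, 1772, 2018, 2277, 1]))
 (.leaf [15972, 1149834, 1653, 1668, 911, 0]))
 (.node (.leaf [52829, 1654877, 1532, 1533, 553, 1])
 (.leaf [9661, 1607522, 2402, 2403, 1369, 0]))))))
 (.node (.node (.node (.node (.node (.node (.leaf [47388, 1084062, 66, 67, 16, 1])
 (.leaf [31250, 1712669, 2404, 924, 1482, 0]))
 (.leaf [58277, 118090, 1636, 1637, 614, 0]))
 (.node (.leaf [41848, 975394, 948, 949, 301, 0])
 (.leaf [60570, 1328369, 2157, 2158, 990, 0])))
 (.node (.node (.node (.leaf [27093, 1583820, 526, 527, 153, 1])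
 (.leaf [63927, 1451632, 2027, 418, 1853, 0]))
 (.leaf [15037, 1004290, 637, 1545, 791, 0]))
 (.node (.leaf [62118, 438578, 1330, 343, 457, 0])
 (.leaf [25208, 1709589, 1568, 2323, 1218, 0]))))
 (.node (.node (.node (.node (.leaf [13719, 377909, 304, 305, 84, 1])
 (.leaf [21137, 1420384, 1595, 1593, 1645, 1]))
 (.leaf [18450, 1737372, 1795, 1796, 704, 1]))
 (.node (.leaf [44126, 740033, 1144, 1145, 378, 0])
 (.leaf [57267, 1519882, 2111, 933, 1105, 1])))
 (.node (.node (.node (.leaf [26779, 975968, 414, 744, 225, 0])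
 (.leaf [64952, 1357104, 2278, 1624, 2142, 0]))
 (.leaf [51006, 1750049, 2042, 2043, 888, 1]))
 (.node (.leaf [34596, 207053, 1496, 746, 535, 1])
 (.leaf [36817, 116081, 438, 2388, 1334, 0])))))
 (.node (.node (.node (.node (.node (.leaf [22436, 961604, 187, 188, 51, 1])
 (.leaf [30061, 1680224, 2468, 1731, 1560, 0]))
 (.leaf [48812, 420504, 1716, 1207, 659, 1]))
 (.node (.leaf [23186, 1716309, 1052, 1053, 338, 0])
 (.leaf [44430, 1328782, 2200, 1950, 1055, 1])))
 (.node (.node (.node (.leaf [14359, 1657411, 635, 25, 188, 1])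
 (.leaf [56204, 72107, 2335, 2431, 1986, 0]))
 (.leaf [52615, 419664, 1132, 1462, 839, 1]))
 (.node (.leaf [34025, 379568, 1412, 1413, 494, 0])
 (.leaf [24312, 793772, 2356, 2357, 1264, 0]))))
 (.node (.node (.node (.node (.leaf [55942, 1394225, 420, 421, 119, 0])
 (.leaf [30786, 1253469, 545, 1541, 1753, 0]))
 (.leaf [51295, 1428616, 1045, 1873, 747, 0]))
 (.node (.leaf [11411, 1443225, 1236, 60, 414, 1])
 (.leaf [57707, 380037, 849, 1141, 1158, 1])))
 (.node (.node (.leaf [32180, 346675, 845, 846, 262, 1])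
 (.leaf [5224, 83790, 1021, 2104, 939, 1]))
 (.node (.leaf [21499, 442547, 206, 87, 573, 1])
 (.leaf [35961, 1673868, 2412, 2139, 1402, 0])))))))
 (.node (.node (.node (.node (.node (.node (.node (.leaf [14213, 283892, 37, 38, 8, 1])
 (.leaf [9755, 1457281, 1921, 1153, 1468, 0]))
 (.leaf [7976, 1690241, 1615, 1616, 603, 1]))
 (.node (.leaf [63763, 852852, 920, 921, 292, 1])
 (.leaf [56363, 859040, 2043, 165, 977, 1])))
 (.node (.node (.node (.leaf [33353, 1140552, 500, 501, 145, 0])
 (.leaf [10294, 72940, 971, 1384, 1825, 0]))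
 (.leaf [6797, 442778, 1918, 1919, 782, 1]))
 (.node (.leaf [38987, 938161, 1305, 1306, 445, 1])
 (.leaf [10121, 1516256, 377, 2313, 1199, 0]))))
 (.node (.node (.node (.node (.leaf [18012, 1594019, 276, 277, 76, 1])
 (.leaf [56095, 1053941, 974, 1363, 1625, 1]))
 (.leaf [9427, 924182, 1181, 1502, 693, 0]))
 (.node (.leaf [58744, 1578794, 913, 1102, 369, 1])
 (.leaf [39732, 1091118, 927, 754, 1095, 0])))
 (.node (.node (.node (.leaf [5978, 218890, 717, 718, 214, 1])
 (.leaf [32702, 639401, 1611, 2499, 2107, 0]))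
 (.leaf [7209, 1645252, 2033, 567, 877, 1]))
 (.node (.leaf [55781, 1345750, 1477, 1478, 527, 0])
 (.leaf [43107, 156394, 2382, 1052, 1315, 0])))))
 (.node (.node (.node (.node (.node (.leaf [7242, 1594978, 157, 158, 42, 1])
 (.leaf [11541, 1618218, 428, 477, 1538, 0]))
 (.leaf [49642, 810068, 1699, 1241, 648, 0]))
 (.node (.leaf [62488, 579460, 611, 1026, 330, 0])
 (.leaf [51767, 214865, 2191, 1454, 1044, 1])))
 (.node (.node (.node (.leaf [19621, 1420300, 610, 611, 180, 0])
 (.leaf [34367, 1004612, 527, 2507, 1944, 1]))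
 (.leaf [13759, 952497, 1500, 1504, 829, 1]))
 (.node (.leaf [34163, 122129, 1394, 1395, 485, 0])
 (.leaf [22332, 822178, 2347, 2348, 1252, 1]))))
 (.node (.node (.node (.node (.leaf [59943, 712985, 394, 13, 110, 1])
 (.leaf [59461, 1675618, 1710, 1712, 1719, 1]))
 (.leaf [59435, 450786, 1849, 1850, 735, 1]))
 (.node (.leaf [39445, 989730, 1214, 1215, 404, 1])
 (.leaf [12905, 1106259, 1579, 2269, 1144, 0])))
 (.node (.node (.node (.leaf [45412, 1523802, 146, 151, 253, 0])
 (.leaf [10825, 537460, 720, 1123, 2393, 0]))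
 (.leaf [41447, 1679692, 2090, 155, 925, 1]))
 (.node (.leaf [23731, 1258824, 1555, 1556, 563, 0])
 (.leaf [59720, 138131, 1416, 2408, 1384, 1]))))))
 (.node (.node (.node (.node (.node (.node (.leaf [6231, 1337483, 96, 97, 25, 0])
 (.leaf [32442, 1129793, 1788, 1768, 1501, 0]))
 (.leaf [36813, 559454, 1554, 96, 624, 1]))
 (.node (.leaf [19254, 1219792, 976, 977, 310, 1])
 (.leaf [37541, 575029, 1589, 2167, 1007, 1])))
 (.node (.node (.node (.leaf [31029, 1064021, 554, 555, 163, 0])
 (.leaf [51595, 1107288, 2479, 2284, 1887, 1]))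
 (.leaf [27207, 738115, 1950, 1951, 802, 0]))
 (.node (.leaf [12230, 450716, 921, 929, 468, 0])
 (.leaf [52130, 1692929, 2230, 2098, 1229, 0]))))
 (.node (.node (.node (.node (.leaf [26507, 629552, 334, 335, 93, 1])
 (.leaf [43902, 984396, 1244, 1239, 1668, 1]))
 (.leaf [34225, 1238657, 1483, 1814, 714, 0]))
 (.node (.leaf [5510, 544075, 963, 1169, 387, 1])
 (.leaf [60113, 55454, 1047, 1054, 1119, 0])))
 (.node (.node (.node (.leaf [22843, 1171786, 770, 771, 234, 1])
 (.leaf [30814, 624750, 2364, 1837, 2178, 1]))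
 (.leaf [57789, 991781, 158, 167, 900, 1]))
 (.node (.leaf [47868, 1623272, 1512, 1513, 545, 0])
 (.leaf [48997, 171234, 2393, 1884, 1352, 0])))))
 (.node (.node (.node (.node (.node (.leaf [45022, 812385, 216, 217, 59, 1])
 (.leaf [8125, 363797, 2474, 2390, 1573, 1]))
 (.leaf [22297, 1508962, 1736, 1737, 670, 1]))
 (.node (.leaf [18751, 999509, 208, 198, 347, 1])
 (.leaf [25827, 408198, 2211, 2212, 1071, 0])))
 (.node (.node (.node (.leaf [36257, 169638, 659, 660, 197, 0])
 (.leaf [51902, 1158017, 2484, 2488, 2027, 1]))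
 (.leaf [14186, 418138, 1531, 1821, 850, 0]))
 (.node (.leaf [14701, 842786, 904, 1434, 505, 1])
 (.leaf [9071, 1250627, 2285, 2367, 1281, 0]))))
 (.node (.node (.node (.node (.leaf [10481, 662424, 448, 449, 127, 1])
 (.leaf [31569, 845957, 2500, 2365, 1781, 1]))
 (.leaf [25898, 993321, 1733, 1596, 759, 0]))
 (.node (.leaf [11699, 1369116, 1260, 1261, 424, 0])
 (.leaf [50803, 642369, 532, 540, 1173, 0])))
 (.node (.node (.leaf [27161, 107429, 870, 871, 272, 0])
 (.leaf [40474, 1056083, 2115, 737, 954, 1]))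
 (.node (.leaf [60738, 109452, 279, 1192, 584, 1])
 (.leaf [61366, 476693, 2029, 1256, 1430, 1]))))))))
 (.node (.node (.node (.node (.node (.node (.node (.node (.leaf [50930, 173985, 21, 22, 4, 1])
 (.leaf [40387, 1622229, 1257, 2028, 1460, 0]))
 (.leaf [58137, 623532, 1382, 1374, 599, 1]))
 (.node (.leaf [47327, 1330259, 141, 132, 288, 0])
 (.leaf [24382, 352611, 1034, 2137, 971, 1])))
 (.node (.node (.node (.leaf [4857, 1172801, 487, 488, 140, 0])
 (.leaf [51697, 170394, 1205, 1209, 1813, 0]))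
 (.leaf [60762, 739144, 1098, 1099, 777, 0]))
 (.node (.leaf [15126, 1714881, 1291, 1202, 439, 1])
 (.leaf [63437, 214347, 2309, 1615, 1192, 1]))))
 (.node (.node (.node (.node (.leaf [10428, 87948, 262, 263, 72, 0])
 (.leaf [44843, 1586277, 1223, 1214, 1609, 0]))
 (.leaf [40547, 1073877, 405, 397, 685, 1]))
 (.node (.leaf [63189, 347032, 26, 1110, 365, 1])
 (.leaf [37371, 809102, 2106, 2233, 1090, 1])))
 (.node (.node (.node (.leaf [29398, 983906, 703, 704, 210, 0])
 (.leaf [50034, 1129009, 1012, 2452, 2078, 0]))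
 (.leaf [27359, 175203, 1429, 1982, 872, 0]))
 (.node (.leaf [55665, 428435, 1465, 1466, 520, 1])
 (.leaf [21276, 1508619, 1625, 2277, 1305, 0])))))
 (.node (.node (.node (.node (.node (.leaf [11367, 272811, 142, 3, 38, 1])
 (.leaf [5811, 584472, 2456, 1642, 1527, 0]))
 (.leaf [42358, 809361, 1686, 1121, 643, 1]))
 (.node (.leaf [22820, 645232, 1013, 1014, 325, 0])
 (.leaf [10058, 967554, 2188, 1881, 1038, 0])))
 (.node (.node (.node (.leaf [11855, 279923, 594, 595, 176, 0])
 (.leaf [25335, 811685, 2403, 2280, 1929, 1]))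
 (.leaf [55075, 928781, 1973, 776, 821, 1]))
 (.node (.leaf [34042, 1412362, 63, 71, 480, 1])
 (.leaf [36570, 1415554, 2346, 1824, 1245, 1]))))
 (.node (.node (.node (.node (.leaf [42395, 406917, 379, 380, 106, 0])
 (.leaf [35662, 395157, 2447, 2382, 1707, 1]))
 (.leaf [53590, 1382276, 1838, 1839, 728, 0]))
 (.node (.leaf [29528, 939120, 1202, 83, 400, 1])
 (.leaf [50650, 735336, 1745, 1678, 1139, 1])))
 (.node (.node (.node (.leaf [43061, 1120168, 467, 804, 248, 1])
 (.leaf [30089, 1412180, 1797, 1660, 2330, 0]))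
 (.leaf [59047, 1413524, 2082, 2083, 919, 0]))
 (.node (.leaf [47455, 737821, 1543, 1544, 558, 0])
 (.leaf [45519, 836010, 2026, 2307, 1377, 0]))))))
 (.node (.node (.node (.node (.node (.node (.leaf [21673, 543347, 81, 82, 21, 0])
 (.leaf [32357, 144277, 2317, 1198, 1490, 0]))
 (.leaf [13945, 475293, 1647, 1636, 618, 1]))
 (.node (.leaf [21453, 1360030, 571, 963, 306, 0])
 (.leaf [18430, 1447152, 1621, 843, 999, 0])))
 (.node (.node (.node (.leaf [19706, 1361584, 540, 541, 158, 0])
 (.leaf [44363, 1714699, 2416, 988, 1866, 0]))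
 (.leaf [56857, 1255016, 894, 899, 795, 0]))
 (.node (.leaf [25495, 985229, 1341, 1151, 461, 1])
 (.leaf [29789, 350448, 1757, 2154, 1223, 0]))))
 (.node (.node (.node (.node (.leaf [42686, 559846, 319, 320, 89, 0])
 (.leaf [35781, 918358, 2116, 1297, 1657, 1]))
 (.leaf [30955, 214249, 322, 1804, 710, 0]))
 (.node (.leaf [25150, 420371, 1155, 1156, 383, 1])
 (.leaf [54040, 738024, 2144, 2013, 1113, 0])))
 (.node (.node (.node (.leaf [31429, 404523, 286, 758, 229, 1])
 (.leaf [56101, 659806, 1727, 1723, 2162, 0]))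
 (.leaf [47253, 1639267, 660, 2051, 893, 0]))
 (.node (.leaf [22915, 46452, 1240, 1243, 539, 1])
 (.leaf [25038, 59178, 2390, 2391, 1342, 1])))))
 (.node (.node (.node (.node (.node (.leaf [54106, 107380, 202, 203, 55, 1])
 (.leaf [14917, 473760, 217, 2405, 1568, 0]))
 (.leaf [25289, 1659651, 1725, 1726, 664, 1]))
 (.node (.leaf [18322, 352492, 1065, 1066, 343, 1])
 (.leaf [29291, 1623888, 2171, 2206, 1061, 0])))
 (.node (.node (.node (.leaf [27631, 1126517, 644, 645, 192, 1])
 (.leaf [25114, 1454614, 1798, 2486, 2010, 0]))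
 (.leaf [62905, 1652805, 972, 1915, 845, 1]))
 (.node (.leaf [16985, 1595153, 1421, 1422, 501, 0])
 (.leaf [38710, 1127301, 1569, 231, 1271, 1]))))
 (.node (.node (.node (.node (.leaf [25535, 1745163, 433, 434, 123, 1])
 (.leaf [5177, 84721, 783, 2305, 1767, 1]))
 (.leaf [57989, 344309, 1881, 1882, 753, 0]))
 (.node (.leaf [64626, 158347, 760, 1249, 420, 0])
 (.leaf [24557, 792918, 2283, 813, 1166, 0])))
 (.node (.node (.leaf [32110, 1393182, 859, 860, 268, 0])
 (.leaf [42043, 1094709, 1944, 2110, 947, 0]))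
 (.node (.leaf [45761, 1092147, 1582, 1583, 579, 1])
 (.leaf [64742, 1135155, 1969, 1284, 1408, 1])))))))
 (.node (.node (.node (.node (.node (.node (.node (.leaf [23860, 646177, 52, 53, 12, 1])
 (.leaf [64342, 1227842, 293, 2440, 1473, 0]))
 (.leaf [18121, 415254, 1562, 1627, 609, 0]))
 (.node (.leaf [61805, 460453, 935, 936, 296, 1])
 (.leaf [40190, 714840, 2149, 2133, 981, 1])))
 (.node (.node (.node (.leaf [38450, 926576, 513, 514, 149, 1])
 (.leaf [16215, 1141259, 2506, 895, 1838, 1]))
 (.leaf [4740, 700833, 118, 126, 786, 1]))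
 (.node (.leaf [40310, 1747011, 1320, 1321, 452, 0])
 (.leaf [44764, 743449, 965, 796, 1207, 0]))))
 (.node (.node (.node (.node (.leaf [64237, 419139, 291, 9, 80, 1])
 (.leaf [32079, 797454, 1084, 2341, 1638, 1]))
 (.leaf [46817, 1062285, 1785, 1786, 699, 1]))
 (.node (.leaf [55957, 920745, 122, 1132, 374, 0])
 (.leaf [54734, 733957, 2239, 2203, 1100, 1])))
 (.node (.node (.node (.leaf [35875, 1745688, 730, 731, 219, 0])
 (.leaf [42168, 647437, 2218, 787, 2125, 1]))
 (.leaf [44694, 571438, 1353, 1336, 882, 1]))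
 (.node (.leaf [58424, 58653, 1485, 1486, 531, 0])
 (.leaf [48278, 1434657, 1891, 1886, 1325, 1])))))
 (.node (.node (.node (.node (.node (.leaf [25935, 436275, 172, 173, 47, 0])
 (.leaf [62247, 670222, 1456, 1565, 1547, 1]))
 (.leaf [4684, 190547, 1707, 101, 652, 1]))
 (.node (.leaf [39967, 1225098, 1039, 1040, 334, 0])
 (.leaf [29348, 427938, 2038, 381, 1049, 1])))
 (.node (.node (.node (.leaf [40373, 1344931, 623, 624, 184, 1])
 (.leaf [64827, 1513498, 1862, 1170, 1971, 0]))
 (.leaf [22260, 958769, 1726, 1443, 835, 0]))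
 (.node (.leaf [50150, 548121, 862, 1404, 489, 1])
 (.leaf [52008, 479395, 120, 1899, 1258, 1]))))
 (.node (.node (.node (.node (.leaf [14589, 1319843, 408, 409, 115, 0])
 (.leaf [35358, 1055642, 2110, 1127, 1736, 1]))
 (.leaf [35270, 418845, 1246, 1366, 741, 1]))
 (.node (.leaf [13046, 210273, 1228, 457, 410, 0])
 (.leaf [19475, 1738506, 344, 2276, 1151, 1])))
 (.node (.node (.leaf [31966, 976913, 830, 831, 258, 1])
 (.leaf [60210, 1660680, 1767, 978, 932, 0]))
 (.node (.leaf [46471, 288428, 1217, 768, 569, 0])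
 (.leaf [63270, 1155469, 2410, 264, 1393, 1]))))))
 (.node (.node (.node (.node (.node (.node (.leaf [18607, 1362970, 111, 112, 29, 0])
 (.leaf [49063, 1108688, 2245, 298, 1509, 1]))
 (.leaf [51094, 1356054, 1666, 1667, 631, 0]))
 (.node (.leaf [64023, 939393, 988, 989, 315, 0])
 (.leaf [47652, 1345946, 2176, 2177, 1017, 0])))
 (.node (.node (.node (.leaf [50225, 1753626, 569, 515, 167, 1])
 (.leaf [11112, 705075, 2386, 600, 1899, 0]))
 (.leaf [15686, 1256136, 1959, 1960, 807, 0]))
 (.node (.leaf [47217, 404355, 1357, 1358, 472, 0])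
 (.leaf [25986, 377006, 2089, 2085, 1234, 1]))))
 (.node (.node (.node (.node (.leaf [64616, 546574, 349, 350, 97, 1])
 (.leaf [41910, 843024, 240, 2381, 1675, 0]))
 (.leaf [11213, 1247883, 1693, 487, 719, 1]))
 (.node (.leaf [55827, 795445, 1175, 1176, 391, 1])
 (.leaf [17258, 791924, 1536, 2249, 1127, 1])))
 (.node (.node (.node (.leaf [4733, 104853, 43, 33, 238, 1])
 (.leaf [16809, 142233, 1880, 1687, 2225, 0]))
 (.leaf [19607, 363314, 2064, 1485, 906, 1]))
 (.node (.leaf [33190, 1578269, 1521, 1522, 549, 1])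
 (.leaf [10270, 80500, 1762, 1905, 1359, 0])))))
 (.node (.node (.node (.node (.node (.leaf [23038, 1216754, 231, 232, 63, 1])
 (.leaf [17368, 413938, 2476, 1113, 1591, 0]))
 (.leaf [53031, 1075865, 1227, 1555, 676, 0]))
 (.node (.leaf [11722, 975114, 1086, 1087, 352, 1])
 (.leaf [13852, 1425585, 1951, 2219, 1076, 0])))
 (.node (.node (.node (.leaf [57290, 440496, 674, 675, 201, 1])
 (.leaf [19337, 1103760, 2427, 2466, 2040, 1]))
 (.leaf [45000, 1402947, 2018, 2019, 857, 0]))
 (.node (.leaf [6602, 275765, 1445, 1446, 510, 0])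
 (.leaf [32541, 108878, 1916, 2371, 1291, 1]))))
 (.node (.node (.node (.node (.leaf [55455, 1108611, 461, 462, 132, 0])
 (.leaf [49957, 551691, 723, 2470, 1789, 0]))
 (.leaf [26036, 1753241, 762, 1900, 765, 0]))
 (.node (.leaf [19224, 217826, 1269, 903, 428, 1])
 (.leaf [55918, 1322251, 2295, 2296, 1178, 1])))
 (.node (.node (.leaf [42886, 1319710, 883, 39, 277, 1])
 (.leaf [4808, 1217734, 1933, 1137, 961, 0]))
 (.node (.leaf [26689, 989506, 1289, 1318, 589, 0])
 (.leaf [58264, 214634, 2308, 2025, 1442, 0])))))))))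
 (.node (.node (.node (.node (.node (.node (.node (.node (.node (.leaf [24212, 1391880, 13, 14, 2, 1])
 (.leaf [54714, 179361, 2137, 604, 1454, 1]))
 (.leaf [26014, 460061, 1602, 1505, 597, 0]))
 (.node (.leaf [8150, 1000069, 901, 902, 286, 0])
 (.leaf [6517, 1390606, 2133, 163, 969, 1])))
 (.node (.node (.node (.leaf [52033, 387093, 481, 482, 138, 0])
 (.leaf [58796, 1653260, 2463, 2242, 1803, 0]))
 (.leaf [16774, 1114974, 1769, 1787, 774, 0]))
 (.node (.leaf [48148, 844053, 1286, 1287, 437, 0])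
 (.leaf [41349, 1754200, 2305, 533, 1189, 1]))))
 (.node (.node (.node (.node (.leaf [23172, 1390977, 254, 255, 70, 0])
 (.leaf [55401, 211729, 1897, 1893, 1599, 0]))
 (.leaf [34489, 451780, 1166, 1762, 683, 1]))
 (.node (.leaf [65131, 983829, 1102, 1103, 363, 0])
 (.leaf [52554, 938896, 2227, 2228, 1087, 0])))
 (.node (.node (.node (.leaf [19436, 48482, 695, 696, 207, 1])
 (.leaf [21187, 1616608, 2299, 2134, 2068, 0]))
 (.leaf [63908, 805994, 2028, 2029, 868, 1]))
 (.node (.leaf [59389, 676739, 908, 1461, 518, 1])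
 (.leaf [63978, 329644, 2275, 1030, 1303, 0])))))
 (.node (.node (.node (.node (.node (.leaf [15781, 1091440, 134, 135, 36, 1])
 (.leaf [59035, 1743042, 1672, 2222, 1525, 0]))
 (.leaf [33759, 1451905, 1680, 1681, 640, 0]))
 (.node (.leaf [5054, 1102038, 1005, 1006, 323, 0])
 (.leaf [55023, 156877, 1347, 1350, 1032, 1])))
 (.node (.node (.node (.leaf [27468, 539049, 587, 588, 174, 0])
 (.leaf [24199, 1716778, 1750, 1718, 1918, 1]))
 (.leaf [45678, 183435, 1476, 1967, 817, 0]))
 (.node (.leaf [53682, 1579746, 1376, 181, 478, 1])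
 (.leaf [45921, 1583715, 753, 748, 1241, 1]))))
 (.node (.node (.node (.node (.leaf [56211, 675955, 372, 373, 104, 0])
 (.leaf [47207, 1592017, 2355, 1597, 1703, 1]))
 (.leaf [55196, 331051, 1832, 1833, 726, 0]))
 (.node (.leaf [43399, 1749664, 1194, 1195, 398, 0])
 (.leaf [19582, 1002120, 512, 2264, 1136, 0])))
 (.node (.node (.node (.leaf [23854, 1172101, 798, 799, 246, 1])
 (.leaf [29427, 1673826, 2302, 2301, 2316, 1]))
 (.leaf [18590, 821940, 1232, 1799, 914, 1]))
 (.node (.leaf [30267, 1251992, 1538, 1539, 556, 0])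
 (.leaf [4969, 103782, 2405, 2322, 1374, 0]))))))
 (.node (.node (.node (.node (.node (.node (.leaf [18040, 277669, 73, 74, 18, 1])
 (.leaf [45988, 920661, 1199, 2316, 1487, 1]))
 (.leaf [25761, 1467011, 1644, 1610, 616, 1]))
 (.node (.leaf [16055, 1214066, 955, 956, 303, 1])
 (.leaf [58235, 180978, 1860, 1532, 995, 1])))
 (.node (.node (.node (.leaf [56059, 870926, 533, 534, 156, 0])
 (.leaf [49528, 408898, 2004, 415, 1860, 1]))
 (.leaf [59268, 662214, 1941, 1942, 793, 0]))
 (.node (.leaf [64196, 1317267, 1336, 1337, 459, 1])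
 (.leaf [26618, 742168, 114, 1612, 1220, 1]))))
 (.node (.node (.node (.node (.leaf [18646, 363692, 311, 312, 86, 1])
 (.leaf [14258, 812140, 184, 668, 1652, 1]))
 (.leaf [48760, 343084, 1197, 383, 706, 1]))
 (.node (.leaf [38283, 733516, 1149, 1150, 380, 0])
 (.leaf [63717, 1148329, 452, 2245, 1109, 1])))
 (.node (.node (.node (.leaf [42477, 1651041, 750, 751, 227, 0])
 (.leaf [63794, 1591114, 880, 901, 2152, 0]))
 (.leaf [35740, 273763, 1732, 2047, 890, 1]))
 (.node (.leaf [23262, 1644867, 1010, 1500, 537, 1])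
 (.leaf [36302, 1107477, 131, 505, 1336, 1])))))
 (.node (.node (.node (.node (.node (.leaf [39709, 1255961, 195, 5, 53, 1])
 (.leaf [37581, 43806, 2107, 2324, 1564, 0]))
 (.leaf [47126, 854630, 1721, 103, 662, 1]))
 (.node (.leaf [9278, 1653505, 1058, 1059, 340, 0])
 (.leaf [13566, 1325450, 1715, 2202, 1059, 0])))
 (.node (.node (.node (.leaf [31321, 852782, 640, 641, 190, 1])
 (.leaf [54153, 42924, 716, 922, 1999, 1]))
 (.leaf [37292, 922677, 1351, 1346, 841, 1]))
 (.node (.leaf [37181, 406574, 1415, 1416, 498, 0])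
 (.leaf [10964, 1121624, 2148, 1901, 1267, 1]))))
 (.node (.node (.node (.node (.leaf [55532, 123669, 427, 428, 121, 1])
 (.leaf [35673, 1656641, 1967, 2024, 1757, 1]))
 (.leaf [43864, 966770, 1875, 1876, 749, 0]))
 (.node (.leaf [46444, 1579676, 1243, 1244, 417, 0])
 (.leaf [34324, 471394, 2280, 2281, 1163, 0])))
 (.node (.node (.leaf [29391, 830340, 852, 37, 265, 1])
 (.leaf [12158, 382256, 471, 2107, 943, 0]))
 (.node (.leaf [35607, 797601, 1576, 1577, 577, 0])
 (.leaf [55574, 967750, 851, 845, 1406, 0])))))))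
 (.node (.node (.node (.node (.node (.node (.node (.leaf [44655, 124201, 44, 45, 10, 1])
 (.leaf [54140, 1213338, 2439, 292, 1470, 1]))
 (.leaf [31176, 670593, 1620, 1621, 607, 0]))
 (.node (.leaf [30383, 742924, 543, 928, 294, 1])
 (.leaf [45902, 1655493, 1872, 1875, 979, 1])))
 (.node (.node (.node (.leaf [38757, 550501, 507, 508, 147, 0])
 (.leaf [17057, 1391649, 2334, 1266, 1829, 1]))
 (.leaf [63777, 404824, 1306, 1925, 784, 1]))
 (.node (.leaf [63681, 207193, 1312, 1313, 449, 0])
 (.leaf [55643, 1426817, 1107, 1080, 1202, 1]))))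
 (.node (.node (.node (.node (.leaf [64899, 1433740, 283, 284, 78, 1])
 (.leaf [11917, 1590477, 539, 2413, 1631, 0]))
 (.leaf [29067, 60060, 1779, 630, 696, 1]))
 (.node (.leaf [41314, 1411186, 1125, 1126, 371, 1])
 (.leaf [26424, 1108506, 1792, 1785, 1098, 0])))
 (.node (.node (.node (.leaf [57246, 839986, 724, 725, 217, 0])
 (.leaf [42312, 1380771, 1023, 2254, 2117, 1]))
 (.leaf [23402, 354844, 568, 2034, 880, 0]))
 (.node (.leaf [32283, 137046, 792, 1481, 529, 0])
 (.leaf [39544, 1742468, 930, 920, 1318, 1])))))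
 (.node (.node (.node (.node (.node (.leaf [40289, 427238, 165, 166, 44, 1])
 (.leaf [30252, 1107624, 1948, 1928, 1543, 0]))
 (.leaf [39533, 481040, 1703, 1704, 650, 1]))
 (.node (.leaf [31971, 1742083, 1032, 1033, 332, 0])
 (.leaf [39751, 625961, 686, 2057, 1047, 0])))
 (.node (.node (.node (.leaf [64940, 954548, 616, 617, 182, 0])
 (.leaf [60667, 330099, 1339, 1331, 1962, 0]))
 (.leaf [7836, 445459, 1984, 1985, 832, 0]))
 (.node (.leaf [26107, 951566, 1399, 1400, 487, 1])
 (.leaf [22639, 1174033, 1517, 226, 1255, 1]))))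
 (.node (.node (.node (.node (.leaf [17827, 84875, 401, 402, 113, 0])
 (.leaf [26061, 1410353, 2496, 2456, 1731, 0]))
 (.leaf [28435, 1713992, 1855, 1856, 739, 1]))
 (.node (.leaf [62589, 60130, 1222, 1223, 407, 0])
 (.leaf [30867, 181363, 1756, 1934, 1148, 1])))
 (.node (.node (.node (.leaf [35476, 1064266, 822, 823, 255, 0])
 (.leaf [23494, 1718920, 2368, 1056, 2440, 0]))
 (.leaf [42543, 181846, 1295, 2093, 928, 0]))
 (.node (.leaf [33437, 531804, 1563, 1564, 566, 0])
 (.leaf [52607, 859460, 2010, 2184, 1390, 1]))))))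
 (.node (.node (.node (.node (.node (.node (.leaf [31699, 451619, 103, 104, 27, 0])
 (.leaf [4758, 725347, 947, 712, 1503, 0]))
 (.leaf [41954, 1416226, 1661, 1662, 628, 0]))
 (.node (.leaf [57640, 461587, 982, 44, 312, 1])
 (.leaf [27181, 706433, 1547, 1842, 1013, 1])))
 (.node (.node (.node (.leaf [29548, 1709400, 10, 562, 165, 1])
 (.leaf [60021, 170163, 1922, 2435, 1891, 0]))
 (.leaf [46584, 1651496, 1954, 1955, 805, 0]))
 (.node (.leaf [18923, 1360275, 1355, 406, 470, 0])
 (.leaf [19031, 189707, 2292, 1058, 1231, 1]))))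
 (.node (.node (.node (.node (.leaf [17887, 658539, 342, 11, 95, 1])
 (.leaf [10909, 157514, 906, 691, 1672, 1]))
 (.leaf [63837, 281330, 1211, 1248, 717, 1]))
 (.node (.leaf [55759, 476357, 186, 193, 389, 1])
 (.leaf [45800, 1221150, 2160, 1697, 1124, 0])))
 (.node (.node (.node (.leaf [7658, 415618, 776, 777, 236, 1])
 (.leaf [19489, 959028, 1433, 2444, 2190, 0]))
 (.leaf [7128, 443632, 2061, 1581, 903, 0]))
 (.node (.leaf [15866, 213850, 1112, 1104, 547, 0])
 (.leaf [22754, 1258005, 1253, 1559, 1355, 1])))))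
 (.node (.node (.node (.node (.node (.leaf [18539, 999978, 224, 225, 61, 1])
 (.leaf [34519, 1357188, 2268, 1344, 1584, 1]))
 (.leaf [59565, 1356194, 1742, 1743, 673, 0]))
 (.node (.leaf [27672, 51093, 199, 207, 350, 0])
 (.leaf [22401, 1418116, 928, 2216, 1073, 0])))
 (.node (.node (.node (.leaf [46253, 649824, 666, 667, 199, 0])
 (.leaf [55720, 985425, 2266, 649, 2032, 0]))
 (.leaf [14029, 1517579, 2015, 2016, 852, 1]))
 (.node (.leaf [26533, 54964, 124, 1161, 508, 0])
 (.leaf [40739, 1704794, 416, 2003, 1285, 0]))))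
 (.node (.node (.node (.node (.leaf [29418, 1745604, 263, 454, 130, 0])
 (.leaf [62183, 840756, 1213, 1067, 1785, 1]))
 (.leaf [64919, 1004808, 1017, 1025, 763, 0]))
 (.node (.leaf [53932, 452634, 1264, 1265, 426, 1])
 (.leaf [6899, 820652, 2096, 2291, 1176, 0])))
 (.node (.node (.leaf [18940, 1616069, 876, 250, 275, 1])
 (.leaf [25180, 941073, 2120, 2121, 958, 0]))
 (.node (.leaf [49554, 1653344, 1591, 1322, 586, 1])
 (.leaf [19055, 727083, 2041, 872, 1437, 1]))))))))
 (.node (.node (.node (.node (.node (.node (.node (.node (.leaf [45545, 993608, 29, 30, 6, 1])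
 (.leaf [64178, 1709253, 1367, 1245, 1463, 0]))
 (.leaf [46706, 668017, 1610, 92, 601, 1]))
 (.node (.leaf [24002, 48405, 912, 913, 290, 0])
 (.leaf [51556, 55538, 2141, 1999, 975, 0])))
 (.node (.node (.node (.leaf [8043, 1615397, 494, 495, 142, 1])
 (.leaf [40255, 371077, 2138, 2141, 1820, 0]))
 (.leaf [20177, 643377, 429, 422, 780, 0]))
 (.node (.leaf [39123, 417963, 1297, 1298, 441, 1])
 (.leaf [44932, 1316070, 1887, 1890, 1196, 0]))))
 (.node (.node (.node (.node (.leaf [30392, 571956, 269, 270, 74, 0])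
 (.leaf [46788, 659883, 2486, 1361, 1617, 0]))
 (.leaf [39925, 722701, 1770, 107, 688, 1]))
 (.node (.leaf [22882, 1102234, 61, 1082, 367, 1])
 (.leaf [38493, 1714776, 2054, 1724, 1093, 0])))
 (.node (.node (.node (.leaf [49818, 1450078, 710, 711, 212, 1])
 (.leaf [49551, 877408, 1702, 1706, 2097, 1]))
 (.leaf [27941, 1062257, 462, 1538, 874, 1]))
 (.node (.leaf [52214, 1521681, 1472, 1473, 524, 1])
 (.leaf [62601, 121954, 782, 494, 1311, 0])))))
 (.node (.node (.node (.node (.node (.leaf [30778, 1220814, 149, 150, 40, 1])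
 (.leaf [24141, 1335964, 2361, 1149, 1533, 0]))
 (.leaf [46679, 1054046, 1117, 1693, 646, 0]))
 (.node (.leaf [19506, 445592, 1020, 1021, 327, 1])
 (.leaf [17806, 657230, 93, 1644, 1041, 1])))
 (.node (.node (.node (.leaf [47305, 929089, 602, 603, 178, 0])
 (.leaf [14004, 427315, 2321, 1617, 1938, 0]))
 (.leaf [14983, 452354, 1976, 1977, 826, 1]))
 (.node (.leaf [41947, 480802, 1387, 870, 482, 1])
 (.leaf [17193, 275884, 1586, 1851, 1248, 1]))))
 (.node (.node (.node (.node (.leaf [49033, 742084, 387, 388, 108, 1])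
 (.leaf [62036, 987434, 2494, 2474, 1716, 0]))
 (.leaf [60557, 925813, 1843, 1844, 732, 1]))
 (.node (.leaf [27509, 144718, 1207, 1208, 402, 1])
 (.leaf [55900, 1655339, 2093, 2091, 1142, 0])))
 (.node (.node (.node (.leaf [21129, 1361794, 152, 145, 250, 1])
 (.leaf [62394, 71470, 607, 2515, 2361, 0]))
 (.leaf [42563, 52563, 2085, 1550, 922, 1]))
 (.node (.leaf [61767, 1353478, 1548, 1549, 560, 1])
 (.leaf [58518, 202027, 2095, 2261, 1380, 1]))))))
 (.node (.node (.node (.node (.node (.node (.leaf [63150, 273644, 88, 89, 23, 0])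
 (.leaf [54261, 576856, 2219, 2200, 1496, 0]))
 (.leaf [40501, 661381, 1649, 598, 622, 1]))
 (.node (.leaf [36507, 438676, 970, 971, 308, 0])
 (.leaf [7221, 1391684, 647, 2100, 1002, 0])))
 (.node (.node (.node (.leaf [17982, 793254, 548, 549, 161, 0])
 (.leaf [44377, 281771, 2052, 2191, 1877, 0]))
 (.leaf [27188, 1150289, 1947, 1948, 797, 0]))
 (.node (.leaf [26968, 396186, 1346, 1347, 464, 1])
 (.leaf [25977, 1681421, 2329, 2330, 1226, 0]))))
 (.node (.node (.node (.node (.leaf [21174, 468832, 326, 327, 91, 0])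
 (.leaf [34153, 1153670, 1556, 1226, 1660, 0]))
 (.leaf [37606, 172851, 1808, 1809, 712, 0]))
 (.node (.leaf [29894, 921970, 692, 905, 385, 1])
 (.leaf [21714, 140203, 1627, 1619, 1116, 1])))
 (.node (.node (.node (.leaf [63822, 1712872, 764, 285, 232, 0])
 (.leaf [41595, 1070986, 1225, 1061, 2172, 1]))
 (.leaf [27555, 152817, 1358, 2054, 898, 0]))
 (.node (.leaf [26604, 572712, 1508, 1509, 541, 1])
 (.leaf [5434, 141939, 2183, 252, 1349, 1])))))
 (.node (.node (.node (.node (.node (.leaf [49782, 926121, 209, 210, 57, 1])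
 (.leaf [9417, 810145, 318, 326, 1570, 1]))
 (.leaf [47010, 839846, 1731, 1732, 668, 0]))
 (.node (.leaf [41812, 989828, 631, 1070, 345, 1])
 (.leaf [30425, 713244, 95, 1408, 1063, 1])))
 (.node (.node (.node (.leaf [40061, 210028, 651, 652, 194, 1])
 (.leaf [5868, 1172010, 2069, 490, 2023, 1]))
 (.leaf [47094, 1414406, 1238, 2006, 848, 0]))
 (.node (.leaf [54434, 460131, 549, 1427, 503, 1])
 (.leaf [23608, 581980, 2063, 2058, 1278, 0]))))
 (.node (.node (.node (.node (.leaf [26580, 171164, 441, 442, 125, 1])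
 (.leaf [60855, 705432, 421, 1282, 1777, 0]))
 (.leaf [64471, 572320, 1886, 1887, 756, 1]))
 (.node (.leaf [56961, 115626, 1256, 1257, 422, 0])
 (.leaf [34294, 60179, 681, 672, 1169, 0])))
 (.node (.node (.leaf [46664, 79982, 866, 867, 270, 0])
 (.leaf [21211, 1688386, 1528, 1991, 951, 0]))
 (.node (.leaf [12091, 1355956, 1558, 1563, 582, 1])
 (.leaf [12669, 733285, 2420, 1661, 1416, 0])))))))
 (.node (.node (.node (.node (.node (.node (.node (.leaf [41502, 682696, 60, 0, 14, 1])
 (.leaf [43836, 829864, 2442, 2122, 1479, 1]))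
 (.leaf [20397, 48020, 1632, 1633, 612, 0]))
 (.node (.leaf [52052, 1618085, 943, 944, 299, 0])
 (.leaf [57031, 1221360, 2152, 2153, 984, 0])))
 (.node (.node (.node (.leaf [23793, 700532, 518, 519, 151, 1])
 (.leaf [6716, 1687658, 2409, 1885, 1844, 1]))
 (.leaf [19418, 584388, 1827, 1328, 788, 1]))
 (.node (.leaf [57914, 1443022, 449, 1327, 454, 0])
 (.leaf [63545, 174475, 375, 939, 1212, 1]))))
 (.node (.node (.node (.node (.leaf [56260, 1061998, 298, 299, 82, 1])
 (.leaf [23590, 1103088, 2488, 1479, 1642, 1]))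
 (.leaf [32548, 1148021, 1791, 1792, 702, 0]))
 (.node (.leaf [16787, 1116787, 1137, 1138, 376, 0])
 (.leaf [28203, 955780, 2242, 537, 1103, 0])))
 (.node (.node (.node (.leaf [47415, 1246889, 737, 738, 221, 1])
 (.leaf [40034, 743624, 2411, 2518, 2132, 0]))
 (.leaf [57814, 1607445, 736, 728, 885, 1]))
 (.node (.leaf [33141, 1466521, 1491, 1492, 533, 0])
 (.leaf [29912, 808332, 1958, 2375, 1330, 0])))))
 (.node (.node (.node (.node (.node (.leaf [48197, 1677445, 179, 180, 49, 0])
 (.leaf [5343, 1057518, 2466, 2126, 1552, 1]))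
 (.leaf [7862, 822437, 1712, 1713, 656, 0]))
 (.node (.leaf [34589, 737625, 709, 1045, 336, 0])
 (.leaf [26867, 480480, 1577, 450, 1052, 0])))
 (.node (.node (.node (.leaf [14278, 1586508, 630, 631, 186, 1])
 (.leaf [7570, 793492, 727, 2366, 1976, 0]))
 (.leaf [55089, 1639197, 1990, 1086, 837, 0]))
 (.node (.leaf [28241, 844130, 1075, 73, 491, 1])
 (.leaf [32201, 871465, 1815, 1818, 1262, 0]))))
 (.node (.node (.node (.node (.leaf [64589, 136885, 415, 416, 117, 0])
 (.leaf [60063, 211113, 1206, 2490, 1748, 0]))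
 (.leaf [27901, 689766, 127, 117, 743, 1]))
 (.node (.leaf [34385, 1676612, 1231, 1232, 412, 1])
 (.leaf [37492, 206633, 1903, 1908, 1154, 0])))
 (.node (.node (.leaf [27431, 530803, 486, 838, 260, 1])
 (.leaf [24909, 693812, 2100, 2101, 936, 0]))
 (.node (.leaf [6094, 1258152, 1570, 1571, 571, 1])
 (.leaf [18389, 872564, 454, 2030, 1397, 1]))))))
 (.node (.node (.node (.node (.node (.node (.leaf [45913, 795494, 119, 120, 32, 0])
 (.leaf [57667, 1354787, 2349, 376, 1514, 1]))
 (.leaf [44147, 1246035, 341, 332, 634, 0]))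
 (.node (.leaf [11173, 205597, 581, 995, 317, 1])
 (.leaf [41660, 679000, 2181, 907, 1022, 1])))
 (.node (.node (.node (.leaf [40154, 1106154, 575, 554, 169, 1])
 (.leaf [50137, 530229, 788, 2217, 1904, 0]))
 (.leaf [44267, 43939, 1190, 1962, 811, 1]))
 (.node (.leaf [60710, 1247834, 1363, 1364, 474, 0])
 (.leaf [48441, 547057, 2311, 2220, 1237, 1]))))
 (.node (.node (.node (.node (.leaf [9624, 1409954, 357, 358, 99, 1])
 (.leaf [10716, 1157646, 765, 2387, 1680, 1]))
 (.leaf [20978, 1059947, 1006, 1823, 722, 0]))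
 (.node (.leaf [58871, 877100, 1182, 970, 393, 1])
 (.leaf [20268, 1258306, 915, 2260, 1130, 1])))
 (.node (.node (.node (.leaf [14894, 1359106, 787, 788, 241, 0])
 (.leaf [17768, 1057651, 2166, 2432, 2254, 0]))
 (.leaf [42953, 1704619, 1481, 2070, 909, 0]))
 (.node (.leaf [54054, 641928, 1526, 1498, 551, 1])
 (.leaf [51629, 125034, 1049, 1001, 1365, 0])))))
 (.node (.node (.node (.node (.node (.leaf [13608, 1679657, 239, 240, 66, 0])
 (.leaf [37585, 1149617, 2367, 2479, 1593, 0]))
 (.leaf [49752, 1712333, 55, 1179, 678, 1]))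
 (.node (.leaf [60796, 173684, 1091, 1092, 357, 0])
 (.leaf [38974, 858158, 1468, 1465, 1078, 1])))
 (.node (.node (.node (.leaf [39795, 213675, 18, 27, 203, 1])
 (.leaf [56040, 1442462, 1154, 1920, 2051, 1]))
 (.leaf [15517, 668213, 2022, 2023, 860, 1]))
 (.node (.leaf [37234, 1325233, 1003, 998, 512, 1])
 (.leaf [55411, 741923, 2214, 2374, 1298, 0]))))
 (.node (.node (.node (.node (.leaf [18663, 1690122, 468, 469, 134, 0])
 (.leaf [16154, 138411, 2287, 2314, 1795, 1]))
 (.leaf [9925, 285971, 1902, 1903, 768, 1]))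
 (.node (.leaf [24361, 943173, 1276, 1277, 432, 0])
 (.leaf [8638, 120225, 1817, 2299, 1180, 1])))
 (.node (.node (.leaf [60817, 205548, 890, 361, 280, 1])
 (.leaf [49997, 1139229, 956, 1039, 963, 0]))
 (.node (.leaf [7107, 1000552, 1597, 1598, 591, 0])
 (.leaf [28549, 404208, 989, 2415, 1444, 1])))))))))))
 (.node (.node (.node (.node (.node (.node (.node (.node (.node (.node (.node (.leaf [4702, 219345, 3, 4, 0, 0])
 (.leaf [5093, 645505, 2016, 614, 1448, 0]))
 (.leaf [10457, 671048, 1492, 1599, 593, 0]))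
 (.node (.leaf [9036, 1226113, 895, 896, 282, 0])
 (.leaf [37443, 1084587, 2129, 1594, 965, 0])))
 (.node (.node (.node (.leaf [33901, 838824, 28, 17, 135, 1])
 (.leaf [22595, 218785, 2047, 2468, 1798, 0]))
 (.leaf [33842, 951090, 1906, 1907, 770, 1]))
 (.node (.leaf [16828, 140021, 777, 1279, 433, 1])
 (.leaf [51013, 844837, 2301, 1936, 1183, 1]))))
 (.node (.node (.node (.node (.leaf [21369, 820533, 245, 7, 67, 1])
 (.leaf [8098, 822038, 1894, 1896, 1594, 1]))
 (.leaf [18785, 960897, 288, 1757, 680, 0]))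
 (.node (.leaf [56997, 721756, 1095, 283, 358, 1])
 (.leaf [28100, 92393, 1466, 1467, 1081, 0])))
 (.node (.node (.node (.leaf [48239, 1511699, 685, 686, 205, 0])
 (.leaf [44876, 1454481, 314, 1370, 2055, 1]))
 (.leaf [13694, 991501, 1304, 1299, 864, 1]))
 (.node (.leaf [13954, 984361, 1452, 1453, 514, 0])
 (.leaf [45525, 1753290, 707, 492, 1299, 1])))))
 (.node (.node (.node (.node (.node (.leaf [62658, 202594, 74, 125, 33, 1])
 (.leaf [36054, 1623594, 2451, 1751, 1520, 1]))
 (.leaf [15910, 43764, 1268, 1263, 636, 1]))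
 (.node (.leaf [22968, 727384, 998, 687, 319, 1])
 (.leaf [44009, 1622362, 1604, 582, 1027, 1])))
 (.node (.node (.node (.leaf [24922, 580636, 578, 579, 171, 0])
 (.leaf [37930, 1608019, 2353, 2461, 1912, 0]))
 (.leaf [9359, 1578661, 696, 703, 813, 1]))
 (.node (.leaf [38728, 1141441, 842, 1368, 475, 1])
 (.leaf [31550, 954646, 1955, 1832, 1239, 0]))))
 (.node (.node (.node (.node (.leaf [17052, 416899, 363, 364, 101, 0])
 (.leaf [22167, 1614109, 280, 1746, 1693, 0]))
 (.leaf [30758, 559349, 1824, 1825, 723, 1]))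
 (.node (.leaf [61381, 429219, 1187, 1188, 395, 1])
 (.leaf [56466, 420546, 2145, 2132, 1133, 0])))
 (.node (.node (.node (.leaf [41871, 1742608, 790, 640, 242, 1])
 (.leaf [40903, 1395800, 1315, 676, 2271, 1]))
 (.leaf [31423, 928305, 2074, 2075, 910, 1]))
 (.node (.leaf [32033, 918197, 1530, 1531, 553, 0])
 (.leaf [65001, 383026, 2401, 1883, 1366, 1]))))))
 (.node (.node (.node (.node (.node (.node (.leaf [15399, 72499, 64, 65, 16, 0])
 (.leaf [22734, 105637, 2281, 2402, 1481, 1]))
 (.leaf [62547, 695492, 1409, 94, 613, 1]))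
 (.node (.leaf [9387, 1323686, 946, 947, 300, 1])
 (.leaf [25373, 1426446, 2155, 2156, 988, 1])))
 (.node (.node (.node (.leaf [9715, 838544, 524, 525, 153, 0])
 (.leaf [33534, 158298, 705, 1494, 1852, 1]))
 (.leaf [32396, 158417, 1503, 1180, 790, 1]))
 (.node (.leaf [46484, 1466906, 808, 233, 455, 1])
 (.leaf [61826, 1608355, 2322, 216, 1217, 1]))))
 (.node (.node (.node (.node (.leaf [63332, 723037, 302, 303, 84, 0])
 (.leaf [47525, 1150093, 219, 931, 1644, 1]))
 (.leaf [53958, 955696, 1059, 1794, 704, 0]))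
 (.node (.leaf [5262, 1060185, 1142, 1143, 377, 1])
 (.leaf [37678, 1434132, 197, 2243, 1105, 0])))
 (.node (.node (.node (.leaf [19803, 1509459, 742, 743, 223, 1])
 (.leaf [51112, 1628291, 2371, 560, 2140, 1]))
 (.leaf [36530, 976962, 1210, 1204, 888, 0]))
 (.node (.leaf [54524, 377237, 225, 1495, 535, 0])
 (.leaf [23767, 47530, 482, 2150, 1333, 0])))))
 (.node (.node (.node (.node (.node (.leaf [38533, 805770, 185, 186, 50, 1])
 (.leaf [10728, 691467, 2147, 2467, 1557, 1]))
 (.leaf [64599, 539441, 945, 1333, 659, 0]))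
 (.node (.leaf [30820, 116109, 1050, 1051, 337, 1])
 (.leaf [47610, 42805, 1300, 1303, 1054, 1])))
 (.node (.node (.node (.leaf [42932, 920206, 562, 291, 188, 0])
 (.leaf [40524, 682563, 1327, 2312, 1985, 0]))
 (.leaf [38683, 540001, 1994, 1995, 839, 0]))
 (.node (.leaf [60362, 813708, 1410, 1411, 493, 0])
 (.leaf [36702, 50603, 1892, 2355, 1263, 1]))))
 (.node (.node (.node (.node (.leaf [53126, 676382, 418, 419, 118, 1])
 (.leaf [21055, 363412, 497, 503, 1749, 1]))
 (.leaf [15815, 182154, 1871, 1872, 746, 1]))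
 (.node (.leaf [29665, 1317106, 295, 302, 414, 0])
 (.leaf [7810, 1002001, 887, 888, 1157, 0])))
 (.node (.node (.leaf [5283, 658014, 843, 844, 262, 0])
 (.leaf [14425, 396627, 1567, 2020, 939, 0]))
 (.node (.leaf [39790, 688926, 476, 483, 573, 0])
 (.leaf [52794, 1321369, 2332, 2411, 1399, 0])))))))
 (.node (.node (.node (.node (.node (.node (.node (.leaf [50502, 579992, 35, 36, 8, 0])
 (.leaf [38701, 153489, 758, 764, 1467, 1]))
 (.leaf [51433, 985866, 1522, 1614, 603, 0]))
 (.node (.leaf [14055, 1672461, 918, 919, 291, 1])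
 (.leaf [23101, 942417, 2070, 791, 976, 1])))
 (.node (.node (.node (.leaf [7143, 821618, 180, 170, 144, 1])
 (.leaf [19246, 726852, 2059, 2062, 1824, 1]))
 (.leaf [15804, 688884, 1839, 625, 782, 0]))
 (.node (.leaf [23314, 1594138, 1303, 1304, 445, 0])
 (.leaf [48942, 123746, 936, 943, 1198, 1]))))
 (.node (.node (.node (.node (.leaf [31784, 840966, 274, 275, 76, 0])
 (.leaf [18317, 415128, 2075, 336, 1623, 1]))
 (.leaf [18264, 1595594, 1774, 1775, 690, 1]))
 (.node (.leaf [51382, 830508, 362, 1120, 369, 0])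
 (.leaf [46909, 976129, 1776, 1778, 1094, 1])))
 (.node (.node (.node (.leaf [14955, 384020, 715, 716, 214, 0])
 (.leaf [18097, 1389318, 2423, 2257, 2105, 1]))
 (.leaf [63960, 928648, 253, 2032, 877, 0]))
 (.node (.leaf [34780, 43379, 41, 726, 526, 1])
 (.leaf [56009, 272174, 2381, 1191, 1312, 1])))))
 (.node (.node (.node (.node (.node (.leaf [39643, 842884, 155, 156, 42, 0])
 (.leaf [13343, 1380596, 1848, 1759, 1537, 0]))
 (.leaf [27449, 1134987, 1697, 1698, 647, 1]))
 (.node (.leaf [61314, 371462, 1025, 389, 329, 0])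
 (.leaf [22379, 363874, 2190, 1888, 1044, 0])))
 (.node (.node (.node (.leaf [5705, 190092, 608, 609, 179, 1])
 (.leaf [57319, 1693832, 1313, 1309, 1944, 0]))
 (.leaf [57196, 1741082, 1979, 1980, 829, 0]))
 (.node (.leaf [46761, 676046, 1392, 1393, 484, 1])
 (.leaf [17285, 874888, 1878, 739, 1250, 1]))))
 (.node (.node (.node (.node (.leaf [26441, 1225266, 392, 393, 110, 0])
 (.leaf [9579, 992068, 1178, 2492, 1719, 0]))
 (.leaf [19301, 701316, 1847, 1848, 735, 0]))
 (.node (.leaf [9532, 1681988, 1212, 1213, 404, 0])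
 (.leaf [44532, 805553, 139, 200, 1143, 1])))
 (.node (.node (.node (.leaf [63413, 115822, 815, 816, 252, 1])
 (.leaf [57153, 385322, 1103, 912, 2388, 0]))
 (.leaf [22461, 1000272, 1551, 2089, 925, 0]))
 (.node (.leaf [62131, 1415344, 778, 1554, 562, 1])
 (.leaf [14454, 273126, 942, 986, 1384, 0]))))))
 (.node (.node (.node (.node (.node (.node (.leaf [28619, 1377908, 94, 95, 24, 1])
 (.leaf [18677, 1418032, 2437, 2446, 1499, 1]))
 (.leaf [48501, 1118579, 1654, 1655, 624, 0]))
 (.node (.leaf [59844, 551649, 624, 975, 309, 1])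
 (.leaf [6644, 874545, 1321, 1316, 1004, 0])))
 (.node (.node (.node (.leaf [25689, 351267, 553, 21, 162, 1])
 (.leaf [41711, 72604, 2196, 2208, 1884, 1]))
 (.leaf [14414, 797797, 1685, 1387, 800, 1]))
 (.node (.leaf [7467, 1718850, 1350, 1351, 467, 0])
 (.leaf [39156, 283934, 2099, 2229, 1228, 1]))))
 (.node (.node (.node (.node (.leaf [19094, 1171625, 332, 333, 92, 1])
 (.leaf [28180, 1677648, 2490, 884, 1668, 0]))
 (.leaf [10689, 723737, 1812, 1813, 713, 1]))
 (.node (.leaf [50759, 1083222, 1167, 1168, 387, 0])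
 (.leaf [63467, 559531, 1679, 1744, 1118, 1])))
 (.node (.node (.node (.leaf [64462, 209748, 768, 769, 234, 0])
 (.leaf [44793, 1249451, 1929, 1947, 2178, 0]))
 (.leaf [19955, 1688645, 2056, 1015, 900, 0]))
 (.node (.leaf [30134, 838978, 1105, 1111, 544, 1])
 (.leaf [28333, 1434692, 261, 269, 1351, 1])))))
 (.node (.node (.node (.node (.node (.leaf [36436, 1620290, 214, 215, 59, 0])
 (.leaf [24044, 726565, 368, 357, 1573, 0]))
 (.leaf [14636, 1416324, 1150, 1735, 670, 0]))
 (.node (.leaf [61403, 1671845, 125, 1075, 347, 0])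
 (.leaf [21428, 960526, 1868, 1740, 1070, 0])))
 (.node (.node (.node (.leaf [38796, 531363, 657, 658, 196, 1])
 (.leaf [56930, 215754, 1278, 2056, 2027, 0]))
 (.leaf [53866, 1749132, 2009, 2010, 849, 1]))
 (.node (.leaf [52654, 1660484, 1432, 1433, 505, 0])
 (.leaf [44161, 206437, 1028, 1035, 1280, 0]))))
 (.node (.node (.node (.node (.leaf [20899, 1059569, 446, 447, 127, 0])
 (.leaf [37318, 1650957, 2192, 1701, 1781, 0]))
 (.leaf [61738, 379414, 1598, 1892, 758, 1]))
 (.node (.leaf [5678, 48300, 1258, 1259, 423, 1])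
 (.leaf [62942, 405846, 2286, 2287, 1172, 1])))
 (.node (.node (.leaf [62420, 662557, 869, 853, 271, 1])
 (.leaf [27251, 42854, 2114, 276, 954, 0]))
 (.node (.leaf [29244, 477904, 858, 815, 584, 0])
 (.leaf [37471, 109837, 1777, 2424, 1426, 0]))))))))
 (.node (.node (.node (.node (.node (.node (.node (.node (.leaf [21166, 445634, 19, 20, 4, 0])
 (.leaf [11956, 1640793, 2435, 957, 1459, 0]))
 (.leaf [46286, 1154370, 352, 345, 598, 1]))
 (.node (.leaf [17847, 83573, 20, 569, 287, 1])
 (.leaf [40619, 668486, 2136, 246, 971, 0])))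
 (.node (.node (.node (.leaf [48377, 1357958, 485, 486, 139, 1])
 (.leaf [23416, 942760, 2315, 2286, 1810, 1]))
 (.leaf [5274, 1059723, 1911, 1912, 775, 1]))
 (.node (.leaf [52190, 439558, 1290, 64, 438, 1])
 (.leaf [19842, 362838, 242, 296, 1192, 0]))))
 (.node (.node (.node (.node (.leaf [58148, 723660, 260, 261, 71, 1])
 (.leaf [18883, 361893, 1215, 1222, 1607, 1]))
 (.leaf [4986, 46501, 325, 1376, 685, 0]))
 (.node (.leaf [17818, 658161, 1108, 1109, 365, 0])
 (.leaf [31618, 1626387, 2231, 2232, 1090, 0])))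
 (.node (.node (.node (.leaf [8052, 1417766, 701, 702, 209, 1])
 (.leaf [37910, 434595, 2445, 2513, 2077, 1]))
 (.leaf [6889, 361844, 1070, 1779, 871, 0]))
 (.node (.leaf [12620, 692454, 1373, 1464, 520, 0])
 (.leaf [40827, 1319668, 1026, 2378, 1304, 1])))))
 (.node (.node (.node (.node (.node (.leaf [34789, 573678, 140, 141, 38, 0])
 (.leaf [18981, 702513, 2019, 1771, 1526, 1]))
 (.leaf [34556, 1626338, 871, 1685, 643, 0]))
 (.node (.leaf [12676, 1238083, 1011, 1012, 324, 1])
 (.leaf [51450, 1516060, 2186, 2187, 1036, 1])))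
 (.node (.node (.node (.leaf [46846, 71925, 593, 23, 175, 1])
 (.leaf [36207, 572166, 2201, 2344, 1923, 1]))
 (.leaf [27021, 871024, 1356, 1972, 820, 1]))
 (.node (.leaf [15042, 1512980, 1381, 1382, 480, 0])
 (.leaf [47714, 1515724, 2345, 1385, 1245, 0]))))
 (.node (.node (.node (.node (.leaf [7342, 416976, 210, 378, 105, 1])
 (.leaf [32310, 531685, 1743, 1736, 1707, 0]))
 (.leaf [47007, 1370131, 1837, 587, 727, 1]))
 (.node (.leaf [60439, 854441, 1200, 1201, 399, 1])
 (.leaf [11377, 918638, 1164, 1155, 1138, 1])))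
 (.node (.node (.node (.leaf [5423, 142569, 802, 803, 248, 0])
 (.leaf [25384, 476203, 2503, 1952, 2328, 1]))
 (.leaf [40161, 169204, 80, 2081, 918, 1]))
 (.node (.leaf [26463, 1170442, 1541, 1542, 557, 1])
 (.leaf [29642, 340340, 664, 441, 1376, 0]))))))
 (.node (.node (.node (.node (.node (.node (.leaf [52658, 342916, 79, 80, 20, 1])
 (.leaf [10363, 676592, 1681, 710, 1489, 1]))
 (.leaf [10586, 623413, 613, 1450, 618, 0]))
 (.node (.leaf [38359, 647276, 961, 962, 305, 0])
 (.leaf [16305, 550697, 273, 281, 998, 1])))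
 (.node (.node (.node (.leaf [58182, 52122, 305, 539, 157, 1])
 (.leaf [9863, 1585941, 2391, 2494, 1865, 0]))
 (.leaf [20439, 1174082, 1128, 1944, 794, 1]))
 (.node (.leaf [51025, 1675541, 331, 1073, 461, 0])
 (.leaf [41337, 461146, 369, 2035, 1222, 1]))))
 (.node (.node (.node (.node (.leaf [19880, 1614179, 317, 318, 88, 1])
 (.leaf [62781, 1578339, 2406, 2469, 1657, 0]))
 (.leaf [34284, 1096837, 771, 1803, 708, 1]))
 (.node (.leaf [28466, 331100, 617, 608, 381, 1])
 (.leaf [23543, 277802, 1287, 2248, 1112, 1])))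
 (.node (.node (.node (.leaf [5586, 542318, 756, 757, 229, 0])
 (.leaf [45942, 871297, 969, 2061, 2159, 1]))
 (.leaf [60847, 44380, 2050, 1177, 892, 1]))
 (.node (.leaf [17350, 354648, 1504, 1009, 539, 0])
 (.leaf [52952, 272629, 2377, 2389, 1340, 0])))))
 (.node (.node (.node (.node (.node (.leaf [47847, 476504, 200, 201, 55, 0])
 (.leaf [15084, 1434272, 2031, 1220, 1566, 1]))
 (.leaf [35151, 939022, 1724, 1357, 664, 0]))
 (.node (.leaf [9178, 627109, 1063, 1064, 342, 1])
 (.leaf [22045, 1509529, 838, 2205, 1060, 1])))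
 (.node (.node (.node (.leaf [16345, 156317, 86, 77, 192, 0])
 (.leaf [50024, 152243, 1158, 2516, 2009, 1]))
 (.leaf [6566, 942221, 2003, 2004, 845, 0]))
 (.node (.leaf [55115, 854833, 1033, 1420, 500, 1])
 (.leaf [38419, 281946, 1992, 1527, 1269, 1]))))
 (.node (.node (.node (.node (.leaf [61273, 967190, 431, 432, 123, 0])
 (.leaf [60513, 401646, 2228, 818, 1766, 1]))
 (.leaf [15592, 86814, 440, 433, 750, 1]))
 (.node (.leaf [36646, 214109, 1248, 468, 419, 0])
 (.leaf [26749, 1414560, 1940, 319, 1164, 1])))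
 (.node (.node (.leaf [11873, 804265, 857, 858, 267, 0])
 (.leaf [6063, 1105048, 997, 2109, 946, 1]))
 (.node (.leaf [20890, 84574, 1581, 968, 579, 0])
 (.leaf [54841, 152670, 2415, 2416, 1408, 0])))))))
 (.node (.node (.node (.node (.node (.node (.node (.leaf [46209, 1267266, 50, 51, 12, 0])
 (.leaf [40701, 1070678, 952, 800, 1472, 1]))
 (.leaf [55887, 395955, 1057, 1626, 608, 1]))
 (.node (.leaf [36322, 630021, 933, 934, 296, 0])
 (.leaf [44631, 1224881, 1219, 2148, 981, 0])))
 (.node (.node (.node (.leaf [49915, 1590617, 511, 512, 149, 0])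
 (.leaf [38852, 146006, 590, 638, 1838, 0]))
 (.leaf [46133, 1237698, 1930, 644, 786, 0]))
 (.node (.leaf [22142, 362677, 1318, 1319, 451, 0])
 (.leaf [60408, 419370, 2316, 2317, 1205, 1]))))
 (.node (.node (.node (.node (.leaf [48466, 538958, 289, 290, 80, 0])
 (.leaf [63011, 871752, 1900, 2462, 1635, 1]))
 (.leaf [12762, 59605, 1783, 1784, 699, 0]))
 (.node (.leaf [36843, 1155182, 1131, 347, 373, 1])
 (.leaf [20099, 1172493, 1364, 973, 1100, 0])))
 (.node (.node (.node (.leaf [48783, 811818, 728, 729, 218, 1])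
 (.leaf [46058, 272293, 1434, 1269, 2123, 1]))
 (.leaf [4826, 1258565, 1634, 1811, 881, 1]))
 (.node (.leaf [27793, 721637, 1360, 1470, 530, 1])
 (.leaf [12779, 120918, 1122, 1978, 1324, 1])))))
 (.node (.node (.node (.node (.node (.leaf [37226, 288925, 170, 171, 46, 1])
 (.leaf [44019, 475370, 1752, 2464, 1546, 1]))
 (.leaf [31805, 438438, 1706, 1159, 652, 0]))
 (.node (.leaf [50986, 1003793, 1037, 1038, 333, 1])
 (.leaf [49655, 1578836, 1259, 2194, 1048, 1])))
 (.node (.node (.node (.leaf [62796, 1382598, 621, 622, 184, 0])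
 (.leaf [22178, 467243, 2514, 1394, 1970, 0]))
 (.leaf [6482, 1336601, 1986, 1237, 834, 1]))
 (.node (.leaf [5882, 1103410, 1402, 1403, 489, 0])
 (.leaf [22644, 643846, 2352, 861, 1258, 0]))))
 (.node (.node (.node (.node (.leaf [21757, 543977, 406, 407, 114, 1])
 (.leaf [22777, 727811, 1643, 2496, 1735, 1]))
 (.leaf [54814, 538741, 1861, 1862, 741, 0]))
 (.node (.leaf [21736, 541534, 541, 531, 409, 1])
 (.leaf [37767, 957460, 2274, 2275, 1151, 0])))
 (.node (.node (.leaf [32732, 1246553, 828, 829, 256, 1])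
 (.leaf [43333, 1677844, 652, 2096, 931, 0]))
 (.node (.leaf [49761, 1640555, 840, 830, 568, 1])
 (.leaf [42633, 213717, 1841, 2409, 1393, 0]))))))
 (.node (.node (.node (.node (.node (.node (.leaf [46953, 1519777, 109, 110, 28, 1])
 (.leaf [64281, 1168258, 2448, 2449, 1508, 0]))
 (.leaf [15062, 1627808, 1665, 119, 629, 1]))
 (.node (.leaf [4955, 218211, 986, 987, 314, 0])
 (.leaf [29737, 878696, 2174, 2175, 1016, 0])))
 (.node (.node (.node (.leaf [45453, 951412, 567, 568, 167, 0])
 (.leaf [54335, 1606885, 2510, 1537, 1896, 1]))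
 (.leaf [23468, 793394, 1600, 1602, 806, 1]))
 (.node (.leaf [38001, 1754305, 402, 1356, 471, 1])
 (.leaf [45620, 721707, 1722, 1910, 1234, 0]))))
 (.node (.node (.node (.node (.leaf [22583, 1104915, 347, 348, 97, 0])
 (.leaf [33311, 539532, 1261, 355, 1674, 1]))
 (.leaf [23967, 105238, 1302, 1820, 719, 0]))
 (.node (.leaf [25470, 1623069, 194, 185, 391, 0])
 (.leaf [25058, 1154216, 2259, 1167, 1126, 0])))
 (.node (.node (.node (.leaf [19772, 467173, 781, 782, 238, 0])
 (.leaf [42230, 733481, 2380, 2519, 2219, 1]))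
 (.leaf [6019, 727580, 1329, 1826, 906, 0]))
 (.node (.leaf [13982, 829493, 747, 1520, 549, 0])
 (.leaf [38056, 378182, 2264, 2293, 1358, 1])))))
 (.node (.node (.node (.node (.node (.leaf [16075, 172956, 229, 230, 63, 0])
 (.leaf [6072, 1174152, 829, 1780, 1589, 0]))
 (.leaf [25797, 1726081, 559, 513, 674, 1]))
 (.node (.leaf [46386, 807604, 1085, 572, 351, 1])
 (.leaf [19551, 1508122, 2217, 2218, 1075, 1])))
 (.node (.node (.node (.leaf [39149, 1586473, 672, 673, 200, 1])
 (.leaf [29001, 695576, 1519, 2225, 2035, 0]))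
 (.leaf [54823, 1126734, 517, 1865, 855, 1]))
 (.node (.leaf [46355, 351512, 1443, 1444, 509, 1])
 (.leaf [40330, 475475, 2370, 2170, 1291, 0]))))
 (.node (.node (.node (.node (.leaf [10179, 985684, 459, 460, 131, 1])
 (.leaf [6324, 872718, 731, 678, 1788, 1]))
 (.leaf [44103, 109921, 1899, 1665, 764, 1]))
 (.node (.leaf [59644, 382340, 307, 1268, 428, 0])
 (.leaf [7795, 1361430, 1247, 2294, 1178, 0])))
 (.node (.node (.leaf [22236, 1360947, 881, 882, 277, 0])
 (.leaf [38994, 1454222, 2124, 2125, 960, 0]))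
 (.node (.leaf [31147, 1075025, 1594, 1570, 588, 1])
 (.leaf [63064, 797300, 1193, 278, 1440, 1])))))))))
 (.node (.node (.node (.node (.node (.node (.node (.node (.node (.leaf [9393, 1467921, 11, 12, 2, 0])
 (.leaf [19734, 1738961, 2431, 2174, 1453, 1]))
 (.leaf [35947, 372008, 1038, 937, 596, 1]))
 (.node (.leaf [29209, 1426320, 133, 140, 285, 1])
 (.leaf [62852, 1466451, 1186, 1254, 969, 0])))
 (.node (.node (.node (.leaf [55858, 1705613, 479, 480, 137, 1])
 (.leaf [56484, 284564, 1120, 890, 1802, 0]))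
 (.leaf [31737, 1433873, 1910, 1508, 772, 1]))
 (.node (.leaf [50463, 694512, 255, 248, 435, 1])
 (.leaf [39114, 1708189, 444, 2304, 1187, 1]))))
 (.node (.node (.node (.node (.leaf [37300, 1725465, 252, 253, 69, 1])
 (.leaf [52195, 975009, 2051, 2450, 1598, 0]))
 (.leaf [23009, 702856, 1761, 621, 683, 0]))
 (.node (.leaf [55742, 1515619, 1101, 52, 362, 1])
 (.leaf [7991, 1363075, 1671, 1923, 1085, 1])))
 (.node (.node (.node (.leaf [7416, 354116, 693, 694, 207, 0])
 (.leaf [24531, 1717569, 1249, 2511, 2061, 1]))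
 (.leaf [49486, 350112, 789, 784, 866, 1]))
 (.node (.leaf [28051, 1070286, 1459, 1460, 518, 0])
 (.leaf [28306, 452816, 1201, 866, 1302, 1])))))
 (.node (.node (.node (.node (.node (.leaf [11075, 738857, 132, 133, 35, 1])
 (.leaf [58507, 1151157, 2260, 2454, 1524, 0]))
 (.leaf [31849, 1415190, 1678, 1679, 639, 1]))
 (.node (.leaf [23267, 275814, 1004, 46, 322, 1])
 (.leaf [24498, 276885, 671, 1764, 1032, 0])))
 (.node (.node (.node (.leaf [42901, 345646, 586, 147, 173, 1])
 (.leaf [37342, 876841, 2512, 606, 1917, 0]))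
 (.leaf [9127, 211029, 1965, 1966, 816, 1]))
 (.node (.leaf [36477, 1368276, 1374, 1375, 477, 1])
 (.leaf [57738, 838278, 2343, 594, 1241, 0]))))
 (.node (.node (.node (.node (.leaf [58072, 1705053, 370, 371, 103, 1])
 (.leaf [31374, 1379609, 2258, 2422, 1702, 1]))
 (.leaf [6975, 1614060, 1831, 1699, 725, 1]))
 (.node (.leaf [53678, 807842, 495, 781, 397, 1])
 (.leaf [41713, 1063538, 1669, 1652, 1135, 1])))
 (.node (.node (.node (.leaf [6756, 1419656, 796, 797, 245, 0])
 (.leaf [15962, 1084762, 2454, 914, 2306, 1]))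
 (.leaf [24266, 1645336, 1273, 1399, 914, 0]))
 (.node (.leaf [52521, 813666, 1537, 425, 555, 1])
 (.leaf [35405, 680792, 2119, 2124, 1373, 1]))))))
 (.node (.node (.node (.node (.node (.node (.leaf [22572, 583429, 71, 72, 18, 0])
 (.leaf [13400, 348572, 2444, 1819, 1486, 0]))
 (.leaf [33063, 1324302, 1642, 1643, 616, 0]))
 (.node (.leaf [10851, 530348, 953, 954, 302, 1])
 (.leaf [43989, 427420, 2161, 2162, 995, 0])))
 (.node (.node (.node (.leaf [26065, 1523851, 531, 532, 155, 1])
 (.leaf [43220, 550732, 2508, 2198, 1860, 0]))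
 (.leaf [41749, 387856, 1453, 1448, 792, 1]))
 (.node (.leaf [37979, 1351910, 1334, 1335, 459, 0])
 (.leaf [59932, 1168433, 2325, 2326, 1220, 0]))))
 (.node (.node (.node (.node (.leaf [5826, 726824, 309, 310, 86, 0])
 (.leaf [62017, 1620136, 2282, 2283, 1652, 0]))
 (.leaf [10323, 681576, 1362, 1798, 706, 0]))
 (.node (.leaf [11678, 1692684, 1148, 852, 379, 1])
 (.leaf [36636, 1253707, 391, 1975, 1108, 0])))
 (.node (.node (.node (.leaf [31656, 1004577, 748, 749, 226, 1])
 (.leaf [41555, 1055978, 491, 2068, 2149, 0]))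
 (.leaf [44084, 575302, 1873, 708, 890, 0]))
 (.node (.leaf [12027, 926030, 1499, 363, 537, 0])
 (.leaf [40534, 80997, 1850, 1852, 1336, 0])))))
 (.node (.node (.node (.node (.node (.leaf [15652, 117362, 193, 194, 53, 0])
 (.leaf [61226, 985761, 2469, 779, 1562, 0]))
 (.leaf [9789, 1710723, 1208, 1720, 662, 0]))
 (.node (.leaf [42302, 922950, 1056, 1057, 339, 1])
 (.leaf [56122, 88270, 1317, 1320, 1058, 1])))
 (.node (.node (.node (.leaf [35294, 1709099, 638, 639, 190, 0])
 (.leaf [38564, 403368, 2121, 1695, 1990, 0]))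
 (.leaf [11397, 1583197, 1999, 2000, 841, 0]))
 (.node (.leaf [19825, 958566, 990, 553, 497, 0])
 (.leaf [21638, 141169, 364, 2360, 1267, 0]))))
 (.node (.node (.node (.node (.leaf [48209, 472101, 425, 426, 121, 0])
 (.leaf [26929, 920906, 2304, 2498, 1757, 0]))
 (.leaf [11939, 1328222, 1081, 1106, 748, 1]))
 (.node (.leaf [19565, 468524, 1241, 1242, 416, 0])
 (.leaf [50007, 137886, 2247, 204, 1160, 1])))
 (.node (.node (.leaf [40792, 1657544, 850, 851, 265, 0])
 (.leaf [6782, 1616216, 1730, 2106, 942, 1]))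
 (.node (.leaf [64140, 1401057, 1575, 159, 576, 1])
 (.leaf [63290, 181657, 846, 850, 1405, 1])))))))
 (.node (.node (.node (.node (.node (.node (.node (.leaf [12101, 473130, 42, 43, 10, 0])
 (.leaf [52905, 1442931, 1942, 2178, 1469, 1]))
 (.leaf [62833, 1724625, 1619, 1561, 606, 1]))
 (.node (.leaf [48920, 1170512, 926, 927, 294, 0])
 (.leaf [52869, 918925, 1419, 2145, 979, 0])))
 (.node (.node (.node (.leaf [10341, 1061802, 505, 506, 146, 1])
 (.leaf [49509, 1467970, 1858, 2022, 1829, 0]))
 (.leaf [16750, 542577, 1923, 1924, 784, 0]))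
 (.node (.leaf [58617, 649257, 743, 1311, 448, 1])
 (.leaf [45980, 1705809, 2314, 2315, 1201, 1]))))
 (.node (.node (.node (.node (.leaf [41772, 1520400, 281, 282, 78, 0])
 (.leaf [17867, 656285, 795, 2396, 1628, 0]))
 (.leaf [60268, 342832, 1778, 174, 696, 0]))
 (.node (.leaf [53944, 1511580, 1123, 1124, 371, 0])
 (.leaf [58479, 1093806, 1229, 2115, 1097, 1])))
 (.node (.node (.node (.leaf [14033, 1344798, 335, 723, 216, 1])
 (.leaf [39630, 1416464, 2519, 2509, 2116, 1]))
 (.leaf [64849, 471212, 76, 328, 879, 1]))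
 (.node (.leaf [53109, 662067, 98, 1236, 528, 1])
 (.leaf [18481, 961800, 2383, 2384, 1318, 0])))))
 (.node (.node (.node (.node (.node (.leaf [8520, 694659, 163, 164, 44, 0])
 (.leaf [22479, 1690192, 1804, 1572, 1542, 0]))
 (.leaf [7769, 1738401, 1160, 1702, 649, 1]))
 (.node (.leaf [20310, 189140, 1030, 1031, 331, 1])
 (.leaf [61340, 1746689, 1629, 266, 1046, 1])))
 (.node (.node (.node (.leaf [14321, 1316252, 270, 260, 181, 1])
 (.leaf [9453, 289443, 1684, 1228, 1961, 1]))
 (.leaf [9884, 1660449, 1982, 1983, 831, 1]))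
 (.node (.leaf [52029, 1742867, 867, 1200, 487, 0])
 (.leaf [49114, 211554, 2350, 2351, 1255, 0]))))
 (.node (.node (.node (.node (.leaf [43039, 1141336, 399, 400, 112, 0])
 (.leaf [43081, 138586, 2441, 479, 1728, 0]))
 (.leaf [33685, 806225, 654, 1854, 739, 0]))
 (.node (.leaf [9209, 569702, 1220, 1221, 406, 1])
 (.leaf [25588, 428190, 2272, 2273, 1148, 0])))
 (.node (.node (.node (.leaf [50062, 1136142, 820, 821, 254, 1])
 (.leaf [36789, 723177, 1337, 1352, 2415, 0]))
 (.leaf [30015, 993888, 2092, 1189, 927, 1]))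
 (.node (.leaf [28650, 928872, 1561, 1562, 565, 0])
 (.leaf [61973, 386092, 460, 1632, 1388, 1]))))))
 (.node (.node (.node (.node (.node (.node (.leaf [33235, 1652777, 101, 102, 26, 1])
 (.leaf [31508, 1676325, 2351, 2347, 1502, 1]))
 (.leaf [6114, 583212, 1660, 697, 627, 1]))
 (.node (.leaf [55542, 629286, 981, 623, 312, 0])
 (.leaf [23153, 874566, 2169, 172, 1012, 1])))
 (.node (.node (.node (.leaf [11339, 797041, 560, 561, 165, 0])
 (.leaf [48623, 530845, 627, 2084, 1890, 1]))
 (.leaf [14533, 1582945, 1953, 359, 804, 0]))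
 (.node (.leaf [62008, 1520652, 1119, 1354, 469, 1])
 (.leaf [47075, 440342, 2175, 2335, 1231, 0]))))
 (.node (.node (.node (.node (.leaf [53019, 1054382, 340, 341, 95, 0])
 (.leaf [7567, 277844, 1956, 1961, 1672, 0]))
 (.leaf [8074, 469539, 1816, 1817, 716, 1]))
 (.node (.leaf [36674, 625037, 1170, 1171, 389, 0])
 (.leaf [15546, 1073835, 1168, 2256, 1123, 1])))
 (.node (.node (.node (.leaf [10955, 548044, 774, 775, 236, 0])
 (.leaf [25756, 807702, 2354, 2514, 2189, 0]))
 (.leaf [37759, 1749762, 1802, 2060, 902, 1]))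
 (.node (.leaf [37431, 639534, 714, 1355, 546, 1])
 (.leaf [12872, 1224790, 2263, 2395, 1354, 0])))))
 (.node (.node (.node (.node (.node (.leaf [43983, 1672300, 222, 223, 61, 0])
 (.leaf [14319, 1403080, 1728, 1734, 1584, 0]))
 (.leaf [62742, 350595, 1740, 1741, 672, 0]))
 (.node (.leaf [60772, 576240, 1080, 1081, 349, 1])
 (.leaf [18091, 1448979, 2215, 1292, 1072, 1])))
 (.node (.node (.node (.leaf [28345, 1749090, 382, 665, 198, 1])
 (.leaf [11238, 1215641, 1655, 500, 2031, 1]))
 (.leaf [40286, 1425494, 2013, 2014, 852, 0]))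
 (.node (.leaf [15714, 560028, 1437, 1438, 507, 1])
 (.leaf [43165, 1127280, 1814, 1810, 1282, 1]))))
 (.node (.node (.node (.node (.leaf [38817, 1120070, 453, 189, 129, 0])
 (.leaf [53578, 351428, 2458, 1091, 1784, 0]))
 (.leaf [33086, 288043, 1896, 1897, 762, 0]))
 (.node (.leaf [17245, 1594460, 1263, 306, 425, 1])
 (.leaf [9497, 1354948, 2289, 2290, 1175, 1])))
 (.node (.node (.leaf [41252, 1524936, 874, 875, 274, 1])
 (.leaf [42862, 1443505, 2118, 2119, 957, 1]))
 (.node (.leaf [17118, 944769, 205, 1590, 586, 0])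
 (.leaf [13458, 923048, 1325, 2425, 1436, 1]))))))))
 (.node (.node (.node (.node (.node (.node (.node (.node (.leaf [18850, 1687889, 27, 28, 6, 0])
 (.leaf [36151, 743169, 2296, 2437, 1462, 0]))
 (.leaf [41689, 1074010, 346, 351, 601, 0]))
 (.node (.leaf [29023, 579376, 911, 883, 289, 1])
 (.leaf [59412, 845124, 2139, 2140, 974, 1])))
 (.node (.node (.node (.leaf [35818, 871493, 492, 493, 142, 0])
 (.leaf [22207, 443422, 1972, 401, 1817, 1]))
 (.leaf [21327, 1738009, 65, 1326, 779, 1]))
 (.node (.leaf [49946, 537390, 1296, 685, 441, 0])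
 (.leaf [35159, 1455153, 2312, 448, 1195, 0]))))
 (.node (.node (.node (.node (.leaf [64894, 1626268, 203, 268, 73, 1])
 (.leaf [32582, 737485, 2485, 1588, 1613, 1]))
 (.leaf [54572, 1154069, 398, 404, 688, 0]))
 (.node (.leaf [41671, 86772, 1115, 1116, 367, 0])
 (.leaf [5165, 85099, 2235, 2236, 1092, 1])))
 (.node (.node (.node (.leaf [31462, 1327795, 708, 709, 212, 0])
 (.leaf [24876, 733740, 2080, 2082, 2088, 1]))
 (.leaf [38323, 59738, 1319, 1288, 874, 0]))
 (.node (.leaf [34426, 1433698, 1470, 1471, 524, 0])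
 (.leaf [36015, 1517320, 1404, 2352, 1309, 1])))))
 (.node (.node (.node (.node (.node (.leaf [51965, 181139, 147, 148, 40, 0])
 (.leaf [7045, 958860, 1974, 2458, 1529, 1]))
 (.leaf [60287, 1585836, 1691, 1692, 645, 0]))
 (.node (.leaf [45702, 689969, 1018, 1019, 327, 0])
 (.leaf [13420, 876876, 1796, 2189, 1040, 1])))
 (.node (.node (.node (.leaf [58025, 1393049, 600, 601, 177, 1])
 (.leaf [39995, 571760, 2473, 2438, 1937, 0]))
 (.leaf [6036, 703500, 626, 1838, 826, 0]))
 (.node (.leaf [19345, 646212, 1385, 1386, 482, 0])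
 (.leaf [22909, 583912, 873, 2040, 1248, 0]))))
 (.node (.node (.node (.node (.leaf [60875, 1215690, 385, 386, 107, 1])
 (.leaf [5608, 1116017, 1866, 516, 1711, 0]))
 (.leaf [63164, 1393392, 1842, 191, 731, 1]))
 (.node (.leaf [42451, 289107, 885, 1206, 402, 0])
 (.leaf [43345, 473858, 690, 683, 1141, 1])))
 (.node (.node (.node (.leaf [63868, 1379532, 809, 810, 250, 0])
 (.leaf [14252, 858480, 2418, 2272, 2348, 0]))
 (.leaf [33737, 329574, 1383, 1904, 922, 0]))
 (.node (.leaf [42984, 1395723, 192, 1547, 560, 0])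
 (.leaf [13992, 370734, 1147, 1430, 1380, 0]))))))
 (.node (.node (.node (.node (.node (.node (.leaf [17894, 85337, 87, 1, 22, 1])
 (.leaf [50530, 119924, 2376, 1957, 1494, 1]))
 (.leaf [59809, 146769, 1298, 1648, 621, 0]))
 (.node (.leaf [13812, 1754123, 968, 969, 307, 1])
 (.leaf [43453, 384160, 2112, 2114, 1001, 0])))
 (.node (.node (.node (.leaf [27962, 676249, 546, 547, 159, 1])
 (.leaf [13355, 1650796, 1031, 2274, 1876, 1]))
 (.leaf [10606, 1222193, 1592, 1946, 796, 1]))
 (.node (.leaf [43262, 531188, 1344, 1345, 464, 0])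
 (.leaf [63877, 1641052, 2081, 1469, 1225, 0]))))
 (.node (.node (.node (.node (.leaf [14676, 387618, 182, 325, 90, 1])
 (.leaf [7346, 944720, 2421, 1415, 1659, 1]))
 (.leaf [34658, 639093, 1807, 111, 711, 1]))
 (.node (.leaf [63025, 1581916, 1161, 1162, 385, 0])
 (.leaf [49687, 279790, 525, 2252, 1116, 0])))
 (.node (.node (.node (.leaf [7671, 942914, 480, 763, 231, 1])
 (.leaf [64385, 56532, 1763, 811, 2172, 0]))
 (.leaf [20840, 658777, 247, 2053, 897, 1]))
 (.node (.leaf [64538, 1140265, 662, 1507, 541, 0])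
 (.leaf [31307, 281246, 1917, 2309, 1349, 0])))))
 (.node (.node (.node (.node (.node (.leaf [38634, 1589994, 207, 208, 57, 0])
 (.leaf [43371, 1627906, 2424, 1175, 1570, 0]))
 (.leaf [42189, 121009, 1729, 1730, 667, 0]))
 (.node (.leaf [50334, 1682184, 1069, 274, 345, 0])
 (.leaf [51486, 1225840, 1368, 2210, 1063, 0])))
 (.node (.node (.node (.leaf [11604, 387240, 649, 650, 194, 0])
 (.leaf [53224, 1072267, 837, 1638, 2019, 0]))
 (.leaf [55473, 171283, 316, 472, 847, 1]))
 (.node (.leaf [12959, 629062, 1425, 1426, 503, 0])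
 (.leaf [34477, 1513680, 588, 2364, 1276, 0]))))
 (.node (.node (.node (.node (.leaf [50194, 436016, 439, 440, 125, 0])
 (.leaf [63175, 1320844, 579, 387, 1775, 1]))
 (.leaf [61915, 838677, 1885, 1840, 754, 1]))
 (.node (.leaf [53178, 670761, 1254, 1255, 421, 1])
 (.leaf [18167, 1644293, 1914, 1906, 1168, 0])))
 (.node (.node (.leaf [12990, 743491, 865, 817, 269, 1])
 (.leaf [63099, 1444954, 564, 556, 948, 1]))
 (.node (.leaf [60377, 1401624, 1019, 1489, 582, 0])
 (.leaf [27546, 546910, 615, 2015, 1414, 1])))))))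
 (.node (.node (.node (.node (.node (.node (.node (.leaf [40580, 1063825, 58, 59, 14, 0])
 (.leaf [33132, 405685, 763, 2441, 1476, 1]))
 (.leaf [63401, 1220723, 1631, 909, 610, 1]))
 (.node (.leaf [36559, 841120, 941, 942, 298, 1])
 (.leaf [51250, 1746444, 1349, 1689, 983, 0])))
 (.node (.node (.node (.leaf [24980, 1237656, 516, 517, 151, 0])
 (.leaf [36029, 983724, 2194, 2197, 1844, 0]))
 (.leaf [11006, 1129352, 1932, 1933, 788, 0]))
 (.node (.leaf [46502, 879368, 1326, 1290, 453, 1])
 (.leaf [18806, 442582, 1830, 2235, 1212, 0]))))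
 (.node (.node (.node (.node (.leaf [42089, 59563, 296, 297, 82, 0])
 (.leaf [14433, 920465, 639, 589, 1641, 1]))
 (.leaf [15739, 1223768, 57, 820, 701, 1]))
 (.node (.leaf [44337, 402997, 1136, 54, 375, 1])
 (.leaf [56421, 1318100, 2241, 196, 1102, 1])))
 (.node (.node (.node (.leaf [5932, 105770, 735, 736, 221, 0])
 (.leaf [54082, 1084146, 1484, 1343, 2131, 0]))
 (.leaf [9976, 859173, 665, 2038, 885, 0]))
 (.node (.leaf [20085, 700686, 1489, 1490, 532, 1])
 (.leaf [4843, 1103235, 2387, 446, 1328, 1])))))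
 (.node (.node (.node (.node (.node (.leaf [59577, 956816, 102, 178, 48, 1])
 (.leaf [18131, 355075, 1400, 1272, 1550, 0]))
 (.leaf [29976, 1353632, 53, 1711, 655, 1]))
 (.node (.leaf [51671, 1250536, 59, 48, 335, 1])
 (.leaf [51512, 211274, 171, 179, 1051, 1])))
 (.node (.node (.node (.leaf [34373, 846160, 628, 629, 186, 0])
 (.leaf [13903, 966798, 2223, 2251, 1975, 1]))
 (.leaf [50390, 992040, 1422, 1989, 836, 1]))
 (.node (.leaf [53639, 1651524, 609, 616, 491, 0])
 (.leaf [48547, 1134686, 2153, 732, 1261, 0]))))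
 (.node (.node (.node (.node (.leaf [33649, 1641185, 413, 414, 116, 1])
 (.leaf [6694, 1360114, 1130, 1134, 1746, 1]))
 (.leaf [23979, 1219715, 1865, 1866, 743, 0]))
 (.node (.leaf [12216, 1435658, 303, 294, 411, 1])
 (.leaf [54678, 649985, 2277, 2278, 1153, 1])))
 (.node (.node (.leaf [63441, 1089886, 836, 837, 260, 0])
 (.leaf [36071, 830256, 2098, 2099, 935, 0]))
 (.node (.leaf [22689, 703745, 484, 475, 570, 1])
 (.leaf [58673, 1725080, 2360, 1499, 1397, 0]))))))
 (.node (.node (.node (.node (.node (.node (.leaf [9914, 1401379, 117, 118, 31, 1])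
 (.leaf [28282, 1358224, 1311, 1501, 1513, 1]))
 (.leaf [9085, 1107141, 1668, 1669, 633, 0]))
 (.node (.leaf [44985, 418005, 993, 994, 316, 1])
 (.leaf [15494, 1070769, 2179, 2180, 1022, 0])))
 (.node (.node (.node (.leaf [35411, 78764, 162, 574, 169, 0])
 (.leaf [50869, 576387, 2156, 2157, 1903, 0]))
 (.leaf [31052, 1055446, 227, 1516, 810, 0]))
 (.node (.leaf [35837, 1445073, 1361, 1362, 473, 1])
 (.leaf [42143, 1152046, 2338, 2339, 1236, 1]))))
 (.node (.node (.node (.node (.leaf [59514, 1512644, 355, 356, 99, 0])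
 (.leaf [27838, 215635, 2252, 1988, 1680, 0]))
 (.leaf [32339, 1140293, 386, 392, 721, 1]))
 (.node (.leaf [18361, 1717352, 1180, 1181, 393, 0])
 (.leaf [40120, 124236, 2250, 1535, 1130, 0])))
 (.node (.node (.node (.leaf [54453, 1523921, 785, 786, 240, 1])
 (.leaf [9054, 1168454, 1960, 1582, 2243, 0]))
 (.leaf [27288, 1246805, 2068, 2069, 908, 0]))
 (.node (.leaf [50923, 1247953, 1184, 1525, 551, 0])
 (.leaf [18219, 793002, 1002, 1048, 1363, 1])))))
 (.node (.node (.node (.node (.node (.leaf [48460, 136430, 237, 238, 65, 1])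
 (.leaf [33639, 928326, 1688, 1879, 1592, 1]))
 (.leaf [47332, 803733, 1751, 1752, 678, 0]))
 (.node (.leaf [56178, 1074507, 67, 1090, 355, 1])
 (.leaf [11799, 1712235, 1696, 2120, 1078, 0])))
 (.node (.node (.node (.leaf [21290, 361774, 680, 681, 203, 0])
 (.leaf [29586, 1587306, 1784, 916, 2048, 1]))
 (.leaf [50091, 157353, 2020, 2021, 859, 0]))
 (.node (.leaf [62091, 1368346, 1450, 1451, 512, 0])
 (.leaf [46105, 580832, 2373, 2213, 1296, 1]))))
 (.node (.node (.node (.node (.leaf [36123, 1227793, 466, 467, 133, 1])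
 (.leaf [21551, 1115758, 977, 1487, 1793, 0]))
 (.leaf [44274, 707651, 1283, 420, 766, 1]))
 (.node (.leaf [52566, 1457232, 1274, 1275, 431, 1])
 (.leaf [36412, 481474, 2298, 1650, 1180, 0])))
 (.node (.node (.leaf [41279, 378280, 888, 889, 280, 0])
 (.leaf [8677, 1265747, 2126, 2127, 962, 1]))
 (.node (.leaf [34499, 383376, 1596, 1173, 590, 1])
 (.leaf [5523, 543641, 882, 874, 1444, 0]))))))))))
 (.node (.node (.node (.node (.node (.node (.node (.node (.node (.node (.leaf [58822, 289562, 7, 8, 1, 0])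
 (.leaf [16009, 1245930, 1864, 2430, 1450, 1]))
 (.leaf [20127, 581931, 530, 1601, 595, 0]))
 (.node (.leaf [36163, 1167894, 899, 900, 284, 0])
 (.leaf [7267, 1447824, 1255, 1185, 966, 1])))
 (.node (.node (.node (.leaf [46413, 1382192, 475, 476, 136, 1])
 (.leaf [42012, 577822, 2446, 2295, 1800, 0]))
 (.leaf [12265, 1003660, 1162, 123, 771, 1]))
 (.node (.leaf [52883, 1392846, 1282, 1283, 434, 1])
 (.leaf [8621, 201957, 1937, 2302, 1186, 0]))))
 (.node (.node (.node (.node (.leaf [60473, 1378398, 248, 249, 68, 1])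
 (.leaf [26791, 1370306, 1171, 1861, 1597, 0]))
 (.leaf [58311, 691292, 1759, 1760, 682, 0]))
 (.node (.leaf [55144, 1330329, 1097, 1098, 359, 1])
 (.leaf [47737, 827764, 1898, 2224, 1082, 1])))
 (.node (.node (.node (.leaf [39020, 812301, 689, 690, 206, 0])
 (.leaf [19367, 105378, 426, 2510, 2057, 0]))
 (.leaf [21692, 542605, 112, 1828, 865, 1]))
 (.node (.leaf [13537, 1467480, 1109, 1456, 515, 0])
 (.leaf [59123, 842114, 2330, 2377, 1301, 0])))))
 (.node (.node (.node (.node (.node (.leaf [10129, 1345428, 128, 129, 34, 1])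
 (.leaf [41286, 1352092, 767, 774, 1522, 0]))
 (.leaf [50964, 473221, 1675, 826, 638, 0]))
 (.node (.leaf [31765, 1619989, 1001, 1002, 321, 1])
 (.leaf [24438, 414918, 2032, 2183, 1031, 0])))
 (.node (.node (.node (.leaf [31281, 806029, 582, 583, 172, 0])
 (.leaf [35569, 92876, 2162, 959, 1914, 1]))
 (.leaf [65173, 427798, 577, 1417, 814, 1]))
 (.node (.leaf [35429, 662760, 1370, 1371, 476, 1])
 (.leaf [19137, 645134, 2221, 2310, 1240, 0]))))
 (.node (.node (.node (.node (.leaf [53603, 1326178, 367, 368, 102, 0])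
 (.leaf [42802, 868917, 2493, 1918, 1697, 1]))
 (.leaf [30097, 1524418, 1828, 1807, 724, 1]))
 (.node (.leaf [23879, 217875, 1191, 239, 396, 1])
 (.leaf [10838, 1139432, 2262, 2263, 1134, 0])))
 (.node (.node (.node (.leaf [41573, 91756, 793, 745, 243, 1])
 (.leaf [35323, 1659161, 1809, 2383, 2284, 0]))
 (.leaf [20353, 644000, 2076, 1334, 912, 0]))
 (.node (.leaf [26684, 840084, 1534, 88, 554, 1])
 (.leaf [27317, 207585, 1705, 1405, 1371, 0]))))))
 (.node (.node (.node (.node (.node (.node (.leaf [25661, 879137, 68, 69, 17, 0])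
 (.leaf [35178, 856373, 2060, 2102, 1482, 1]))
 (.leaf [27715, 1255233, 1638, 1639, 614, 1]))
 (.node (.leaf [48339, 1749265, 950, 576, 301, 1])
 (.leaf [28540, 1450904, 1442, 1392, 990, 1])))
 (.node (.node (.node (.leaf [56955, 690060, 528, 529, 154, 0])
 (.leaf [58697, 1383452, 519, 528, 1853, 1]))
 (.leaf [31882, 1691809, 1938, 1939, 791, 1]))
 (.node (.leaf [20050, 190617, 1331, 1332, 457, 1])
 (.leaf [44306, 855309, 1980, 1976, 1218, 1]))))
 (.node (.node (.node (.node (.leaf [33943, 993804, 306, 307, 85, 0])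
 (.leaf [15996, 707784, 601, 2385, 1650, 0]))
 (.leaf [23725, 725228, 698, 1797, 705, 0]))
 (.node (.leaf [10236, 371616, 749, 752, 378, 1])
 (.leaf [44723, 1106077, 2244, 822, 1106, 0])))
 (.node (.node (.node (.leaf [15096, 1749524, 745, 31, 225, 1])
 (.leaf [47774, 1673546, 2002, 2500, 2145, 1]))
 (.leaf [12655, 647521, 2008, 2044, 889, 0]))
 (.node (.leaf [11930, 1378699, 1497, 1041, 536, 0])
 (.leaf [58207, 1254232, 2180, 863, 1334, 1])))))
 (.node (.node (.node (.node (.node (.leaf [47502, 1213107, 189, 190, 52, 0])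
 (.leaf [36373, 987476, 1692, 311, 1560, 1]))
 (.leaf [35748, 1581797, 892, 1717, 661, 0]))
 (.node (.leaf [33226, 878605, 24, 648, 338, 1])
 (.leaf [53819, 1434888, 1813, 2201, 1056, 1])))
 (.node (.node (.node (.leaf [42785, 1582861, 636, 637, 189, 0])
 (.leaf [32603, 1082606, 259, 2407, 1986, 1]))
 (.leaf [33764, 404677, 925, 1996, 840, 0]))
 (.node (.leaf [54116, 207452, 38, 1148, 494, 1])
 (.leaf [27054, 1705578, 2358, 2359, 1264, 1]))))
 (.node (.node (.node (.node (.leaf [50266, 1355032, 422, 349, 119, 1])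
 (.leaf [44600, 628789, 2173, 2176, 1753, 1]))
 (.leaf [29336, 1517124, 775, 766, 747, 1]))
 (.node (.leaf [28984, 736008, 1237, 1238, 415, 0])
 (.leaf [6316, 352541, 1907, 1913, 1159, 1])))
 (.node (.node (.leaf [10166, 1672020, 847, 848, 264, 0])
 (.leaf [13761, 1524761, 82, 1526, 941, 1]))
 (.node (.leaf [38842, 156499, 1573, 1574, 574, 1])
 (.leaf [21244, 1002050, 2413, 304, 1402, 1])))))))
 (.node (.node (.node (.node (.node (.node (.node (.leaf [60109, 741643, 39, 40, 9, 0])
 (.leaf [56374, 1402464, 2255, 1022, 1468, 1]))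
 (.leaf [46538, 408114, 1277, 1388, 604, 0]))
 (.node (.leaf [7502, 1594068, 922, 923, 293, 0])
 (.leaf [15346, 1329041, 2143, 2144, 978, 0])))
 (.node (.node (.node (.leaf [49090, 572740, 284, 502, 145, 1])
 (.leaf [20007, 1217587, 1251, 1078, 1826, 1]))
 (.leaf [27991, 680267, 1920, 1921, 783, 0]))
 (.node (.leaf [57931, 1655115, 1307, 1308, 446, 0])
 (.leaf [15149, 1453123, 1393, 1441, 1200, 0]))))
 (.node (.node (.node (.node (.leaf [57209, 480284, 278, 279, 77, 0])
 (.leaf [50713, 738885, 1674, 2087, 1627, 0]))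
 (.leaf [31476, 1641227, 175, 1776, 693, 1]))
 (.node (.leaf [6863, 469224, 1121, 1122, 370, 0])
 (.leaf [64683, 531755, 1667, 1663, 1095, 1])))
 (.node (.node (.node (.leaf [41934, 1369732, 719, 720, 215, 1])
 (.leaf [28073, 88179, 740, 1877, 2113, 0]))
 (.leaf [40778, 396522, 1719, 1749, 878, 1]))
 (.node (.leaf [49721, 1328523, 1140, 1144, 527, 1])
 (.leaf [48584, 1126825, 1488, 976, 1315, 1])))))
 (.node (.node (.node (.node (.node (.leaf [20277, 703584, 159, 160, 43, 0])
 (.leaf [35133, 813225, 2461, 2045, 1538, 1]))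
 (.leaf [46369, 1725962, 1114, 1700, 648, 1]))
 (.node (.leaf [52708, 285922, 1027, 1028, 330, 1])
 (.leaf [5965, 189210, 878, 2192, 1045, 0])))
 (.node (.node (.node (.leaf [37868, 1513218, 612, 613, 180, 1])
 (.leaf [48797, 1402380, 1760, 1847, 1949, 0]))
 (.leaf [25265, 1318051, 1221, 1981, 830, 0]))
 (.node (.leaf [25077, 1267336, 1143, 1396, 485, 1])
 (.leaf [34100, 1266307, 2168, 996, 1254, 0]))))
 (.node (.node (.node (.node (.leaf [26562, 123564, 395, 396, 111, 0])
 (.leaf [11833, 1450225, 1461, 2181, 1721, 0]))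
 (.leaf [46295, 203476, 1851, 222, 736, 1]))
 (.node (.leaf [21101, 822612, 1216, 1217, 405, 1])
 (.leaf [65116, 969857, 1308, 2049, 1147, 0])))
 (.node (.node (.node (.leaf [21457, 1419313, 817, 35, 253, 1])
 (.leaf [50491, 202076, 2457, 2412, 2396, 0]))
 (.leaf [22350, 1737442, 1998, 999, 926, 0]))
 (.node (.leaf [62700, 648004, 1557, 1558, 563, 1])
 (.leaf [27378, 1213142, 804, 1463, 1385, 0]))))))
 (.node (.node (.node (.node (.node (.node (.leaf [64072, 1455174, 0, 98, 25, 1])
 (.leaf [20430, 583520, 713, 946, 1501, 1]))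
 (.leaf [5629, 1115051, 1656, 1657, 625, 1]))
 (.node (.leaf [7877, 959238, 978, 979, 311, 0])
 (.leaf [20966, 1058638, 2109, 2168, 1008, 1])))
 (.node (.node (.node (.leaf [53065, 681485, 556, 557, 163, 1])
 (.leaf [30453, 56602, 1546, 636, 1889, 1]))
 (.leaf [9679, 461538, 1683, 1676, 803, 0]))
 (.node (.leaf [38383, 178290, 236, 243, 468, 1])
 (.leaf [55322, 1225350, 501, 1654, 1230, 0]))))
 (.node (.node (.node (.node (.leaf [21651, 142030, 336, 337, 94, 0])
 (.leaf [42101, 1238041, 1138, 1932, 1670, 0]))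
 (.leaf [54369, 1753171, 1511, 1815, 715, 1]))
 (.node (.leaf [36777, 181454, 1110, 635, 388, 0])
 (.leaf [61352, 1624595, 816, 857, 1120, 1])))
 (.node (.node (.node (.leaf [53752, 925008, 772, 773, 235, 0])
 (.leaf [42844, 797993, 2232, 1703, 2180, 1]))
 (.leaf [14818, 1369872, 2057, 1296, 901, 0]))
 (.node (.leaf [26954, 795564, 1514, 1515, 545, 1])
 (.leaf [44255, 1214353, 2394, 2262, 1352, 1])))))
 (.node (.node (.node (.node (.node (.leaf [40067, 1249626, 218, 219, 60, 0])
 (.leaf [54866, 136563, 2212, 1970, 1575, 0]))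
 (.leaf [7588, 875616, 177, 1738, 671, 0]))
 (.node (.leaf [65064, 829990, 1076, 1077, 348, 1])
 (.leaf [31108, 92771, 166, 2042, 1071, 1])))
 (.node (.node (.node (.leaf [50733, 1215571, 661, 662, 197, 1])
 (.leaf [52579, 1401540, 529, 518, 2028, 0]))
 (.leaf [56151, 80241, 2011, 1987, 850, 1]))
 (.node (.leaf [26645, 1619296, 1435, 548, 506, 0])
 (.leaf [51779, 623462, 2037, 2039, 1281, 1]))))
 (.node (.node (.node (.node (.leaf [50782, 109158, 450, 451, 128, 0])
 (.leaf [45743, 560413, 2204, 2369, 1782, 1]))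
 (.leaf [64837, 1676584, 1893, 1894, 759, 1]))
 (.node (.leaf [58781, 1323826, 72, 62, 424, 1])
 (.leaf [47278, 330981, 456, 464, 1174, 0])))
 (.node (.node (.leaf [12922, 1249493, 506, 130, 272, 1])
 (.leaf [48887, 1709736, 1648, 2116, 956, 0]))
 (.node (.leaf [18522, 1509004, 1564, 1557, 585, 0])
 (.leaf [45847, 395990, 2425, 1607, 1432, 0]))))))))
 (.node (.node (.node (.node (.node (.node (.node (.node (.leaf [7005, 1738842, 23, 24, 5, 0])
 (.leaf [57949, 797069, 2436, 2298, 1460, 1]))
 (.leaf [27592, 156779, 1607, 1324, 600, 0]))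
 (.node (.leaf [31336, 1451534, 907, 908, 288, 1])
 (.leaf [53886, 1005578, 2000, 2138, 973, 1])))
 (.node (.node (.node (.leaf [46306, 734048, 489, 430, 140, 1])
 (.leaf [34617, 1213681, 339, 399, 1813, 1]))
 (.leaf [25049, 179466, 1913, 1914, 778, 0]))
 (.node (.leaf [5362, 657321, 1292, 1293, 440, 0])
 (.leaf [54366, 1354115, 2310, 2311, 1193, 1]))))
 (.node (.node (.node (.node (.leaf [20376, 1105090, 264, 265, 72, 1])
 (.leaf [18063, 942613, 2359, 2362, 1609, 1]))
 (.leaf [47464, 175385, 1766, 1767, 687, 0]))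
 (.node (.leaf [55058, 280245, 1111, 1112, 366, 0])
 (.leaf [16698, 543438, 2234, 699, 1091, 0])))
 (.node (.node (.node (.leaf [11357, 394485, 412, 705, 211, 0])
 (.leaf [27230, 1084307, 2339, 642, 2079, 1]))
 (.leaf [22714, 1218070, 1659, 1656, 872, 1]))
 (.node (.leaf [34347, 1751120, 1467, 1468, 523, 0])
 (.leaf [16923, 1336083, 2379, 2380, 1308, 0])))))
 (.node (.node (.node (.node (.node (.leaf [34630, 1082781, 143, 144, 39, 0])
 (.leaf [24230, 277172, 2140, 2457, 1527, 1]))
 (.leaf [13525, 1725640, 1687, 1688, 644, 0]))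
 (.node (.leaf [50297, 838194, 1015, 1016, 326, 0])
 (.leaf [60179, 938546, 585, 591, 1039, 1])))
 (.node (.node (.node (.leaf [5486, 140126, 596, 597, 176, 1])
 (.leaf [45463, 1607004, 1380, 1410, 1931, 0]))
 (.leaf [48675, 1659420, 1092, 1974, 822, 0]))
 (.node (.leaf [14975, 957600, 751, 1383, 481, 0])
 (.leaf [36345, 125601, 1427, 1435, 1247, 0]))))
 (.node (.node (.node (.node (.leaf [59189, 90853, 381, 382, 106, 1])
 (.leaf [23652, 643468, 2187, 2289, 1708, 0]))
 (.leaf [29313, 1346786, 1064, 507, 728, 1]))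
 (.node (.leaf [46623, 680029, 599, 1203, 401, 0])
 (.leaf [56289, 92253, 2267, 2237, 1140, 0])))
 (.node (.node (.node (.leaf [15433, 1055901, 805, 806, 249, 0])
 (.leaf [59235, 670789, 2397, 794, 2335, 0]))
 (.leaf [6982, 1509578, 2084, 353, 919, 1]))
 (.node (.leaf [25577, 368949, 1545, 1546, 558, 1])
 (.leaf [57969, 1583337, 1431, 1146, 1377, 1]))))))
 (.node (.node (.node (.node (.node (.node (.leaf [55284, 403998, 83, 84, 21, 1])
 (.leaf [29093, 1266202, 868, 2410, 1492, 0]))
 (.leaf [55342, 572453, 1471, 1359, 619, 0]))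
 (.node (.leaf [58003, 1321075, 964, 965, 306, 1])
 (.leaf [38583, 1377180, 2101, 646, 999, 1])))
 (.node (.node (.node (.leaf [27068, 1322076, 542, 543, 158, 1])
 (.leaf [50097, 1121323, 2395, 2394, 1874, 0]))
 (.leaf [30414, 629804, 1230, 128, 795, 1]))
 (.node (.leaf [20152, 47285, 1152, 1342, 463, 0])
 (.leaf [39972, 54684, 2328, 526, 1223, 1]))))
 (.node (.node (.node (.node (.leaf [33558, 281491, 321, 322, 89, 1])
 (.leaf [24417, 872865, 2414, 2489, 1658, 1]))
 (.leaf [15768, 1156008, 1805, 1005, 710, 1]))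
 (.node (.leaf [15253, 403270, 1157, 1158, 384, 0])
 (.leaf [50407, 461468, 2249, 2250, 1114, 0])))
 (.node (.node (.node (.leaf [52811, 394590, 759, 760, 230, 0])
 (.leaf [59587, 1003618, 1717, 2487, 2164, 1]))
 (.leaf [54312, 835926, 1455, 2052, 893, 1]))
 (.node (.leaf [30339, 125706, 1505, 1506, 540, 0])
 (.leaf [17330, 1644776, 2340, 966, 1343, 0])))))
 (.node (.node (.node (.node (.node (.leaf [11455, 1705291, 204, 205, 56, 0])
 (.leaf [53732, 1726032, 803, 1645, 1569, 0]))
 (.leaf [48713, 1454768, 825, 1727, 665, 0]))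
 (.node (.leaf [40845, 273308, 1067, 1068, 344, 0])
 (.leaf [40722, 798028, 268, 2207, 1061, 1])))
 (.node (.node (.node (.leaf [51695, 712908, 646, 647, 193, 0])
 (.leaf [9955, 813841, 2501, 1301, 2017, 1]))
 (.leaf [48516, 551019, 1478, 1472, 846, 0]))
 (.node (.leaf [48658, 941192, 1423, 1157, 501, 1])
 (.leaf [29874, 405930, 2362, 2363, 1273, 0]))))
 (.node (.node (.node (.node (.leaf [45597, 625422, 435, 436, 124, 0])
 (.leaf [56868, 1092504, 2326, 1459, 1770, 0]))
 (.leaf [32610, 43421, 1883, 1774, 753, 1]))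
 (.node (.leaf [59788, 1129030, 1250, 1251, 420, 1])
 (.leaf [57762, 1681953, 987, 941, 1167, 0])))
 (.node (.node (.leaf [13597, 1351987, 861, 862, 268, 1])
 (.leaf [64660, 549661, 1096, 2111, 947, 1]))
 (.node (.leaf [10047, 1624770, 1051, 1584, 580, 1])
 (.leaf [31725, 1751169, 2417, 2418, 1412, 1])))))))
 (.node (.node (.node (.node (.node (.node (.node (.leaf [10935, 152474, 54, 55, 13, 0])
 (.leaf [55467, 714273, 2300, 1372, 1473, 1]))
 (.leaf [62342, 89355, 1628, 1629, 609, 1]))
 (.node (.leaf [55348, 55062, 937, 938, 297, 1])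
 (.leaf [55795, 827813, 1036, 1027, 982, 0])))
 (.node (.node (.node (.leaf [14570, 1704661, 91, 99, 150, 0])
 (.leaf [53659, 879172, 2209, 2195, 1840, 0]))
 (.leaf [46232, 119700, 1242, 1831, 787, 0]))
 (.node (.leaf [48365, 955430, 1322, 1323, 452, 1])
 (.leaf [31557, 471317, 729, 735, 1208, 0]))))
 (.node (.node (.node (.node (.leaf [48414, 1138893, 292, 293, 81, 0])
 (.leaf [33628, 1712963, 2434, 1305, 1640, 0]))
 (.leaf [58405, 1237131, 1787, 1788, 700, 0]))
 (.node (.leaf [63050, 1656424, 1133, 431, 374, 1])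
 (.leaf [63298, 50421, 2240, 2072, 1101, 0])))
 (.node (.node (.node (.leaf [39814, 1223691, 732, 733, 220, 0])
 (.leaf [57749, 1753731, 2104, 2105, 2127, 0]))
 (.leaf [20959, 83881, 1985, 2036, 883, 0]))
 (.node (.leaf [53204, 1061557, 932, 218, 531, 1])
 (.leaf [17391, 1446298, 2023, 1857, 1326, 0])))))
 (.node (.node (.node (.node (.node (.leaf [44581, 169246, 174, 175, 47, 1])
 (.leaf [16839, 1116045, 1093, 1930, 1549, 0]))
 (.leaf [31828, 386309, 1614, 1708, 653, 0]))
 (.node (.leaf [12940, 714945, 1041, 1042, 334, 1])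
 (.leaf [11628, 439348, 2195, 2196, 1050, 1])))
 (.node (.node (.node (.leaf [29694, 1400924, 625, 626, 185, 0])
 (.leaf [6948, 1417332, 388, 578, 1973, 1]))
 (.leaf [11686, 1743000, 1987, 136, 835, 1]))
 (.node (.leaf [58940, 1692768, 1405, 1076, 490, 0])
 (.leaf [9950, 342566, 744, 741, 1259, 0]))))
 (.node (.node (.node (.node (.leaf [23240, 1446102, 410, 342, 115, 1])
 (.leaf [7848, 363174, 835, 1926, 1739, 0]))
 (.leaf [50840, 44261, 168, 157, 742, 0]))
 (.node (.leaf [19394, 1172304, 738, 1229, 410, 1])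
 (.leaf [5797, 646408, 1553, 1548, 1152, 0])))
 (.node (.node (.leaf [54410, 1681729, 832, 833, 259, 0])
 (.leaf [48979, 1225616, 1507, 2097, 933, 0]))
 (.node (.leaf [10805, 146538, 994, 1568, 569, 1])
 (.leaf [30147, 379778, 2336, 2240, 1395, 0]))))))
 (.node (.node (.node (.node (.node (.node (.leaf [32232, 1320753, 113, 114, 29, 1])
 (.leaf [56567, 343392, 2450, 659, 1510, 1]))
 (.leaf [40625, 92001, 1188, 1194, 632, 0]))
 (.node (.leaf [56554, 1659616, 22, 990, 315, 1])
 (.leaf [6462, 1716393, 1574, 772, 1020, 1])))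
 (.node (.node (.node (.leaf [16047, 639856, 570, 571, 168, 0])
 (.leaf [13643, 434462, 267, 1628, 1899, 1]))
 (.leaf [49021, 629636, 1354, 1773, 807, 1]))
 (.node (.leaf [40648, 72422, 1029, 1340, 472, 1])
 (.leaf [32050, 273693, 725, 717, 1235, 0]))))
 (.node (.node (.node (.node (.leaf [19000, 1257613, 351, 352, 98, 0])
 (.leaf [53911, 381108, 2492, 2050, 1677, 0]))
 (.leaf [54595, 580867, 1613, 113, 720, 1]))
 (.node (.leaf [24083, 1595020, 1177, 1178, 392, 0])
 (.leaf [26802, 1741012, 574, 2117, 1128, 0])))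
 (.node (.node (.node (.leaf [19815, 443779, 534, 783, 239, 0])
 (.leaf [19754, 1000769, 2478, 1412, 2228, 0]))
 (.leaf [45788, 215705, 595, 2065, 907, 0]))
 (.node (.leaf [31638, 1513603, 290, 220, 550, 0])
 (.leaf [50740, 205667, 1870, 1938, 1361, 0])))))
 (.node (.node (.node (.node (.node (.leaf [56318, 668045, 233, 234, 64, 0])
 (.leaf [46739, 88473, 173, 2182, 1591, 1]))
 (.leaf [35567, 670320, 1747, 1748, 676, 1]))
 (.node (.leaf [29178, 121996, 573, 1088, 354, 0])
 (.leaf [43814, 1517656, 2220, 2221, 1076, 1])))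
 (.node (.node (.node (.leaf [47590, 706062, 676, 677, 202, 0])
 (.leaf [38951, 1402905, 2502, 1761, 2043, 1]))
 (.leaf [31599, 1356838, 667, 657, 857, 1]))
 (.node (.leaf [6637, 354347, 967, 1447, 511, 0])
 (.leaf [42587, 1256003, 1460, 2325, 1292, 0]))))
 (.node (.node (.node (.node (.leaf [32328, 539238, 257, 463, 132, 1])
 (.leaf [15387, 81193, 1024, 790, 1790, 1]))
 (.leaf [6869, 960624, 940, 374, 765, 1]))
 (.node (.leaf [50911, 705222, 1270, 1271, 429, 1])
 (.leaf [21016, 1508052, 954, 961, 1179, 0])))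
 (.node (.node (.leaf [22056, 821422, 884, 885, 278, 0])
 (.leaf [42706, 689059, 271, 1575, 961, 1]))
 (.node (.leaf [40232, 1672545, 47, 1060, 589, 1])
 (.leaf [45683, 1158185, 2127, 2427, 1442, 1])))))))))
 (.node (.node (.node (.node (.node (.node (.node (.node (.node (.leaf [27703, 560483, 15, 16, 3, 0])
 (.leaf [58561, 1265817, 2432, 2433, 1456, 0]))
 (.leaf [45813, 115381, 1603, 1604, 597, 1]))
 (.node (.leaf [38095, 1679461, 903, 904, 286, 1])
 (.leaf [62823, 808038, 2134, 1816, 970, 0])))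
 (.node (.node (.node (.leaf [44683, 210189, 8, 308, 138, 1])
 (.leaf [37701, 846594, 919, 1445, 1803, 1]))
 (.leaf [32705, 573811, 1100, 1097, 774, 1]))
 (.node (.leaf [35244, 1587341, 1288, 1289, 437, 1])
 (.leaf [51849, 559013, 1662, 2306, 1191, 0]))))
 (.node (.node (.node (.node (.leaf [59098, 1369312, 256, 257, 70, 1])
 (.leaf [41975, 441476, 2189, 2318, 1603, 1]))
 (.leaf [47811, 369068, 1406, 1763, 684, 0]))
 (.node (.leaf [21406, 1687693, 1104, 1105, 363, 1])
 (.leaf [29581, 1659084, 230, 187, 1087, 1])))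
 (.node (.node (.node (.leaf [49462, 1323924, 697, 698, 208, 1])
 (.leaf [51193, 1512483, 463, 2103, 2070, 0]))
 (.leaf [54219, 706160, 856, 859, 870, 0]))
 (.node (.leaf [64689, 144046, 1462, 121, 519, 0])
 (.leaf [15641, 52458, 1495, 1714, 1303, 1])))))
 (.node (.node (.node (.node (.node (.leaf [49743, 854350, 136, 137, 37, 0])
 (.leaf [54390, 951713, 2455, 1622, 1525, 1]))
 (.leaf [23225, 791973, 1682, 1683, 641, 0]))
 (.node (.leaf [54947, 547211, 1007, 1008, 323, 1])
 (.leaf [35889, 427700, 2184, 2185, 1035, 0])))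
 (.node (.node (.node (.leaf [29483, 419048, 589, 590, 174, 1])
 (.leaf [16205, 539917, 1451, 612, 1922, 0]))
 (.leaf [51922, 1222214, 1968, 1969, 817, 1]))
 (.node (.leaf [18553, 469784, 1377, 1378, 479, 0])
 (.leaf [25884, 1353758, 1014, 1007, 1244, 0]))))
 (.node (.node (.node (.node (.leaf [33099, 350238, 374, 375, 104, 1])
 (.leaf [30026, 437472, 2489, 365, 1704, 1]))
 (.leaf [45639, 50862, 1834, 1835, 726, 1]))
 (.node (.leaf [58921, 974932, 1196, 1197, 398, 1])
 (.leaf [44946, 858501, 2238, 2265, 1137, 1])))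
 (.node (.node (.node (.leaf [10567, 1253931, 800, 801, 247, 0])
 (.leaf [33463, 546420, 2290, 2186, 2319, 1]))
 (.leaf [37826, 1359008, 2044, 2078, 916, 0]))
 (.node (.leaf [56902, 625268, 356, 1260, 556, 1])
 (.leaf [32301, 1135302, 1635, 1631, 1375, 0]))))))
 (.node (.node (.node (.node (.node (.node (.leaf [56440, 811860, 75, 76, 19, 0])
 (.leaf [42337, 1725507, 337, 2074, 1488, 0]))
 (.leaf [44444, 926254, 1645, 1646, 617, 0]))
 (.node (.leaf [62060, 977032, 957, 958, 304, 0])
 (.leaf [51309, 1671978, 2163, 1286, 997, 0])))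
 (.node (.node (.node (.leaf [7722, 1616643, 535, 536, 156, 1])
 (.leaf [43191, 1137864, 1285, 1968, 1861, 0]))
 (.leaf [15207, 330659, 1323, 1943, 793, 1]))
 (.node (.leaf [51155, 956550, 1338, 1339, 460, 0])
 (.leaf [62281, 78645, 1977, 1979, 1221, 0]))))
 (.node (.node (.node (.node (.leaf [62235, 680491, 313, 314, 87, 0])
 (.leaf [47832, 1744988, 1116, 2471, 1653, 0]))
 (.leaf [29868, 288092, 1799, 1800, 707, 0]))
 (.node (.leaf [58901, 387394, 1151, 1152, 380, 1])
 (.leaf [54901, 551257, 1874, 2246, 1110, 0])))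
 (.node (.node (.node (.leaf [13029, 54502, 752, 753, 228, 0])
 (.leaf [5037, 1171541, 2430, 2164, 2156, 0]))
 (.leaf [35998, 477722, 2048, 1050, 891, 1]))
 (.node (.leaf [54984, 530670, 1501, 742, 538, 0])
 (.leaf [25786, 1326353, 1601, 309, 1338, 0])))))
 (.node (.node (.node (.node (.node (.leaf [15745, 722540, 196, 197, 54, 0])
 (.leaf [62290, 1055411, 1781, 828, 1564, 1]))
 (.leaf [9889, 1316630, 1509, 1722, 663, 0]))
 (.node (.leaf [43284, 846496, 1060, 1004, 340, 1])
 (.leaf [42436, 1467585, 1754, 1747, 1059, 1])))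
 (.node (.node (.node (.leaf [46732, 1074409, 642, 643, 191, 0])
 (.leaf [36085, 1346716, 2327, 2508, 2000, 0]))
 (.leaf [40103, 629160, 1473, 1477, 843, 1]))
 (.node (.leaf [53153, 90923, 1417, 950, 498, 1])
 (.leaf [18728, 469315, 2233, 1729, 1268, 1]))))
 (.node (.node (.node (.node (.leaf [61299, 1516291, 350, 429, 122, 0])
 (.leaf [53631, 288610, 1713, 1709, 1764, 1]))
 (.leaf [14075, 1746969, 1877, 1878, 749, 1]))
 (.node (.leaf [40917, 920178, 1245, 1246, 417, 1])
 (.leaf [9110, 125265, 814, 2282, 1163, 1])))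
 (.node (.node (.leaf [40892, 1443722, 853, 854, 266, 0])
 (.leaf [5727, 217756, 2108, 2090, 943, 1]))
 (.node (.leaf [11124, 1147566, 1578, 1579, 578, 0])
 (.leaf [65225, 1745443, 366, 2414, 1406, 1])))))))
 (.node (.node (.node (.node (.node (.node (.node (.leaf [54639, 203427, 46, 47, 11, 0])
 (.leaf [30298, 1168048, 1639, 836, 1471, 0]))
 (.leaf [7609, 355040, 1622, 1623, 607, 1]))
 (.node (.leaf [41549, 81228, 929, 930, 295, 0])
 (.leaf [55182, 1450547, 552, 546, 980, 0])))
 (.node (.node (.node (.leaf [9463, 408597, 100, 90, 147, 1])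
 (.leaf [24475, 1642725, 2504, 2481, 1832, 1]))
 (.leaf [8607, 58723, 1926, 1927, 785, 0]))
 (.node (.leaf [63651, 704753, 1314, 1315, 450, 0])
 (.leaf [40006, 1167474, 1062, 1224, 1203, 1]))))
 (.node (.node (.node (.node (.leaf [44822, 938070, 285, 286, 79, 0])
 (.leaf [15278, 926597, 1700, 2476, 1631, 1]))
 (.leaf [12694, 1094982, 1780, 1781, 698, 0]))
 (.node (.leaf [63586, 1246413, 1127, 1128, 372, 0])
 (.leaf [23834, 190225, 1833, 1954, 1099, 0])))
 (.node (.node (.node (.leaf [6223, 1595545, 726, 29, 217, 1])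
 (.leaf [26414, 1250858, 555, 2303, 2119, 0]))
 (.leaf [5947, 47922, 1708, 1521, 880, 1]))
 (.node (.leaf [21614, 1117515, 1482, 1483, 529, 1])
 (.leaf [33974, 460586, 478, 427, 1319, 1])))))
 (.node (.node (.node (.node (.node (.leaf [28223, 381346, 167, 168, 45, 0])
 (.leaf [22815, 189532, 538, 2463, 1544, 0]))
 (.leaf [8539, 579782, 797, 964, 651, 0]))
 (.node (.leaf [61852, 950950, 605, 1034, 332, 1])
 (.leaf [51419, 476840, 1854, 2193, 1047, 1])))
 (.node (.node (.node (.leaf [55594, 368998, 360, 618, 183, 0])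
 (.leaf [30748, 50526, 1413, 2477, 1962, 1]))
 (.leaf [11150, 173838, 1444, 1725, 832, 1]))
 (.node (.leaf [62073, 1691914, 995, 1401, 488, 0])
 (.leaf [48950, 714308, 810, 1457, 1256, 0]))))
 (.node (.node (.node (.node (.leaf [27877, 1092294, 6, 403, 113, 1])
 (.leaf [33957, 1524376, 1924, 1670, 1731, 1]))
 (.leaf [5303, 658637, 1857, 1858, 740, 0]))
 (.node (.leaf [10741, 1092637, 1224, 1225, 408, 1])
 (.leaf [20173, 1102878, 2067, 1911, 1149, 0])))
 (.node (.node (.node (.leaf [59162, 681793, 824, 825, 255, 1])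
 (.leaf [60495, 1712473, 2516, 1423, 2453, 0]))
 (.leaf [37199, 348467, 979, 1766, 929, 1]))
 (.node (.leaf [24460, 1447299, 1565, 1108, 567, 1])
 (.leaf [29851, 1578220, 1633, 459, 1391, 0]))))))
 (.node (.node (.node (.node (.node (.node (.leaf [34219, 176918, 105, 106, 27, 1])
 (.leaf [46463, 924714, 1053, 2447, 1504, 0]))
 (.leaf [8003, 1509137, 1663, 1664, 628, 1]))
 (.node (.leaf [55490, 1250949, 823, 983, 313, 0])
 (.leaf [10548, 117929, 2170, 2171, 1014, 0])))
 (.node (.node (.node (.leaf [28129, 659701, 563, 564, 166, 0])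
 (.leaf [63642, 1213534, 1436, 2506, 1891, 1]))
 (.leaf [53829, 843948, 848, 1956, 805, 1]))
 (.node (.leaf [11433, 1321166, 36, 865, 470, 1])
 (.leaf [22249, 1000461, 2073, 2336, 1233, 0]))))
 (.node (.node (.node (.node (.leaf [53149, 72989, 343, 344, 96, 0])
 (.leaf [10388, 90972, 2185, 2009, 1673, 0]))
 (.leaf [22506, 444304, 1818, 1510, 718, 0]))
 (.node (.leaf [52849, 344491, 432, 1172, 390, 0])
 (.leaf [42066, 692531, 2257, 2258, 1124, 1])))
 (.node (.node (.node (.leaf [8553, 735553, 97, 778, 237, 0])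
 (.leaf [28044, 667758, 1407, 2215, 2196, 0]))
 (.leaf [50351, 1409716, 2062, 2063, 904, 0]))
 (.node (.leaf [6181, 1388849, 1518, 1519, 548, 0])
 (.leaf [29937, 1466570, 2396, 2397, 1356, 0])))))
 (.node (.node (.node (.node (.node (.leaf [38317, 1095080, 226, 227, 62, 0])
 (.leaf [48170, 1627171, 451, 1576, 1586, 1]))
 (.leaf [24392, 1337553, 1744, 1745, 673, 1]))
 (.node (.leaf [17788, 1060045, 1082, 50, 350, 1])
 (.leaf [28375, 1511650, 992, 984, 1073, 1])))
 (.node (.node (.node (.leaf [37652, 473620, 668, 669, 199, 1])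
 (.leaf [7033, 1688904, 2065, 2343, 2032, 1]))
 (.leaf [49132, 1251152, 2017, 1578, 854, 0]))
 (.node (.leaf [10439, 1072218, 1439, 1440, 508, 1])
 (.leaf [43500, 1358868, 962, 953, 1289, 0]))))
 (.node (.node (.node (.node (.leaf [34450, 954786, 455, 456, 130, 1])
 (.leaf [58945, 1618260, 396, 2356, 1786, 0]))
 (.leaf [41837, 1692292, 1606, 1898, 763, 1]))
 (.node (.leaf [46166, 694176, 1266, 1267, 427, 0])
 (.leaf [44479, 330526, 1794, 2292, 1177, 0])))
 (.node (.node (.leaf [31267, 329525, 877, 878, 276, 0])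
 (.leaf [64097, 284886, 2122, 2123, 959, 0]))
 (.node (.leaf [38879, 1137731, 150, 1592, 587, 0])
 (.leaf [28580, 1639148, 384, 1196, 1439, 0]))))))))
 (.node (.node (.node (.node (.node (.node (.node (.node (.leaf [29625, 856492, 31, 32, 7, 0])
 (.leaf [33610, 852901, 1853, 1849, 1463, 1]))
 (.leaf [61748, 1524243, 757, 1611, 602, 0]))
 (.node (.leaf [62365, 1074829, 914, 915, 290, 1])
 (.leaf [56233, 1070489, 1583, 1959, 975, 1])))
 (.node (.node (.node (.leaf [11585, 988204, 496, 497, 143, 1])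
 (.leaf [15217, 805462, 1513, 2503, 1823, 1]))
 (.leaf [62110, 481432, 561, 1916, 780, 1]))
 (.node (.leaf [37846, 384258, 1299, 1300, 443, 1])
 (.leaf [9817, 938630, 1856, 1233, 1197, 0]))))
 (.node (.node (.node (.node (.leaf [25627, 1381926, 160, 271, 75, 0])
 (.leaf [29653, 285082, 1520, 1496, 1618, 0]))
 (.leaf [29726, 1382808, 1771, 1772, 689, 0]))
 (.node (.leaf [24963, 1096368, 488, 1117, 368, 0])
 (.leaf [48838, 858676, 960, 2161, 1093, 1])))
 (.node (.node (.node (.leaf [61811, 1412257, 712, 713, 213, 0])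
 (.leaf [58455, 694302, 1493, 1497, 2103, 1]))
 (.leaf [8644, 1237201, 1657, 1658, 875, 0]))
 (.node (.leaf [62947, 878913, 1474, 674, 525, 0])
 (.leaf [54644, 1267217, 1823, 1805, 1311, 1])))))
 (.node (.node (.node (.node (.node (.leaf [11258, 642061, 151, 152, 41, 0])
 (.leaf [14110, 1454194, 2459, 869, 1533, 1]))
 (.leaf [5350, 656243, 1694, 1491, 646, 1]))
 (.node (.leaf [23985, 700966, 1022, 1023, 328, 0])
 (.leaf [33404, 154826, 592, 584, 1042, 0])))
 (.node (.node (.node (.leaf [7544, 1644384, 604, 605, 178, 1])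
 (.leaf [5023, 1257809, 2256, 2259, 1941, 0]))
 (.leaf [21378, 1615915, 1978, 1686, 828, 0]))
 (.node (.leaf [27422, 136605, 1388, 1389, 483, 0])
 (.leaf [31906, 481299, 656, 1043, 1249, 0]))))
 (.node (.node (.node (.node (.leaf [44737, 54579, 389, 390, 109, 0])
 (.leaf [25506, 1673385, 620, 628, 1716, 1]))
 (.leaf [5499, 141197, 1845, 1846, 734, 0]))
 (.node (.leaf [60629, 1640653, 1209, 1210, 403, 0])
 (.leaf [25482, 827694, 1909, 1902, 1142, 1])))
 (.node (.node (.node (.leaf [40932, 1582700, 811, 812, 251, 1])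
 (.leaf [42749, 1223873, 1698, 2159, 2364, 0]))
 (.leaf [6722, 1508444, 1345, 2086, 924, 0]))
 (.node (.leaf [31388, 1590953, 1550, 1551, 561, 1])
 (.leaf [22678, 47782, 780, 2406, 1381, 0]))))))
 (.node (.node (.node (.node (.node (.node (.leaf [33366, 137130, 90, 91, 23, 1])
 (.leaf [26915, 272244, 156, 2108, 1496, 1]))
 (.leaf [63558, 108661, 1650, 1651, 623, 0]))
 (.node (.leaf [23582, 190666, 566, 972, 308, 1])
 (.leaf [39468, 1369634, 985, 991, 1002, 1])))
 (.node (.node (.node (.leaf [35702, 1706579, 238, 550, 161, 1])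
 (.leaf [16893, 140910, 378, 2135, 1877, 1]))
 (.leaf [50211, 953484, 499, 693, 798, 1]))
 (.node (.leaf [23331, 415408, 603, 596, 465, 0])
 (.leaf [51989, 988421, 1587, 2064, 1226, 1]))))
 (.node (.node (.node (.node (.leaf [20450, 105812, 328, 329, 91, 1])
 (.leaf [62609, 1266384, 1369, 1131, 1666, 1]))
 (.leaf [19058, 1216670, 1810, 1482, 712, 1]))
 (.node (.leaf [52635, 1710800, 1163, 1164, 386, 0])
 (.leaf [12113, 845096, 2253, 2094, 1117, 1])))
 (.node (.node (.node (.leaf [38244, 1266776, 447, 765, 233, 0])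
 (.leaf [47149, 1378209, 1964, 897, 2174, 1]))
 (.leaf [33483, 1135512, 1946, 149, 898, 1]))
 (.node (.leaf [17906, 82670, 1510, 1511, 542, 0])
 (.leaf [38182, 121226, 682, 876, 1350, 1])))))
 (.node (.node (.node (.node (.node (.leaf [64118, 1658979, 211, 212, 58, 0])
 (.leaf [51055, 1435777, 2399, 2473, 1572, 0]))
 (.leaf [24343, 1595475, 1174, 1733, 668, 1]))
 (.node (.leaf [23439, 1644076, 1071, 1072, 346, 0])
 (.leaf [38898, 545510, 1711, 1101, 1066, 0])))
 (.node (.node (.node (.leaf [13866, 1622187, 653, 654, 195, 0])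
 (.leaf [37880, 452256, 2517, 509, 2025, 0]))
 (.leaf [7751, 1508003, 2007, 2008, 848, 1]))
 (.node (.leaf [42263, 348390, 1428, 1429, 504, 0])
 (.leaf [18284, 276850, 2365, 2001, 1278, 1]))))
 (.node (.node (.node (.node (.leaf [33492, 144242, 443, 444, 126, 0])
 (.leaf [41309, 434420, 1690, 1348, 1777, 1]))
 (.leaf [54754, 59045, 1888, 1889, 757, 0]))
 (.node (.leaf [63326, 1253609, 755, 926, 422, 1])
 (.leaf [15477, 1063566, 2284, 2285, 1169, 1])))
 (.node (.node (.leaf [60150, 1106987, 49, 58, 270, 1])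
 (.leaf [38018, 991585, 277, 2112, 951, 1]))
 (.node (.leaf [14929, 846356, 223, 1586, 583, 0])
 (.leaf [52839, 1705193, 2408, 2421, 1420, 1])))))))
 (.node (.node (.node (.node (.node (.node (.node (.leaf [39855, 1155637, 51, 61, 15, 0])
 (.leaf [13801, 1607837, 827, 2443, 1480, 0]))
 (.leaf [10479, 1075914, 144, 1634, 612, 1]))
 (.node (.leaf [64155, 813141, 34, 42, 299, 1])
 (.leaf [38174, 692636, 1458, 809, 984, 1])))
 (.node (.node (.node (.leaf [64378, 125524, 520, 521, 152, 0])
 (.leaf [51326, 371252, 2507, 2328, 1845, 1]))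
 (.leaf [42831, 1657369, 1934, 1935, 789, 1]))
 (.node (.leaf [35794, 1393539, 677, 1314, 454, 1])
 (.leaf [18207, 1337434, 1825, 2319, 1214, 1]))))
 (.node (.node (.node (.node (.leaf [21416, 999593, 300, 301, 83, 0])
 (.leaf [27633, 551117, 2177, 2172, 1643, 1]))
 (.leaf [33887, 1353268, 1386, 1793, 703, 0]))
 (.node (.leaf [11217, 576030, 1139, 1140, 376, 1])
 (.leaf [64874, 451864, 1420, 1424, 1104, 0])))
 (.node (.node (.node (.leaf [54295, 436422, 739, 740, 222, 0])
 (.leaf [51857, 117845, 2464, 2451, 2135, 1]))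
 (.leaf [31990, 1368227, 2039, 1994, 887, 0]))
 (.node (.leaf [17393, 1390704, 1042, 1493, 533, 1])
 (.leaf [49572, 1725122, 1846, 1843, 1330, 1])))))
 (.node (.node (.node (.node (.node (.leaf [40444, 984165, 181, 182, 49, 1])
 (.leaf [12183, 1628186, 1651, 2436, 1555, 0]))
 (.leaf [33710, 1590869, 1714, 224, 656, 1]))
 (.node (.leaf [43927, 371056, 1046, 1047, 336, 1])
 (.leaf [39650, 1520260, 2198, 2199, 1053, 0])))
 (.node (.node (.node (.leaf [33581, 1327830, 632, 633, 187, 0])
 (.leaf [63117, 1706698, 1389, 1276, 1976, 1]))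
 (.leaf [26087, 835765, 1991, 1992, 837, 1]))
 (.node (.leaf [53557, 1467088, 1293, 1407, 492, 0])
 (.leaf [18621, 1615656, 1395, 2354, 1262, 1]))))
 (.node (.node (.node (.node (.leaf [5564, 1117277, 232, 417, 117, 1])
 (.leaf [23674, 1172584, 1525, 2497, 1748, 1]))
 (.leaf [14296, 1661016, 1867, 1868, 744, 1]))
 (.node (.leaf [49844, 401779, 1233, 1234, 413, 0])
 (.leaf [31809, 987301, 2142, 2190, 1155, 0])))
 (.node (.node (.leaf [9092, 170198, 839, 840, 261, 0])
 (.leaf [51233, 429338, 2102, 1801, 936, 1]))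
 (.node (.leaf [13730, 836654, 1572, 321, 572, 0])
 (.leaf [56505, 1587796, 504, 496, 1398, 0]))))))
 (.node (.node (.node (.node (.node (.node (.leaf [45027, 1708371, 121, 122, 32, 1])
 (.leaf [15305, 1590099, 1835, 300, 1515, 1]))
 (.leaf [63708, 639310, 1670, 1671, 634, 1]))
 (.node (.leaf [44392, 1377075, 734, 394, 318, 0])
 (.leaf [43917, 1747144, 2182, 2169, 1025, 1])))
 (.node (.node (.node (.leaf [60295, 859432, 576, 577, 170, 0])
 (.leaf [7478, 1449154, 234, 807, 1906, 1]))
 (.leaf [61236, 1345190, 1963, 1782, 812, 0]))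
 (.node (.leaf [47565, 641585, 700, 1365, 474, 1])
 (.leaf [12744, 178577, 1447, 2340, 1238, 0]))))
 (.node (.node (.node (.node (.leaf [37739, 1004192, 359, 360, 100, 0])
 (.leaf [60596, 804174, 2426, 437, 1690, 0]))
 (.leaf [15521, 661038, 1275, 1280, 722, 1]))
 (.node (.leaf [27976, 1054123, 1183, 1184, 394, 0])
 (.leaf [21220, 959392, 1983, 1428, 1131, 1])))
 (.node (.node (.node (.leaf [17946, 1336993, 16, 489, 241, 1])
 (.leaf [12204, 1750280, 1618, 2320, 2260, 0]))
 (.leaf [57959, 868462, 2071, 1984, 909, 1]))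
 (.node (.leaf [10671, 214669, 1527, 1528, 552, 0])
 (.leaf [20073, 1258537, 2400, 258, 1365, 1])))))
 (.node (.node (.node (.node (.node (.leaf [57109, 989352, 241, 242, 66, 1])
 (.leaf [15938, 739928, 2158, 2155, 1593, 1]))
 (.leaf [20793, 658315, 1753, 1754, 679, 0]))
 (.node (.leaf [5789, 1219610, 645, 1093, 357, 1])
 (.leaf [13514, 1579354, 1342, 1341, 1079, 0])))
 (.node (.node (.node (.leaf [21479, 469021, 251, 682, 204, 0])
 (.leaf [25016, 203546, 1446, 918, 2053, 0]))
 (.leaf [51219, 967344, 2024, 1475, 863, 1]))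
 (.node (.leaf [50421, 1525258, 1135, 1129, 513, 0])
 (.leaf [48296, 381206, 1989, 1993, 1298, 1]))))
 (.node (.node (.node (.node (.leaf [61864, 994049, 470, 471, 134, 1])
 (.leaf [6258, 1446942, 1748, 1753, 1796, 0]))
 (.leaf [22555, 189091, 1904, 750, 769, 1]))
 (.node (.leaf [25727, 1651237, 465, 455, 432, 1])
 (.leaf [17082, 1447558, 1599, 1694, 1182, 0])))
 (.node (.node (.leaf [49041, 55202, 891, 892, 281, 0])
 (.leaf [20939, 85197, 1919, 2128, 964, 0]))
 (.node (.leaf [34011, 1679916, 1540, 1534, 591, 1])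
 (.leaf [13497, 289002, 2428, 1965, 1446, 1]))))))))))))

/-- the search tree for the matrices. -/
def MTree : KT :=
 (.node (.node (.node (.node (.node (.node (.node (.node (.node (.node (.node (.node .nil 4684 1114
 .nil) 4702 1
 .nil) 4719 636
 (.node .nil 4733 442
 .nil)) 4740 1306
 (.node (.node (.node .nil 4758 2102
 .nil) 4775 2224
 .nil) 4789 1876
 (.node .nil 4808 1530
 .nil))) 4826 1433
 (.node (.node (.node (.node .nil 4843 1949
 .nil) 4857 266
 .nil) 4936 2360
 (.node .nil 4955 569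
 .nil)) 4969 1990
 (.node (.node (.node .nil 4986 1161
 .nil) 5004 2304
 .nil) 5023 2383
 (.node .nil 5037 2471
 .nil)))) 5054 582
 (.node (.node (.node (.node (.node .nil 5060 1136
 .nil) 5079 2184
 .nil) 5093 2049
 (.node .nil 5110 580
 .nil)) 5165 1677
 (.node (.node (.node .nil 5177 2282
 .nil) 5224 1506
 .nil) 5244 396
 (.node .nil 5262 673
 .nil))) 5274 1289
 (.node (.node (.node (.node .nil 5283 481
 .nil) 5303 1239
 .nil) 5323 496
 (.node .nil 5343 2142
 .nil)) 5350 1103
 (.node (.node (.node .nil 5362 779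
 .nil) 5423 457
 .nil) 5434 1966
 (.node .nil 5486 331
 .nil))))) 5499 1231
 (.node (.node (.node (.node (.node (.node .nil 5510 690
 .nil) 5523 2045
 .nil) 5545 2500
 (.node .nil 5564 223
 .nil)) 5575 76
 (.node (.node (.node .nil 5586 425
 .nil) 5608 2253
 .nil) 5629 1075
 (.node .nil 5678 753
 .nil))) 5688 840
 (.node (.node (.node (.node .nil 5705 337
 .nil) 5727 1511
 .nil) 5771 288
 (.node .nil 5789 639
 .nil)) 5797 1755
 (.node (.node (.node .nil 5811 2122
 .nil) 5826 165
 .nil) 5844 2228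
 (.node .nil 5868 2414
 .nil)))) 5882 857
 (.node (.node (.node (.node (.node .nil 5932 413
 .nil) 5947 1431
 .nil) 5965 1619
 (.node .nil 5978 402
 .nil)) 6019 1465
 (.node (.node (.node .nil 6036 1357
 .nil) 6063 1513
 .nil) 6072 2169
 (.node .nil 6094 990
 .nil))) 6105 1164
 (.node (.node (.node (.node .nil 6114 1077
 .nil) 6133 432
 .nil) 6181 951
 (.node .nil 6205 1064
 .nil)) 6223 407
 (.node (.node .nil 6231 50
 .nil) 6250 928
 (.node .nil 6258 2303
 .nil)))))) 6316 1763
 (.node (.node (.node (.node (.node (.node (.node .nil 6324 2297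
 .nil) 6342 196
 .nil) 6366 1028
 (.node .nil 6371 2076
 .nil)) 6395 1256
 (.node (.node (.node .nil 6439 130
 .nil) 6462 1595
 .nil) 6475 1828
 (.node .nil 6482 1369
 .nil))) 6508 128
 (.node (.node (.node (.node .nil 6517 1542
 .nil) 6566 1385
 .nil) 6591 2464
 (.node .nil 6602 890
 .nil)) 6611 1360
 (.node (.node (.node .nil 6637 891
 .nil) 6644 1585
 .nil) 6694 2269
 (.node .nil 6716 2334
 .nil)))) 6722 1487
 (.node (.node (.node (.node (.node .nil 6744 1644
 .nil) 6756 453
 .nil) 6782 1509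
 (.node .nil 6797 1298
 .nil)) 6807 484
 (.node (.node (.node .nil 6863 659
 .nil) 6869 1275
 .nil) 6889 1417
 (.node .nil 6899 1782
 .nil))) 6948 2395
 (.node (.node (.node (.node .nil 6975 1221
 .nil) 6982 1483
 .nil) 7005 11
 (.node .nil 7010 1928
 .nil)) 7033 2423
 (.node (.node (.node .nil 7045 2125
 .nil) 7070 316
 .nil) 7107 1022
 (.node .nil 7128 1462
 .nil))))) 7143 273
 (.node (.node (.node (.node (.node (.node .nil 7164 1188
 .nil) 7209 1426
 .nil) 7221 1582
 (.node .nil 7242 82
 .nil)) 7254 2432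
 (.node (.node (.node .nil 7267 1539
 .nil) 7295 1612
 .nil) 7303 1812
 (.node .nil 7323 1312
 .nil))) 7342 201
 (.node (.node (.node (.node .nil 7346 2221
 .nil) 7396 1100
 .nil) 7416 389
 (.node .nil 7467 817
 .nil)) 7478 2367
 (.node (.node (.node .nil 7502 531
 .nil) 7507 1480
 .nil) 7525 836
 (.node .nil 7544 335
 .nil)))) 7567 2229
 (.node (.node (.node (.node (.node .nil 7570 2398
 .nil) 7588 1139
 .nil) 7609 1047
 (.node .nil 7658 438
 .nil)) 7671 429
 (.node (.node (.node .nil 7722 295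
 .nil) 7732 896
 .nil) 7751 1391
 (.node .nil 7769 1109
 .nil))) 7789 1408
 (.node (.node (.node (.node .nil 7795 1785
 .nil) 7810 1761
 .nil) 7836 1366
 (.node .nil 7848 2267
 .nil)) 7862 1118
 (.node (.node .nil 7877 563
 .nil) 7899 80
 (.node .nil 7976 1042
 .nil))))))) 7991 1669
 (.node (.node (.node (.node (.node (.node (.node (.node .nil 8003 1079
 .nil) 8028 2396
 .nil) 8043 270
 (.node .nil 8052 393
 .nil)) 8074 1205
 (.node (.node (.node .nil 8085 448
 .nil) 8098 2177
 .nil) 8125 2162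
 (.node .nil 8137 2132
 .nil))) 8150 518
 (.node (.node (.node (.node .nil 8520 85
 .nil) 8539 1111
 .nil) 8553 439
 (.node .nil 8570 188
 .nil)) 8588 2404
 (.node (.node (.node .nil 8607 1303
 .nil) 8621 1795
 .nil) 8638 1790
 (.node .nil 8644 1423
 .nil)))) 8663 268
 (.node (.node (.node (.node (.node .nil 8677 1533
 .nil) 8694 1980
 .nil) 9036 513
 (.node .nil 9054 2493
 .nil)) 9071 1906
 (.node (.node (.node .nil 9085 1085
 .nil) 9092 479
 .nil) 9110 1767
 (.node .nil 9127 1349
 .nil))) 9141 880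
 (.node (.node (.node (.node .nil 9160 1844
 .nil) 9178 617
 .nil) 9195 1020
 (.node .nil 9209 725
 .nil)) 9242 1484
 (.node (.node (.node .nil 9278 614
 .nil) 9308 2240
 .nil) 9336 2216
 (.node .nil 9359 1345
 .nil))))) 9365 1544
 (.node (.node (.node (.node (.node (.node .nil 9387 545
 .nil) 9393 5
 .nil) 9417 2158
 (.node .nil 9427 1170
 .nil)) 9453 2389
 (.node (.node (.node .nil 9463 279
 .nil) 9497 1781
 .nil) 9532 721
 (.node .nil 9550 2212
 .nil))) 9579 2257
 (.node (.node (.node (.node .nil 9601 400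
 .nil) 9624 190
 .nil) 9636 2124
 (.node .nil 9661 1986
 .nil)) 9679 1331
 (.node (.node (.node .nil 9686 1424
 .nil) 9706 2178
 .nil) 9715 289
 (.node .nil 9755 2066
 .nil)))) 9789 1125
 (.node (.node (.node (.node (.node .nil 9817 1807
 .nil) 9855 2376
 .nil) 9863 2345
 (.node .nil 9884 1365
 .nil)) 9889 1127
 (.node (.node (.node .nil 9914 61
 .nil) 9925 1278
 .nil) 9950 1883
 (.node .nil 9955 2411
 .nil))) 9976 1437
 (.node (.node (.node (.node .nil 10008 1012
 .nil) 10047 1003
 .nil) 10058 1610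
 (.node .nil 10093 1272
 .nil)) 10121 1810
 (.node (.node .nil 10129 67
 .nil) 10158 1748
 (.node .nil 10166 483
 .nil)))))) 10179 249
 (.node (.node (.node (.node (.node (.node (.node .nil 10203 1624
 .nil) 10212 760
 .nil) 10236 675
 (.node .nil 10270 1978
 .nil)) 10294 2322
 (.node (.node (.node .nil 10317 1452
 .nil) 10323 1189
 .nil) 10341 277
 (.node .nil 10363 2089
 .nil))) 10388 2231
 (.node (.node (.node (.node .nil 10428 138
 .nil) 10439 887
 .nil) 10457 1025
 (.node .nil 10479 1055
 .nil)) 10481 242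
 (.node (.node (.node .nil 10525 1784
 .nil) 10548 1591
 .nil) 10567 455
 (.node .nil 10586 1065
 .nil)))) 10606 1325
 (.node (.node (.node (.node (.node .nil 10611 2348
 .nil) 10630 1052
 .nil) 10671 959
 (.node .nil 10689 1201
 .nil)) 10716 2238
 (.node (.node (.node .nil 10728 2145
 .nil) 10741 727
 .nil) 10783 620
 (.node .nil 10805 987
 .nil))) 10825 2514
 (.node (.node (.node (.node .nil 10838 1731
 .nil) 10851 549
 .nil) 10876 1572
 (.node .nil 10909 2230
 .nil)) 10935 27
 (.node (.node (.node .nil 10955 437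
 .nil) 10964 1894
 .nil) 10977 656
 (.node .nil 11006 1309
 .nil))))) 11036 2340
 (.node (.node (.node (.node (.node (.node .nil 11063 1376
 .nil) 11075 69
 .nil) 11103 184
 (.node .nil 11112 2362
 .nil)) 11124 999
 (.node (.node (.node .nil 11150 1367
 .nil) 11173 574
 .nil) 11213 1210
 (.node .nil 11217 671
 .nil))) 11238 2421
 (.node (.node (.node (.node .nil 11258 79
 .nil) 11286 2044
 .nil) 11322 2164
 (.node .nil 11339 309
 .nil)) 11357 395
 (.node (.node (.node .nil 11367 74
 .nil) 11377 1737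
 .nil) 11397 1381
 (.node .nil 11411 738
 .nil)))) 11433 823
 (.node (.node (.node (.node (.node .nil 11455 107
 .nil) 11480 284
 .nil) 11508 912
 (.node .nil 11541 2130
 .nil)) 11576 1640
 (.node (.node (.node .nil 11585 271
 .nil) 11604 365
 .nil) 11628 1627
 (.node .nil 11641 756
 .nil))) 11659 1968
 (.node (.node (.node (.node .nil 11678 677
 .nil) 11686 1371
 .nil) 11699 754
 (.node .nil 11722 634
 .nil)) 11751 1172
 (.node (.node .nil 11799 1661
 .nil) 11833 2259
 (.node .nil 11855 330
 .nil)))))))) 11864 1660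
 (.node (.node (.node (.node (.node (.node (.node (.node (.node .nil 11873 489
 .nil) 11894 1888
 .nil) 11917 2198
 (.node .nil 11930 931
 .nil)) 11939 1253
 (.node (.node (.node .nil 11956 2057
 .nil) 11989 328
 .nil) 12027 933
 (.node .nil 12052 1464
 .nil))) 12091 1006
 (.node (.node (.node (.node .nil 12101 21
 .nil) 12113 1711
 .nil) 12138 1292
 (.node .nil 12158 1510
 .nil)) 12163 804
 (.node (.node (.node .nil 12183 2143
 .nil) 12204 2495
 .nil) 12216 733
 (.node .nil 12230 818
 .nil)))) 12265 1283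
 (.node (.node (.node (.node (.node .nil 12620 905
 .nil) 12638 1992
 .nil) 12655 1443
 (.node .nil 12669 2030
 .nil)) 12676 585
 (.node (.node (.node .nil 12694 1175
 .nil) 12711 920
 .nil) 12725 2024
 (.node .nil 12744 1855
 .nil))) 12762 1177
 (.node (.node (.node (.node .nil 12779 1945
 .nil) 12793 344
 .nil) 12872 1973
 (.node .nil 12891 1900
 .nil)) 12905 1746
 (.node (.node (.node .nil 12922 499
 .nil) 12940 603
 .nil) 12959 877
 (.node .nil 12973 156
 .nil))))) 12990 493
 (.node (.node (.node (.node (.node (.node .nil 12996 416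
 .nil) 13015 1092
 .nil) 13029 423
 (.node .nil 13046 730
 .nil)) 13343 2129
 (.node (.node (.node .nil 13355 2349
 .nil) 13400 2085
 .nil) 13420 1613
 (.node .nil 13453 132
 .nil))) 13458 2037
 (.node (.node (.node (.node .nil 13478 1704
 .nil) 13497 2047
 .nil) 13514 1663
 (.node .nil 13525 1099
 .nil)) 13537 899
 (.node (.node (.node .nil 13566 1638
 .nil) 13597 491
 .nil) 13608 126
 (.node .nil 13643 2363
 .nil)))) 13694 1409
 (.node (.node (.node (.node (.node .nil 13706 464
 .nil) 13719 162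
 .nil) 13730 991
 (.node .nil 13759 1362
 .nil)) 13761 1507
 (.node (.node (.node .nil 13788 386
 .nil) 13801 2079
 .nil) 13812 557
 (.node .nil 13852 1658
 .nil))) 13866 367
 (.node (.node (.node (.node .nil 13903 2397
 .nil) 13945 1066
 .nil) 13954 897
 (.node .nil 13982 953
 .nil)) 13992 1997
 (.node (.node .nil 14004 2382
 .nil) 14029 1398
 (.node .nil 14033 405
 .nil)))))) 14055 529
 (.node (.node (.node (.node (.node (.node (.node .nil 14075 1255
 .nil) 14110 2127
 .nil) 14121 712
 (.node .nil 14173 532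
 .nil)) 14186 1394
 (.node (.node (.node .nil 14213 18
 .nil) 14235 2114
 .nil) 14252 2509
 (.node .nil 14258 2214
 .nil))) 14278 350
 (.node (.node (.node (.node .nil 14296 1247
 .nil) 14319 2165
 .nil) 14321 341
 (.node .nil 14359 354
 .nil)) 14383 488
 (.node (.node (.node .nil 14414 1329
 .nil) 14425 1505
 .nil) 14433 2205
 (.node .nil 14454 2001
 .nil)))) 14492 108
 (.node (.node (.node (.node (.node .nil 14500 1240
 .nil) 14533 1333
 .nil) 14546 1364
 (.node .nil 14570 283
 .nil)) 14589 218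
 (.node (.node (.node .nil 14613 964
 .nil) 14636 1137
 .nil) 14657 1772
 (.node .nil 14676 173
 .nil))) 14701 882
 (.node (.node (.node (.node .nil 14712 336
 .nil) 14735 372
 .nil) 14774 1756
 (.node .nil 14798 1284
 .nil)) 14811 1282
 (.node (.node (.node .nil 14818 1459
 .nil) 14839 1236
 .nil) 14868 164
 (.node .nil 14894 446
 .nil))))) 14917 2154
 (.node (.node (.node (.node (.node (.node .nil 14929 1007
 .nil) 14955 401
 .nil) 14975 843
 (.node .nil 14983 1358
 .nil)) 15037 1314
 (.node (.node (.node .nil 15042 841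
 .nil) 15062 1081
 .nil) 15084 2153
 (.node .nil 15096 419
 .nil))) 15126 778
 (.node (.node (.node (.node .nil 15149 1811
 .nil) 15178 1800
 .nil) 15196 2456
 (.node .nil 15207 1319
 .nil)) 15217 2319
 (.node (.node (.node .nil 15253 683
 .nil) 15278 2199
 .nil) 15305 2111
 (.node .nil 15327 2244
 .nil)))) 15332 1260
 (.node (.node (.node (.node (.node .nil 15346 1555
 .nil) 15387 2299
 .nil) 15399 33
 (.node .nil 15433 459
 .nil)) 15442 1596
 (.node (.node (.node .nil 15470 2336
 .nil) 15477 1775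
 .nil) 15494 1597
 (.node .nil 15517 1406
 .nil))) 15521 1215
 (.node (.node (.node (.node .nil 15546 1717
 .nil) 15572 1192
 .nil) 15592 1257
 (.node .nil 15641 1927
 .nil)) 15652 101
 (.node (.node .nil 15686 1338
 .nil) 15711 1400
 (.node .nil 15714 885
 .nil))))))) 15739 1181
 (.node (.node (.node (.node (.node (.node (.node (.node .nil 15745 103
 .nil) 15768 1195
 .nil) 15781 70
 (.node .nil 15804 1297
 .nil)) 15815 1249
 (.node (.node (.node .nil 15866 950
 .nil) 15896 2480
 .nil) 15910 1089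
 (.node .nil 15938 2175
 .nil))) 15962 2501
 (.node (.node (.node (.node .nil 15972 1474
 .nil) 15996 2211
 .nil) 16009 2051
 (.node .nil 16017 1004
 .nil)) 16047 315
 (.node (.node (.node .nil 16055 550
 .nil) 16075 121
 .nil) 16117 1032
 (.node .nil 16154 2302
 .nil)))) 16165 4
 (.node (.node (.node (.node (.node .nil 16205 2375
 .nil) 16215 2330
 .nil) 16232 524
 (.node .nil 16242 1048
 .nil)) 16270 1752
 (.node (.node (.node .nil 16276 2096
 .nil) 16299 1036
 .nil) 16305 1577
 (.node .nil 16345 361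
 .nil))) 16358 2056
 (.node (.node (.node (.node .nil 16687 2280
 .nil) 16698 1675
 .nil) 16750 1301
 (.node .nil 16763 668
 .nil)) 16774 1286
 (.node (.node (.node .nil 16787 670
 .nil) 16809 2490
 .nil) 16828 769
 (.node .nil 16839 2139
 .nil))))) 16850 1060
 (.node (.node (.node (.node (.node (.node .nil 16872 308
 .nil) 16893 2351
 .nil) 16923 1931
 (.node .nil 16957 1496
 .nil)) 16985 874
 (.node (.node (.node .nil 17023 260
 .nil) 17031 2328
 .nil) 17052 193
 (.node .nil 17057 2326
 .nil))) 17082 1791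
 (.node (.node (.node (.node .nil 17093 2088
 .nil) 17118 1013
 .nil) 17123 2176
 (.node .nil 17144 388
 .nil)) 17182 2168
 (.node (.node (.node .nil 17193 1870
 .nil) 17245 757
 .nil) 17258 1722
 (.node .nil 17285 1873
 .nil)))) 17307 52
 (.node (.node (.node (.node (.node .nil 17324 40
 .nil) 17330 1963
 .nil) 17350 937
 (.node .nil 17368 2170
 .nil)) 17391 1947
 (.node (.node (.node .nil 17393 927
 .nil) 17709 834
 .nil) 17721 916
 (.node .nil 17768 2494
 .nil))) 17788 631
 (.node (.node (.node (.node .nil 17806 1614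
 .nil) 17818 649
 .nil) 17827 214
 (.node .nil 17847 521
 .nil)) 17867 2197
 (.node (.node .nil 17887 182
 .nil) 17894 45
 (.node .nil 17906 943
 .nil)))))) 17946 447
 (.node (.node (.node (.node (.node (.node (.node .nil 17982 302
 .nil) 18012 146
 .nil) 18040 38
 (.node .nil 18063 2187
 .nil)) 18069 1080
 (.node (.node (.node .nil 18091 1653
 .nil) 18097 2449
 .nil) 18121 1050
 (.node .nil 18131 2141
 .nil))) 18157 796
 (.node (.node (.node (.node .nil 18167 1773
 .nil) 18207 1823
 .nil) 18219 1981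
 (.node .nil 18264 1169
 .nil)) 18284 1903
 (.node (.node (.node .nil 18317 2193
 .nil) 18322 618
 .nil) 18342 272
 (.node .nil 18361 701
 .nil)))) 18378 2352
 (.node (.node (.node (.node (.node .nil 18389 2014
 .nil) 18401 864
 .nil) 18430 1578
 (.node .nil 18450 1186
 .nil)) 18467 1156
 (.node (.node (.node .nil 18481 1941
 .nil) 18522 1011
 .nil) 18539 118
 (.node .nil 18553 839
 .nil))) 18590 1478
 (.node (.node (.node (.node .nil 18607 58
 .nil) 18621 1887
 .nil) 18646 166
 (.node .nil 18663 254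
 .nil)) 18677 2097
 (.node (.node .nil 18711 808
 .nil) 18728 1895
 (.node .nil 18751 626
 .nil))))) 18782 516
 (.node (.node (.node (.node (.node (.node .nil 18785 1153
 .nil) 18806 1821
 .nil) 18826 1096
 (.node .nil 18850 13
 .nil)) 18869 2440
 (.node (.node (.node .nil 18883 2185
 .nil) 18923 822
 .nil) 18940 502
 (.node .nil 18973 2036
 .nil))) 18981 2121
 (.node (.node (.node (.node .nil 19000 187
 .nil) 19031 1846
 .nil) 19055 2038
 (.node .nil 19058 1199
 .nil)) 19083 1120
 (.node (.node (.node .nil 19094 177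
 .nil) 19123 384
 .nil) 19137 1859
 (.node .nil 19164 2028
 .nil)))) 19193 892
 (.node (.node (.node (.node (.node .nil 19224 762
 .nil) 19246 2321
 .nil) 19254 562
 (.node .nil 19283 252
 .nil)) 19301 1233
 (.node (.node (.node .nil 19325 1868
 .nil) 19337 2426
 .nil) 19345 845
 (.node .nil 19367 2435
 .nil))) 19394 731
 (.node (.node (.node (.node .nil 19418 1310
 .nil) 19436 390
 .nil) 19475 1754
 (.node .nil 19489 2486
 .nil)) 19506 590
 (.node (.node .nil 19551 1657
 .nil) 19565 741
 (.node .nil 19582 1734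
 .nil))))))))) 19607 1466
 (.node (.node (.node (.node (.node (.node (.node (.node (.node (.node .nil 19621 338
 .nil) 19638 898
 .nil) 19675 624
 (.node .nil 19689 1336
 .nil)) 19706 298
 (.node (.node (.node .nil 19734 2053
 .nil) 19754 2491
 .nil) 19772 441
 (.node .nil 19803 417
 .nil))) 19815 443
 (.node (.node (.node (.node .nil 19825 869
 .nil) 19842 1801
 .nil) 19880 169
 (.node .nil 19902 932
 .nil)) 19919 2508
 (.node (.node (.node .nil 19941 2148
 .nil) 19955 1457
 .nil) 19996 2128
 (.node .nil 20007 2323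
 .nil)))) 20027 32
 (.node (.node (.node (.node (.node .nil 20050 803
 .nil) 20073 1983
 .nil) 20085 925
 (.node .nil 20099 1689
 .nil)) 20127 1027
 (.node (.node (.node .nil 20152 811
 .nil) 20173 1751
 .nil) 20177 1294
 (.node .nil 20214 1884
 .nil))) 20249 968
 (.node (.node (.node (.node .nil 20268 1726
 .nil) 20277 83
 .nil) 20310 597
 (.node .nil 20323 1720
 .nil)) 20346 2272
 (.node (.node (.node .nil 20353 1475
 .nil) 20376 139
 .nil) 20397 1054
 (.node .nil 20430 2099
 .nil))))) 20439 1321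
 (.node (.node (.node (.node (.node (.node .nil 20450 175
 .nil) 20781 704
 .nil) 20793 1151
 (.node .nil 20840 1453
 .nil)) 20860 460
 (.node (.node (.node .nil 20878 428
 .nil) 20890 1001
 .nil) 20899 241
 (.node .nil 20919 1692
 .nil))) 20939 1535
 (.node (.node (.node (.node .nil 20959 1435
 .nil) 20966 1587
 .nil) 20978 1214
 (.node .nil 21016 1787
 .nil)) 21055 2273
 (.node (.node (.node .nil 21066 844
 .nil) 21101 723
 .nil) 21129 462
 (.node .nil 21137 2210
 .nil)))) 21166 9
 (.node (.node (.node (.node (.node .nil 21174 174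
 .nil) 21187 2438
 .nil) 21211 1518
 (.node .nil 21220 1727
 .nil)) 21244 2019
 (.node (.node (.node .nil 21276 1930
 .nil) 21290 381
 .nil) 21327 1293
 (.node .nil 21369 129
 .nil))) 21378 1359
 (.node (.node (.node (.node .nil 21406 647
 .nil) 21416 159
 .nil) 21428 1649
 (.node .nil 21453 554
 .nil)) 21457 467
 (.node (.node .nil 21479 383
 .nil) 21499 994
 (.node .nil 21551 2301
 .nil)))))) 21562 628
 (.node (.node (.node (.node (.node (.node (.node .nil 21614 919
 .nil) 21627 848
 .nil) 21638 1893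
 (.node .nil 21651 179
 .nil)) 21673 42
 (.node (.node (.node .nil 21692 1411
 .nil) 21703 652
 .nil) 21714 1710
 (.node .nil 21736 729
 .nil))) 21757 217
 (.node (.node (.node (.node .nil 22045 1641
 .nil) 22056 507
 .nil) 22091 1858
 (.node .nil 22142 793
 .nil)) 22154 1372
 (.node (.node (.node .nil 22167 2241
 .nil) 22178 2393
 .nil) 22207 2317
 (.node .nil 22209 1040
 .nil)))) 22236 505
 (.node (.node (.node (.node (.node .nil 22249 1847
 .nil) 22260 1370
 .nil) 22297 1138
 (.node .nil 22332 1874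
 .nil)) 22350 1491
 (.node (.node (.node .nil 22379 1617
 .nil) 22401 1654
 .nil) 22424 2284
 (.node .nil 22436 98
 .nil))) 22461 1489
 (.node (.node (.node (.node .nil 22479 2133
 .nil) 22486 2344
 .nil) 22506 1207
 (.node .nil 22515 1922
 .nil)) 22555 1279
 (.node (.node (.node .nil 22572 37
 .nil) 22583 185
 .nil) 22595 2305
 (.node .nil 22639 1878
 .nil))))) 22644 1881
 (.node (.node (.node (.node (.node (.node .nil 22678 1999
 .nil) 22689 989
 .nil) 22714 1419
 (.node .nil 22734 2081
 .nil)) 22754 1974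
 (.node (.node (.node .nil 22777 2265
 .nil) 22815 2135
 .nil) 22820 586
 (.node .nil 22843 434
 .nil))) 22854 2104
 (.node (.node (.node (.node .nil 22882 654
 .nil) 22909 1869
 .nil) 22915 938
 (.node .nil 22951 212
 .nil)) 22968 577
 (.node (.node (.node .nil 23002 660
 .nil) 23009 1157
 .nil) 23038 122
 (.node .nil 23062 1924
 .nil)))) 23083 124
 (.node (.node (.node (.node (.node .nil 23101 1553
 .nil) 23116 868
 .nil) 23143 1636
 (.node .nil 23153 1589
 .nil)) 23172 134
 (.node (.node (.node .nil 23186 610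
 .nil) 23225 1095
 .nil) 23240 219
 (.node .nil 23262 934
 .nil))) 23267 581
 (.node (.node (.node (.node .nil 23314 785
 .nil) 23331 815
 .nil) 23345 2156
 (.node .nil 23369 1912
 .nil)) 23402 1430
 (.node (.node .nil 23416 2313
 .nil) 23439 623
 (.node .nil 23453 48
 .nil))))))) 23468 1337
 (.node (.node (.node (.node (.node (.node (.node (.node .nil 23494 2518
 .nil) 23508 900
 .nil) 23543 1705
 (.node .nil 23582 559
 .nil)) 23590 2206
 (.node (.node (.node .nil 23608 1902
 .nil) 23618 2236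
 .nil) 23652 2251
 (.node .nil 23674 2271
 .nil))) 23691 472
 (.node (.node (.node (.node .nil 23725 1187
 .nil) 23731 978
 .nil) 23767 1953
 (.node .nil 23791 2116
 .nil)) 23793 286
 (.node (.node (.node .nil 23834 1687
 .nil) 23854 454
 .nil) 23860 26
 (.node .nil 23879 707
 .nil)))) 23913 1520
 (.node (.node (.node (.node (.node .nil 23923 1584
 .nil) 23967 1209
 .nil) 23979 1245
 (.node .nil 23985 591
 .nil)) 24002 526
 (.node (.node (.node .nil 24044 2161
 .nil) 24054 940
 .nil) 24083 699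
 (.node .nil 24097 140
 .nil))) 24114 1952
 (.node (.node (.node (.node .nil 24141 2126
 .nil) 24172 2016
 .nil) 24191 752
 (.node .nil 24199 2374
 .nil)) 24212 6
 (.node (.node (.node .nil 24230 2123
 .nil) 24266 1477
 .nil) 24281 452
 (.node .nil 24312 1890
 .nil))))) 24343 1135
 (.node (.node (.node (.node (.node (.node .nil 24361 766
 .nil) 24382 1546
 .nil) 24392 1143
 (.node .nil 24417 2219
 .nil)) 24438 1603
 (.node (.node (.node .nil 24460 983
 .nil) 24475 2327
 .nil) 24498 1605
 (.node .nil 24516 1224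
 .nil))) 24531 2437
 (.node (.node (.node (.node .nil 24557 1770
 .nil) 24876 2445
 .nil) 24891 1740
 (.node .nil 24909 1502
 .nil)) 24922 321
 (.node (.node (.node .nil 24963 655
 .nil) 24980 285
 .nil) 25007 148
 (.node .nil 25016 2431
 .nil)))) 25038 1962
 (.node (.node (.node (.node (.node .nil 25049 1291
 .nil) 25058 1721
 .nil) 25077 851
 (.node .nil 25114 2410
 .nil)) 25150 682
 (.node (.node (.node .nil 25180 1526
 .nil) 25208 1826
 .nil) 25231 1268
 (.node .nil 25237 1248
 .nil))) 25259 2488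
 (.node (.node (.node (.node .nil 25265 1363
 .nil) 25289 1130
 .nil) 25299 2220
 (.node .nil 25325 1824
 .nil)) 25335 2378
 (.node (.node .nil 25373 1569
 .nil) 25384 2505
 (.node .nil 25419 12
 .nil)))))) 25470 697
 (.node (.node (.node (.node (.node (.node (.node .nil 25482 1743
 .nil) 25495 810
 .nil) 25506 2255
 (.node .nil 25535 234
 .nil)) 25537 1252
 (.node (.node (.node .nil 25564 976
 .nil) 25577 971
 .nil) 25588 1749
 (.node .nil 25627 143
 .nil))) 25661 35
 (.node (.node (.node (.node .nil 25689 305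
 .nil) 25727 767
 .nil) 25735 356
 (.node .nil 25756 2485
 .nil)) 25761 1062
 (.node (.node (.node .nil 25786 1959
 .nil) 25797 1145
 .nil) 25822 2084
 (.node .nil 25827 1650
 .nil)))) 25848 1068
 (.node (.node (.node (.node (.node .nil 25884 1863
 .nil) 25898 1266
 .nil) 25935 90
 (.node .nil 25977 1838
 .nil)) 25986 1850
 (.node (.node (.node .nil 26014 1030
 .nil) 26024 2306
 .nil) 26036 1274
 (.node .nil 26061 2262
 .nil))) 26065 293
 (.node (.node (.node (.node .nil 26087 1375
 .nil) 26107 854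
 .nil) 26414 2455
 (.node .nil 26424 1686
 .nil)) 26441 209
 (.node (.node .nil 26463 969
 .nil) 26507 178
 (.node .nil 26525 2032
 .nil))))) 26533 886
 (.node (.node (.node (.node (.node (.node .nil 26547 1320
 .nil) 26562 211
 .nil) 26580 238
 (.node .nil 26604 942
 .nil)) 26618 1830
 (.node (.node (.node .nil 26645 883
 .nil) 26665 364
 .nil) 26684 963
 (.node .nil 26689 1018
 .nil))) 26708 1628
 (.node (.node (.node (.node .nil 26749 1769
 .nil) 26779 418
 .nil) 26791 2179
 (.node .nil 26802 1723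
 .nil)) 26831 420
 (.node (.node (.node .nil 26842 732
 .nil) 26867 1630
 .nil) 26898 1666
 (.node .nil 26915 2095
 .nil)))) 26929 2277
 (.node (.node (.node (.node (.node .nil 26954 947
 .nil) 26968 814
 .nil) 27003 1780
 (.node .nil 27021 1353
 .nil)) 27054 1891
 (.node (.node (.node .nil 27068 299
 .nil) 27079 332
 .nil) 27093 290
 (.node .nil 27108 780
 .nil))) 27161 498
 (.node (.node (.node (.node .nil 27181 1590
 .nil) 27188 1326
 .nil) 27207 1330
 (.node .nil 27230 2443
 .nil)) 27251 1521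
 (.node (.node .nil 27265 2140
 .nil) 27288 1469
 (.node .nil 27317 1987
 .nil)))))))) 27359 1418
 (.node (.node (.node (.node (.node (.node (.node (.node (.node .nil 27371 1204
 .nil) 27378 2003
 .nil) 27422 847
 (.node .nil 27431 478
 .nil)) 27449 1105
 (.node (.node (.node .nil 27468 326
 .nil) 27474 240
 .nil) 27509 718
 (.node .nil 27524 1712
 .nil))) 27546 2029
 (.node (.node (.node (.node .nil 27555 1454
 .nil) 27592 1035
 .nil) 27631 362
 (.node .nil 27633 2207
 .nil)) 27672 630
 (.node (.node (.node .nil 27695 692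
 .nil) 27703 7
 .nil) 27715 1059
 (.node .nil 27739 1504
 .nil)))) 27764 2192
 (.node (.node (.node (.node (.node .nil 27785 960
 .nil) 27793 921
 .nil) 27838 2237
 (.node .nil 27858 2368
 .nil)) 27877 215
 (.node (.node (.node .nil 27901 1246
 .nil) 27935 1088
 .nil) 27941 1422
 (.node .nil 27962 301
 .nil))) 27976 703
 (.node (.node (.node (.node .nil 27991 1299
 .nil) 28018 736
 .nil) 28044 2487
 (.node .nil 28051 901
 .nil)) 28073 2451
 (.node (.node (.node .nil 28100 1665
 .nil) 28129 311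
 .nil) 28158 812
 (.node .nil 28180 2225
 .nil))))) 28203 1694
 (.node (.node (.node (.node (.node (.node .nil 28223 87
 .nil) 28229 1808
 .nil) 28241 862
 (.node .nil 28282 2109
 .nil)) 28306 1925
 (.node (.node (.node .nil 28333 1969
 .nil) 28345 373
 .nil) 28355 708
 (.node .nil 28375 1655
 .nil))) 28412 676
 (.node (.node (.node (.node .nil 28435 1238
 .nil) 28449 2380
 .nil) 28466 681
 (.node .nil 28494 1228
 .nil)) 28509 688
 (.node (.node (.node .nil 28540 1571
 .nil) 28549 2046
 .nil) 28580 2039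
 (.node .nil 28599 1090
 .nil)))) 28619 49
 (.node (.node (.node (.node (.node .nil 28632 1472
 .nil) 28650 981
 .nil) 28974 1428
 (.node .nil 28984 739
 .nil)) 29001 2425
 (.node (.node (.node .nil 29023 525
 .nil) 29067 1174
 .nil) 29085 1696
 (.node .nil 29093 2091
 .nil))) 29107 1200
 (.node (.node (.node (.node .nil 29122 1576
 .nil) 29140 988
 .nil) 29164 1340
 (.node .nil 29178 635
 .nil)) 29209 517
 (.node (.node .nil 29244 1009
 .nil) 29262 1456
 (.node .nil 29291 1642
 .nil)))))) 29313 1227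
 (.node (.node (.node (.node (.node (.node (.node .nil 29336 1251
 .nil) 29348 1626
 .nil) 29373 64
 (.node .nil 29391 486
 .nil)) 29398 394
 (.node (.node (.node .nil 29418 246
 .nil) 29427 2502
 .nil) 29471 1396
 (.node .nil 29483 327
 .nil))) 29528 714
 (.node (.node (.node (.node .nil 29548 310
 .nil) 29581 1671
 .nil) 29586 2429
 (.node .nil 29606 2296
 .nil)) 29625 15
 (.node (.node (.node .nil 29642 1993
 .nil) 29653 2191
 .nil) 29665 737
 (.node .nil 29694 347
 .nil)))) 29726 1167
 (.node (.node (.node (.node (.node .nil 29737 1593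
 .nil) 29789 1834
 .nil) 29802 1548
 (.node .nil 29829 1580
 .nil)) 29851 2007
 (.node (.node (.node .nil 29868 1191
 .nil) 29874 1899
 .nil) 29894 686
 (.node .nil 29912 1950
 .nil))) 29935 800
 (.node (.node (.node (.node .nil 29937 1975
 .nil) 29976 1117
 .nil) 30015 1493
 (.node .nil 30026 2247
 .nil)) 30061 2146
 (.node (.node (.node .nil 30089 2506
 .nil) 30097 1219
 .nil) 30126 1920
 (.node .nil 30134 945
 .nil))))) 30147 2011
 (.node (.node (.node (.node (.node (.node .nil 30171 2292
 .nil) 30180 2312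
 .nil) 30204 96
 (.node .nil 30252 2134
 .nil)) 30267 966
 (.node (.node (.node .nil 30285 1688
 .nil) 30298 2071
 .nil) 30339 939
 (.node .nil 30356 2408
 .nil))) 30383 534
 (.node (.node (.node (.node .nil 30392 142
 .nil) 30414 1323
 .nil) 30425 1646
 (.node .nil 30434 176
 .nil)) 30453 2355
 (.node (.node (.node .nil 30748 2391
 .nil) 30758 1217
 .nil) 30778 78
 (.node .nil 30786 2274
 .nil)))) 30814 2482
 (.node (.node (.node (.node (.node .nil 30820 609
 .nil) 30867 1750
 .nil) 30889 1132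
 (.node .nil 30901 944
 .nil)) 30925 576
 (.node (.node (.node .nil 30929 1976
 .nil) 30955 1194
 .nil) 31002 280
 (.node .nil 31023 304
 .nil))) 31029 306
 (.node (.node (.node (.node .nil 31052 1341
 .nil) 31062 2492
 .nil) 31075 1380
 (.node .nil 31108 1651
 .nil)) 31147 1017
 (.node (.node .nil 31153 2064
 .nil) 31176 1046
 (.node .nil 31186 424
 .nil))))))) 31229 2388
 (.node (.node (.node (.node (.node (.node (.node (.node .nil 31250 2082
 .nil) 31267 503
 .nil) 31281 323
 (.node .nil 31307 1965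
 .nil)) 31321 358
 (.node (.node (.node .nil 31336 523
 .nil) 31374 2245
 .nil) 31388 975
 (.node .nil 31423 1473
 .nil))) 31429 426
 (.node (.node (.node (.node .nil 31462 397
 .nil) 31476 1171
 .nil) 31508 2101
 (.node .nil 31530 20
 .nil)) 31550 1857
 (.node (.node (.node .nil 31557 1819
 .nil) 31569 2290
 .nil) 31599 1403
 (.node .nil 31618 1673
 .nil)))) 31638 955
 (.node (.node (.node (.node (.node .nil 31656 421
 .nil) 31699 54
 .nil) 31725 2027
 (.node .nil 31737 1285
 .nil)) 31765 579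
 (.node (.node (.node .nil 31784 145
 .nil) 31805 1113
 .nil) 31809 1759
 (.node .nil 31828 1115
 .nil))) 31849 1093
 (.node (.node (.node (.node .nil 31882 1315
 .nil) 31903 2152
 .nil) 31906 1871
 (.node .nil 31966 474
 .nil)) 31971 598
 (.node (.node (.node .nil 31990 1439
 .nil) 32019 2268
 .nil) 32033 961
 (.node .nil 32050 1851
 .nil))))) 32079 2202
 (.node (.node (.node (.node (.node (.node .nil 32092 1676
 .nil) 32110 490
 .nil) 32134 1128
 (.node .nil 32149 992
 .nil)) 32180 482
 (.node (.node (.node .nil 32201 1886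
 .nil) 32232 59
 .nil) 32251 1352
 (.node .nil 32283 918
 .nil))) 32301 1991
 (.node (.node (.node (.node .nil 32310 2249
 .nil) 32328 251
 .nil) 32339 1213
 (.node .nil 32357 2090
 .nil)) 32396 1313
 (.node (.node (.node .nil 32417 1176
 .nil) 32442 2098
 .nil) 32452 180
 (.node .nil 32479 200
 .nil)))) 32498 468
 (.node (.node (.node (.node (.node .nil 32541 1914
 .nil) 32548 1182
 .nil) 32569 100
 (.node .nil 32582 2189
 .nil)) 32603 2403
 (.node (.node (.node .nil 32610 1259
 .nil) 32666 1648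
 .nil) 32675 480
 (.node .nil 32702 2450
 .nil))) 32705 1287
 (.node (.node (.node (.node .nil 32732 473
 .nil) 32741 1852
 .nil) 33063 1061
 (.node .nil 33086 1269
 .nil)) 33099 199
 (.node (.node .nil 33106 404
 .nil) 33132 2077
 (.node .nil 33141 926
 .nil)))))) 33190 954
 (.node (.node (.node (.node (.node (.node (.node .nil 33215 2144
 .nil) 33226 611
 .nil) 33235 53
 (.node .nil 33261 984
 .nil)) 33268 1588
 (.node (.node (.node .nil 33311 2233
 .nil) 33333 120
 .nil) 33353 274
 (.node .nil 33366 47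
 .nil))) 33379 1076
 (.node (.node (.node (.node .nil 33404 1615
 .nil) 33437 982
 .nil) 33463 2503
 (.node .nil 33483 1455
 .nil)) 33492 239
 (.node (.node (.node .nil 33505 884
 .nil) 33534 2337
 .nil) 33558 171
 (.node .nil 33581 351
 .nil)))) 33610 2063
 (.node (.node (.node (.node (.node .nil 33628 2203
 .nil) 33639 2173
 .nil) 33649 221
 (.node .nil 33685 1237
 .nil)) 33710 1119
 (.node (.node (.node .nil 33737 1485
 .nil) 33759 1094
 .nil) 33764 1379
 (.node .nil 33778 1792
 .nil))) 33811 1416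
 (.node (.node (.node (.node .nil 33825 0
 .nil) 33842 1281
 .nil) 33887 1183
 (.node .nil 33901 257
 .nil)) 33918 1744
 (.node (.node .nil 33943 163
 .nil) 33957 2263
 (.node .nil 33974 1943
 .nil))))) 34011 1023
 (.node (.node (.node (.node (.node (.node .nil 34025 866
 .nil) 34042 842
 .nil) 34074 1346
 (.node .nil 34094 2208
 .nil)) 34100 1875
 (.node (.node (.node .nil 34119 1016
 .nil) 34153 2222
 .nil) 34163 850
 (.node .nil 34207 1316
 .nil))) 34219 55
 (.node (.node (.node (.node .nil 34225 1202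
 .nil) 34242 2444
 .nil) 34284 1193
 (.node .nil 34294 1774
 .nil)) 34324 1766
 (.node (.node (.node .nil 34347 907
 .nil) 34367 2386
 .nil) 34373 349
 (.node .nil 34385 734
 .nil)))) 34426 909
 (.node (.node (.node (.node (.node .nil 34450 247
 .nil) 34477 1901
 .nil) 34489 1158
 (.node .nil 34499 1021
 .nil)) 34519 2166
 (.node (.node (.node .nil 34556 1097
 .nil) 34589 606
 .nil) 34596 930
 (.node .nil 34617 2315
 .nil))) 34630 75
 (.node (.node (.node (.node .nil 34651 604
 .nil) 34658 1197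
 .nil) 34714 2004
 (.node .nil 34723 1568
 .nil)) 34750 948
 (.node (.node .nil 34753 2276
 .nil) 34780 913
 (.node .nil 34789 73
 .nil)))))))))) 35109 2068
 (.node (.node (.node (.node (.node (.node (.node (.node (.node (.node (.node .nil 35133 2131
 .nil) 35151 1129
 .nil) 35159 1805
 (.node .nil 35178 2083
 .nil)) 35186 264
 (.node (.node (.node .nil 35244 775
 .nil) 35252 2308
 .nil) 35270 1242
 (.node .nil 35294 357
 .nil))) 35299 168
 (.node (.node (.node (.node .nil 35323 2499
 .nil) 35358 2266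
 .nil) 35382 748
 (.node .nil 35405 1989
 .nil)) 35411 317
 (.node (.node (.node .nil 35429 835
 .nil) 35451 816
 .nil) 35476 470
 (.node .nil 35516 300
 .nil)))) 35527 2264
 (.node (.node (.node (.node (.node .nil 35545 1820
 .nil) 35567 1147
 .nil) 35569 2371
 (.node .nil 35607 998
 .nil)) 35631 1652
 (.node (.node (.node .nil 35662 2250
 .nil) 35673 2278
 .nil) 35681 1152
 (.node .nil 35702 303
 .nil))) 35740 1446
 (.node (.node (.node (.node .nil 35748 1123
 .nil) 35781 2218
 .nil) 35794 799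
 (.node .nil 35818 269
 .nil)) 35837 829
 (.node (.node (.node .nil 35858 1620
 .nil) 35875 410
 .nil) 35889 1607
 (.node .nil 35930 1488
 .nil))))) 35947 1029
 (.node (.node (.node (.node (.node (.node .nil 35961 2018
 .nil) 35998 1447
 .nil) 36015 1933
 (.node .nil 36029 2333
 .nil)) 36054 2113
 (.node (.node (.node .nil 36071 1501
 .nil) 36085 2407
 .nil) 36123 253
 (.node .nil 36140 1116
 .nil))) 36151 2061
 (.node (.node (.node (.node .nil 36163 515
 .nil) 36207 2377
 .nil) 36212 2072
 (.node .nil 36246 244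
 .nil)) 36257 370
 (.node (.node (.node .nil 36282 2476
 .nil) 36302 1958
 .nil) 36322 537
 (.node .nil 36345 1867
 .nil)))) 36373 2147
 (.node (.node (.node (.node (.node .nil 36393 1154
 .nil) 36412 1789
 .nil) 36417 440
 (.node .nil 36436 113
 .nil)) 36477 837
 (.node (.node (.node .nil 36507 558
 .nil) 36519 2160
 .nil) 36530 1441
 (.node .nil 36559 541
 .nil))) 36570 1866
 (.node (.node (.node (.node .nil 36595 192
 .nil) 36636 1701
 .nil) 36646 745
 (.node .nil 36666 2316
 .nil)) 36674 693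
 (.node (.node .nil 36702 1889
 .nil) 36708 2356
 (.node .nil 36755 772
 .nil)))))) 36777 691
 (.node (.node (.node (.node (.node (.node (.node .nil 36789 2517
 .nil) 36813 1074
 .nil) 36817 1954
 (.node .nil 36843 665
 .nil)) 37157 2448
 (.node (.node (.node .nil 37181 870
 .nil) 37199 1495
 .nil) 37207 1560
 (.node .nil 37226 89
 .nil))) 37234 894
 (.node (.node (.node (.node .nil 37292 1382
 .nil) 37300 133
 .nil) 37318 2289
 (.node .nil 37342 2373
 .nil)) 37347 1736
 (.node (.node (.node .nil 37371 1674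
 .nil) 37404 648
 .nil) 37431 949
 (.node .nil 37443 1537
 .nil)))) 37471 2033
 (.node (.node (.node (.node (.node .nil 37480 1276
 .nil) 37492 1758
 .nil) 37518 2372
 (.node .nil 37541 1586
 .nil)) 37581 2150
 (.node (.node (.node .nil 37585 2174
 .nil) 37606 1198
 .nil) 37626 1196
 (.node .nil 37652 375
 .nil))) 37678 1697
 (.node (.node (.node (.node .nil 37701 2311
 .nil) 37713 248
 .nil) 37739 191
 (.node .nil 37759 1461
 .nil)) 37767 1753
 (.node (.node (.node .nil 37821 1140
 .nil) 37826 1479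
 .nil) 37846 783
 (.node .nil 37868 339
 .nil))))) 37880 2415
 (.node (.node (.node (.node (.node (.node .nil 37910 2441
 .nil) 37930 2369
 .nil) 37948 720
 (.node .nil 37979 805
 .nil)) 37991 556
 (.node (.node (.node .nil 38001 825
 .nil) 38018 1519
 .nil) 38056 1977
 (.node .nil 38078 500
 .nil))) 38095 519
 (.node (.node (.node (.node .nil 38117 392
 .nil) 38131 608
 .nil) 38174 1567
 (.node .nil 38182 1967
 .nil)) 38200 640
 (.node (.node (.node .nil 38210 2052
 .nil) 38244 431
 .nil) 38266 1160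
 (.node .nil 38283 678
 .nil)))) 38317 119
 (.node (.node (.node (.node (.node .nil 38323 1421
 .nil) 38359 553
 .nil) 38383 819
 (.node .nil 38385 1856
 .nil)) 38419 1897
 (.node (.node (.node .nil 38433 436
 .nil) 38450 282
 .nil) 38478 1524
 (.node .nil 38493 1678
 .nil))) 38524 2400
 (.node (.node (.node (.node .nil 38533 97
 .nil) 38564 2405
 .nil) 38583 1579
 (.node .nil 38603 1556
 .nil)) 38616 296
 (.node (.node .nil 38634 109
 .nil) 38683 1377
 (.node .nil 38701 2065
 .nil))))))) 38710 1898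
 (.node (.node (.node (.node (.node (.node (.node (.node .nil 38728 833
 .nil) 38739 2412
 .nil) 38757 278
 (.node .nil 38796 369
 .nil)) 38817 245
 (.node (.node (.node .nil 38842 995
 .nil) 38852 2329
 .nil) 38879 1015
 (.node .nil 38898 1647
 .nil))) 38951 2427
 (.node (.node (.node (.node .nil 38974 1662
 .nil) 38987 786
 .nil) 38994 1529
 (.node .nil 39020 387
 .nil)) 39029 1864
 (.node (.node (.node .nil 39078 716
 .nil) 39103 152
 .nil) 39114 1797
 (.node .nil 39123 782
 .nil)))) 39149 377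
 (.node (.node (.node (.node (.node .nil 39156 1841
 .nil) 39445 722
 .nil) 39468 1583
 (.node .nil 39489 740
 .nil)) 39508 36
 (.node (.node (.node .nil 39533 1110
 .nil) 39544 1942
 .nil) 39567 1880
 (.node .nil 39606 600
 .nil))) 39630 2453
 (.node (.node (.node (.node .nil 39643 81
 .nil) 39650 1631
 .nil) 39671 1392
 (.node .nil 39709 102
 .nil)) 39732 1682
 (.node (.node (.node .nil 39751 1622
 .nil) 39770 504
 .nil) 39790 993
 (.node .nil 39795 382
 .nil))))) 39814 411
 (.node (.node (.node (.node (.node (.node .nil 39855 31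
 .nil) 39873 972
 .nil) 39900 2428
 (.node .nil 39912 1180
 .nil)) 39925 1166
 (.node (.node (.node .nil 39967 602
 .nil) 39972 1835
 .nil) 39995 2381
 (.node .nil 40006 1815
 .nil))) 40034 2462
 (.node (.node (.node (.node .nil 40061 366
 .nil) 40067 115
 .nil) 40103 1383
 (.node .nil 40120 1725
 .nil)) 40154 318
 (.node (.node (.node .nil 40161 1481
 .nil) 40190 1562
 .nil) 40215 1492
 (.node .nil 40232 1019
 .nil)))) 40255 2318
 (.node (.node (.node (.node (.node .nil 40286 1397
 .nil) 40289 86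
 .nil) 40310 794
 (.node .nil 40330 1913
 .nil)) 40354 788
 (.node (.node (.node .nil 40373 346
 .nil) 40387 2058
 .nil) 40427 1768
 (.node .nil 40444 95
 .nil))) 40474 1522
 (.node (.node (.node (.node .nil 40495 1604
 .nil) 40501 1070
 .nil) 40524 2401
 (.node .nil 40534 1957
 .nil)) 40547 1162
 (.node (.node .nil 40580 29
 .nil) 40619 1545
 (.node .nil 40625 1083
 .nil)))))) 40648 827
 (.node (.node (.node (.node (.node (.node (.node .nil 40658 1412
 .nil) 40701 2073
 .nil) 40722 1643
 (.node .nil 40739 1910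
 .nil)) 40753 1448
 (.node (.node (.node .nil 40778 1427
 .nil) 40792 485
 .nil) 40827 1929
 (.node .nil 40845 619
 .nil))) 40878 1220
 (.node (.node (.node (.node .nil 40892 487
 .nil) 40903 2497
 .nil) 40917 743
 (.node .nil 40932 463
 .nil)) 41252 501
 (.node (.node (.node .nil 41279 509
 .nil) 41286 2115
 .nil) 41309 2287
 (.node .nil 41314 662
 .nil)))) 41337 1833
 (.node (.node (.node (.node (.node .nil 41349 1798
 .nil) 41374 1296
 .nil) 41411 16
 (.node .nil 41432 824
 .nil)) 41447 1490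
 (.node (.node (.node .nil 41468 1836
 .nil) 41502 30
 .nil) 41526 360
 (.node .nil 41549 535
 .nil))) 41555 2469
 (.node (.node (.node (.node .nil 41573 451
 .nil) 41595 2478
 .nil) 41620 680
 (.node .nil 41660 1598
 .nil)) 41671 653
 (.node (.node .nil 41689 1037
 .nil) 41711 2353
 (.node .nil 41713 1733
 .nil))))) 41749 1317
 (.node (.node (.node (.node (.node (.node .nil 41772 149
 .nil) 41793 2332
 .nil) 41812 622
 (.node .nil 41837 1271
 .nil)) 41848 546
 (.node (.node (.node .nil 41871 449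
 .nil) 41910 2234
 .nil) 41934 403
 (.node .nil 41947 846
 .nil))) 41954 1078
 (.node (.node (.node (.node .nil 41975 2183
 .nil) 42012 2307
 .nil) 42023 584
 (.node .nil 42043 1514
 .nil)) 42066 1719
 (.node (.node (.node .nil 42089 157
 .nil) 42101 2227
 .nil) 42115 1384
 (.node .nil 42143 1853
 .nil)))) 42168 2458
 (.node (.node (.node (.node (.node .nil 42189 1133
 .nil) 42193 2188
 .nil) 42230 2489
 (.node .nil 42263 879
 .nil)) 42281 1564
 (.node (.node (.node .nil 42302 613
 .nil) 42312 2454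
 .nil) 42337 2087
 (.node .nil 42358 1098
 .nil))) 42380 1440
 (.node (.node (.node (.node .nil 42395 202
 .nil) 42418 578
 .nil) 42436 1639
 (.node .nil 42451 717
 .nil)) 42477 422
 (.node (.node .nil 42520 568
 .nil) 42543 1494
 (.node .nil 42551 2060
 .nil)))))))) 42563 1486
 (.node (.node (.node (.node (.node (.node (.node (.node (.node .nil 42587 1915
 .nil) 42612 1420
 .nil) 42633 2009
 (.node .nil 42641 1536
 .nil)) 42686 170
 (.node (.node (.node .nil 42706 1531
 .nil) 42725 1332
 .nil) 42749 2511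
 (.node .nil 42771 520
 .nil))) 42785 355
 (.node (.node (.node (.node .nil 42802 2243
 .nil) 42831 1311
 .nil) 42844 2483
 (.node .nil 42862 1525
 .nil)) 42886 506
 (.node (.node (.node .nil 42901 325
 .nil) 42932 353
 .nil) 42953 1470
 (.node .nil 42984 973
 .nil)))) 43003 1764
 (.node (.node (.node (.node (.node .nil 43039 213
 .nil) 43061 458
 .nil) 43081 2261
 (.node .nil 43094 1816
 .nil)) 43107 1938
 (.node (.node (.node .nil 43132 2370
 .nil) 43165 1909
 .nil) 43191 2343
 (.node .nil 43211 1988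
 .nil))) 43220 2341
 (.node (.node (.node (.node .nil 43233 832
 .nil) 43262 813
 .nil) 43284 615
 (.node .nil 43310 1436
 .nil)) 43333 1497
 (.node (.node (.node .nil 43345 1741
 .nil) 43371 2157
 .nil) 43391 84
 (.node .nil 43399 710
 .nil))))) 43453 1581
 (.node (.node (.node (.node (.node (.node .nil 43458 56
 .nil) 43478 860
 .nil) 43500 1911
 (.node .nil 43512 1108
 .nil)) 43814 1659
 (.node (.node (.node .nil 43836 2078
 .nil) 43842 1788
 .nil) 43864 1254
 (.node .nil 43876 1168
 .nil))) 43902 2226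
 (.node (.node (.node (.node .nil 43917 1599
 .nil) 43927 607
 .nil) 43983 117
 (.node .nil 43989 1573
 .nil)) 44009 1601
 (.node (.node (.node .nil 44019 2137
 .nil) 44057 1410
 .nil) 44077 444
 (.node .nil 44084 1445
 .nil)))) 44103 1273
 (.node (.node (.node (.node (.node .nil 44126 674
 .nil) 44147 1086
 .nil) 44161 1905
 (.node .nil 44184 664
 .nil)) 44213 24
 (.node (.node (.node .nil 44255 1971
 .nil) 44267 1342
 .nil) 44274 1277
 (.node .nil 44306 1827
 .nil))) 44323 228
 (.node (.node (.node (.node .nil 44337 669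
 .nil) 44363 2346
 .nil) 44377 2350
 (.node .nil 44392 575
 .nil)) 44430 1634
 (.node (.node .nil 44444 1063
 .nil) 44479 1783
 (.node .nil 44485 256
 .nil)))))) 44518 258
 (.node (.node (.node (.node (.node (.node (.node .nil 44532 1745
 .nil) 44573 492
 .nil) 44581 91
 (.node .nil 44600 2275
 .nil)) 44631 1561
 (.node (.node (.node .nil 44655 22
 .nil) 44658 776
 .nil) 44683 263
 (.node .nil 44694 1434
 .nil))) 44723 1699
 (.node (.node (.node (.node .nil 44737 207
 .nil) 44764 1818
 .nil) 44793 2481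
 (.node .nil 44822 151
 .nil)) 44843 2186
 (.node (.node (.node .nil 44861 1300
 .nil) 44876 2433
 .nil) 44903 540
 (.node .nil 44913 1112
 .nil)))) 44932 1806
 (.node (.node (.node (.node (.node .nil 44946 1735
 .nil) 44985 573
 .nil) 45000 1402
 (.node .nil 45022 114
 .nil)) 45027 63
 (.node (.node (.node .nil 45350 1218
 .nil) 45372 1904
 .nil) 45378 340
 (.node .nil 45400 792
 .nil))) 45412 466
 (.node (.node (.node (.node .nil 45438 1024
 .nil) 45453 313
 .nil) 45463 2379
 (.node .nil 45519 1994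
 .nil)) 45525 1921
 (.node (.node (.node .nil 45545 14
 .nil) 45555 160
 .nil) 45597 235
 (.node .nil 45620 1849
 .nil))))) 45639 1223
 (.node (.node (.node (.node (.node (.node .nil 45658 2242
 .nil) 45678 1350
 .nil) 45683 2043
 (.node .nil 45702 589
 .nil)) 45743 2291
 (.node (.node (.node .nil 45761 1002
 .nil) 45788 1467
 .nil) 45800 1718
 (.node .nil 45813 1031
 .nil))) 45847 2035
 (.node (.node (.node (.node .nil 45871 770
 .nil) 45902 1558
 .nil) 45913 62
 (.node .nil 45921 1862
 .nil)) 45942 2473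
 (.node (.node (.node .nil 45980 1813
 .nil) 45988 2086
 .nil) 46021 1708
 (.node .nil 46034 1538
 .nil)))) 46058 2457
 (.node (.node (.node (.node (.node .nil 46077 1944
 .nil) 46105 1917
 .nil) 46124 2324
 (.node .nil 46133 1305
 .nil)) 46166 759
 (.node (.node (.node .nil 46179 2416
 .nil) 46202 560
 .nil) 46209 25
 (.node .nil 46232 1307
 .nil))) 46253 374
 (.node (.node (.node (.node .nil 46286 1033
 .nil) 46295 1235
 .nil) 46306 267
 (.node .nil 46355 889
 .nil)) 46369 1107
 (.node (.node .nil 46386 633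
 .nil) 46413 259
 (.node .nil 46444 742
 .nil))))))) 46463 2103
 (.node (.node (.node (.node (.node (.node (.node (.node .nil 46471 986
 .nil) 46484 801
 .nil) 46502 797
 (.node .nil 46538 1043
 .nil)) 46553 1460
 (.node (.node (.node .nil 46584 1334
 .nil) 46623 715
 .nil) 46629 2424
 (.node .nil 46650 224
 .nil))) 46664 494
 (.node (.node (.node (.node .nil 46679 1102
 .nil) 46706 1038
 .nil) 46732 359
 (.node .nil 46739 2171
 .nil)) 46761 849
 (.node (.node (.node .nil 46788 2190
 .nil) 46817 1178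
 .nil) 46846 329
 (.node .nil 46869 1348
 .nil)))) 46888 2288
 (.node (.node (.node (.node (.node .nil 46909 1681
 .nil) 46913 1026
 .nil) 46932 528
 (.node .nil 46953 57
 .nil)) 46986 1860
 (.node (.node (.node .nil 47007 1225
 .nil) 47010 1134
 .nil) 47070 564
 (.node .nil 47075 1845
 .nil))) 47094 1390
 (.node (.node (.node (.node .nil 47126 1126
 .nil) 47149 2479
 .nil) 47178 324
 (.node .nil 47196 8
 .nil)) 47207 2246
 (.node (.node (.node .nil 47217 826
 .nil) 47253 1450
 .nil) 47278 1779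
 (.node .nil 47305 334
 .nil))))) 47327 522
 (.node (.node (.node (.node (.node (.node .nil 47332 1149
 .nil) 47346 2260
 .nil) 47388 34
 (.node .nil 47415 414
 .nil)) 47427 2504
 (.node (.node (.node .nil 47455 970
 .nil) 47464 1163
 .nil) 47476 1936
 (.node .nil 47502 99
 .nil))) 47525 2209
 (.node (.node (.node (.node .nil 47565 831
 .nil) 47569 1672
 .nil) 47590 379
 (.node .nil 47610 1633
 .nil)) 47652 1594
 (.node (.node (.node .nil 47679 2300
 .nil) 47686 1608
 .nil) 47709 2136
 (.node .nil 47714 1865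
 .nil)))) 47737 1667
 (.node (.node (.node (.node (.node .nil 47749 2020
 .nil) 47774 2467
 .nil) 47811 1159
 (.node .nil 47832 2215
 .nil)) 47847 105
 (.node (.node (.node .nil 47868 946
 .nil) 48148 774
 .nil) 48170 2167
 (.node .nil 48190 1996
 .nil))) 48197 94
 (.node (.node (.node (.node .nil 48209 229
 .nil) 48239 385
 .nil) 48258 856
 (.node .nil 48278 1946
 .nil)) 48296 1919
 (.node (.node .nil 48339 547
 .nil) 48365 795
 (.node .nil 48377 265
 .nil)))))) 48414 155
 (.node (.node (.node (.node (.node (.node (.node .nil 48423 1908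
 .nil) 48441 1854
 .nil) 48460 125
 (.node .nil 48466 153
 .nil)) 48501 1073
 (.node (.node (.node .nil 48516 1387
 .nil) 48538 1528
 .nil) 48547 1885
 (.node .nil 48584 1939
 .nil))) 48623 2357
 (.node (.node (.node (.node .nil 48625 1540
 .nil) 48658 875
 .nil) 48675 1355
 (.node .nil 48689 322
 .nil)) 48713 1131
 (.node (.node (.node .nil 48746 1008
 .nil) 48760 1190
 .nil) 48783 409
 (.node .nil 48797 2387
 .nil)))) 48812 1122
 (.node (.node (.node (.node (.node .nil 48838 1679
 .nil) 48852 1184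
 .nil) 48887 1523
 (.node .nil 48920 533
 .nil)) 48942 1809
 (.node (.node (.node .nil 48950 1879
 .nil) 48979 1499
 .nil) 48997 1970
 (.node .nil 49021 1339
 .nil))) 49033 206
 (.node (.node (.node (.node .nil 49041 511
 .nil) 49063 2106
 .nil) 49090 275
 (.node .nil 49114 1877
 .nil)) 49132 1399
 (.node (.node .nil 49451 2460
 .nil) 49462 391
 (.node .nil 49486 1413
 .nil))))) 49491 66
 (.node (.node (.node (.node (.node (.node .nil 49509 2325
 .nil) 49528 2342
 .nil) 49551 2446
 (.node .nil 49554 1014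
 .nil)) 49572 1951
 (.node (.node (.node .nil 49593 220
 .nil) 49642 1106
 .nil) 49655 1625
 (.node .nil 49687 1709
 .nil))) 49721 915
 (.node (.node (.node (.node .nil 49743 71
 .nil) 49752 1150
 .nil) 49761 985
 (.node .nil 49782 110
 .nil)) 49805 312
 (.node (.node (.node .nil 49818 398
 .nil) 49827 1948
 .nil) 49844 735
 (.node .nil 49877 2080
 .nil)))) 49915 281
 (.node (.node (.node (.node (.node .nil 49946 781
 .nil) 49957 2298
 .nil) 49997 1534
 (.node .nil 50007 1765
 .nil)) 50024 2409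
 (.node (.node (.node .nil 50034 2442
 .nil) 50062 469
 .nil) 50068 1212
 (.node .nil 50091 1405
 .nil))) 50097 2347
 (.node (.node (.node (.node .nil 50137 2366
 .nil) 50150 858
 .nil) 50194 237
 (.node .nil 50211 1327
 .nil)) 50225 314
 (.node (.node .nil 50266 227
 .nil) 50283 320
 (.node .nil 50297 587
 .nil))))))))) 50334 621
 (.node (.node (.node (.node (.node (.node (.node (.node (.node (.node .nil 50351 1463
 .nil) 50365 104
 .nil) 50390 1373
 (.node .nil 50407 1707
 .nil)) 50421 895
 (.node (.node (.node .nil 50463 773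
 .nil) 50468 1308
 .nil) 50491 2515
 (.node .nil 50502 17
 .nil))) 50530 2093
 (.node (.node (.node (.node .nil 50557 980
 .nil) 50563 2384
 .nil) 50599 276
 (.node .nil 50616 2232
 .nil)) 50650 1738
 (.node (.node (.node .nil 50657 2120
 .nil) 50686 2434
 .nil) 50713 2195
 (.node .nil 50733 371
 .nil)))) 50740 1979
 (.node (.node (.node (.node (.node .nil 50759 689
 .nil) 50782 243
 .nil) 50803 1778
 (.node .nil 50817 1796
 .nil)) 50840 1243
 (.node (.node (.node .nil 50869 2365
 .nil) 50911 763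
 .nil) 50923 957
 (.node .nil 50930 10
 .nil))) 50964 1091
 (.node (.node (.node (.node .nil 50986 601
 .nil) 51006 1442
 .nil) 51013 1793
 (.node .nil 51025 809
 .nil)) 51055 2159
 (.node (.node (.node .nil 51074 706
 .nil) 51094 1082
 .nil) 51112 2465
 (.node .nil 51155 807
 .nil))))) 51181 592
 (.node (.node (.node (.node (.node (.node .nil 51193 2439
 .nil) 51219 1407
 .nil) 51233 1503
 (.node .nil 51250 1565
 .nil)) 51295 1250
 (.node (.node (.node .nil 51309 1575
 .nil) 51326 2335
 .nil) 51351 2040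
 (.node .nil 51365 642
 .nil))) 51382 657
 (.node (.node (.node (.node .nil 51419 1623
 .nil) 51433 1041
 .nil) 51450 1609
 (.node .nil 51486 1645
 .nil)) 51494 1984
 (.node (.node (.node .nil 51512 1629
 .nil) 51522 2
 .nil) 51556 1550
 (.node .nil 51578 1732
 .nil)))) 51595 2354
 (.node (.node (.node (.node (.node .nil 51629 1982
 .nil) 51635 1832
 .nil) 51671 605
 (.node .nil 51695 363
 .nil)) 51697 2314
 (.node (.node (.node .nil 51736 616
 .nil) 51759 1716
 .nil) 51767 1618
 (.node .nil 51779 1907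
 .nil))) 51803 1288
 (.node (.node (.node (.node .nil 51828 1600
 .nil) 51849 1799
 .nil) 51857 2463
 (.node .nil 51902 2418
 .nil)) 51922 1351
 (.node (.node .nil 51941 1264
 .nil) 51965 77
 (.node .nil 51989 1839
 .nil)))))) 52008 1882
 (.node (.node (.node (.node (.node (.node (.node .nil 52029 853
 .nil) 52033 262
 .nil) 52052 542
 (.node .nil 52073 544
 .nil)) 52106 112
 (.node (.node (.node .nil 52127 232
 .nil) 52130 1842
 .nil) 52190 777
 (.node .nil 52195 2181
 .nil))) 52214 910
 (.node (.node (.node (.node .nil 52521 965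
 .nil) 52533 828
 .nil) 52554 1670
 (.node .nil 52566 765
 .nil)) 52579 2419
 (.node (.node (.node .nil 52607 2006
 .nil) 52615 1378
 .nil) 52635 687
 (.node .nil 52654 881
 .nil)))) 52658 41
 (.node (.node (.node (.node (.node .nil 52708 595
 .nil) 52728 1552
 .nil) 52758 368
 (.node .nil 52794 2017
 .nil)) 52811 427
 (.node (.node (.node .nil 52829 962
 .nil) 52839 2031
 .nil) 52849 695
 (.node .nil 52869 1557
 .nil))) 52883 771
 (.node (.node (.node (.node .nil 52905 2069
 .nil) 52927 1508
 .nil) 52952 1961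
 (.node .nil 52980 612
 .nil)) 53019 181
 (.node (.node (.node .nil 53031 1146
 .nil) 53065 307
 .nil) 53074 876
 (.node .nil 53102 1512
 .nil))))) 53109 917
 (.node (.node (.node (.node (.node (.node .nil 53126 225
 .nil) 53149 183
 .nil) 53153 871
 (.node .nil 53178 749
 .nil)) 53204 923
 (.node (.node (.node .nil 53224 2413
 .nil) 53545 1916
 .nil) 53557 863
 (.node .nil 53578 2293
 .nil))) 53590 1226
 (.node (.node (.node (.node .nil 53603 195
 .nil) 53631 2279
 .nil) 53639 861
 (.node .nil 53659 2331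
 .nil)) 53678 709
 (.node (.node (.node .nil 53682 838
 .nil) 53732 2155
 .nil) 53752 435
 (.node .nil 53780 784
 .nil)))) 53819 1635
 (.node (.node (.node (.node (.node .nil 53829 1335
 .nil) 53841 1964
 .nil) 53866 1393
 (.node .nil 53886 1547
 .nil)) 53891 348
 (.node (.node (.node .nil 53911 2235
 .nil) 53932 758
 .nil) 53944 661
 (.node .nil 53958 1185
 .nil))) 53993 632
 (.node (.node (.node (.node .nil 54040 1706
 .nil) 54054 958
 .nil) 54082 2461
 (.node .nil 54106 106
 .nil)) 54116 867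
 (.node (.node .nil 54140 2070
 .nil) 54153 2406
 (.node .nil 54161 68
 .nil))))))) 54191 1776
 (.node (.node (.node (.node (.node (.node (.node (.node .nil 54199 1208
 .nil) 54219 1415
 .nil) 54261 2094
 (.node .nil 54295 415
 .nil)) 54312 1451
 (.node (.node (.node .nil 54335 2361
 .nil) 54366 1803
 .nil) 54369 1203
 (.node .nil 54390 2119
 .nil))) 54410 475
 (.node (.node (.node (.node .nil 54434 878
 .nil) 54453 445
 .nil) 54467 2100
 (.node .nil 54507 956
 .nil)) 54524 929
 (.node (.node (.node .nil 54555 412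
 .nil) 54572 1165
 .nil) 54583 1532
 (.node .nil 54595 1211
 .nil)))) 54639 23
 (.node (.node (.node (.node (.node .nil 54644 1935
 .nil) 54678 1757
 .nil) 54689 924
 (.node .nil 54714 2054
 .nil)) 54734 1690
 (.node (.node (.node .nil 54754 1263
 .nil) 54777 2436
 .nil) 54814 1241
 (.node .nil 54823 1401
 .nil))) 54841 2025
 (.node (.node (.node (.node .nil 54860 904
 .nil) 54866 2163
 .nil) 54901 1703
 (.node .nil 54916 2468
 .nil)) 54938 28
 (.node (.node (.node .nil 54947 583
 .nil) 54984 935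
 .nil) 55023 1606
 (.node .nil 55025 1216
 .nil))))) 55058 651
 (.node (.node (.node (.node (.node (.node .nil 55075 1354
 .nil) 55089 1374
 .nil) 55115 873
 (.node .nil 55129 1940
 .nil)) 55144 643
 (.node (.node (.node .nil 55182 1559
 .nil) 55196 1222
 .nil) 55231 2172
 (.node .nil 55237 2420
 .nil))) 55270 1668
 (.node (.node (.node (.node .nil 55284 43
 .nil) 55322 1843
 .nil) 55342 1067
 (.node .nil 55348 539
 .nil)) 55367 1356
 (.node (.node (.node .nil 55401 2182
 .nil) 55411 1918
 .nil) 55455 250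
 (.node .nil 55467 2075
 .nil)))) 55473 1389
 (.node (.node (.node (.node (.node .nil 55490 567
 .nil) 55532 230
 .nil) 55542 565
 (.node .nil 55574 2022
 .nil)) 55594 343
 (.node (.node (.node .nil 55612 1760
 .nil) 55643 1814
 .nil) 55655 92
 (.node .nil 55665 906
 .nil))) 55682 72
 (.node (.node (.node (.node .nil 55720 2422
 .nil) 55742 645
 .nil) 55759 694
 (.node .nil 55781 914
 .nil)) 55795 1563
 (.node (.node .nil 55827 698
 .nil) 55841 1632
 (.node .nil 55858 261
 .nil)))))) 55887 1049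
 (.node (.node (.node (.node (.node (.node (.node .nil 55900 1742
 .nil) 55918 1786
 .nil) 55942 226
 (.node .nil 55957 666
 .nil)) 55988 588
 (.node (.node (.node .nil 56009 1937
 .nil) 56040 2430
 .nil) 56059 294
 (.node .nil 56095 2194
 .nil))) 56101 2474
 (.node (.node (.node (.node .nil 56122 1637
 .nil) 56136 2112
 .nil) 56151 1395
 (.node .nil 56178 637
 .nil)) 56204 2402
 (.node (.node (.node .nil 56211 198
 .nil) 56233 1551
 .nil) 56260 158
 (.node .nil 56289 1739
 .nil)))) 56318 123
 (.node (.node (.node (.node (.node .nil 56363 1554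
 .nil) 56374 2067
 .nil) 56398 700
 (.node .nil 56403 996
 .nil)) 56421 1693
 (.node (.node (.node .nil 56440 39
 .nil) 56463 2496
 .nil) 56466 1729
 (.node .nil 56484 2309
 .nil))) 56505 2015
 (.node (.node (.node (.node .nil 56554 571
 .nil) 56567 2107
 .nil) 56857 1322
 (.node .nil 56868 2283
 .nil)) 56902 967
 (.node (.node .nil 56927 672
 .nil) 56930 2417
 (.node .nil 56955 291
 .nil))))) 56961 750
 (.node (.node (.node (.node (.node (.node .nil 56984 1684
 .nil) 56997 641
 .nil) 57020 1324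
 (.node .nil 57031 1566
 .nil)) 57082 2320
 (.node (.node (.node .nil 57109 127
 .nil) 57144 952
 .nil) 57153 2513
 (.node .nil 57172 408
 .nil))) 57196 1361
 (.node (.node (.node (.node .nil 57209 147
 .nil) 57227 1656
 .nil) 57246 406
 (.node .nil 57254 908
 .nil)) 57267 1698
 (.node (.node (.node .nil 57290 378
 .nil) 57319 2385
 .nil) 57640 566
 (.node .nil 57655 292
 .nil)))) 57667 2110
 (.node (.node (.node (.node (.node .nil 57692 1388
 .nil) 57707 1762
 .nil) 57716 1368
 (.node .nil 57738 1861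
 .nil)) 57749 2459
 (.node (.node (.node .nil 57762 1771
 .nil) 57789 1458
 .nil) 57801 60
 (.node .nil 57814 1438
 .nil))) 57878 936
 (.node (.node (.node (.node .nil 57914 798
 .nil) 57931 787
 .nil) 57949 2059
 (.node .nil 57959 1471
 .nil)) 57969 1995
 (.node (.node .nil 57989 1258
 .nil) 58003 555
 (.node .nil 58025 333
 .nil)))))))) 58047 2248
 (.node (.node (.node (.node (.node (.node (.node (.node (.node .nil 58072 197
 .nil) 58100 1664
 .nil) 58137 1034
 (.node .nil 58148 137
 .nil)) 58182 297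
 (.node (.node (.node .nil 58207 1955
 .nil) 58210 1468
 .nil) 58235 1574
 (.node .nil 58241 548
 .nil))) 58264 2042
 (.node (.node (.node (.node .nil 58277 1058
 .nil) 58300 1056
 .nil) 58311 1155
 (.node .nil 58362 1896
 .nil)) 58397 1840
 (.node (.node (.node .nil 58405 1179
 .nil) 58424 922
 .nil) 58455 2447
 (.node .nil 58479 1685
 .nil)))) 58482 764
 (.node (.node (.node (.node (.node .nil 58507 2117
 .nil) 58518 1998
 .nil) 58547 2472
 (.node .nil 58561 2055
 .nil)) 58588 1872
 (.node (.node (.node .nil 58617 789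
 .nil) 58642 1892
 .nil) 58659 1144
 (.node .nil 58673 2013
 .nil))) 58697 2339
 (.node (.node (.node (.node .nil 58730 2364
 .nil) 58744 658
 .nil) 58767 450
 (.node .nil 58781 755
 .nil)) 58796 2310
 (.node (.node (.node .nil 58822 3
 .nil) 58836 1960
 .nil) 58871 702
 (.node .nil 58901 679
 .nil))))) 58921 711
 (.node (.node (.node (.node (.node (.node .nil 58940 859
 .nil) 58945 2295
 .nil) 58964 476
 (.node .nil 59005 1592
 .nil)) 59035 2118
 (.node (.node (.node .nil 59047 1482
 .nil) 59058 596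
 .nil) 59087 1476
 (.node .nil 59098 135
 .nil))) 59123 1923
 (.node (.node (.node (.node .nil 59162 471
 .nil) 59183 512
 .nil) 59189 203
 (.node .nil 59212 1730
 .nil)) 59222 1244
 (.node (.node (.node .nil 59235 2507
 .nil) 59268 1318
 .nil) 59307 684
 (.node .nil 59313 1304
 .nil)))) 59336 2000
 (.node (.node (.node (.node (.node .nil 59346 194
 .nil) 59389 902
 .nil) 59412 1549
 (.node .nil 59435 1234
 .nil)) 59455 2200
 (.node (.node (.node .nil 59461 2258
 .nil) 59473 1444
 .nil) 59514 189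
 (.node .nil 59538 552
 .nil))) 59565 1142
 (.node (.node (.node (.node .nil 59577 93
 .nil) 59587 2475
 .nil) 59607 820
 (.node .nil 59644 761
 .nil)) 59675 724
 (.node (.node .nil 59693 2048
 .nil) 59702 1148
 (.node .nil 59720 2002
 .nil)))))) 59731 572
 (.node (.node (.node (.node (.node (.node (.node .nil 59749 1232
 .nil) 59788 747
 .nil) 59809 1069
 (.node .nil 59834 1602
 .nil)) 59844 561
 (.node (.node (.node .nil 59871 1104
 .nil) 59890 1616
 .nil) 59932 1829
 (.node .nil 59943 210
 .nil))) 59963 1432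
 (.node (.node (.node (.node .nil 59986 1700
 .nil) 60009 456
 .nil) 60021 2358
 (.node .nil 60035 88
 .nil)) 60063 2270
 (.node (.node (.node .nil 60088 1072
 .nil) 60109 19
 .nil) 60113 1714
 (.node .nil 60150 495
 .nil)))) 60179 1611
 (.node (.node (.node (.node (.node .nil 60193 2252
 .nil) 60210 1498
 .nil) 60237 2484
 (.node .nil 60268 1173
 .nil)) 60287 1101
 (.node (.node (.node .nil 60295 319
 .nil) 60308 1516
 .nil) 60326 872
 (.node .nil 60362 865
 .nil))) 60377 1005
 (.node (.node (.node (.node .nil 60408 1817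
 .nil) 60439 713
 .nil) 60473 131
 (.node .nil 60495 2519
 .nil)) 60504 768
 (.node (.node (.node .nil 60513 2281
 .nil) 60534 508
 .nil) 60557 1230
 (.node .nil 60570 1570
 .nil))))) 60579 352
 (.node (.node (.node (.node (.node (.node .nil 60596 2239
 .nil) 60629 719
 .nil) 60667 2390
 (.node .nil 60696 216
 .nil)) 60710 830
 (.node (.node (.node .nil 60738 1010
 .nil) 60762 1290
 .nil) 60772 629
 (.node .nil 60796 638
 .nil))) 60809 744
 (.node (.node (.node (.node .nil 60817 510
 .nil) 60847 1449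
 .nil) 60855 2286
 (.node .nil 60875 205
 .nil)) 60917 2512
 (.node (.node (.node .nil 61226 2149
 .nil) 61236 1343
 .nil) 61255 1932
 (.node .nil 61273 233
 .nil)))) 61293 1344
 (.node (.node (.node (.node (.node .nil 61299 231
 .nil) 61314 593
 .nil) 61340 1621
 (.node .nil 61352 1715
 .nil)) 61366 2034
 (.node (.node (.node .nil 61381 705
 .nil) 61403 625
 .nil) 61738 1265
 (.node .nil 61748 1039
 .nil))) 61767 974
 (.node (.node (.node (.node .nil 61785 380
 .nil) 61805 538
 .nil) 61811 399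
 (.node .nil 61826 1825
 .nil)) 61852 599
 (.node (.node .nil 61864 255
 .nil) 61878 1848
 (.node .nil 61893 2012
 .nil))))))) 61915 1261
 (.node (.node (.node (.node (.node (.node (.node (.node .nil 61973 2005
 .nil) 62008 821
 .nil) 62017 2213
 (.node .nil 62036 2254
 .nil)) 62060 551
 (.node (.node (.node .nil 62073 855
 .nil) 62091 893
 .nil) 62110 1295
 (.node .nil 62118 802
 .nil))) 62131 977
 (.node (.node (.node (.node .nil 62154 1280
 .nil) 62183 2294
 .nil) 62235 167
 (.node .nil 62247 2138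
 .nil)) 62281 1831
 (.node (.node (.node .nil 62290 2151
 .nil) 62318 208
 .nil) 62325 1044
 (.node .nil 62342 1051
 .nil)))) 62365 527
 (.node (.node (.node (.node (.node .nil 62369 2092
 .nil) 62394 2510
 .nil) 62420 497
 (.node .nil 62440 888
 .nil)) 62488 594
 (.node (.node (.node .nil 62510 1084
 .nil) 62518 2516
 .nil) 62547 1057
 (.node .nil 62565 1724
 .nil))) 62589 726
 (.node (.node (.node (.node .nil 62601 1934
 .nil) 62609 2223
 .nil) 62631 172
 (.node .nil 62658 65
 .nil)) 62682 136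
 (.node (.node (.node .nil 62700 979
 .nil) 62742 1141
 .nil) 62763 1124
 (.node .nil 62781 2217
 .nil))))) 62796 345
 (.node (.node (.node (.node (.node (.node .nil 62823 1543
 .nil) 62833 1045
 .nil) 62852 1541
 (.node .nil 62866 2108
 .nil)) 62905 1386
 (.node (.node (.node .nil 62920 2180
 .nil) 62942 1777
 .nil) 62947 911
 (.node .nil 62994 44
 .nil))) 63011 2201
 (.node (.node (.node (.node .nil 63025 685
 .nil) 63050 667
 .nil) 63064 2041
 (.node .nil 63099 1517
 .nil)) 63117 2399
 (.node (.node (.node .nil 63150 46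
 .nil) 63164 1229
 .nil) 63175 2285
 (.node .nil 63189 650
 .nil)))) 63204 2008
 (.node (.node (.node (.node (.node .nil 63260 116
 .nil) 63270 2010
 .nil) 63290 2021
 (.node .nil 63298 1691
 .nil)) 63326 751
 (.node (.node (.node .nil 63332 161
 .nil) 63379 2498
 .nil) 63401 1053
 (.node .nil 63413 465
 .nil))) 63437 1802
 (.node (.node (.node (.node .nil 63441 477
 .nil) 63467 1713
 .nil) 63517 728
 (.node .nil 63524 1956
 .nil)) 63545 1822
 (.node (.node .nil 63558 1071
 .nil) 63579 1000
 (.node .nil 63586 663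
 .nil)))))) 63642 2359
 (.node (.node (.node (.node (.node (.node (.node .nil 63651 791
 .nil) 63678 696
 .nil) 63681 790
 (.node .nil 63708 1087
 .nil)) 63717 1702
 (.node (.node (.node .nil 63763 530
 .nil) 63777 1302
 .nil) 63794 2470
 (.node .nil 63822 430
 .nil))) 63837 1206
 (.node (.node (.node (.node .nil 63868 461
 .nil) 63877 1837
 .nil) 63908 1414
 (.node .nil 63927 2338
 .nil)) 63947 2256
 (.node (.node (.node .nil 63960 1425
 .nil) 63978 1926
 .nil) 64023 570
 (.node .nil 64041 2050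
 .nil)))) 64062 1404
 (.node (.node (.node (.node (.node .nil 64072 51
 .nil) 64097 1527
 .nil) 64118 111
 (.node .nil 64140 997
 .nil)) 64155 543
 (.node (.node (.node .nil 64178 2062
 .nil) 64196 806
 .nil) 64211 2204
 (.node .nil 64237 154
 .nil))) 64281 2105
 (.node (.node (.node (.node .nil 64300 1794
 .nil) 64309 204
 .nil) 64342 2074
 (.node .nil 64355 514
 .nil)) 64378 287
 (.node (.node .nil 64385 2477
 .nil) 64408 1972
 (.node .nil 64429 1500
 .nil))))) 64462 433
 (.node (.node (.node (.node (.node (.node .nil 64471 1262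
 .nil) 64482 536
 .nil) 64538 941
 (.node .nil 64549 2392
 .nil)) 64589 222
 (.node (.node (.node .nil 64599 1121
 .nil) 64616 186
 .nil) 64626 746
 (.node .nil 64654 1804
 .nil))) 64660 1515
 (.node (.node (.node (.node .nil 64683 1683
 .nil) 64689 903
 .nil) 64729 852
 (.node .nil 64742 2026
 .nil)) 64788 376
 (.node (.node (.node .nil 64827 2394
 .nil) 64837 1267
 .nil) 64849 1429
 (.node .nil 64874 1695
 .nil)))) 64894 141
 (.node (.node (.node (.node (.node .nil 64899 150
 .nil) 64919 1270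
 .nil) 64940 342
 (.node .nil 64952 2466
 .nil)) 64966 1680
 (.node (.node (.node .nil 65001 1985
 .nil) 65064 627
 .nil) 65079 2452
 (.node .nil 65091 644
 .nil))) 65116 1747
 (.node (.node (.node (.node .nil 65131 646
 .nil) 65140 144
 .nil) 65162 1728
 (.node .nil 65173 1347
 .nil)) 65186 236
 (.node (.node .nil 65213 1328
 .nil) 65225 2023
 (.node .nil 65238 2196
 .nil)))))))))))

/-- the search tree for the permutations. -/
def PTree : KT :=
 (.node (.node (.node (.node (.node (.node (.node (.node (.node (.node (.node (.node .nil 42805 1633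
 .nil) 42854 1521
 .nil) 42924 2406
 (.node .nil 43246 696
 .nil)) 43379 913
 (.node (.node (.node .nil 43421 1259
 .nil) 43764 1089
 .nil) 43806 2150
 (.node .nil 43939 1342
 .nil))) 44261 1243
 (.node (.node (.node (.node .nil 44331 1376
 .nil) 44380 1449
 .nil) 46382 892
 (.node .nil 46452 938
 .nil)) 46501 1161
 (.node (.node (.node .nil 47285 811
 .nil) 47446 636
 .nil) 47530 1953
 (.node .nil 47782 1999
 .nil)))) 47922 1431
 (.node (.node (.node (.node (.node .nil 48020 1054
 .nil) 48300 753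
 .nil) 48405 526
 (.node .nil 48482 390
 .nil)) 50421 1691
 (.node (.node (.node .nil 50526 2391
 .nil) 50603 1889
 .nil) 50862 1223
 (.node .nil 51058 672
 .nil))) 51093 630
 (.node (.node (.node (.node .nil 51891 1784
 .nil) 51926 1288
 .nil) 52122 297
 (.node .nil 52381 504
 .nil)) 52458 1927
 (.node (.node (.node .nil 52563 1486
 .nil) 54502 423
 .nil) 54579 207
 (.node .nil 54684 1835
 .nil))))) 54964 886
 (.node (.node (.node (.node (.node (.node .nil 55062 539
 .nil) 55202 511
 .nil) 55454 1714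
 (.node .nil 55538 1550
 .nil)) 55699 880
 (.node (.node (.node .nil 56483 2072
 .nil) 56532 2477
 .nil) 56602 2355
 (.node .nil 58604 276
 .nil))) 58653 922
 (.node (.node (.node (.node .nil 58723 1303
 .nil) 59045 1263
 .nil) 59178 1962
 (.node .nil 59220 2324
 .nil)) 59563 157
 (.node (.node (.node .nil 59605 1177
 .nil) 59738 1421
 .nil) 60060 1174
 (.node .nil 60130 726
 .nil)))) 60179 1774
 (.node (.node (.node (.node (.node .nil 71470 2510
 .nil) 71540 1820
 .nil) 71589 1380
 (.node .nil 71925 329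
 .nil)) 72030 736
 (.node (.node (.node .nil 72107 2402
 .nil) 72422 827
 .nil) 72499 33
 (.node .nil 72604 2353
 .nil))) 72940 2322
 (.node (.node (.node (.node .nil 72989 183
 .nil) 73059 684
 .nil) 78645 1831
 (.node .nil 78694 280
 .nil)) 78764 317
 (.node (.node .nil 79982 494
 .nil) 80241 1395
 (.node .nil 80269 1088
 .nil)))))) 80500 1978
 (.node (.node (.node (.node (.node (.node (.node .nil 80654 876
 .nil) 80801 1730
 .nil) 80997 1957
 (.node .nil 81193 2299
 .nil)) 81228 535
 (.node (.node (.node .nil 82670 943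
 .nil) 82803 428
 .nil) 82845 396
 (.node .nil 83573 521
 .nil))) 83790 1506
 (.node (.node (.node (.node .nil 83881 1435
 .nil) 84574 1001
 .nil) 84721 2282
 (.node .nil 84875 214
 .nil)) 85099 1677
 (.node (.node (.node .nil 85197 1535
 .nil) 85337 45
 .nil) 86772 653
 (.node .nil 86814 1257
 .nil)))) 86947 1604
 (.node (.node (.node (.node (.node .nil 87654 194
 .nil) 87857 1512
 .nil) 87948 138
 (.node .nil 88179 2451
 .nil)) 88270 1637
 (.node (.node (.node .nil 88473 2171
 .nil) 89180 816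
 .nil) 89313 2388
 (.node .nil 89355 1051
 .nil))) 90853 203
 (.node (.node (.node (.node .nil 90923 871
 .nil) 90972 2231
 .nil) 91756 451
 (.node .nil 91917 1192
 .nil)) 92001 1083
 (.node (.node (.node .nil 92253 1739
 .nil) 92393 1665
 .nil) 92491 2424
 (.node .nil 92771 1651
 .nil))))) 92876 2371
 (.node (.node (.node (.node (.node (.node .nil 92953 1044
 .nil) 103733 384
 .nil) 103782 1990
 (.node .nil 103852 660
 .nil)) 104622 1884
 (.node (.node (.node .nil 104818 472
 .nil) 104853 442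
 .nil) 105140 840
 (.node .nil 105238 1209
 .nil))) 105378 2435
 (.node (.node (.node (.node .nil 105637 2081
 .nil) 105770 413
 .nil) 105812 175
 (.node .nil 107310 2504
 .nil)) 107380 106
 (.node (.node (.node .nil 107429 498
 .nil) 108661 1071
 .nil) 108878 1914
 (.node .nil 108969 604
 .nil)))) 109158 243
 (.node (.node (.node (.node (.node .nil 109361 2340
 .nil) 109452 1010
 .nil) 109676 2480
 (.node .nil 109837 2033
 .nil)) 109921 1273
 (.node (.node (.node .nil 115381 1031
 .nil) 115542 2192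
 .nil) 115626 750
 (.node .nil 115822 465
 .nil))) 116081 1954
 (.node (.node (.node (.node .nil 116109 609
 .nil) 117362 101
 .nil) 117390 972
 (.node .nil 117649 1332
 .nil)) 117845 2463
 (.node (.node .nil 117929 1591
 .nil) 118090 1058
 (.node .nil 119462 1532
 .nil))))))) 119602 148
 (.node (.node (.node (.node (.node (.node (.node (.node .nil 119700 1307
 .nil) 119924 2093
 .nil) 120078 1872
 (.node .nil 120225 1790
 .nil)) 120918 1945
 (.node (.node (.node .nil 121009 1133
 .nil) 121226 1967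
 .nil) 121954 1934
 (.node .nil 121996 635
 .nil))) 122129 850
 (.node (.node (.node (.node .nil 123564 211
 .nil) 123669 230
 .nil) 123746 1809
 (.node .nil 124005 1092
 .nil)) 124201 22
 (.node (.node (.node .nil 124236 1725
 .nil) 125034 1982
 .nil) 125069 1432
 (.node .nil 125265 1767
 .nil)))) 125524 287
 (.node (.node (.node (.node (.node .nil 125601 1867
 .nil) 125706 939
 .nil) 136430 125
 (.node .nil 136563 2163
 .nil)) 136605 847
 (.node (.node (.node .nil 136885 222
 .nil) 137046 918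
 .nil) 137130 47
 (.node .nil 137886 1765
 .nil))) 137970 620
 (.node (.node (.node (.node .nil 138131 2002
 .nil) 138411 2302
 .nil) 138453 2412
 (.node .nil 138586 2261
 .nil)) 140021 769
 (.node (.node (.node .nil 140126 331
 .nil) 140203 1710
 .nil) 140910 2351
 (.node .nil 141169 1893
 .nil))))) 141197 1231
 (.node (.node (.node (.node (.node (.node .nil 141939 1966
 .nil) 142030 179
 .nil) 142233 2490
 (.node .nil 142429 652
 .nil)) 142569 457
 (.node (.node (.node .nil 142667 308
 .nil) 144046 903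
 .nil) 144242 239
 (.node .nil 144277 2090
 .nil))) 144501 1540
 (.node (.node (.node (.node .nil 144718 718
 .nil) 144809 2468
 .nil) 146006 2329
 (.node .nil 146097 4
 .nil)) 146314 832
 (.node (.node (.node .nil 146538 987
 .nil) 146573 1212
 .nil) 146769 1069
 (.node .nil 152243 2409
 .nil)))) 152278 1104
 (.node (.node (.node (.node (.node .nil 152474 27
 .nil) 152670 2025
 .nil) 152817 1454
 (.node .nil 152971 1528
 .nil)) 153202 1988
 (.node (.node (.node .nil 153230 2056
 .nil) 153489 2065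
 .nil) 154707 468
 (.node .nil 154777 1804
 .nil))) 154826 1615
 (.node (.node (.node (.node .nil 156317 361
 .nil) 156394 1938
 .nil) 156499 995
 (.node .nil 156779 1035
 .nil)) 156877 1606
 (.node (.node .nil 157017 1908
 .nil) 157269 1148
 (.node .nil 157353 1405
 .nil)))))) 157514 2230
 (.node (.node (.node (.node (.node (.node (.node .nil 158298 2337
 .nil) 158347 746
 .nil) 158417 1313
 (.node .nil 169204 1481
 .nil)) 169246 91
 (.node (.node (.node .nil 169379 416
 .nil) 169638 370
 .nil) 169778 2408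
 (.node .nil 169876 204
 .nil))) 170163 2358
 (.node (.node (.node (.node .nil 170198 479
 .nil) 170394 2314
 .nil) 171164 238
 (.node .nil 171234 1970
 .nil)) 171283 1389
 (.node (.node (.node .nil 172774 444
 .nil) 172851 1198
 .nil) 172956 121
 (.node .nil 173684 638
 .nil)))) 173838 1367
 (.node (.node (.node (.node (.node .nil 173985 10
 .nil) 174174 1568
 .nil) 174321 1648
 (.node .nil 174475 1822
 .nil)) 175203 1418
 (.node (.node (.node .nil 175308 1208
 .nil) 175385 1163
 .nil) 176820 1696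
 (.node .nil 176918 55
 .nil))) 177058 2516
 (.node (.node (.node (.node .nil 177254 2404
 .nil) 177457 764
 .nil) 177548 2434
 (.node .nil 178290 819
 .nil)) 178318 584
 (.node (.node (.node .nil 178577 1855
 .nil) 179284 2416
 .nil) 179361 2054
 (.node .nil 179466 1291
 .nil))))) 180894 1052
 (.node (.node (.node (.node (.node (.node .nil 180978 1574
 .nil) 181139 77
 .nil) 181363 1750
 (.node .nil 181454 691
 .nil)) 181657 2021
 (.node (.node (.node .nil 181846 1494
 .nil) 181937 1180
 .nil) 182154 1249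
 (.node .nil 183386 1324
 .nil))) 183435 1350
 (.node (.node (.node (.node .nil 183505 2368
 .nil) 189091 1279
 .nil) 189140 597
 (.node .nil 189210 1619
 .nil)) 189532 2135
 (.node (.node (.node .nil 189665 2360
 .nil) 189707 1846
 .nil) 190050 252
 (.node .nil 190092 337
 .nil)))) 190225 1687
 (.node (.node (.node (.node (.node .nil 190547 1114
 .nil) 190617 803
 .nil) 190666 559
 (.node .nil 201957 1795
 .nil)) 202027 1998
 (.node (.node (.node .nil 202076 2515
 .nil) 202412 1340
 .nil) 202517 2208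
 (.node .nil 202594 65
 .nil))) 202909 1384
 (.node (.node (.node (.node .nil 202986 1160
 .nil) 203091 344
 .nil) 203427 23
 (.node .nil 203476 1235
 .nil)) 203546 2431
 (.node (.node .nil 205548 510
 .nil) 205597 574
 (.node .nil 205667 1979
 .nil)))))))) 206437 1905
 (.node (.node (.node (.node (.node (.node (.node (.node (.node .nil 206633 1758
 .nil) 206668 1032
 .nil) 206955 1852
 (.node .nil 207053 930
 .nil)) 207193 790
 (.node (.node (.node .nil 207452 867
 .nil) 207585 1987
 .nil) 207627 1672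
 (.node .nil 209573 1116
 .nil))) 209706 176
 (.node (.node (.node (.node .nil 209748 433
 .nil) 210028 366
 .nil) 210189 263
 (.node .nil 210273 730
 .nil)) 211029 1349
 (.node (.node (.node .nil 211113 2270
 .nil) 211274 1629
 .nil) 211554 1877
 (.node .nil 211596 1320
 .nil)))) 211729 2182
 (.node (.node (.node (.node (.node .nil 213675 382
 .nil) 213717 2009
 .nil) 213850 950
 (.node .nil 214109 745
 .nil)) 214249 1194
 (.node (.node (.node .nil 214347 1802
 .nil) 214634 2042
 .nil) 214669 959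
 (.node .nil 214865 1618
 .nil))) 215635 2237
 (.node (.node (.node (.node .nil 215705 1467
 .nil) 215754 2417
 .nil) 217756 1511
 (.node .nil 217826 762
 .nil)) 217875 707
 (.node (.node (.node .nil 218211 569
 .nil) 218316 2104
 .nil) 218393 2036
 (.node .nil 218708 968
 .nil))))) 218785 2305
 (.node (.node (.node (.node (.node (.node .nil 218890 402
 .nil) 219226 2236
 .nil) 219275 2128
 (.node .nil 219345 1
 .nil)) 272174 1937
 (.node (.node (.node .nil 272244 2095
 .nil) 272293 2457
 .nil) 272629 1961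
 (.node .nil 272734 2248
 .nil))) 272811 74
 (.node (.node (.node (.node .nil 273126 2001
 .nil) 273203 1764
 .nil) 273308 619
 (.node .nil 273644 46
 .nil)) 273693 1851
 (.node (.node (.node .nil 273763 1446
 .nil) 275765 890
 .nil) 275814 581
 (.node .nil 275884 1870
 .nil)))) 276654 1028
 (.node (.node (.node (.node (.node .nil 276850 1903
 .nil) 276885 1605
 .nil) 277172 2123
 (.node .nil 277270 1496
 .nil)) 277410 1312
 (.node (.node (.node .nil 277669 38
 .nil) 277802 1705
 .nil) 277844 2229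
 (.node .nil 279790 1709
 .nil))) 279923 330
 (.node (.node (.node (.node .nil 279965 768
 .nil) 280245 651
 .nil) 280406 8
 (.node .nil 280490 1228
 .nil)) 281246 1965
 (.node (.node .nil 281330 1206
 .nil) 281491 171
 (.node .nil 281771 2350
 .nil)))))) 281813 1800
 (.node (.node (.node (.node (.node (.node (.node .nil 281946 1897
 .nil) 283892 18
 .nil) 283934 1841
 (.node .nil 284067 1112
 .nil)) 284326 1248
 (.node (.node (.node .nil 284466 322
 .nil) 284564 2309
 .nil) 284851 2308
 (.node .nil 284886 1527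
 .nil))) 285082 2191
 (.node (.node (.node (.node .nil 285852 2252
 .nil) 285922 595
 .nil) 285971 1278
 (.node .nil 287973 2108
 .nil)) 288043 1269
 (.node (.node (.node .nil 288092 1191
 .nil) 288428 986
 .nil) 288533 1068
 (.node .nil 288610 2279
 .nil)))) 288925 89
 (.node (.node (.node (.node (.node .nil 289002 2047
 .nil) 289107 717
 .nil) 289443 2389
 (.node .nil 289492 2460
 .nil)) 289562 3
 (.node (.node (.node .nil 329525 503
 .nil) 329574 1485
 .nil) 329644 1926
 (.node .nil 329966 1888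
 .nil))) 330099 2390
 (.node (.node (.node (.node .nil 330141 312
 .nil) 330484 296
 .nil) 330526 1783
 (.node .nil 330659 1319
 .nil)) 330981 1779
 (.node (.node (.node .nil 331051 1222
 .nil) 331100 681
 .nil) 340270 168
 (.node .nil 340340 1993
 .nil))))) 340389 2050
 (.node (.node (.node (.node (.node (.node .nil 342069 716
 .nil) 342342 1300
 .nil) 342440 2114
 (.node .nil 342566 1883
 .nil)) 342832 1173
 (.node (.node (.node .nil 342916 41
 .nil) 343084 1190
 .nil) 343301 1268
 (.node .nil 343392 2107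
 .nil))) 344309 1258
 (.node (.node (.node (.node .nil 344414 912
 .nil) 344491 695
 .nil) 345646 325
 (.node .nil 345968 1448
 .nil)) 345989 1240
 (.node (.node (.node .nil 346675 482
 .nil) 346822 1152
 .nil) 347032 650
 (.node .nil 347165 1632
 .nil)))) 347368 780
 (.node (.node (.node (.node (.node .nil 347459 1708
 .nil) 348390 879
 .nil) 348467 1495
 (.node .nil 348572 2085
 .nil)) 349748 1892
 (.node (.node (.node .nil 349958 2240
 .nil) 350112 1413
 .nil) 350238 199
 (.node .nil 350448 1834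
 .nil))) 350595 1141
 (.node (.node (.node (.node .nil 351267 305
 .nil) 351428 2293
 .nil) 351512 889
 (.node .nil 352492 618
 .nil)) 352541 1763
 (.node (.node .nil 352611 1546
 .nil) 353829 2328
 (.node .nil 354088 752
 .nil))))))) 354116 389
 (.node (.node (.node (.node (.node (.node (.node (.node .nil 354347 891
 .nil) 354501 124
 .nil) 354648 937
 (.node .nil 354844 1430
 .nil)) 355040 1047
 (.node (.node (.node .nil 355075 2141
 .nil) 361774 381
 .nil) 361844 1417
 (.node .nil 361893 2185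
 .nil))) 362677 793
 (.node (.node (.node (.node .nil 362838 1801
 .nil) 362922 1188
 .nil) 363174 2267
 (.node .nil 363314 1466
 .nil)) 363412 2273
 (.node (.node (.node .nil 363692 166
 .nil) 363797 2162
 .nil) 363874 1617
 (.node .nil 368949 971
 .nil)))) 368998 343
 (.node (.node (.node (.node (.node .nil 369068 1159
 .nil) 370734 1997
 .nil) 371056 607
 (.node .nil 371077 2318
 .nil)) 371252 2335
 (.node (.node (.node .nil 371462 593
 .nil) 371616 675
 .nil) 371749 2196
 (.node .nil 372008 1029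
 .nil))) 372036 64
 (.node (.node (.node (.node .nil 377006 1850
 .nil) 377202 1024
 .nil) 377237 929
 (.node .nil 377909 162
 .nil)) 378182 1977
 (.node (.node (.node .nil 378280 509
 .nil) 379414 1265
 .nil) 379568 866
 (.node .nil 379778 2011
 .nil))))) 379946 104
 (.node (.node (.node (.node (.node (.node .nil 380037 1762
 .nil) 380240 1424
 .nil) 381108 2235
 (.node .nil 381206 1919
 .nil)) 381346 87
 (.node (.node (.node .nil 381990 706
 .nil) 382256 1510
 .nil) 382340 761
 (.node .nil 383026 1985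
 .nil))) 383110 20
 (.node (.node (.node (.node .nil 383376 1021
 .nil) 384020 401
 .nil) 384160 1581
 (.node .nil 384258 783
 .nil)) 385189 1348
 (.node (.node (.node .nil 385322 2513
 .nil) 385364 1628
 .nil) 386092 2005
 (.node .nil 386309 1115
 .nil)))) 386400 440
 (.node (.node (.node (.node (.node .nil 387093 262
 .nil) 387240 365
 .nil) 387394 679
 (.node .nil 387618 173
 .nil)) 387716 740
 (.node (.node (.node .nil 387856 1317
 .nil) 394485 395
 .nil) 394590 427
 (.node .nil 394667 936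
 .nil))) 394926 1676
 (.node (.node (.node (.node .nil 395122 44
 .nil) 395157 2250
 .nil) 395955 1049
 (.node .nil 395990 2035
 .nil)) 396186 814
 (.node (.node .nil 396445 520
 .nil) 396522 1427
 (.node .nil 396627 1505
 .nil)))))) 401646 2281
 (.node (.node (.node (.node (.node (.node (.node .nil 401779 735
 .nil) 401821 328
 .nil) 402997 669
 (.node .nil 403270 683
 .nil)) 403368 2405
 (.node (.node (.node .nil 403998 43
 .nil) 404208 2046
 .nil) 404355 826
 (.node .nil 404523 426
 .nil))) 404677 1379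
 (.node (.node (.node (.node .nil 404824 1302
 .nil) 405685 2077
 .nil) 405846 1777
 (.node .nil 405930 1899
 .nil)) 406574 870
 (.node (.node (.node .nil 406896 1704
 .nil) 406917 202
 .nil) 408114 1043
 (.node .nil 408198 1650
 .nil)))) 408464 1916
 (.node (.node (.node (.node (.node .nil 408597 279
 .nil) 408744 450
 .nil) 408898 2342
 (.node .nil 413854 2464
 .nil)) 413938 2170
 (.node (.node (.node .nil 414099 1636
 .nil) 414771 1256
 .nil) 414918 1603
 (.node .nil 415128 2193
 .nil))) 415254 1050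
 (.node (.node (.node (.node .nil 415408 815
 .nil) 415618 438
 .nil) 416794 1952
 (.node .nil 416899 193
 .nil)) 416976 201
 (.node (.node .nil 417963 782
 .nil) 418005 573
 (.node .nil 418138 1394
 .nil))))) 418845 1242
 (.node (.node (.node (.node (.node (.node .nil 419048 327
 .nil) 419139 154
 .nil) 419370 1817
 (.node .nil 419461 2376
 .nil)) 419664 1378
 (.node (.node (.node .nil 420371 682
 .nil) 420504 1122
 .nil) 420546 1729
 (.node .nil 427238 86
 .nil))) 427315 2382
 (.node (.node (.node (.node .nil 427420 1573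
 .nil) 427700 1607
 .nil) 427798 1347
 (.node .nil 427938 1626
 .nil)) 428190 1749
 (.node (.node (.node .nil 428274 2020
 .nil) 428435 906
 .nil) 429219 705
 (.node .nil 429268 760
 .nil)))) 429338 1503
 (.node (.node (.node (.node (.node .nil 434420 2287
 .nil) 434462 2363
 .nil) 434595 2441
 (.node .nil 435750 1388
 .nil)) 436016 237
 (.node (.node (.node .nil 436100 2212
 .nil) 436275 90
 .nil) 436422 415
 (.node .nil 436632 792
 .nil))) 437276 1416
 (.node (.node (.node (.node .nil 437472 2247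
 .nil) 437507 380
 .nil) 438438 1113
 (.node .nil 438578 802
 .nil)) 438676 558
 (.node (.node .nil 439348 1627
 .nil) 439558 777
 (.node .nil 439712 596
 .nil))))))))) 440342 1845
 (.node (.node (.node (.node (.node (.node (.node (.node (.node (.node .nil 440496 378
 .nil) 440706 364
 .nil) 441378 1880
 (.node .nil 441476 2183
 .nil)) 441616 336
 (.node (.node (.node .nil 442547 994
 .nil) 442582 1821
 .nil) 442778 1298
 (.node .nil 443422 2317
 .nil))) 443632 1462
 (.node (.node (.node (.node .nil 443779 443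
 .nil) 443954 1156
 .nil) 444038 2132
 (.node .nil 444304 1207
 .nil)) 445459 1366
 (.node (.node (.node .nil 445592 590
 .nil) 445634 9
 .nil) 450716 818
 (.node .nil 450786 1234
 .nil)))) 450835 592
 (.node (.node (.node (.node (.node .nil 451619 54
 .nil) 451780 1158
 .nil) 451864 1695
 (.node .nil 452116 84
 .nil)) 452256 2415
 (.node (.node (.node .nil 452354 1358
 .nil) 452634 758
 .nil) 452739 1996
 (.node .nil 452816 1925
 .nil))) 460012 1904
 (.node (.node (.node (.node .nil 460061 1030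
 .nil) 460131 878
 .nil) 460453 538
 (.node .nil 460586 1943
 .nil)) 460628 2292
 (.node (.node (.node .nil 460971 464
 .nil) 461013 608
 .nil) 461146 1833
 (.node .nil 461468 1707
 .nil))))) 461538 1331
 (.node (.node (.node (.node (.node (.node .nil 461587 566
 .nil) 467173 441
 .nil) 467243 2393
 (.node .nil 467292 316
 .nil)) 468524 741
 (.node (.node (.node .nil 468741 80
 .nil) 468832 174
 .nil) 469021 383
 (.node .nil 469224 659
 .nil))) 469315 1895
 (.node (.node (.node (.node .nil 469539 1205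
 .nil) 469700 1922
 .nil) 469784 839
 (.node .nil 471212 1429
 .nil)) 471317 1819
 (.node (.node (.node .nil 471394 1766
 .nil) 472101 229
 .nil) 472360 784
 (.node .nil 472388 1808
 .nil)))) 473130 21
 (.node (.node (.node (.node (.node .nil 473221 1091
 .nil) 473424 1444
 .nil) 473620 375
 (.node .nil 473760 2154
 .nil)) 473858 1741
 (.node (.node (.node .nil 475293 1066
 .nil) 475370 2137
 .nil) 475475 1913
 (.node .nil 476203 2505
 .nil))) 476357 694
 (.node (.node (.node (.node .nil 476504 105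
 .nil) 476693 2034
 .nil) 476840 1623
 (.node .nil 476994 1272
 .nil)) 477722 1447
 (.node (.node .nil 477827 236
 .nil) 477904 1009
 (.node .nil 479395 1882
 .nil)))))) 479444 1476
 (.node (.node (.node (.node (.node (.node (.node .nil 479514 1172
 .nil) 480284 147
 .nil) 480480 1630
 (.node .nil 480515 1860
 .nil)) 480802 846
 (.node (.node (.node .nil 480900 1756
 .nil) 481040 1110
 .nil) 481299 1871
 (.node .nil 481432 1295
 .nil))) 481474 1789
 (.node (.node (.node (.node .nil 530229 2366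
 .nil) 530278 1602
 .nil) 530348 549
 (.node .nil 530670 935
 .nil)) 530803 478
 (.node (.node (.node .nil 530845 2357
 .nil) 531188 813
 .nil) 531230 1048
 (.node .nil 531363 369
 .nil)))) 531685 2249
 (.node (.node (.node (.node (.node .nil 531755 1683
 .nil) 531804 982
 .nil) 537390 781
 (.node .nil 537460 2514
 .nil)) 537509 572
 (.node (.node (.node .nil 538741 1241
 .nil) 538958 153
 .nil) 539049 326
 (.node .nil 539238 251
 .nil))) 539441 1121
 (.node (.node (.node (.node .nil 539532 2233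
 .nil) 539756 1816
 .nil) 539917 2375
 (.node .nil 540001 1377
 .nil)) 541429 76
 (.node (.node (.node .nil 541534 729
 .nil) 541611 2280
 .nil) 542318 425
 (.node .nil 542577 1301
 .nil))))) 542605 1411
 (.node (.node (.node (.node (.node (.node .nil 543347 42
 .nil) 543438 1675
 .nil) 543641 2045
 (.node .nil 543837 668
 .nil)) 543977 217
 (.node (.node (.node .nil 544075 690
 .nil) 545510 1647
 .nil) 545587 1752
 (.node .nil 545692 2370
 .nil))) 546420 2503
 (.node (.node (.node (.node .nil 546574 186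
 .nil) 546721 200
 .nil) 546910 2029
 (.node .nil 547057 1854
 .nil)) 547211 583
 (.node (.node (.node .nil 547939 2048
 .nil) 548044 437
 .nil) 548121 858
 (.node .nil 549612 120
 .nil)))) 549661 1515
 (.node (.node (.node (.node (.node .nil 549731 1176
 .nil) 550501 278
 .nil) 550697 1577
 (.node .nil 550732 2341
 .nil)) 551019 1387
 (.node (.node (.node .nil 551117 2207
 .nil) 551257 1703
 .nil) 551516 656
 (.node .nil 551649 561
 .nil))) 551691 2298
 (.node (.node (.node (.node .nil 558894 2348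
 .nil) 558964 1896
 .nil) 559013 1799
 (.node .nil 559349 1217
 .nil)) 559454 1074
 (.node (.node .nil 559531 1713
 .nil) 559846 170
 (.node .nil 559923 2428
 .nil))))))) 560028 885
 (.node (.node (.node (.node (.node (.node (.node (.node .nil 560364 1684
 .nil) 560413 2291
 .nil) 560483 7
 (.node .nil 569653 88
 .nil)) 569702 725
 (.node (.node (.node .nil 569772 1732
 .nil) 571438 1434
 .nil) 571760 2381
 (.node .nil 571781 156
 .nil))) 571956 142
 (.node (.node (.node (.node .nil 572166 2377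
 .nil) 572320 1262
 .nil) 572453 1067
 (.node .nil 572712 942
 .nil)) 572740 275
 (.node (.node (.node .nil 573678 73
 .nil) 573811 1287
 .nil) 573853 1956
 (.node .nil 575029 1586
 .nil)))) 575302 1445
 (.node (.node (.node (.node (.node .nil 575400 1004
 .nil) 576030 671
 .nil) 576240 629
 (.node .nil 576387 2365
 .nil)) 576555 1936
 (.node (.node (.node .nil 576709 2140
 .nil) 576856 2094
 .nil) 577780 2052
 (.node .nil 577822 2307
 .nil))) 577955 1992
 (.node (.node (.node (.node .nil 579110 1016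
 .nil) 579376 525
 .nil) 579460 594
 (.node .nil 579635 1840
 .nil)) 579782 1111
 (.node (.node (.node .nil 579992 17
 .nil) 580636 321
 .nil) 580832 1917
 (.node .nil 580867 1211
 .nil))))) 581861 2224
 (.node (.node (.node (.node (.node (.node .nil 581931 1027
 .nil) 581980 1902
 .nil) 583212 1077
 (.node .nil 583429 37
 .nil)) 583520 2099
 (.node (.node (.node .nil 583709 1120
 .nil) 583912 1869
 .nil) 584003 580
 (.node .nil 584227 1520
 .nil))) 584388 1310
 (.node (.node (.node (.node .nil 584472 2122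
 .nil) 623413 1065
 .nil) 623462 1907
 (.node .nil 623532 1034
 .nil)) 624750 2482
 (.node (.node (.node .nil 625009 116
 .nil) 625037 693
 .nil) 625268 967
 (.node .nil 625422 235
 .nil)))) 625569 1504
 (.node (.node (.node (.node (.node .nil 625765 568
 .nil) 625961 1622
 .nil) 625996 1400
 (.node .nil 626990 456
 .nil)) 627060 1832
 (.node (.node (.node .nil 627109 617
 .nil) 628789 2275
 .nil) 629062 877
 (.node .nil 629160 1383
 .nil))) 629286 565
 (.node (.node (.node (.node .nil 629552 178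
 .nil) 629636 1339
 .nil) 629804 1323
 (.node .nil 630021 537
 .nil)) 630112 1794
 (.node (.node .nil 639093 1197
 .nil) 639310 1087
 (.node .nil 639401 2450
 .nil)))))) 639534 949
 (.node (.node (.node (.node (.node (.node (.node .nil 639856 315
 .nil) 639877 664
 .nil) 641585 831
 (.node .nil 641606 1204
 .nil)) 641928 958
 (.node (.node (.node .nil 642061 79
 .nil) 642152 744
 .nil) 642369 1778
 (.node .nil 643174 1876
 .nil))) 643377 1294
 (.node (.node (.node (.node .nil 643468 2251
 .nil) 643636 432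
 .nil) 643846 1881
 (.node .nil 644000 1475
 .nil)) 645134 1859
 (.node (.node (.node .nil 645232 586
 .nil) 645505 2049
 .nil) 646177 26
 (.node .nil 646212 845
 .nil)))) 646408 1755
 (.node (.node (.node (.node (.node .nil 647276 553
 .nil) 647437 2458
 .nil) 647521 1443
 (.node .nil 647717 2444
 .nil)) 647976 1428
 (.node (.node (.node .nil 648004 979
 .nil) 649257 789
 .nil) 649285 188
 (.node .nil 649544 2384
 .nil))) 649740 1740
 (.node (.node (.node (.node .nil 649824 374
 .nil) 649985 1757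
 .nil) 656110 704
 (.node .nil 656243 1103
 .nil)) 656285 2197
 (.node (.node .nil 657013 460
 .nil) 657230 1614
 (.node .nil 657321 779
 .nil))))) 658014 481
 (.node (.node (.node (.node (.node (.node .nil 658161 649
 .nil) 658315 1151
 .nil) 658539 182
 (.node .nil 658637 1239
 .nil)) 658777 1453
 (.node (.node (.node .nil 659701 311
 .nil) 659806 2474
 .nil) 659883 2190
 (.node .nil 661038 1215
 .nil))) 661360 680
 (.node (.node (.node (.node .nil 661381 1070
 .nil) 662067 917
 .nil) 662214 1318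
 (.node .nil 662424 242
 .nil)) 662557 497
 (.node (.node (.node .nil 662760 835
 .nil) 662851 2064
 .nil) 667758 2487
 (.node .nil 668017 1038
 .nil)))) 668045 123
 (.node (.node (.node (.node (.node .nil 668213 1406
 .nil) 668486 1545
 .nil) 668584 360
 (.node .nil 670222 2138
 .nil)) 670320 1147
 (.node (.node (.node .nil 670593 1046
 .nil) 670761 749
 .nil) 670789 2507
 (.node .nil 671048 1025
 .nil))) 675955 198
 (.node (.node (.node (.node .nil 676046 849
 .nil) 676249 301
 .nil) 676382 225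
 (.node .nil 676592 2089
 .nil)) 676739 902
 (.node (.node .nil 677425 888
 .nil) 677446 304
 (.node .nil 677768 2264
 .nil)))))))) 678923 2336
 (.node (.node (.node (.node (.node (.node (.node (.node (.node .nil 679000 1598
 .nil) 679105 1412
 .nil) 680029 715
 (.node .nil 680169 2112
 .nil)) 680267 1299
 (.node (.node (.node .nil 680491 167
 .nil) 680645 2492
 .nil) 680792 1989
 (.node .nil 681485 307
 .nil))) 681576 1189
 (.node (.node (.node (.node .nil 681793 471
 .nil) 682521 1596
 .nil) 682563 2401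
 (.node .nil 682696 30
 .nil)) 688884 1297
 (.node (.node (.node .nil 688926 993
 .nil) 689059 1531
 .nil) 689766 1246
 (.node .nil 689969 589
 .nil)))) 690060 291
 (.node (.node (.node (.node (.node .nil 690291 2316
 .nil) 690382 2498
 .nil) 690585 1132
 (.node .nil 691292 1155
 .nil)) 691425 1716
 (.node (.node (.node .nil 691467 2145
 .nil) 692454 905
 .nil) 692531 1719
 (.node .nil 692636 1567
 .nil))) 693812 1502
 (.node (.node (.node (.node .nil 694022 412
 .nil) 694176 759
 .nil) 694302 2447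
 (.node .nil 694512 773
 .nil)) 694659 85
 (.node (.node (.node .nil 695331 1346
 .nil) 695492 1057
 .nil) 695576 2425
 (.node .nil 700532 286
 .nil))))) 700686 925
 (.node (.node (.node (.node (.node (.node .nil 700833 1306
 .nil) 700966 591
 .nil) 701232 2228
 (.node .nil 701316 1233
 .nil)) 702513 2121
 (.node (.node (.node .nil 702534 1136
 .nil) 702856 1157
 .nil) 703500 1357
 (.node .nil 703584 83
 .nil))) 703745 989
 (.node (.node (.node (.node .nil 704606 100
 .nil) 704753 791
 .nil) 704907 2004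
 (.node .nil 705075 2362
 .nil)) 705222 763
 (.node (.node (.node .nil 705432 2286
 .nil) 706062 379
 .nil) 706160 1415
 (.node .nil 706433 1590
 .nil)))) 707609 2372
 (.node (.node (.node (.node (.node .nil 707651 1277
 .nil) 707784 2211
 .nil) 712803 1844
 (.node .nil 712908 363
 .nil)) 712985 210
 (.node (.node (.node .nil 713244 1646
 .nil) 713440 514
 .nil) 713475 2476
 (.node .nil 714273 2075
 .nil))) 714308 1879
 (.node (.node (.node (.node .nil 714504 2032
 .nil) 714763 776
 .nil) 714840 1562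
 (.node .nil 714945 603
 .nil)) 721637 921
 (.node (.node .nil 721707 1849
 .nil) 721756 641
 (.node .nil 722540 103
 .nil)))))) 722701 1166
 (.node (.node (.node (.node (.node (.node (.node .nil 722785 1420
 .nil) 723037 161
 .nil) 723177 2517
 (.node .nil 723275 1976
 .nil)) 723555 1264
 (.node (.node (.node .nil 723660 137
 .nil) 723737 1201
 .nil) 725228 1187
 (.node .nil 725277 32
 .nil))) 725347 2102
 (.node (.node (.node (.node .nil 726565 2161
 .nil) 726824 165
 .nil) 726852 2321
 (.node .nil 727083 2038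
 .nil)) 727237 2184
 (.node (.node (.node .nil 727384 577
 .nil) 727580 1465
 .nil) 727776 2272
 (.node .nil 727811 2265
 .nil)))) 733285 2030
 (.node (.node (.node (.node (.node .nil 733481 2489
 .nil) 733516 678
 .nil) 733740 2445
 (.node .nil 733957 1690
 .nil)) 734048 267
 (.node (.node (.node .nil 735245 2472
 .nil) 735336 1738
 .nil) 735553 439
 (.node .nil 735777 1316
 .nil))) 735812 172
 (.node (.node (.node (.node .nil 736008 739
 .nil) 737387 1000
 .nil) 737485 2189
 (.node .nil 737625 606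
 .nil)) 737821 970
 (.node (.node (.node .nil 738024 1706
 .nil) 738115 1330
 .nil) 738857 69
 (.node .nil 738885 2195
 .nil))))) 739144 1290
 (.node (.node (.node (.node (.node (.node .nil 739851 648
 .nil) 739928 2175
 .nil) 740033 674
 (.node .nil 741468 1984
 .nil)) 741601 1020
 (.node (.node (.node .nil 741643 19
 .nil) 741923 1918
 .nil) 742084 206
 (.node .nil 742168 1830
 .nil))) 742924 534
 (.node (.node (.node (.node .nil 743008 1972
 .nil) 743169 2061
 .nil) 743449 1818
 (.node .nil 743491 493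
 .nil)) 743624 2462
 (.node (.node (.node .nil 791854 1360
 .nil) 791924 1722
 .nil) 791973 1095
 (.node .nil 792757 196
 .nil)))) 792918 1770
 (.node (.node (.node (.node (.node .nil 793002 1981
 .nil) 793254 302
 .nil) 793394 1337
 (.node .nil 793492 2398
 .nil)) 793772 1890
 (.node (.node (.node .nil 793877 260
 .nil) 793954 1812
 .nil) 795445 698
 (.node .nil 795494 62
 .nil))) 795564 947
 (.node (.node (.node (.node .nil 796782 368
 .nil) 797041 309
 .nil) 797069 2059
 (.node .nil 797300 2041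
 .nil)) 797454 2202
 (.node (.node .nil 797601 998
 .nil) 797797 1329
 (.node .nil 797993 2483
 .nil))))))) 798028 1643
 (.node (.node (.node (.node (.node (.node (.node (.node .nil 803502 2420
 .nil) 803698 2380
 .nil) 803733 1149
 (.node .nil 803957 2080
 .nil)) 804174 2239
 (.node (.node (.node .nil 804265 489
 .nil) 805462 2319
 .nil) 805553 1745
 (.node .nil 805770 97
 .nil))) 805994 1414
 (.node (.node (.node (.node .nil 806029 323
 .nil) 806225 1237
 .nil) 807604 633
 (.node .nil 807702 2485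
 .nil)) 807842 709
 (.node (.node (.node .nil 808038 1543
 .nil) 808241 2144
 .nil) 808332 1950
 (.node .nil 809074 132
 .nil)))) 809102 1674
 (.node (.node (.node (.node (.node .nil 809361 1098
 .nil) 810068 1106
 .nil) 810145 2158
 (.node .nil 810250 1144
 .nil)) 811685 2378
 (.node (.node (.node .nil 811818 409
 .nil) 811860 39
 .nil) 812140 2214
 (.node .nil 812301 387
 .nil))) 812385 114
 (.node (.node (.node (.node .nil 813141 543
 .nil) 813225 2131
 .nil) 813386 2296
 (.node .nil 813666 965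
 .nil)) 813708 865
 (.node (.node (.node .nil 813841 2411
 .nil) 820533 129
 .nil) 820582 1096
 (.node .nil 820652 1782
 .nil))))) 821422 507
 (.node (.node (.node (.node (.node (.node .nil 821618 273
 .nil) 821653 2508
 .nil) 821940 1478
 (.node .nil 822038 2177
 .nil)) 822178 1874
 (.node (.node (.node .nil 822437 1118
 .nil) 822570 624
 .nil) 822612 723
 (.node .nil 827694 1743
 .nil))) 827764 1667
 (.node (.node (.node (.node .nil 827813 1563
 .nil) 829493 953
 .nil) 829766 788
 (.node .nil 829864 2078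
 .nil)) 829990 627
 (.node (.node (.node .nil 830256 1501
 .nil) 830340 486
 .nil) 830508 657
 (.node .nil 830725 1344
 .nil)))) 830816 1624
 (.node (.node (.node (.node (.node .nil 835765 1375
 .nil) 835926 1451
 .nil) 836010 1994
 (.node .nil 836654 991
 .nil)) 836976 1296
 (.node (.node (.node .nil 836997 720
 .nil) 838194 587
 .nil) 838278 1861
 (.node .nil 838544 289
 .nil))) 838677 1261
 (.node (.node (.node (.node .nil 838824 257
 .nil) 838978 945
 .nil) 839846 1134
 (.node .nil 839986 406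
 .nil)) 840084 963
 (.node (.node .nil 840756 2294
 .nil) 840966 145
 (.node .nil 841120 541
 .nil)))))) 841750 112
 (.node (.node (.node (.node (.node (.node (.node .nil 841904 756
 .nil) 842114 1923
 .nil) 842786 882
 (.node .nil 842884 81
 .nil)) 843024 2234
 (.node (.node (.node .nil 843948 1335
 .nil) 844053 774
 .nil) 844130 862
 (.node .nil 844837 1793
 .nil))) 845096 1711
 (.node (.node (.node (.node .nil 845124 1549
 .nil) 845866 376
 .nil) 845957 2290
 (.node .nil 846160 349
 .nil)) 846356 1007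
 (.node (.node (.node .nil 846496 615
 .nil) 846594 2311
 .nil) 852782 358
 (.node .nil 852852 530
 .nil)))) 852901 2063
 (.node (.node (.node (.node (.node .nil 854133 1660
 .nil) 854350 71
 .nil) 854441 713
 (.node .nil 854630 1126
 .nil)) 854833 873
 (.node (.node (.node .nil 854924 688
 .nil) 855148 1524
 .nil) 855309 1827
 (.node .nil 855393 2456
 .nil))) 856373 2083
 (.node (.node (.node (.node .nil 856422 2204
 .nil) 856492 15
 .nil) 858158 1662
 (.node .nil 858480 2509
 .nil)) 858501 1735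
 (.node (.node .nil 858676 1679
 .nil) 858886 1824
 (.node .nil 859040 1554
 .nil))))) 859173 1437
 (.node (.node (.node (.node (.node (.node .nil 859432 319
 .nil) 859460 2006
 .nil) 868462 1471
 (.node .nil 868721 1508
 .nil)) 868749 284
 (.node (.node (.node .nil 868917 2243
 .nil) 869190 108
 .nil) 869288 1220
 (.node .nil 870926 294
 .nil))) 871024 1353
 (.node (.node (.node (.node .nil 871297 2473
 .nil) 871465 1886
 .nil) 871493 269
 (.node .nil 871752 2201
 .nil)) 872564 2014
 (.node (.node (.node .nil 872718 2297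
 .nil) 872865 2219
 .nil) 872998 2088
 (.node .nil 873264 140
 .nil)))) 873348 1100
 (.node (.node (.node (.node (.node .nil 874545 1585
 .nil) 874566 1589
 .nil) 874888 1873
 (.node .nil 875532 2156
 .nil)) 875616 1139
 (.node (.node (.node .nil 875777 1080
 .nil) 876645 578
 .nil) 876841 2373
 (.node .nil 876876 1613
 .nil))) 877100 702
 (.node (.node (.node (.node .nil 877317 2216
 .nil) 877408 2446
 .nil) 878605 611
 (.node .nil 878696 1593
 .nil)) 878913 911
 (.node (.node .nil 879137 35
 .nil) 879172 2331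
 (.node .nil 879368 797
 .nil)))))))))) 918197 961
 (.node (.node (.node (.node (.node (.node (.node (.node (.node (.node (.node .nil 918358 2218
 .nil) 918442 2008
 .nil) 918638 1737
 (.node .nil 918897 1664
 .nil)) 918925 1557
 (.node (.node (.node .nil 920178 743
 .nil) 920206 353
 .nil) 920465 2205
 (.node .nil 920661 2086
 .nil))) 920745 666
 (.node (.node (.node (.node .nil 920906 2277
 .nil) 921774 984
 .nil) 921970 686
 (.node .nil 922005 1124
 .nil)) 922677 1382
 (.node (.node (.node .nil 922950 613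
 .nil) 923048 2037
 .nil) 924182 1170
 (.node .nil 924336 2364
 .nil)))) 924546 220
 (.node (.node (.node (.node (.node .nil 924714 2103
 .nil) 924805 356
 .nil) 925008 435
 (.node .nil 925813 1230
 .nil)) 926030 933
 (.node (.node (.node .nil 926121 110
 .nil) 926254 1063
 .nil) 926576 282
 (.node .nil 926597 2199
 .nil))) 928305 1473
 (.node (.node (.node (.node .nil 928326 2173
 .nil) 928648 1425
 .nil) 928781 1354
 (.node .nil 928872 981
 .nil)) 929089 334
 (.node (.node (.node .nil 938070 151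
 .nil) 938161 786
 .nil) 938378 532
 (.node .nil 938546 1611
 .nil))))) 938630 1807
 (.node (.node (.node (.node (.node (.node .nil 938896 1670
 .nil) 939022 1129
 .nil) 939120 714
 (.node .nil 939393 570
 .nil)) 941073 1526
 (.node (.node (.node .nil 941122 700
 .nil) 941192 875
 .nil) 942186 52
 (.node .nil 942221 1385
 .nil))) 942417 1553
 (.node (.node (.node (.node .nil 942613 2187
 .nil) 942760 2313
 .nil) 942914 429
 (.node .nil 943145 2076
 .nil)) 943173 766
 (.node (.node (.node .nil 943432 2352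
 .nil) 944650 2016
 .nil) 944720 2221
 (.node .nil 944769 1013
 .nil)))) 950950 599
 (.node (.node (.node (.node (.node .nil 951090 1281
 .nil) 951188 1920
 .nil) 951412 313
 (.node .nil 951566 854
 .nil)) 951713 2119
 (.node (.node (.node .nil 952406 556
 .nil) 952497 1362
 .nil) 952714 824
 (.node .nil 953442 2178
 .nil))) 953484 1327
 (.node (.node (.node (.node .nil 953617 60
 .nil) 954548 342
 .nil) 954646 1857
 (.node .nil 954786 247
 .nil)) 955430 795
 (.node (.node .nil 955696 1185
 .nil) 955780 1694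
 (.node .nil 956466 1292
 .nil)))))) 956550 807
 (.node (.node (.node (.node (.node (.node (.node .nil 956816 93
 .nil) 957460 1753
 .nil) 957600 843
 (.node .nil 957698 1108
 .nil)) 958566 869
 (.node (.node (.node .nil 958769 1370
 .nil) 958860 2125
 .nil) 959028 2486
 (.node .nil 959238 563
 .nil))) 959392 1727
 (.node (.node (.node (.node .nil 960526 1649
 .nil) 960624 1275
 .nil) 960897 1153
 (.node .nil 961569 448
 .nil)) 961604 98
 (.node (.node (.node .nil 961800 1941
 .nil) 966770 1254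
 .nil) 966798 2397
 (.node .nil 967057 1492
 .nil)))) 967190 233
 (.node (.node (.node (.node (.node .nil 967344 1407
 .nil) 967554 1610
 .nil) 967729 12
 (.node .nil 967750 2022
 .nil)) 968072 2136
 (.node (.node (.node .nil 969738 1620
 .nil) 969808 1456
 .nil) 969857 1747
 (.node .nil 974932 711
 .nil))) 975009 2181
 (.node (.node (.node (.node .nil 975114 634
 .nil) 975394 546
 .nil) 975492 372
 (.node .nil 975632 1392
 .nil)) 975884 908
 (.node (.node (.node .nil 975968 418
 .nil) 976129 1681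
 .nil) 976913 474
 (.node .nil 976962 1441
 .nil))))) 977032 551
 (.node (.node (.node (.node (.node (.node .nil 983724 2333
 .nil) 983829 646
 .nil) 983906 394
 (.node .nil 984165 95
 .nil)) 984361 897
 (.node (.node (.node .nil 984396 2226
 .nil) 985194 2300
 .nil) 985229 810
 (.node .nil 985425 2422
 .nil))) 985684 249
 (.node (.node (.node (.node .nil 985761 2149
 .nil) 985866 1041
 .nil) 987301 1759
 (.node .nil 987434 2254
 .nil)) 987476 2147
 (.node (.node (.node .nil 988204 271
 .nil) 988421 1839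
 .nil) 988512 476
 (.node .nil 989205 528
 .nil)))) 989352 127
 (.node (.node (.node (.node (.node .nil 989506 1018
 .nil) 989730 722
 .nil) 989828 622
 (.node .nil 989968 1772
 .nil)) 991340 1836
 (.node (.node (.node .nil 991501 1409
 .nil) 991585 1519
 .nil) 991781 1458
 (.node .nil 992040 1373
 .nil))) 992068 2257
 (.node (.node (.node (.node .nil 993321 1266
 .nil) 993349 2100
 .nil) 993608 14
 (.node .nil 993804 163
 .nil)) 993888 1493
 (.node (.node .nil 994049 255
 .nil) 999509 626
 (.node .nil 999593 159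
 .nil))))))) 999754 484
 (.node (.node (.node (.node (.node (.node (.node (.node .nil 999978 118
 .nil) 1000069 518
 .nil) 1000272 1489
 (.node .nil 1000461 1847
 .nil)) 1000552 1022
 (.node (.node (.node .nil 1000769 2491
 .nil) 1002001 1761
 .nil) 1002050 2019
 (.node .nil 1002120 1734
 .nil))) 1003618 2475
 (.node (.node (.node (.node .nil 1003660 1283
 .nil) 1003793 601
 .nil) 1004052 860
 (.node .nil 1004192 191
 .nil)) 1004290 1314
 (.node (.node (.node .nil 1004577 421
 .nil) 1004612 2386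
 .nil) 1004808 1270
 (.node .nil 1005578 1547
 .nil)))) 1005648 676
 (.node (.node (.node (.node (.node .nil 1005697 856
 .nil) 1053941 2194
 .nil) 1054046 1102
 (.node .nil 1054123 703
 .nil)) 1054382 181
 (.node (.node (.node .nil 1054578 1452
 .nil) 1054613 1244
 .nil) 1055411 2151
 (.node .nil 1055446 1341
 .nil))) 1055642 2266
 (.node (.node (.node (.node .nil 1055901 459
 .nil) 1055978 2469
 .nil) 1056083 1522
 (.node .nil 1057518 2142
 .nil)) 1057651 2494
 (.node (.node (.node .nil 1057693 1692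
 .nil) 1058421 496
 .nil) 1058638 1587
 (.node .nil 1058729 834
 .nil))))) 1059422 916
 (.node (.node (.node (.node (.node (.node .nil 1059569 241
 .nil) 1059723 1289
 .nil) 1059947 1214
 (.node .nil 1060045 631
 .nil)) 1060185 673
 (.node (.node (.node .nil 1061557 923
 .nil) 1061718 1304
 .nil) 1061802 277
 (.node .nil 1061998 158
 .nil))) 1062257 1422
 (.node (.node (.node (.node .nil 1062285 1178
 .nil) 1063538 1733
 .nil) 1063566 1775
 (.node .nil 1063825 29
 .nil)) 1064021 306
 (.node (.node (.node .nil 1064105 2092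
 .nil) 1064266 470
 .nil) 1069726 208
 (.node .nil 1069810 300
 .nil)))) 1069971 424
 (.node (.node (.node (.node (.node .nil 1070195 224
 .nil) 1070286 901
 .nil) 1070489 1551
 (.node .nil 1070678 2073
 .nil)) 1070769 1597
 (.node (.node (.node .nil 1070986 2478
 .nil) 1072218 887
 .nil) 1072267 2413
 (.node .nil 1072337 512
 .nil))) 1073835 1717
 (.node (.node (.node (.node .nil 1073877 1162
 .nil) 1074010 1037
 .nil) 1074269 812
 (.node .nil 1074409 359
 .nil)) 1074507 637
 (.node (.node .nil 1074794 748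
 .nil) 1074829 527
 (.node .nil 1075025 1017
 .nil)))))) 1075795 2000
 (.node (.node (.node (.node (.node (.node (.node .nil 1075865 1146
 .nil) 1075914 1055
 .nil) 1082606 2403
 (.node .nil 1082739 728
 .nil)) 1082781 75
 (.node (.node (.node .nil 1083061 184
 .nil) 1083222 689
 .nil) 1083306 216
 (.node .nil 1084062 34
 .nil))) 1084146 2461
 (.node (.node (.node (.node .nil 1084307 2443
 .nil) 1084587 1537
 .nil) 1084629 1410
 (.node .nil 1084762 2501
 .nil)) 1089781 2356
 (.node (.node (.node .nil 1089886 477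
 .nil) 1089963 944
 .nil) 1091118 1682
 (.node .nil 1091440 70
 .nil)))) 1091461 1536
 (.node (.node (.node (.node (.node .nil 1092147 1002
 .nil) 1092294 215
 .nil) 1092504 2283
 (.node .nil 1092637 727
 .nil)) 1092840 548
 (.node (.node (.node .nil 1092931 1600
 .nil) 1093806 1685
 .nil) 1094002 2232
 (.node .nil 1094037 268
 .nil))) 1094709 1514
 (.node (.node (.node (.node .nil 1094982 1175
 .nil) 1095080 119
 .nil) 1096214 2436
 (.node .nil 1096368 655
 .nil)) 1096578 560
 (.node (.node .nil 1096746 1576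
 .nil) 1096837 1193
 (.node .nil 1097040 1084
 .nil))))) 1102003 2028
 (.node (.node (.node (.node (.node (.node .nil 1102038 582
 .nil) 1102234 654
 .nil) 1102878 1751
 (.node .nil 1103088 2206
 .nil)) 1103235 1949
 (.node (.node (.node .nil 1103410 857
 .nil) 1103494 1584
 .nil) 1103760 2426
 (.node .nil 1104915 185
 .nil))) 1105048 1513
 (.node (.node (.node (.node .nil 1105090 139
 .nil) 1106077 1699
 .nil) 1106154 318
 (.node .nil 1106259 1746
 .nil)) 1106987 495
 (.node (.node (.node .nil 1107141 1085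
 .nil) 1107288 2354
 .nil) 1107477 1958
 (.node .nil 1107624 2134
 .nil)))) 1107778 536
 (.node (.node (.node (.node (.node .nil 1108506 1686
 .nil) 1108611 250
 .nil) 1108688 2106
 (.node .nil 1114869 848
 .nil)) 1114974 1286
 (.node (.node (.node .nil 1115051 1075
 .nil) 1115758 2301
 .nil) 1116017 2253
 (.node .nil 1116045 2139
 .nil))) 1116787 670
 (.node (.node (.node (.node .nil 1116878 2500
 .nil) 1117081 628
 .nil) 1117277 223
 (.node .nil 1117417 1060
 .nil)) 1117515 919
 (.node (.node .nil 1118446 1712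
 .nil) 1118579 1073
 (.node .nil 1118621 1216
 .nil)))))))) 1119797 2096
 (.node (.node (.node (.node (.node (.node (.node (.node (.node .nil 1120070 245
 .nil) 1120168 458
 .nil) 1120798 2392
 (.node .nil 1121008 884
 .nil)) 1121155 180
 (.node (.node (.node .nil 1121323 2347
 .nil) 1121477 1232
 .nil) 1121624 1894
 (.node .nil 1126517 362
 .nil))) 1126734 1401
 (.node (.node (.node (.node .nil 1126825 1939
 .nil) 1126958 1036
 .nil) 1127280 1909
 (.node .nil 1127301 1898
 .nil)) 1129009 2442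
 (.node (.node (.node .nil 1129030 747
 .nil) 1129352 1309
 .nil) 1129485 852
 (.node .nil 1129576 1076
 .nil)))) 1129793 2098
 (.node (.node (.node (.node (.node .nil 1134686 1885
 .nil) 1134833 28
 .nil) 1134987 1105
 (.node .nil 1135155 2026
 .nil)) 1135302 1991
 (.node (.node (.node .nil 1135512 1455
 .nil) 1136142 469
 .nil) 1136240 1572
 (.node .nil 1136513 1616
 .nil))) 1137689 524
 (.node (.node (.node (.node .nil 1137731 1015
 .nil) 1137864 2343
 .nil) 1138795 904
 (.node .nil 1138893 155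
 .nil)) 1139033 240
 (.node (.node (.node .nil 1139229 1534
 .nil) 1139432 1731
 .nil) 1139523 724
 (.node .nil 1140265 941
 .nil))))) 1140293 1213
 (.node (.node (.node (.node (.node (.node .nil 1140552 274
 .nil) 1141259 2330
 .nil) 1141336 213
 (.node .nil 1141441 833
 .nil)) 1147566 999
 (.node (.node (.node .nil 1147762 2512
 .nil) 1147797 1796
 .nil) 1148021 1182
 (.node .nil 1148238 2276
 .nil))) 1148329 1702
 (.node (.node (.node (.node .nil 1149526 24
 .nil) 1149617 2174
 .nil) 1149834 1474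
 (.node .nil 1150058 68
 .nil)) 1150093 2209
 (.node (.node (.node .nil 1150289 1326
 .nil) 1151157 2117
 .nil) 1151318 1980
 (.node .nil 1151402 980
 .nil)))) 1152046 1853
 (.node (.node (.node (.node (.node .nil 1152368 640
 .nil) 1152389 920
 .nil) 1153586 1200
 (.node .nil 1153670 2222
 .nil)) 1153936 136
 (.node (.node (.node .nil 1154069 1165
 .nil) 1154216 1721
 .nil) 1154370 1033
 (.node .nil 1155182 665
 .nil))) 1155441 576
 (.node (.node (.node (.node .nil 1155469 2010
 .nil) 1155637 31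
 .nil) 1155910 2060
 (.node .nil 1156008 1195
 .nil)) 1157646 2238
 (.node (.node .nil 1157744 1468
 .nil) 1158017 2418
 (.node .nil 1158185 2043
 .nil)))))) 1158213 960
 (.node (.node (.node (.node (.node (.node (.node .nil 1158472 2320
 .nil) 1167474 1815
 .nil) 1167502 492
 (.node .nil 1167761 1900
 .nil)) 1167894 515
 (.node (.node (.node .nil 1168048 2071
 .nil) 1168258 2105
 .nil) 1168433 1829
 (.node .nil 1168454 2493
 .nil))) 1168776 2
 (.node (.node (.node (.node .nil 1170442 969
 .nil) 1170512 533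
 .nil) 1170561 1356
 (.node .nil 1171541 2471
 .nil)) 1171625 177
 (.node (.node (.node .nil 1171786 434
 .nil) 1172010 2414
 .nil) 1172101 454
 (.node .nil 1172304 731
 .nil)))) 1172493 1689
 (.node (.node (.node (.node (.node .nil 1172584 2271
 .nil) 1172801 266
 .nil) 1174033 1878
 (.node .nil 1174082 1321
 .nil)) 1174152 2169
 (.node (.node (.node .nil 1213107 99
 .nil) 1213142 2003
 .nil) 1213338 2070
 (.node .nil 1213534 2359
 .nil))) 1213681 2315
 (.node (.node (.node (.node .nil 1213835 480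
 .nil) 1214066 550
 .nil) 1214094 1276
 (.node .nil 1214353 1971
 .nil)) 1215571 371
 (.node (.node (.node .nil 1215641 2421
 .nil) 1215690 205
 .nil) 1216670 1199
 (.node .nil 1216754 122
 .nil))))) 1216915 2304
 (.node (.node (.node (.node (.node (.node .nil 1217587 2323
 .nil) 1217734 1530
 .nil) 1217944 2116
 (.node .nil 1218070 1419
 .nil)) 1218224 1164
 (.node (.node (.node .nil 1218434 1720
 .nil) 1219610 639
 .nil) 1219715 1245
 (.node .nil 1219792 562
 .nil))) 1220723 1053
 (.node (.node (.node (.node .nil 1220814 78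
 .nil) 1221017 772
 .nil) 1221150 1718
 (.node .nil 1221360 1566
 .nil)) 1221507 692
 (.node (.node (.node .nil 1222193 1325
 .nil) 1222214 1351
 .nil) 1222536 1056
 (.node .nil 1223691 411
 .nil)))) 1223768 1181
 (.node (.node (.node (.node (.node .nil 1223873 2511
 .nil) 1224790 1973
 .nil) 1224881 1561
 (.node .nil 1225098 602
 .nil)) 1225266 209
 (.node (.node (.node .nil 1225350 1843
 .nil) 1225616 1499
 .nil) 1225742 1700
 (.node .nil 1225840 1645
 .nil))) 1226113 513
 (.node (.node (.node (.node .nil 1227793 253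
 .nil) 1227842 2074
 .nil) 1227912 1688
 (.node .nil 1237082 2120
 .nil)) 1237131 1179
 (.node (.node .nil 1237201 1423
 .nil) 1237523 924
 (.node .nil 1237656 285
 .nil))))))) 1237698 1305
 (.node (.node (.node (.node (.node (.node (.node (.node .nil 1238041 2227
 .nil) 1238083 585
 .nil) 1238216 1856
 (.node .nil 1238538 988
 .nil)) 1238608 1724
 (.node (.node (.node .nil 1238657 1202
 .nil) 1245853 1196
 .nil) 1245930 2051
 (.node .nil 1246035 1086
 .nil))) 1246315 948
 (.node (.node (.node (.node .nil 1246413 663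
 .nil) 1246553 473
 .nil) 1246805 1469
 (.node .nil 1246889 414
 .nil)) 1247050 1776
 (.node (.node (.node .nil 1247834 830
 .nil) 1247883 1210
 .nil) 1247953 957
 (.node .nil 1249451 2481
 .nil)))) 1249493 499
 (.node (.node (.node (.node (.node .nil 1249626 115
 .nil) 1250333 1072
 .nil) 1250536 605
 (.node .nil 1250627 1906
 .nil)) 1250858 2455
 (.node (.node (.node .nil 1250949 567
 .nil) 1251152 1399
 .nil) 1251859 244
 (.node .nil 1251992 966
 .nil))) 1252034 1500
 (.node (.node (.node (.node .nil 1253469 2274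
 .nil) 1253609 751
 .nil) 1253707 1701
 (.node .nil 1253931 455
 .nil)) 1254085 616
 (.node (.node (.node .nil 1254232 1955
 .nil) 1254925 2242
 .nil) 1255016 1322
 (.node .nil 1255233 1059
 .nil))))) 1255961 102
 (.node (.node (.node (.node (.node (.node .nil 1256003 1915
 .nil) 1256136 1338
 .nil) 1257578 212
 (.node .nil 1257613 187
 .nil)) 1257809 2383
 (.node (.node (.node .nil 1258005 1974
 .nil) 1258152 990
 .nil) 1258306 1726
 (.node .nil 1258537 1983
 .nil))) 1258565 1433
 (.node (.node (.node (.node .nil 1258824 978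
 .nil) 1260042 288
 .nil) 1260112 1868
 (.node .nil 1260161 940
 .nil)) 1265747 1533
 (.node (.node (.node .nil 1265817 2055
 .nil) 1265866 1308
 .nil) 1266202 2091
 (.node .nil 1266307 1875
 .nil)))) 1266384 2223
 (.node (.node (.node (.node (.node .nil 1266699 2188
 .nil) 1266776 431
 .nil) 1266881 2024
 (.node .nil 1267217 1935
 .nil)) 1267266 25
 (.node (.node (.node .nil 1267336 851
 .nil) 1316070 1806
 .nil) 1316147 1864
 (.node .nil 1316252 341
 .nil))) 1316532 1516
 (.node (.node (.node (.node .nil 1316630 1127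
 .nil) 1316770 828
 .nil) 1317022 2068
 (.node .nil 1317106 737
 .nil)) 1317267 806
 (.node (.node .nil 1318051 1363
 .nil) 1318100 1693
 (.node .nil 1318170 1184
 .nil)))))) 1319668 1929
 (.node (.node (.node (.node (.node (.node (.node .nil 1319710 506
 .nil) 1319843 218
 .nil) 1320550 1652
 (.node .nil 1320753 59
 .nil)) 1320844 2285
 (.node (.node (.node .nil 1321075 555
 .nil) 1321166 823
 .nil) 1321369 2017
 (.node .nil 1322076 299
 .nil))) 1322209 1538
 (.node (.node (.node (.node .nil 1322251 1786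
 .nil) 1323686 545
 .nil) 1323826 755
 (.node .nil 1323924 391
 .nil)) 1324148 800
 (.node (.node (.node .nil 1324302 1061
 .nil) 1324449 2180
 .nil) 1325142 1440
 (.node .nil 1325233 894
 .nil)))) 1325450 1638
 (.node (.node (.node (.node (.node .nil 1326178 195
 .nil) 1326220 1460
 .nil) 1326353 1959
 (.node .nil 1327795 397
 .nil)) 1327830 351
 (.node (.node (.node .nil 1328026 2256
 .nil) 1328222 1253
 .nil) 1328369 1570
 (.node .nil 1328523 915
 .nil))) 1328754 2400
 (.node (.node (.node (.node .nil 1328782 1634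
 .nil) 1329041 1555
 .nil) 1330259 522
 (.node .nil 1330329 643
 .nil)) 1330378 1090
 (.node (.node .nil 1335964 2126
 .nil) 1336034 2432
 (.node .nil 1336083 1931
 .nil))))) 1336419 868
 (.node (.node (.node (.node (.node (.node .nil 1336524 2168
 .nil) 1336601 1369
 .nil) 1336916 1480
 (.node .nil 1336993 447
 .nil)) 1337098 1912
 (.node (.node (.node .nil 1337434 1823
 .nil) 1337483 50
 .nil) 1337553 1143
 (.node .nil 1344756 1168
 .nil))) 1344798 405
 (.node (.node (.node (.node .nil 1344931 346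
 .nil) 1345190 1343
 .nil) 1345330 642
 (.node .nil 1345428 67
 .nil)) 1345715 1252
 (.node (.node (.node .nil 1345750 914
 .nil) 1345946 1594
 .nil) 1346716 2407
 (.node .nil 1346786 1227
 .nil)))) 1346835 144
 (.node (.node (.node (.node (.node .nil 1351910 805
 .nil) 1351987 491
 .nil) 1352092 2115
 (.node .nil 1353268 1183
 .nil)) 1353478 974
 (.node (.node (.node .nil 1353632 1117
 .nil) 1353758 1863
 .nil) 1353968 340
 (.node .nil 1354115 1803
 .nil))) 1354787 2110
 (.node (.node (.node (.node .nil 1354948 1781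
 .nil) 1355032 227
 .nil) 1355956 1006
 (.node .nil 1356054 1082
 .nil)) 1356194 1142
 (.node (.node .nil 1356838 1403
 .nil) 1357104 2466
 (.node .nil 1357188 2166
 .nil))))))))) 1357874 348
 (.node (.node (.node (.node (.node (.node (.node (.node (.node (.node .nil 1357958 265
 .nil) 1358224 2109
 .nil) 1358868 1911
 (.node .nil 1359008 1479
 .nil)) 1359106 446
 (.node (.node (.node .nil 1360030 554
 .nil) 1360114 2269
 .nil) 1360275 822
 (.node .nil 1360947 505
 .nil))) 1361094 932
 (.node (.node (.node (.node .nil 1361304 1928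
 .nil) 1361430 1785
 .nil) 1361584 298
 (.node .nil 1361794 462
 .nil)) 1362970 58
 (.node (.node (.node .nil 1363075 1669
 .nil) 1363152 2284
 .nil) 1368227 1439
 (.node .nil 1368276 837
 .nil)))) 1368346 893
 (.node (.node (.node (.node (.node .nil 1369116 754
 .nil) 1369312 135
 .nil) 1369347 544
 (.node .nil 1369634 1583
 .nil)) 1369732 403
 (.node (.node (.node .nil 1369872 1459
 .nil) 1370131 1225
 .nil) 1370264 952
 (.node .nil 1370306 2179
 .nil))) 1376998 2244
 (.node (.node (.node (.node .nil 1377075 575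
 .nil) 1377180 1579
 .nil) 1377908 49
 (.node .nil 1378062 1668
 .nil)) 1378209 2479
 (.node (.node (.node .nil 1378398 131
 .nil) 1378545 1948
 .nil) 1378699 931
 (.node .nil 1379427 1792
 .nil))))) 1379532 461
 (.node (.node (.node (.node (.node (.node .nil 1379609 2245
 .nil) 1380596 2129
 .nil) 1380638 1560
 (.node .nil 1380771 2454
 .nil)) 1381926 143
 (.node (.node (.node .nil 1382192 259
 .nil) 1382276 1226
 .nil) 1382451 404
 (.node .nil 1382598 345
 .nil))) 1382808 1167
 (.node (.node (.node (.node .nil 1383452 2339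
 .nil) 1383648 66
 .nil) 1383683 1484
 (.node .nil 1388646 1224
 .nil)) 1388849 951
 (.node (.node (.node .nil 1388940 864
 .nil) 1389108 900
 .nil) 1389318 2449
 (.node .nil 1389472 836
 .nil)))) 1390606 1542
 (.node (.node (.node (.node (.node .nil 1390704 927
 .nil) 1390977 134
 .nil) 1391649 2326
 (.node .nil 1391684 1582
 .nil)) 1391880 6
 (.node (.node (.node .nil 1392755 2164
 .nil) 1392846 771
 .nil) 1393049 333
 (.node .nil 1393182 490
 .nil))) 1393392 1229
 (.node (.node (.node (.node .nil 1393539 799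
 .nil) 1394225 226
 .nil) 1394246 1944
 (.node .nil 1394568 1780
 .nil)) 1395723 973
 (.node (.node .nil 1395800 2497
 .nil) 1395905 488
 (.node .nil 1400924 347
 .nil)))))) 1401057 997
 (.node (.node (.node (.node (.node (.node (.node .nil 1401099 264
 .nil) 1401379 61
 .nil) 1401540 2419
 (.node .nil 1401624 1005
 .nil)) 1402380 2387
 (.node (.node (.node .nil 1402464 2067
 .nil) 1402625 2488
 .nil) 1402905 2427
 (.node .nil 1402947 1402
 .nil))) 1403080 2165
 (.node (.node (.node (.node .nil 1409716 1463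
 .nil) 1409814 292
 .nil) 1409954 190
 (.node .nil 1410150 956
 .nil)) 1410353 2262
 (.node (.node (.node .nil 1410444 1218
 .nil) 1411186 662
 .nil) 1411214 386
 (.node .nil 1411473 500
 .nil)))) 1412180 2506
 (.node (.node (.node (.node (.node .nil 1412257 399
 .nil) 1412362 842
 .nil) 1413286 232
 (.node .nil 1413426 1640
 .nil)) 1413524 1482
 (.node (.node (.node .nil 1414196 1656
 .nil) 1414406 1390
 .nil) 1414560 1769
 (.node .nil 1415190 1093
 .nil))) 1415344 977
 (.node (.node (.node (.node .nil 1415554 1866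
 .nil) 1416226 1078
 .nil) 1416324 1137
 (.node .nil 1416464 2453
 .nil)) 1417332 2395
 (.node (.node (.node .nil 1417486 1040
 .nil) 1417633 2148
 .nil) 1417766 393
 (.node .nil 1418032 2097
 .nil))))) 1418116 1654
 (.node (.node (.node (.node (.node (.node .nil 1419313 467
 .nil) 1419334 2440
 .nil) 1419656 453
 (.node .nil 1420300 338
 .nil)) 1420384 2210
 (.node (.node (.node .nil 1420545 896
 .nil) 1425494 1397
 .nil) 1425585 1658
 (.node .nil 1425802 1788
 .nil))) 1425970 1488
 (.node (.node (.node (.node .nil 1426054 644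
 .nil) 1426320 517
 .nil) 1426446 1569
 (.node .nil 1426544 1608
 .nil)) 1426817 1814
 (.node (.node (.node .nil 1428497 1932
 .nil) 1428546 1012
 .nil) 1428616 1250
 (.node .nil 1433698 909
 .nil)))) 1433740 150
 (.node (.node (.node (.node (.node .nil 1433873 1285
 .nil) 1434132 1697
 .nil) 1434272 2153
 (.node .nil 1434370 56
 .nil)) 1434657 1946
 (.node (.node (.node .nil 1434692 1969
 .nil) 1434888 1635
 .nil) 1435658 733
 (.node .nil 1435728 820
 .nil))) 1435777 2159
 (.node (.node (.node (.node .nil 1442462 2430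
 .nil) 1442546 332
 .nil) 1442707 770
 (.node .nil 1442931 2069
 .nil)) 1443022 798
 (.node (.node .nil 1443225 738
 .nil) 1443414 1364
 (.node .nil 1443505 1525
 .nil))))))) 1443722 487
 (.node (.node (.node (.node (.node (.node (.node (.node .nil 1444954 1517
 .nil) 1445003 1128
 .nil) 1445073 829
 (.node .nil 1446067 130
 .nil)) 1446102 219
 (.node (.node (.node .nil 1446298 1947
 .nil) 1446942 2303
 .nil) 1447152 1578
 (.node .nil 1447299 983
 .nil))) 1447474 452
 (.node (.node (.node (.node .nil 1447558 1791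
 .nil) 1447824 1539
 .nil) 1448979 1653
 (.node .nil 1449112 48
 .nil)) 1449154 2367
 (.node (.node (.node .nil 1450078 398
 .nil) 1450225 2259
 .nil) 1450379 352
 (.node .nil 1450547 1559
 .nil)))) 1450694 2260
 (.node (.node (.node (.node (.node .nil 1450904 1571
 .nil) 1451534 523
 .nil) 1451632 2338
 (.node .nil 1451905 1094
 .nil)) 1453081 258
 (.node (.node (.node .nil 1453123 1811
 .nil) 1453256 1556
 .nil) 1454194 2127
 (.node .nil 1454222 1529
 .nil))) 1454481 2433
 (.node (.node (.node (.node .nil 1454614 2410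
 .nil) 1454768 1131
 .nil) 1454978 996
 (.node .nil 1455153 1805
 .nil)) 1455174 51
 (.node (.node (.node .nil 1455496 1396
 .nil) 1457162 2484
 .nil) 1457232 765
 (.node .nil 1457281 2066
 .nil))))) 1466451 1541
 (.node (.node (.node (.node (.node (.node .nil 1466521 926
 .nil) 1466570 1975
 .nil) 1466906 801
 (.node .nil 1467011 1062
 .nil)) 1467088 863
 (.node (.node (.node .nil 1467403 2448
 .nil) 1467480 899
 .nil) 1467585 1639
 (.node .nil 1467921 5
 .nil))) 1467970 2325
 (.node (.node (.node (.node .nil 1468040 1960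
 .nil) 1508003 1391
 .nil) 1508052 1787
 (.node .nil 1508122 1657
 .nil)) 1508444 1487
 (.node (.node (.node .nil 1508577 516
 .nil) 1508619 1930
 .nil) 1508962 1138
 (.node .nil 1509004 1011
 .nil)))) 1509137 1079
 (.node (.node (.node (.node (.node .nil 1509459 417
 .nil) 1509529 1641
 .nil) 1509578 1483
 (.node .nil 1511580 661
 .nil)) 1511650 1655
 (.node (.node (.node .nil 1511699 385
 .nil) 1512483 2439
 .nil) 1512644 189
 (.node .nil 1512728 804
 .nil))) 1512980 841
 (.node (.node (.node (.node .nil 1513120 1436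
 .nil) 1513218 339
 .nil) 1513498 2394
 (.node .nil 1513603 955
 .nil)) 1513680 1901
 (.node (.node .nil 1515619 645
 .nil) 1515724 1865
 (.node .nil 1515801 976
 .nil)))))) 1516060 1609
 (.node (.node (.node (.node (.node (.node (.node .nil 1516256 1810
 .nil) 1516291 231
 .nil) 1517089 2452
 (.node .nil 1517124 1251
 .nil)) 1517320 1933
 (.node (.node (.node .nil 1517579 1398
 .nil) 1517656 1659
 .nil) 1517761 1768
 (.node .nil 1519700 732
 .nil))) 1519777 57
 (.node (.node (.node (.node .nil 1519882 1698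
 .nil) 1520162 1284
 .nil) 1520260 1631
 (.node .nil 1520400 149
 .nil)) 1520652 821
 (.node (.node (.node .nil 1520736 2160
 .nil) 1520897 2152
 .nil) 1521681 910
 (.node .nil 1521730 1592
 .nil)))) 1521800 1968
 (.node (.node (.node (.node (.node .nil 1523802 466
 .nil) 1523851 293
 .nil) 1523921 445
 (.node .nil 1524243 1039
 .nil)) 1524376 2263
 (.node (.node (.node .nil 1524418 1219
 .nil) 1524761 1507
 .nil) 1524803 392
 (.node .nil 1524936 501
 .nil))) 1525258 895
 (.node (.node (.node (.node .nil 1525328 400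
 .nil) 1525377 1368
 .nil) 1578220 2007
 (.node .nil 1578269 954
 .nil)) 1578339 2217
 (.node (.node .nil 1578661 1345
 .nil) 1578794 658
 (.node .nil 1578836 1625
 .nil))))) 1579179 1736
 (.node (.node (.node (.node (.node (.node .nil 1579221 1564
 .nil) 1579354 1663
 .nil) 1579676 742
 (.node .nil 1579746 838
 .nil)) 1579795 2084
 (.node (.node (.node .nil 1581797 1123
 .nil) 1581867 992
 .nil) 1581916 685
 (.node .nil 1582700 463
 .nil))) 1582861 355
 (.node (.node (.node (.node .nil 1582945 1333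
 .nil) 1583197 1381
 .nil) 1583337 1995
 (.node .nil 1583435 612
 .nil)) 1583715 1862
 (.node (.node (.node .nil 1583820 290
 .nil) 1583897 588
 .nil) 1585836 1101
 (.node .nil 1585941 2345
 .nil)))) 1586018 1552
 (.node (.node (.node (.node (.node .nil 1586277 2186
 .nil) 1586473 377
 .nil) 1586508 350
 (.node .nil 1587306 2429
 .nil)) 1587341 775
 (.node (.node (.node .nil 1587537 1404
 .nil) 1587796 2015
 .nil) 1587873 2220
 (.node .nil 1587978 1008
 .nil))) 1589917 228
 (.node (.node (.node (.node .nil 1589994 109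
 .nil) 1590099 2111
 .nil) 1590379 508
 (.node .nil 1590477 2198
 .nil)) 1590617 281
 (.node (.node .nil 1590869 1119
 .nil) 1590953 975
 (.node .nil 1591114 2470
 .nil)))))))) 1591898 1472
 (.node (.node (.node (.node (.node (.node (.node (.node (.node .nil 1591947 2172
 .nil) 1592017 2246
 .nil) 1594019 146
 (.node .nil 1594068 531
 .nil)) 1594138 785
 (.node (.node (.node .nil 1594460 757
 .nil) 1594593 1924
 .nil) 1594635 1828
 (.node .nil 1594978 82
 .nil))) 1595020 699
 (.node (.node (.node (.node .nil 1595153 874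
 .nil) 1595475 1135
 .nil) 1595545 407
 (.node .nil 1595594 1169
 .nil)) 1606885 2361
 (.node (.node (.node .nil 1606955 2306
 .nil) 1607004 2379
 .nil) 1607340 320
 (.node .nil 1607445 1438
 .nil)))) 1607522 1986
 (.node (.node (.node (.node (.node .nil 1607837 2079
 .nil) 1607914 16
 .nil) 1608019 2369
 (.node .nil 1608355 1825
 .nil)) 1608404 96
 (.node (.node (.node .nil 1608474 1744
 .nil) 1614060 1221
 .nil) 1614109 2241
 (.node .nil 1614179 169
 .nil))) 1615397 270
 (.node (.node (.node (.node .nil 1615656 1887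
 .nil) 1615684 2344
 .nil) 1615915 1359
 (.node .nil 1616069 502
 .nil)) 1616216 1509
 (.node (.node (.node .nil 1616412 1336
 .nil) 1616608 2438
 .nil) 1616643 295
 (.node .nil 1618085 542
 .nil))))) 1618218 2130
 (.node (.node (.node (.node (.node (.node .nil 1618260 2295
 .nil) 1618988 408
 .nil) 1619205 1026
 (.node .nil 1619296 883
 .nil)) 1619989 579
 (.node (.node (.node .nil 1620136 2213
 .nil) 1620290 113
 .nil) 1620514 2332
 (.node .nil 1620612 964
 .nil))) 1620752 36
 (.node (.node (.node (.node .nil 1622187 367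
 .nil) 1622229 2058
 .nil) 1622362 1601
 (.node .nil 1623069 697
 .nil)) 1623272 946
 (.node (.node (.node .nil 1623363 72
 .nil) 1623594 2113
 .nil) 1623685 1328
 (.node .nil 1623888 1642
 .nil)))) 1624595 1715
 (.node (.node (.node (.node (.node .nil 1624728 2040
 .nil) 1624770 1003
 .nil) 1626268 141
 (.node .nil 1626338 1097
 .nil)) 1626387 1673
 (.node (.node (.node .nil 1627171 2167
 .nil) 1627332 708
 .nil) 1627416 632
 (.node .nil 1627668 1140
 .nil))) 1627808 1081
 (.node (.node (.node (.node .nil 1627906 2157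
 .nil) 1628186 2143
 .nil) 1628291 2465
 (.node .nil 1628368 2200
 .nil)) 1639148 2039
 (.node (.node .nil 1639197 1374
 .nil) 1639267 1450
 (.node .nil 1640037 1260
 .nil)))))) 1640233 256
 (.node (.node (.node (.node (.node (.node (.node .nil 1640268 436
 .nil) 1640555 985
 .nil) 1640653 719
 (.node .nil 1640793 2057
 .nil)) 1641052 1837
 (.node (.node (.node .nil 1641185 221
 .nil) 1641227 1171
 .nil) 1642725 2327
 (.node .nil 1642795 1064
 .nil))) 1642844 272
 (.node (.node (.node (.node .nil 1644076 623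
 .nil) 1644293 1773
 .nil) 1644384 335
 (.node .nil 1644573 128
 .nil)) 1644776 1963
 (.node (.node (.node .nil 1644867 934
 .nil) 1645091 2176
 .nil) 1645252 1426
 (.node .nil 1645336 1477
 .nil)))) 1650796 2349
 (.node (.node (.node (.node (.node .nil 1650957 2289
 .nil) 1651041 422
 .nil) 1651237 767
 (.node .nil 1651496 1334
 .nil)) 1651524 861
 (.node (.node (.node .nil 1652777 53
 .nil) 1652805 1386
 .nil) 1653064 1548
 (.node .nil 1653260 2310
 .nil))) 1653344 1014
 (.node (.node (.node (.node .nil 1653505 614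
 .nil) 1654877 962
 .nil) 1655017 2044
 (.node .nil 1655115 787
 .nil)) 1655339 1742
 (.node (.node (.node .nil 1655493 1558
 .nil) 1655640 1666
 .nil) 1656333 2268
 (.node .nil 1656424 667
 .nil))))) 1656641 2278
 (.node (.node (.node (.node (.node (.node .nil 1657369 1311
 .nil) 1657411 354
 .nil) 1657544 485
 (.node .nil 1658979 111
 .nil)) 1659084 1671
 (.node (.node (.node .nil 1659161 2499
 .nil) 1659420 1355
 .nil) 1659616 571
 (.node .nil 1659651 1130
 .nil))) 1660449 1365
 (.node (.node (.node (.node .nil 1660484 881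
 .nil) 1660680 1498
 .nil) 1660939 152
 (.node .nil 1661016 1247
 .nil)) 1661121 540
 (.node (.node (.node .nil 1671845 625
 .nil) 1671978 1575
 .nil) 1672020 483
 (.node .nil 1672300 117
 .nil)))) 1672461 529
 (.node (.node (.node (.node (.node .nil 1672545 1019
 .nil) 1673301 1760
 .nil) 1673385 2255
 (.node .nil 1673546 2467
 .nil)) 1673826 2502
 (.node (.node (.node .nil 1673868 2018
 .nil) 1674001 1728
 .nil) 1675436 1464
 (.node .nil 1675541 809
 .nil))) 1675618 2258
 (.node (.node (.node (.node .nil 1676325 2101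
 .nil) 1676584 1267
 .nil) 1676612 734
 (.node .nil 1677354 1964
 .nil)) 1677445 94
 (.node (.node .nil 1677648 2225
 .nil) 1677844 1497
 (.node .nil 1677984 248
 .nil))))))) 1678082 164
 (.node (.node (.node (.node (.node (.node (.node (.node .nil 1679461 519
 .nil) 1679657 126
 .nil) 1679692 1490
 (.node .nil 1679916 1023
 .nil)) 1680133 1848
 (.node (.node (.node .nil 1680224 2146
 .nil) 1681421 1838
 .nil) 1681512 160
 (.node .nil 1681729 475
 .nil))) 1681953 1771
 (.node (.node (.node (.node .nil 1681988 721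
 .nil) 1682184 621
 .nil) 1687658 2334
 (.node .nil 1687693 647
 .nil)) 1687889 13
 (.node (.node (.node .nil 1688085 1408
 .nil) 1688232 898
 .nil) 1688386 1518
 (.node .nil 1688617 1372
 .nil)))) 1688645 1457
 (.node (.node (.node (.node (.node .nil 1688904 2423
 .nil) 1690122 254
 .nil) 1690192 2133
 (.node .nil 1690241 1042
 .nil)) 1691732 192
 (.node (.node (.node .nil 1691809 1315
 .nil) 1691914 855
 .nil) 1692194 600
 (.node .nil 1692292 1271
 .nil))) 1692432 1282
 (.node (.node (.node (.node .nil 1692684 677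
 .nil) 1692768 859
 .nil) 1692929 1842
 (.node .nil 1693713 2288
 .nil)) 1693762 420
 (.node (.node (.node .nil 1693832 2385
 .nil) 1704619 1470
 .nil) 1704661 283
 (.node .nil 1704794 1910
 .nil))))) 1705053 197
 (.node (.node (.node (.node (.node (.node .nil 1705193 2031
 .nil) 1705291 107
 .nil) 1705578 1891
 (.node .nil 1705613 261
 .nil)) 1705809 1813
 (.node (.node (.node .nil 1706579 303
 .nil) 1706649 1352
 .nil) 1706698 2399
 (.node .nil 1708189 1797
 .nil))) 1708266 712
 (.node (.node (.node (.node .nil 1708371 63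
 .nil) 1709099 357
 .nil) 1709253 2062
 (.node .nil 1709400 310
 .nil)) 1709589 1826
 (.node (.node (.node .nil 1709736 1523
 .nil) 1709890 2496
 .nil) 1710618 872
 (.node .nil 1710723 1125
 .nil)))) 1710800 687
 (.node (.node (.node (.node (.node .nil 1712235 1661
 .nil) 1712333 1150
 .nil) 1712473 2519
 (.node .nil 1712669 2082
 .nil)) 1712872 430
 (.node (.node (.node .nil 1712963 2203
 .nil) 1713705 1940
 .nil) 1713733 324
 (.node .nil 1713992 1238
 .nil))) 1714699 2346
 (.node (.node (.node (.node .nil 1714776 1678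
 .nil) 1714881 778
 .nil) 1716309 610
 (.node .nil 1716393 1595
 .nil)) 1716554 40
 (.node (.node .nil 1716778 2374
 .nil) 1716869 388
 (.node .nil 1717072 1612
 .nil)))))) 1717261 928
 (.node (.node (.node (.node (.node (.node (.node .nil 1717352 701
 .nil) 1717569 2437
 .nil) 1718801 796
 (.node .nil 1718850 817
 .nil)) 1718920 2518
 (.node (.node (.node .nil 1724506 1580
 .nil) 1724555 1588
 .nil) 1724625 1045
 (.node .nil 1724947 1544
 .nil))) 1725080 2013
 (.node (.node (.node (.node .nil 1725122 1951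
 .nil) 1725465 133
 .nil) 1725507 2087
 (.node .nil 1725640 1099
 .nil)) 1725962 1107
 (.node (.node (.node .nil 1726032 2155
 .nil) 1726081 1145
 .nil) 1737372 1186
 (.node .nil 1737442 1491
 .nil)))) 1737491 2396
 (.node (.node (.node (.node (.node .nil 1737827 808
 .nil) 1737932 1644
 .nil) 1738009 1293
 (.node .nil 1738324 844
 .nil)) 1738401 1109
 (.node (.node (.node .nil 1738506 1754
 .nil) 1738842 11
 .nil) 1738891 1858
 (.node .nil 1738961 2053
 .nil))) 1740963 564
 (.node (.node (.node (.node .nil 1741012 1723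
 .nil) 1741082 1361
 .nil) 1741852 1280
 (.node .nil 1742048 1154
 .nil)) 1742083 598
 (.node (.node .nil 1742370 1236
 .nil) 1742468 1942
 (.node .nil 1742608 449
 .nil))))) 1742867 853
 (.node (.node (.node (.node (.node (.node .nil 1743000 1371
 .nil) 1743042 2118
 .nil) 1744988 2215
 (.node .nil 1745121 92
 .nil)) 1745163 234
 (.node (.node (.node .nil 1745443 2023
 .nil) 1745604 246
 .nil) 1745688 410
 (.node .nil 1746444 1565
 .nil))) 1746528 1748
 (.node (.node (.node (.node .nil 1746689 1621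
 .nil) 1746969 1255
 .nil) 1747011 794
 (.node .nil 1747144 1599
 .nil)) 1749090 373
 (.node (.node (.node .nil 1749132 1393
 .nil) 1749265 547
 .nil) 1749524 419
 (.node .nil 1749664 710
 .nil)))) 1749762 1461
 (.node (.node (.node (.node (.node .nil 1750049 1442
 .nil) 1750084 552
 .nil) 1750280 2495
 (.node .nil 1751050 1680
 .nil)) 1751120 907
 (.node (.node (.node .nil 1751169 2027
 .nil) 1753171 1203
 .nil) 1753241 1274
 (.node .nil 1753290 1921
 .nil))) 1753626 314
 (.node (.node (.node (.node .nil 1753731 2459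
 .nil) 1753808 2124
 .nil) 1754123 557
 (.node .nil 1754200 1798
 .nil)) 1754305 825
 (.node (.node .nil 1754641 2012
 .nil) 1754690 2312
 (.node .nil 1754760 0
 .nil)))))))))))

end Cfsg.Agent.Lib.Helper19.A7IsoData
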