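/-
Helper19 library: kernel-checked certificates for the list of 2520 pairs (elements of a subgroup of `GL₄(2)`,
permutations of seven points).
-/
import Mathlib
import Cfsg.Agent.Lib.Helper19.A7Enc
import Cfsg.Agent.Lib.Helper19.A7IsoData

set_option autoImplicit false
set_option maxRecDepth 100000

namespace Cfsg.Agent.Lib.Helper19.A7IsoCheck

open Cfsg.Agent.Lib.Helper19.B2Enc Cfsg.Agent.Lib.Helper19.G2Enc Cfsg.Agent.Lib.Helper19.A7Enc
open Cfsg.Agent.Lib.Helper19.A7IsoData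

/-- unpacking of four digits in base 16. -/
def unp4 (c : ℕ) : List ℕ := [c % 16, c / 16 % 16, c / 256 % 16, c / 4096 % 16]

/-- packing of four digits in base 16. -/
def pack4 (l : List ℕ) : ℕ := l.getD 0 0 + 16 * l.getD 1 0 + 256 * l.getD 2 0 + 4096 * l.getD 3 0

/-- unpacking of seven digits in base 8. -/
def unpP7 (c : ℕ) : List ℕ :=
  [c % 8, c / 8 % 8, c / 64 % 8, c / 512 % 8, c / 4096 % 8, c / 32768 % 8, c / 262144 % 8]

/-- packing of seven digits in base 8. -/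
def packP7 (l : List ℕ) : ℕ :=
  l.getD 0 0 + 8 * l.getD 1 0 + 64 * l.getD 2 0 + 512 * l.getD 3 0 + 4096 * l.getD 4 0 +
    32768 * l.getD 5 0 + 262144 * l.getD 6 0

/-- the `i`-th entry. -/
def En (i : ℕ) : List ℕ := ET.get i

/-- the code of the `i`-th matrix. -/
def Mcd (i : ℕ) : ℕ := (En i).getD 0 0

/-- the `i`-th matrix. -/
def Mc (i : ℕ) : List ℕ := unp4 (Mcd i)

/-- the code of the `i`-th permutation. -/
def Pcd (i : ℕ) : ℕ := (En i).getD 1 0

/-- the `i`-th permutation. -/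
def Pc (i : ℕ) : List ℕ := unpP7 (Pcd i)

/-- the tables. -/
def Tt (r i : ℕ) : ℕ := (En i).getD (2 + r) 0

/-- the parent in the spanning tree. -/
def par (i : ℕ) : ℕ := (En i).getD 4 0

/-- the generator leading from the parent. -/
def gk (i : ℕ) : ℕ := (En i).getD 5 0

/-- the generating matrices. -/
def ME (r : ℕ) : List ℕ := MEL.getD r []

/-- their inverses. -/
def MI (r : ℕ) : List ℕ := MIL.getD r []

/-- the generating permutations. -/
def PE (r : ℕ) : List ℕ := PEL.getD r []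

/-- their inverses. -/
def PI (r : ℕ) : List ℕ := PIL.getD r []

theorem closedL : ∀ i ∈ List.range 2520, ∀ r ∈ List.range 2,
    mul4 (ME r) (Mc i) = Mc (Tt r i) ∧ mulP7 (PE r) (Pc i) = Pc (Tt r i) ∧ Tt r i < 2520 := by
  decide +kernel

theorem closed (i r : ℕ) (hi : i < 2520) (hr : r < 2) :
    mul4 (ME r) (Mc i) = Mc (Tt r i) ∧ mulP7 (PE r) (Pc i) = Pc (Tt r i) ∧ Tt r i < 2520 :=
  closedL i (List.mem_range.2 hi) r (List.mem_range.2 hr)

theorem bfsL : ∀ i ∈ List.range 2520, 0 < i → par i < i ∧ gk i < 2 ∧ Tt (gk i) (par i) = i := by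
  decide +kernel

theorem bfs (i : ℕ) (h0 : 0 < i) (hi : i < 2520) : par i < i ∧ gk i < 2 ∧ Tt (gk i) (par i) = i :=
  bfsL i (List.mem_range.2 hi) h0

theorem distL : ∀ i ∈ List.range 2520, enc4 (dec4 (Mc i)) = Mc i ∧ encP7 (decP7 (Pc i)) = Pc i ∧
    pack4 (Mc i) = Mcd i ∧ packP7 (Pc i) = Pcd i ∧ MTree.find (Mcd i) = i ∧ PTree.find (Pcd i) = i := by
  decide +kernel

theorem Mc_zero : Mc 0 = ONE4 := by decide +kernel

theorem Pc_zero : Pc 0 = ID7 := by decide +kernel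

theorem M_inv : ∀ r ∈ List.range 2, mul4 (MI r) (ME r) = ONE4 ∧ mul4 (ME r) (MI r) = ONE4 := by
  decide +kernel

theorem P_inv : ∀ r ∈ List.range 2, mulP7 (PI r) (PE r) = ID7 ∧ mulP7 (PE r) (PI r) = ID7 := by
  decide +kernel

end Cfsg.Agent.Lib.Helper19.A7IsoCheck
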