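/-
Helper19 library: a subgroup generated by finitely many elements of finite order coincides with a list of elements
(given by codes) closed under left multiplication by the generators and spanned by a tree rooted at the identity.
-/
import Mathlib

set_option autoImplicit false

namespace Cfsg.Agent.Lib.Helper19.ListClosureP

variable {G X : Type*} [Group G] (code : G → X) {n : ℕ} (gen : Fin n → G) (elt : ℕ → X) (N : ℕ)
  (T : Fin n → ℕ → ℕ) (par : ℕ → ℕ) (gk : ℕ → Fin n)

/-- the hypotheses on the list. -/
structure CertP : Prop where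
  /-- the list is nonempty -/
  pos : 0 < N
  /-- the code of the identity -/
  one : code 1 = elt 0
  /-- the generators have finite order -/
  fin : ∀ r, ∃ k : ℕ, gen r ^ (k + 1) = 1
  /-- closure under left multiplication -/
  closed : ∀ r i, i < N → ∀ g, code g = elt i → code (gen r * g) = elt (T r i) ∧ T r i < N
  /-- the spanning tree -/
  bfs : ∀ i, 0 < i → i < N → par i < i ∧ T (gk i) (par i) = i

variable {code gen elt N T par gk}

theorem CertP.pow_mul (h : CertP code gen elt N T par gk) (r : Fin n) (k : ℕ) {y : G}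
    (hy : ∃ i, i < N ∧ code y = elt i) : ∃ i, i < N ∧ code (gen r ^ k * y) = elt i := by
  induction k with
  | zero => simpa using hy
  | succ k ih =>
    obtain ⟨i, hi, hc⟩ := ih
    rw [pow_succ', mul_assoc]
    exact ⟨T r i, (h.closed r i hi _ hc).2, (h.closed r i hi _ hc).1⟩

theorem CertP.exists_index (h : CertP code gen elt N T par gk) {g : G}
    (hg : g ∈ Subgroup.closure (Set.range gen)) : ∃ i, i < N ∧ code g = elt i := by
  refine Subgroup.closure_induction_left (p := fun x _ => ∃ i, i < N ∧ code x = elt i)
    ⟨0, h.pos, h.one⟩ ?_ ?_ hg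
  · rintro x ⟨r, rfl⟩ y _ ⟨i, hi, hy⟩
    exact ⟨T r i, (h.closed r i hi y hy).2, (h.closed r i hi y hy).1⟩
  · rintro x ⟨r, rfl⟩ y _ hy
    obtain ⟨k, hk⟩ := h.fin r
    have : (gen r)⁻¹ = gen r ^ k := by
      apply inv_eq_of_mul_eq_one_left
      rw [← pow_succ, hk]
    rw [this]
    exact h.pow_mul r k hy

theorem CertP.exists_mem (h : CertP code gen elt N T par gk) :
    ∀ i, i < N → ∃ g, g ∈ Subgroup.closure (Set.range gen) ∧ code g = elt i := by
  intro i
  induction i using Nat.strong_induction_on with
  | _ i ih =>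
    intro hi
    by_cases h0 : i = 0
    · subst h0
      exact ⟨1, one_mem _, h.one⟩
    · obtain ⟨hp, ht⟩ := h.bfs i (Nat.pos_of_ne_zero h0) hi
      obtain ⟨g, hg, hc⟩ := ih (par i) hp (by omega)
      refine ⟨gen (gk i) * g, mul_mem (Subgroup.subset_closure ⟨_, rfl⟩) hg, ?_⟩
      rw [(h.closed (gk i) (par i) (by omega) g hc).1, ht]

theorem CertP.card_eq (h : CertP code gen elt N T par gk) (hcode : Function.Injective code)
    (hdist : ∀ i j, i < N → j < N → elt i = elt j → i = j) :
    Nat.card (Subgroup.closure (Set.range gen)) = N := by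
  classical
  choose f hf using fun i : Fin N => h.exists_mem i.val i.isLt
  let F : Fin N → Subgroup.closure (Set.range gen) := fun i => ⟨f i, (hf i).1⟩
  have hF : Function.Bijective F := by
    constructor
    · intro i j hij
      have h1 : f i = f j := congrArg Subtype.val hij
      have h2 : elt i.val = elt j.val := by rw [← (hf i).2, ← (hf j).2, h1]
      exact Fin.ext (hdist _ _ i.isLt j.isLt h2)
    · rintro ⟨g, hg⟩
      obtain ⟨i, hi, hc⟩ := h.exists_index hg
      refine ⟨⟨i, hi⟩, Subtype.ext ?_⟩
      apply hcode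
      rw [hc]
      exact (hf ⟨i, hi⟩).2
  rw [← Nat.card_congr (Equiv.ofBijective F hF), Nat.card_fin]

end Cfsg.Agent.Lib.Helper19.ListClosureP
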