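/-
Helper19 library: `GL₄(2)` has a subgroup isomorphic to the alternating group of degree seven, from a kernel-checked
list of 2520 pairs (matrix, permutation).
-/
import Mathlib
import Cfsg.Agent.Lib.Helper19.A7IsoCheck
import Cfsg.Agent.Lib.Helper19.ListClosureP

set_option autoImplicit false

namespace Cfsg.Agent.Lib.Helper19.A7Iso

open Cfsg.Agent.Lib.Helper19.B2Enc Cfsg.Agent.Lib.Helper19.G2Enc Cfsg.Agent.Lib.Helper19.A7Enc
open Cfsg.Agent.Lib.Helper19.A7IsoData Cfsg.Agent.Lib.Helper19.A7IsoCheck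
open Cfsg.Agent.Lib.Helper19.ListClosureP

/-- the general linear group over `ZMod 2`. -/
abbrev GZ : Type := Matrix.GeneralLinearGroup (Fin 4) (ZMod 2)

/-- the ambient group of the graph. -/
abbrev G7 : Type := GZ × Equiv.Perm (Fin 7)

/-- the generating matrices. -/
def MG (r : Fin 2) : GZ :=
  ⟨dec4 (ME r.val), dec4 (MI r.val),
    by rw [← dec4_mul, (M_inv r.val (List.mem_range.2 r.isLt)).2, dec4_one],
    by rw [← dec4_mul, (M_inv r.val (List.mem_range.2 r.isLt)).1, dec4_one]⟩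

/-- their images. -/
def PG (r : Fin 2) : Equiv.Perm (Fin 7) :=
  permOf7 (PE r.val) (PI r.val) (P_inv r.val (List.mem_range.2 r.isLt)).1
    (P_inv r.val (List.mem_range.2 r.isLt)).2

/-- the generating pairs. -/
def GH (r : Fin 2) : G7 := (MG r, PG r)

/-- the graph. -/
def Gam : Subgroup G7 := Subgroup.closure (Set.range GH)

/-- the matrix and the map of a pair. -/
def code (p : G7) : M4 × (Fin 7 → Fin 7) := ((p.1 : M4), ⇑p.2)

/-- the `i`-th pair. -/
def elt (i : ℕ) : M4 × (Fin 7 → Fin 7) := (dec4 (Mc i), decP7 (Pc i))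

theorem code_injective : Function.Injective code := by
  intro p q h
  exact Prod.ext (Units.ext (congrArg Prod.fst h)) (coe_perm7_injective (congrArg Prod.snd h))

theorem GH_fin (r : Fin 2) : ∃ k : ℕ, GH r ^ (k + 1) = 1 := by
  refine ⟨orderOf (GH r) - 1, ?_⟩
  rw [Nat.sub_add_cancel (orderOf_pos (GH r))]
  exact pow_orderOf_eq_one _

theorem certG : CertP code GH elt 2520 (fun r i => Tt r.val i) par (fun i => Fin.ofNat 2 (gk i)) where
  pos := by norm_num
  one := by
    show ((1 : M4), (id : Fin 7 → Fin 7)) = (dec4 (Mc 0), decP7 (Pc 0))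
    rw [Mc_zero, Pc_zero, dec4_one, decP7_one]
  fin := GH_fin
  closed := by
    intro r i hi g hg
    obtain ⟨c1, c2, c3⟩ := closed i r.val hi r.isLt
    refine ⟨?_, c3⟩
    have h1 : ((g.1 : GZ) : M4) = dec4 (Mc i) := congrArg Prod.fst hg
    have h2 : (⇑g.2 : Fin 7 → Fin 7) = decP7 (Pc i) := congrArg Prod.snd hg
    refine Prod.ext ?_ ?_
    · show ((MG r * g.1 : GZ) : M4) = _
      rw [Units.val_mul, h1]
      show dec4 (ME r.val) * dec4 (Mc i) = dec4 (Mc (Tt r.val i))
      rw [← dec4_mul, c1]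
    · show (⇑(PG r * g.2) : Fin 7 → Fin 7) = _
      rw [Equiv.Perm.coe_mul, h2]
      show decP7 (PE r.val) ∘ decP7 (Pc i) = decP7 (Pc (Tt r.val i))
      rw [← decP7_mul, c2]
  bfs := by
    intro i h0 hi
    obtain ⟨b1, b2, b3⟩ := bfs i h0 hi
    refine ⟨b1, ?_⟩
    show Tt (gk i % 2) (par i) = i
    rw [Nat.mod_eq_of_lt b2, b3]

theorem dec4_inj {i j : ℕ} (hi : i < 2520) (hj : j < 2520) (h : dec4 (Mc i) = dec4 (Mc j)) : i = j := by
  obtain ⟨a1, _, a3, _, a5, _⟩ := distL i (List.mem_range.2 hi)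
  obtain ⟨b1, _, b3, _, b5, _⟩ := distL j (List.mem_range.2 hj)
  have h1 : Mc i = Mc j := a1.symm.trans ((congrArg enc4 h).trans b1)
  have h2 : Mcd i = Mcd j := a3.symm.trans ((congrArg pack4 h1).trans b3)
  exact a5.symm.trans ((congrArg MTree.find h2).trans b5)

theorem decP7_inj {i j : ℕ} (hi : i < 2520) (hj : j < 2520) (h : decP7 (Pc i) = decP7 (Pc j)) :
    i = j := by
  obtain ⟨_, a2, _, a4, _, a6⟩ := distL i (List.mem_range.2 hi)
  obtain ⟨_, b2, _, b4, _, b6⟩ := distL j (List.mem_range.2 hj)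
  have h1 : Pc i = Pc j := a2.symm.trans ((congrArg encP7 h).trans b2)
  have h2 : Pcd i = Pcd j := a4.symm.trans ((congrArg packP7 h1).trans b4)
  exact a6.symm.trans ((congrArg PTree.find h2).trans b6)

theorem elt_inj (i j : ℕ) (hi : i < 2520) (hj : j < 2520) (h : elt i = elt j) : i = j :=
  dec4_inj hi hj (congrArg Prod.fst h)

theorem card_Gam : Nat.card Gam = 2520 := certG.card_eq code_injective elt_inj

theorem mem_Gam_index {p : G7} (hp : p ∈ Gam) :
    ∃ i, i < 2520 ∧ ((p.1 : GZ) : M4) = dec4 (Mc i) ∧ (⇑p.2 : Fin 7 → Fin 7) = decP7 (Pc i) := by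
  obtain ⟨i, hi, hc⟩ := certG.exists_index hp
  exact ⟨i, hi, congrArg Prod.fst hc, congrArg Prod.snd hc⟩

theorem snd_eq_one_iff {p : G7} (hp : p ∈ Gam) : p.2 = 1 ↔ p.1 = 1 := by
  obtain ⟨i, hi, h1, h2⟩ := mem_Gam_index hp
  constructor
  · intro h
    have h5 : decP7 (Pc i) = decP7 (Pc 0) := by
      rw [← h2, h, Pc_zero, decP7_one]
      rfl
    have h3 : i = 0 := decP7_inj hi (by norm_num) h5
    apply Units.ext
    rw [h1, h3, Mc_zero, dec4_one]
    rfl
  · intro h
    have h5 : dec4 (Mc i) = dec4 (Mc 0) := by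
      rw [← h1, h, Mc_zero, dec4_one]
      rfl
    have h3 : i = 0 := dec4_inj hi (by norm_num) h5
    apply coe_perm7_injective
    show (⇑p.2 : Fin 7 → Fin 7) = ⇑(1 : Equiv.Perm (Fin 7))
    rw [h2, h3, Pc_zero, decP7_one]
    rfl

theorem sign_PG (r : Fin 2) : Equiv.Perm.sign (PG r) = 1 := by
  fin_cases r <;> decide

theorem snd_even {p : G7} (hp : p ∈ Gam) : p.2 ∈ alternatingGroup (Fin 7) := by
  have hle : Gam ≤ (alternatingGroup (Fin 7)).comap (MonoidHom.snd GZ (Equiv.Perm (Fin 7))) := by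
    apply (Subgroup.closure_le _).mpr
    rintro _ ⟨r, rfl⟩
    exact Equiv.Perm.mem_alternatingGroup.mpr (sign_PG r)
  exact hle hp

/-- the map from the graph to the general linear group. -/
def f1 : Gam →* GZ := (MonoidHom.fst GZ (Equiv.Perm (Fin 7))).comp Gam.subtype

/-- the map from the graph to the alternating group. -/
def f2 : Gam →* alternatingGroup (Fin 7) :=
  ((MonoidHom.snd GZ (Equiv.Perm (Fin 7))).comp Gam.subtype).codRestrict _ (fun x => snd_even x.2)

theorem f1_inj : Function.Injective f1 := by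
  rw [injective_iff_map_eq_one]
  intro x hx
  have h1 : x.1.1 = 1 := hx
  apply Subtype.ext
  exact Prod.ext h1 ((snd_eq_one_iff x.2).mpr h1)

theorem f2_inj : Function.Injective f2 := by
  rw [injective_iff_map_eq_one]
  intro x hx
  have h1 : x.1.2 = 1 := congrArg Subtype.val hx
  apply Subtype.ext
  exact Prod.ext ((snd_eq_one_iff x.2).mp h1) h1

theorem card_alt7 : Nat.card (alternatingGroup (Fin 7)) = 2520 := by
  have h := two_mul_nat_card_alternatingGroup (α := Fin 7)
  rw [Nat.card_perm, Nat.card_fin] at h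
  have : (7 : ℕ).factorial = 5040 := by decide
  omega

theorem f2_bij : Function.Bijective f2 := by
  apply Function.Injective.bijective_of_nat_card_le f2_inj
  rw [card_alt7, card_Gam]

/-- a subgroup of `GL₄(2)` isomorphic to the alternating group of degree seven. -/
theorem exists_A7 : ∃ H : Subgroup GZ, Nonempty (H ≃* alternatingGroup (Fin 7)) :=
  ⟨f1.range, ⟨(MonoidHom.ofInjective f1_inj).symm.trans (MulEquiv.ofBijective f2 f2_bij)⟩⟩

end Cfsg.Agent.Lib.Helper19.A7Iso
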