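/-
Helper19 library: a permutation of seven points does not have order fifteen.
-/
import Mathlib

set_option autoImplicit false

namespace Cfsg.Agent.Lib.Helper19.A7NoFifteen

theorem exists_dvd_of_prime_dvd_lcm {p : ℕ} (hp : p.Prime) (m : Multiset ℕ) (h : p ∣ m.lcm) :
    ∃ a ∈ m, p ∣ a := by
  induction m using Multiset.induction_on with
  | empty =>
    rw [Multiset.lcm_zero] at h
    exact absurd (Nat.dvd_one.mp h) hp.one_lt.ne'
  | cons a s ih =>
    rw [Multiset.lcm_cons] at h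
    rcases (Nat.Prime.prime hp).dvd_lcm.mp h with h1 | h1
    · exact ⟨a, Multiset.mem_cons_self a s, h1⟩
    · obtain ⟨b, hb, hb'⟩ := ih h1
      exact ⟨b, Multiset.mem_cons_of_mem hb, hb'⟩

theorem orderOf_ne_fifteen (σ : Equiv.Perm (Fin 7)) : orderOf σ ≠ 15 := by
  intro h
  rw [← Equiv.Perm.lcm_cycleType] at h
  have hsum : σ.cycleType.sum ≤ 7 := by
    rw [Equiv.Perm.sum_cycleType]
    exact le_trans (Finset.card_le_univ _) (by simp)
  obtain ⟨a, ha, ha3⟩ := exists_dvd_of_prime_dvd_lcm Nat.prime_three σ.cycleType (by rw [h]; norm_num)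
  obtain ⟨b, hb, hb5⟩ := exists_dvd_of_prime_dvd_lcm Nat.prime_five σ.cycleType (by rw [h]; norm_num)
  have ha0 : 2 ≤ a := Equiv.Perm.two_le_of_mem_cycleType ha
  have hb0 : 2 ≤ b := Equiv.Perm.two_le_of_mem_cycleType hb
  by_cases hab : a = b
  · subst hab
    have h15 : 15 ∣ a := Nat.Coprime.mul_dvd_of_dvd_of_dvd (by norm_num) ha3 hb5
    have hle : a ≤ σ.cycleType.sum := Multiset.le_sum_of_mem ha
    have : 15 ≤ a := Nat.le_of_dvd (by omega) h15
    omega
  · have hb' : b ∈ σ.cycleType.erase a := (Multiset.mem_erase_of_ne (Ne.symm hab)).mpr hb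
    have hs : σ.cycleType.sum = a + (σ.cycleType.erase a).sum := by
      rw [← Multiset.sum_cons, Multiset.cons_erase ha]
    have hle : b ≤ (σ.cycleType.erase a).sum := Multiset.le_sum_of_mem hb'
    have h3 : 3 ≤ a := Nat.le_of_dvd (by omega) ha3
    have h5 : 5 ≤ b := Nat.le_of_dvd (by omega) hb5
    omega

end Cfsg.Agent.Lib.Helper19.A7NoFifteen
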