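/-
Helper19 library: every subgroup of `GL₄(2)` isomorphic to the alternating group of degree seven is 2-transitive on the
non-zero vectors.  Such a subgroup contains a conjugate of a fixed element `s` of order seven and an element `t` of order
five; the kernel-checked certificates show that `⟨s, t⟩` contains an element of order fifteen or is 2-transitive.
-/
import Mathlib
import Cfsg.Agent.Lib.Helper19.A7CertCheck
import Cfsg.Agent.Lib.Helper19.A7NoFifteen
import Cfsg.Agent.Lib.Helper19.SylConj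

set_option autoImplicit false

namespace Cfsg.Agent.Lib.Helper19.A7Trans

open Cfsg.Agent.Lib.Helper19.B2Enc Cfsg.Agent.Lib.Helper19.G2Enc Cfsg.Agent.Lib.Helper19.A7Enc
open Cfsg.Agent.Lib.Helper19.A7CertData Cfsg.Agent.Lib.Helper19.A7CertCheck
open scoped Pointwise

/-- the general linear group over `ZMod 2`. -/
abbrev GZ : Type := Matrix.GeneralLinearGroup (Fin 4) (ZMod 2)

/-! ### valid codes -/

/-- lists of four masks below sixteen. -/
def Valid (l : List ℕ) : Prop := ∃ a b c d, l = [a, b, c, d] ∧ a < 16 ∧ b < 16 ∧ c < 16 ∧ d < 16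

theorem maskOf_vecOf_aux : ∀ a ∈ List.range 16, maskOf (vecOf a) = a := by decide

theorem maskOf_vecOf {a : ℕ} (h : a < 16) : maskOf (vecOf a) = a :=
  maskOf_vecOf_aux a (List.mem_range.2 h)

theorem enc4_dec4 {l : List ℕ} (h : Valid l) : enc4 (dec4 l) = l := by
  obtain ⟨a, b, c, d, rfl, ha, hb, hc, hd⟩ := h
  have h0 : dec4 [a, b, c, d] 0 = vecOf a := by funext j; rfl
  have h1 : dec4 [a, b, c, d] 1 = vecOf b := by funext j; rfl
  have h2 : dec4 [a, b, c, d] 2 = vecOf c := by funext j; rfl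
  have h3 : dec4 [a, b, c, d] 3 = vecOf d := by funext j; rfl
  show [maskOf (dec4 [a, b, c, d] 0), maskOf (dec4 [a, b, c, d] 1), maskOf (dec4 [a, b, c, d] 2),
    maskOf (dec4 [a, b, c, d] 3)] = [a, b, c, d]
  rw [h0, h1, h2, h3, maskOf_vecOf ha, maskOf_vecOf hb, maskOf_vecOf hc, maskOf_vecOf hd]

theorem valid_enc4 (A : M4) : Valid (enc4 A) :=
  ⟨_, _, _, _, rfl, maskOf_lt _, maskOf_lt _, maskOf_lt _, maskOf_lt _⟩

theorem dec4_inj {a b : List ℕ} (ha : Valid a) (hb : Valid b) (h : dec4 a = dec4 b) : a = b := by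
  rw [← enc4_dec4 ha, ← enc4_dec4 hb, h]

theorem ite_lt (c : Bool) {x : ℕ} (hx : x < 16) : (if c then x else 0) < 2 ^ 4 := by
  cases c
  · norm_num
  · simpa using hx

theorem rowMul4_lt (r : ℕ) {b : List ℕ} (hb : Valid b) : rowMul4 r b < 16 := by
  obtain ⟨b0, b1, b2, b3, rfl, h0, h1, h2, h3⟩ := hb
  show (if r.testBit 0 then b0 else 0) ^^^ (if r.testBit 1 then b1 else 0) ^^^
    (if r.testBit 2 then b2 else 0) ^^^ (if r.testBit 3 then b3 else 0) < 2 ^ 4
  exact Nat.xor_lt_two_pow (Nat.xor_lt_two_pow (Nat.xor_lt_two_pow (ite_lt _ h0) (ite_lt _ h1))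
    (ite_lt _ h2)) (ite_lt _ h3)

theorem valid_mul4 {a b : List ℕ} (ha : Valid a) (hb : Valid b) : Valid (mul4 a b) := by
  obtain ⟨a0, a1, a2, a3, rfl, _, _, _, _⟩ := ha
  exact ⟨_, _, _, _, rfl, rowMul4_lt _ hb, rowMul4_lt _ hb, rowMul4_lt _ hb, rowMul4_lt _ hb⟩

theorem valid_ONE4 : Valid ONE4 := ⟨1, 2, 4, 8, rfl, by norm_num, by norm_num, by norm_num, by norm_num⟩

theorem valid_SE : Valid SE := ⟨14, 5, 2, 1, rfl, by norm_num, by norm_num, by norm_num, by norm_num⟩

theorem valid_wordE {TE : List ℕ} (hT : Valid TE) : ∀ fuel w, Valid (wordE TE fuel w) := by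
  intro fuel
  induction fuel with
  | zero => intro w; exact valid_ONE4
  | succ n ih =>
    intro w
    unfold wordE
    split_ifs
    · exact valid_ONE4
    · exact valid_mul4 valid_SE (ih _)
    · exact valid_mul4 hT (ih _)

theorem mvE_lt (a : List ℕ) (m : ℕ) : mvE a m < 16 := by
  unfold mvE
  split_ifs <;> omega

theorem actE_mod (a : List ℕ) (p : ℕ) : actE a p % 16 = mvE a (p % 16) := by
  unfold actE
  rw [Nat.add_mul_mod_self_left, Nat.mod_eq_of_lt (mvE_lt _ _)]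

theorem actE_div (a : List ℕ) (p : ℕ) : actE a p / 16 = mvE a (p / 16) := by
  unfold actE
  rw [Nat.add_mul_div_left _ _ (by norm_num : 0 < 16), Nat.div_eq_of_lt (mvE_lt _ _), zero_add]

/-! ### the element of order seven -/

theorem S_pow7 : dec4 SE ^ 7 = 1 := by
  have h := congrArg dec4 S_pow.1
  simp only [dec4_mul, dec4_one] at h
  rw [← h]
  simp only [pow_succ, pow_zero, one_mul, mul_assoc]

/-- the fixed element of order seven. -/
def sG : GZ :=
  ⟨dec4 SE, dec4 SE ^ 6, by rw [← pow_succ', S_pow7], by rw [← pow_succ, S_pow7]⟩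

theorem sG_val : (sG : M4) = dec4 SE := rfl

theorem sG_ne_one : sG ≠ 1 := by
  intro h
  have h1 : dec4 SE = dec4 ONE4 := by
    rw [dec4_one, ← sG_val, h]
    rfl
  exact S_pow.2 (dec4_inj valid_SE valid_ONE4 h1)

theorem sG_pow : sG ^ 7 = 1 := by
  apply Units.ext
  rw [Units.val_pow_eq_pow_val, sG_val, S_pow7]
  rfl

theorem orderOf_sG : orderOf sG = 7 := by
  have : Fact (Nat.Prime 7) := ⟨by norm_num⟩
  exact orderOf_eq_prime sG_pow sG_ne_one

/-! ### words and orders -/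

theorem ord15_sound {W : List ℕ} (hW : Valid W) (h : ord15 W = true) (g : GZ)
    (hg : (g : M4) = dec4 W) : orderOf g = 15 := by
  unfold ord15 at h
  rw [Bool.and_eq_true, Bool.and_eq_true, beq_iff_eq, bne_iff_ne, bne_iff_ne] at h
  obtain ⟨⟨h15, h5⟩, h3⟩ := h
  have v2 : Valid (mul4 W W) := valid_mul4 hW hW
  have v3 : Valid (mul4 (mul4 W W) W) := valid_mul4 v2 hW
  have v5 : Valid (mul4 (mul4 (mul4 W W) W) (mul4 W W)) := valid_mul4 v3 v2
  have e3 : dec4 (mul4 (mul4 W W) W) = dec4 W ^ 3 := by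
    simp only [dec4_mul, pow_succ, pow_zero, one_mul]
  have e5 : dec4 (mul4 (mul4 (mul4 W W) W) (mul4 W W)) = dec4 W ^ 5 := by
    simp only [dec4_mul, pow_succ, pow_zero, one_mul, mul_assoc]
  have e15 : dec4 W ^ 15 = 1 := by
    have := congrArg dec4 h15
    rw [dec4_mul, dec4_mul, e5, dec4_one] at this
    rw [← this]
    simp only [← pow_add]
  have g15 : g ^ 15 = 1 := by
    apply Units.ext
    rw [Units.val_pow_eq_pow_val, hg, e15]
    rfl
  have g5 : g ^ 5 ≠ 1 := by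
    intro hc
    apply h5
    apply dec4_inj v5 valid_ONE4
    rw [e5, dec4_one, ← hg, ← Units.val_pow_eq_pow_val, hc]
    rfl
  have g3 : g ^ 3 ≠ 1 := by
    intro hc
    apply h3
    apply dec4_inj v3 valid_ONE4
    rw [e3, dec4_one, ← hg, ← Units.val_pow_eq_pow_val, hc]
    rfl
  apply orderOf_eq_of_pow_and_pow_div_prime (by norm_num) g15
  intro p hp hdvd
  have h35 : (15 : ℕ) = 3 * 5 := by norm_num
  rw [h35] at hdvd
  rcases (Nat.Prime.dvd_mul hp).mp hdvd with h | h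
  · have : p = 3 := (Nat.prime_dvd_prime_iff_eq hp Nat.prime_three).mp h
    subst this
    exact g5
  · have : p = 5 := (Nat.prime_dvd_prime_iff_eq hp Nat.prime_five).mp h
    subst this
    exact g3

theorem wordE_mem (S : Subgroup GZ) (hs : sG ∈ S) {t : GZ} (ht : t ∈ S) {TE : List ℕ}
    (htv : (t : M4) = dec4 TE) : ∀ fuel w, ∃ W ∈ S, (W : M4) = dec4 (wordE TE fuel w) := by
  intro fuel
  induction fuel with
  | zero =>
    intro w
    exact ⟨1, one_mem _, by show (1 : M4) = dec4 ONE4; rw [dec4_one]⟩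
  | succ n ih =>
    intro w
    obtain ⟨W', hW', hv⟩ := ih (w / 2)
    unfold wordE
    split_ifs
    · exact ⟨1, one_mem _, by show (1 : M4) = dec4 ONE4; rw [dec4_one]⟩
    · refine ⟨sG * W', mul_mem hs hW', ?_⟩
      rw [Units.val_mul, hv, sG_val, dec4_mul]
    · refine ⟨t * W', mul_mem ht hW', ?_⟩
      rw [Units.val_mul, hv, htv, dec4_mul]

/-! ### reachable pairs -/

/-- the pairs of vectors in the orbit of the first pair under a subgroup. -/
def Reach (S : Subgroup GZ) (p : ℕ) : Prop :=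
  ∃ g ∈ S, Matrix.mulVec (g : M4) (vecOf (orb 0 0 % 16)) = vecOf (p % 16) ∧
    Matrix.mulVec (g : M4) (vecOf (orb 0 0 / 16)) = vecOf (p / 16)

theorem reach_zero (S : Subgroup GZ) : Reach S (orb 0 0) :=
  ⟨1, one_mem _, by show Matrix.mulVec (1 : M4) _ = _; rw [Matrix.one_mulVec],
    by show Matrix.mulVec (1 : M4) _ = _; rw [Matrix.one_mulVec]⟩

theorem reach_act {S : Subgroup GZ} {g₀ : GZ} (hg₀ : g₀ ∈ S) {a : List ℕ} (hv : (g₀ : M4) = dec4 a)
    {p : ℕ} (h : Reach S p) : Reach S (actE a p) := by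
  obtain ⟨g, hg, h1, h2⟩ := h
  refine ⟨g₀ * g, mul_mem hg₀ hg, ?_, ?_⟩
  · rw [Units.val_mul, ← Matrix.mulVec_mulVec, h1, hv, dec4_mulVec, actE_mod]
  · rw [Units.val_mul, ← Matrix.mulVec_mulVec, h2, hv, dec4_mulVec, actE_div]

theorem orb_cyc' (k b : ℕ) (hb : b < 7) : actE SE (orb k b) = orb k ((b + 1) % 7) := by
  by_cases hk : k < 30
  · exact orb_cyc k (List.mem_range.2 hk) b (List.mem_range.2 hb)
  · have hl : ORBL.length = 30 := rfl
    have hd : ORBL.getD k [] = [] := List.getD_eq_default _ _ (by omega)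
    have h0 : ∀ b, orb k b = 0 := by
      intro b
      unfold orb
      rw [hd]
      rfl
    rw [h0, h0]
    decide

theorem reach_orbit {S : Subgroup GZ} (hs : sG ∈ S) {k b0 : ℕ} (hb0 : b0 < 7)
    (h : Reach S (orb k b0)) : ∀ b, b < 7 → Reach S (orb k b) := by
  have key : ∀ n, Reach S (orb k ((b0 + n) % 7)) := by
    intro n
    induction n with
    | zero => rwa [Nat.add_zero, Nat.mod_eq_of_lt hb0]
    | succ n ih =>
      have h1 := reach_act hs sG_val ih
      rw [orb_cyc' k _ (Nat.mod_lt _ (by norm_num))] at h1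
      have e : ((b0 + n) % 7 + 1) % 7 = (b0 + (n + 1)) % 7 := by omega
      rwa [e] at h1
  intro b hb
  have := key (b + 7 - b0)
  have e : (b0 + (b + 7 - b0)) % 7 = b := by omega
  rwa [e] at this

theorem chkTree_sound {S : Subgroup GZ} (hs : sG ∈ S) {t : GZ} (ht : t ∈ S) {TE : List ℕ}
    (htv : (t : M4) = dec4 TE) : ∀ (qs reached : List ℕ),
    (∀ k ∈ reached, ∃ b0, b0 < 7 ∧ Reach S (orb k b0)) → chkTree TE qs reached = true →
      ∀ k, k < 30 → ∃ b0, b0 < 7 ∧ Reach S (orb k b0) := by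
  intro qs
  induction qs with
  | nil =>
    intro reached hr hc k hk
    unfold chkTree at hc
    rw [List.all_eq_true] at hc
    have := hc k (List.mem_range.2 hk)
    rw [List.contains_iff_mem] at this
    exact hr k this
  | cons q qs ih =>
    intro reached hr hc
    unfold chkTree at hc
    simp only [Bool.and_eq_true, decide_eq_true_eq, beq_iff_eq] at hc
    obtain ⟨⟨⟨⟨c1, c2⟩, c3⟩, c4⟩, c5⟩ := hc
    rw [List.contains_iff_mem] at c1
    apply ih ((q % 32) :: reached) _ c5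
    intro k hk
    rcases List.mem_cons.mp hk with rfl | hk
    · obtain ⟨b0, hb0, hR⟩ := hr _ c1
      have h1 := reach_orbit hs hb0 hR _ c2
      have h2 := reach_act ht htv h1
      rw [c4] at h2
      exact ⟨_, c3, h2⟩
    · exact hr k hk

/-! ### 2-transitivity -/

/-- 2-transitivity on the non-zero vectors. -/
def TwoTrans (S : Subgroup GZ) : Prop :=
  ∀ v w v' w' : V4, v ≠ 0 → w ≠ 0 → v ≠ w → v' ≠ 0 → w' ≠ 0 → v' ≠ w' →
    ∃ g ∈ S, Matrix.mulVec (g : M4) v = v' ∧ Matrix.mulVec (g : M4) w = w'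

theorem inv_mulVec_mulVec (g : GZ) (v : V4) :
    Matrix.mulVec ((g⁻¹ : GZ) : M4) (Matrix.mulVec (g : M4) v) = v := by
  rw [Matrix.mulVec_mulVec, ← Units.val_mul, inv_mul_cancel]
  exact Matrix.one_mulVec v

theorem mulVec_inv_mulVec (g : GZ) (v : V4) :
    Matrix.mulVec (g : M4) (Matrix.mulVec ((g⁻¹ : GZ) : M4) v) = v := by
  rw [Matrix.mulVec_mulVec, ← Units.val_mul, mul_inv_cancel]
  exact Matrix.one_mulVec v

theorem reach_pair {S : Subgroup GZ} (hs : sG ∈ S)
    (hall : ∀ k, k < 30 → ∃ b0, b0 < 7 ∧ Reach S (orb k b0)) {v w : V4} (hv : v ≠ 0) (hw : w ≠ 0)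
    (hvw : v ≠ w) : ∃ g ∈ S, Matrix.mulVec (g : M4) (vecOf (orb 0 0 % 16)) = v ∧
      Matrix.mulVec (g : M4) (vecOf (orb 0 0 / 16)) = w := by
  have h1 : maskOf v ≠ 0 := by
    intro h
    apply hv
    rw [← vecOf_maskOf v, h, vecOf_zero]
  have h2 : maskOf w ≠ 0 := by
    intro h
    apply hw
    rw [← vecOf_maskOf w, h, vecOf_zero]
  have h3 : maskOf v ≠ maskOf w := by
    intro h
    apply hvw
    rw [← vecOf_maskOf v, h, vecOf_maskOf]
  obtain ⟨k, hk, b, hb, hkb⟩ := complete (maskOf v) (List.mem_range.2 (maskOf_lt v)) (maskOf w)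
    (List.mem_range.2 (maskOf_lt w)) h1 h2 h3
  obtain ⟨b0, hb0, hR⟩ := hall k (List.mem_range.1 hk)
  obtain ⟨g, hg, e1, e2⟩ := reach_orbit hs hb0 hR b (List.mem_range.1 hb)
  refine ⟨g, hg, ?_, ?_⟩
  · rw [e1, hkb, Nat.add_mul_mod_self_left, Nat.mod_eq_of_lt (maskOf_lt v), vecOf_maskOf]
  · rw [e2, hkb, Nat.add_mul_div_left _ _ (by norm_num : 0 < 16), Nat.div_eq_of_lt (maskOf_lt v),
      zero_add, vecOf_maskOf]

theorem twoTrans_of_reach {S : Subgroup GZ} (hs : sG ∈ S)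
    (hall : ∀ k, k < 30 → ∃ b0, b0 < 7 ∧ Reach S (orb k b0)) : TwoTrans S := by
  intro v w v' w' hv hw hvw hv' hw' hvw'
  obtain ⟨g₁, hg₁, a1, a2⟩ := reach_pair hs hall hv hw hvw
  obtain ⟨g₂, hg₂, b1, b2⟩ := reach_pair hs hall hv' hw' hvw'
  refine ⟨g₂ * g₁⁻¹, mul_mem hg₂ (inv_mem hg₁), ?_, ?_⟩
  · rw [Units.val_mul, ← Matrix.mulVec_mulVec, ← a1, inv_mulVec_mulVec, b1]
  · rw [Units.val_mul, ← Matrix.mulVec_mulVec, ← a2, inv_mulVec_mulVec, b2]

/-- a subgroup containing `s` and an element of order five, without elements of order fifteen, is 2-transitive. -/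
theorem twoTrans_of_mem {S : Subgroup GZ} (hs : sG ∈ S) {t : GZ} (ht : t ∈ S) (ht5 : t ^ 5 = 1)
    (ht1 : t ≠ 1) (hno : ∀ g ∈ S, orderOf g ≠ 15) : TwoTrans S := by
  obtain ⟨a, b, c, d, hTE, ha, hb, hc, hd⟩ := valid_enc4 (t : M4)
  have hvalid : Valid [a, b, c, d] := ⟨a, b, c, d, rfl, ha, hb, hc, hd⟩
  have htv : (t : M4) = dec4 [a, b, c, d] := by rw [← hTE, dec4_enc4]
  have h5 : pow5E [a, b, c, d] = ONE4 := by
    have v2 := valid_mul4 hvalid hvalid
    apply dec4_inj (valid_mul4 (valid_mul4 v2 v2) hvalid) valid_ONE4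
    simp only [dec4_mul, dec4_one, ← htv]
    have : (t : M4) * (t : M4) * ((t : M4) * (t : M4)) * (t : M4) = ((t ^ 5 : GZ) : M4) := by
      rw [Units.val_pow_eq_pow_val]
      simp only [pow_succ, pow_zero, one_mul, mul_assoc]
    rw [this, ht5]
    rfl
  have h1 : [a, b, c, d] ≠ ONE4 := by
    intro h
    apply ht1
    apply Units.ext
    rw [htv, h, dec4_one]
    rfl
  have hc := certAll a b c d ha hb hc hd h5 h1
  unfold certOK at hc
  split_ifs at hc with hpar
  · exfalso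
    obtain ⟨W, hW, hWv⟩ := wordE_mem S hs ht htv 10 (CT.find (pack4 [a, b, c, d]) / 2)
    exact hno W hW (ord15_sound (valid_wordE hvalid _ _) hc W hWv)
  · apply twoTrans_of_reach hs
    apply chkTree_sound hs ht htv _ [0] _ hc
    intro k hk
    rw [List.mem_singleton] at hk
    subst hk
    exact ⟨0, by norm_num, reach_zero S⟩

/-! ### subgroups isomorphic to the alternating group -/

theorem card_GZ : Nat.card GZ = 20160 := by
  rw [Matrix.card_GL_field, ZMod.card, Fin.prod_univ_four]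
  norm_num

theorem card_alt7 : Nat.card (alternatingGroup (Fin 7)) = 2520 := by
  have h := two_mul_nat_card_alternatingGroup (α := Fin 7)
  rw [Nat.card_perm, Nat.card_fin] at h
  have : (7 : ℕ).factorial = 5040 := by decide
  omega

theorem card_of_equiv (S : Subgroup GZ) (e : S ≃* alternatingGroup (Fin 7)) : Nat.card S = 2520 := by
  rw [Nat.card_congr e.toEquiv, card_alt7]

theorem no_fifteen (S : Subgroup GZ) (e : S ≃* alternatingGroup (Fin 7)) :
    ∀ g ∈ S, orderOf g ≠ 15 := by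
  intro g hg h
  have h1 : orderOf (⟨g, hg⟩ : S) = 15 := by
    rw [← h]
    exact Subgroup.orderOf_mk g hg
  have h2 : orderOf (e ⟨g, hg⟩) = 15 := by rw [MulEquiv.orderOf_eq, h1]
  have h3 : orderOf ((e ⟨g, hg⟩ : alternatingGroup (Fin 7)) : Equiv.Perm (Fin 7)) = 15 := by
    rw [Subgroup.orderOf_coe, h2]
  exact Cfsg.Agent.Lib.Helper19.A7NoFifteen.orderOf_ne_fifteen _ h3

theorem exists_order (S : Subgroup GZ) (e : S ≃* alternatingGroup (Fin 7)) (p : ℕ) [Fact p.Prime]
    (hp : p ∣ 2520) : ∃ x ∈ S, orderOf x = p := by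
  have hdvd : p ∣ Nat.card S := by rw [card_of_equiv S e]; exact hp
  obtain ⟨x, hx⟩ := exists_prime_orderOf_dvd_card' p hdvd
  exact ⟨x.1, x.2, by rw [Subgroup.orderOf_coe, hx]⟩

theorem key (S : Subgroup GZ) (e : S ≃* alternatingGroup (Fin 7)) (hs : sG ∈ S) : TwoTrans S := by
  have : Fact (Nat.Prime 5) := ⟨by norm_num⟩
  obtain ⟨t, ht, ht5⟩ := exists_order S e 5 (by norm_num)
  apply twoTrans_of_mem hs ht _ _ (no_fifteen S e)
  · rw [← ht5]
    exact pow_orderOf_eq_one t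
  · intro h
    rw [h, orderOf_one] at ht5
    norm_num at ht5

/-- every subgroup of `GL₄(2)` isomorphic to the alternating group of degree seven is 2-transitive on the non-zero
vectors. -/
theorem main (H : Subgroup GZ) (e : H ≃* alternatingGroup (Fin 7)) : TwoTrans H := by
  have : Fact (Nat.Prime 7) := ⟨by norm_num⟩
  obtain ⟨x, hx, hx7⟩ := exists_order H e 7 (by norm_num)
  have hP : Nat.card (Subgroup.zpowers x) = 7 ^ 1 := by
    rw [Nat.card_zpowers, hx7]
    norm_num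
  have hP0 : Nat.card (Subgroup.zpowers sG) = 7 ^ 1 := by
    rw [Nat.card_zpowers, orderOf_sG]
    norm_num
  obtain ⟨g, hg⟩ := Cfsg.Agent.Lib.Helper19.SylConj.exists_conj_eq (Subgroup.zpowers x)
    (Subgroup.zpowers sG) 1 hP hP0 (by rw [card_GZ]; norm_num)
  have hmem : ∀ y : GZ, y ∈ MulAut.conj g • H ↔ g⁻¹ * y * g ∈ H := by
    intro y
    rw [Subgroup.mem_pointwise_smul_iff_inv_smul_mem, MulAut.smul_def, MulAut.conj_inv_apply]
  have hs : sG ∈ MulAut.conj g • H := by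
    have h1 : sG ∈ MulAut.conj g • Subgroup.zpowers x := by
      rw [← hg]
      exact Subgroup.mem_zpowers sG
    rw [Subgroup.mem_pointwise_smul_iff_inv_smul_mem] at h1 ⊢
    exact (Subgroup.zpowers_le.mpr hx) h1
  have e' : (MulAut.conj g • H : Subgroup GZ) ≃* alternatingGroup (Fin 7) :=
    (Subgroup.equivSMul (MulAut.conj g) H).symm.trans e
  have h2 := key _ e' hs
  intro v w v' w' hv hw hvw hv' hw' hvw'
  have hne : ∀ u : V4, u ≠ 0 → Matrix.mulVec (g : M4) u ≠ 0 := by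
    intro u hu h
    apply hu
    rw [← inv_mulVec_mulVec g u, h, Matrix.mulVec_zero]
  have hinj : ∀ u u' : V4, u ≠ u' → Matrix.mulVec (g : M4) u ≠ Matrix.mulVec (g : M4) u' := by
    intro u u' hu h
    apply hu
    rw [← inv_mulVec_mulVec g u, h, inv_mulVec_mulVec]
  obtain ⟨h', hh', e1, e2⟩ := h2 _ _ _ _ (hne v hv) (hne w hw) (hinj v w hvw) (hne v' hv') (hne w' hw')
    (hinj v' w' hvw')
  refine ⟨g⁻¹ * h' * g, (hmem h').mp hh', ?_, ?_⟩
  · rw [Units.val_mul, Units.val_mul, ← Matrix.mulVec_mulVec, ← Matrix.mulVec_mulVec, e1,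
      inv_mulVec_mulVec]
  · rw [Units.val_mul, Units.val_mul, ← Matrix.mulVec_mulVec, ← Matrix.mulVec_mulVec, e2,
      inv_mulVec_mulVec]

end Cfsg.Agent.Lib.Helper19.A7Trans
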