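import Mathlib

/-!
# Affine maps and 3-closures (helper19, for S3516)
-/

set_option autoImplicit false
set_option linter.unusedSectionVars false

namespace Cfsg.Agent.Lib.Helper19.Aff3

open Module

/-- A permutation of a vector space over `ZMod p` (`p` odd) preserving all affine combinations
of two points is affine. -/
theorem affine_of_combo {p : ℕ} [Fact p.Prime] (hp : p ≠ 2) {V : Type*} [AddCommGroup V]
    [Module (ZMod p) V] (σ : Equiv.Perm V)
    (h : ∀ (x y : V) (c : ZMod p), σ ((1 - c) • x + c • y) = (1 - c) • σ x + c • σ y) :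
    ∃ (A : V ≃ₗ[ZMod p] V) (b : V), ∀ x, σ x = A x + b := by
  have h2 : (2 : ZMod p) ≠ 0 := by
    intro h0
    have : ((2 : ℕ) : ZMod p) = 0 := by exact_mod_cast h0
    rw [ZMod.natCast_eq_zero_iff] at this
    have hp' := (Fact.out : p.Prime)
    have := (Nat.prime_dvd_prime_iff_eq hp' Nat.prime_two).1 this
    exact hp this
  let f : V → V := fun x => σ x - σ 0
  have hsmul : ∀ (c : ZMod p) (y : V), f (c • y) = c • f y := by
    intro c y
    have := h 0 y c
    rw [smul_zero, zero_add] at this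
    show σ (c • y) - σ 0 = c • (σ y - σ 0)
    rw [this, smul_sub, sub_smul, one_smul]
    abel
  have hhalf : ∀ x y : V, f ((2 : ZMod p)⁻¹ • (x + y)) = (2 : ZMod p)⁻¹ • (f x + f y) := by
    intro x y
    have := h x y (2 : ZMod p)⁻¹
    have e1 : (1 - (2 : ZMod p)⁻¹) = (2 : ZMod p)⁻¹ := by
      field_simp
      norm_num
    rw [e1] at this
    show σ ((2 : ZMod p)⁻¹ • (x + y)) - σ 0 = (2 : ZMod p)⁻¹ • ((σ x - σ 0) + (σ y - σ 0))
    rw [smul_add, this]
    have e2 : (2 : ZMod p)⁻¹ • (σ x - σ 0 + (σ y - σ 0)) =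
        (2 : ZMod p)⁻¹ • σ x + (2 : ZMod p)⁻¹ • σ y - ((2 : ZMod p)⁻¹ + (2 : ZMod p)⁻¹) • σ 0 := by
      rw [add_smul]; simp only [smul_add, smul_sub]; abel
    have e3 : (2 : ZMod p)⁻¹ + (2 : ZMod p)⁻¹ = 1 := by
      field_simp
      norm_num
    rw [e2, e3, one_smul]
  have hadd : ∀ x y : V, f (x + y) = f x + f y := by
    intro x y
    have h1 := hhalf x y
    rw [hsmul] at h1
    have := congrArg (fun z => (2 : ZMod p) • z) h1
    simp only [smul_smul, mul_inv_cancel₀ h2, one_smul] at this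
    exact this
  let F : V →ₗ[ZMod p] V :=
    { toFun := f
      map_add' := hadd
      map_smul' := fun c y => by simpa using hsmul c y }
  have hbij : Function.Bijective F := by
    constructor
    · intro x y hxy
      have : σ x - σ 0 = σ y - σ 0 := hxy
      exact σ.injective (sub_left_injective this)
    · intro z
      obtain ⟨x, hx⟩ := σ.surjective (z + σ 0)
      refine ⟨x, ?_⟩
      show σ x - σ 0 = z
      rw [hx, add_sub_cancel_right]
  refine ⟨LinearEquiv.ofBijective F hbij, σ 0, fun x => ?_⟩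
  show σ x = (σ x - σ 0) + σ 0
  rw [sub_add_cancel]

/-- In dimension at least 3, any linear equivalence agrees on two given vectors with one of
determinant 1. -/
theorem exists_det_one_agree {K : Type*} [Field K] {V : Type*} [AddCommGroup V] [Module K V]
    [FiniteDimensional K V] (hd : 3 ≤ finrank K V) (A : V ≃ₗ[K] V) (u v : V) :
    ∃ B : V ≃ₗ[K] V, LinearMap.det (B : V →ₗ[K] V) = 1 ∧ B u = A u ∧ B v = A v := by
  classical
  let W : Submodule K V := Submodule.span K {A u, A v}
  have hW : W < ⊤ := by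
    rw [lt_top_iff_ne_top]
    intro htop
    have h1 : finrank K W ≤ 2 := by
      have := finrank_span_finset_le_card (R := K) ({A u, A v} : Finset V)
      have h2 : ({A u, A v} : Finset V).card ≤ 2 := Finset.card_le_two
      have e : Submodule.span K (({A u, A v} : Finset V) : Set V) = W := by
        simp [W]
      have e2 : Set.finrank K ((({A u, A v} : Finset V)) : Set V) = finrank K W := by
        unfold Set.finrank; rw [e]
      rw [e2] at this
      omega
    rw [htop, finrank_top] at h1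
    omega
  obtain ⟨φ, hφ0, hφW⟩ := Submodule.exists_le_ker_of_lt_top W hW
  obtain ⟨w₀, hw₀⟩ : ∃ w₀ : V, φ w₀ ≠ 0 := by
    by_contra hcon
    push Not at hcon
    exact hφ0 (LinearMap.ext hcon)
  let w : V := (φ w₀)⁻¹ • w₀
  have hw : φ w = 1 := by
    show φ ((φ w₀)⁻¹ • w₀) = 1
    rw [map_smul, smul_eq_mul, inv_mul_cancel₀ hw₀]
  have hdetA : IsUnit (LinearMap.det (A : V →ₗ[K] V)) := LinearEquiv.isUnit_det' A
  set δ := LinearMap.det (A : V →ₗ[K] V) with hδ
  have hδ0 : δ ≠ 0 := hdetA.ne_zero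
  have hunit : IsUnit (1 + φ ((δ⁻¹ - 1) • w)) := by
    rw [map_smul, hw, smul_eq_mul, mul_one, add_sub_cancel]
    exact (isUnit_iff_ne_zero.2 (inv_ne_zero hδ0))
  let C : V ≃ₗ[K] V := LinearEquiv.dilatransvection hunit
  have hCfix : ∀ x ∈ W, C x = x := by
    intro x hx
    have : φ x = 0 := hφW hx
    rw [LinearEquiv.dilatransvection.apply, this, zero_smul, add_zero]
  have hCdet : LinearMap.det (C : V →ₗ[K] V) = δ⁻¹ := by
    have : (C : V →ₗ[K] V) = LinearMap.transvection φ ((δ⁻¹ - 1) • w) := rfl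
    rw [this, LinearMap.transvection.det, map_smul, hw, smul_eq_mul, mul_one, add_sub_cancel]
  refine ⟨A.trans C, ?_, ?_, ?_⟩
  · have : ((A.trans C : V ≃ₗ[K] V) : V →ₗ[K] V) = (C : V →ₗ[K] V) ∘ₗ (A : V →ₗ[K] V) := rfl
    rw [this, LinearMap.det_comp, hCdet, ← hδ, inv_mul_cancel₀ hδ0]
  · show C (A u) = A u
    exact hCfix _ (Submodule.subset_span (by simp))
  · show C (A v) = A v
    exact hCfix _ (Submodule.subset_span (by simp))

theorem f2_cases : ∀ v : Fin 2 → ZMod 2, v = 0 ∨ v = ![1, 0] ∨ v = ![0, 1] ∨ v = ![1, 1] := by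
  decide

end Cfsg.Agent.Lib.Helper19.Aff3
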