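import Mathlib
import Cfsg.Agent.Lib.Helper19.A6Spec

set_option autoImplicit false

namespace Cfsg.Agent.Lib.Helper19

open Polynomial

section field
variable {F : Type*} [Field F] [Fintype F]

theorem two_eq_zero_of_card_four (hF : Fintype.card F = 4) : (2 : F) = 0 := by
  have h := FiniteField.cast_card_eq_zero F
  rw [hF] at h
  have h4 : (2 : F) * 2 = 0 := by
    rw [← h]; norm_num
  exact mul_self_eq_zero.mp h4

theorem f4_cases (hF : Fintype.card F = 4) (w : F) : w = 0 ∨ w = 1 ∨ w ^ 2 = w + 1 := by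
  by_cases h0 : w = 0
  · exact Or.inl h0
  by_cases h1 : w = 1
  · exact Or.inr (Or.inl h1)
  right; right
  have h3 : w ^ 3 = 1 := by
    have := FiniteField.pow_card_sub_one_eq_one w h0
    rwa [hF] at this
  have h2 := two_eq_zero_of_card_four hF
  have hne : w - 1 ≠ 0 := sub_ne_zero.mpr h1
  have : (w - 1) * (w ^ 2 - (w + 1)) = 0 := by grind
  rcases mul_eq_zero.mp this with h | h
  · exact absurd h hne
  · exact sub_eq_zero.mp h

theorem exists_ne_zero_one (hF : Fintype.card F = 4) : ∃ w : F, w ≠ 0 ∧ w ≠ 1 := by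
  classical
  by_contra hcon
  push Not at hcon
  have hsub : (Finset.univ : Finset F) ⊆ {0, 1} := by
    intro x _
    by_cases hx : x = 0
    · simp [hx]
    · simp [hcon x hx]
  have := Finset.card_le_card hsub
  rw [Finset.card_univ, hF] at this
  have h2 : ({0, 1} : Finset F).card ≤ 2 := Finset.card_le_two
  omega

end field

section alg
variable {F : Type*} [Field F] {R : Type*} [Ring R] [Algebra F R]

theorem two_eq_zero_poly (h2 : (2 : F) = 0) : (2 : F[X]) = 0 := by
  have : (C (2 : F) : F[X]) = 0 := by rw [h2, map_zero]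
  rwa [map_ofNat] at this

theorem aeval_rel (M : R) (s : F) (hrel : M ^ 3 = s • M ^ 2 + s • M + 1) :
    aeval M (X ^ 3 - C s * X ^ 2 - C s * X - 1 : F[X]) = 0 := by
  simp only [map_sub, map_mul, map_pow, aeval_X, aeval_C, map_one, hrel,
    Algebra.algebraMap_eq_smul_one, smul_mul_assoc, one_mul]
  abel

theorem pow_three_of_rel (M : R) (s : F) (hs : s = 0)
    (hrel : M ^ 3 = s • M ^ 2 + s • M + 1) : M ^ 3 = 1 := by
  subst hs
  simpa using hrel

theorem pow_four_of_rel (M : R) (s : F) (h2 : (2 : F) = 0) (hs : s = 1)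
    (hrel : M ^ 3 = s • M ^ 2 + s • M + 1) : M ^ 4 = 1 := by
  have h2' := two_eq_zero_poly h2
  have hpM := aeval_rel M s hrel
  subst hs
  have key : (X ^ 4 - 1 : F[X]) = (X ^ 3 - C 1 * X ^ 2 - C 1 * X - 1) * (X + 1) := by
    simp only [map_one]
    grind
  have := congrArg (aeval M) key
  rw [map_mul, hpM, zero_mul] at this
  simpa [sub_eq_zero] using this

theorem pow_five_of_rel (M : R) (s : F) (h2 : (2 : F) = 0) (hs : s ^ 2 = s + 1)
    (hrel : M ^ 3 = s • M ^ 2 + s • M + 1) : M ^ 5 = 1 := by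
  have h2' := two_eq_zero_poly h2
  have hpM := aeval_rel M s hrel
  have hs' : (C s : F[X]) ^ 2 = C s + 1 := by
    rw [← map_pow, hs, map_add, map_one]
  have key : (X ^ 5 - 1 : F[X]) =
      (X ^ 3 - C s * X ^ 2 - C s * X - 1) * (X ^ 2 + C s * X + 1) := by
    grind
  have := congrArg (aeval M) key
  rw [map_mul, hpM, zero_mul] at this
  simpa [sub_eq_zero] using this

theorem pow_cases (M : R) (s : F) (h2 : (2 : F) = 0)
    (hs : s = 0 ∨ s = 1 ∨ s ^ 2 = s + 1)
    (hrel : M ^ 3 = s • M ^ 2 + s • M + 1) : M ^ 3 = 1 ∨ M ^ 4 = 1 ∨ M ^ 5 = 1 := by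
  rcases hs with hs | hs | hs
  · exact Or.inl (pow_three_of_rel M s hs hrel)
  · exact Or.inr (Or.inl (pow_four_of_rel M s h2 hs hrel))
  · exact Or.inr (Or.inr (pow_five_of_rel M s h2 hs hrel))

end alg

section mat
variable {F : Type*} [Field F]

theorem aff_cayley (M : Matrix (Fin 3) (Fin 3) F) (h2 : (2 : F) = 0)
    (h20 : M 2 0 = 0) (h21 : M 2 1 = 0) (h22 : M 2 2 = 1) (hdet : M.det = 1) :
    M ^ 3 = (M 0 0 + M 1 1 + 1) • M ^ 2 + (M 0 0 + M 1 1 + 1) • M + 1 := by
  rw [Matrix.det_fin_three, h20, h21, h22] at hdet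
  ext i j
  fin_cases i <;> fin_cases j <;>
    simp [pow_succ, Matrix.mul_apply, Fin.sum_univ_three, h20, h21, h22] <;> grind

/-- the affine subset of `SL₃(F)` -/
def affSet (F : Type*) [Field F] : Set (Matrix.SpecialLinearGroup (Fin 3) F) :=
  {M | (M : Matrix (Fin 3) (Fin 3) F) 2 0 = 0 ∧ (M : Matrix (Fin 3) (Fin 3) F) 2 1 = 0 ∧
    (M : Matrix (Fin 3) (Fin 3) F) 2 2 = 1}

theorem mem_affSet_of_mem_closure {M : Matrix.SpecialLinearGroup (Fin 3) F}
    (hM : M ∈ Subgroup.closure (affSet F)) : M ∈ affSet F := by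
  induction hM using Subgroup.closure_induction with
  | mem x hx => exact hx
  | one => simp [affSet]
  | mul x y _ _ hx hy =>
    obtain ⟨hx0, hx1, hx2⟩ := hx
    obtain ⟨hy0, hy1, hy2⟩ := hy
    simp [affSet, Matrix.mul_apply, Fin.sum_univ_three, hx0, hx1, hx2, hy0, hy1, hy2]
  | inv x _ hx =>
    obtain ⟨hx0, hx1, hx2⟩ := hx
    have h : (x : Matrix (Fin 3) (Fin 3) F) * ((x⁻¹ : Matrix.SpecialLinearGroup (Fin 3) F) :
        Matrix (Fin 3) (Fin 3) F) = 1 := by
      rw [← Matrix.SpecialLinearGroup.coe_mul, mul_inv_cancel, Matrix.SpecialLinearGroup.coe_one]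
    have h0 := congrFun (congrFun h 2) 0
    have h1 := congrFun (congrFun h 2) 1
    have h2 := congrFun (congrFun h 2) 2
    simp only [Matrix.mul_apply, Fin.sum_univ_three, hx0, hx1, hx2, zero_mul, zero_add,
      one_mul] at h0 h1 h2
    refine ⟨?_, ?_, ?_⟩
    · rw [h0]; simp
    · rw [h1]; simp
    · rw [h2]; simp

theorem sl_pow_eq_one_iff (g : Matrix.SpecialLinearGroup (Fin 3) F) (k : ℕ) :
    g ^ k = 1 ↔ (g : Matrix (Fin 3) (Fin 3) F) ^ k = 1 := by
  rw [← Matrix.SpecialLinearGroup.coe_pow, ← Matrix.SpecialLinearGroup.coe_one]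
  exact Subtype.ext_iff

/-- an element of `SL₃(F)` in characteristic two, given by its affine data -/
def affMk (h2 : (2 : F) = 0) (a b c d e f : F) (hdet : a * d + b * c = 1) :
    Matrix.SpecialLinearGroup (Fin 3) F :=
  ⟨!![a, b, e; c, d, f; 0, 0, 1], by
    rw [Matrix.det_fin_three]
    simp
    grind⟩

theorem affMk_mem (h2 : (2 : F) = 0) (a b c d e f : F) (hdet : a * d + b * c = 1) :
    affMk h2 a b c d e f hdet ∈ affSet F := by
  refine ⟨?_, ?_, ?_⟩ <;> simp [affMk]

theorem affMk_rel (h2 : (2 : F) = 0) (a b c d e f : F) (hdet : a * d + b * c = 1) :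
    (affMk h2 a b c d e f hdet : Matrix (Fin 3) (Fin 3) F) ^ 3 =
      (a + d + 1) • (affMk h2 a b c d e f hdet : Matrix (Fin 3) (Fin 3) F) ^ 2 +
      (a + d + 1) • (affMk h2 a b c d e f hdet : Matrix (Fin 3) (Fin 3) F) + 1 := by
  have hm := affMk_mem h2 a b c d e f hdet
  have := aff_cayley (affMk h2 a b c d e f hdet : Matrix (Fin 3) (Fin 3) F) h2 hm.1 hm.2.1 hm.2.2
    (affMk h2 a b c d e f hdet).2
  simpa [affMk] using this

end mat

section spec
variable {F : Type*} [Field F]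

theorem aff_orderOf [Fintype F] (hF : Fintype.card F = 4) (g : Matrix.SpecialLinearGroup (Fin 3) F)
    (hg : g ∈ affSet F) :
    orderOf g = 1 ∨ orderOf g = 2 ∨ orderOf g = 3 ∨ orderOf g = 4 ∨ orderOf g = 5 := by
  have h2 := two_eq_zero_of_card_four hF
  have hrel := aff_cayley (g : Matrix (Fin 3) (Fin 3) F) h2 hg.1 hg.2.1 hg.2.2 g.2
  have hs := f4_cases hF ((g : Matrix (Fin 3) (Fin 3) F) 0 0 + (g : Matrix (Fin 3) (Fin 3) F) 1 1 + 1)
  apply dvd_three_four_five
  rcases pow_cases _ _ h2 hs hrel with h | h | h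
  · exact Or.inl (orderOf_dvd_of_pow_eq_one ((sl_pow_eq_one_iff g 3).mpr h))
  · exact Or.inr (Or.inl (orderOf_dvd_of_pow_eq_one ((sl_pow_eq_one_iff g 4).mpr h)))
  · exact Or.inr (Or.inr (orderOf_dvd_of_pow_eq_one ((sl_pow_eq_one_iff g 5).mpr h)))

theorem aff_exists_order_two (h2 : (2 : F) = 0) : ∃ g ∈ affSet F, orderOf g = 2 := by
  refine ⟨affMk h2 1 0 0 1 1 0 (by simp), affMk_mem _ _ _ _ _ _ _ _, ?_⟩
  apply orderOf_eq_prime
  · rw [sl_pow_eq_one_iff]
    ext i j
    fin_cases i <;> fin_cases j <;>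
      simp [affMk, pow_succ, Matrix.mul_apply, Fin.sum_univ_three] <;> grind
  · intro h
    have := congrArg (fun M : Matrix.SpecialLinearGroup (Fin 3) F =>
      (M : Matrix (Fin 3) (Fin 3) F) 0 2) h
    simp [affMk] at this

theorem aff_exists_order_three (h2 : (2 : F) = 0) : ∃ g ∈ affSet F, orderOf g = 3 := by
  refine ⟨affMk h2 0 1 1 1 0 0 (by simp), affMk_mem _ _ _ _ _ _ _ _, ?_⟩
  have : Fact (Nat.Prime 3) := ⟨Nat.prime_three⟩
  apply orderOf_eq_prime
  · rw [sl_pow_eq_one_iff]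
    exact pow_three_of_rel _ _ (by grind) (affMk_rel h2 _ _ _ _ _ _ _)
  · intro h
    have := congrArg (fun M : Matrix.SpecialLinearGroup (Fin 3) F =>
      (M : Matrix (Fin 3) (Fin 3) F) 0 1) h
    simp [affMk] at this

theorem aff_exists_order_four (h2 : (2 : F) = 0) : ∃ g ∈ affSet F, orderOf g = 4 := by
  refine ⟨affMk h2 1 1 0 1 0 1 (by simp), affMk_mem _ _ _ _ _ _ _ _, ?_⟩
  apply orderOf_eq_prime_pow (p := 2) (n := 1)
  · intro h
    rw [pow_one, sl_pow_eq_one_iff] at h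
    have := congrFun (congrFun h 0) 2
    simp [affMk, pow_succ, Matrix.mul_apply, Fin.sum_univ_three] at this
  · rw [sl_pow_eq_one_iff]
    exact pow_four_of_rel _ _ h2 (by grind) (affMk_rel h2 _ _ _ _ _ _ _)

theorem aff_exists_order_five [Fintype F] (hF : Fintype.card F = 4) : ∃ g ∈ affSet F, orderOf g = 5 := by
  have h2 := two_eq_zero_of_card_four hF
  obtain ⟨w, hw0, hw1⟩ := exists_ne_zero_one hF
  have hw : w ^ 2 = w + 1 := by
    rcases f4_cases hF w with h | h | h
    · exact absurd h hw0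
    · exact absurd h hw1
    · exact h
  refine ⟨affMk h2 0 1 1 w 0 0 (by simp), affMk_mem _ _ _ _ _ _ _ _, ?_⟩
  have : Fact (Nat.Prime 5) := ⟨Nat.prime_five⟩
  apply orderOf_eq_prime
  · rw [sl_pow_eq_one_iff]
    exact pow_five_of_rel _ _ h2 (by grind) (affMk_rel h2 _ _ _ _ _ _ _)
  · intro h
    have := congrArg (fun M : Matrix.SpecialLinearGroup (Fin 3) F =>
      (M : Matrix (Fin 3) (Fin 3) F) 0 1) h
    simp [affMk] at this

theorem aff_spec [Fintype F] (hF : Fintype.card F = 4) :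
    Set.range (orderOf : Subgroup.closure (affSet F) → ℕ) = {1, 2, 3, 4, 5} := by
  have h2 := two_eq_zero_of_card_four hF
  ext n
  simp only [Set.mem_range, Set.mem_insert_iff, Set.mem_singleton_iff]
  constructor
  · rintro ⟨g, rfl⟩
    rw [← Subgroup.orderOf_coe]
    exact aff_orderOf hF g.1 (mem_affSet_of_mem_closure g.2)
  · have key : ∀ n, (∃ g ∈ affSet F, orderOf g = n) →
        ∃ g : Subgroup.closure (affSet F), orderOf g = n := by
      rintro n ⟨g, hg, rfl⟩
      exact ⟨⟨g, Subgroup.subset_closure hg⟩, Subgroup.orderOf_mk _ _⟩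
    rintro (rfl | rfl | rfl | rfl | rfl)
    · exact ⟨1, orderOf_one⟩
    · exact key _ (aff_exists_order_two h2)
    · exact key _ (aff_exists_order_three h2)
    · exact key _ (aff_exists_order_four h2)
    · exact key _ (aff_exists_order_five hF)

end spec

end Cfsg.Agent.Lib.Helper19
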