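import Mathlib

set_option autoImplicit false

namespace Cfsg.Agent.Lib.Helper19

universe u

/-- number theory: if `n = lcm a b`, `n ∣ a * p`, `n ∣ b * p` then `n = a` or `n = b`. -/
theorem lcm_case' (a b p : ℕ) (hp : p.Prime) (ha : 0 < a) (hb : 0 < b)
    (h1 : Nat.lcm a b ∣ a * p) (h2 : Nat.lcm a b ∣ b * p) : Nat.lcm a b = a ∨ Nat.lcm a b = b := by
  set n := Nat.lcm a b with hn
  have han : a ∣ n := Nat.dvd_lcm_left a b
  have hbn : b ∣ n := Nat.dvd_lcm_right a b
  by_contra hcon
  push_neg at hcon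
  obtain ⟨c, hc⟩ := han
  obtain ⟨d, hd⟩ := hbn
  have hcp : c ∣ p := by
    rw [hc] at h1
    exact (Nat.mul_dvd_mul_iff_left ha).mp h1
  have hdp : d ∣ p := by
    rw [hd] at h2
    exact (Nat.mul_dvd_mul_iff_left hb).mp h2
  have hc1 : c = p := by
    rcases (Nat.dvd_prime hp).mp hcp with h | h
    · exfalso; apply hcon.1; rw [hc, h, mul_one]
    · exact h
  have hd1 : d = p := by
    rcases (Nat.dvd_prime hp).mp hdp with h | h
    · exfalso; apply hcon.2; rw [hd, h, mul_one]
    · exact h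
  have hab : a = b := by
    have : a * p = b * p := by rw [← hc1, ← hc]; rw [hc1, ← hd1, ← hd]
    exact Nat.eq_of_mul_eq_mul_right hp.pos this
  apply hcon.1
  rw [hn, hab, Nat.lcm_self]

/-- `V ⋊ G` has the same spectrum as `G` when `V ⊴ G` has prime exponent. -/
theorem spec_semidirect {G : Type*} [Group G] (V : Subgroup G) [V.Normal] (p : ℕ)
    (hp : p.Prime) (hexp : ∀ x : V, x ^ p = 1) (hfin : ∀ g : G, IsOfFinOrder g) :
    Set.range (orderOf : V ⋊[MulAut.conjNormal] G → ℕ) = Set.range (orderOf : G → ℕ) := by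
  classical
  let ψ : V ⋊[MulAut.conjNormal] G →* G :=
    SemidirectProduct.lift V.subtype (MonoidHom.id G) (by
      intro g
      ext v
      simp [MulAut.conjNormal_apply])
  let π : V ⋊[MulAut.conjNormal] G →* G := SemidirectProduct.rightHom
  have hψ : ∀ x : V ⋊[MulAut.conjNormal] G, ψ x = (x.left : G) * x.right := fun x => rfl
  have hπ : ∀ x : V ⋊[MulAut.conjNormal] G, π x = x.right := fun x => rfl
  let Ψ : V ⋊[MulAut.conjNormal] G →* G × G := ψ.prod π
  have hΨinj : Function.Injective Ψ := by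
    intro x y hxy
    have h1 : ψ x = ψ y := congrArg Prod.fst hxy
    have h2 : π x = π y := congrArg Prod.snd hxy
    rw [hψ, hψ] at h1
    rw [hπ, hπ] at h2
    rw [h2] at h1
    have h3 : (x.left : G) = y.left := mul_right_cancel h1
    exact SemidirectProduct.ext (Subtype.ext h3) h2
  apply Set.eq_of_subset_of_subset
  · rintro n ⟨x, rfl⟩
    have hord : orderOf x = Nat.lcm (orderOf (ψ x)) (orderOf (π x)) := by
      rw [← orderOf_injective Ψ hΨinj x, Prod.orderOf]
      rfl
    have hA : x ^ (orderOf (ψ x) * p) = 1 := by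
      apply hΨinj
      rw [map_pow, map_one]
      refine Prod.ext ?_ ?_
      · show (ψ x) ^ (orderOf (ψ x) * p) = 1
        rw [pow_mul, pow_orderOf_eq_one, one_pow]
      · show (π x) ^ (orderOf (ψ x) * p) = 1
        rw [pow_mul, ← map_pow]
        set y := x ^ orderOf (ψ x) with hy
        have hy1 : ψ y = 1 := by rw [hy, map_pow, pow_orderOf_eq_one]
        rw [hψ] at hy1
        have hy2 : y.right = ((y.left⁻¹ : V) : G) := by
          rw [Subgroup.coe_inv]
          exact eq_inv_of_mul_eq_one_right hy1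
        rw [hπ, hy2, ← Subgroup.coe_pow, hexp]
        rfl
    have hB : x ^ (orderOf (π x) * p) = 1 := by
      apply hΨinj
      rw [map_pow, map_one]
      refine Prod.ext ?_ ?_
      · show (ψ x) ^ (orderOf (π x) * p) = 1
        rw [pow_mul, ← map_pow]
        set y := x ^ orderOf (π x) with hy
        have hy1 : π y = 1 := by rw [hy, map_pow, pow_orderOf_eq_one]
        rw [hπ] at hy1
        rw [hψ, hy1, mul_one, ← Subgroup.coe_pow, hexp]
        rfl
      · show (π x) ^ (orderOf (π x) * p) = 1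
        rw [pow_mul, pow_orderOf_eq_one, one_pow]
    have h1 : orderOf x ∣ orderOf (ψ x) * p := orderOf_dvd_of_pow_eq_one hA
    have h2 : orderOf x ∣ orderOf (π x) * p := orderOf_dvd_of_pow_eq_one hB
    rw [hord] at h1 h2
    rcases lcm_case' _ _ p hp (hfin _).orderOf_pos (hfin _).orderOf_pos h1 h2 with h | h
    · exact ⟨ψ x, by rw [hord, h]⟩
    · exact ⟨π x, by rw [hord, h]⟩
  · rintro n ⟨g, rfl⟩
    exact ⟨SemidirectProduct.inr g, orderOf_injective _ SemidirectProduct.inr_injective g⟩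

/-- transport a finite group to universe 0 -/
theorem exists_type0_copy (H : Type u) [Group H] [Finite H] :
    ∃ (H' : Type) (_ : Group H') (_ : Fintype H'), Fintype.card H' = Nat.card H ∧
      Nonempty (H' ≃* H) := by
  classical
  let e : H ≃ Fin (Nat.card H) := Finite.equivFin H
  letI : Group (Fin (Nat.card H)) := e.symm.group
  refine ⟨Fin (Nat.card H), inferInstance, inferInstance, by simp, ⟨e.symm.mulEquiv⟩⟩

theorem spec_eq_of_mulEquiv {H H' : Type*} [Group H] [Group H'] (e : H' ≃* H) :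
    Set.range (orderOf : H' → ℕ) = Set.range (orderOf : H → ℕ) := by
  ext n
  constructor
  · rintro ⟨x, rfl⟩
    exact ⟨e x, e.orderOf_eq x⟩
  · rintro ⟨x, rfl⟩
    exact ⟨e.symm x, by rw [← e.orderOf_eq, e.apply_symm_apply]⟩

/-- a nontrivial solvable normal subgroup yields a nontrivial normal subgroup of prime exponent -/
theorem exists_normal_exponent_p {G : Type*} [Group G] [Finite G] (K : Subgroup G) [K.Normal]
    (hK : K ≠ ⊥) (hs : IsSolvable K) :
    ∃ (p : ℕ) (V : Subgroup G), p.Prime ∧ V.Normal ∧ V ≠ ⊥ ∧ ∀ x ∈ V, x ^ p = 1 := by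
  classical
  have hex : ∃ n, derivedSeries K n = ⊥ := hs.solvable
  haveI : Nontrivial K := (Subgroup.nontrivial_iff_ne_bot K).mpr hK
  have h0 : derivedSeries K 0 ≠ ⊥ := by
    rw [derivedSeries_zero]
    exact top_ne_bot
  have hn0 : Nat.find hex ≠ 0 := by
    intro h
    have := Nat.find_spec hex
    rw [h] at this
    exact h0 this
  obtain ⟨k, hk⟩ := Nat.exists_eq_succ_of_ne_zero hn0
  have hA'bot : derivedSeries K k ≠ ⊥ := by
    intro h
    have := Nat.find_min' hex h
    omega
  have hA'comm : ⁅derivedSeries K k, derivedSeries K k⁆ = ⊥ := by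
    have := Nat.find_spec hex
    rw [hk] at this
    exact this
  set A' := derivedSeries K k with hA'
  haveI : A'.Characteristic := derivedSeries_characteristic K k
  set A : Subgroup G := A'.map K.subtype with hA
  haveI hAn : A.Normal := inferInstance
  have hAbot : A ≠ ⊥ := by
    intro h
    exact hA'bot ((Subgroup.map_eq_bot_iff_of_injective _ (Subgroup.subtype_injective K)).mp h)
  have hAcomm : ∀ x ∈ A, ∀ y ∈ A, x * y = y * x := by
    rintro _ ⟨x, hx, rfl⟩ _ ⟨y, hy, rfl⟩
    have hle := (Subgroup.commutator_eq_bot_iff_le_centralizer).mp hA'comm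
    have := Subgroup.mem_centralizer_iff.mp (hle hx) y hy
    rw [← map_mul, ← map_mul, this]
  have hcard : Nat.card A ≠ 1 := fun h => hAbot (Subgroup.card_eq_one.mp h)
  obtain ⟨p, hp, hpd⟩ := Nat.exists_prime_and_dvd hcard
  haveI : Fact p.Prime := ⟨hp⟩
  obtain ⟨x₀, hx₀⟩ := exists_prime_orderOf_dvd_card' (G := A) p hpd
  let V : Subgroup G :=
    { carrier := {x | x ∈ A ∧ x ^ p = 1}
      mul_mem' := by
        rintro x y ⟨hx, hxp⟩ ⟨hy, hyp⟩
        refine ⟨A.mul_mem hx hy, ?_⟩
        rw [(show Commute x y from hAcomm x hx y hy).mul_pow, hxp, hyp, one_mul]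
      one_mem' := ⟨A.one_mem, one_pow _⟩
      inv_mem' := by
        rintro x ⟨hx, hxp⟩
        exact ⟨A.inv_mem hx, by rw [inv_pow, hxp, inv_one]⟩ }
  refine ⟨p, V, hp, ?_, ?_, ?_⟩
  · constructor
    rintro x ⟨hx, hxp⟩ g
    refine ⟨hAn.conj_mem x hx g, ?_⟩
    rw [conj_pow, hxp, mul_one, mul_inv_cancel]
  · intro h
    have hx₀V : (x₀ : G) ∈ V := by
      refine ⟨x₀.2, ?_⟩
      rw [← Subgroup.coe_pow, ← hx₀, pow_orderOf_eq_one]
      rfl
    rw [h, Subgroup.mem_bot] at hx₀V
    have : x₀ = 1 := Subtype.ext hx₀V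
    rw [this, orderOf_one] at hx₀
    exact hp.one_lt.ne hx₀
  · rintro x ⟨_, hxp⟩
    exact hxp

/-- arbitrarily large groups with the same spectrum -/
theorem exists_large_same_spec (p : ℕ) (hp : p.Prime) (m : ℕ) :
    ∀ {G : Type u} [Group G] [Finite G] (V : Subgroup G) [V.Normal], V ≠ ⊥ →
      (∀ x ∈ V, x ^ p = 1) →
      ∃ (H : Type u) (_ : Group H) (_ : Finite H), Nat.card G + m ≤ Nat.card H ∧
        Set.range (orderOf : H → ℕ) = Set.range (orderOf : G → ℕ) := by
  induction m with
  | zero =>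
    intro G _ _ V _ _ _
    exact ⟨G, inferInstance, inferInstance, le_refl _, rfl⟩
  | succ m ih =>
    intro G _ _ V _ hV hexp
    -- the semidirect product
    let H₁ := V ⋊[MulAut.conjNormal] G
    haveI : Finite H₁ := Finite.of_equiv _ SemidirectProduct.equivProd.symm
    have hspec : Set.range (orderOf : H₁ → ℕ) = Set.range (orderOf : G → ℕ) :=
      spec_semidirect V p hp (fun x => Subtype.ext (hexp x.1 x.2)) (fun g => isOfFinOrder_of_finite g)
    let V₁ : Subgroup H₁ := (SemidirectProduct.inl : V →* H₁).range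
    haveI : V₁.Normal := by
      show ((SemidirectProduct.inl : V →* H₁).range).Normal
      rw [SemidirectProduct.range_inl_eq_ker_rightHom]
      infer_instance
    have hV₁ : V₁ ≠ ⊥ := by
      intro h
      apply hV
      rw [Subgroup.eq_bot_iff_forall]
      intro v hv
      have : (SemidirectProduct.inl ⟨v, hv⟩ : H₁) ∈ V₁ := ⟨⟨v, hv⟩, rfl⟩
      rw [h, Subgroup.mem_bot] at this
      have h2 : (⟨v, hv⟩ : V) = 1 := SemidirectProduct.inl_injective (by rw [this, map_one])
      exact congrArg Subtype.val h2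
    have hexp₁ : ∀ x ∈ V₁, x ^ p = 1 := by
      rintro _ ⟨v, rfl⟩
      rw [← map_pow, show v ^ p = 1 from Subtype.ext (hexp v.1 v.2), map_one]
    obtain ⟨H, hg, hf, hcard, hsp⟩ := ih V₁ hV₁ hexp₁
    refine ⟨H, hg, hf, ?_, hsp.trans hspec⟩
    have hc1 : Nat.card H₁ = Nat.card V * Nat.card G := SemidirectProduct.card
    have hc2 : 1 < Nat.card V := (Subgroup.one_lt_card_iff_ne_bot V).mpr hV
    have hc3 : 0 < Nat.card G := Nat.card_pos
    have hc4 : 2 * Nat.card G ≤ Nat.card V * Nat.card G := Nat.mul_le_mul_right _ hc2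
    omega

end Cfsg.Agent.Lib.Helper19
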