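import Mathlib
import Cfsg.Agent.Lib.Helper19.AffSL2F4
import Cfsg.Agent.Lib.Helper19.Semidirect

set_option autoImplicit false

namespace Cfsg.Agent.Lib.Helper19

section large
variable {F : Type*} [Field F]

/-- the linear part of an affine matrix -/
noncomputable def affLin (F : Type*) [Field F] :
    Subgroup.closure (affSet F) →* Matrix (Fin 2) (Fin 2) F where
  toFun g := Matrix.of fun i j : Fin 2 =>
    ((g : Matrix.SpecialLinearGroup (Fin 3) F) : Matrix (Fin 3) (Fin 3) F)
      (Fin.castSucc i) (Fin.castSucc j)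
  map_one' := by
    ext i j
    fin_cases i <;> fin_cases j <;> simp
  map_mul' := by
    intro x y
    obtain ⟨hy0, hy1, hy2⟩ := mem_affSet_of_mem_closure y.2
    ext i j
    fin_cases i <;> fin_cases j <;>
      simp [Matrix.mul_apply, Fin.sum_univ_three, Fin.sum_univ_two, hy0, hy1]

theorem affLin_ker_pow_two (h2 : (2 : F) = 0) (g : Subgroup.closure (affSet F))
    (hg : g ∈ (affLin F).ker) : g ^ 2 = 1 := by
  obtain ⟨h20, h21, h22⟩ := mem_affSet_of_mem_closure g.2
  rw [MonoidHom.mem_ker] at hg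
  have h00 := congrFun (congrFun hg 0) 0
  have h01 := congrFun (congrFun hg 0) 1
  have h10 := congrFun (congrFun hg 1) 0
  have h11 := congrFun (congrFun hg 1) 1
  simp [affLin] at h00 h01 h10 h11
  apply Subtype.ext
  rw [Subgroup.coe_pow, Subgroup.coe_one, sl_pow_eq_one_iff]
  ext i j
  fin_cases i <;> fin_cases j <;>
    simp [pow_succ, Matrix.mul_apply, Fin.sum_univ_three, h20, h21, h22, h00, h01, h10, h11] <;>
    grind

theorem affLin_ker_ne_bot (h2 : (2 : F) = 0) : (affLin F).ker ≠ ⊥ := by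
  intro h
  have hmem : (⟨affMk h2 1 0 0 1 1 0 (by simp), Subgroup.subset_closure (affMk_mem _ _ _ _ _ _ _ _)⟩ :
      Subgroup.closure (affSet F)) ∈ (affLin F).ker := by
    rw [MonoidHom.mem_ker]
    ext i j
    fin_cases i <;> fin_cases j <;> simp [affLin, affMk]
  rw [h, Subgroup.mem_bot] at hmem
  have h1 := congrArg (fun g : Subgroup.closure (affSet F) =>
    ((g : Matrix.SpecialLinearGroup (Fin 3) F) : Matrix (Fin 3) (Fin 3) F) 0 2) hmem
  simp [affMk] at h1

theorem aff_large {F : Type} [Field F] [Fintype F] (hF : Fintype.card F = 4) (N : ℕ) :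
    ∃ (H : Type) (_ : Group H) (_ : Fintype H), N < Fintype.card H ∧
      Set.range (orderOf : H → ℕ) = {1, 2, 3, 4, 5} := by
  classical
  have h2 := two_eq_zero_of_card_four hF
  obtain ⟨H, hg, hf, hcard, hsp⟩ :=
    exists_large_same_spec 2 Nat.prime_two (N + 1) (affLin F).ker (affLin_ker_ne_bot h2)
      (fun x hx => affLin_ker_pow_two h2 x hx)
  obtain ⟨H', hg', hf', hcard', ⟨e⟩⟩ := exists_type0_copy H
  refine ⟨H', hg', hf', ?_, ?_⟩
  · rw [hcard']
    omega
  · rw [spec_eq_of_mulEquiv e, hsp, aff_spec hF]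

theorem exists_field_card_four : ∃ (F : Type) (_ : Field F) (_ : Fintype F), Fintype.card F = 4 := by
  let _ : Fintype (GaloisField 2 2) := Fintype.ofFinite _
  refine ⟨GaloisField 2 2, inferInstance, inferInstance, ?_⟩
  have h := GaloisField.card 2 2 (by norm_num)
  rw [Nat.card_eq_fintype_card] at h
  rw [h]
  norm_num

end large

end Cfsg.Agent.Lib.Helper19
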