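import Mathlib

set_option autoImplicit false

namespace Cfsg.Agent.Lib.Helper19

open Polynomial

section psl27
variable {F : Type*} [Field F]

theorem seven_eq_zero_of_card_seven [Fintype F] (hF : Fintype.card F = 7) : (7 : F) = 0 := by
  have h := FiniteField.cast_card_eq_zero F
  rw [hF] at h
  exact_mod_cast h

theorem f7_cases [Fintype F] (hF : Fintype.card F = 7) (t : F) :
    t = 0 ∨ t ^ 2 = 1 ∨ t = 2 ∨ t = -2 ∨ t ^ 2 = 2 := by
  have h7 := seven_eq_zero_of_card_seven hF
  have h7p : t ^ 7 = t := by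
    have := FiniteField.pow_card t
    rwa [hF] at this
  have hprod : t * ((t ^ 2 - 1) * ((t - 2) * ((t + 2) * (t ^ 2 - 2)))) = 0 := by
    linear_combination h7p + (-(t ^ 5) + 2 * t ^ 3 - t) * h7
  rcases mul_eq_zero.mp hprod with h | h
  · exact Or.inl h
  rcases mul_eq_zero.mp h with h | h
  · exact Or.inr (Or.inl (sub_eq_zero.mp h))
  rcases mul_eq_zero.mp h with h | h
  · exact Or.inr (Or.inr (Or.inl (sub_eq_zero.mp h)))
  rcases mul_eq_zero.mp h with h | h
  · exact Or.inr (Or.inr (Or.inr (Or.inl (eq_neg_of_add_eq_zero_left h))))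
  · exact Or.inr (Or.inr (Or.inr (Or.inr (sub_eq_zero.mp h))))

theorem sl2_cayley (M : Matrix (Fin 2) (Fin 2) F) (hdet : M.det = 1) :
    M ^ 2 = (M 0 0 + M 1 1) • M - 1 := by
  rw [Matrix.det_fin_two] at hdet
  ext i j
  fin_cases i <;> fin_cases j <;>
    simp [pow_succ, Matrix.mul_apply, Fin.sum_univ_two] <;> grind

variable {R : Type*} [Ring R] [Algebra F R]

theorem aeval_rel2 (M : R) (t : F) (hrel : M ^ 2 = t • M - 1) :
    aeval M (X ^ 2 - C t * X + 1 : F[X]) = 0 := by
  simp only [map_sub, map_add, map_mul, map_pow, aeval_X, aeval_C, map_one, hrel,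
    Algebra.algebraMap_eq_smul_one, smul_mul_assoc, one_mul]
  abel

theorem seven_eq_zero_poly (h7 : (7 : F) = 0) : (7 : F[X]) = 0 := by
  have : (C (7 : F) : F[X]) = 0 := by rw [h7, map_zero]
  rwa [map_ofNat] at this

theorem pow_seven_of_trace_two (h7 : (7 : F) = 0) (M : R) (hrel : M ^ 2 = (2 : F) • M - 1) :
    M ^ 7 = 1 := by
  have h7' := seven_eq_zero_poly h7
  have hpM := aeval_rel2 M 2 hrel
  have key : (X ^ 7 - 1 : F[X]) = (X ^ 2 - C 2 * X + 1) * (X - 1) ^ 5 := by
    rw [map_ofNat]
    grind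
  have := congrArg (aeval M) key
  rw [map_mul, hpM, zero_mul] at this
  simpa [sub_eq_zero] using this

/-- the possible scalar powers of an element of `SL₂(𝔽₇)` -/
theorem sl27_pow [Fintype F] (hF : Fintype.card F = 7) (M : R) (t : F)
    (hrel : M ^ 2 = t • M - 1) :
    M ^ 2 = -1 ∨ (∃ r : F, r ^ 2 = 1 ∧ M ^ 3 = r • 1) ∨ M ^ 4 = -1 ∨ M ^ 7 = 1 ∨ M ^ 7 = -1 := by
  have h7 := seven_eq_zero_of_card_seven hF
  have h7' := seven_eq_zero_poly h7
  have hpM := aeval_rel2 M t hrel
  rcases f7_cases hF t with h | h | h | h | h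
  · left
    rw [hrel, h, zero_smul, zero_sub]
  · right; left
    refine ⟨-t, by rw [neg_sq, h], ?_⟩
    have ht' : (C t : F[X]) ^ 2 = 1 := by rw [← map_pow, h, map_one]
    have key : (X ^ 3 + C t : F[X]) = (X ^ 2 - C t * X + 1) * (X + C t) := by
      grind
    have := congrArg (aeval M) key
    rw [map_mul, hpM, zero_mul] at this
    simp only [map_add, map_pow, aeval_X, aeval_C, Algebra.algebraMap_eq_smul_one] at this
    rw [neg_smul]
    exact eq_neg_of_add_eq_zero_left this
  · right; right; right; left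
    subst h
    exact pow_seven_of_trace_two h7 M hrel
  · right; right; right; right
    subst h
    have key : (X ^ 7 + 1 : F[X]) = (X ^ 2 - C (-2) * X + 1) * (X + 1) ^ 5 := by
      rw [map_neg, map_ofNat]
      grind
    have := congrArg (aeval M) key
    rw [map_mul, hpM, zero_mul] at this
    simp only [map_add, map_pow, aeval_X, map_one] at this
    exact eq_neg_of_add_eq_zero_left this
  · right; right; left
    have ht' : (C t : F[X]) ^ 2 = 2 := by rw [← map_pow, h, map_ofNat]
    have key : (X ^ 4 + 1 : F[X]) = (X ^ 2 - C t * X + 1) * (X ^ 2 + C t * X + 1) := by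
      grind
    have := congrArg (aeval M) key
    rw [map_mul, hpM, zero_mul] at this
    simp only [map_add, map_pow, aeval_X, map_one] at this
    exact eq_neg_of_add_eq_zero_left this

end psl27

end Cfsg.Agent.Lib.Helper19
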