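import Mathlib
import Cfsg.Agent.Lib.Helper19.AffLarge
import Cfsg.Agent.Lib.Helper19.PSL27a

set_option autoImplicit false

namespace Cfsg.Agent.Lib.Helper19

section char2
variable {F : Type*} [Field F]

/-- trace of the linear part -/
def affTr (g : Subgroup.closure (affSet F)) : F :=
  ((g : Matrix.SpecialLinearGroup (Fin 3) F) : Matrix (Fin 3) (Fin 3) F) 0 0 +
    ((g : Matrix.SpecialLinearGroup (Fin 3) F) : Matrix (Fin 3) (Fin 3) F) 1 1

theorem affLin_det (g : Subgroup.closure (affSet F)) : (affLin F g).det = 1 := by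
  obtain ⟨h20, h21, h22⟩ := mem_affSet_of_mem_closure g.2
  have hdet := (g : Matrix.SpecialLinearGroup (Fin 3) F).2
  rw [Matrix.det_fin_three, h20, h21, h22] at hdet
  rw [Matrix.det_fin_two]
  simp only [affLin, MonoidHom.coe_mk, OneHom.coe_mk, Matrix.of_apply]
  simp only [Fin.castSucc_zero, Fin.castSucc_one]
  linear_combination hdet

theorem affLin_trace (g : Subgroup.closure (affSet F)) :
    affLin F g 0 0 + affLin F g 1 1 = affTr g := by
  simp [affLin, affTr]

theorem pow_eq_one_iff_of_tr_ne_zero (h2 : (2 : F) = 0) (g : Subgroup.closure (affSet F))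
    (ht : affTr g ≠ 0) (k : ℕ) : g ^ k = 1 ↔ (affLin F g) ^ k = 1 := by
  constructor
  · intro h
    rw [← map_pow, h, map_one]
  · intro h
    rw [← map_pow] at h
    set T := g ^ k with hT
    obtain ⟨hT20, hT21, hT22⟩ := mem_affSet_of_mem_closure T.2
    obtain ⟨hg20, hg21, hg22⟩ := mem_affSet_of_mem_closure g.2
    have h00 := congrFun (congrFun h 0) 0
    have h01 := congrFun (congrFun h 0) 1
    have h10 := congrFun (congrFun h 1) 0
    have h11 := congrFun (congrFun h 1) 1
    simp [affLin] at h00 h01 h10 h11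
    have hcomm : g * T = T * g := by rw [hT, ← pow_succ', ← pow_succ]
    have hcomm' : ((g : Matrix.SpecialLinearGroup (Fin 3) F) : Matrix (Fin 3) (Fin 3) F) *
        ((T : Matrix.SpecialLinearGroup (Fin 3) F) : Matrix (Fin 3) (Fin 3) F) =
        ((T : Matrix.SpecialLinearGroup (Fin 3) F) : Matrix (Fin 3) (Fin 3) F) *
        ((g : Matrix.SpecialLinearGroup (Fin 3) F) : Matrix (Fin 3) (Fin 3) F) := by
      rw [← Matrix.SpecialLinearGroup.coe_mul, ← Matrix.SpecialLinearGroup.coe_mul,
        ← Subgroup.coe_mul, ← Subgroup.coe_mul, hcomm]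
    have e1 := congrFun (congrFun hcomm' 0) 2
    have e2 := congrFun (congrFun hcomm' 1) 2
    simp only [Matrix.mul_apply, Fin.sum_univ_three, hT22, hg22, h00, h01,
      h10, h11] at e1 e2
    have hdet := (g : Matrix.SpecialLinearGroup (Fin 3) F).2
    rw [Matrix.det_fin_three, hg20, hg21, hg22] at hdet
    unfold affTr at ht
    have hw0 : (((g : Matrix.SpecialLinearGroup (Fin 3) F) : Matrix (Fin 3) (Fin 3) F) 0 0 +
        ((g : Matrix.SpecialLinearGroup (Fin 3) F) : Matrix (Fin 3) (Fin 3) F) 1 1) *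
        ((T : Matrix.SpecialLinearGroup (Fin 3) F) : Matrix (Fin 3) (Fin 3) F) 0 2 = 0 := by
      grind
    have hw1 : (((g : Matrix.SpecialLinearGroup (Fin 3) F) : Matrix (Fin 3) (Fin 3) F) 0 0 +
        ((g : Matrix.SpecialLinearGroup (Fin 3) F) : Matrix (Fin 3) (Fin 3) F) 1 1) *
        ((T : Matrix.SpecialLinearGroup (Fin 3) F) : Matrix (Fin 3) (Fin 3) F) 1 2 = 0 := by
      grind
    have hw0' := (mul_eq_zero.mp hw0).resolve_left ht
    have hw1' := (mul_eq_zero.mp hw1).resolve_left ht
    apply Subtype.ext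
    apply Subtype.ext
    rw [Subgroup.coe_one, Matrix.SpecialLinearGroup.coe_one]
    ext i j
    fin_cases i <;> fin_cases j <;> simp [hT20, hT21, hT22, h00, h01, h10, h11, hw0', hw1']

end char2

end Cfsg.Agent.Lib.Helper19
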