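import Mathlib
import Cfsg.Agent.Lib.Helper19.AffChar2a

set_option autoImplicit false

namespace Cfsg.Agent.Lib.Helper19

section char2b
variable {F : Type*} [Field F]

/-- the linear part as an element of `SL₂` -/
noncomputable def linPart (g : Subgroup.closure (affSet F)) : Matrix.SpecialLinearGroup (Fin 2) F :=
  ⟨affLin F g, affLin_det g⟩

theorem sl2_pow_eq_one_iff (g : Matrix.SpecialLinearGroup (Fin 2) F) (k : ℕ) :
    g ^ k = 1 ↔ (g : Matrix (Fin 2) (Fin 2) F) ^ k = 1 := by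
  rw [← Matrix.SpecialLinearGroup.coe_pow, ← Matrix.SpecialLinearGroup.coe_one]
  exact Subtype.ext_iff

theorem linPart_pow_eq_one_iff (g : Subgroup.closure (affSet F)) (k : ℕ) :
    (linPart g) ^ k = 1 ↔ (affLin F g) ^ k = 1 :=
  sl2_pow_eq_one_iff (linPart g) k

theorem orderOf_linPart (h2 : (2 : F) = 0) (g : Subgroup.closure (affSet F))
    (ht : affTr g ≠ 0) : orderOf (linPart g) = orderOf g := by
  rw [orderOf_eq_orderOf_iff]
  intro n
  rw [linPart_pow_eq_one_iff, pow_eq_one_iff_of_tr_ne_zero h2 g ht]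

theorem pow_four_of_tr_eq_zero (h2 : (2 : F) = 0) (g : Subgroup.closure (affSet F))
    (ht : affTr g = 0) : g ^ 4 = 1 := by
  obtain ⟨hg20, hg21, hg22⟩ := mem_affSet_of_mem_closure g.2
  have hrel := aff_cayley ((g : Matrix.SpecialLinearGroup (Fin 3) F) : Matrix (Fin 3) (Fin 3) F)
    h2 hg20 hg21 hg22 (g : Matrix.SpecialLinearGroup (Fin 3) F).2
  apply Subtype.ext
  rw [Subgroup.coe_pow, Subgroup.coe_one, sl_pow_eq_one_iff]
  refine pow_four_of_rel _ _ h2 ?_ hrel
  unfold affTr at ht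
  rw [ht, zero_add]

theorem sl2_pow_two_of_tr_eq_zero (h2 : (2 : F) = 0) (A : Matrix.SpecialLinearGroup (Fin 2) F)
    (ht : (A : Matrix (Fin 2) (Fin 2) F) 0 0 + (A : Matrix (Fin 2) (Fin 2) F) 1 1 = 0) :
    A ^ 2 = 1 := by
  rw [sl2_pow_eq_one_iff, sl2_cayley _ A.2, ht, zero_smul, zero_sub]
  ext i j
  fin_cases i <;> fin_cases j <;> simp <;> grind

/-- lift of an element of `SL₂` to the affine group -/
noncomputable def liftAff (h2 : (2 : F) = 0) (A : Matrix.SpecialLinearGroup (Fin 2) F) :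
    Subgroup.closure (affSet F) :=
  ⟨affMk h2 ((A : Matrix (Fin 2) (Fin 2) F) 0 0) ((A : Matrix (Fin 2) (Fin 2) F) 0 1)
    ((A : Matrix (Fin 2) (Fin 2) F) 1 0) ((A : Matrix (Fin 2) (Fin 2) F) 1 1) 0 0 (by
      have := A.2
      rw [Matrix.det_fin_two] at this
      grind), Subgroup.subset_closure (affMk_mem _ _ _ _ _ _ _ _)⟩

theorem linPart_liftAff (h2 : (2 : F) = 0) (A : Matrix.SpecialLinearGroup (Fin 2) F) :
    linPart (liftAff h2 A) = A := by
  apply Subtype.ext
  ext i j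
  fin_cases i <;> fin_cases j <;> simp [linPart, liftAff, affLin, affMk]

theorem affTr_liftAff (h2 : (2 : F) = 0) (A : Matrix.SpecialLinearGroup (Fin 2) F) :
    affTr (liftAff h2 A) =
      (A : Matrix (Fin 2) (Fin 2) F) 0 0 + (A : Matrix (Fin 2) (Fin 2) F) 1 1 := by
  simp [affTr, liftAff, affMk]

theorem sl2_exists_order_two (h2 : (2 : F) = 0) :
    ∃ A : Matrix.SpecialLinearGroup (Fin 2) F, orderOf A = 2 := by
  let A : Matrix.SpecialLinearGroup (Fin 2) F := ⟨!![1, 1; 0, 1], by simp [Matrix.det_fin_two]⟩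
  refine ⟨A, ?_⟩
  apply orderOf_eq_prime
  · rw [sl2_pow_eq_one_iff]
    ext i j
    fin_cases i <;> fin_cases j <;>
      simp [A, pow_succ, Matrix.mul_apply, Fin.sum_univ_two] <;> grind
  · intro h
    have := congrArg (fun M : Matrix.SpecialLinearGroup (Fin 2) F =>
      (M : Matrix (Fin 2) (Fin 2) F) 0 1) h
    simp [A] at this

/-- comparison of the orders occurring in the affine group and in `SL₂` -/
theorem aff_sl2_order_iff (h2 : (2 : F) = 0) (n : ℕ) (hn : n ∣ 4 → n = 2) :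
    (∃ g : Subgroup.closure (affSet F), orderOf g = n) ↔
      (∃ A : Matrix.SpecialLinearGroup (Fin 2) F, orderOf A = n) := by
  constructor
  · rintro ⟨g, rfl⟩
    by_cases ht : affTr g = 0
    · have h4 := orderOf_dvd_of_pow_eq_one (pow_four_of_tr_eq_zero h2 g ht)
      rw [hn h4]
      exact sl2_exists_order_two h2
    · exact ⟨linPart g, orderOf_linPart h2 g ht⟩
  · rintro ⟨A, rfl⟩
    by_cases ht : (A : Matrix (Fin 2) (Fin 2) F) 0 0 + (A : Matrix (Fin 2) (Fin 2) F) 1 1 = 0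
    · have h2' := orderOf_dvd_of_pow_eq_one (sl2_pow_two_of_tr_eq_zero h2 A ht)
      have h4 : orderOf A ∣ 4 := h2'.trans (by norm_num)
      rw [hn h4]
      obtain ⟨g, hg, hg2⟩ := aff_exists_order_two h2
      exact ⟨⟨g, Subgroup.subset_closure hg⟩, by rw [← hg2]; exact Subgroup.orderOf_mk _ _⟩
    · refine ⟨liftAff h2 A, ?_⟩
      have := orderOf_linPart h2 (liftAff h2 A) (by rw [affTr_liftAff]; exact ht)
      rw [linPart_liftAff] at this
      exact this.symm

end char2b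

end Cfsg.Agent.Lib.Helper19
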