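import Mathlib
import Cfsg.Agent.Lib.Helper19.AffChar2b

set_option autoImplicit false

namespace Cfsg.Agent.Lib.Helper19

section char2c
variable {F : Type*} [Field F]

theorem sl2_center_eq_bot (h2 : (2 : F) = 0) :
    Subgroup.center (Matrix.SpecialLinearGroup (Fin 2) F) = ⊥ := by
  rw [eq_bot_iff]
  intro A hA
  rw [Matrix.SpecialLinearGroup.mem_center_iff] at hA
  obtain ⟨r, hr, hA⟩ := hA
  rw [Fintype.card_fin] at hr
  have hr1 : r = 1 := by
    have : (r - 1) ^ 2 = 0 := by grind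
    exact sub_eq_zero.mp (pow_eq_zero_iff (by norm_num) |>.mp this)
  rw [Subgroup.mem_bot]
  apply Subtype.ext
  rw [← hA, hr1, Matrix.SpecialLinearGroup.coe_one, map_one]

theorem psl2_order_iff (h2 : (2 : F) = 0) (n : ℕ) :
    (∃ x : Matrix.ProjectiveSpecialLinearGroup (Fin 2) F, orderOf x = n) ↔
      (∃ A : Matrix.SpecialLinearGroup (Fin 2) F, orderOf A = n) := by
  have key : ∀ A : Matrix.SpecialLinearGroup (Fin 2) F,
      orderOf (QuotientGroup.mk A : Matrix.ProjectiveSpecialLinearGroup (Fin 2) F) = orderOf A := by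
    intro A
    rw [orderOf_eq_orderOf_iff]
    intro k
    rw [← QuotientGroup.mk_pow, QuotientGroup.eq_one_iff, sl2_center_eq_bot h2, Subgroup.mem_bot]
  constructor
  · rintro ⟨x, rfl⟩
    obtain ⟨A, rfl⟩ := QuotientGroup.mk_surjective x
    exact ⟨A, (key A).symm⟩
  · rintro ⟨A, rfl⟩
    exact ⟨QuotientGroup.mk A, key A⟩

theorem prime_dvd_card_iff_exists_orderOf {X : Type*} [Group X] [Finite X] (p : ℕ)
    (hp : p.Prime) : p ∣ Nat.card X ↔ ∃ x : X, orderOf x = p := by
  constructor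
  · intro h
    haveI : Fact p.Prime := ⟨hp⟩
    exact exists_prime_orderOf_dvd_card' p h
  · rintro ⟨x, rfl⟩
    exact orderOf_dvd_natCard x

theorem prime_dvd_four {n : ℕ} (hn : n.Prime) (h : n ∣ 4) : n = 2 := by
  have : n ∣ 2 ^ 2 := by simpa using h
  exact (Nat.prime_dvd_prime_iff_eq hn Nat.prime_two).mp (hn.dvd_of_dvd_pow this)

theorem mul_primes_dvd_four {p q : ℕ} (hp : p.Prime) (hq : q.Prime) (hpq : p ≠ q)
    (h : p * q ∣ 4) : p * q = 2 := by
  exfalso
  have hp2 : p = 2 := prime_dvd_four hp ((Dvd.intro _ rfl).trans h)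
  have hq2 : q = 2 := prime_dvd_four hq ((Dvd.intro_left _ rfl).trans h)
  exact hpq (hp2.trans hq2.symm)

theorem psl2_char_two_prime_graph_large [Finite F] (h2 : (2 : F) = 0) (N : ℕ) :
    ∃ (H : Type) (_ : Group H) (_ : Finite H), N < Nat.card H ∧
      ((∀ p : ℕ, p.Prime → (p ∣ Nat.card (Matrix.ProjectiveSpecialLinearGroup (Fin 2) F) ↔
        p ∣ Nat.card H)) ∧
      (∀ p q : ℕ, p.Prime → q.Prime → p ≠ q →
        ((∃ g : (Matrix.ProjectiveSpecialLinearGroup (Fin 2) F), orderOf g = p * q) ↔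
          (∃ g : H, orderOf g = p * q)))) := by
  classical
  haveI := Fintype.ofFinite F
  obtain ⟨H, hg, hf, hcard, hsp⟩ :=
    exists_large_same_spec 2 Nat.prime_two (N + 1) (affLin F).ker (affLin_ker_ne_bot h2)
      (fun x hx => affLin_ker_pow_two h2 x hx)
  obtain ⟨H', hg', hf', hcard', ⟨e⟩⟩ := exists_type0_copy H
  have hsp' : Set.range (orderOf : H' → ℕ) =
      Set.range (orderOf : Subgroup.closure (affSet F) → ℕ) := by
    rw [spec_eq_of_mulEquiv e, hsp]
  have hH : ∀ n, (∃ h : H', orderOf h = n) ↔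
      (∃ g : Subgroup.closure (affSet F), orderOf g = n) := by
    intro n
    have := Set.ext_iff.mp hsp' n
    simpa [Set.mem_range] using this
  refine ⟨H', hg', Finite.of_fintype H', ?_, ?_, ?_⟩
  · rw [Nat.card_eq_fintype_card, hcard']
    omega
  · intro p hp
    rw [prime_dvd_card_iff_exists_orderOf p hp, prime_dvd_card_iff_exists_orderOf p hp,
      psl2_order_iff h2, hH, aff_sl2_order_iff h2 p (prime_dvd_four hp)]
  · intro p q hp hq hpq
    rw [psl2_order_iff h2, hH, aff_sl2_order_iff h2 (p * q) (mul_primes_dvd_four hp hq hpq)]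

end char2c

end Cfsg.Agent.Lib.Helper19
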