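import Mathlib
import Cfsg.Agent.Lib.Helper19.AffLarge

set_option autoImplicit false

namespace Cfsg.Agent.Lib.Helper19

open Polynomial

section f8
variable {F : Type*} [Field F]

theorem two_eq_zero_of_card_eight [Fintype F] (hF : Fintype.card F = 8) : (2 : F) = 0 := by
  have h := FiniteField.cast_card_eq_zero F
  rw [hF] at h
  have h4 : (2 : F) ^ 3 = 0 := by
    rw [← h]; norm_num
  exact pow_eq_zero_iff (by norm_num) |>.mp h4

theorem f8_cases [Fintype F] (hF : Fintype.card F = 8) (t : F) :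
    t = 0 ∨ t = 1 ∨ t ^ 3 + t + 1 = 0 ∨ t ^ 3 + t ^ 2 + 1 = 0 := by
  have h2 := two_eq_zero_of_card_eight hF
  have h8 : t ^ 8 = t := by
    have := FiniteField.pow_card t
    rwa [hF] at this
  have hprod : t * ((t - 1) * ((t ^ 3 + t + 1) * (t ^ 3 + t ^ 2 + 1))) = 0 := by
    grind
  rcases mul_eq_zero.mp hprod with h | h
  · exact Or.inl h
  rcases mul_eq_zero.mp h with h | h
  · exact Or.inr (Or.inl (sub_eq_zero.mp h))
  rcases mul_eq_zero.mp h with h | h
  · exact Or.inr (Or.inr (Or.inl h))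
  · exact Or.inr (Or.inr (Or.inr h))

variable {R : Type*} [Ring R] [Algebra F R]

theorem pow_seven_of_rel (M : R) (t : F) (h2 : (2 : F) = 0) (ht : t ^ 3 + t ^ 2 + 1 = 0)
    (hrel : M ^ 3 = (t + 1) • M ^ 2 + (t + 1) • M + 1) : M ^ 7 = 1 := by
  have h2' := two_eq_zero_poly h2
  have hpM := aeval_rel M (t + 1) hrel
  have ht' : (C t : F[X]) ^ 3 + C t ^ 2 + 1 = 0 := by
    rw [← map_pow, ← map_pow, ← map_one C, ← map_add, ← map_add, ht, map_zero]
  have key : (X ^ 7 - 1 : F[X]) =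
      (X ^ 3 - C (t + 1) * X ^ 2 - C (t + 1) * X - 1) *
        (1 + (1 + C t) * X + (C t + C t ^ 2) * X ^ 2 + (1 + C t) * X ^ 3 + X ^ 4) := by
    rw [map_add, map_one]
    grind
  have := congrArg (aeval M) key
  rw [map_mul, hpM, zero_mul] at this
  simpa [sub_eq_zero] using this

theorem pow_nine_of_rel (M : R) (t : F) (h2 : (2 : F) = 0) (ht : t ^ 3 + t + 1 = 0)
    (hrel : M ^ 3 = (t + 1) • M ^ 2 + (t + 1) • M + 1) : M ^ 9 = 1 := by
  have h2' := two_eq_zero_poly h2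
  have hpM := aeval_rel M (t + 1) hrel
  have ht' : (C t : F[X]) ^ 3 + C t + 1 = 0 := by
    rw [← map_pow, ← map_one C, ← map_add, ← map_add, ht, map_zero]
  have key : (X ^ 9 - 1 : F[X]) =
      (X ^ 3 - C (t + 1) * X ^ 2 - C (t + 1) * X - 1) *
        (1 + (1 + C t) * X + (C t + C t ^ 2) * X ^ 2 + (1 + C t ^ 2) * X ^ 3 +
          (C t + C t ^ 2) * X ^ 4 + (1 + C t) * X ^ 5 + X ^ 6) := by
    rw [map_add, map_one]
    grind
  have := congrArg (aeval M) key
  rw [map_mul, hpM, zero_mul] at this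
  simpa [sub_eq_zero] using this

end f8

end Cfsg.Agent.Lib.Helper19
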