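import Mathlib
import Cfsg.Agent.Lib.Helper19.AffLarge
import Cfsg.Agent.Lib.Helper19.AffF8a

set_option autoImplicit false

namespace Cfsg.Agent.Lib.Helper19

section f8spec
variable {F : Type*} [Field F]

theorem aff8_pow [Fintype F] (hF : Fintype.card F = 8) (g : Matrix.SpecialLinearGroup (Fin 3) F)
    (hg : g ∈ affSet F) : g ^ 3 = 1 ∨ g ^ 4 = 1 ∨ g ^ 7 = 1 ∨ g ^ 9 = 1 := by
  have h2 := two_eq_zero_of_card_eight hF
  have hrel := aff_cayley (g : Matrix (Fin 3) (Fin 3) F) h2 hg.1 hg.2.1 hg.2.2 g.2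
  set t := (g : Matrix (Fin 3) (Fin 3) F) 0 0 + (g : Matrix (Fin 3) (Fin 3) F) 1 1 with ht
  rcases f8_cases hF t with h | h | h | h
  · right; left
    rw [sl_pow_eq_one_iff]
    exact pow_four_of_rel _ _ h2 (by rw [h, zero_add]) hrel
  · left
    rw [sl_pow_eq_one_iff]
    refine pow_three_of_rel _ _ ?_ hrel
    rw [h]
    grind
  · right; right; right
    rw [sl_pow_eq_one_iff]
    exact pow_nine_of_rel _ t h2 h hrel
  · right; right; left
    rw [sl_pow_eq_one_iff]
    exact pow_seven_of_rel _ t h2 h hrel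

theorem dvd_three_four_seven_nine {n : ℕ} (h : n ∣ 3 ∨ n ∣ 4 ∨ n ∣ 7 ∨ n ∣ 9) :
    n = 1 ∨ n = 2 ∨ n = 3 ∨ n = 4 ∨ n = 7 ∨ n = 9 := by
  rcases h with h | h | h | h
  · rcases (Nat.dvd_prime Nat.prime_three).mp h with h1 | h1 <;> simp [h1]
  · have h4 : n ≤ 4 := Nat.le_of_dvd (by norm_num) h
    interval_cases n <;> simp_all
  · rcases (Nat.dvd_prime (by norm_num : Nat.Prime 7)).mp h with h1 | h1 <;> simp [h1]
  · have h9 : n ≤ 9 := Nat.le_of_dvd (by norm_num) h
    interval_cases n <;> simp_all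

theorem aff8_orderOf [Fintype F] (hF : Fintype.card F = 8)
    (g : Matrix.SpecialLinearGroup (Fin 3) F) (hg : g ∈ affSet F) :
    orderOf g = 1 ∨ orderOf g = 2 ∨ orderOf g = 3 ∨ orderOf g = 4 ∨ orderOf g = 7 ∨
      orderOf g = 9 := by
  apply dvd_three_four_seven_nine
  rcases aff8_pow hF g hg with h | h | h | h
  · exact Or.inl (orderOf_dvd_of_pow_eq_one h)
  · exact Or.inr (Or.inl (orderOf_dvd_of_pow_eq_one h))
  · exact Or.inr (Or.inr (Or.inl (orderOf_dvd_of_pow_eq_one h)))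
  · exact Or.inr (Or.inr (Or.inr (orderOf_dvd_of_pow_eq_one h)))

theorem aff8_exists_order_seven [Fintype F] (hF : Fintype.card F = 8) :
    ∃ g ∈ affSet F, orderOf g = 7 := by
  classical
  have h2 := two_eq_zero_of_card_eight hF
  obtain ⟨w, hw0, hw1⟩ : ∃ w : F, w ≠ 0 ∧ w ≠ 1 := by
    by_contra hcon
    push Not at hcon
    have hsub : (Finset.univ : Finset F) ⊆ {0, 1} := by
      intro x _
      by_cases hx : x = 0
      · simp [hx]
      · simp [hcon x hx]
    have := Finset.card_le_card hsub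
    rw [Finset.card_univ, hF] at this
    have h2 : ({0, 1} : Finset F).card ≤ 2 := Finset.card_le_two
    omega
  have hw7 : w ^ 7 = 1 := by
    have := FiniteField.pow_card_sub_one_eq_one w hw0
    rwa [hF] at this
  refine ⟨affMk h2 w 0 0 w⁻¹ 0 0 (by simp [hw0]), affMk_mem _ _ _ _ _ _ _ _, ?_⟩
  have : Fact (Nat.Prime 7) := ⟨by norm_num⟩
  apply orderOf_eq_prime
  · rw [sl_pow_eq_one_iff]
    have hd : (affMk h2 w 0 0 w⁻¹ 0 0 (by simp [hw0]) : Matrix (Fin 3) (Fin 3) F) =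
        Matrix.diagonal ![w, w⁻¹, 1] := by
      ext i j
      fin_cases i <;> fin_cases j <;> simp [affMk]
    rw [hd, Matrix.diagonal_pow]
    ext i j
    fin_cases i <;> fin_cases j <;> simp [hw7]
  · intro h
    have := congrArg (fun M : Matrix.SpecialLinearGroup (Fin 3) F =>
      (M : Matrix (Fin 3) (Fin 3) F) 0 0) h
    simp [affMk] at this
    exact hw1 this

end f8spec

end Cfsg.Agent.Lib.Helper19
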