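import Mathlib
import Cfsg.Agent.Lib.Helper19.AffLarge
import Cfsg.Agent.Lib.Helper19.AffF8a
import Cfsg.Agent.Lib.Helper19.AffF8b

set_option autoImplicit false

namespace Cfsg.Agent.Lib.Helper19

theorem exists_field_card_eight :
    ∃ (F : Type) (_ : Field F) (_ : Fintype F), Fintype.card F = 8 := by
  let _ : Fintype (GaloisField 2 3) := Fintype.ofFinite _
  refine ⟨GaloisField 2 3, inferInstance, inferInstance, ?_⟩
  have h := GaloisField.card 2 3 (by norm_num)
  rw [Nat.card_eq_fintype_card] at h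
  rw [h]
  norm_num

/-- arbitrarily large groups whose element orders lie in `{1,2,3,4,7,9}` with `2,3,7` occurring -/
theorem aff8_large (N : ℕ) :
    ∃ (H : Type) (_ : Group H) (_ : Finite H), N < Nat.card H ∧
      (∀ h : H, orderOf h = 1 ∨ orderOf h = 2 ∨ orderOf h = 3 ∨ orderOf h = 4 ∨ orderOf h = 7 ∨
        orderOf h = 9) ∧
      (∃ h : H, orderOf h = 2) ∧ (∃ h : H, orderOf h = 3) ∧ (∃ h : H, orderOf h = 7) := by
  classical
  obtain ⟨F, hfield, hfin, hF⟩ := exists_field_card_eight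
  have h2 := two_eq_zero_of_card_eight hF
  obtain ⟨H, hg, hf, hcard, hsp⟩ :=
    exists_large_same_spec 2 Nat.prime_two (N + 1) (affLin F).ker (affLin_ker_ne_bot h2)
      (fun x hx => affLin_ker_pow_two h2 x hx)
  have key : ∀ n, (∃ g ∈ affSet F, orderOf g = n) → ∃ h : H, orderOf h = n := by
    rintro n ⟨g, hg, rfl⟩
    have : orderOf g ∈ Set.range (orderOf : H → ℕ) := by
      rw [hsp]
      exact ⟨⟨g, Subgroup.subset_closure hg⟩, Subgroup.orderOf_mk _ _⟩
    exact this
  refine ⟨H, hg, hf, by omega, ?_, key _ (aff_exists_order_two h2),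
    key _ (aff_exists_order_three h2), key _ (aff8_exists_order_seven hF)⟩
  intro h
  have : orderOf h ∈ Set.range (orderOf : Subgroup.closure (affSet F) → ℕ) := by
    rw [← hsp]; exact ⟨h, rfl⟩
  obtain ⟨g, hg⟩ := this
  rw [← hg, ← Subgroup.orderOf_coe]
  exact aff8_orderOf hF g.1 (mem_affSet_of_mem_closure g.2)

end Cfsg.Agent.Lib.Helper19
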