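import Mathlib
import Cfsg.Agent.S2505
/-! Largest abelian subgroups of alternating groups (S2504): a parity-aware refinement of the orbit
induction of S2505. -/
set_option autoImplicit false

namespace Cfsg.Agent.Lib.Helper19.AltAbelian
open Cfsg.Agent.S2505

/-- bound for even abelian permutation groups -/
def t : ℕ → ℕ
  | 0 => 1
  | 1 => 1
  | 2 => 1
  | 3 => 3
  | 4 => 4
  | 5 => 5
  | 6 => 9
  | 7 => 12
  | 8 => 16
  | (n + 9) => 3 * t (n + 6)

theorem t_add_nine (n : ℕ) : t (n + 9) = 3 * t (n + 6) := by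
  rw [t]

theorem t_add_three {n : ℕ} (hn : 6 ≤ n) : t (n + 3) = 3 * t n := by
  obtain ⟨m, rfl⟩ := Nat.exists_eq_add_of_le hn
  have : 6 + m + 3 = m + 9 := by ring
  rw [this, t_add_nine, add_comm 6 m]

theorem three_mul_t_le (n : ℕ) : 3 * t n ≤ t (n + 3) := by
  rcases Nat.lt_or_ge n 6 with h | h
  · interval_cases n <;> simp [t]
  · rw [t_add_three h]

theorem t_pos (n : ℕ) : 0 < t n := by
  induction n using Nat.strong_induction_on with
  | _ n ih =>
    rcases Nat.lt_or_ge n 9 with h | h
    · interval_cases n <;> simp [t]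
    · obtain ⟨m, rfl⟩ := Nat.exists_eq_add_of_le h
      have : 9 + m = m + 9 := by ring
      rw [this, t_add_nine]
      have := ih (m + 6) (by omega)
      omega

theorem t_mono_succ (n : ℕ) : t n ≤ t (n + 1) := by
  induction n using Nat.strong_induction_on with
  | _ n ih =>
    rcases Nat.lt_or_ge n 9 with h | h
    · interval_cases n <;> simp [t]
    · obtain ⟨m, rfl⟩ := Nat.exists_eq_add_of_le h
      have h1 : 9 + m = m + 9 := by ring
      have h2 : 9 + m + 1 = (m + 1) + 9 := by ring
      rw [h2, h1, t_add_nine, t_add_nine]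
      have := ih (m + 6) (by omega)
      have h3 : m + 6 + 1 = m + 1 + 6 := by ring
      rw [h3] at this
      omega

theorem t_mono {a b : ℕ} (h : a ≤ b) : t a ≤ t b := by
  induction b, h using Nat.le_induction with
  | base => exact le_rfl
  | succ b _ ih => exact ih.trans (t_mono_succ b)

theorem four_mul_t_le (m : ℕ) : 4 * t m ≤ t (m + 4) := by
  induction m using Nat.strong_induction_on with
  | _ m ih =>
    rcases Nat.lt_or_ge m 9 with h | h
    · interval_cases m <;> simp [t]
    · obtain ⟨k, rfl⟩ := Nat.exists_eq_add_of_le h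
      have e1 : t (9 + k) = 3 * t (k + 6) := by
        rw [show 9 + k = k + 9 by ring, t_add_nine]
      have e2 : t (9 + k + 4) = 3 * t (k + 6 + 4) := by
        rw [show 9 + k + 4 = (k + 6 + 4) + 3 by ring, t_add_three (by omega)]
      have := ih (k + 6) (by omega)
      rw [e1, e2]
      omega

theorem five_mul_t_le (m : ℕ) : 5 * t m ≤ t (m + 5) := by
  induction m using Nat.strong_induction_on with
  | _ m ih =>
    rcases Nat.lt_or_ge m 9 with h | h
    · interval_cases m <;> simp [t]
    · obtain ⟨k, rfl⟩ := Nat.exists_eq_add_of_le h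
      have e1 : t (9 + k) = 3 * t (k + 6) := by
        rw [show 9 + k = k + 9 by ring, t_add_nine]
      have e2 : t (9 + k + 5) = 3 * t (k + 6 + 5) := by
        rw [show 9 + k + 5 = (k + 6 + 5) + 3 by ring, t_add_three (by omega)]
      have := ih (k + 6) (by omega)
      rw [e1, e2]
      omega

theorem key_t : ∀ s : ℕ, 3 ≤ s → ∀ m : ℕ, s * t m ≤ t (m + s) := by
  intro s
  induction s using Nat.strong_induction_on with
  | _ s ih =>
    intro hs m
    rcases Nat.lt_or_ge s 6 with h | h
    · interval_cases s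
      · exact three_mul_t_le m
      · exact four_mul_t_le m
      · exact five_mul_t_le m
    · have h1 := ih (s - 3) (by omega) (by omega) (m + 3)
      have h2 := three_mul_t_le m
      have h3 : m + 3 + (s - 3) = m + s := by omega
      rw [h3] at h1
      calc s * t m ≤ (s - 3) * (3 * t m) := by
            have : s ≤ (s - 3) * 3 := by omega
            calc s * t m ≤ ((s - 3) * 3) * t m := Nat.mul_le_mul_right _ this
              _ = (s - 3) * (3 * t m) := by ring
        _ ≤ (s - 3) * t (m + 3) := Nat.mul_le_mul_left _ h2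
        _ ≤ t (m + s) := h1

theorem g_le_t (n : ℕ) : g n ≤ t (n + 2) := by
  induction n using Nat.strong_induction_on with
  | _ n ih =>
    rcases Nat.lt_or_ge n 7 with h | h
    · interval_cases n <;> simp [g, t]
    · obtain ⟨k, rfl⟩ := Nat.exists_eq_add_of_le h
      have e1 : g (7 + k) = 3 * g (k + 4) := by
        rw [show 7 + k = (k + 4) + 3 by ring, g_add_three (by omega)]
      have e2 : t (7 + k + 2) = 3 * t (k + 4 + 2) := by
        rw [show 7 + k + 2 = (k + 4 + 2) + 3 by ring, t_add_three (by omega)]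
      have := ih (k + 4) (by omega)
      rw [e1, e2]
      omega

theorem t_three_mul (k : ℕ) : t (3 * k) = 3 ^ k := by
  induction k using Nat.strong_induction_on with
  | _ k ih =>
    rcases Nat.lt_or_ge k 3 with h | h
    · interval_cases k <;> simp [t]
    · obtain ⟨j, rfl⟩ := Nat.exists_eq_add_of_le h
      have h1 : 3 * (3 + j) = 3 * (2 + j) + 3 := by ring
      rw [h1, t_add_three (by omega), ih (2 + j) (by omega)]
      ring

theorem t_three_mul_add_one (k : ℕ) (hk : 1 ≤ k) : t (3 * k + 1) = 4 * 3 ^ (k - 1) := by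
  induction k using Nat.strong_induction_on with
  | _ k ih =>
    rcases Nat.lt_or_ge k 3 with h | h
    · interval_cases k <;> simp [t]
    · obtain ⟨j, rfl⟩ := Nat.exists_eq_add_of_le h
      have h1 : 3 * (3 + j) + 1 = (3 * (2 + j) + 1) + 3 := by ring
      rw [h1, t_add_three (by omega), ih (2 + j) (by omega) (by omega)]
      have h2 : 3 + j - 1 = (2 + j - 1) + 1 := by omega
      rw [h2, pow_succ]
      ring

theorem t_three_mul_add_two (k : ℕ) (hk : 2 ≤ k) : t (3 * k + 2) = 16 * 3 ^ (k - 2) := by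
  induction k using Nat.strong_induction_on with
  | _ k ih =>
    rcases Nat.lt_or_ge k 3 with h | h
    · interval_cases k <;> simp [t]
    · obtain ⟨j, rfl⟩ := Nat.exists_eq_add_of_le h
      have h1 : 3 * (3 + j) + 2 = (3 * (2 + j) + 2) + 3 := by ring
      rw [h1, t_add_three (by omega), ih (2 + j) (by omega) (by omega)]
      have h2 : 3 + j - 2 = (2 + j - 2) + 1 := by omega
      rw [h2, pow_succ]
      ring

/-- restriction of a permutation group to an invariant subtype -/
def restr {α : Type} (A : Subgroup (Equiv.Perm α)) (P : α → Prop)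
    (h : ∀ a ∈ A, ∀ y, P (a y) ↔ P y) : ↥A →* Equiv.Perm {y // P y} where
  toFun a := (a : Equiv.Perm α).subtypePerm (h a a.2)
  map_one' := by ext y; simp
  map_mul' := by intro a b; ext y; rfl

theorem restr_apply {α : Type} (A : Subgroup (Equiv.Perm α)) (P : α → Prop)
    (h : ∀ a ∈ A, ∀ y, P (a y) ↔ P y) (a : ↥A) (y : {y // P y}) :
    ((restr A P h a) y : α) = (a : Equiv.Perm α) y := rfl

theorem card_le_t : ∀ (n : ℕ) (α : Type) [Fintype α] [DecidableEq α], Fintype.card α = n →
    ∀ A : Subgroup (Equiv.Perm α), (∀ a ∈ A, ∀ b ∈ A, a * b = b * a) →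
      (∀ a ∈ A, Equiv.Perm.sign a = 1) → Nat.card A ≤ t n := by
  intro n
  induction n using Nat.strong_induction_on with
  | _ n ih =>
    intro α _ _ hcard A hA hev
    classical
    rcases isEmpty_or_nonempty α with hemp | ⟨⟨x⟩⟩
    · have h1 : Nat.card A ≤ 1 := Finite.card_le_one_iff_subsingleton.mpr inferInstance
      have h0 : n = 0 := by rw [← hcard]; exact Fintype.card_eq_zero
      rw [h0]
      simpa [t] using h1
    · obtain ⟨O, hO⟩ : ∃ O : Set α, O = {y | ∃ a ∈ A, a x = y} := ⟨_, rfl⟩
      have hxO : x ∈ O := by rw [hO]; exact ⟨1, A.one_mem, rfl⟩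
      have hOinv : ∀ a ∈ A, ∀ y, a y ∈ O ↔ y ∈ O := by
        intro a ha y
        rw [hO]
        constructor
        · rintro ⟨b, hb, hby⟩
          refine ⟨a⁻¹ * b, A.mul_mem (A.inv_mem ha) hb, ?_⟩
          rw [Equiv.Perm.mul_apply, hby]; simp
        · rintro ⟨b, hb, rfl⟩
          exact ⟨a * b, A.mul_mem ha hb, rfl⟩
      obtain ⟨St, hSt⟩ : ∃ St : Subgroup (Equiv.Perm α),
        St = A ⊓ MulAction.stabilizer (Equiv.Perm α) x := ⟨_, rfl⟩
      have hStA : St ≤ A := hSt ▸ inf_le_left
      have hfix : ∀ s ∈ St, ∀ y ∈ O, s y = y := by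
        intro s hs y hy
        rw [hSt] at hs
        obtain ⟨hsA, hsx⟩ := Subgroup.mem_inf.mp hs
        rw [hO] at hy
        obtain ⟨a, ha, rfl⟩ := hy
        have h1 : s * a = a * s := hA s hsA a ha
        have h2 : s x = x := hsx
        calc s (a x) = (s * a) x := rfl
          _ = (a * s) x := by rw [h1]
          _ = a (s x) := rfl
          _ = a x := by rw [h2]
      have horb : MulAction.orbit ↥A x = O := by
        ext y; rw [hO]; constructor
        · rintro ⟨a, rfl⟩; exact ⟨a.1, a.2, rfl⟩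
        · rintro ⟨a, ha, rfl⟩; exact ⟨⟨a, ha⟩, rfl⟩
      have hstab : MulAction.stabilizer ↥A x = St.subgroupOf A := by
        ext a
        rw [MulAction.mem_stabilizer_iff, Subgroup.mem_subgroupOf, hSt, Subgroup.mem_inf,
          MulAction.mem_stabilizer_iff]
        constructor
        · intro h; exact ⟨a.2, h⟩
        · intro h; exact h.2
      have hcardA : Nat.card A = O.ncard * Nat.card St := by
        have h1 := (MulAction.stabilizer ↥A x).card_mul_index
        rw [MulAction.index_stabilizer, horb, hstab,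
          Nat.card_congr (Subgroup.subgroupOfEquivOfLe hStA).toEquiv] at h1
        rw [← h1, mul_comm]
      have hm1 : 1 ≤ O.ncard := (Set.ncard_pos (Set.toFinite O)).mpr ⟨x, hxO⟩
      have hcard' : Nat.card α = n := by rw [Nat.card_eq_fintype_card, hcard]
      have hmn : O.ncard ≤ n := by
        rw [← hcard']; exact Set.ncard_le_card O
      have hcardβ : Nat.card {y // y ∉ O} = n - O.ncard := by
        have h1 : Nat.card {y // y ∉ O} = (Oᶜ).ncard := (_root_.Nat.card_coe_set_eq (Oᶜ))
        rw [h1, Set.ncard_compl, hcard']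
      by_cases hs2 : O.ncard = 2
      · -- orbit of size two: restrict to the complement, injectively
        have hinvc : ∀ a ∈ A, ∀ y, (a y ∉ O) ↔ (y ∉ O) := fun a ha y => not_congr (hOinv a ha y)
        set ψ := restr A (fun y => y ∉ O) hinvc with hψ
        have hinj : Function.Injective ψ := by
          rw [injective_iff_map_eq_one]
          intro c hc
          have hcβ : ∀ y, y ∉ O → (c : Equiv.Perm α) y = y := by
            intro y hy
            have := congrArg (fun f : Equiv.Perm {y // y ∉ O} => ((f ⟨y, hy⟩ : {y // y ∉ O}) : α)) hc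
            simpa [hψ, restr_apply] using this
          -- the two points of O
          obtain ⟨u, v, huv, hOuv⟩ := Set.ncard_eq_two.mp hs2
          by_contra hne
          have hne' : (c : Equiv.Perm α) ≠ 1 := fun h => hne (Subtype.ext h)
          -- c moves some point, necessarily in O
          obtain ⟨w, hw⟩ : ∃ w, (c : Equiv.Perm α) w ≠ w := by
            by_contra hall
            push Not at hall
            exact hne' (Equiv.ext hall)
          have hwO : w ∈ O := by
            by_contra hwO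
            exact hw (hcβ w hwO)
          have hcu : (c : Equiv.Perm α) u = v ∧ (c : Equiv.Perm α) v = u := by
            have huO : u ∈ O := by rw [hOuv]; simp
            have hvO : v ∈ O := by rw [hOuv]; simp
            have h1 : (c : Equiv.Perm α) u ∈ O := (hOinv c c.2 u).mpr huO
            have h2 : (c : Equiv.Perm α) v ∈ O := (hOinv c c.2 v).mpr hvO
            rw [hOuv] at h1 h2 hwO
            simp only [Set.mem_insert_iff, Set.mem_singleton_iff] at h1 h2 hwO
            have hinj' := (c : Equiv.Perm α).injective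
            rcases hwO with rfl | rfl
            · rcases h1 with h1 | h1
              · exact absurd h1 hw
              · refine ⟨h1, ?_⟩
                rcases h2 with h2 | h2
                · exact h2
                · exact absurd (hinj' (h1.trans h2.symm)) huv
            · rcases h2 with h2 | h2
              · refine ⟨?_, h2⟩
                rcases h1 with h1 | h1
                · exact absurd (hinj' (h1.trans h2.symm)) huv
                · exact h1
              · exact absurd h2 hw
          have hswap : (c : Equiv.Perm α) = Equiv.swap u v := by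
            ext y
            by_cases hyu : y = u
            · rw [hyu, hcu.1, Equiv.swap_apply_left]
            · by_cases hyv : y = v
              · rw [hyv, hcu.2, Equiv.swap_apply_right]
              · rw [Equiv.swap_apply_of_ne_of_ne hyu hyv]
                apply hcβ
                rw [hOuv]
                simp [hyu, hyv]
          have := hev c c.2
          rw [hswap, Equiv.Perm.sign_swap huv] at this
          exact absurd this (by decide)
        have hcardr : Nat.card ψ.range = Nat.card A :=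
          (Nat.card_congr (MonoidHom.ofInjective hinj).toEquiv).symm
        have hab : ∀ a ∈ ψ.range, ∀ b ∈ ψ.range, a * b = b * a := by
          rintro _ ⟨a, rfl⟩ _ ⟨b, rfl⟩
          rw [← map_mul, ← map_mul]
          congr 1
          exact Subtype.ext (hA a a.2 b b.2)
        have h1 := card_le_g (n - O.ncard) {y // y ∉ O} hcardβ ψ.range hab
        rw [hcardr, hs2] at h1
        have h2 := g_le_t (n - 2)
        have h3 : n - 2 + 2 = n := by omega
        rw [h3] at h2
        exact h1.trans h2
      · -- the complement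
        obtain ⟨φ, hφ⟩ : ∃ φ : Equiv.Perm {y // y ∉ O} →* Equiv.Perm α, φ = Equiv.Perm.ofSubtype :=
          ⟨_, rfl⟩
        have hφinj : Function.Injective φ := hφ ▸ Equiv.Perm.ofSubtype_injective
        have hrange : St ≤ φ.range := by
          intro s hs
          have h₁ : ∀ y, (s y ∉ O) ↔ (y ∉ O) := fun y => not_congr (hOinv s (hStA hs) y)
          have h₂ : ∀ y, s y ≠ y → y ∉ O := fun y hy hyO => hy (hfix s hs y hyO)
          refine ⟨s.subtypePerm h₁, ?_⟩
          rw [hφ]
          exact Equiv.Perm.ofSubtype_subtypePerm h₁ h₂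
        have hcardB : Nat.card (St.comap φ) = Nat.card St := by
          rw [← Subgroup.card_map_of_injective hφinj, Subgroup.map_comap_eq, inf_eq_right.mpr hrange]
        have hBab : ∀ u ∈ St.comap φ, ∀ v ∈ St.comap φ, u * v = v * u := by
          intro u hu v hv
          apply hφinj
          rw [map_mul, map_mul]
          exact hA _ (hStA hu) _ (hStA hv)
        have hBev : ∀ u ∈ St.comap φ, Equiv.Perm.sign u = 1 := by
          intro u hu
          have h1 := hev _ (hStA hu)
          rw [hφ, Equiv.Perm.sign_ofSubtype] at h1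
          exact h1
        have hcβ' : Fintype.card {y // y ∉ O} = n - O.ncard := by
          rw [← Nat.card_eq_fintype_card, hcardβ]
        have hIH := ih (n - O.ncard) (by omega) {y // y ∉ O} hcβ' (St.comap φ) hBab hBev
        rw [hcardA, ← hcardB]
        rcases Nat.lt_or_ge O.ncard 3 with hlt | hge
        · have h1 : O.ncard = 1 := by omega
          rw [h1, one_mul]
          exact hIH.trans (t_mono (Nat.sub_le _ _))
        · have hk := key_t O.ncard hge (n - O.ncard)
          rw [Nat.sub_add_cancel hmn] at hk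
          calc O.ncard * Nat.card (St.comap φ) ≤ O.ncard * t (n - O.ncard) :=
                Nat.mul_le_mul_left _ hIH
            _ ≤ t n := hk


/-! ### constructions -/

/-- `α` carries an abelian group of even permutations of order `c` -/
def HasAbE (α : Type) [Fintype α] [DecidableEq α] (c : ℕ) : Prop :=
  ∃ A : Subgroup (Equiv.Perm α), (∀ x ∈ A, ∀ y ∈ A, x * y = y * x) ∧
    (∀ x ∈ A, Equiv.Perm.sign x = 1) ∧ Nat.card A = c

theorem hasAbE_congr {α β : Type} [Fintype α] [DecidableEq α] [Fintype β] [DecidableEq β]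
    (e : α ≃ β) {c : ℕ} (h : HasAbE α c) : HasAbE β c := by
  obtain ⟨A, hA, hev, hc⟩ := h
  refine ⟨A.map e.permCongrHom.toMonoidHom, ?_, ?_, ?_⟩
  · rintro _ ⟨a, ha, rfl⟩ _ ⟨b, hb, rfl⟩
    show e.permCongrHom a * e.permCongrHom b = e.permCongrHom b * e.permCongrHom a
    rw [← map_mul, ← map_mul, hA a ha b hb]
  · rintro _ ⟨a, ha, rfl⟩
    show Equiv.Perm.sign (e.permCongr a) = 1
    rw [Equiv.Perm.sign_permCongr]
    exact hev a ha
  · rw [Subgroup.card_map_of_injective e.permCongrHom.injective, hc]

theorem hasAbE_sum {α β : Type} [Fintype α] [DecidableEq α] [Fintype β] [DecidableEq β]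
    {a b : ℕ} (ha : HasAbE α a) (hb : HasAbE β b) : HasAbE (α ⊕ β) (a * b) := by
  obtain ⟨A, hA, hevA, hca⟩ := ha
  obtain ⟨B, hB, hevB, hcb⟩ := hb
  refine ⟨(A.prod B).map (Equiv.Perm.sumCongrHom α β), ?_, ?_, ?_⟩
  · rintro _ ⟨x, hx, rfl⟩ _ ⟨y, hy, rfl⟩
    have h1 : x.1 * y.1 = y.1 * x.1 := hA _ hx.1 _ hy.1
    have h2 : x.2 * y.2 = y.2 * x.2 := hB _ hx.2 _ hy.2
    have h3 : x * y = y * x := Prod.ext h1 h2
    rw [← map_mul, ← map_mul, h3]
  · rintro _ ⟨x, hx, rfl⟩
    show Equiv.Perm.sign (Equiv.sumCongr x.1 x.2) = 1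
    rw [Equiv.Perm.sign_sumCongr, hevA _ hx.1, hevB _ hx.2, one_mul]
  · rw [Subgroup.card_map_of_injective Equiv.Perm.sumCongrHom_injective,
      Nat.card_congr (Subgroup.prodEquiv A B).toEquiv, Nat.card_prod, hca, hcb]

theorem hasAbE_zero : HasAbE (Fin 0) 1 :=
  ⟨⊥, fun x hx y hy => by rw [Subgroup.mem_bot.mp hx, Subgroup.mem_bot.mp hy],
    fun x hx => by rw [Subgroup.mem_bot.mp hx, map_one], Subgroup.card_bot⟩

theorem hasAbE_three : HasAbE (Fin 3) 3 := by
  refine ⟨Subgroup.zpowers (finRotate 3), ?_, ?_, ?_⟩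
  · intro x hx y hy
    obtain ⟨i, rfl⟩ := Subgroup.mem_zpowers_iff.mp hx
    obtain ⟨j, rfl⟩ := Subgroup.mem_zpowers_iff.mp hy
    exact (Commute.zpow_zpow (Commute.refl _) i j).eq
  · intro x hx
    obtain ⟨i, rfl⟩ := Subgroup.mem_zpowers_iff.mp hx
    rw [map_zpow, sign_finRotate]
    simp
  · rw [Nat.card_zpowers, Equiv.Perm.IsCycle.orderOf isCycle_finRotate, support_finRotate,
      Finset.card_univ, Fintype.card_fin]

def aV : Equiv.Perm (Fin 4) := Equiv.swap 0 1 * Equiv.swap 2 3
def bV : Equiv.Perm (Fin 4) := Equiv.swap 0 2 * Equiv.swap 1 3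

/-- the Klein four-group acting regularly -/
def V4 : Subgroup (Equiv.Perm (Fin 4)) where
  carrier := {σ | σ = 1 ∨ σ = aV ∨ σ = bV ∨ σ = aV * bV}
  one_mem' := Or.inl rfl
  mul_mem' := by
    intro x y hx hy
    change (x = 1 ∨ x = aV ∨ x = bV ∨ x = aV * bV) at hx
    change (y = 1 ∨ y = aV ∨ y = bV ∨ y = aV * bV) at hy
    change (x * y = 1 ∨ x * y = aV ∨ x * y = bV ∨ x * y = aV * bV)
    rcases hx with rfl | rfl | rfl | rfl <;> rcases hy with rfl | rfl | rfl | rfl <;> decide
  inv_mem' := by
    intro x hx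
    change (x = 1 ∨ x = aV ∨ x = bV ∨ x = aV * bV) at hx
    change (x⁻¹ = 1 ∨ x⁻¹ = aV ∨ x⁻¹ = bV ∨ x⁻¹ = aV * bV)
    rcases hx with rfl | rfl | rfl | rfl <;> decide

instance : DecidablePred (· ∈ V4) := fun σ => by
  change Decidable (σ = 1 ∨ σ = aV ∨ σ = bV ∨ σ = aV * bV)
  infer_instance

theorem hasAbE_four : HasAbE (Fin 4) 4 := by
  refine ⟨V4, ?_, ?_, ?_⟩
  · intro x hx y hy
    change (x = 1 ∨ x = aV ∨ x = bV ∨ x = aV * bV) at hx
    change (y = 1 ∨ y = aV ∨ y = bV ∨ y = aV * bV) at hy
    rcases hx with rfl | rfl | rfl | rfl <;> rcases hy with rfl | rfl | rfl | rfl <;> decide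
  · intro x hx
    change (x = 1 ∨ x = aV ∨ x = bV ∨ x = aV * bV) at hx
    rcases hx with rfl | rfl | rfl | rfl <;> decide
  · rw [Nat.card_eq_fintype_card]
    decide

theorem hasAbE_three_mul (k : ℕ) : HasAbE (Fin (3 * k)) (3 ^ k) := by
  induction k with
  | zero => exact hasAbE_zero
  | succ k ih =>
    have h1 := hasAbE_sum ih hasAbE_three
    have h2 : 3 * k + 3 = 3 * (k + 1) := by ring
    have := hasAbE_congr (finSumFinEquiv.trans (finCongr h2)) h1
    rwa [pow_succ]

theorem hasAbE_three_mul_add_one (k : ℕ) (hk : 1 ≤ k) :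
    HasAbE (Fin (3 * k + 1)) (4 * 3 ^ (k - 1)) := by
  have h1 := hasAbE_sum (hasAbE_three_mul (k - 1)) hasAbE_four
  have h2 : 3 * (k - 1) + 4 = 3 * k + 1 := by omega
  have := hasAbE_congr (finSumFinEquiv.trans (finCongr h2)) h1
  have h3 : 3 ^ (k - 1) * 4 = 4 * 3 ^ (k - 1) := by ring
  rwa [h3] at this

theorem hasAbE_three_mul_add_two (k : ℕ) (hk : 2 ≤ k) :
    HasAbE (Fin (3 * k + 2)) (16 * 3 ^ (k - 2)) := by
  have h0 := hasAbE_congr (finSumFinEquiv (m := 4) (n := 4)) (hasAbE_sum hasAbE_four hasAbE_four)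
  have h1 := hasAbE_sum (hasAbE_three_mul (k - 2)) h0
  have h2 : 3 * (k - 2) + (4 + 4) = 3 * k + 2 := by omega
  have := hasAbE_congr (finSumFinEquiv.trans (finCongr h2)) h1
  have h3 : 3 ^ (k - 2) * (4 * 4) = 16 * 3 ^ (k - 2) := by ring
  rwa [h3] at this

/-! ### transfer to subgroups of the alternating group -/

theorem card_le_t_alt (n : ℕ) (B : Subgroup ↥(alternatingGroup (Fin n))) (hB : IsMulCommutative B) :
    Nat.card B ≤ t n := by
  have h1 : Nat.card (B.map (alternatingGroup (Fin n)).subtype) = Nat.card B :=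
    Subgroup.card_map_of_injective (Subgroup.subtype_injective _)
  rw [← h1]
  apply card_le_t n (Fin n) (by simp)
  · rintro _ ⟨a, ha, rfl⟩ _ ⟨b, hb, rfl⟩
    have := (isMulCommutative_iff.mp hB) ⟨a, ha⟩ ⟨b, hb⟩
    have h2 : a * b = b * a := congrArg Subtype.val this
    rw [← map_mul, ← map_mul, h2]
  · rintro _ ⟨a, ha, rfl⟩
    exact Equiv.Perm.mem_alternatingGroup.mp a.2

theorem hasAbE_alt {n c : ℕ} (h : HasAbE (Fin n) c) :
    ∃ B : Subgroup ↥(alternatingGroup (Fin n)), IsMulCommutative B ∧ Nat.card B = c := by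
  obtain ⟨A, hA, hev, hc⟩ := h
  have hle : A ≤ alternatingGroup (Fin n) := fun x hx => Equiv.Perm.mem_alternatingGroup.mpr (hev x hx)
  refine ⟨A.subgroupOf (alternatingGroup (Fin n)), ?_, ?_⟩
  · rw [isMulCommutative_iff]
    rintro ⟨a, ha⟩ ⟨b, hb⟩
    apply Subtype.ext
    apply Subtype.ext
    exact hA _ (Subgroup.mem_subgroupOf.mp ha) _ (Subgroup.mem_subgroupOf.mp hb)
  · rw [Nat.card_congr (Subgroup.subgroupOfEquivOfLe hle).toEquiv, hc]

/-- S2504 in library form -/
theorem main (k : ℕ) (hk : 2 ≤ k) :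
    IsGreatest {c : ℕ | ∃ A : Subgroup (alternatingGroup (Fin (3 * k))), IsMulCommutative A ∧ Nat.card A = c} (3 ^ k) ∧
    IsGreatest {c : ℕ | ∃ A : Subgroup (alternatingGroup (Fin (3 * k + 1))), IsMulCommutative A ∧ Nat.card A = c}
      (4 * 3 ^ (k - 1)) ∧
    IsGreatest {c : ℕ | ∃ A : Subgroup (alternatingGroup (Fin (3 * k + 2))), IsMulCommutative A ∧ Nat.card A = c}
      (16 * 3 ^ (k - 2)) := by
  refine ⟨⟨hasAbE_alt (hasAbE_three_mul k), ?_⟩,
    ⟨hasAbE_alt (hasAbE_three_mul_add_one k (by omega)), ?_⟩,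
    ⟨hasAbE_alt (hasAbE_three_mul_add_two k hk), ?_⟩⟩
  · rintro c ⟨A, hA, rfl⟩
    rw [← t_three_mul]; exact card_le_t_alt _ A hA
  · rintro c ⟨A, hA, rfl⟩
    rw [← t_three_mul_add_one k (by omega)]; exact card_le_t_alt _ A hA
  · rintro c ⟨A, hA, rfl⟩
    rw [← t_three_mul_add_two k hk]; exact card_le_t_alt _ A hA

end Cfsg.Agent.Lib.Helper19.AltAbelian
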