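/-
Helper19 library: pointwise stabilisers in alternating groups (`fixP p`: the even permutations fixing every
point outside `p`), their identification with smaller alternating groups, their perfectness, and the commutator
subgroups `KK σ p` of their preimages in a central extension `σ`.
-/
import Mathlib
import Cfsg.Agent.Lib.Helper3.Schur.Basic

set_option autoImplicit false

namespace Cfsg.Agent.Lib.Helper19.AltStab

open Subgroup Equiv Cfsg.Agent.Lib.Helper3.SchurM
open scoped commutatorElement

variable {α : Type*} [Fintype α] [DecidableEq α]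

/-- the even permutations fixing every point outside `p` -/
def fixP (p : α → Prop) : Subgroup (alternatingGroup α) where
  carrier := {g | ∀ x, ¬ p x → (g : Perm α) x = x}
  mul_mem' := by
    intro a b ha hb x hx
    show (a : Perm α) ((b : Perm α) x) = x
    rw [hb x hx, ha x hx]
  one_mem' := fun _ _ => rfl
  inv_mem' := by
    intro a ha x hx
    show (a : Perm α)⁻¹ x = x
    rw [Perm.inv_eq_iff_eq]
    exact (ha x hx).symm

theorem mem_fixP {p : α → Prop} {g : alternatingGroup α} :
    g ∈ fixP p ↔ ∀ x, ¬ p x → (g : Perm α) x = x := Iff.rfl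

theorem fixP_mono {p q : α → Prop} (h : ∀ x, p x → q x) : fixP p ≤ fixP q :=
  fun _ hg x hx => hg x (fun hp => hx (h x hp))

/-- the pointwise stabiliser as the image of a smaller alternating group -/
theorem exists_altHom {β : Type*} [Fintype β] [DecidableEq β] (p : α → Prop) [DecidablePred p]
    (f : β ≃ Subtype p) :
    ∃ ι : alternatingGroup β →* alternatingGroup α, Function.Injective ι ∧ ι.range = fixP p := by
  have hsign : ∀ b : alternatingGroup β,
      ((Perm.extendDomainHom f).comp (alternatingGroup β).subtype) b ∈ alternatingGroup α := by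
    intro b
    rw [Perm.mem_alternatingGroup]
    show Perm.sign ((b : Perm β).extendDomain f) = 1
    rw [Perm.sign_extendDomain]
    exact Perm.mem_alternatingGroup.mp b.2
  refine ⟨((Perm.extendDomainHom f).comp (alternatingGroup β).subtype).codRestrict _ hsign, ?_, ?_⟩
  · intro a b hab
    have h1 : Perm.extendDomainHom f (a : Perm β) = Perm.extendDomainHom f (b : Perm β) :=
      congrArg Subtype.val hab
    exact Subtype.ext (Perm.extendDomainHom_injective f h1)
  · ext g
    constructor
    · rintro ⟨b, rfl⟩
      intro x hx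
      exact Perm.extendDomain_apply_not_subtype (b : Perm β) f hx
    · intro hg
      have h1 : ∀ x, p ((g : Perm α) x) ↔ p x := by
        intro x
        constructor
        · intro h
          by_contra hx
          rw [hg x hx] at h
          exact hx h
        · intro h
          by_contra hx
          have h2 := hg _ hx
          have h3 : (g : Perm α) x = x := (g : Perm α).injective h2
          rw [h3] at hx
          exact hx h
      obtain ⟨g', hg'⟩ : ∃ g' : Perm β, g' = f.permCongr.symm (Perm.subtypePerm (g : Perm α) h1) :=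
        ⟨_, rfl⟩
      have hext : g'.extendDomain f = (g : Perm α) := by
        ext x
        by_cases hx : p x
        · rw [Perm.extendDomain_apply_subtype _ f hx, hg']
          simp
        · rw [Perm.extendDomain_apply_not_subtype _ f hx, hg x hx]
      have hs : Perm.sign g' = 1 := by
        rw [← Perm.sign_extendDomain g' f, hext]
        exact Perm.mem_alternatingGroup.mp g.2
      exact ⟨⟨g', Perm.mem_alternatingGroup.mpr hs⟩, Subtype.ext hext⟩

/-- pointwise stabilisers moving at least five points are perfect -/
theorem fixP_perfect (p : α → Prop) (h5 : 5 ≤ Nat.card (Subtype p)) : ⁅fixP p, fixP p⁆ = fixP p := by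
  classical
  obtain ⟨ι, -, hι⟩ := exists_altHom p (Equiv.refl (Subtype p))
  have h1 : commutator (alternatingGroup (Subtype p)) = ⊤ := commutator_alternatingGroup_eq_top h5
  rw [← hι, MonoidHom.range_eq_map, ← Subgroup.map_commutator, ← commutator_def, h1]

section KK

variable {Γ : Type*} [Group Γ] (σ : Γ →* alternatingGroup α)

/-- the commutator subgroup of the preimage of a pointwise stabiliser -/
def KK (p : α → Prop) : Subgroup Γ := ⁅(fixP p).comap σ, (fixP p).comap σ⁆

theorem KK_mono {p q : α → Prop} (h : ∀ x, p x → q x) : KK σ p ≤ KK σ q :=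
  Subgroup.commutator_mono (Subgroup.comap_mono (fixP_mono h)) (Subgroup.comap_mono (fixP_mono h))

theorem KK_le_comap (p : α → Prop) : KK σ p ≤ (fixP p).comap σ := Subgroup.commutator_le_self _

theorem map_KK (hs : Function.Surjective σ) (p : α → Prop) (hp : ⁅fixP p, fixP p⁆ = fixP p) :
    (KK σ p).map σ = fixP p := by
  unfold KK
  rw [Subgroup.map_commutator, Subgroup.map_comap_eq_self_of_surjective hs, hp]

theorem KK_perfect (hs : Function.Surjective σ) (hc : σ.ker ≤ center Γ) (p : α → Prop)
    (hp : ⁅fixP p, fixP p⁆ = fixP p) : ⁅KK σ p, KK σ p⁆ = KK σ p := by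
  apply le_antisymm (Subgroup.commutator_le_self _)
  have h1 : (fixP p).comap σ ≤ KK σ p ⊔ σ.ker := by
    rw [← Subgroup.comap_map_eq, map_KK σ hs p hp]
  intro z hz
  exact comm_sup_central_le (KK σ p) σ.ker hc (Subgroup.commutator_mono h1 h1 hz)

/-- conjugation moves the subgroups `KK` of the point stabilisers around -/
theorem KK_conj_mem (γ : Γ) (k l : α) (h : (σ γ : Perm α) k = l) (x : Γ) (hx : x ∈ KK σ (· ≠ k)) :
    γ * x * γ⁻¹ ∈ KK σ (· ≠ l) := by
  have hle : (KK σ (· ≠ k)).map (MulAut.conj γ).toMonoidHom ≤ KK σ (· ≠ l) := by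
    unfold KK
    rw [Subgroup.map_commutator]
    have h1 : ((fixP (· ≠ k)).comap σ).map (MulAut.conj γ).toMonoidHom ≤ (fixP (· ≠ l)).comap σ := by
      rintro _ ⟨y, hy, rfl⟩
      show σ (γ * y * γ⁻¹) ∈ fixP (· ≠ l)
      intro z hz
      have hzl : z = l := not_not.mp hz
      have hyk : ((σ y : alternatingGroup α) : Perm α) k = k := hy k (by simp)
      rw [hzl, ← h, map_mul, map_mul, map_inv]
      show (σ γ : Perm α) ((σ y : Perm α) ((σ γ : Perm α)⁻¹ ((σ γ : Perm α) k))) = (σ γ : Perm α) k
      rw [Perm.inv_def, Equiv.symm_apply_apply, hyk]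
    exact Subgroup.commutator_mono h1 h1
  exact hle (Subgroup.mem_map_of_mem _ hx)

end KK

end Cfsg.Agent.Lib.Helper19.AltStab
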