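/-
Helper19 library: Moore's presentation of the alternating group (helper25), with the isomorphism made explicit
on the generators.  The proof is helper25's `nonempty_mulEquiv_alternatingGroup`, exporting the values.
-/
import Mathlib
import Cfsg.Agent.Lib.Helper25.Moore

set_option autoImplicit false

namespace Cfsg.Agent.Lib.Helper19.Moore2

open Cfsg.Agent.Lib.Helper14 Cfsg.Agent.Lib.Helper25.Moore SemidirectProduct

/-- **Moore's presentation of the alternating group**, with the images of the generators -/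
theorem exists_mulEquiv_alternatingGroup (m : ℕ) :
    ∃ e : MooreGroup m ≃* alternatingGroup (Fin (m + 1 + 1)), ∀ i : Fin m,
      ((e (PresentedGroup.of i) : alternatingGroup (Fin (m + 1 + 1))) : Equiv.Perm (Fin (m + 1 + 1))) =
        mooreOf (sw m) i.val := by
  classical
  have hsw := sw_braidRel m
  have hp : MooreRel (mooreOf (sw m)) m := mooreRel_of_braidRel (sw m) m hsw
  obtain ⟨φ₀, hφ₀⟩ := exists_hom_of_mooreRel (mooreOf (sw m)) m hp
  have hφ₀N : ∀ k, k < m → φ₀ (xN m k) = mooreOf (sw m) k := by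
    intro k hk; rw [xN_of_lt m k hk]; exact hφ₀ ⟨k, hk⟩
  obtain ⟨θ, hθ, hθθ⟩ := exists_theta m
  obtain ⟨ψ, hψ⟩ := exists_unitsHom θ hθθ
  have hs0 : sw m 0 * sw m 0 = 1 := hsw.sq 0 (by omega)
  have hs0i : (sw m 0)⁻¹ = sw m 0 := inv_eq_of_mul_eq_one_right hs0
  obtain ⟨f₂, hf₂⟩ := exists_unitsHom (sw m 0) hs0
  -- the semidirect product
  have hbraid := tgen_braidRel ψ (xN m) m (mooreRel_xN m) (fun k hk => by rw [hψ]; exact hθ k hk)
  have hgen := tgen_closure ψ (xN m) m (closure_xN m)
  obtain ⟨hfin, hcard⟩ := finite_card_le_of_braidRel hbraid hgen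
  -- the homomorphism to the symmetric group
  have hcompat : ∀ g : ℤˣ, φ₀.comp (ψ g).toMonoidHom =
      (MulAut.conj (f₂ g)).toMonoidHom.comp φ₀ := by
    intro g
    rcases Int.units_eq_one_or g with rfl | rfl
    · ext a
      simp
    · rw [hψ, hf₂]
      apply PresentedGroup.ext
      intro i
      show φ₀ (θ (PresentedGroup.of i)) = sw m 0 * φ₀ (PresentedGroup.of i) * (sw m 0)⁻¹
      rw [← xN_of_lt m i.val i.2, hθ i.val i.2, hφ₀N i.val i.2, hs0i]
      rcases Nat.eq_zero_or_pos i.val with h0 | hpos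
      · rw [h0, twist_zero, map_inv, hφ₀N 0 (by have := i.2; omega), mooreOf_zero, mul_inv_rev]
        have hs1 : sw m 1 * sw m 1 = 1 := hsw.sq 1 (by have := i.2; omega)
        rw [hs0i, inv_eq_of_mul_eq_one_right hs1]
        calc sw m 1 * sw m 0 = (sw m 0 * sw m 0) * sw m 1 * sw m 0 := by rw [hs0, one_mul]
          _ = sw m 0 * (sw m 0 * sw m 1) * sw m 0 := by simp only [mul_assoc]
      · rw [twist_pos _ _ hpos, hφ₀N i.val i.2, mooreOf_pos _ _ hpos]
        have hc : sw m 0 * sw m (i.val + 1) = sw m (i.val + 1) * sw m 0 :=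
          hsw.comm 0 (i.val + 1) (by omega) (by have := i.2; omega)
        calc sw m 0 * sw m (i.val + 1) = sw m (i.val + 1) * sw m 0 := hc
          _ = (sw m 0 * sw m 0) * sw m (i.val + 1) * sw m 0 := by rw [hs0, one_mul]
          _ = sw m 0 * (sw m 0 * sw m (i.val + 1)) * sw m 0 := by simp only [mul_assoc]
  set Φ : MooreGroup m ⋊[ψ] ℤˣ →* Equiv.Perm (Fin (m + 1 + 1)) := lift φ₀ f₂ hcompat with hΦ
  have hΦt : ∀ j, j < m + 1 → Φ (tgen ψ (xN m) j) = sw m j := by
    intro j hj
    rcases j with _ | k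
    · show Φ (inr (-1)) = _
      rw [hΦ, lift_inr, hf₂]
    · show Φ (inr (-1) * inl (xN m k)) = _
      rw [map_mul, hΦ, lift_inr, lift_inl, hf₂, hφ₀N k (by omega)]
      rcases Nat.eq_zero_or_pos k with rfl | hk
      · rw [mooreOf_zero, ← mul_assoc, hs0, one_mul]
      · rw [mooreOf_pos _ _ hk, ← mul_assoc, hs0, one_mul]
  have hsurj : Function.Surjective Φ := by
    rw [← MonoidHom.mrange_eq_top, eq_top_iff, ← Equiv.Perm.mclosure_swap_castSucc_succ (m + 1),
      Submonoid.closure_le]
    rintro _ ⟨i, rfl⟩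
    refine ⟨tgen ψ (xN m) i.val, ?_⟩
    rw [hΦt i.val i.2, sw_of_lt m i.val i.2]
  haveI := hfin
  have hbij : Function.Bijective Φ := by
    rw [Nat.bijective_iff_surjective_and_card]
    refine ⟨hsurj, le_antisymm ?_ (Nat.card_le_card_of_surjective Φ hsurj)⟩
    rw [Nat.card_perm, Nat.card_fin]
    exact hcard
  have hEcard : Nat.card (MooreGroup m ⋊[ψ] ℤˣ) = (m + 1 + 1).factorial := by
    rw [Nat.card_congr (Equiv.ofBijective Φ hbij), Nat.card_perm, Nat.card_fin]
  have hPcard : Nat.card (MooreGroup m) * 2 = (m + 1 + 1).factorial := by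
    rw [← hEcard, SemidirectProduct.card, Nat.card_eq_fintype_card (α := ℤˣ), Fintype.card_units_int]
  -- injectivity of φ₀ and its image
  have hφ₀inj : Function.Injective φ₀ := by
    have : φ₀ = Φ.comp inl := by rw [hΦ, lift_comp_inl]
    rw [this]
    exact hbij.1.comp inl_injective
  have hsign : ∀ a, φ₀ a ∈ alternatingGroup (Fin (m + 1 + 1)) := by
    have hhom : (Equiv.Perm.sign).comp φ₀ = 1 := by
      apply PresentedGroup.ext
      intro i
      show Equiv.Perm.sign (φ₀ (PresentedGroup.of i)) = 1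
      rw [hφ₀ i]
      rcases Nat.eq_zero_or_pos i.val with h0 | hpos
      · rw [h0, mooreOf_zero, map_mul, sign_sw m 0 (by omega),
          sign_sw m 1 (by have := i.2; omega)]
        rfl
      · rw [mooreOf_pos _ _ hpos, map_mul, sign_sw m 0 (by omega),
          sign_sw m (i.val + 1) (by have := i.2; omega)]
        rfl
    intro a
    rw [Equiv.Perm.mem_alternatingGroup]
    exact DFunLike.congr_fun hhom a
  set φ₁ : MooreGroup m →* alternatingGroup (Fin (m + 1 + 1)) :=
    φ₀.codRestrict _ hsign with hφ₁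
  have hφ₁inj : Function.Injective φ₁ := by
    intro a b hab
    apply hφ₀inj
    have := congrArg Subtype.val hab
    exact this
  have hAcard : 2 * Nat.card (alternatingGroup (Fin (m + 1 + 1))) = (m + 1 + 1).factorial := by
    rw [two_mul_nat_card_alternatingGroup, Nat.card_perm, Nat.card_fin]
  have hφ₁bij : Function.Bijective φ₁ := by
    rw [Nat.bijective_iff_injective_and_card]
    refine ⟨hφ₁inj, ?_⟩
    omega
  exact ⟨MulEquiv.ofBijective φ₁ hφ₁bij, fun i => hφ₀ i⟩

end Cfsg.Agent.Lib.Helper19.Moore2
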