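/-
Helper19 library: a central extension of `A_n` (`n ≥ 7`) in which the commutator subgroups of the preimages of the
point stabilisers meet the kernel trivially splits over its commutator subgroup.  (The Moore generators are
lifted into those subgroups; two generators have a common fixed point, so the lifts satisfy Moore's relations.)
-/
import Mathlib
import Cfsg.Agent.Lib.Helper19.AltStab
import Cfsg.Agent.Lib.Helper19.Moore2

set_option autoImplicit false

namespace Cfsg.Agent.Lib.Helper19.AltLift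

open Subgroup Equiv Cfsg.Agent.Lib.Helper3.SchurM Cfsg.Agent.Lib.Helper19.AltStab
open Cfsg.Agent.Lib.Helper14 Cfsg.Agent.Lib.Helper25.Moore
open scoped commutatorElement

theorem sw_apply_of_ne (m j : ℕ) (x : Fin (m + 1 + 1)) (h1 : x.val ≠ j) (h2 : x.val ≠ j + 1) :
    sw m j x = x := by
  by_cases h : j < m + 1
  · rw [sw_of_lt m j h]
    apply Equiv.swap_apply_of_ne_of_ne
    · intro hx
      apply h1
      rw [hx]
      rfl
    · intro hx
      apply h2
      rw [hx]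
      rfl
  · unfold sw
    rw [dif_neg h]
    rfl

theorem mooreOf_sw_apply (m i : ℕ) (x : Fin (m + 1 + 1)) (h2 : 2 ≤ x.val) (h3 : x.val ≠ i + 1)
    (h4 : x.val ≠ i + 2) : mooreOf (sw m) i x = x := by
  rcases Nat.eq_zero_or_pos i with rfl | hi
  · rw [mooreOf_zero, Perm.mul_apply, sw_apply_of_ne m 1 x (by omega) (by omega),
      sw_apply_of_ne m 0 x (by omega) (by omega)]
  · rw [mooreOf_pos _ _ hi, Perm.mul_apply, sw_apply_of_ne m (i + 1) x (by omega) (by omega),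
      sw_apply_of_ne m 0 x (by omega) (by omega)]

theorem mooreOf_sw_mem (m i : ℕ) (hi : i < m) :
    mooreOf (sw m) i ∈ alternatingGroup (Fin (m + 1 + 1)) := by
  rw [Perm.mem_alternatingGroup]
  rcases Nat.eq_zero_or_pos i with rfl | hpos
  · rw [mooreOf_zero, map_mul, sign_sw m 0 (by omega), sign_sw m 1 (by omega)]
    rfl
  · rw [mooreOf_pos _ _ hpos, map_mul, sign_sw m 0 (by omega), sign_sw m (i + 1) (by omega)]
    rfl

/-- the Moore generators in the alternating group -/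
noncomputable def yA (m i : ℕ) : alternatingGroup (Fin (m + 1 + 1)) :=
  if h : i < m then ⟨mooreOf (sw m) i, mooreOf_sw_mem m i h⟩ else 1

theorem yA_of_lt (m i : ℕ) (h : i < m) :
    ((yA m i : alternatingGroup (Fin (m + 1 + 1))) : Perm (Fin (m + 1 + 1))) = mooreOf (sw m) i := by
  unfold yA
  rw [dif_pos h]

theorem yA_of_not_lt (m i : ℕ) (h : ¬ i < m) : yA m i = 1 := by
  unfold yA
  rw [dif_neg h]

theorem yA_apply (m i : ℕ) (x : Fin (m + 1 + 1)) (h2 : 2 ≤ x.val) (h3 : x.val ≠ i + 1)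
    (h4 : x.val ≠ i + 2) : ((yA m i : alternatingGroup (Fin (m + 1 + 1))) : Perm (Fin (m + 1 + 1))) x = x := by
  by_cases h : i < m
  · rw [yA_of_lt m i h]
    exact mooreOf_sw_apply m i x h2 h3 h4
  · rw [yA_of_not_lt m i h]
    rfl

theorem mooreRel_yA (m : ℕ) : MooreRel (yA m) m := by
  have hp : MooreRel (mooreOf (sw m)) m := mooreRel_of_braidRel (sw m) m (sw_braidRel m)
  refine ⟨?_, ?_, ?_, ?_⟩
  · intro hm
    apply Subtype.ext
    show ((yA m 0 : alternatingGroup (Fin (m + 1 + 1))) : Perm (Fin (m + 1 + 1))) ^ 3 = 1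
    rw [yA_of_lt m 0 hm]
    exact hp.cube hm
  · intro i hi him
    apply Subtype.ext
    show ((yA m i : alternatingGroup (Fin (m + 1 + 1))) : Perm (Fin (m + 1 + 1))) ^ 2 = 1
    rw [yA_of_lt m i him]
    exact hp.sq i hi him
  · intro i him
    apply Subtype.ext
    show (((yA m i : alternatingGroup (Fin (m + 1 + 1))) : Perm (Fin (m + 1 + 1))) *
      ((yA m (i + 1) : alternatingGroup (Fin (m + 1 + 1))) : Perm (Fin (m + 1 + 1)))) ^ 3 = 1
    rw [yA_of_lt m i (by omega), yA_of_lt m (i + 1) him]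
    exact hp.adj i him
  · intro i j hij hjm
    apply Subtype.ext
    show (((yA m i : alternatingGroup (Fin (m + 1 + 1))) : Perm (Fin (m + 1 + 1))) *
      ((yA m j : alternatingGroup (Fin (m + 1 + 1))) : Perm (Fin (m + 1 + 1)))) ^ 2 = 1
    rw [yA_of_lt m i (by omega), yA_of_lt m j hjm]
    exact hp.far i j hij hjm

/-- two Moore generators have a common fixed point -/
theorem exists_common_fixed (m : ℕ) (hm : 5 ≤ m) (i j : ℕ) :
    ∃ k : Fin (m + 1 + 1),
      ((yA m i : alternatingGroup (Fin (m + 1 + 1))) : Perm (Fin (m + 1 + 1))) k = k ∧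
      ((yA m j : alternatingGroup (Fin (m + 1 + 1))) : Perm (Fin (m + 1 + 1))) k = k := by
  have key : ∃ k : ℕ, 2 ≤ k ∧ k ≤ 6 ∧ k ≠ i + 1 ∧ k ≠ i + 2 ∧ k ≠ j + 1 ∧ k ≠ j + 2 := by
    by_cases h2 : (2 ≠ i + 1 ∧ 2 ≠ i + 2 ∧ 2 ≠ j + 1 ∧ 2 ≠ j + 2)
    · exact ⟨2, by omega, by omega, h2.1, h2.2.1, h2.2.2.1, h2.2.2.2⟩
    by_cases h3 : (3 ≠ i + 1 ∧ 3 ≠ i + 2 ∧ 3 ≠ j + 1 ∧ 3 ≠ j + 2)
    · exact ⟨3, by omega, by omega, h3.1, h3.2.1, h3.2.2.1, h3.2.2.2⟩
    by_cases h4 : (4 ≠ i + 1 ∧ 4 ≠ i + 2 ∧ 4 ≠ j + 1 ∧ 4 ≠ j + 2)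
    · exact ⟨4, by omega, by omega, h4.1, h4.2.1, h4.2.2.1, h4.2.2.2⟩
    by_cases h5 : (5 ≠ i + 1 ∧ 5 ≠ i + 2 ∧ 5 ≠ j + 1 ∧ 5 ≠ j + 2)
    · exact ⟨5, by omega, by omega, h5.1, h5.2.1, h5.2.2.1, h5.2.2.2⟩
    by_cases h6 : (6 ≠ i + 1 ∧ 6 ≠ i + 2 ∧ 6 ≠ j + 1 ∧ 6 ≠ j + 2)
    · exact ⟨6, by omega, by omega, h6.1, h6.2.1, h6.2.2.1, h6.2.2.2⟩
    exfalso
    omega
  obtain ⟨k, hk2, hk6, h1, h2, h3, h4⟩ := key
  exact ⟨⟨k, by omega⟩, yA_apply m i _ hk2 h1 h2, yA_apply m j _ hk2 h3 h4⟩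

theorem card_ne (n : ℕ) (k : Fin (n + 1)) : Nat.card {x : Fin (n + 1) // x ≠ k} = n := by
  rw [Nat.card_congr (finSuccAboveEquiv k).symm, Nat.card_fin]

theorem card_ne_ne (n : ℕ) (k l : Fin (n + 1 + 1)) :
    n ≤ Nat.card {x : Fin (n + 1 + 1) // x ≠ k ∧ x ≠ l} := by
  classical
  rw [Nat.card_eq_fintype_card, Fintype.card_subtype]
  have h1 : (Finset.univ.filter fun x : Fin (n + 1 + 1) => x ≠ k ∧ x ≠ l) =
      (Finset.univ.erase k).erase l := by
    ext x
    simp only [Finset.mem_filter, Finset.mem_univ, true_and, Finset.mem_erase, and_true]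
    tauto
  rw [h1]
  have h2 := Finset.pred_card_le_card_erase (s := (Finset.univ : Finset (Fin (n + 1 + 1))).erase k) (a := l)
  rw [Finset.card_erase_of_mem (Finset.mem_univ k), Finset.card_univ, Fintype.card_fin] at h2
  omega

/-- **the splitting criterion** -/
theorem inf_commutator_eq_bot (m : ℕ) (hm : 5 ≤ m) {Γ : Type*} [Group Γ]
    (σ : Γ →* alternatingGroup (Fin (m + 1 + 1))) (hs : Function.Surjective σ)
    (hc : σ.ker ≤ center Γ) (hK : ∀ k, KK σ (· ≠ k) ⊓ σ.ker = ⊥) :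
    σ.ker ⊓ commutator Γ = ⊥ := by
  classical
  have hperf1 : ∀ k : Fin (m + 1 + 1), ⁅fixP (· ≠ k), fixP (· ≠ k)⁆ = fixP (· ≠ k) := by
    intro k
    apply fixP_perfect
    rw [card_ne (m + 1) k]
    omega
  have hperf2 : ∀ k l : Fin (m + 1 + 1), ⁅fixP (fun x => x ≠ k ∧ x ≠ l), fixP (fun x => x ≠ k ∧ x ≠ l)⁆ =
      fixP (fun x => x ≠ k ∧ x ≠ l) := by
    intro k l
    apply fixP_perfect
    exact hm.trans (card_ne_ne m k l)
  -- uniqueness of lifts
  have huniq : ∀ (k : Fin (m + 1 + 1)) (x : Γ), x ∈ KK σ (· ≠ k) → σ x = 1 → x = 1 := by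
    intro k x hx h1
    have h2 : x ∈ KK σ (· ≠ k) ⊓ σ.ker := ⟨hx, h1⟩
    rw [hK k] at h2
    exact h2
  -- consistency of lifts
  have hcons : ∀ (k l : Fin (m + 1 + 1)) (x : Γ), x ∈ KK σ (· ≠ k) →
      ((σ x : alternatingGroup (Fin (m + 1 + 1))) : Perm (Fin (m + 1 + 1))) l = l →
      x ∈ KK σ (· ≠ l) := by
    intro k l x hx hl
    have hg : σ x ∈ fixP (fun y => y ≠ k ∧ y ≠ l) := by
      intro y hy
      have hyy : y = k ∨ y = l := by
        by_contra hcon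
        push_neg at hcon
        exact hy hcon
      rcases hyy with rfl | rfl
      · exact KK_le_comap σ _ hx y (by simp)
      · exact hl
    rw [← map_KK σ hs _ (hperf2 k l)] at hg
    obtain ⟨x', hx', hxx'⟩ := hg
    have hx'k : x' ∈ KK σ (· ≠ k) := KK_mono σ (fun y hy => hy.1) hx'
    have hx'l : x' ∈ KK σ (· ≠ l) := KK_mono σ (fun y hy => hy.2) hx'
    have h1 : x' * x⁻¹ = 1 :=
      huniq k _ (mul_mem hx'k (inv_mem hx)) (by rw [map_mul, map_inv, hxx', mul_inv_cancel])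
    have h2 : x' = x := by rwa [mul_inv_eq_one] at h1
    rw [← h2]
    exact hx'l
  -- lifts of the generators
  have hlift : ∀ i : ℕ, ∃ x : Γ, σ x = yA m i ∧
      ∀ k, ((yA m i : alternatingGroup (Fin (m + 1 + 1))) : Perm (Fin (m + 1 + 1))) k = k →
        x ∈ KK σ (· ≠ k) := by
    intro i
    obtain ⟨k0, hk0, -⟩ := exists_common_fixed m hm i i
    have h1 : yA m i ∈ fixP (· ≠ k0) := by
      intro y hy
      have hyk : y = k0 := not_not.mp hy
      rw [hyk]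
      exact hk0
    rw [← map_KK σ hs _ (hperf1 k0)] at h1
    obtain ⟨x, hx, hxy⟩ := h1
    exact ⟨x, hxy, fun k hk => hcons k0 k x hx (by rw [hxy]; exact hk)⟩
  choose y' hy'σ hy'K using hlift
  -- Moore's relations upstairs
  have hA := mooreRel_yA m
  have hrel : MooreRel y' m := by
    refine ⟨?_, ?_, ?_, ?_⟩
    · intro hm0
      obtain ⟨k, hk, -⟩ := exists_common_fixed m hm 0 0
      exact huniq k _ (pow_mem (hy'K 0 k hk) 3) (by rw [map_pow, hy'σ, hA.cube hm0])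
    · intro i hi him
      obtain ⟨k, hk, -⟩ := exists_common_fixed m hm i i
      exact huniq k _ (pow_mem (hy'K i k hk) 2) (by rw [map_pow, hy'σ, hA.sq i hi him])
    · intro i him
      obtain ⟨k, hk1, hk2⟩ := exists_common_fixed m hm i (i + 1)
      exact huniq k _ (pow_mem (mul_mem (hy'K i k hk1) (hy'K (i + 1) k hk2)) 3)
        (by rw [map_pow, map_mul, hy'σ, hy'σ, hA.adj i him])
    · intro i j hij hjm
      obtain ⟨k, hk1, hk2⟩ := exists_common_fixed m hm i j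
      exact huniq k _ (pow_mem (mul_mem (hy'K i k hk1) (hy'K j k hk2)) 2)
        (by rw [map_pow, map_mul, hy'σ, hy'σ, hA.far i j hij hjm])
  obtain ⟨Λ, hΛ⟩ := exists_hom_of_mooreRel y' m hrel
  obtain ⟨e, he⟩ := Cfsg.Agent.Lib.Helper19.Moore2.exists_mulEquiv_alternatingGroup m
  have hσΛ : ∀ a, σ (Λ a) = e a := by
    have h1 : σ.comp Λ = e.toMonoidHom := by
      apply PresentedGroup.ext
      intro i
      show σ (Λ (PresentedGroup.of i)) = e (PresentedGroup.of i)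
      rw [hΛ i, hy'σ]
      apply Subtype.ext
      rw [he i, yA_of_lt m i.val i.2]
    intro a
    exact DFunLike.congr_fun h1 a
  have hψ : ∀ a, σ (Λ (e.symm a)) = a := by
    intro a
    rw [hσΛ, MulEquiv.apply_symm_apply]
  -- the commutator subgroup lies in the range of the section
  have hcomm : commutator Γ ≤ Λ.range := by
    rw [commutator_eq_closure, closure_le]
    rintro _ ⟨g1, g2, rfl⟩
    obtain ⟨z1, hz1⟩ : ∃ z1, z1 = (Λ (e.symm (σ g1)))⁻¹ * g1 := ⟨_, rfl⟩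
    obtain ⟨z2, hz2⟩ : ∃ z2, z2 = (Λ (e.symm (σ g2)))⁻¹ * g2 := ⟨_, rfl⟩
    have hz1c : z1 ∈ center Γ := hc (by
      show σ z1 = 1
      rw [hz1, map_mul, map_inv, hψ, inv_mul_cancel])
    have hz2c : z2 ∈ center Γ := hc (by
      show σ z2 = 1
      rw [hz2, map_mul, map_inv, hψ, inv_mul_cancel])
    have e1 : g1 = Λ (e.symm (σ g1)) * z1 := by rw [hz1, mul_inv_cancel_left]
    have e2 : g2 = Λ (e.symm (σ g2)) * z2 := by rw [hz2, mul_inv_cancel_left]
    have h3 : ⁅g1, g2⁆ = ⁅Λ (e.symm (σ g1)), Λ (e.symm (σ g2))⁆ := by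
      conv_lhs => rw [e1, e2]
      rw [commElt_mul_central_left hz1c, commElt_mul_central_right hz2c]
    show ⁅g1, g2⁆ ∈ Λ.range
    rw [h3, ← map_commutatorElement]
    exact ⟨_, rfl⟩
  rw [eq_bot_iff]
  rintro x ⟨hxk, hxc⟩
  obtain ⟨a, rfl⟩ := hcomm hxc
  have h1 : σ (Λ a) = 1 := hxk
  rw [hσΛ] at h1
  have h3 : a = 1 := by
    rw [← e.map_one] at h1
    exact e.injective h1
  rw [h3, map_one]
  exact Subgroup.mem_bot.mpr rfl

end Cfsg.Agent.Lib.Helper19.AltLift
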