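/-
Helper19 library: the inductive step for the Schur multiplier of the alternating groups: a bound for the kernels
of the finite stem extensions of `A_{n-1}` is a bound for `A_n` as soon as `n ≥ 7`.
-/
import Mathlib
import Cfsg.Prelude.Def_KGroupFacts
import Cfsg.Agent.Lib.Helper19.AltLift

set_option autoImplicit false

namespace Cfsg.Agent.Lib.Helper19.AltStep

open Subgroup Equiv Cfsg.Agent.Lib.Helper3.SchurM Cfsg.Agent.Lib.Helper19.AltStab
open Cfsg.Agent.Lib.Helper19.AltLift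
open scoped commutatorElement

/-- the kernel of every finite stem extension of `A_n` has order dividing `N` -/
def Bd (n N : ℕ) : Prop :=
  ∀ (Γ : Type) [Group Γ] [Finite Γ] (σ : Γ →* alternatingGroup (Fin n)),
    Cfsg.IsStemExtension σ → Nat.card σ.ker ∣ N

/-- an even permutation moving `k` to `l` -/
theorem exists_even_apply (n : ℕ) (hn : 3 ≤ n) (k l : Fin n) :
    ∃ a : alternatingGroup (Fin n), (a : Perm (Fin n)) k = l := by
  by_cases hkl : k = l
  · exact ⟨1, hkl⟩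
  · have key : ∃ c : ℕ, c < 3 ∧ c ≠ k.val ∧ c ≠ l.val := by
      by_cases h0 : (0 ≠ k.val ∧ 0 ≠ l.val)
      · exact ⟨0, by omega, h0.1, h0.2⟩
      by_cases h1 : (1 ≠ k.val ∧ 1 ≠ l.val)
      · exact ⟨1, by omega, h1.1, h1.2⟩
      by_cases h2 : (2 ≠ k.val ∧ 2 ≠ l.val)
      · exact ⟨2, by omega, h2.1, h2.2⟩
      exfalso
      have : k.val ≠ l.val := fun h => hkl (Fin.ext h)
      omega
    obtain ⟨c, hc3, hck, hcl⟩ := key
    have hck' : k ≠ (⟨c, by omega⟩ : Fin n) := fun h => hck (by rw [h])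
    have hcl' : l ≠ (⟨c, by omega⟩ : Fin n) := fun h => hcl (by rw [h])
    refine ⟨⟨swap k l * swap l ⟨c, by omega⟩, ?_⟩, ?_⟩
    · rw [Perm.mem_alternatingGroup, map_mul, Perm.sign_swap hkl, Perm.sign_swap hcl']
      rfl
    · show (swap k l * swap l ⟨c, by omega⟩) k = l
      rw [Perm.mul_apply, swap_apply_of_ne_of_ne hkl hck', swap_apply_left]

/-- **the inductive step** -/
theorem step (m : ℕ) (hm : 5 ≤ m) (N : ℕ) (hB : Bd (m + 1) N) : Bd (m + 1 + 1) N := by
  classical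
  intro Γ _ _ σ hσ
  obtain ⟨hs, hc, hd⟩ := hσ
  have hperf : ∀ k : Fin (m + 1 + 1), ⁅fixP (· ≠ k), fixP (· ≠ k)⁆ = fixP (· ≠ k) := by
    intro k
    apply fixP_perfect
    rw [card_ne (m + 1) k]
    omega
  obtain ⟨k0, hk0⟩ : ∃ k0 : Fin (m + 1 + 1), k0 = 0 := ⟨_, rfl⟩
  obtain ⟨Z0, hZ0⟩ : ∃ Z0 : Subgroup Γ, Z0 = KK σ (· ≠ k0) ⊓ σ.ker := ⟨_, rfl⟩
  -- the order of `Z0`
  have hZ0card : Nat.card Z0 ∣ N := by
    obtain ⟨ι, hιinj, hιrange⟩ :=
      exists_altHom (fun x : Fin (m + 1 + 1) => x ≠ k0) (finSuccAboveEquiv k0)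
    obtain ⟨K, hK⟩ : ∃ K : Subgroup Γ, K = KK σ (· ≠ k0) := ⟨_, rfl⟩
    have hmapK : K.map σ = fixP (· ≠ k0) := by rw [hK]; exact map_KK σ hs _ (hperf k0)
    have hmem : ∀ x : K, (σ.comp K.subtype) x ∈ ι.range := by
      intro x
      rw [hιrange, ← hmapK]
      exact mem_map_of_mem σ x.2
    obtain ⟨τ, hτ⟩ : ∃ τ : K →* alternatingGroup (Fin (m + 1)),
        τ = (MonoidHom.ofInjective hιinj).symm.toMonoidHom.comp
          ((σ.comp K.subtype).codRestrict ι.range hmem) := ⟨_, rfl⟩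
    have hτι : ∀ x : K, ι (τ x) = σ x := by
      intro x
      have h1 := (MonoidHom.ofInjective hιinj).apply_symm_apply ⟨σ x, hmem x⟩
      have h2 := congrArg Subtype.val h1
      rw [hτ]
      exact h2
    have hτker : ∀ x : K, x ∈ τ.ker ↔ σ x = 1 := by
      intro x
      rw [MonoidHom.mem_ker, ← hιinj.eq_iff, hτι, map_one]
    have hτstem : Cfsg.IsStemExtension τ := by
      refine ⟨?_, ?_, ?_⟩
      · intro a
        have h1 : ι a ∈ K.map σ := by
          rw [hmapK, ← hιrange]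
          exact ⟨a, rfl⟩
        obtain ⟨x, hx, hxa⟩ := h1
        refine ⟨⟨x, hx⟩, hιinj ?_⟩
        rw [hτι]
        exact hxa
      · intro x hx
        rw [mem_center_iff]
        intro y
        apply Subtype.ext
        exact mem_center_iff.mp (hc ((hτker x).mp hx)) (y : Γ)
      · intro x _
        have hKp : ⁅K, K⁆ = K := by rw [hK]; exact KK_perfect σ hs hc _ (hperf k0)
        have h1 : (x : Γ) ∈ (commutator K).map K.subtype := by
          rw [Subgroup.map_subtype_commutator, hKp]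
          exact x.2
        obtain ⟨y, hy, hyx⟩ := h1
        have h2 : y = x := Subtype.ext hyx
        rw [← h2]
        exact hy
    have h1 := hB K τ hτstem
    have h2 : Z0 = τ.ker.map K.subtype := by
      ext z
      rw [hZ0, ← hK]
      constructor
      · rintro ⟨hzK, hzk⟩
        exact ⟨⟨z, hzK⟩, (hτker _).mpr hzk, rfl⟩
      · rintro ⟨x, hx, rfl⟩
        exact ⟨x.2, (hτker x).mp hx⟩
    rw [h2, Nat.card_congr (Subgroup.equivMapOfInjective _ _ K.subtype_injective).symm.toEquiv]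
    exact h1
  -- independence of the point
  have hmove : ∀ k l : Fin (m + 1 + 1), KK σ (· ≠ k) ⊓ σ.ker ≤ KK σ (· ≠ l) := by
    intro k l z hz
    obtain ⟨a, ha⟩ := exists_even_apply (m + 1 + 1) (by omega) k l
    obtain ⟨γ, hγ⟩ := hs a
    have h1 := KK_conj_mem σ γ k l (by rw [hγ]; exact ha) z hz.1
    have h2 : γ * z * γ⁻¹ = z := by
      rw [mem_center_iff.mp (hc hz.2) γ, mul_inv_cancel_right]
    rwa [h2] at h1
  have hZk : ∀ k : Fin (m + 1 + 1), KK σ (· ≠ k) ⊓ σ.ker = Z0 := by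
    intro k
    rw [hZ0]
    apply le_antisymm
    · exact le_inf (hmove k k0) inf_le_right
    · exact le_inf (hmove k0 k) inf_le_right
  -- the quotient
  have hZ0n : Z0.Normal := by
    constructor
    intro z hz g
    have hzc : z ∈ center Γ := hc (by rw [hZ0] at hz; exact hz.2)
    rw [mem_center_iff.mp hzc g, mul_inv_cancel_right]
    exact hz
  have hZ0le : Z0 ≤ σ.ker := by rw [hZ0]; exact inf_le_right
  obtain ⟨σ', hσ'⟩ : ∃ σ' : Γ ⧸ Z0 →* alternatingGroup (Fin (m + 1 + 1)),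
      σ' = QuotientGroup.lift Z0 σ hZ0le := ⟨_, rfl⟩
  have hσ'mk : ∀ x : Γ, σ' (QuotientGroup.mk' Z0 x) = σ x := by
    intro x
    rw [hσ']
    rfl
  have hs' : Function.Surjective σ' := by
    intro a
    obtain ⟨γ, rfl⟩ := hs a
    exact ⟨QuotientGroup.mk' Z0 γ, hσ'mk γ⟩
  have hc' : σ'.ker ≤ center (Γ ⧸ Z0) := by
    intro x hx
    obtain ⟨x, rfl⟩ := QuotientGroup.mk'_surjective Z0 x
    have h1 : σ x = 1 := by rw [← hσ'mk]; exact hx
    rw [mem_center_iff]
    intro y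
    obtain ⟨y, rfl⟩ := QuotientGroup.mk'_surjective Z0 y
    rw [← map_mul, ← map_mul, mem_center_iff.mp (hc h1) y]
  have hKK' : ∀ p : Fin (m + 1 + 1) → Prop, KK σ' p = (KK σ p).map (QuotientGroup.mk' Z0) := by
    intro p
    have h1 : (fixP p).comap σ = ((fixP p).comap σ').comap (QuotientGroup.mk' Z0) := by
      ext x
      rw [mem_comap, mem_comap, mem_comap, hσ'mk]
    unfold KK
    rw [Subgroup.map_commutator, h1,
      Subgroup.map_comap_eq_self_of_surjective (QuotientGroup.mk'_surjective Z0)]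
  have hK' : ∀ k : Fin (m + 1 + 1), KK σ' (· ≠ k) ⊓ σ'.ker = ⊥ := by
    intro k
    rw [eq_bot_iff, hKK']
    rintro _ ⟨⟨x, hx, rfl⟩, hxk⟩
    have h1 : σ x = 1 := by rw [← hσ'mk]; exact hxk
    have h2 : x ∈ Z0 := by
      rw [← hZk k]
      exact ⟨hx, h1⟩
    rw [mem_bot]
    exact (QuotientGroup.eq_one_iff x).mpr h2
  have hsplit := inf_commutator_eq_bot m hm σ' hs' hc' hK'
  have hle : σ.ker ≤ Z0 := by
    intro z hz
    have h1 : QuotientGroup.mk' Z0 z ∈ σ'.ker := by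
      show σ' (QuotientGroup.mk' Z0 z) = 1
      rw [hσ'mk]
      exact hz
    have h2 : QuotientGroup.mk' Z0 z ∈ commutator (Γ ⧸ Z0) := by
      have h3 : (commutator Γ).map (QuotientGroup.mk' Z0) ≤ commutator (Γ ⧸ Z0) := by
        rw [_root_.commutator_def, Subgroup.map_commutator, _root_.commutator_def]
        exact Subgroup.commutator_mono le_top le_top
      exact h3 (mem_map_of_mem _ (hd hz))
    have h4 : QuotientGroup.mk' Z0 z ∈ σ'.ker ⊓ commutator (Γ ⧸ Z0) := ⟨h1, h2⟩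
    rw [hsplit, mem_bot] at h4
    exact (QuotientGroup.eq_one_iff z).mp h4
  have heq : σ.ker = Z0 := le_antisymm hle hZ0le
  rw [heq]
  exact hZ0card

end Cfsg.Agent.Lib.Helper19.AltStep
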