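/-
Helper19 library: bounding the kernel of a stem extension one prime at a time (transfer into the preimage of a
subgroup of index prime to `p`), with the local analysis for cyclic, dihedral (order 8) and `3 × 3` subgroups;
the Schur multiplier is cyclic of order 6 as soon as the local bounds hold and two central extensions exhibit
elements of order 2 and 3 in kernel ∩ commutator subgroup.
-/
import Mathlib
import Cfsg.Prelude.Def_KGroupFacts
import Cfsg.Agent.Lib.Helper3.Schur.Local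
import Cfsg.Agent.Lib.Helper27.Schur4

set_option autoImplicit false

namespace Cfsg.Agent.Lib.Helper19.SchurLoc

universe u v w

open Subgroup Cfsg.Agent.Lib.Helper3.SchurM
open scoped commutatorElement

/-- in every central extension the commutator subgroup of the preimage of `P` meets the kernel in a subgroup of
order at most `N` -/
def LocalBound {G : Type u} [Group G] (N : ℕ) (P : Subgroup G) : Prop :=
  ∀ (Γ : Type u) [Group Γ] [Finite Γ] (σ : Γ →* G), Function.Surjective σ → σ.ker ≤ center Γ →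
    ∃ D : Subgroup Γ, Nat.card D ≤ N ∧ ∀ z ∈ σ.ker, z ∈ ⁅P.comap σ, P.comap σ⁆ → z ∈ D

/-- reduction to a subgroup `H` upstairs covering `P` -/
theorem localBound_of {G : Type u} [Group G] (N : ℕ) (P : Subgroup G)
    (h : ∀ (Γ : Type u) [Group Γ] [Finite Γ] (σ : Γ →* G), Function.Surjective σ →
      σ.ker ≤ center Γ → ∃ H D : Subgroup Γ, P ≤ H.map σ ∧ Nat.card D ≤ N ∧
        ∀ z ∈ σ.ker, z ∈ ⁅H, H⁆ → z ∈ D) : LocalBound N P := by
  intro Γ _ _ σ hs hc
  obtain ⟨H, D, hPH, hD, hH⟩ := h Γ σ hs hc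
  refine ⟨D, hD, fun z hz hzc => hH z hz ?_⟩
  have h1 : P.comap σ ≤ H ⊔ σ.ker := by
    rw [← Subgroup.comap_map_eq]
    exact Subgroup.comap_mono hPH
  exact comm_sup_central_le H σ.ker hc (Subgroup.commutator_mono h1 h1 hzc)

/-- the `p`-part of the kernel of a stem extension is bounded by the local bound at a subgroup of index
prime to `p` -/
theorem pow_le_of_localBound {G : Type u} [Group G] [Finite G] {Γ : Type u} [Group Γ] [Finite Γ]
    (σ : Γ →* G) (hσ : Cfsg.IsStemExtension σ) (p : ℕ) (hp : p.Prime) (P : Subgroup G)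
    (hidx : ¬ p ∣ P.index) (N : ℕ) (hloc : LocalBound N P) (k : ℕ)
    (hk : p ^ k ∣ Nat.card σ.ker) : p ^ k ≤ N := by
  classical
  obtain ⟨D, hD, hDz⟩ := hloc Γ σ hσ.1 hσ.2.1
  haveI : Fact p.Prime := ⟨hp⟩
  obtain ⟨S, hS⟩ := Sylow.exists_subgroup_card_pow_prime p hk
  have hidx' : (P.comap σ).index = P.index := Subgroup.index_comap_of_surjective P hσ.1
  have hmem : ∀ s : S, ((s : σ.ker) : Γ) ^ P.index ∈ D := by
    intro s
    have hs : ((s : σ.ker) : Γ) ∈ σ.ker := (s : σ.ker).2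
    have h1 := pow_index_mem_comm (P.comap σ) ((s : σ.ker) : Γ) (hσ.2.1 hs) (hσ.2.2 hs)
    rw [hidx'] at h1
    exact hDz _ (pow_mem hs _) h1
  let f : S → D := fun s => ⟨((s : σ.ker) : Γ) ^ P.index, hmem s⟩
  have hf : Function.Injective f := by
    intro s t hst
    have h1 : ((s : σ.ker) : Γ) ^ P.index = ((t : σ.ker) : Γ) ^ P.index := congrArg Subtype.val hst
    set u : S := s * t⁻¹ with hu
    have hcomm : Commute ((s : σ.ker) : Γ) (((t : σ.ker) : Γ)⁻¹) :=
      (mem_center_iff.mp (hσ.2.1 (s : σ.ker).2) _).symm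
    have h2 : (((u : σ.ker) : Γ)) ^ P.index = 1 := by
      have : ((u : σ.ker) : Γ) = ((s : σ.ker) : Γ) * (((t : σ.ker) : Γ))⁻¹ := rfl
      rw [this, hcomm.mul_pow, h1, inv_pow, mul_inv_cancel]
    have h3 : orderOf u ∣ P.index := by
      have : orderOf u = orderOf (((u : σ.ker) : Γ)) := by
        rw [Subgroup.orderOf_coe, Subgroup.orderOf_coe]
      rw [this]
      exact orderOf_dvd_of_pow_eq_one h2
    have h4 : orderOf u ∣ p ^ k := by
      rw [← hS]; exact orderOf_dvd_natCard u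
    have hcop : Nat.Coprime (p ^ k) P.index :=
      Nat.Coprime.pow_left k ((Nat.Prime.coprime_iff_not_dvd hp).mpr hidx)
    have h5 : orderOf u = 1 := Nat.eq_one_of_dvd_coprimes hcop h4 h3
    have h6 : u = 1 := orderOf_eq_one_iff.mp h5
    rw [hu, mul_inv_eq_one] at h6
    exact h6
  calc p ^ k = Nat.card S := hS.symm
    _ ≤ Nat.card D := Nat.card_le_card_of_injective f hf
    _ ≤ N := hD

/-- cyclic subgroups have local bound `1` -/
theorem localBound_zpowers {G : Type u} [Group G] (a : G) : LocalBound 1 (zpowers a) := by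
  apply localBound_of
  intro Γ _ _ σ hs _
  obtain ⟨x, rfl⟩ := hs a
  refine ⟨zpowers x, ⊥, by rw [MonoidHom.map_zpowers], by simp, ?_⟩
  intro z _ hz
  have : ⁅zpowers x, zpowers x⁆ = ⊥ := by
    rw [Subgroup.commutator_eq_bot_iff_le_centralizer]
    intro g hg
    rw [Subgroup.mem_centralizer_iff]
    intro h hh
    obtain ⟨i, rfl⟩ := Subgroup.mem_zpowers_iff.mp hg
    obtain ⟨j, rfl⟩ := Subgroup.mem_zpowers_iff.mp hh
    exact ((Commute.refl x).zpow_zpow j i).eq
  rw [this] at hz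
  exact hz

/-- a commutator with a central value is multiplicative in the first argument -/
theorem commElt_pow_left_of_central {Γ : Type*} [Group Γ] (x y : Γ) (hc : ⁅x, y⁆ ∈ center Γ) (n : ℕ) :
    ⁅x ^ n, y⁆ = ⁅x, y⁆ ^ n := by
  induction n with
  | zero => simp
  | succ n ih =>
    rw [pow_succ', commElt_mul_left', ih, pow_succ]
    have : x * ⁅x, y⁆ ^ n * x⁻¹ = ⁅x, y⁆ ^ n := by
      rw [mem_center_iff.mp (pow_mem hc n) x, mul_inv_cancel_right]
    rw [this]

/-- the commutator of lifts of dihedral generators -/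
theorem dihedral_core {Γ : Type*} [Group Γ] (x y k : Γ) (hk : k ∈ center Γ)
    (hw : y * x⁻¹ * y⁻¹ = x * k) (hy2 : y ^ 2 ∈ center Γ) (hx4 : x ^ 4 ∈ center Γ) :
    x * ⁅x, y⁆ = ⁅x, y⁆ * x ∧ y * ⁅x, y⁆ * y⁻¹ = ⁅x, y⁆⁻¹ ∧ ⁅x, y⁆ ^ 4 = 1 := by
  have hkx : x * k = k * x := mem_center_iff.mp hk x
  have hc : ⁅x, y⁆ = x * (x * k) := by
    rw [commutatorElement_def, ← hw]; group
  have h1 : x * ⁅x, y⁆ = ⁅x, y⁆ * x := by
    rw [hc, mul_assoc, mul_assoc, hkx]
  have hyx : y * x * y⁻¹ = (x * k)⁻¹ := by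
    rw [← hw]; group
  have hyw : y * (x * k) * y⁻¹ = x⁻¹ := by
    have : y * (x * k) * y⁻¹ = y ^ 2 * x⁻¹ * (y ^ 2)⁻¹ := by
      rw [← hw, pow_two]; simp only [mul_inv_rev, mul_assoc]
    rw [this, ← mem_center_iff.mp hy2 x⁻¹, mul_inv_cancel_right]
  have h2 : y * ⁅x, y⁆ * y⁻¹ = ⁅x, y⁆⁻¹ := by
    have : y * ⁅x, y⁆ * y⁻¹ = (y * x * y⁻¹) * (y * (x * k) * y⁻¹) := by rw [hc]; group
    rw [this, hyx, hyw, hc]; simp only [mul_inv_rev, mul_assoc]
  refine ⟨h1, h2, ?_⟩
  have hxc : x * ⁅x, y⁆ * x⁻¹ = ⁅x, y⁆ := by rw [h1, mul_inv_cancel_right]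
  have hc2 : ⁅x ^ 2, y⁆ = ⁅x, y⁆ ^ 2 := by
    rw [pow_two, commElt_mul_left', hxc, pow_two]
  have h4 : ⁅x ^ 2 * x ^ 2, y⁆ = ⁅x, y⁆ ^ 2 * ⁅x, y⁆ ^ 2 := by
    rw [commElt_mul_left', hc2]
    have : x ^ 2 * ⁅x, y⁆ ^ 2 * (x ^ 2)⁻¹ = ⁅x, y⁆ ^ 2 := by
      have hcomm : Commute x ⁅x, y⁆ := h1
      rw [(hcomm.pow_pow 2 2).eq, mul_inv_cancel_right]
    rw [this]
  have h5 : ⁅x ^ 2 * x ^ 2, y⁆ = 1 := by
    rw [← pow_add, commutatorElement_eq_one_iff_commute]
    exact (mem_center_iff.mp hx4 y).symm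
  rw [h5] at h4
  calc ⁅x, y⁆ ^ 4 = ⁅x, y⁆ ^ 2 * ⁅x, y⁆ ^ 2 := by rw [← pow_add]
    _ = 1 := h4.symm

/-- the order of a cyclic subgroup generated by an element killed by `n` -/
theorem card_zpowers_le {Γ : Type*} [Group Γ] (c : Γ) (n : ℕ) (hn : 0 < n) (h : c ^ n = 1) :
    Nat.card (zpowers c) ≤ n := by
  rw [Nat.card_zpowers]
  exact Nat.le_of_dvd hn (orderOf_dvd_of_pow_eq_one h)

/-- two commuting elements, one of them of order dividing 3: local bound `3` -/
theorem localBound_comm_three {G : Type u} [Group G] (a b : G) (hab : a * b = b * a) (ha : a ^ 3 = 1) :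
    LocalBound 3 (closure {a, b}) := by
  apply localBound_of
  intro Γ _ _ σ hs hcen
  obtain ⟨x, rfl⟩ := hs a
  obtain ⟨y, rfl⟩ := hs b
  set c := ⁅x, y⁆ with hc
  have hck : c ∈ σ.ker := by
    show σ c = 1
    rw [hc, map_commutatorElement, commutatorElement_eq_one_iff_commute]
    exact hab
  have hcc : c ∈ center Γ := hcen hck
  have hx3 : x ^ 3 ∈ center Γ := hcen (by show σ (x ^ 3) = 1; rw [map_pow, ha])
  have hc3 : c ^ 3 = 1 := by
    rw [hc, ← commElt_pow_left_of_central x y hcc 3, commutatorElement_eq_one_iff_commute]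
    exact (mem_center_iff.mp hx3 y).symm
  refine ⟨closure {x, y}, zpowers c, by rw [MonoidHom.map_closure, Set.image_pair],
    card_zpowers_le c 3 (by norm_num) hc3, ?_⟩
  have hle : ⁅closure {x, y}, closure {x, y}⁆ ≤ zpowers c := by
    apply comm_closure_le
    · intro s _
      apply mem_normalizer_zpowers
      · rw [mem_center_iff.mp hcc s, mul_inv_cancel_right]; exact mem_zpowers c
      · rw [mul_assoc, ← mem_center_iff.mp hcc s, inv_mul_cancel_left]; exact mem_zpowers c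
    · have hxy : ⁅x, y⁆ ∈ zpowers c := mem_zpowers c
      have hyx : ⁅y, x⁆ ∈ zpowers c := by
        have : ⁅y, x⁆ = c⁻¹ := by rw [hc, commutatorElement_inv]
        rw [this]; exact inv_mem (mem_zpowers _)
      intro s hs t ht
      simp only [Set.mem_insert_iff, Set.mem_singleton_iff] at hs ht
      rcases hs with hs | hs <;> rcases ht with ht | ht <;> rw [hs, ht]
      · rw [commutatorElement_self]; exact one_mem _
      · exact hxy
      · exact hyx
      · rw [commutatorElement_self]; exact one_mem _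
  intro z _ hz
  exact hle hz

/-- dihedral relations of order 8: local bound `2` -/
theorem localBound_dihedral {G : Type u} [Group G] (r s : G) (h1 : s * r * s⁻¹ = r⁻¹) (hr : r ^ 4 = 1)
    (hs2 : s ^ 2 = 1) (hr2 : r ^ 2 ≠ 1) : LocalBound 2 (closure {r, s}) := by
  apply localBound_of
  intro Γ _ _ σ hs hcen
  obtain ⟨x, rfl⟩ := hs r
  obtain ⟨y, rfl⟩ := hs s
  obtain ⟨k, hk⟩ : ∃ k, k = x⁻¹ * (y * x⁻¹ * y⁻¹) := ⟨_, rfl⟩
  have hσw : σ (y * x⁻¹ * y⁻¹) = σ x := by
    have : σ (y * x⁻¹ * y⁻¹) = (σ y * σ x * (σ y)⁻¹)⁻¹ := by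
      simp only [map_mul, map_inv]; group
    rw [this, h1, inv_inv]
  have hkk : k ∈ σ.ker := by
    show σ k = 1
    rw [hk, map_mul, map_inv, hσw, inv_mul_cancel]
  have hkc : k ∈ center Γ := hcen hkk
  have hw : y * x⁻¹ * y⁻¹ = x * k := by rw [hk, mul_inv_cancel_left]
  have hy2 : y ^ 2 ∈ center Γ := hcen (by show σ (y ^ 2) = 1; rw [map_pow, hs2])
  have hx4 : x ^ 4 ∈ center Γ := hcen (by show σ (x ^ 4) = 1; rw [map_pow, hr])
  obtain ⟨hxc', hyc, hc4⟩ := dihedral_core x y k hkc hw hy2 hx4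
  obtain ⟨c, hc⟩ : ∃ c, c = ⁅x, y⁆ := ⟨_, rfl⟩
  rw [← hc] at hxc' hyc hc4
  have hxc : x * c * x⁻¹ = c := by rw [hxc', mul_inv_cancel_right]
  have hyc' : y⁻¹ * c * y = c⁻¹ := by
    have : c = y⁻¹ * c⁻¹ * y := by
      rw [← hyc]; group
    calc y⁻¹ * c * y = y⁻¹ * (y⁻¹ * c⁻¹ * y) * y := by rw [← this]
      _ = (y ^ 2)⁻¹ * c⁻¹ * y ^ 2 := by rw [pow_two]; simp only [mul_inv_rev, mul_assoc]
      _ = c⁻¹ := by rw [mul_assoc, mem_center_iff.mp hy2 c⁻¹, inv_mul_cancel_left]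
  have hd2 : (c ^ 2) ^ 2 = 1 := by rw [← pow_mul]; exact hc4
  refine ⟨closure {x, y}, zpowers (c ^ 2), by rw [MonoidHom.map_closure, Set.image_pair],
    card_zpowers_le (c ^ 2) 2 (by norm_num) hd2, ?_⟩
  have hle : ⁅closure {x, y}, closure {x, y}⁆ ≤ zpowers c := by
    apply comm_closure_le
    · intro t ht
      simp only [Set.mem_insert_iff, Set.mem_singleton_iff] at ht
      rcases ht with rfl | rfl
      · apply mem_normalizer_zpowers
        · rw [hxc]; exact mem_zpowers c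
        · have : t⁻¹ * c * t = c := by
            rw [mul_assoc, ← hxc', inv_mul_cancel_left]
          rw [this]; exact mem_zpowers c
      · apply mem_normalizer_zpowers
        · rw [hyc]; exact inv_mem (mem_zpowers c)
        · rw [hyc']; exact inv_mem (mem_zpowers c)
    · have hxy : ⁅x, y⁆ ∈ zpowers c := by rw [← hc]; exact mem_zpowers c
      have hyx : ⁅y, x⁆ ∈ zpowers c := by
        have : ⁅y, x⁆ = c⁻¹ := by rw [hc, commutatorElement_inv]
        rw [this]; exact inv_mem (mem_zpowers _)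
      intro s hs t ht
      simp only [Set.mem_insert_iff, Set.mem_singleton_iff] at hs ht
      rcases hs with hs | hs <;> rcases ht with ht | ht <;> rw [hs, ht]
      · rw [commutatorElement_self]; exact one_mem _
      · exact hxy
      · exact hyx
      · rw [commutatorElement_self]; exact one_mem _
  intro z hzk hz
  obtain ⟨i, rfl⟩ := mem_zpowers_iff.mp (hle hz)
  -- the image of `c`
  have hσc : σ c = σ x ^ 2 := by
    have : c = x * (y * x⁻¹ * y⁻¹) := by rw [hc, commutatorElement_def]; group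
    rw [this, map_mul, hσw, pow_two]
  have ho : orderOf (σ x ^ 2) = 2 := by
    apply orderOf_eq_prime
    · rw [← pow_mul]; exact hr
    · exact hr2
  have h2 : (σ x ^ 2) ^ i = 1 := by
    have : σ (c ^ i) = 1 := hzk
    rwa [map_zpow, hσc] at this
  have h3 : ((2 : ℕ) : ℤ) ∣ i := by
    rw [← ho]; exact orderOf_dvd_iff_zpow_eq_one.mpr h2
  obtain ⟨j, rfl⟩ := h3
  rw [mem_zpowers_iff]
  refine ⟨j, ?_⟩
  rw [zpow_mul]
  norm_cast

/-- local bounds `2`, `3` and `1` at the primes `2`, `3` and the others: the kernel of every finite stem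
extension has order dividing `6` -/
theorem card_ker_dvd_six {G : Type u} [Group G] [Finite G]
    (h2 : ∃ P : Subgroup G, ¬ 2 ∣ P.index ∧ LocalBound 2 P)
    (h3 : ∃ P : Subgroup G, ¬ 3 ∣ P.index ∧ LocalBound 3 P)
    (hp : ∀ p : ℕ, p.Prime → p ≠ 2 → p ≠ 3 → ∃ P : Subgroup G, ¬ p ∣ P.index ∧ LocalBound 1 P)
    {Γ : Type u} [Group Γ] [Finite Γ] (σ : Γ →* G) (hσ : Cfsg.IsStemExtension σ) :
    Nat.card σ.ker ∣ 6 := by
  rw [Nat.dvd_iff_prime_pow_dvd_dvd]
  intro p k hpp hk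
  by_cases hp2 : p = 2
  · subst hp2
    obtain ⟨P, hidx, hloc⟩ := h2
    have hle := pow_le_of_localBound σ hσ 2 hpp P hidx 2 hloc k hk
    have hk1 : k ≤ 1 := by
      by_contra hcon
      have : 2 ^ 2 ≤ 2 ^ k := Nat.pow_le_pow_right (by norm_num) (by omega)
      omega
    interval_cases k <;> norm_num
  by_cases hp3 : p = 3
  · subst hp3
    obtain ⟨P, hidx, hloc⟩ := h3
    have hle := pow_le_of_localBound σ hσ 3 hpp P hidx 3 hloc k hk
    have hk1 : k ≤ 1 := by
      by_contra hcon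
      have : 3 ^ 2 ≤ 3 ^ k := Nat.pow_le_pow_right (by norm_num) (by omega)
      omega
    interval_cases k <;> norm_num
  obtain ⟨P, hidx, hloc⟩ := hp p hpp hp2 hp3
  have hle := pow_le_of_localBound σ hσ p hpp P hidx 1 hloc k hk
  have hk0 : k = 0 := by
    by_contra hcon
    have h1 : p ^ 1 ≤ p ^ k := Nat.pow_le_pow_right hpp.pos (by omega)
    have := hpp.two_le
    rw [pow_one] at h1
    omega
  subst hk0
  simp

/-- an element of order `q` in kernel ∩ commutator subgroup of a central extension forces `q` to divide the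
order of the multiplier -/
theorem dvd_card_of_central_ext {G : Type u} [Group G] [Finite G] {A : Type v} [CommGroup A]
    (hA : Cfsg.HasSchurMultiplier G A) {E : Type w} [Group E] (σ : E →* G)
    (hσ : Function.Surjective σ) (hc : σ.ker ≤ center E) (z : E) (hz : z ∈ σ.ker)
    (hz' : z ∈ commutator E) : orderOf z ∣ Nat.card A := by
  obtain ⟨θ, hθ⟩ := Cfsg.Agent.Lib.Helper27.Schur.exists_surjective_of_hasSchurMultiplier hA σ hσ hc
  obtain ⟨a, ha⟩ := hθ ⟨z, ⟨hz, hz'⟩⟩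
  have h1 : orderOf (θ a) ∣ orderOf a := orderOf_map_dvd θ a
  have h2 : orderOf (θ a) = orderOf z := by
    rw [ha, ← Subgroup.orderOf_coe]
  rw [← h2]
  exact h1.trans (orderOf_dvd_natCard a)

/-- the Schur multiplier is cyclic of order `6` -/
theorem hasCyclicSchurMultiplier_six {G : Type u} [Group G] [Finite G]
    (hub : ∀ (Γ : Type u) [Group Γ] [Finite Γ] (σ : Γ →* G), Cfsg.IsStemExtension σ →
      Nat.card σ.ker ∣ 6)
    (h2 : ∃ (E : Type v) (_ : Group E) (σ : E →* G), Function.Surjective σ ∧ σ.ker ≤ center E ∧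
      ∃ z : E, z ∈ σ.ker ∧ z ∈ commutator E ∧ orderOf z = 2)
    (h3 : ∃ (E : Type w) (_ : Group E) (σ : E →* G), Function.Surjective σ ∧ σ.ker ≤ center E ∧
      ∃ z : E, z ∈ σ.ker ∧ z ∈ commutator E ∧ orderOf z = 3) :
    Cfsg.HasCyclicSchurMultiplier G 6 := by
  classical
  have hA := Cfsg.Agent.Lib.Helper27.Schur.exists_hasSchurMultiplier G
  set M := ↥(Cfsg.Agent.Lib.Helper27.Schur.mult (Cfsg.Agent.Lib.Helper27.Schur.stdPres G)) with hM
  haveI : Finite M := Cfsg.Agent.Lib.Helper27.Schur.finite_of_hasSchurMultiplier hA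
  have hd6 : Nat.card M ∣ 6 := by
    obtain ⟨⟨Γ, _, _, σ, hσ, ⟨e⟩⟩, -⟩ := hA
    rw [← Nat.card_congr e.toEquiv]
    exact hub Γ σ hσ
  have hd2 : 2 ∣ Nat.card M := by
    obtain ⟨E, _, σ, hs, hc, z, hz, hz', ho⟩ := h2
    rw [← ho]
    exact dvd_card_of_central_ext hA σ hs hc z hz hz'
  have hd3 : 3 ∣ Nat.card M := by
    obtain ⟨E, _, σ, hs, hc, z, hz, hz', ho⟩ := h3
    rw [← ho]
    exact dvd_card_of_central_ext hA σ hs hc z hz hz'
  have hcard : Nat.card M = 6 := by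
    have h6 : 6 ∣ Nat.card M := Nat.Coprime.mul_dvd_of_dvd_of_dvd (by norm_num) hd2 hd3
    exact Nat.dvd_antisymm hd6 h6
  -- cyclic
  haveI : Fact (Nat.Prime 2) := ⟨Nat.prime_two⟩
  haveI : Fact (Nat.Prime 3) := ⟨Nat.prime_three⟩
  obtain ⟨a, ha⟩ := exists_prime_orderOf_dvd_card' (G := M) 2 hd2
  obtain ⟨b, hb⟩ := exists_prime_orderOf_dvd_card' (G := M) 3 hd3
  have hab : orderOf (a * b) = 6 := by
    rw [(Commute.all a b).orderOf_mul_eq_mul_orderOf_of_coprime (by rw [ha, hb]; norm_num), ha, hb]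
  have hcyc : IsCyclic M := isCyclic_of_orderOf_eq_card (a * b) (by rw [hab, hcard])
  have hcardz : Nat.card (Multiplicative (ZMod 6)) = 6 := by
    rw [Nat.card_congr Multiplicative.toAdd, Nat.card_zmod]
  exact Cfsg.Agent.Lib.Helper27.Schur.hasSchurMultiplier_of_mulEquiv hA
    (mulEquivOfCyclicCardEq (hcard.trans hcardz.symm))

end Cfsg.Agent.Lib.Helper19.SchurLoc
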