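/-
Helper19 library: subgroups of index prime to `p` with a local bound, from explicit generators and relations
(dihedral of order 8, `3 × 3`, cyclic of prime order, trivial).
-/
import Mathlib
import Cfsg.Agent.Lib.Helper19.SchurLoc
import Cfsg.Agent.Lib.Helper3.Dihedral

set_option autoImplicit false

namespace Cfsg.Agent.Lib.Helper19.SchurLoc

universe u

open Subgroup Cfsg.Agent.Lib.Helper3.SchurM
open scoped commutatorElement

theorem not_mem_zpowers_of_forall {G : Type*} [Group G] (x s : G) (n : ℕ) (hn : 0 < n) (hx : x ^ n = 1)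
    (h : ∀ i < n, x ^ i ≠ s) : s ∉ zpowers x := by
  intro hs
  obtain ⟨k, hk⟩ := mem_zpowers_iff.mp hs
  have h1 : x ^ (k % (n : ℤ)) = s := by
    rw [← hk]
    conv_rhs => rw [← Int.mul_ediv_add_emod k n, zpow_add, zpow_mul, zpow_natCast, hx, one_zpow, one_mul]
  have h2 : 0 ≤ k % (n : ℤ) := Int.emod_nonneg _ (by exact_mod_cast hn.ne')
  have h3 : k % (n : ℤ) < n := Int.emod_lt_of_pos _ (by exact_mod_cast hn)
  obtain ⟨j, hj⟩ := Int.eq_ofNat_of_zero_le h2
  rw [hj, zpow_natCast] at h1
  exact h j (by rw [hj] at h3; exact_mod_cast h3) h1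

/-- dihedral Sylow 2-subgroup of order 8 -/
theorem exists_local_two {G : Type u} [Group G] [Finite G] (r s : G) (h1 : s * r * s = r⁻¹)
    (hr : r ^ 4 = 1) (hs : s * s = 1) (hr2 : r ^ 2 ≠ 1) (hsr : ∀ i < 4, r ^ i ≠ s) (m : ℕ)
    (hG : Nat.card G = 8 * m) (hm : ¬ 2 ∣ m) :
    ∃ P : Subgroup G, ¬ 2 ∣ P.index ∧ LocalBound 2 P := by
  have hsi : s⁻¹ = s := inv_eq_of_mul_eq_one_left hs
  have hord : orderOf r = 4 := by
    have := orderOf_eq_prime_pow (x := r) (p := 2) (n := 1) (by simpa using hr2) (by simpa using hr)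
    simpa using this
  have hs' : s ∉ zpowers r := not_mem_zpowers_of_forall r s 4 (by norm_num) hr hsr
  refine ⟨closure {r, s}, ?_, localBound_dihedral r s (by rw [hsi]; exact h1) hr (by rw [pow_two]; exact hs)
    hr2⟩
  have hcard : Nat.card (closure {r, s}) = 8 := by
    rw [← Cfsg.Agent.Lib.Helper3.dihLift_range r s hr hs h1]
    rw [Nat.card_congr (MonoidHom.ofInjective
      (Cfsg.Agent.Lib.Helper3.dihLift_injective r s hr hs h1 hord hs')).symm.toEquiv]
    rw [DihedralGroup.nat_card]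
  have h2 := Subgroup.card_mul_index (closure {r, s})
  rw [hcard, hG] at h2
  have h3 : (closure {r, s}).index = m := Nat.eq_of_mul_eq_mul_left (by norm_num) h2
  rw [h3]
  exact hm

/-- Sylow 3-subgroup `3 × 3` -/
theorem exists_local_three {G : Type u} [Group G] [Finite G] (a b : G) (hab : a * b = b * a)
    (ha : a ^ 3 = 1) (hb : b ^ 3 = 1) (ha1 : a ≠ 1) (hba : ∀ i < 3, a ^ i ≠ b) (m : ℕ)
    (hG : Nat.card G = 9 * m) (hm : ¬ 3 ∣ m) :
    ∃ P : Subgroup G, ¬ 3 ∣ P.index ∧ LocalBound 3 P := by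
  refine ⟨closure {a, b}, ?_, localBound_comm_three a b hab ha⟩
  have hf3 : Fact (Nat.Prime 3) := ⟨Nat.prime_three⟩
  have hb' : b ∉ zpowers a := not_mem_zpowers_of_forall a b 3 (by norm_num) ha hba
  -- the closure is commutative of exponent 3
  have hcomm : ∀ x ∈ closure {a, b}, ∀ y ∈ closure {a, b}, x * y = y * x := by
    have hS : ∀ x ∈ ({a, b} : Set G), ∀ y ∈ ({a, b} : Set G), x * y = y * x := by
      intro x hx y hy
      simp only [Set.mem_insert_iff, Set.mem_singleton_iff] at hx hy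
      rcases hx with rfl | rfl <;> rcases hy with rfl | rfl
      · rfl
      · exact hab
      · exact hab.symm
      · rfl
    intro x hx y hy
    have := (Subgroup.closureCommGroupOfComm hS).mul_comm ⟨x, hx⟩ ⟨y, hy⟩
    exact congrArg Subtype.val this
  have hexp : ∀ x ∈ closure {a, b}, x ^ 3 = 1 := by
    intro x hx
    induction hx using closure_induction with
    | mem s hs =>
      simp only [Set.mem_insert_iff, Set.mem_singleton_iff] at hs
      rcases hs with rfl | rfl
      · exact ha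
      · exact hb
    | one => exact one_pow 3
    | mul x y hx hy ihx ihy =>
      have hc : Commute x y := hcomm x hx y hy
      rw [hc.mul_pow, ihx, ihy, one_mul]
    | inv x hx ih => rw [inv_pow, ih, inv_one]
  have hpg : IsPGroup 3 (closure {a, b}) := by
    intro x
    refine ⟨1, ?_⟩
    apply Subtype.ext
    show (x : G) ^ 3 ^ 1 = 1
    rw [pow_one]
    exact hexp x x.2
  obtain ⟨k, hk⟩ := hpg.exists_card_eq
  have hlt : zpowers a < closure {a, b} := by
    rw [lt_iff_le_and_ne]
    refine ⟨by rw [zpowers_le]; exact subset_closure (by simp), ?_⟩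
    intro h
    apply hb'
    rw [h]
    exact subset_closure (by simp)
  have hca : Nat.card (zpowers a) = 3 := by
    rw [Nat.card_zpowers]
    exact orderOf_eq_prime ha ha1
  have hlt' : Nat.card (zpowers a) < Nat.card (closure {a, b}) := by
    have hle : Nat.card (zpowers a) ≤ Nat.card (closure {a, b}) :=
      Nat.le_of_dvd Nat.card_pos (Subgroup.card_dvd_of_le hlt.le)
    rcases Nat.lt_or_ge (Nat.card (zpowers a)) (Nat.card (closure {a, b})) with h | h
    · exact h
    · exact absurd (Subgroup.eq_of_le_of_card_ge hlt.le h) hlt.ne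
  rw [hca, hk] at hlt'
  have hk2 : 2 ≤ k := by
    by_contra hcon
    have : k ≤ 1 := by omega
    have : 3 ^ k ≤ 3 ^ 1 := Nat.pow_le_pow_right (by norm_num) this
    omega
  obtain ⟨j, rfl⟩ : ∃ j, k = 2 + j := ⟨k - 2, by omega⟩
  have h2 := Subgroup.card_mul_index (closure {a, b})
  rw [hk, hG, pow_add] at h2
  have h3 : 3 ^ j * (closure {a, b}).index = m := by
    have : 3 ^ 2 * (3 ^ j * (closure {a, b}).index) = 3 ^ 2 * m := by
      rw [← mul_assoc]; norm_num at h2 ⊢; exact h2
    exact Nat.eq_of_mul_eq_mul_left (by norm_num) this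
  intro h
  apply hm
  rw [← h3]
  exact Dvd.dvd.mul_left h _

/-- cyclic Sylow subgroup of prime order -/
theorem exists_local_cyclic {G : Type u} [Group G] [Finite G] (p : ℕ) (hp : p.Prime) (g : G)
    (hg : g ^ p = 1) (hg1 : g ≠ 1) (m : ℕ) (hG : Nat.card G = p * m) (hm : ¬ p ∣ m) :
    ∃ P : Subgroup G, ¬ p ∣ P.index ∧ LocalBound 1 P := by
  refine ⟨zpowers g, ?_, localBound_zpowers g⟩
  have hf : Fact p.Prime := ⟨hp⟩
  have hc : Nat.card (zpowers g) = p := by
    rw [Nat.card_zpowers]
    exact orderOf_eq_prime hg hg1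
  have h2 := Subgroup.card_mul_index (zpowers g)
  rw [hc, hG] at h2
  have h3 : (zpowers g).index = m := Nat.eq_of_mul_eq_mul_left hp.pos h2
  rw [h3]
  exact hm

/-- primes not dividing the group order -/
theorem exists_local_trivial {G : Type u} [Group G] [Finite G] (p : ℕ) (hG : ¬ p ∣ Nat.card G) :
    ∃ P : Subgroup G, ¬ p ∣ P.index ∧ LocalBound 1 P := by
  refine ⟨zpowers 1, ?_, localBound_zpowers 1⟩
  rw [zpowers_one_eq_bot, Subgroup.index_bot]
  exact hG

end Cfsg.Agent.Lib.Helper19.SchurLoc
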