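/-
Helper19 library: the Schur multipliers of `A₆` and `A₇` are cyclic of order 6: explicit Sylow subgroups
(dihedral of order 8, `3 × 3`, cyclic) with their local bounds, and the covers `2.Aₙ` (helper2, Clifford algebra)
and `3.Aₙ` (`SchurAltCover3`).
-/
import Mathlib
import Cfsg.Agent.Lib.Helper19.SchurLoc2
import Cfsg.Agent.Lib.Helper19.SchurAltCover3
import Cfsg.Agent.Lib.Helper2.SpinAlt3

set_option autoImplicit false

namespace Cfsg.Agent.Lib.Helper19.SchurAlt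

open Subgroup Cfsg.Agent.Lib.Helper19.SchurLoc

/-- the double cover as a central extension -/
theorem exists_cover_two (n : ℕ) (hn : 4 ≤ n) :
    ∃ (E : Type) (_ : Group E) (σ : E →* alternatingGroup (Fin n)),
      Function.Surjective σ ∧ σ.ker ≤ center E ∧
        ∃ z : E, z ∈ σ.ker ∧ z ∈ commutator E ∧ orderOf z = 2 := by
  obtain ⟨Γ, _, _, z, hz, ho, hzc, hN, ⟨e⟩⟩ := Cfsg.Agent.Lib.Helper2.SpinAlt.exists_double_cover hn
  refine ⟨Γ, inferInstance, e.toMonoidHom.comp (QuotientGroup.mk' (zpowers z)), ?_, ?_, z, ?_, hzc, ho⟩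
  · exact e.surjective.comp (QuotientGroup.mk'_surjective _)
  · intro x hx
    have h1 : e (QuotientGroup.mk' (zpowers z) x) = 1 := hx
    have h2 : QuotientGroup.mk' (zpowers z) x = 1 := by
      rw [← e.map_one] at h1
      exact e.injective h1
    have h3 : x ∈ zpowers z := (QuotientGroup.eq_one_iff x).mp h2
    exact (zpowers_le.mpr hz) h3
  · show e (QuotientGroup.mk' (zpowers z) z) = 1
    have : QuotientGroup.mk' (zpowers z) z = 1 := (QuotientGroup.eq_one_iff z).mpr (mem_zpowers z)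
    rw [this, map_one]

set_option maxRecDepth 100000

section deg6

def mkPerm6 (f g : Fin 6 → Fin 6) (h1 : ∀ x, g (f x) = x) (h2 : ∀ x, f (g x) = x) :
    Equiv.Perm (Fin 6) := ⟨f, g, h1, h2⟩

def pr6 : Equiv.Perm (Fin 6) := mkPerm6 ![1,2,3,0,5,4] ![3,0,1,2,5,4] (by decide) (by decide)
theorem pr6_mem : pr6 ∈ alternatingGroup (Fin 6) := by
  rw [Equiv.Perm.mem_alternatingGroup]; decide +kernel
def er6 : alternatingGroup (Fin 6) := ⟨pr6, pr6_mem⟩

def ps6 : Equiv.Perm (Fin 6) := mkPerm6 ![2,1,0,3,5,4] ![2,1,0,3,5,4] (by decide) (by decide)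
theorem ps6_mem : ps6 ∈ alternatingGroup (Fin 6) := by
  rw [Equiv.Perm.mem_alternatingGroup]; decide +kernel
def es6 : alternatingGroup (Fin 6) := ⟨ps6, ps6_mem⟩

def pa6 : Equiv.Perm (Fin 6) := mkPerm6 ![1,2,0,3,4,5] ![2,0,1,3,4,5] (by decide) (by decide)
theorem pa6_mem : pa6 ∈ alternatingGroup (Fin 6) := by
  rw [Equiv.Perm.mem_alternatingGroup]; decide +kernel
def ea6 : alternatingGroup (Fin 6) := ⟨pa6, pa6_mem⟩

def pb6 : Equiv.Perm (Fin 6) := mkPerm6 ![0,1,2,4,5,3] ![0,1,2,5,3,4] (by decide) (by decide)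
theorem pb6_mem : pb6 ∈ alternatingGroup (Fin 6) := by
  rw [Equiv.Perm.mem_alternatingGroup]; decide +kernel
def eb6 : alternatingGroup (Fin 6) := ⟨pb6, pb6_mem⟩

def pg56 : Equiv.Perm (Fin 6) := mkPerm6 ![1,2,3,4,0,5] ![4,0,1,2,3,5] (by decide) (by decide)
theorem pg56_mem : pg56 ∈ alternatingGroup (Fin 6) := by
  rw [Equiv.Perm.mem_alternatingGroup]; decide +kernel
def eg56 : alternatingGroup (Fin 6) := ⟨pg56, pg56_mem⟩

theorem card_alt6 : Nat.card (alternatingGroup (Fin 6)) = 360 := by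
  have h := two_mul_nat_card_alternatingGroup (α := Fin 6)
  rw [Nat.card_perm, Nat.card_fin] at h
  have : (6 : ℕ).factorial = 720 := by decide
  omega

theorem rel_two6 : es6 * er6 * es6 = er6⁻¹ ∧ er6 ^ 4 = 1 ∧ es6 * es6 = 1 ∧ er6 ^ 2 ≠ 1 ∧
    ∀ i < 4, er6 ^ i ≠ es6 := by decide +kernel

theorem rel_three6 : ea6 * eb6 = eb6 * ea6 ∧ ea6 ^ 3 = 1 ∧ eb6 ^ 3 = 1 ∧ ea6 ≠ 1 ∧
    ∀ i < 3, ea6 ^ i ≠ eb6 := by decide +kernel

theorem rel_five6 : eg56 ^ 5 = 1 ∧ eg56 ≠ 1 := by decide +kernel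

theorem local_two6 : ∃ P : Subgroup (alternatingGroup (Fin 6)), ¬ 2 ∣ P.index ∧ LocalBound 2 P := by
  obtain ⟨h1, h2, h3, h4, h5⟩ := rel_two6
  exact exists_local_two er6 es6 h1 h2 h3 h4 h5 45 (by rw [card_alt6]) (by decide)

theorem local_three6 : ∃ P : Subgroup (alternatingGroup (Fin 6)), ¬ 3 ∣ P.index ∧ LocalBound 3 P := by
  obtain ⟨h1, h2, h3, h4, h5⟩ := rel_three6
  exact exists_local_three ea6 eb6 h1 h2 h3 h4 h5 40 (by rw [card_alt6]) (by decide)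

theorem local_other6 (p : ℕ) (hp : p.Prime) (hp2 : p ≠ 2) (hp3 : p ≠ 3) :
    ∃ P : Subgroup (alternatingGroup (Fin 6)), ¬ p ∣ P.index ∧ LocalBound 1 P := by
  by_cases hp5 : p = 5
  · subst hp5
    exact exists_local_cyclic 5 hp eg56 rel_five6.1 rel_five6.2 72 (by rw [card_alt6]) (by decide)
  apply exists_local_trivial
  rw [card_alt6]
  intro hd
  have hN : (360 : ℕ) = 2 ^ 3 * 3 ^ 2 * 5 := by norm_num
  rw [hN] at hd
  rcases (Nat.Prime.dvd_mul hp).mp hd with hd | hd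
  · rcases (Nat.Prime.dvd_mul hp).mp hd with hd | hd
    · exact hp2 ((Nat.prime_dvd_prime_iff_eq hp Nat.prime_two).mp (hp.dvd_of_dvd_pow hd))
    · exact hp3 ((Nat.prime_dvd_prime_iff_eq hp Nat.prime_three).mp (hp.dvd_of_dvd_pow hd))
  · exact hp5 ((Nat.prime_dvd_prime_iff_eq hp Nat.prime_five).mp hd)

/-- **the Schur multiplier of `A_6` is cyclic of order 6** -/
theorem schur_alt6 : Cfsg.HasCyclicSchurMultiplier (alternatingGroup (Fin 6)) 6 := by
  apply hasCyclicSchurMultiplier_six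
  · intro Γ _ _ σ hσ
    exact card_ker_dvd_six local_two6 local_three6 local_other6 σ hσ
  · exact exists_cover_two 6 (by norm_num)
  · exact Cfsg.Agent.Lib.Helper19.SchurAltCover.exists_cover_three 4 (by norm_num)

end deg6

section deg7

def mkPerm7 (f g : Fin 7 → Fin 7) (h1 : ∀ x, g (f x) = x) (h2 : ∀ x, f (g x) = x) :
    Equiv.Perm (Fin 7) := ⟨f, g, h1, h2⟩

def pr7 : Equiv.Perm (Fin 7) := mkPerm7 ![1,2,3,0,5,4,6] ![3,0,1,2,5,4,6] (by decide) (by decide)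
theorem pr7_mem : pr7 ∈ alternatingGroup (Fin 7) := by
  rw [Equiv.Perm.mem_alternatingGroup]; decide +kernel
def er7 : alternatingGroup (Fin 7) := ⟨pr7, pr7_mem⟩

def ps7 : Equiv.Perm (Fin 7) := mkPerm7 ![2,1,0,3,5,4,6] ![2,1,0,3,5,4,6] (by decide) (by decide)
theorem ps7_mem : ps7 ∈ alternatingGroup (Fin 7) := by
  rw [Equiv.Perm.mem_alternatingGroup]; decide +kernel
def es7 : alternatingGroup (Fin 7) := ⟨ps7, ps7_mem⟩

def pa7 : Equiv.Perm (Fin 7) := mkPerm7 ![1,2,0,3,4,5,6] ![2,0,1,3,4,5,6] (by decide) (by decide)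
theorem pa7_mem : pa7 ∈ alternatingGroup (Fin 7) := by
  rw [Equiv.Perm.mem_alternatingGroup]; decide +kernel
def ea7 : alternatingGroup (Fin 7) := ⟨pa7, pa7_mem⟩

def pb7 : Equiv.Perm (Fin 7) := mkPerm7 ![0,1,2,4,5,3,6] ![0,1,2,5,3,4,6] (by decide) (by decide)
theorem pb7_mem : pb7 ∈ alternatingGroup (Fin 7) := by
  rw [Equiv.Perm.mem_alternatingGroup]; decide +kernel
def eb7 : alternatingGroup (Fin 7) := ⟨pb7, pb7_mem⟩

def pg57 : Equiv.Perm (Fin 7) := mkPerm7 ![1,2,3,4,0,5,6] ![4,0,1,2,3,5,6] (by decide) (by decide)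
theorem pg57_mem : pg57 ∈ alternatingGroup (Fin 7) := by
  rw [Equiv.Perm.mem_alternatingGroup]; decide +kernel
def eg57 : alternatingGroup (Fin 7) := ⟨pg57, pg57_mem⟩

def pg77 : Equiv.Perm (Fin 7) := mkPerm7 ![1,2,3,4,5,6,0] ![6,0,1,2,3,4,5] (by decide) (by decide)
theorem pg77_mem : pg77 ∈ alternatingGroup (Fin 7) := by
  rw [Equiv.Perm.mem_alternatingGroup]; decide +kernel
def eg77 : alternatingGroup (Fin 7) := ⟨pg77, pg77_mem⟩

theorem card_alt7 : Nat.card (alternatingGroup (Fin 7)) = 2520 := by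
  have h := two_mul_nat_card_alternatingGroup (α := Fin 7)
  rw [Nat.card_perm, Nat.card_fin] at h
  have : (7 : ℕ).factorial = 5040 := by decide
  omega

theorem rel_two7 : es7 * er7 * es7 = er7⁻¹ ∧ er7 ^ 4 = 1 ∧ es7 * es7 = 1 ∧ er7 ^ 2 ≠ 1 ∧
    ∀ i < 4, er7 ^ i ≠ es7 := by decide +kernel

theorem rel_three7 : ea7 * eb7 = eb7 * ea7 ∧ ea7 ^ 3 = 1 ∧ eb7 ^ 3 = 1 ∧ ea7 ≠ 1 ∧
    ∀ i < 3, ea7 ^ i ≠ eb7 := by decide +kernel

theorem rel_five7 : eg57 ^ 5 = 1 ∧ eg57 ≠ 1 := by decide +kernel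

theorem rel_seven7 : eg77 ^ 7 = 1 ∧ eg77 ≠ 1 := by decide +kernel

theorem local_two7 : ∃ P : Subgroup (alternatingGroup (Fin 7)), ¬ 2 ∣ P.index ∧ LocalBound 2 P := by
  obtain ⟨h1, h2, h3, h4, h5⟩ := rel_two7
  exact exists_local_two er7 es7 h1 h2 h3 h4 h5 315 (by rw [card_alt7]) (by decide)

theorem local_three7 : ∃ P : Subgroup (alternatingGroup (Fin 7)), ¬ 3 ∣ P.index ∧ LocalBound 3 P := by
  obtain ⟨h1, h2, h3, h4, h5⟩ := rel_three7
  exact exists_local_three ea7 eb7 h1 h2 h3 h4 h5 280 (by rw [card_alt7]) (by decide)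

theorem local_other7 (p : ℕ) (hp : p.Prime) (hp2 : p ≠ 2) (hp3 : p ≠ 3) :
    ∃ P : Subgroup (alternatingGroup (Fin 7)), ¬ p ∣ P.index ∧ LocalBound 1 P := by
  by_cases hp5 : p = 5
  · subst hp5
    exact exists_local_cyclic 5 hp eg57 rel_five7.1 rel_five7.2 504 (by rw [card_alt7]) (by decide)
  by_cases hp7 : p = 7
  · subst hp7
    exact exists_local_cyclic 7 hp eg77 rel_seven7.1 rel_seven7.2 360 (by rw [card_alt7]) (by decide)
  apply exists_local_trivial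
  rw [card_alt7]
  intro hd
  have hN : (2520 : ℕ) = 2 ^ 3 * 3 ^ 2 * 5 * 7 := by norm_num
  rw [hN] at hd
  rcases (Nat.Prime.dvd_mul hp).mp hd with hd | hd
  · rcases (Nat.Prime.dvd_mul hp).mp hd with hd | hd
    · rcases (Nat.Prime.dvd_mul hp).mp hd with hd | hd
      · exact hp2 ((Nat.prime_dvd_prime_iff_eq hp Nat.prime_two).mp (hp.dvd_of_dvd_pow hd))
      · exact hp3 ((Nat.prime_dvd_prime_iff_eq hp Nat.prime_three).mp (hp.dvd_of_dvd_pow hd))
    · exact hp5 ((Nat.prime_dvd_prime_iff_eq hp Nat.prime_five).mp hd)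
  · exact hp7 ((Nat.prime_dvd_prime_iff_eq hp (by norm_num : Nat.Prime 7)).mp hd)

/-- **the Schur multiplier of `A_7` is cyclic of order 6** -/
theorem schur_alt7 : Cfsg.HasCyclicSchurMultiplier (alternatingGroup (Fin 7)) 6 := by
  apply hasCyclicSchurMultiplier_six
  · intro Γ _ _ σ hσ
    exact card_ker_dvd_six local_two7 local_three7 local_other7 σ hσ
  · exact exists_cover_two 7 (by norm_num)
  · exact Cfsg.Agent.Lib.Helper19.SchurAltCover.exists_cover_three 5 (by norm_num)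

end deg7

end Cfsg.Agent.Lib.Helper19.SchurAlt
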