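/-
Helper19 library: more local bounds for stem extensions: two commuting elements of prime order `q`
(bound `q`), the same with an element inverting one and centralising the other (bound `1`),
and the divisibility `|ker| ∣ 2`.
-/
import Mathlib
import Cfsg.Agent.Lib.Helper19.SchurLoc2

set_option autoImplicit false

namespace Cfsg.Agent.Lib.Helper19.SchurLoc

universe u

open Subgroup Cfsg.Agent.Lib.Helper3.SchurM
open scoped commutatorElement

/-- two commuting elements, one of them of order dividing `q`: local bound `q` -/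
theorem localBound_comm_pow {G : Type u} [Group G] (q : ℕ) (hq : 0 < q) (a b : G) (hab : a * b = b * a)
    (ha : a ^ q = 1) : LocalBound q (closure {a, b}) := by
  apply localBound_of
  intro Γ _ _ σ hs hcen
  obtain ⟨x, rfl⟩ := hs a
  obtain ⟨y, rfl⟩ := hs b
  set c := ⁅x, y⁆ with hc
  have hck : c ∈ σ.ker := by
    show σ c = 1
    rw [hc, map_commutatorElement, commutatorElement_eq_one_iff_commute]
    exact hab
  have hcc : c ∈ center Γ := hcen hck
  have hx3 : x ^ q ∈ center Γ := hcen (by show σ (x ^ q) = 1; rw [map_pow, ha])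
  have hc3 : c ^ q = 1 := by
    rw [hc, ← commElt_pow_left_of_central x y hcc q, commutatorElement_eq_one_iff_commute]
    exact (mem_center_iff.mp hx3 y).symm
  refine ⟨closure {x, y}, zpowers c, by rw [MonoidHom.map_closure, Set.image_pair],
    card_zpowers_le c q hq hc3, ?_⟩
  have hle : ⁅closure {x, y}, closure {x, y}⁆ ≤ zpowers c := by
    apply comm_closure_le
    · intro s _
      apply mem_normalizer_zpowers
      · rw [mem_center_iff.mp hcc s, mul_inv_cancel_right]; exact mem_zpowers c
      · rw [mul_assoc, ← mem_center_iff.mp hcc s, inv_mul_cancel_left]; exact mem_zpowers c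
    · have hxy : ⁅x, y⁆ ∈ zpowers c := mem_zpowers c
      have hyx : ⁅y, x⁆ ∈ zpowers c := by
        have : ⁅y, x⁆ = c⁻¹ := by rw [hc, commutatorElement_inv]
        rw [this]; exact inv_mem (mem_zpowers _)
      intro s hs t ht
      simp only [Set.mem_insert_iff, Set.mem_singleton_iff] at hs ht
      rcases hs with hs | hs <;> rcases ht with ht | ht <;> rw [hs, ht]
      · rw [commutatorElement_self]; exact one_mem _
      · exact hxy
      · exact hyx
      · rw [commutatorElement_self]; exact one_mem _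
  intro z _ hz
  exact hle hz

/-- two commuting elements, one of odd order dividing `q` and inverted by an element centralising the
other: local bound `1` -/
theorem localBound_comm_inverted {G : Type u} [Group G] (q : ℕ) (hq : Odd q) (a b g : G)
    (hab : a * b = b * a) (ha : a ^ q = 1) (hga : g * a * g⁻¹ = a⁻¹) (hgb : g * b * g⁻¹ = b) :
    LocalBound 1 (closure {a, b}) := by
  apply localBound_of
  intro Γ _ _ σ hs hcen
  obtain ⟨x, rfl⟩ := hs a
  obtain ⟨y, rfl⟩ := hs b
  obtain ⟨w, rfl⟩ := hs g
  set c := ⁅x, y⁆ with hc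
  have hck : c ∈ σ.ker := by
    show σ c = 1
    rw [hc, map_commutatorElement, commutatorElement_eq_one_iff_commute]
    exact hab
  have hcc : c ∈ center Γ := hcen hck
  have hxq : x ^ q ∈ center Γ := hcen (by show σ (x ^ q) = 1; rw [map_pow, ha])
  have hcq : c ^ q = 1 := by
    rw [hc, ← commElt_pow_left_of_central x y hcc q, commutatorElement_eq_one_iff_commute]
    exact (mem_center_iff.mp hxq y).symm
  -- the central correction terms
  obtain ⟨k1, hk1⟩ : ∃ k1, k1 = x * (w * x * w⁻¹) := ⟨_, rfl⟩
  obtain ⟨k2, hk2⟩ : ∃ k2, k2 = y⁻¹ * (w * y * w⁻¹) := ⟨_, rfl⟩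
  have hk1c : k1 ∈ center Γ := by
    apply hcen
    show σ k1 = 1
    rw [hk1, map_mul, map_mul, map_mul, map_inv, hga, mul_inv_cancel]
  have hk2c : k2 ∈ center Γ := by
    apply hcen
    show σ k2 = 1
    rw [hk2, map_mul, map_mul, map_mul, map_inv, map_inv, hgb, inv_mul_cancel]
  have hwx : w * x * w⁻¹ = x⁻¹ * k1 := by rw [hk1]; group
  have hwy : w * y * w⁻¹ = y * k2 := by rw [hk2]; group
  -- conjugating the commutator
  have h1 : w * c * w⁻¹ = ⁅x⁻¹ * k1, y * k2⁆ := by
    rw [← hwx, ← hwy, hc]
    simp only [commutatorElement_def]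
    group
  have h2 : ⁅x⁻¹ * k1, y * k2⁆ = ⁅x⁻¹, y⁆ := by
    rw [commElt_mul_central_left hk1c, commElt_mul_central_right hk2c]
  have h3 : ⁅x⁻¹, y⁆ = c⁻¹ := by
    have : ⁅x⁻¹, y⁆ = x⁻¹ * ⁅y, x⁆ * x := by
      simp only [commutatorElement_def]; group
    rw [this, ← commutatorElement_inv x y, ← hc]
    rw [mul_assoc, ← mem_center_iff.mp (inv_mem hcc) x, inv_mul_cancel_left]
  have h4 : w * c * w⁻¹ = c := by
    rw [mem_center_iff.mp hcc w, mul_inv_cancel_right]
  have h5 : c = c⁻¹ := by rw [← h3, ← h2, ← h1, h4]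
  have hc2 : c ^ 2 = 1 := by
    rw [pow_two]
    nth_rewrite 2 [h5]
    exact mul_inv_cancel c
  have hc1 : c = 1 := by
    obtain ⟨j, hj⟩ := hq
    have : c ^ q = c := by rw [hj, pow_add, pow_mul, hc2, one_pow, one_mul, pow_one]
    rw [← this, hcq]
  refine ⟨closure {x, y}, ⊥, by rw [MonoidHom.map_closure, Set.image_pair], by simp, ?_⟩
  have hle : ⁅closure {x, y}, closure {x, y}⁆ ≤ (⊥ : Subgroup Γ) := by
    apply comm_closure_le
    · intro s _
      rw [Subgroup.normalizer_eq_top_iff.mpr (inferInstance : (⊥ : Subgroup Γ).Normal)]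
      trivial
    · have hxy : ⁅x, y⁆ = 1 := by rw [← hc, hc1]
      have hyx : ⁅y, x⁆ = 1 := by rw [← commutatorElement_inv, hxy, inv_one]
      intro s hs t ht
      simp only [Set.mem_insert_iff, Set.mem_singleton_iff] at hs ht
      rw [Subgroup.mem_bot]
      rcases hs with hs | hs <;> rcases ht with ht | ht <;> rw [hs, ht]
      · rw [commutatorElement_self]
      · exact hxy
      · exact hyx
      · rw [commutatorElement_self]
  intro z _ hz
  exact hle hz

/-- a local bound `1` at a subgroup of index prime to `p`: `p` does not divide the order of the kernel of a stem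
extension -/
theorem not_dvd_card_ker {G : Type u} [Group G] [Finite G] (p : ℕ) (hp : p.Prime)
    (h : ∃ P : Subgroup G, ¬ p ∣ P.index ∧ LocalBound 1 P)
    {Γ : Type u} [Group Γ] [Finite Γ] (σ : Γ →* G) (hσ : Cfsg.IsStemExtension σ) :
    ¬ p ∣ Nat.card σ.ker := by
  intro hd
  obtain ⟨P, hidx, hloc⟩ := h
  have hle := pow_le_of_localBound σ hσ p hp P hidx 1 hloc 1 (by rwa [pow_one])
  have := hp.two_le
  rw [pow_one] at hle
  omega

/-- local bounds `2` and `1` at the prime `2` and the others: the kernel of every finite stem extension has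
order dividing `2` -/
theorem card_ker_dvd_two {G : Type u} [Group G] [Finite G]
    (h2 : ∃ P : Subgroup G, ¬ 2 ∣ P.index ∧ LocalBound 2 P)
    (hp : ∀ p : ℕ, p.Prime → p ≠ 2 → ∃ P : Subgroup G, ¬ p ∣ P.index ∧ LocalBound 1 P)
    {Γ : Type u} [Group Γ] [Finite Γ] (σ : Γ →* G) (hσ : Cfsg.IsStemExtension σ) :
    Nat.card σ.ker ∣ 2 := by
  rw [Nat.dvd_iff_prime_pow_dvd_dvd]
  intro p k hpp hk
  by_cases hp2 : p = 2
  · subst hp2
    obtain ⟨P, hidx, hloc⟩ := h2
    have hle := pow_le_of_localBound σ hσ 2 hpp P hidx 2 hloc k hk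
    have hk1 : k ≤ 1 := by
      by_contra hcon
      have : 2 ^ 2 ≤ 2 ^ k := Nat.pow_le_pow_right (by norm_num) (by omega)
      omega
    interval_cases k <;> norm_num
  rcases Nat.eq_zero_or_pos k with rfl | hk0
  · simp
  · exfalso
    apply not_dvd_card_ker p hpp (hp p hpp hp2) σ hσ
    exact (dvd_pow_self p hk0.ne').trans hk

/-- two commuting elements of prime order `q`, the second not a power of the first, in a group of order
`q ^ 2 * m` with `q ∤ m`: their closure has index prime to `q` -/
theorem index_closure_pair {G : Type u} [Group G] [Finite G] (q : ℕ) (hq : q.Prime) (a b : G)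
    (hab : a * b = b * a) (ha : a ^ q = 1) (hb : b ^ q = 1) (ha1 : a ≠ 1) (hba : ∀ i < q, a ^ i ≠ b)
    (m : ℕ) (hG : Nat.card G = q ^ 2 * m) (hm : ¬ q ∣ m) : ¬ q ∣ (closure {a, b}).index := by
  have hfq : Fact (Nat.Prime q) := ⟨hq⟩
  have hb' : b ∉ zpowers a := not_mem_zpowers_of_forall a b q hq.pos ha hba
  have hcomm : ∀ x ∈ closure {a, b}, ∀ y ∈ closure {a, b}, x * y = y * x := by
    have hS : ∀ x ∈ ({a, b} : Set G), ∀ y ∈ ({a, b} : Set G), x * y = y * x := by
      intro x hx y hy
      simp only [Set.mem_insert_iff, Set.mem_singleton_iff] at hx hy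
      rcases hx with rfl | rfl <;> rcases hy with rfl | rfl
      · rfl
      · exact hab
      · exact hab.symm
      · rfl
    intro x hx y hy
    have := (Subgroup.closureCommGroupOfComm hS).mul_comm ⟨x, hx⟩ ⟨y, hy⟩
    exact congrArg Subtype.val this
  have hexp : ∀ x ∈ closure {a, b}, x ^ q = 1 := by
    intro x hx
    induction hx using closure_induction with
    | mem s hs =>
      simp only [Set.mem_insert_iff, Set.mem_singleton_iff] at hs
      rcases hs with rfl | rfl
      · exact ha
      · exact hb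
    | one => exact one_pow q
    | mul x y hx hy ihx ihy =>
      have hc : Commute x y := hcomm x hx y hy
      rw [hc.mul_pow, ihx, ihy, one_mul]
    | inv x hx ih => rw [inv_pow, ih, inv_one]
  have hpg : IsPGroup q (closure {a, b}) := by
    intro x
    refine ⟨1, ?_⟩
    apply Subtype.ext
    show (x : G) ^ q ^ 1 = 1
    rw [pow_one]
    exact hexp x x.2
  obtain ⟨k, hk⟩ := hpg.exists_card_eq
  have hlt : zpowers a < closure {a, b} := by
    rw [lt_iff_le_and_ne]
    refine ⟨by rw [zpowers_le]; exact subset_closure (by simp), ?_⟩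
    intro h
    apply hb'
    rw [h]
    exact subset_closure (by simp)
  have hca : Nat.card (zpowers a) = q := by
    rw [Nat.card_zpowers]
    exact orderOf_eq_prime ha ha1
  have hlt' : Nat.card (zpowers a) < Nat.card (closure {a, b}) := by
    have hle : Nat.card (zpowers a) ≤ Nat.card (closure {a, b}) :=
      Nat.le_of_dvd Nat.card_pos (Subgroup.card_dvd_of_le hlt.le)
    rcases Nat.lt_or_ge (Nat.card (zpowers a)) (Nat.card (closure {a, b})) with h | h
    · exact h
    · exact absurd (Subgroup.eq_of_le_of_card_ge hlt.le h) hlt.ne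
  rw [hca, hk] at hlt'
  have hk2 : 2 ≤ k := by
    by_contra hcon
    have : k ≤ 1 := by omega
    have h1 : q ^ k ≤ q ^ 1 := Nat.pow_le_pow_right hq.pos this
    rw [pow_one] at h1
    omega
  obtain ⟨j, rfl⟩ : ∃ j, k = 2 + j := ⟨k - 2, by omega⟩
  have h2 := Subgroup.card_mul_index (closure {a, b})
  rw [hk, hG, pow_add] at h2
  have h3 : q ^ j * (closure {a, b}).index = m := by
    have : q ^ 2 * (q ^ j * (closure {a, b}).index) = q ^ 2 * m := by
      rw [← mul_assoc]; exact h2
    exact Nat.eq_of_mul_eq_mul_left (pow_pos hq.pos 2) this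
  intro h
  apply hm
  rw [← h3]
  exact Dvd.dvd.mul_left h _

end Cfsg.Agent.Lib.Helper19.SchurLoc
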