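/-
Helper19 library: the kernels of the finite stem extensions of `A_n` have order dividing 2 for `n = 4, 5` and
`n ≥ 8` (local analysis for `n = 4, 5`; `A_7` and the inductive step, with a 3-local argument for `n = 8`).
-/
import Mathlib
import Cfsg.Agent.Lib.Helper19.SchurLoc3
import Cfsg.Agent.Lib.Helper19.SchurAlt
import Cfsg.Agent.Lib.Helper19.AltStep

set_option autoImplicit false

namespace Cfsg.Agent.Lib.Helper19.AltBase

open Subgroup Cfsg.Agent.Lib.Helper19.SchurLoc Cfsg.Agent.Lib.Helper19.AltStep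

set_option maxRecDepth 100000

section deg4

def mkPerm4 (f g : Fin 4 → Fin 4) (h1 : ∀ x, g (f x) = x) (h2 : ∀ x, f (g x) = x) :
    Equiv.Perm (Fin 4) := ⟨f, g, h1, h2⟩

def pa4 : Equiv.Perm (Fin 4) := mkPerm4 ![1,0,3,2] ![1,0,3,2] (by decide) (by decide)
theorem pa4_mem : pa4 ∈ alternatingGroup (Fin 4) := by
  rw [Equiv.Perm.mem_alternatingGroup]; decide +kernel
def ea4 : alternatingGroup (Fin 4) := ⟨pa4, pa4_mem⟩

def pb4 : Equiv.Perm (Fin 4) := mkPerm4 ![2,3,0,1] ![2,3,0,1] (by decide) (by decide)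
theorem pb4_mem : pb4 ∈ alternatingGroup (Fin 4) := by
  rw [Equiv.Perm.mem_alternatingGroup]; decide +kernel
def eb4 : alternatingGroup (Fin 4) := ⟨pb4, pb4_mem⟩

def pc4 : Equiv.Perm (Fin 4) := mkPerm4 ![1,2,0,3] ![2,0,1,3] (by decide) (by decide)
theorem pc4_mem : pc4 ∈ alternatingGroup (Fin 4) := by
  rw [Equiv.Perm.mem_alternatingGroup]; decide +kernel
def ec4 : alternatingGroup (Fin 4) := ⟨pc4, pc4_mem⟩

theorem card_alt4 : Nat.card (alternatingGroup (Fin 4)) = 12 := by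
  have h := two_mul_nat_card_alternatingGroup (α := Fin 4)
  rw [Nat.card_perm, Nat.card_fin] at h
  have : (4 : ℕ).factorial = 24 := by decide
  omega

theorem rel_two4 : ea4 * eb4 = eb4 * ea4 ∧ ea4 ^ 2 = 1 ∧ eb4 ^ 2 = 1 ∧ ea4 ≠ 1 ∧
    ∀ i < 2, ea4 ^ i ≠ eb4 := by decide +kernel

theorem rel_three4 : ec4 ^ 3 = 1 ∧ ec4 ≠ 1 := by decide +kernel

theorem local_two4 : ∃ P : Subgroup (alternatingGroup (Fin 4)), ¬ 2 ∣ P.index ∧ LocalBound 2 P := by
  obtain ⟨h1, h2, h3, h4, h5⟩ := rel_two4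
  exact ⟨closure {ea4, eb4},
    index_closure_pair 2 Nat.prime_two ea4 eb4 h1 h2 h3 h4 h5 3 (by rw [card_alt4]; norm_num) (by decide),
    localBound_comm_pow 2 (by norm_num) ea4 eb4 h1 h2⟩

theorem local_other4 (p : ℕ) (hp : p.Prime) (hp2 : p ≠ 2) :
    ∃ P : Subgroup (alternatingGroup (Fin 4)), ¬ p ∣ P.index ∧ LocalBound 1 P := by
  by_cases hp3 : p = 3
  · subst hp3
    exact exists_local_cyclic 3 hp ec4 rel_three4.1 rel_three4.2 4 (by rw [card_alt4]) (by decide)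
  apply exists_local_trivial
  rw [card_alt4]
  intro hd
  have hN : (12 : ℕ) = 2 ^ 2 * 3 := by norm_num
  rw [hN] at hd
  rcases (Nat.Prime.dvd_mul hp).mp hd with hd | hd
  · exact hp2 ((Nat.prime_dvd_prime_iff_eq hp Nat.prime_two).mp (hp.dvd_of_dvd_pow hd))
  · exact hp3 ((Nat.prime_dvd_prime_iff_eq hp Nat.prime_three).mp hd)

theorem bd4 : Bd 4 2 := fun _ _ _ σ hσ => card_ker_dvd_two local_two4 local_other4 σ hσ

end deg4

section deg5

def mkPerm5 (f g : Fin 5 → Fin 5) (h1 : ∀ x, g (f x) = x) (h2 : ∀ x, f (g x) = x) :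
    Equiv.Perm (Fin 5) := ⟨f, g, h1, h2⟩

def pa5 : Equiv.Perm (Fin 5) := mkPerm5 ![1,0,3,2,4] ![1,0,3,2,4] (by decide) (by decide)
theorem pa5_mem : pa5 ∈ alternatingGroup (Fin 5) := by
  rw [Equiv.Perm.mem_alternatingGroup]; decide +kernel
def ea5 : alternatingGroup (Fin 5) := ⟨pa5, pa5_mem⟩

def pb5 : Equiv.Perm (Fin 5) := mkPerm5 ![2,3,0,1,4] ![2,3,0,1,4] (by decide) (by decide)
theorem pb5_mem : pb5 ∈ alternatingGroup (Fin 5) := by
  rw [Equiv.Perm.mem_alternatingGroup]; decide +kernel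
def eb5 : alternatingGroup (Fin 5) := ⟨pb5, pb5_mem⟩

def pc5 : Equiv.Perm (Fin 5) := mkPerm5 ![1,2,0,3,4] ![2,0,1,3,4] (by decide) (by decide)
theorem pc5_mem : pc5 ∈ alternatingGroup (Fin 5) := by
  rw [Equiv.Perm.mem_alternatingGroup]; decide +kernel
def ec5 : alternatingGroup (Fin 5) := ⟨pc5, pc5_mem⟩

def pd5 : Equiv.Perm (Fin 5) := mkPerm5 ![1,2,3,4,0] ![4,0,1,2,3] (by decide) (by decide)
theorem pd5_mem : pd5 ∈ alternatingGroup (Fin 5) := by
  rw [Equiv.Perm.mem_alternatingGroup]; decide +kernel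
def ed5 : alternatingGroup (Fin 5) := ⟨pd5, pd5_mem⟩

theorem card_alt5 : Nat.card (alternatingGroup (Fin 5)) = 60 := by
  have h := two_mul_nat_card_alternatingGroup (α := Fin 5)
  rw [Nat.card_perm, Nat.card_fin] at h
  have : (5 : ℕ).factorial = 120 := by decide
  omega

theorem rel_two5 : ea5 * eb5 = eb5 * ea5 ∧ ea5 ^ 2 = 1 ∧ eb5 ^ 2 = 1 ∧ ea5 ≠ 1 ∧
    ∀ i < 2, ea5 ^ i ≠ eb5 := by decide +kernel

theorem rel_three5 : ec5 ^ 3 = 1 ∧ ec5 ≠ 1 := by decide +kernel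

theorem rel_five5 : ed5 ^ 5 = 1 ∧ ed5 ≠ 1 := by decide +kernel

theorem local_two5 : ∃ P : Subgroup (alternatingGroup (Fin 5)), ¬ 2 ∣ P.index ∧ LocalBound 2 P := by
  obtain ⟨h1, h2, h3, h4, h5⟩ := rel_two5
  exact ⟨closure {ea5, eb5},
    index_closure_pair 2 Nat.prime_two ea5 eb5 h1 h2 h3 h4 h5 15 (by rw [card_alt5]; norm_num) (by decide),
    localBound_comm_pow 2 (by norm_num) ea5 eb5 h1 h2⟩

theorem local_other5 (p : ℕ) (hp : p.Prime) (hp2 : p ≠ 2) :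
    ∃ P : Subgroup (alternatingGroup (Fin 5)), ¬ p ∣ P.index ∧ LocalBound 1 P := by
  by_cases hp3 : p = 3
  · subst hp3
    exact exists_local_cyclic 3 hp ec5 rel_three5.1 rel_three5.2 20 (by rw [card_alt5]) (by decide)
  by_cases hp5 : p = 5
  · subst hp5
    exact exists_local_cyclic 5 hp ed5 rel_five5.1 rel_five5.2 12 (by rw [card_alt5]) (by decide)
  apply exists_local_trivial
  rw [card_alt5]
  intro hd
  have hN : (60 : ℕ) = 2 ^ 2 * 3 * 5 := by norm_num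
  rw [hN] at hd
  rcases (Nat.Prime.dvd_mul hp).mp hd with hd | hd
  · rcases (Nat.Prime.dvd_mul hp).mp hd with hd | hd
    · exact hp2 ((Nat.prime_dvd_prime_iff_eq hp Nat.prime_two).mp (hp.dvd_of_dvd_pow hd))
    · exact hp3 ((Nat.prime_dvd_prime_iff_eq hp Nat.prime_three).mp hd)
  · exact hp5 ((Nat.prime_dvd_prime_iff_eq hp Nat.prime_five).mp hd)

theorem bd5 : Bd 5 2 := fun _ _ _ σ hσ => card_ker_dvd_two local_two5 local_other5 σ hσ

end deg5

section deg7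

theorem bd7 : Bd 7 6 := fun _ _ _ σ hσ =>
  card_ker_dvd_six Cfsg.Agent.Lib.Helper19.SchurAlt.local_two7
    Cfsg.Agent.Lib.Helper19.SchurAlt.local_three7 Cfsg.Agent.Lib.Helper19.SchurAlt.local_other7 σ hσ

end deg7

section deg8

def mkPerm8 (f g : Fin 8 → Fin 8) (h1 : ∀ x, g (f x) = x) (h2 : ∀ x, f (g x) = x) :
    Equiv.Perm (Fin 8) := ⟨f, g, h1, h2⟩

def pa8 : Equiv.Perm (Fin 8) := mkPerm8 ![1,2,0,3,4,5,6,7] ![2,0,1,3,4,5,6,7] (by decide) (by decide)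
theorem pa8_mem : pa8 ∈ alternatingGroup (Fin 8) := by
  rw [Equiv.Perm.mem_alternatingGroup]; decide +kernel
def ea8 : alternatingGroup (Fin 8) := ⟨pa8, pa8_mem⟩

def pb8 : Equiv.Perm (Fin 8) := mkPerm8 ![0,1,2,4,5,3,6,7] ![0,1,2,5,3,4,6,7] (by decide) (by decide)
theorem pb8_mem : pb8 ∈ alternatingGroup (Fin 8) := by
  rw [Equiv.Perm.mem_alternatingGroup]; decide +kernel
def eb8 : alternatingGroup (Fin 8) := ⟨pb8, pb8_mem⟩

def pg8 : Equiv.Perm (Fin 8) := mkPerm8 ![1,0,2,3,4,5,7,6] ![1,0,2,3,4,5,7,6] (by decide) (by decide)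
theorem pg8_mem : pg8 ∈ alternatingGroup (Fin 8) := by
  rw [Equiv.Perm.mem_alternatingGroup]; decide +kernel
def eg8 : alternatingGroup (Fin 8) := ⟨pg8, pg8_mem⟩

theorem card_alt8 : Nat.card (alternatingGroup (Fin 8)) = 20160 := by
  have h := two_mul_nat_card_alternatingGroup (α := Fin 8)
  rw [Nat.card_perm, Nat.card_fin] at h
  have : (8 : ℕ).factorial = 40320 := by decide
  omega

theorem rel_three8 : ea8 * eb8 = eb8 * ea8 ∧ ea8 ^ 3 = 1 ∧ eb8 ^ 3 = 1 ∧ ea8 ≠ 1 ∧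
    (∀ i < 3, ea8 ^ i ≠ eb8) ∧ eg8 * ea8 * eg8⁻¹ = ea8⁻¹ ∧ eg8 * eb8 * eg8⁻¹ = eb8 := by
  decide +kernel

theorem local_three8 : ∃ P : Subgroup (alternatingGroup (Fin 8)), ¬ 3 ∣ P.index ∧ LocalBound 1 P := by
  obtain ⟨h1, h2, h3, h4, h5, h6, h7⟩ := rel_three8
  exact ⟨closure {ea8, eb8},
    index_closure_pair 3 Nat.prime_three ea8 eb8 h1 h2 h3 h4 h5 2240 (by rw [card_alt8]; norm_num) (by decide),
    localBound_comm_inverted 3 (by decide) ea8 eb8 eg8 h1 h2 h6 h7⟩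

theorem bd8 : Bd 8 2 := by
  intro Γ _ _ σ hσ
  have h6 : Nat.card σ.ker ∣ 6 := step 6 (by norm_num) 6 bd7 Γ σ hσ
  have h3 : ¬ 3 ∣ Nat.card σ.ker := not_dvd_card_ker 3 Nat.prime_three local_three8 σ hσ
  have hle : Nat.card σ.ker ≤ 6 := Nat.le_of_dvd (by norm_num) h6
  have hpos : 0 < Nat.card σ.ker := Nat.card_pos
  interval_cases (Nat.card σ.ker) <;> omega

end deg8

/-- the bound `2` for every degree at least `8` -/
theorem bd_of_ge (n : ℕ) (hn : 8 ≤ n) : Bd n 2 := by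
  induction n, hn using Nat.le_induction with
  | base => exact bd8
  | succ n hn ih =>
    obtain ⟨m, rfl⟩ : ∃ m, n = m + 1 := ⟨n - 1, by omega⟩
    exact step m (by omega) 2 ih

/-- the bound `2` for every degree at least `4` other than `6` and `7` -/
theorem bd_two (n : ℕ) (hn : 4 ≤ n) (h6 : n ≠ 6) (h7 : n ≠ 7) : Bd n 2 := by
  rcases Nat.lt_or_ge n 8 with h | h
  · interval_cases n
    · exact bd4
    · exact bd5
    · exact absurd rfl h6
    · exact absurd rfl h7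
  · exact bd_of_ge n h

end Cfsg.Agent.Lib.Helper19.AltBase
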