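/-
Helper19 library: kernel-checked certificates for the list of the 1440 elements of `PΓL₂(9)`.
-/
import Mathlib
import Cfsg.Agent.Lib.Helper19.AutA6Data

set_option autoImplicit false
set_option maxRecDepth 100000

namespace Cfsg.Agent.Lib.Helper19.AutA6Check

open Cfsg.Agent.Lib.Helper19.B2Enc Cfsg.Agent.Lib.Helper19.G2Enc Cfsg.Agent.Lib.Helper19.AutA6Enc
open Cfsg.Agent.Lib.Helper19.AutA6Data

theorem closed0 : ∀ i ∈ List.range' 0 360, ∀ r ∈ List.range 5,
    mulT (GE r) (Pi i) = Pi (Tt r i) ∧ Tt r i < 1440 := by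
  decide +kernel

theorem closed1 : ∀ i ∈ List.range' 360 360, ∀ r ∈ List.range 5,
    mulT (GE r) (Pi i) = Pi (Tt r i) ∧ Tt r i < 1440 := by
  decide +kernel

theorem closed2 : ∀ i ∈ List.range' 720 360, ∀ r ∈ List.range 5,
    mulT (GE r) (Pi i) = Pi (Tt r i) ∧ Tt r i < 1440 := by
  decide +kernel

theorem closed3 : ∀ i ∈ List.range' 1080 360, ∀ r ∈ List.range 5,
    mulT (GE r) (Pi i) = Pi (Tt r i) ∧ Tt r i < 1440 := by
  decide +kernel

theorem closedA : ∀ i ∈ List.range 360, ∀ r ∈ List.range 3,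
    Tt r i < 360 ∧ mulP (HE r) (Qi i) = Qi (Tt r i) := by
  decide +kernel

theorem bfs : ∀ i ∈ List.range' 1 1439, par i < i ∧ gk i < 5 ∧ Tt (gk i) (par i) = i := by
  decide +kernel

theorem bfsA : ∀ i ∈ List.range' 1 359, gk i < 3 := by
  decide +kernel

theorem Pi_zero : Pi 0 = IDT := by decide +kernel

theorem Qi_zero : Qi 0 = IDP := by decide +kernel

theorem distinctP : ∀ i ∈ List.range 1440, encT (decT (Pi i)) = Pc i ∧ PTree.find (Pc i) = i := by
  decide +kernel

theorem distinctQ : ∀ i ∈ List.range 360, encP (decP (Qi i)) = Qc i ∧ QTree.find (Qc i) = i := by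
  decide +kernel

theorem G_sq : ∀ r ∈ List.range 5, mulT (GE r) (GE r) = IDT := by decide +kernel

theorem H_sq : ∀ r ∈ List.range 3, mulP (HE r) (HE r) = IDP := by decide +kernel

theorem norm_cert : ∀ r ∈ List.range 5, ∀ j ∈ List.range 3,
    mulT (GE r) (mulT (GE j) (GE r)) = Pi (nc r j) ∧ nc r j < 360 := by
  decide +kernel

theorem cent_cert : ∀ i ∈ List.range' 1 1439,
    decT (mulT (Pi i) (GE 0)) ≠ decT (mulT (GE 0) (Pi i)) ∨
      decT (mulT (Pi i) (GE 1)) ≠ decT (mulT (GE 1) (Pi i)) ∨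
        decT (mulT (Pi i) (GE 2)) ≠ decT (mulT (GE 2) (Pi i)) := by
  decide +kernel

/-- a self-map stabilizes the pair of points `{0, 9}`. -/
def stabF (f : Fin 10 → Fin 10) : Prop := ∀ k : Fin 10, (f k = 0 ∨ f k = 9) ↔ (k = 0 ∨ k = 9)

instance (f : Fin 10 → Fin 10) : Decidable (stabF f) := by unfold stabF; infer_instance

theorem P0_stab : ∀ j ∈ List.range 32, P0I j < 1440 ∧ stabF (decT (Pi (P0I j))) := by
  decide +kernel

theorem P0_all : ∀ i ∈ List.range 1440, stabF (decT (Pi i)) → i ∈ P0L := by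
  decide +kernel

theorem P0_idx : ∀ j ∈ List.range 32, P0L.idxOf (P0I j) = j := by
  decide +kernel

theorem P0_len : P0L.length = 32 := by decide +kernel

theorem syl_cert : ∀ i ∈ List.range 1440, cj i < 32 ∧ cjp i < 32 ∧ P0I (cj i) ≠ 0 ∧
    mulT (Pi i) (Pi (P0I (cj i))) = mulT (Pi (P0I (cjp i))) (Pi i) := by
  decide +kernel

theorem gen_unit : ∀ r ∈ List.range 5, mulT (GE r) IDT = GE r := by decide +kernel

end Cfsg.Agent.Lib.Helper19.AutA6Check
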