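/-
Helper19 library: the group `M = PΓL₂(9)` of order 1440 (as a group of self-maps of ten points) and its normal subgroup
`A = PSL₂(9)` of order 360, which is isomorphic to the alternating group of degree six.
-/
import Mathlib
import Cfsg.Agent.Lib.Helper19.AutA6Check
import Cfsg.Agent.Lib.Helper19.ListClosure

set_option autoImplicit false

namespace Cfsg.Agent.Lib.Helper19.AutA6Model

open Cfsg.Agent.Lib.Helper19.B2Enc Cfsg.Agent.Lib.Helper19.G2Enc Cfsg.Agent.Lib.Helper19.AutA6Enc
open Cfsg.Agent.Lib.Helper19.AutA6Data Cfsg.Agent.Lib.Helper19.AutA6Check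
open Cfsg.Agent.Lib.Helper19.ListClosure

/-- the units of the self-maps of ten points. -/
abbrev U10 : Type := (Function.End (Fin 10))ˣ

/-- the units of the self-maps of six points. -/
abbrev U6 : Type := (Function.End (Fin 6))ˣ

/-- a self-map as an element of the monoid of self-maps. -/
def toEnd10 (f : Fin 10 → Fin 10) : Function.End (Fin 10) := f

/-- a self-map as an element of the monoid of self-maps. -/
def toEnd6 (f : Fin 6 → Fin 6) : Function.End (Fin 6) := f

theorem toEnd10_mul (f g : Fin 10 → Fin 10) : toEnd10 f * toEnd10 g = toEnd10 (f ∘ g) := rfl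

theorem toEnd10_id : toEnd10 id = 1 := rfl

theorem toEnd6_mul (f g : Fin 6 → Fin 6) : toEnd6 f * toEnd6 g = toEnd6 (f ∘ g) := rfl

theorem toEnd6_id : toEnd6 id = 1 := rfl

theorem toEnd10_injective : Function.Injective toEnd10 := fun _ _ h => h

theorem toEnd6_injective : Function.Injective toEnd6 := fun _ _ h => h

theorem G_mul_self (r : Fin 5) : toEnd10 (decT (GE r.val)) * toEnd10 (decT (GE r.val)) = 1 := by
  rw [toEnd10_mul, ← decT_mul, G_sq r.val (List.mem_range.2 r.isLt), decT_one, toEnd10_id]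

theorem H_mul_self (r : Fin 3) : toEnd6 (decP (HE r.val)) * toEnd6 (decP (HE r.val)) = 1 := by
  rw [toEnd6_mul, ← decP_mul, H_sq r.val (List.mem_range.2 r.isLt), decP_one, toEnd6_id]

/-- the five generators as units. -/
def GU (r : Fin 5) : U10 :=
  ⟨toEnd10 (decT (GE r.val)), toEnd10 (decT (GE r.val)), G_mul_self r, G_mul_self r⟩

/-- the first three generators. -/
def GA (r : Fin 3) : U10 := GU (Fin.castLE (by norm_num) r)

/-- the permutations of six points as units. -/
def HU (r : Fin 3) : U6 :=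
  ⟨toEnd6 (decP (HE r.val)), toEnd6 (decP (HE r.val)), H_mul_self r, H_mul_self r⟩

/-- the group `PΓL₂(9)`. -/
def M : Subgroup U10 := Subgroup.closure (Set.range GU)

/-- the subgroup `PSL₂(9)`. -/
def A : Subgroup U10 := Subgroup.closure (Set.range GA)

/-- the generating pairs of the graph. -/
def GH (r : Fin 3) : U10 × U6 := (GA r, HU r)

/-- the graph of the isomorphism onto the alternating group. -/
def Gam : Subgroup (U10 × U6) := Subgroup.closure (Set.range GH)

/-- the `i`-th element. -/
def eltM (i : ℕ) : Function.End (Fin 10) := toEnd10 (decT (Pi i))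

/-- the `i`-th pair. -/
def eltG (i : ℕ) : Function.End (Fin 10) × Function.End (Fin 6) :=
  (toEnd10 (decT (Pi i)), toEnd6 (decP (Qi i)))

theorem GU_mul_self (r : Fin 5) : GU r * GU r = 1 := Units.ext (G_mul_self r)

theorem HU_mul_self (r : Fin 3) : HU r * HU r = 1 := Units.ext (H_mul_self r)

theorem closedM (i r : ℕ) (hi : i < 1440) (hr : r < 5) :
    mulT (GE r) (Pi i) = Pi (Tt r i) ∧ Tt r i < 1440 := by
  have hr' : r ∈ List.range 5 := List.mem_range.2 hr
  by_cases h0 : i < 360
  · exact closed0 i (List.mem_range'_1.2 ⟨by omega, by omega⟩) r hr'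
  by_cases h1 : i < 720
  · exact closed1 i (List.mem_range'_1.2 ⟨by omega, by omega⟩) r hr'
  by_cases h2 : i < 1080
  · exact closed2 i (List.mem_range'_1.2 ⟨by omega, by omega⟩) r hr'
  exact closed3 i (List.mem_range'_1.2 ⟨by omega, by omega⟩) r hr'

theorem certM : Cert (fun u : U10 => (u : Function.End (Fin 10))) GU eltM 1440
    (fun r i => Tt r.val i) par (fun i => Fin.ofNat 5 (gk i)) where
  pos := by norm_num
  one := by
    show (1 : Function.End (Fin 10)) = toEnd10 (decT (Pi 0))
    rw [Pi_zero, decT_one, toEnd10_id]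
  inv := GU_mul_self
  closed := by
    intro r i hi g hg
    obtain ⟨c1, c2⟩ := closedM i r.val hi r.isLt
    refine ⟨?_, c2⟩
    show ((GU r * g : U10) : Function.End (Fin 10)) = _
    rw [Units.val_mul, hg]
    show toEnd10 (decT (GE r.val)) * toEnd10 (decT (Pi i)) = toEnd10 (decT (Pi (Tt r.val i)))
    rw [toEnd10_mul, ← decT_mul, c1]
  bfs := by
    intro i h0 hi
    obtain ⟨b1, b2, b3⟩ := bfs i (List.mem_range'_1.2 ⟨by omega, by omega⟩)
    refine ⟨b1, ?_⟩
    show Tt (gk i % 5) (par i) = i
    rw [Nat.mod_eq_of_lt b2, b3]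

theorem certA : Cert (fun u : U10 => (u : Function.End (Fin 10))) GA eltM 360
    (fun r i => Tt r.val i) par (fun i => Fin.ofNat 3 (gk i)) where
  pos := by norm_num
  one := certM.one
  inv := fun r => GU_mul_self _
  closed := by
    intro r i hi g hg
    obtain ⟨c1, _⟩ := closedM i r.val (by omega) (by omega)
    obtain ⟨c3, _⟩ := closedA i (List.mem_range.2 hi) r.val (List.mem_range.2 r.isLt)
    refine ⟨?_, c3⟩
    show ((GA r * g : U10) : Function.End (Fin 10)) = _
    rw [Units.val_mul, hg]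
    show toEnd10 (decT (GE r.val)) * toEnd10 (decT (Pi i)) = toEnd10 (decT (Pi (Tt r.val i)))
    rw [toEnd10_mul, ← decT_mul, c1]
  bfs := by
    intro i h0 hi
    obtain ⟨b1, _, b3⟩ := bfs i (List.mem_range'_1.2 ⟨by omega, by omega⟩)
    have b2 := bfsA i (List.mem_range'_1.2 ⟨by omega, by omega⟩)
    refine ⟨b1, ?_⟩
    show Tt (gk i % 3) (par i) = i
    rw [Nat.mod_eq_of_lt b2, b3]

theorem certG : Cert (fun p : U10 × U6 => ((p.1 : Function.End (Fin 10)), (p.2 : Function.End (Fin 6))))
    GH eltG 360 (fun r i => Tt r.val i) par (fun i => Fin.ofNat 3 (gk i)) where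
  pos := by norm_num
  one := by
    show ((1 : Function.End (Fin 10)), (1 : Function.End (Fin 6))) =
      (toEnd10 (decT (Pi 0)), toEnd6 (decP (Qi 0)))
    rw [Pi_zero, decT_one, toEnd10_id, Qi_zero, decP_one, toEnd6_id]
  inv := fun r => Prod.ext (GU_mul_self _) (HU_mul_self r)
  closed := by
    intro r i hi g hg
    obtain ⟨c1, _⟩ := closedM i r.val (by omega) (by omega)
    obtain ⟨c3, c4⟩ := closedA i (List.mem_range.2 hi) r.val (List.mem_range.2 r.isLt)
    refine ⟨?_, c3⟩
    have h1 : ((g.1 : U10) : Function.End (Fin 10)) = toEnd10 (decT (Pi i)) :=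
      congrArg Prod.fst hg
    have h2 : ((g.2 : U6) : Function.End (Fin 6)) = toEnd6 (decP (Qi i)) :=
      congrArg Prod.snd hg
    refine Prod.ext ?_ ?_
    · show ((GA r * g.1 : U10) : Function.End (Fin 10)) = _
      rw [Units.val_mul, h1]
      show toEnd10 (decT (GE r.val)) * toEnd10 (decT (Pi i)) = toEnd10 (decT (Pi (Tt r.val i)))
      rw [toEnd10_mul, ← decT_mul, c1]
    · show ((HU r * g.2 : U6) : Function.End (Fin 6)) = _
      rw [Units.val_mul, h2]
      show toEnd6 (decP (HE r.val)) * toEnd6 (decP (Qi i)) = toEnd6 (decP (Qi (Tt r.val i)))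
      rw [toEnd6_mul, ← decP_mul, c4]
  bfs := certA.bfs

theorem eltM_inj {i j : ℕ} (hi : i < 1440) (hj : j < 1440) (h : eltM i = eltM j) : i = j := by
  obtain ⟨a1, a2⟩ := distinctP i (List.mem_range.2 hi)
  obtain ⟨b1, b2⟩ := distinctP j (List.mem_range.2 hj)
  have h' : decT (Pi i) = decT (Pi j) := toEnd10_injective h
  rw [← a2, ← b2, ← a1, ← b1, h']

theorem eltQ_inj {i j : ℕ} (hi : i < 360) (hj : j < 360)
    (h : toEnd6 (decP (Qi i)) = toEnd6 (decP (Qi j))) : i = j := by
  obtain ⟨a1, a2⟩ := distinctQ i (List.mem_range.2 hi)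
  obtain ⟨b1, b2⟩ := distinctQ j (List.mem_range.2 hj)
  have h' : decP (Qi i) = decP (Qi j) := toEnd6_injective h
  rw [← a2, ← b2, ← a1, ← b1, h']

theorem val_injective : Function.Injective (fun u : U10 => (u : Function.End (Fin 10))) :=
  fun _ _ h => Units.ext h

theorem card_M : Nat.card M = 1440 :=
  certM.card_eq val_injective fun _ _ hi hj h => eltM_inj hi hj h

theorem card_A : Nat.card A = 360 :=
  certA.card_eq val_injective fun _ _ hi hj h => eltM_inj (by omega) (by omega) h

theorem mem_M_iff (u : U10) : u ∈ M ↔ ∃ i, i < 1440 ∧ (u : Function.End (Fin 10)) = eltM i := by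
  constructor
  · exact fun h => certM.exists_index h
  · rintro ⟨i, hi, h⟩
    obtain ⟨g, hg, hc⟩ := certM.exists_mem i hi
    have : u = g := Units.ext (h.trans hc.symm)
    rw [this]
    exact hg

theorem mem_A_iff (u : U10) : u ∈ A ↔ ∃ i, i < 360 ∧ (u : Function.End (Fin 10)) = eltM i := by
  constructor
  · exact fun h => certA.exists_index h
  · rintro ⟨i, hi, h⟩
    obtain ⟨g, hg, hc⟩ := certA.exists_mem i hi
    have : u = g := Units.ext (h.trans hc.symm)
    rw [this]
    exact hg

theorem A_le_M : A ≤ M := by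
  intro u hu
  obtain ⟨i, hi, h⟩ := (mem_A_iff u).mp hu
  exact (mem_M_iff u).mpr ⟨i, by omega, h⟩

end Cfsg.Agent.Lib.Helper19.AutA6Model
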