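/-
Helper19 library: the subgroup `A = PSL₂(9)` of the model of `PΓL₂(9)` is isomorphic to the alternating group of degree
six (from the kernel-checked graph of 360 pairs).
-/
import Mathlib
import Cfsg.Agent.Lib.Helper19.AutA6Model

set_option autoImplicit false

namespace Cfsg.Agent.Lib.Helper19.AutA6Model

open Cfsg.Agent.Lib.Helper19.B2Enc Cfsg.Agent.Lib.Helper19.G2Enc Cfsg.Agent.Lib.Helper19.AutA6Enc
open Cfsg.Agent.Lib.Helper19.AutA6Data Cfsg.Agent.Lib.Helper19.AutA6Check
open Cfsg.Agent.Lib.Helper19.ListClosure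

theorem snd_eq_one {p : U10 × U6} (hp : p ∈ Gam) (h : p.1 = 1) : p.2 = 1 := by
  obtain ⟨i, hi, hc⟩ := certG.exists_index hp
  have h1 : ((p.1 : U10) : Function.End (Fin 10)) = eltM i := congrArg Prod.fst hc
  have h2 : ((p.2 : U6) : Function.End (Fin 6)) = toEnd6 (decP (Qi i)) := congrArg Prod.snd hc
  have h3 : i = 0 := by
    apply eltM_inj (by omega) (by norm_num)
    rw [← h1, h]
    exact certM.one
  apply Units.ext
  rw [h2, h3, Qi_zero, decP_one]
  rfl

theorem fst_eq_one {p : U10 × U6} (hp : p ∈ Gam) (h : p.2 = 1) : p.1 = 1 := by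
  obtain ⟨i, hi, hc⟩ := certG.exists_index hp
  have h1 : ((p.1 : U10) : Function.End (Fin 10)) = eltM i := congrArg Prod.fst hc
  have h2 : ((p.2 : U6) : Function.End (Fin 6)) = toEnd6 (decP (Qi i)) := congrArg Prod.snd hc
  have h3 : i = 0 := by
    apply eltQ_inj hi (by norm_num)
    rw [← h2, h, Qi_zero, decP_one]
    rfl
  apply Units.ext
  rw [h1, h3]
  exact certM.one.symm

/-- first projection. -/
def f1 : Gam →* U10 := (MonoidHom.fst U10 U6).comp Gam.subtype

/-- second projection. -/
def f2 : Gam →* U6 := (MonoidHom.snd U10 U6).comp Gam.subtype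

theorem f1_inj : Function.Injective f1 := by
  rw [injective_iff_map_eq_one]
  intro x hx
  apply Subtype.ext
  exact Prod.ext hx (snd_eq_one x.2 hx)

theorem f2_inj : Function.Injective f2 := by
  rw [injective_iff_map_eq_one]
  intro x hx
  apply Subtype.ext
  exact Prod.ext (fst_eq_one x.2 hx) hx

/-- the group generated by the permutations of six points. -/
def B : Subgroup U6 := Subgroup.closure (Set.range HU)

theorem f1_range : f1.range = A := by
  have h : f1.range = Gam.map (MonoidHom.fst U10 U6) := by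
    rw [f1, ← MonoidHom.map_range, Subgroup.range_subtype]
  rw [h, Gam, MonoidHom.map_closure, A]
  congr 1
  ext g
  simp only [GH, Set.mem_image, Set.mem_range]
  constructor
  · rintro ⟨_, ⟨r, rfl⟩, rfl⟩
    exact ⟨r, rfl⟩
  · rintro ⟨r, rfl⟩
    exact ⟨_, ⟨r, rfl⟩, rfl⟩

theorem f2_range : f2.range = B := by
  have h : f2.range = Gam.map (MonoidHom.snd U10 U6) := by
    rw [f2, ← MonoidHom.map_range, Subgroup.range_subtype]
  rw [h, Gam, MonoidHom.map_closure, B]
  congr 1
  ext g
  simp only [GH, Set.mem_image, Set.mem_range]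
  constructor
  · rintro ⟨_, ⟨r, rfl⟩, rfl⟩
    exact ⟨r, rfl⟩
  · rintro ⟨r, rfl⟩
    exact ⟨_, ⟨r, rfl⟩, rfl⟩

/-- the isomorphism between the two subgroups. -/
noncomputable def isoAB : A ≃* B :=
  ((MulEquiv.subgroupCongr f1_range).symm.trans (MonoidHom.ofInjective f1_inj).symm).trans
    ((MonoidHom.ofInjective f2_inj).trans (MulEquiv.subgroupCongr f2_range))

theorem card_B : Nat.card B = 360 := by
  rw [← Nat.card_congr isoAB.toEquiv, card_A]

/-- the image of `B` in the symmetric group. -/
def B' : Subgroup (Equiv.Perm (Fin 6)) := B.map (Equiv.Perm.equivUnitsEnd (α := Fin 6)).symm.toMonoidHom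

theorem card_B' : Nat.card B' = 360 := by
  have e : B ≃* B' := (Equiv.Perm.equivUnitsEnd (α := Fin 6)).symm.subgroupMap B
  rw [← Nat.card_congr e.toEquiv, card_B]

theorem B'_eq : B' = alternatingGroup (Fin 6) := by
  apply Equiv.Perm.eq_alternatingGroup_of_index_eq_two
  have h := Subgroup.card_mul_index B'
  rw [card_B', Nat.card_eq_fintype_card, Fintype.card_perm, Fintype.card_fin] at h
  have : Nat.factorial 6 = 720 := by decide
  omega

/-- the subgroup `A` is isomorphic to the alternating group of degree six. -/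
noncomputable def isoAlt : A ≃* alternatingGroup (Fin 6) :=
  (isoAB.trans ((Equiv.Perm.equivUnitsEnd (α := Fin 6)).symm.subgroupMap B)).trans
    (MulEquiv.subgroupCongr B'_eq)

end Cfsg.Agent.Lib.Helper19.AutA6Model
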