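/-
Helper19 library: encodings of self-maps of ten points (lists of images) for kernel computations in `PΓL₂(9)`.
-/
import Mathlib
import Cfsg.Agent.Lib.Helper19.G2Enc

set_option autoImplicit false

namespace Cfsg.Agent.Lib.Helper19.AutA6Enc

/-- decoding of a list of images as a self-map of ten points. -/
def decT (a : List ℕ) : Fin 10 → Fin 10 := fun k => Fin.ofNat 10 (a.getD k.val 0)

/-- composition of encoded self-maps. -/
def mulT (a b : List ℕ) : List ℕ :=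
  [a.getD (b.getD 0 0 % 10) 0, a.getD (b.getD 1 0 % 10) 0, a.getD (b.getD 2 0 % 10) 0,
   a.getD (b.getD 3 0 % 10) 0, a.getD (b.getD 4 0 % 10) 0, a.getD (b.getD 5 0 % 10) 0,
   a.getD (b.getD 6 0 % 10) 0, a.getD (b.getD 7 0 % 10) 0, a.getD (b.getD 8 0 % 10) 0,
   a.getD (b.getD 9 0 % 10) 0]

theorem decT_mul (a b : List ℕ) : decT (mulT a b) = decT a ∘ decT b := by
  funext k
  fin_cases k <;> rfl

/-- the identity map. -/
def IDT : List ℕ := [0, 1, 2, 3, 4, 5, 6, 7, 8, 9]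

theorem decT_one : decT IDT = id := by
  funext k
  fin_cases k <;> rfl

/-- unpacking of ten digits in base 16. -/
def unpackT (c : ℕ) : List ℕ :=
  [c % 16, c / 16 % 16, c / 16 ^ 2 % 16, c / 16 ^ 3 % 16, c / 16 ^ 4 % 16, c / 16 ^ 5 % 16,
   c / 16 ^ 6 % 16, c / 16 ^ 7 % 16, c / 16 ^ 8 % 16, c / 16 ^ 9 % 16]

/-- unpacking of six digits in base 8. -/
def unpackP (c : ℕ) : List ℕ :=
  [c % 8, c / 8 % 8, c / 8 ^ 2 % 8, c / 8 ^ 3 % 8, c / 8 ^ 4 % 8, c / 8 ^ 5 % 8]

/-- the code of a self-map of ten points. -/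
def encT (f : Fin 10 → Fin 10) : ℕ :=
  (f 0).val + 16 * ((f 1).val + 16 * ((f 2).val + 16 * ((f 3).val + 16 * ((f 4).val +
    16 * ((f 5).val + 16 * ((f 6).val + 16 * ((f 7).val + 16 * ((f 8).val + 16 * (f 9).val))))))))

/-- the code of a self-map of six points. -/
def encP (f : Fin 6 → Fin 6) : ℕ :=
  (f 0).val + 8 * ((f 1).val + 8 * ((f 2).val + 8 * ((f 3).val + 8 * ((f 4).val + 8 * (f 5).val))))

end Cfsg.Agent.Lib.Helper19.AutA6Enc
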