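/-
Helper19 library: the automorphism group of the alternating group of degree six has order 1440, and a finite group
with a normal subgroup of index four isomorphic to the alternating group of degree six, with trivial centralizer, is
isomorphic to that automorphism group.
-/
import Mathlib
import Cfsg.Agent.S0254
import Cfsg.Agent.S2602

set_option autoImplicit false

namespace Cfsg.Agent.Lib.Helper19.AutA6Gen

/-- the alternating group of degree six. -/
abbrev A6 : Type := alternatingGroup (Fin 6)

theorem card_A6 : Nat.card (alternatingGroup (Fin 6)) = 360 := by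
  have h := two_mul_nat_card_alternatingGroup (α := Fin 6)
  rw [Nat.card_eq_fintype_card (α := Equiv.Perm (Fin 6)), Fintype.card_perm, Fintype.card_fin] at h
  have : Nat.factorial 6 = 720 := by decide
  omega

theorem center_A6 : Subgroup.center A6 = ⊥ :=
  alternatingGroup.center_eq_bot (by rw [Nat.card_eq_fintype_card, Fintype.card_fin]; norm_num)

theorem conj_injective {G : Type*} [Group G] (hG : Subgroup.center G = ⊥) :
    Function.Injective (MulAut.conj : G →* MulAut G) := by
  rw [injective_iff_map_eq_one]
  intro g hg
  have : g ∈ Subgroup.center G := by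
    rw [Subgroup.mem_center_iff]
    intro x
    have h1 := congrArg (fun φ : MulAut G => φ x) hg
    simp only [MulAut.conj_apply, MulAut.one_apply] at h1
    calc x * g = (g * x * g⁻¹) * g := by rw [h1]
      _ = g * x := by group
  rw [hG] at this
  exact Subgroup.mem_bot.mp this

theorem card_inn {G : Type*} [Group G] (hG : Subgroup.center G = ⊥) :
    Nat.card (Cfsg.Inn G) = Nat.card G :=
  (Nat.card_congr (MonoidHom.ofInjective (conj_injective hG)).toEquiv).symm

theorem card_mulAut_of_equiv {G H : Type*} [Group G] [Group H] (e : G ≃* H) :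
    Nat.card (MulAut G) = Nat.card (MulAut H) :=
  Nat.card_congr (MulAut.congr e).toEquiv

theorem center_of_equiv {G H : Type*} [Group G] [Group H] (e : G ≃* H)
    (hH : Subgroup.center H = ⊥) : Subgroup.center G = ⊥ := by
  rw [eq_bot_iff]
  intro g hg
  rw [Subgroup.mem_bot]
  have : e g ∈ Subgroup.center H := by
    rw [Subgroup.mem_center_iff] at hg ⊢
    intro y
    obtain ⟨x, rfl⟩ := e.surjective y
    rw [← map_mul, ← map_mul, hg x]
  rw [hH, Subgroup.mem_bot] at this
  exact e.injective (this.trans (map_one e).symm)

theorem card_mulAut_A6 : Nat.card (MulAut A6) = 1440 := by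
  classical
  let K := GaloisField 3 2
  let _ : Fintype K := Fintype.ofFinite K
  have hK : Fintype.card K = 3 ^ 2 := by
    rw [← Nat.card_eq_fintype_card, GaloisField.card 3 2 (by norm_num)]
  obtain ⟨ψ⟩ := Cfsg.Agent.S0254.result (F := K) (by rw [hK]; norm_num)
  have : Fact (Nat.Prime 3) := ⟨Nat.prime_three⟩
  obtain ⟨φ, hφ, -, hker⟩ := Cfsg.Agent.S2602.result (F := K) (p := 3) (f := 2) (by norm_num) hK
    (by norm_num)
  rw [← card_mulAut_of_equiv ψ]
  set P := Matrix.ProjectiveSpecialLinearGroup (Fin 2) K
  have hc : Subgroup.center P = ⊥ := center_of_equiv ψ center_A6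
  have hP : Nat.card P = 360 := by rw [Nat.card_congr ψ.toEquiv, card_A6]
  have h1 := Subgroup.card_eq_card_quotient_mul_card_subgroup (Cfsg.Inn P)
  rw [card_inn hc, hP] at h1
  have h2 : Nat.card (Cfsg.Out P) = 4 := by
    have h3 := Subgroup.card_mul_index φ.ker
    rw [Subgroup.index_ker, MonoidHom.range_eq_top.mpr hφ, Subgroup.card_top, hker,
      Nat.card_eq_fintype_card (α := Multiplicative (ZMod 2))] at h3
    have h4 : Fintype.card (Multiplicative (ZMod 2)) = 2 := by
      rw [Fintype.card_multiplicative, ZMod.card]
    rw [h4] at h3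
    have h5 : Nat.gcd 2 (3 ^ 2 - 1) = 2 := by norm_num
    rw [h5] at h3
    exact h3.symm.trans (by norm_num)
  rw [h1]
  show Nat.card (Cfsg.Out P) * 360 = 1440
  rw [h2]

variable {G : Type*} [Group G] (N : Subgroup G) [N.Normal]

theorem conjNormal_injective (hC : Subgroup.centralizer (N : Set G) = ⊥) :
    Function.Injective (MulAut.conjNormal : G →* MulAut N) := by
  rw [injective_iff_map_eq_one]
  intro g hg
  have : g ∈ Subgroup.centralizer (N : Set G) := by
    rw [Subgroup.mem_centralizer_iff]
    intro h hh
    have h1 := congrArg (fun φ : MulAut N => ((φ ⟨h, hh⟩ : N) : G)) hg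
    simp only [MulAut.conjNormal_apply, MulAut.one_apply] at h1
    calc h * g = (g * h * g⁻¹) * g := by rw [h1]
      _ = g * h := by group
  rw [hC] at this
  exact Subgroup.mem_bot.mp this

theorem nonempty_iso [Finite G] (e : N ≃* A6) (hidx : N.index = 4)
    (hC : Subgroup.centralizer (N : Set G) = ⊥) : Nonempty (G ≃* MulAut A6) := by
  have hG : Nat.card G = 1440 := by
    rw [← Subgroup.card_mul_index N, hidx, Nat.card_congr e.toEquiv, card_A6]
  have hA : Nat.card (MulAut N) = 1440 := by
    rw [card_mulAut_of_equiv e, card_mulAut_A6]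
  have : Finite (MulAut N) := Nat.finite_of_card_ne_zero (by rw [hA]; norm_num)
  have hb : Function.Bijective (MulAut.conjNormal : G →* MulAut N) :=
    (conjNormal_injective N hC).bijective_of_nat_card_le (by rw [hG, hA])
  exact ⟨(MulEquiv.ofBijective _ hb).trans (MulAut.congr e)⟩

end Cfsg.Agent.Lib.Helper19.AutA6Gen
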