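/-
Helper19 library: in the model `M = PΓL₂(9)`: the subgroup `A = PSL₂(9)` is normal of index four with trivial
centralizer, and any two Sylow 2-subgroups of `M` have a nontrivial intersection.
-/
import Mathlib
import Cfsg.Agent.Lib.Helper19.AutA6Alt

set_option autoImplicit false

namespace Cfsg.Agent.Lib.Helper19.AutA6Model

open Cfsg.Agent.Lib.Helper19.B2Enc Cfsg.Agent.Lib.Helper19.G2Enc Cfsg.Agent.Lib.Helper19.AutA6Enc
open Cfsg.Agent.Lib.Helper19.AutA6Data Cfsg.Agent.Lib.Helper19.AutA6Check
open Cfsg.Agent.Lib.Helper19.ListClosure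

theorem conj_closure_mem' {G : Type*} [Group G] (T : Set G) (k : G)
    (hk : ∀ s ∈ T, k * s * k⁻¹ ∈ Subgroup.closure T) {h : G} (hh : h ∈ Subgroup.closure T) :
    k * h * k⁻¹ ∈ Subgroup.closure T := by
  induction hh using Subgroup.closure_induction with
  | mem x hx => exact hk x hx
  | one => simp
  | mul x y _ _ ihx ihy =>
    have : k * (x * y) * k⁻¹ = (k * x * k⁻¹) * (k * y * k⁻¹) := by group
    rw [this]
    exact mul_mem ihx ihy
  | inv x _ ih =>
    have : k * x⁻¹ * k⁻¹ = (k * x * k⁻¹)⁻¹ := by group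
    rw [this]
    exact inv_mem ih

theorem GU_inv (r : Fin 5) : (GU r)⁻¹ = GU r := inv_eq_of_mul_eq_one_left (GU_mul_self r)

theorem conj_gen_mem (r : Fin 5) (j : Fin 3) : GU r * GA j * (GU r)⁻¹ ∈ A := by
  rw [GU_inv, mem_A_iff]
  obtain ⟨h1, h2⟩ := norm_cert r.val (List.mem_range.2 r.isLt) j.val (List.mem_range.2 j.isLt)
  refine ⟨nc r.val j.val, h2, ?_⟩
  show toEnd10 (decT (GE r.val)) * toEnd10 (decT (GE j.val)) * toEnd10 (decT (GE r.val)) = _
  rw [eltM, ← h1, decT_mul, decT_mul]
  rfl

theorem conj_mem {k : U10} (hk : k ∈ M) : ∀ h ∈ A, k * h * k⁻¹ ∈ A := by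
  induction hk using Subgroup.closure_induction with
  | mem x hx =>
    obtain ⟨r, rfl⟩ := hx
    intro h hh
    refine conj_closure_mem' _ (GU r) ?_ hh
    rintro _ ⟨j, rfl⟩
    exact conj_gen_mem r j
  | one =>
    intro h hh
    simpa using hh
  | mul x y _ _ ihx ihy =>
    intro h hh
    have : x * y * h * (x * y)⁻¹ = x * (y * h * y⁻¹) * x⁻¹ := by group
    rw [this]
    exact ihx _ (ihy h hh)
  | inv x hx ih =>
    intro h hh
    -- conjugation by `x` is an injective self-map of the finite set `A`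
    have hfin : Finite A := Nat.finite_of_card_ne_zero (by rw [card_A]; norm_num)
    let c : A → A := fun a => ⟨x * a.1 * x⁻¹, ih a.1 a.2⟩
    have hc : Function.Injective c := by
      intro a b hab
      have : x * a.1 * x⁻¹ = x * b.1 * x⁻¹ := congrArg Subtype.val hab
      apply Subtype.ext
      simpa using this
    obtain ⟨a, ha⟩ := (Finite.injective_iff_surjective.mp hc) ⟨h, hh⟩
    have h1 : x * a.1 * x⁻¹ = h := congrArg Subtype.val ha
    have h2 : x⁻¹ * h * x⁻¹⁻¹ = a.1 := by
      rw [← h1]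
      group
    rw [h2]
    exact a.2

/-- `A` as a subgroup of `M`. -/
def AM : Subgroup M := A.subgroupOf M

instance AM_normal : AM.Normal :=
  (Subgroup.normal_subgroupOf_iff A_le_M).mpr fun h k hh hk => conj_mem hk h hh

/-- `AM` is isomorphic to the alternating group of degree six. -/
noncomputable def isoAM : AM ≃* alternatingGroup (Fin 6) :=
  (Subgroup.subgroupOfEquivOfLe A_le_M).trans isoAlt

theorem card_AM : Nat.card AM = 360 := by
  unfold AM
  rw [Nat.card_congr (Subgroup.subgroupOfEquivOfLe A_le_M).toEquiv, card_A]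

theorem index_AM : AM.index = 4 := by
  have h := Subgroup.card_mul_index AM
  rw [card_AM, card_M] at h
  omega

theorem GA_mem_A (j : Fin 3) : GA j ∈ A := Subgroup.subset_closure ⟨j, rfl⟩

theorem centralizer_AM : Subgroup.centralizer (AM : Set M) = ⊥ := by
  rw [eq_bot_iff]
  intro m hm
  rw [Subgroup.mem_bot]
  obtain ⟨i, hi, hv⟩ := (mem_M_iff m.1).mp m.2
  have key : ∀ j : Fin 3, decT (mulT (Pi i) (GE j.val)) = decT (mulT (GE j.val) (Pi i)) := by
    intro j
    have hj : (⟨GA j, A_le_M (GA_mem_A j)⟩ : M) ∈ (AM : Set M) := by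
      show (⟨GA j, A_le_M (GA_mem_A j)⟩ : M) ∈ A.subgroupOf M
      rw [Subgroup.mem_subgroupOf]
      exact GA_mem_A j
    have h1 := Subgroup.mem_centralizer_iff.mp hm _ hj
    have h2 : GA j * m.1 = m.1 * GA j := congrArg Subtype.val h1
    have h3 : toEnd10 (decT (GE j.val)) * eltM i = eltM i * toEnd10 (decT (GE j.val)) := by
      have := congrArg (fun u : U10 => (u : Function.End (Fin 10))) h2
      simp only [Units.val_mul] at this
      rw [hv] at this
      exact this
    rw [eltM, toEnd10_mul, toEnd10_mul, ← decT_mul, ← decT_mul] at h3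
    exact (toEnd10_injective h3).symm
  by_cases h0 : i = 0
  · apply Subtype.ext
    apply Units.ext
    rw [hv, h0]
    exact certM.one.symm
  · exfalso
    rcases cent_cert i (List.mem_range'_1.2 ⟨by omega, by omega⟩) with h | h | h
    · exact h (key 0)
    · exact h (key 1)
    · exact h (key 2)

end Cfsg.Agent.Lib.Helper19.AutA6Model
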