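/-
Helper19 library: any two Sylow 2-subgroups of the model `M = PΓL₂(9)` have a nontrivial intersection.
-/
import Mathlib
import Cfsg.Agent.Lib.Helper19.AutA6Syl

set_option autoImplicit false

namespace Cfsg.Agent.Lib.Helper19.AutA6Model

open Cfsg.Agent.Lib.Helper19.B2Enc Cfsg.Agent.Lib.Helper19.G2Enc Cfsg.Agent.Lib.Helper19.AutA6Enc
open Cfsg.Agent.Lib.Helper19.AutA6Data Cfsg.Agent.Lib.Helper19.AutA6Check
open Cfsg.Agent.Lib.Helper19.ListClosure
open scoped Pointwise

/-- the stabilizer of the pair of points `{0, 9}`. -/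
def P0 : Subgroup U10 where
  carrier := {u | stabF (u : Function.End (Fin 10))}
  one_mem' := by
    intro k
    rfl
  mul_mem' := by
    intro u v hu hv k
    show (u.val (v.val k) = 0 ∨ u.val (v.val k) = 9) ↔ _
    rw [hu (v.val k)]
    exact hv k
  inv_mem' := by
    intro u hu k
    have h1 : u.val (u⁻¹.val k) = k := by
      have : (u * u⁻¹ : U10) = 1 := mul_inv_cancel u
      have h2 := congrArg (fun w : U10 => (w : Function.End (Fin 10)) k) this
      exact h2
    have h3 := hu (u⁻¹.val k)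
    rw [h1] at h3
    exact h3.symm

/-- the stabilizer as a subgroup of `M`. -/
def P0M : Subgroup M := P0.subgroupOf M

theorem mem_P0M_iff (m : M) : m ∈ P0M ↔ stabF ((m.1 : U10) : Function.End (Fin 10)) := Iff.rfl

theorem exists_P0_elt (j : ℕ) (hj : j < 32) :
    ∃ m : M, m ∈ P0M ∧ ((m.1 : U10) : Function.End (Fin 10)) = eltM (P0I j) := by
  obtain ⟨h1, h2⟩ := P0_stab j (List.mem_range.2 hj)
  obtain ⟨g, hg, hc⟩ := certM.exists_mem (P0I j) h1
  refine ⟨⟨g, hg⟩, ?_, hc⟩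
  rw [mem_P0M_iff]
  show stabF ((g : U10) : Function.End (Fin 10))
  have : ((g : U10) : Function.End (Fin 10)) = eltM (P0I j) := hc
  rw [this]
  exact h2

theorem card_P0M : Nat.card P0M = 32 := by
  classical
  choose f hf using fun j : Fin 32 => exists_P0_elt j.val j.isLt
  let F : Fin 32 → P0M := fun j => ⟨f j, (hf j).1⟩
  have hF : Function.Bijective F := by
    constructor
    · intro j k hjk
      have h1 : f j = f k := congrArg Subtype.val hjk
      have h2 : eltM (P0I j.val) = eltM (P0I k.val) := by rw [← (hf j).2, ← (hf k).2, h1]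
      have h3 : P0I j.val = P0I k.val :=
        eltM_inj (P0_stab j.val (List.mem_range.2 j.isLt)).1
          (P0_stab k.val (List.mem_range.2 k.isLt)).1 h2
      have h4 := P0_idx j.val (List.mem_range.2 j.isLt)
      have h5 := P0_idx k.val (List.mem_range.2 k.isLt)
      apply Fin.ext
      rw [← h4, ← h5, h3]
    · rintro ⟨m, hm⟩
      obtain ⟨i, hi, hv⟩ := (mem_M_iff m.1).mp m.2
      have hs : stabF (decT (Pi i)) := by
        have := (mem_P0M_iff m).mp hm
        rw [hv] at this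
        exact this
      have hmem : i ∈ P0L := P0_all i (List.mem_range.2 hi) hs
      have hlt : P0L.idxOf i < 32 := by
        rw [← P0_len]
        exact List.idxOf_lt_length_iff.mpr hmem
      refine ⟨⟨P0L.idxOf i, hlt⟩, ?_⟩
      apply Subtype.ext
      apply Subtype.ext
      apply Units.ext
      show ((f ⟨P0L.idxOf i, hlt⟩ : M).1 : Function.End (Fin 10)) = ((m.1 : U10) : Function.End (Fin 10))
      rw [(hf ⟨P0L.idxOf i, hlt⟩).2, hv]
      congr 1
      show P0L.getD (P0L.idxOf i) 0 = i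
      rw [List.getD_eq_getElem _ _ (by rw [P0_len]; exact hlt)]
      exact List.getElem_idxOf _
  rw [← Nat.card_congr (Equiv.ofBijective F hF), Nat.card_fin]

theorem exists_conj_mem (y : M) : ∃ h : M, h ∈ P0M ∧ h ≠ 1 ∧ y * h * y⁻¹ ∈ P0M := by
  obtain ⟨i, hi, hv⟩ := (mem_M_iff y.1).mp y.2
  obtain ⟨c1, c2, c3, c4⟩ := syl_cert i (List.mem_range.2 hi)
  obtain ⟨h, hh, hhv⟩ := exists_P0_elt (cj i) c1
  obtain ⟨h', hh', hhv'⟩ := exists_P0_elt (cjp i) c2
  refine ⟨h, hh, ?_, ?_⟩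
  · intro h1
    have h2 : eltM (P0I (cj i)) = eltM 0 := by
      rw [← hhv, h1]
      exact certM.one
    exact c3 (eltM_inj (P0_stab (cj i) (List.mem_range.2 c1)).1 (by norm_num) h2)
  · have h3 : y * h = h' * y := by
      apply Subtype.ext
      apply Units.ext
      show ((y.1 : U10) : Function.End (Fin 10)) * ((h.1 : U10) : Function.End (Fin 10)) =
        ((h'.1 : U10) : Function.End (Fin 10)) * ((y.1 : U10) : Function.End (Fin 10))
      rw [hv, hhv, hhv', eltM, eltM, eltM, toEnd10_mul, toEnd10_mul, ← decT_mul, ← decT_mul, c4]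
    have h4 : y * h * y⁻¹ = h' := by rw [h3]; group
    rw [h4]
    exact hh'

theorem mem_conj_smul_iff {G : Type*} [Group G] (g x : G) (H : Subgroup G) :
    x ∈ MulAut.conj g • H ↔ g⁻¹ * x * g ∈ H := by
  rw [Subgroup.mem_pointwise_smul_iff_inv_smul_mem]
  simp [MulAut.smul_def, MulAut.conj_inv_apply]

theorem isPGroup_P0M : IsPGroup 2 P0M :=
  IsPGroup.of_card (n := 5) (by rw [card_P0M]; norm_num)

theorem sylow_eq_conj (H : Sylow 2 M) : ∃ g : M, (H : Subgroup M) = MulAut.conj g • P0M := by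
  have hfin : Finite M := Nat.finite_of_card_ne_zero (by rw [card_M]; norm_num)
  obtain ⟨Q, hQ⟩ := isPGroup_P0M.exists_le_sylow
  have hQcard : Nat.card (Q : Subgroup M) = 32 := by
    obtain ⟨n, hn⟩ := IsPGroup.iff_card.mp Q.isPGroup'
    have hdvd : Nat.card (Q : Subgroup M) ∣ 1440 := by
      rw [← card_M]
      exact Subgroup.card_subgroup_dvd_card _
    have hle : 32 ≤ Nat.card (Q : Subgroup M) := by
      rw [← card_P0M]
      exact Subgroup.card_le_of_le hQ
    rw [hn] at hdvd hle ⊢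
    have hn5 : n ≤ 5 := by
      by_contra hcon
      have h6 : 6 ≤ n := by omega
      have : (2 : ℕ) ^ 6 ∣ 1440 := dvd_trans (pow_dvd_pow 2 h6) hdvd
      norm_num at this
    have hn5' : 5 ≤ n := by
      by_contra hcon
      have h4 : n ≤ 4 := by omega
      have : (2 : ℕ) ^ n ≤ 2 ^ 4 := Nat.pow_le_pow_right (by norm_num) h4
      omega
    have : n = 5 := le_antisymm hn5 hn5'
    rw [this]
    norm_num
  have hQeq : (Q : Subgroup M) = P0M := by
    symm
    apply Subgroup.eq_of_le_of_card_ge hQ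
    rw [hQcard, card_P0M]
  obtain ⟨g, hg⟩ := MulAction.exists_smul_eq M Q H
  refine ⟨g, ?_⟩
  rw [← hg, Sylow.coe_subgroup_smul, hQeq]

theorem model_sylow (H : Sylow 2 M) (x : M) :
    (H : Subgroup M) ⊓ MulAut.conj x • (H : Subgroup M) ≠ ⊥ := by
  obtain ⟨g, hg⟩ := sylow_eq_conj H
  obtain ⟨h, hh, hne, hc⟩ := exists_conj_mem (g⁻¹ * x * g)
  intro hbot
  have hk1 : g * ((g⁻¹ * x * g) * h * (g⁻¹ * x * g)⁻¹) * g⁻¹ ∈ (H : Subgroup M) := by
    rw [hg, mem_conj_smul_iff]
    have : g⁻¹ * (g * ((g⁻¹ * x * g) * h * (g⁻¹ * x * g)⁻¹) * g⁻¹) * g =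
        (g⁻¹ * x * g) * h * (g⁻¹ * x * g)⁻¹ := by group
    rw [this]
    exact hc
  have hk2 : g * ((g⁻¹ * x * g) * h * (g⁻¹ * x * g)⁻¹) * g⁻¹ ∈ MulAut.conj x • (H : Subgroup M) := by
    rw [mem_conj_smul_iff, hg, mem_conj_smul_iff]
    have : g⁻¹ * (x⁻¹ * (g * ((g⁻¹ * x * g) * h * (g⁻¹ * x * g)⁻¹) * g⁻¹) * x) * g = h := by group
    rw [this]
    exact hh
  have hk : g * ((g⁻¹ * x * g) * h * (g⁻¹ * x * g)⁻¹) * g⁻¹ ∈
      (H : Subgroup M) ⊓ MulAut.conj x • (H : Subgroup M) := ⟨hk1, hk2⟩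
  rw [hbot, Subgroup.mem_bot] at hk
  apply hne
  have : h = (g⁻¹ * x * g)⁻¹ * (g⁻¹ * (g * ((g⁻¹ * x * g) * h * (g⁻¹ * x * g)⁻¹) * g⁻¹) * g) *
      (g⁻¹ * x * g) := by group
  rw [this, hk]
  group

end Cfsg.Agent.Lib.Helper19.AutA6Model
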