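/-
Helper19 library: in the automorphism group of the alternating group of degree six (given as a finite group with a
normal subgroup of index four isomorphic to the alternating group, with trivial centralizer), any two Sylow
2-subgroups have a nontrivial intersection.
-/
import Mathlib
import Cfsg.Agent.Lib.Helper19.AutA6Syl2
import Cfsg.Agent.Lib.Helper19.AutA6Gen

set_option autoImplicit false

namespace Cfsg.Agent.Lib.Helper19.AutA6Main

open Cfsg.Agent.Lib.Helper19.AutA6Model Cfsg.Agent.Lib.Helper19.AutA6Gen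
open scoped Pointwise

instance : Finite M := Nat.finite_of_card_ne_zero (by rw [card_M]; norm_num)

theorem main {G : Type*} [Group G] [Finite G] (N : Subgroup G) [N.Normal]
    (e : N ≃* alternatingGroup (Fin 6)) (hidx : N.index = 4)
    (hC : Subgroup.centralizer (N : Set G) = ⊥) (H : Sylow 2 G) (x : G) :
    (H : Subgroup G) ⊓ MulAut.conj x • (H : Subgroup G) ≠ ⊥ := by
  obtain ⟨e1⟩ := nonempty_iso N e hidx hC
  obtain ⟨e2⟩ := nonempty_iso AM isoAM index_AM centralizer_AM
  let ε : G ≃* M := e1.trans e2.symm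
  let φ : M →* G := ε.symm.toMonoidHom
  have hφ : Function.Injective φ := fun a b h => ε.symm.injective h
  have hr : (H : Subgroup G) ≤ φ.range := by
    intro g _
    exact ⟨ε g, ε.symm_apply_apply g⟩
  let H' : Sylow 2 M := H.comapOfInjective φ hφ hr
  have hcoe : (H' : Subgroup M) = (H : Subgroup G).comap φ := Sylow.coe_comapOfInjective H φ hφ hr
  have hH' : ∀ m : M, m ∈ (H' : Subgroup M) ↔ ε.symm m ∈ (H : Subgroup G) := by
    intro m
    rw [hcoe]
    rfl
  intro hbot
  apply model_sylow H' (ε x)
  rw [eq_bot_iff]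
  rintro m ⟨hm1, hm2⟩
  rw [Subgroup.mem_bot]
  have h1 : ε.symm m ∈ (H : Subgroup G) := (hH' m).mp hm1
  have h2 : ε.symm m ∈ MulAut.conj x • (H : Subgroup G) := by
    rw [mem_conj_smul_iff]
    have h3 := (mem_conj_smul_iff (ε x) m (H' : Subgroup M)).mp hm2
    have h4 := (hH' _).mp h3
    rw [map_mul, map_mul, map_inv, MulEquiv.symm_apply_apply] at h4
    exact h4
  have h5 : ε.symm m ∈ (H : Subgroup G) ⊓ MulAut.conj x • (H : Subgroup G) := ⟨h1, h2⟩
  rw [hbot, Subgroup.mem_bot] at h5
  exact ε.symm.injective (h5.trans (map_one ε.symm).symm)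

end Cfsg.Agent.Lib.Helper19.AutA6Main
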