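/-
helper19: S2262 leaves CH1-5 (characteristic polynomials of conjugates, field twists, inverse
transposes; Cayley-Hamilton).
-/
import Cfsg.Agent.Lib.Helper19.AutPSLDefs

set_option autoImplicit false

namespace Cfsg.Agent.Lib.Helper19.AutPSLCH

open Matrix Polynomial Cfsg.Agent.Lib.Helper18.PSLnAut Cfsg.Agent.Lib.Helper19.AutPSL

variable {n : ℕ} {F : Type*} [Field F]

/-- (CH1) similar matrices. -/
theorem charpoly_conj (g L : GL (Fin n) F) :
    ((g⁻¹ * L * g : GL (Fin n) F) : Matrix (Fin n) (Fin n) F).charpoly =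
      (L : Matrix (Fin n) (Fin n) F).charpoly := by
  rw [Units.val_mul, Units.val_mul, Matrix.coe_units_inv]
  exact Matrix.charpoly_units_conj' g (L : Matrix (Fin n) (Fin n) F)

/-- (CH2) `Matrix.charpoly_map`. -/
theorem charpoly_mapGL (σ : F ≃+* F) (L : GL (Fin n) F) :
    ((mapGL σ L : GL (Fin n) F) : Matrix (Fin n) (Fin n) F).charpoly =
      ((L : Matrix (Fin n) (Fin n) F).charpoly).map (σ : F →+* F) := by
  rw [mapGL_coe]
  exact Matrix.charpoly_map (L : Matrix (Fin n) (Fin n) F) (σ : F →+* F)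

/-- (CH4) the constant coefficient is `± det`. -/
theorem charpoly_coeff_zero_ne (L : GL (Fin n) F) :
    ((L : Matrix (Fin n) (Fin n) F).charpoly).coeff 0 ≠ 0 := by
  intro h
  have h1 := Matrix.det_eq_sign_charpoly_coeff (L : Matrix (Fin n) (Fin n) F)
  rw [h, mul_zero] at h1
  have h2 : IsUnit (L : Matrix (Fin n) (Fin n) F).det :=
    (Matrix.isUnit_iff_isUnit_det _).mp L.isUnit
  exact h2.ne_zero h1

/-- (CH3) -/
theorem charpoly_gtiHom (L : GL (Fin n) F) :
    ∃ u : F, u ≠ 0 ∧ ((gtiHom L : GL (Fin n) F) : Matrix (Fin n) (Fin n) F).charpoly =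
      C u * ((L : Matrix (Fin n) (Fin n) F).charpoly).mirror := by
  have hdet : IsUnit (L : Matrix (Fin n) (Fin n) F).det :=
    (Matrix.isUnit_iff_isUnit_det _).mp L.isUnit
  have hd0 : (L : Matrix (Fin n) (Fin n) F).det ≠ 0 := hdet.ne_zero
  refine ⟨(-1) ^ Fintype.card (Fin n) * ((L : Matrix (Fin n) (Fin n) F).det)⁻¹,
    mul_ne_zero (pow_ne_zero _ (by simp)) (inv_ne_zero hd0), ?_⟩
  rw [gtiHom_apply, gti_coe, Matrix.charpoly_transpose, Matrix.coe_units_inv,
    Matrix.charpoly_inv _ L.isUnit, ← Matrix.reverse_charpoly, Ring.inverse_eq_inv']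
  have hmir : ((L : Matrix (Fin n) (Fin n) F).charpoly).mirror =
      ((L : Matrix (Fin n) (Fin n) F).charpoly).reverse := by
    unfold Polynomial.mirror
    rw [natTrailingDegree_eq_zero_of_constantCoeff_ne_zero, pow_zero, mul_one]
    exact charpoly_coeff_zero_ne L
  rw [hmir, C_mul, C_pow, C_neg, C_1]

/-- (CH5) Cayley-Hamilton. -/
theorem conjAHom_pow_eq_one (hn : 2 ≤ n) (L : GL (Fin n) F) (j : ℕ) (c : F)
    (h : (L : Matrix (Fin n) (Fin n) F).charpoly ∣ X ^ j - C c) :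
    (conjAHom L) ^ j = 1 := by
  rw [← map_pow, ← MonoidHom.mem_ker, ker_conjAHom hn,
    Matrix.GeneralLinearGroup.mem_center_iff_val_mem_range_scalar]
  refine ⟨c, ?_⟩
  have hCH : aeval (L : Matrix (Fin n) (Fin n) F) (L : Matrix (Fin n) (Fin n) F).charpoly = 0 :=
    Matrix.aeval_self_charpoly _
  obtain ⟨R, hR⟩ := h
  have := congrArg (aeval (L : Matrix (Fin n) (Fin n) F)) hR
  rw [map_mul, hCH, zero_mul, map_sub, map_pow, aeval_X, aeval_C] at this
  rw [Units.val_pow_eq_pow_val]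
  rw [sub_eq_zero] at this
  rw [this]
  rfl

end Cfsg.Agent.Lib.Helper19.AutPSLCH
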