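/-
helper19: S2262 leaf PO-L (`recip_bound_large`): self-reciprocal polynomials of degree at least 4
over a finite field, via helper24's `poly_order_even`.
-/
import Cfsg.Agent.Lib.Helper19.AutPSLDefs
import Cfsg.Agent.Lib.Helper24.EOrdP6

set_option autoImplicit false

namespace Cfsg.Agent.Lib.Helper19.AutPSLPOL

open Matrix Polynomial Cfsg.Agent.Lib.Helper19.AutPSL

variable {F : Type*} [Field F] [Fintype F]

omit [Fintype F] in
theorem mirror_X_sub_one : ((X : F[X]) - 1).mirror = C (-1) * (X - 1) := by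
  have hdeg : ((X : F[X]) - 1).natDegree = 1 := by
    have := natDegree_X_sub_C (1 : F)
    rwa [C_1] at this
  have htr : ((X : F[X]) - 1).natTrailingDegree = 0 := by
    apply natTrailingDegree_eq_zero_of_constantCoeff_ne_zero
    simp
  ext k
  rw [coeff_mirror, hdeg, htr, coeff_C_mul]
  rcases k with _ | _ | k
  · simp [revAt, coeff_one]
  · simp [revAt, coeff_one]
  · have : revAt (1 + 0) (k + 1 + 1) = k + 1 + 1 := by
      rw [revAt_eq_self_of_lt]
      omega
    rw [this]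
    simp [coeff_X, coeff_one]

theorem num_aux (A B : ℕ) (hA : 1 ≤ A) (hB : 3 ≤ B) : 2 * A + 1 ≤ A * B := by nlinarith

theorem pow_ge_three (q m : ℕ) (hq : 2 ≤ q) (hm : 2 ≤ m) (h : ¬ (m = 2 ∧ q = 2)) :
    3 ≤ q ^ (m - 1) := by
  rcases Nat.lt_or_ge m 3 with h2 | h3
  · have : m = 2 := by omega
    subst this
    have : q ≠ 2 := fun hq2 => h ⟨rfl, hq2⟩
    simpa using (by omega : 3 ≤ q)
  · calc 3 ≤ 2 ^ 2 := by norm_num
      _ ≤ q ^ 2 := Nat.pow_le_pow_left hq 2
      _ ≤ q ^ (m - 1) := Nat.pow_le_pow_right (by omega) (by omega)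

theorem recip_bound_large (P : F[X]) (hP : P.Monic) (d : ℕ) (hdeg : P.natDegree = d) (hd : 4 ≤ d)
    (h0 : P.coeff 0 ≠ 0) (hrec : IsRecip P)
    (hex : ¬ ((d = 4 ∨ d = 5) ∧ Fintype.card F = 2)) :
    ∃ (j : ℕ) (c : F), 1 ≤ j ∧ 2 * ((Fintype.card F - 1) * j) ≤ Fintype.card F ^ d - 1 ∧
      P ∣ X ^ j - C c := by
  have hq : 2 ≤ Fintype.card F := Fintype.one_lt_card
  obtain ⟨u, hu, hmirP⟩ := hrec
  have hassP : Associated P.mirror P := by
    rw [hmirP]
    refine (associated_isUnit_mul_left_iff ?_).mpr (Associated.refl P)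
    exact isUnit_C.mpr (IsUnit.mk0 u hu)
  -- the key step, for a polynomial `R` of even degree `2 m'` divisible by `P`
  have key : ∀ (R : F[X]) (m' : ℕ), 1 ≤ m' → R.natDegree = 2 * m' → R.coeff 0 ≠ 0 →
      Associated R.mirror R → P ∣ R →
      2 * Fintype.card F ^ (m' + 1) + 1 ≤ Fintype.card F ^ d →
      ∃ (j : ℕ) (c : F), 1 ≤ j ∧ 2 * ((Fintype.card F - 1) * j) ≤ Fintype.card F ^ d - 1 ∧
        P ∣ X ^ j - C c := by
    intro R m' hm' hRdeg hR0 hRmir hPR hnum
    obtain ⟨N, hN1, hNb, hdvd⟩ :=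
      Cfsg.Agent.Lib.Helper24.EOrdP6.poly_order_even R m' hm' hRdeg hR0 hRmir
    have hb : 2 * ((Fintype.card F - 1) * N) ≤ Fintype.card F ^ d - 1 := by
      have : 2 * ((Fintype.card F - 1) * N) ≤ 2 * Fintype.card F ^ (m' + 1) :=
        Nat.mul_le_mul_left 2 hNb
      omega
    rcases hdvd with h | h
    · refine ⟨N, 1, hN1, hb, ?_⟩
      rw [C_1]
      exact dvd_trans hPR h
    · refine ⟨N, -1, hN1, hb, ?_⟩
      rw [C_neg, C_1, sub_neg_eq_add]
      exact dvd_trans hPR h
  rcases Nat.even_or_odd' d with ⟨m, hm | hm⟩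
  · -- even degree
    have hm2 : 2 ≤ m := by omega
    refine key P m (by omega) (by rw [hdeg, hm]) h0 hassP (dvd_refl P) ?_
    have hB := pow_ge_three (Fintype.card F) m hq hm2 (by
      rintro ⟨rfl, hq2⟩
      exact hex ⟨Or.inl (by omega), hq2⟩)
    have hA : 1 ≤ Fintype.card F ^ (m + 1) := Nat.one_le_pow _ _ (by omega)
    have := num_aux _ _ hA hB
    rw [← pow_add] at this
    rw [hm]
    rwa [show m + 1 + (m - 1) = 2 * m by omega] at this
  · -- odd degree
    have hm2 : 2 ≤ m := by omega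
    have hP_ne : P ≠ 0 := hP.ne_zero
    have hX1 : ((X : F[X]) - 1) ≠ 0 := by
      have := X_sub_C_ne_zero (1 : F)
      rwa [C_1] at this
    refine key ((X - 1) * P) (m + 1) (by omega) ?_ ?_ ?_ (dvd_mul_left P _) ?_
    · rw [natDegree_mul hX1 hP_ne, hdeg, hm]
      have := natDegree_X_sub_C (1 : F)
      rw [C_1] at this
      rw [this]
      ring
    · rw [mul_coeff_zero]
      refine mul_ne_zero ?_ h0
      simp
    · rw [mirror_mul_of_domain, mirror_X_sub_one, hmirP]
      have : C (-1 : F) * (X - 1) * (C u * P) = C (-1 * u) * ((X - 1) * P) := by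
        rw [C_mul]
        ring
      rw [this]
      refine (associated_isUnit_mul_left_iff ?_).mpr (Associated.refl _)
      exact isUnit_C.mpr (IsUnit.mk0 _ (mul_ne_zero (by simp) hu))
    · have hB := pow_ge_three (Fintype.card F) m hq hm2 (by
        rintro ⟨rfl, hq2⟩
        exact hex ⟨Or.inr (by omega), hq2⟩)
      have hA : 1 ≤ Fintype.card F ^ (m + 1 + 1) := Nat.one_le_pow _ _ (by omega)
      have := num_aux _ _ hA hB
      rw [← pow_add] at this
      rw [hm]
      rwa [show m + 1 + 1 + (m - 1) = 2 * m + 1 by omega] at this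

end Cfsg.Agent.Lib.Helper19.AutPSLPOL
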