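/-
helper19: S2262 leaf PU-L (`srecip_bound_large`): `σ`-reciprocal polynomials, `σ` an involution of a
finite field: `P * σ(P)` is self-reciprocal over the fixed field; helper24's `poly_order_even` there.
-/
import Cfsg.Agent.Lib.Helper19.AutPSLDefs
import Cfsg.Agent.Lib.Helper19.AutPSLCH67
import Cfsg.Agent.Lib.Helper24.EOrdP6
import Cfsg.Agent.Lib.Helper29.AutPSLFX1
import Cfsg.Agent.Lib.Helper29.AutPSLFX2

set_option autoImplicit false

namespace Cfsg.Agent.Lib.Helper19.AutPSLPUL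

open Matrix Polynomial Cfsg.Agent.Lib.Helper19.AutPSL
open Cfsg.Agent.Lib.Helper19.AutPSLCH67

theorem natTrailingDegree_map_of_inj {R S : Type*} [Semiring R] [Semiring S] (f : R →+* S)
    (hf : Function.Injective f) (P : R[X]) :
    (P.map f).natTrailingDegree = P.natTrailingDegree := by
  by_cases hP : P = 0
  · rw [hP, Polynomial.map_zero, natTrailingDegree_zero, natTrailingDegree_zero]
  have hP' : P.map f ≠ 0 := by
    rwa [Ne, Polynomial.map_eq_zero_iff hf]
  rw [natTrailingDegree_eq_support_min' hP', natTrailingDegree_eq_support_min' hP]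
  congr 1
  exact support_map_of_injective P hf

theorem mirror_map_of_inj {R S : Type*} [Semiring R] [Semiring S] (f : R →+* S)
    (hf : Function.Injective f) (P : R[X]) :
    (P.map f).mirror = (P.mirror).map f := by
  ext k
  rw [coeff_mirror, coeff_map, coeff_map, coeff_mirror, natDegree_map_eq_of_injective hf,
    natTrailingDegree_map_of_inj f hf]

theorem num_pul (a d : ℕ) (ha : 2 ≤ a) (hd : 3 ≤ d) (hex : ¬ (d = 3 ∧ a = 2)) :
    2 * (a + 1) * a ^ (d + 1) + 1 ≤ (a ^ 2) ^ d := by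
  have hA : 1 ≤ a ^ (d + 1) := Nat.one_le_pow _ _ (by omega)
  have hB : 2 * a + 3 ≤ a ^ (d - 1) := by
    rcases Nat.lt_or_ge d 4 with h3 | h4
    · have hd3 : d = 3 := by omega
      subst hd3
      have ha3 : 3 ≤ a := by
        have : a ≠ 2 := fun h => hex ⟨rfl, h⟩
        omega
      show 2 * a + 3 ≤ a ^ 2
      nlinarith
    · calc 2 * a + 3 ≤ a ^ 3 := by nlinarith [Nat.pow_le_pow_left ha 2]
        _ ≤ a ^ (d - 1) := Nat.pow_le_pow_right (by omega) (by omega)
  have hsplit : (a ^ 2) ^ d = a ^ (d + 1) * a ^ (d - 1) := by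
    rw [← pow_mul, ← pow_add]
    congr 1
    omega
  rw [hsplit]
  nlinarith

theorem sq_sub_one_fac (a : ℕ) (ha : 1 ≤ a) : a ^ 2 - 1 = (a + 1) * (a - 1) := by
  obtain ⟨b, rfl⟩ : ∃ b, a = b + 1 := ⟨a - 1, by omega⟩
  apply Nat.sub_eq_of_eq_add
  simp only [Nat.add_sub_cancel]
  ring

variable {F : Type*} [Field F] [Fintype F]

theorem srecip_bound_large_of
    (hFX1 : ∀ σ : F ≃+* F, Nat.card (fixF σ) ^ orderOf σ = Fintype.card F)
    (hFX2 : ∀ (σ : F ≃+* F) (P : F[X]), P.map (σ : F →+* F) = P →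
      ∃ P₀ : (fixF σ)[X], P₀.map (fixF σ).subtype = P)
    (σ : F ≃+* F) (hσ : orderOf σ = 2) (P : F[X]) (hP : P.Monic) (d : ℕ)
    (hdeg : P.natDegree = d) (hd : 3 ≤ d) (h0 : P.coeff 0 ≠ 0) (hrec : IsSRecip σ P)
    (hex : ¬ (d = 3 ∧ Fintype.card F = 4)) :
    ∃ (j : ℕ) (c : F), 1 ≤ j ∧ 2 * ((Fintype.card F - 1) * j) ≤ Fintype.card F ^ d - 1 ∧
      P ∣ X ^ j - C c := by
  classical
  have hσ2 : σ * σ = 1 := by rw [← pow_two, ← hσ, pow_orderOf_eq_one]
  have hσσ : ∀ x : F, σ (σ x) = x := by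
    intro x
    have := congrArg (fun τ : F ≃+* F => τ x) hσ2
    exact this
  obtain ⟨u, hu, hmir⟩ := hrec
  have hcomp : ∀ Q : F[X], (Q.map (σ : F →+* F)).map (σ : F →+* F) = Q := by
    intro Q
    rw [Polynomial.map_map]
    have : ((σ : F →+* F).comp (σ : F →+* F)) = RingHom.id F := by
      ext x
      exact hσσ x
    rw [this, Polynomial.map_id]
  set Pσ := P.map (σ : F →+* F) with hPσ
  have hinjσ : Function.Injective ((σ : F →+* F)) := σ.injective
  have hPσdeg : Pσ.natDegree = d := by rw [hPσ, natDegree_map_eq_of_injective hinjσ, hdeg]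
  have hP_ne : P ≠ 0 := hP.ne_zero
  have hPσ_ne : Pσ ≠ 0 := (hP.map _).ne_zero
  set R := P * Pσ with hR
  have hRσ : R.map (σ : F →+* F) = R := by
    rw [hR, Polynomial.map_mul, hPσ, hcomp, mul_comm]
  obtain ⟨R₀, hR₀⟩ := hFX2 σ R hRσ
  -- the mirror of `R`
  have h1 : P.mirror.map (σ : F →+* F) = C u * P := by rw [← mirror_map, hmir]
  have h2 : P.mirror = C (σ u) * Pσ := by
    have := congrArg (Polynomial.map (σ : F →+* F)) h1
    rw [hcomp, Polynomial.map_mul, Polynomial.map_C] at this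
    exact this
  have hRmir : R.mirror = C (σ u * u) * R := by
    rw [hR, mirror_mul_of_domain, h2, hmir, C_mul]
    ring
  have hv : σ (σ u * u) = σ u * u := by
    rw [map_mul, hσσ, mul_comm]
  have hv0 : σ u * u ≠ 0 := mul_ne_zero (by simpa using hu) hu
  -- down to the fixed field
  set ι : (fixF σ) →+* F := (fixF σ).subtype with hι
  have hinj : Function.Injective ι := Subtype.val_injective
  set v₀ : fixF σ := ⟨σ u * u, hv⟩ with hv₀
  have hv₀0 : v₀ ≠ 0 := by
    intro h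
    apply hv0
    have := congrArg ι h
    rw [map_zero] at this
    exact this
  have hR₀mir : R₀.mirror = C v₀ * R₀ := by
    apply Polynomial.map_injective ι hinj
    rw [← mirror_map_of_inj ι hinj, hR₀, hRmir, Polynomial.map_mul, Polynomial.map_C, hR₀]
    rfl
  have hass : Associated R₀.mirror R₀ := by
    rw [hR₀mir]
    refine (associated_isUnit_mul_left_iff ?_).mpr (Associated.refl R₀)
    exact isUnit_C.mpr (IsUnit.mk0 v₀ hv₀0)
  have hR₀deg : R₀.natDegree = 2 * d := by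
    rw [← natDegree_map_eq_of_injective hinj R₀, hR₀, hR, natDegree_mul hP_ne hPσ_ne, hdeg, hPσdeg]
    ring
  have hR₀0 : R₀.coeff 0 ≠ 0 := by
    intro h
    have h3 : R.coeff 0 = 0 := by
      rw [← hR₀, coeff_map, h, map_zero]
    rw [hR, mul_coeff_zero, hPσ, coeff_map] at h3
    rcases mul_eq_zero.mp h3 with h4 | h4
    · exact h0 h4
    · exact h0 (by simpa using h4)
  haveI : Fintype (fixF σ) := Fintype.ofFinite _
  obtain ⟨N, hN1, hNb, hdvd⟩ :=
    Cfsg.Agent.Lib.Helper24.EOrdP6.poly_order_even R₀ d (by omega) hR₀deg hR₀0 hass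
  -- numerics
  set a := Fintype.card (fixF σ) with ha
  have ha2 : 2 ≤ a := Fintype.one_lt_card
  have hq : a ^ 2 = Fintype.card F := by
    have := hFX1 σ
    rwa [hσ, Nat.card_eq_fintype_card] at this
  have hbound : 2 * ((Fintype.card F - 1) * N) ≤ Fintype.card F ^ d - 1 := by
    have hfac : a ^ 2 - 1 = (a + 1) * (a - 1) := sq_sub_one_fac a (by omega)
    have hnum := num_pul a d ha2 hd (by
      rintro ⟨h3, h2⟩
      apply hex
      refine ⟨h3, ?_⟩
      rw [← hq, h2]
      norm_num)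
    rw [← hq, hfac]
    have : 2 * ((a + 1) * (a - 1) * N) ≤ 2 * (a + 1) * a ^ (d + 1) := by
      calc 2 * ((a + 1) * (a - 1) * N) = 2 * (a + 1) * ((a - 1) * N) := by ring
        _ ≤ 2 * (a + 1) * a ^ (d + 1) := Nat.mul_le_mul_left _ hNb
    omega
  have hPR : P ∣ R := Dvd.intro _ rfl
  rcases hdvd with h | h
  · refine ⟨N, 1, hN1, hbound, ?_⟩
    have := Polynomial.map_dvd ι h
    rw [hR₀] at this
    simp only [Polynomial.map_sub, Polynomial.map_pow, Polynomial.map_X, Polynomial.map_one] at this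
    rw [C_1]
    exact dvd_trans hPR this
  · refine ⟨N, -1, hN1, hbound, ?_⟩
    have := Polynomial.map_dvd ι h
    rw [hR₀] at this
    simp only [Polynomial.map_add, Polynomial.map_pow, Polynomial.map_X, Polynomial.map_one] at this
    rw [C_neg, C_1, sub_neg_eq_add]
    exact dvd_trans hPR this

/-- (PU-L) -/
theorem srecip_bound_large (σ : F ≃+* F) (hσ : orderOf σ = 2) (P : F[X]) (hP : P.Monic) (d : ℕ)
    (hdeg : P.natDegree = d) (hd : 3 ≤ d) (h0 : P.coeff 0 ≠ 0) (hrec : IsSRecip σ P)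
    (hex : ¬ (d = 3 ∧ Fintype.card F = 4)) :
    ∃ (j : ℕ) (c : F), 1 ≤ j ∧ 2 * ((Fintype.card F - 1) * j) ≤ Fintype.card F ^ d - 1 ∧
      P ∣ X ^ j - C c :=
  srecip_bound_large_of (fun τ => Cfsg.Agent.Lib.Helper29.AutPSLFX1.card_fixF_pow τ)
    (fun τ Q h => Cfsg.Agent.Lib.Helper29.AutPSLFX2.exists_map_fixF τ Q h)
    σ hσ P hP d hdeg hd h0 hrec hex

end Cfsg.Agent.Lib.Helper19.AutPSLPUL
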