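/-
helper19: S2262 leaves TW (twisted norms; pure group theory).
-/
import Cfsg.Agent.Lib.Helper19.AutPSLDefs

set_option autoImplicit false

namespace Cfsg.Agent.Lib.Helper19.AutPSLTW

open Cfsg.Agent.Lib.Helper19.AutPSL

variable {Γ A : Type*} [Group Γ] [Group A]

theorem twN_zero (θ : Γ →* Γ) (g : Γ) : twN θ 0 g = 1 := rfl

theorem twN_succ (θ : Γ →* Γ) (k : ℕ) (g : Γ) : twN θ (k + 1) g = g * θ (twN θ k g) := rfl

/-- (TW1) the other recursion. -/
theorem twN_succ' (θ : Γ →* Γ) (k : ℕ) (g : Γ) :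
    twN θ (k + 1) g = twN θ k g * (θ^[k]) g := by
  induction k with
  | zero =>
    rw [twN_succ, twN_zero, map_one, mul_one, one_mul]
    rfl
  | succ k ih =>
    rw [twN_succ θ (k + 1), ih, map_mul, ← mul_assoc, ← twN_succ, Function.iterate_succ_apply', ih]

/-- (TW2) if `θ^m = 1` then `θ` moves the twisted norm to its conjugate by `g`. -/
theorem map_twN (θ : Γ →* Γ) (m : ℕ) (hθ : ∀ x, (θ^[m]) x = x) (g : Γ) :
    θ (twN θ m g) = g⁻¹ * twN θ m g * g := by
  have h1 : g * θ (twN θ m g) = twN θ m g * g := by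
    rw [← twN_succ, twN_succ', hθ]
  rw [mul_assoc, ← h1, inv_mul_cancel_left]

/-- (TW3) powers in a "semidirect product". -/
theorem mul_pow_eq_twN (c : Γ →* A) (t : A) (θ : Γ →* Γ)
    (h : ∀ x, t * c x = c (θ x) * t) (g : Γ) (k : ℕ) :
    (c g * t) ^ k = c (twN θ k g) * t ^ k := by
  induction k with
  | zero => rw [pow_zero, pow_zero, twN_zero, map_one, mul_one]
  | succ k ih =>
    rw [pow_succ', ih, twN_succ, map_mul, pow_succ']
    rw [mul_assoc (c g) t, ← mul_assoc t, h, mul_assoc, mul_assoc]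

end Cfsg.Agent.Lib.Helper19.AutPSLTW
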