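/-
helper19: S2262 assembly: every automorphism of `PSL_d(q)` has order at most `(q^d - 1)/(q - 1)`,
and this order is attained.  Leaves: see `notes/S2262_leaves.lean`.
-/
import Cfsg.Agent.Lib.Helper19.AutPSLDefs
import Cfsg.Agent.Lib.Helper19.AutPSLTW
import Cfsg.Agent.Lib.Helper19.AutPSLTH
import Cfsg.Agent.Lib.Helper19.AutPSLCH
import Cfsg.Agent.Lib.Helper19.AutPSLCH67
import Cfsg.Agent.Lib.Helper19.AutPSLPOL
import Cfsg.Agent.Lib.Helper19.AutPSLPUL
import Cfsg.Agent.Lib.Helper29.AutPSLFX1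
import Cfsg.Agent.Lib.Helper17.AutPSLPF
import Cfsg.Agent.Lib.Helper26.AutPSLPO3
import Cfsg.Agent.Lib.Helper20.AutPSLNF
import Cfsg.Agent.Lib.Helper20.AutPSLN2
import Cfsg.Agent.Lib.Helper5.AutPSLPO42
import Cfsg.Agent.Lib.Helper5.AutPSLPO52
import Cfsg.Agent.Lib.Helper5.AutPSLPO33
import Cfsg.Agent.Lib.Helper29.AutPSLPU34
import Cfsg.Agent.Lib.Helper18.PSLnMain
import Cfsg.Agent.Lib.Helper13.PGLOrder

set_option autoImplicit false

namespace Cfsg.Agent.Lib.Helper19.AutPSLMain

open Matrix Polynomial Cfsg.Agent.Lib.Helper18.PSLnAut Cfsg.Agent.Lib.Helper19.AutPSL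
open Cfsg.Agent.Lib.Helper19.AutPSLTW
  Cfsg.Agent.Lib.Helper19.AutPSLTH
  Cfsg.Agent.Lib.Helper19.AutPSLCH
  Cfsg.Agent.Lib.Helper19.AutPSLCH67
  Cfsg.Agent.Lib.Helper19.AutPSLPOL
  Cfsg.Agent.Lib.Helper19.AutPSLPUL
  Cfsg.Agent.Lib.Helper29.AutPSLFX1
  Cfsg.Agent.Lib.Helper17.AutPSLPF
  Cfsg.Agent.Lib.Helper26.AutPSLPO3
  Cfsg.Agent.Lib.Helper20.AutPSLNF
  Cfsg.Agent.Lib.Helper20.AutPSLN2
  Cfsg.Agent.Lib.Helper5.AutPSLPO42
  Cfsg.Agent.Lib.Helper5.AutPSLPO52
  Cfsg.Agent.Lib.Helper5.AutPSLPO33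
  Cfsg.Agent.Lib.Helper29.AutPSLPU34

section ASM

variable {n : ℕ} {F : Type*} [Field F] [Fintype F]

/-- the order bound from the data -/
theorem orderOf_le_of_data (hn : 2 ≤ n) (φ : MulAut (ProjectiveSpecialLinearGroup (Fin n) F))
    (g : GL (Fin n) F) (t : MulAut (ProjectiveSpecialLinearGroup (Fin n) F))
    (θ : GL (Fin n) F →* GL (Fin n) F) (m : ℕ) (hφ : φ = conjAHom g * t)
    (hcomm : ∀ x, t * conjAHom x = conjAHom (θ x) * t) (htm : t ^ m = 1) (j : ℕ) (c : F)
    (hdvd : ((twN θ m g : GL (Fin n) F) : Matrix (Fin n) (Fin n) F).charpoly ∣ X ^ j - C c)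
    (hm : 1 ≤ m) (hj : 1 ≤ j) : orderOf φ ≤ m * j := by
  have h1 : φ ^ m = conjAHom (twN θ m g) := by
    rw [hφ, mul_pow_eq_twN conjAHom t θ hcomm g m, htm, mul_one]
  have h2 : φ ^ (m * j) = 1 := by
    rw [pow_mul, h1, conjAHom_pow_eq_one hn _ j c hdvd]
  exact Nat.le_of_dvd (Nat.mul_pos hm hj) (orderOf_dvd_of_pow_eq_one h2)

/-- the characteristic polynomial of the twisted norm is `θ`-invariant -/
theorem charpoly_map_twN (g : GL (Fin n) F) (θ : GL (Fin n) F →* GL (Fin n) F) (m : ℕ)
    (hθ : ∀ x, (θ^[m]) x = x) :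
    ((θ (twN θ m g) : GL (Fin n) F) : Matrix (Fin n) (Fin n) F).charpoly =
      ((twN θ m g : GL (Fin n) F) : Matrix (Fin n) (Fin n) F).charpoly := by
  rw [map_twN θ m hθ g, charpoly_conj]

theorem charpoly_gl_natDegree (L : GL (Fin n) F) :
    ((L : Matrix (Fin n) (Fin n) F).charpoly).natDegree = n := by
  rw [Matrix.charpoly_natDegree_eq_dim, Fintype.card_fin]

omit [Fintype F] in
theorem ringAut_orderOf_pos [Finite F] (σ : F ≃+* F) : 0 < orderOf σ := by
  have : Finite (F ≃+* F) := Finite.of_injective (fun σ : F ≃+* F => (σ : F → F))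
    DFunLike.coe_injective
  exact orderOf_pos σ

theorem two_le_card : 2 ≤ Fintype.card F := Fintype.one_lt_card

/-- type F: the cosets of the field automorphisms -/
theorem bound_field (hn : 2 ≤ n) (h24 : ¬ (n = 2 ∧ Fintype.card F = 4)) (g : GL (Fin n) F)
    (σ : F ≃+* F) :
    (Fintype.card F - 1) *
        orderOf (conjAHom g * fieldAHom σ : MulAut (ProjectiveSpecialLinearGroup (Fin n) F)) ≤
      Fintype.card F ^ n - 1 := by
  set e := orderOf σ with he
  have he1 : 1 ≤ e := ringAut_orderOf_pos σ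
  set θ : GL (Fin n) F →* GL (Fin n) F := mapGL σ with hθdef
  have hθ : ∀ x, (θ^[e]) x = x := by
    intro x
    rw [hθdef, mapGL_iterate, he, pow_orderOf_eq_one, mapGL_one]
  have htm : (fieldAHom σ : MulAut (ProjectiveSpecialLinearGroup (Fin n) F)) ^ e = 1 := by
    rw [← map_pow, he, pow_orderOf_eq_one, map_one]
  set L : GL (Fin n) F := twN θ e g with hL
  set P := (L : Matrix (Fin n) (Fin n) F).charpoly with hPdef
  have hPσ : P.map (σ : F →+* F) = P := by
    rw [hPdef, ← charpoly_mapGL, hL]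
    exact charpoly_map_twN g θ e hθ
  have hdeg : P.natDegree = n := charpoly_gl_natDegree L
  obtain ⟨a, j, c, ha, hae, hj, hbound, hdvd⟩ := field_bound σ P (Matrix.charpoly_monic _)
    (by rw [hdeg]; omega) (charpoly_coeff_zero_ne L) hPσ
  rw [hdeg] at hbound
  have hord := orderOf_le_of_data (by omega) _ g (fieldAHom σ) θ e rfl
    (fieldAHom_mul_conjAHom σ) htm j c hdvd he1 hj
  rw [← he] at hae
  rcases Nat.lt_or_ge e 2 with h1 | h2
  · have e1 : e = 1 := by omega
    rw [e1, pow_one] at hae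
    rw [e1, one_mul] at hord
    rw [← hae]
    exact le_trans (Nat.mul_le_mul_left _ hord) hbound
  · have hnum := num_field a e n j ha h2 hn (by rw [hae]; exact h24) hbound
    rw [hae] at hnum
    exact le_trans (Nat.mul_le_mul_left _ hord) hnum

/-- (PO) all self-reciprocal polynomials of degree at least three -/
theorem recip_bound (P : F[X]) (hP : P.Monic) (d : ℕ) (hdeg : P.natDegree = d) (hd : 3 ≤ d)
    (h0 : P.coeff 0 ≠ 0) (hrec : IsRecip P) (h32 : ¬ (d = 3 ∧ Fintype.card F = 2)) :
    ∃ (j : ℕ) (c : F), 1 ≤ j ∧ 2 * ((Fintype.card F - 1) * j) ≤ Fintype.card F ^ d - 1 ∧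
      P ∣ X ^ j - C c := by
  have hq2 : 2 ≤ Fintype.card F := two_le_card
  rcases Nat.lt_or_ge d 4 with h3 | h4
  · obtain rfl : d = 3 := by omega
    rcases Nat.lt_or_ge (Fintype.card F) 4 with hq | hq
    · have hq3 : Fintype.card F = 3 := by
        have : Fintype.card F ≠ 2 := fun h => h32 ⟨rfl, h⟩
        omega
      exact recip_bound_33 P hP hdeg h0 hrec hq3
    · exact recip_bound_three P hP hdeg h0 hrec hq
  · by_cases hex : (d = 4 ∨ d = 5) ∧ Fintype.card F = 2
    · obtain ⟨h45, hq⟩ := hex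
      rcases h45 with rfl | rfl
      · exact recip_bound_42 P hP hdeg h0 hrec hq
      · exact recip_bound_52 P hP hdeg h0 hrec hq
    · exact recip_bound_large P hP d hdeg h4 h0 hrec hex

/-- (PU) all `σ`-reciprocal polynomials of degree at least three, `σ` an involution -/
theorem srecip_bound (σ : F ≃+* F) (hσ : orderOf σ = 2) (P : F[X]) (hP : P.Monic) (d : ℕ)
    (hdeg : P.natDegree = d) (hd : 3 ≤ d) (h0 : P.coeff 0 ≠ 0) (hrec : IsSRecip σ P) :
    ∃ (j : ℕ) (c : F), 1 ≤ j ∧ 2 * ((Fintype.card F - 1) * j) ≤ Fintype.card F ^ d - 1 ∧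
      P ∣ X ^ j - C c := by
  by_cases hex : d = 3 ∧ Fintype.card F = 4
  · obtain ⟨rfl, hq⟩ := hex
    exact srecip_bound_34 σ hσ P hP hdeg h0 hrec hq
  · exact srecip_bound_large σ hσ P hP d hdeg hd h0 hrec hex

omit [Fintype F] in
/-- iterates of the graph-field endomorphism -/
theorem theta_iterate (σ : F ≃+* F) (k : ℕ) (x : GL (Fin n) F) :
    (((mapGL σ).comp gtiHom : GL (Fin n) F →* GL (Fin n) F)^[k]) x =
      mapGL (σ ^ k) ((gtiHom^[k]) x) := by
  induction k generalizing x with
  | zero =>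
    show x = mapGL (σ ^ 0) x
    rw [pow_zero, mapGL_one]
  | succ k ih =>
    rw [Function.iterate_succ_apply', ih, Function.iterate_succ_apply', MonoidHom.comp_apply,
      ← mapGL_gtiHom (σ ^ k), pow_succ']
    have h : ∀ y : GL (Fin n) F, mapGL σ (mapGL (σ ^ k) y) = mapGL (σ * σ ^ k) y := by
      intro y
      apply Units.ext
      rw [mapGL_coe, mapGL_coe, mapGL_coe]
      ext i j
      rfl
    rw [h]

omit [Fintype F] in
theorem gtiHom_iterate_even (k : ℕ) (x : GL (Fin n) F) :
    ((gtiHom : GL (Fin n) F →* GL (Fin n) F)^[2 * k]) x = x := by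
  induction k with
  | zero => rfl
  | succ k ih =>
    rw [show 2 * (k + 1) = 2 * k + 2 by ring, Function.iterate_add_apply]
    show (gtiHom^[2 * k]) (gtiHom (gtiHom x)) = x
    rw [gtiHom_gtiHom, ih]

omit [Fintype F] in
theorem itAut_pow_even (k : ℕ) :
    (itAut : MulAut (ProjectiveSpecialLinearGroup (Fin n) F)) ^ (2 * k) = 1 := by
  rw [pow_mul, pow_two, itAut_mul_itAut, one_pow]

/-- graph type: the cosets of the field automorphisms times the inverse transpose -/
theorem bound_graph (hn : 3 ≤ n) (h32 : ¬ (n = 3 ∧ Fintype.card F = 2)) (g : GL (Fin n) F)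
    (σ : F ≃+* F) :
    (Fintype.card F - 1) *
        orderOf (conjAHom g * (fieldAHom σ * itAut) :
          MulAut (ProjectiveSpecialLinearGroup (Fin n) F)) ≤
      Fintype.card F ^ n - 1 := by
  set e := orderOf σ with he
  have he1 : 1 ≤ e := ringAut_orderOf_pos σ
  set t : MulAut (ProjectiveSpecialLinearGroup (Fin n) F) := fieldAHom σ * itAut with ht
  set θ : GL (Fin n) F →* GL (Fin n) F := (mapGL σ).comp gtiHom with hθdef
  have hcomm : ∀ x, t * conjAHom x = conjAHom (θ x) * t := by
    intro x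
    rw [ht, mul_assoc, itAut_mul_conjAHom, ← mul_assoc, fieldAHom_mul_conjAHom, mul_assoc]
    rfl
  -- periods
  have hper : ∀ k : ℕ, e ∣ 2 * k → t ^ (2 * k) = 1 ∧ ∀ x, (θ^[2 * k]) x = x := by
    intro k hk
    have hσk : σ ^ (2 * k) = 1 := orderOf_dvd_iff_pow_eq_one.mp hk
    constructor
    · have hc : Commute (fieldAHom σ : MulAut (ProjectiveSpecialLinearGroup (Fin n) F)) itAut :=
        fieldAHom_mul_itAut σ
      rw [ht, hc.mul_pow, itAut_pow_even, mul_one, ← map_pow, hσk, map_one]
    · intro x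
      rw [hθdef, theta_iterate, gtiHom_iterate_even, hσk, mapGL_one]
  -- the data for a period `m = 2 k`
  have hdata : ∀ k : ℕ, 1 ≤ k → e ∣ 2 * k →
      IsSRecip σ ((twN θ (2 * k) g : GL (Fin n) F) : Matrix (Fin n) (Fin n) F).charpoly ∧
      ∀ (j : ℕ) (c : F), 1 ≤ j →
        ((twN θ (2 * k) g : GL (Fin n) F) : Matrix (Fin n) (Fin n) F).charpoly ∣ X ^ j - C c →
        orderOf (conjAHom g * t) ≤ 2 * k * j := by
    intro k hk1 hk
    obtain ⟨htm, hθ⟩ := hper k hk
    constructor
    · set L : GL (Fin n) F := twN θ (2 * k) g with hL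
      have h1 := charpoly_map_twN g θ (2 * k) hθ
      rw [← hL] at h1
      have h2 : ((θ L : GL (Fin n) F) : Matrix (Fin n) (Fin n) F).charpoly =
          (((gtiHom L : GL (Fin n) F) : Matrix (Fin n) (Fin n) F).charpoly).map
            (σ : F →+* F) := by
        rw [hθdef, MonoidHom.comp_apply, charpoly_mapGL]
      obtain ⟨u, hu, h3⟩ := charpoly_gtiHom L
      rw [h2, h3, Polynomial.map_mul, Polynomial.map_C, ← mirror_map] at h1
      set Q := (L : Matrix (Fin n) (Fin n) F).charpoly with hQ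
      have hσu : (σ : F →+* F) u ≠ 0 := by simpa using hu
      refine ⟨((σ : F →+* F) u)⁻¹, inv_ne_zero hσu, ?_⟩
      have h4 : C ((σ : F →+* F) u)⁻¹ * Q = (Q.map (σ : F →+* F)).mirror := by
        conv_lhs => rw [← h1]
        rw [← mul_assoc, ← C_mul, inv_mul_cancel₀ hσu, C_1, one_mul]
      exact h4.symm
    · intro j c hj hdvd
      exact orderOf_le_of_data (by omega) _ g t θ (2 * k) rfl hcomm htm j c hdvd (by omega) hj
  have hq2 : 2 ≤ Fintype.card F := two_le_card
  -- the four cases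
  rcases Nat.even_or_odd e with heven | hodd
  · -- `e` even: `m = e`
    obtain ⟨e', he'⟩ := heven
    have he2 : e = 2 * e' := by omega
    have he'1 : 1 ≤ e' := by omega
    obtain ⟨hrec, hord⟩ := hdata e' he'1 (by rw [← he2])
    set L : GL (Fin n) F := twN θ (2 * e') g with hL
    set P := (L : Matrix (Fin n) (Fin n) F).charpoly with hPdef
    have hdeg : P.natDegree = n := charpoly_gl_natDegree L
    rcases Nat.lt_or_ge e' 2 with h1 | h2
    · -- `e = 2`
      have e'1 : e' = 1 := by omega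
      obtain ⟨j, c, hj, hbound, hdvd⟩ := srecip_bound σ (by rw [← he, he2, e'1]) P
        (Matrix.charpoly_monic _) n hdeg hn (charpoly_coeff_zero_ne L) hrec
      have := hord j c hj hdvd
      rw [e'1] at this
      calc (Fintype.card F - 1) * orderOf (conjAHom g * t)
          ≤ (Fintype.card F - 1) * (2 * 1 * j) := Nat.mul_le_mul_left _ this
        _ = 2 * ((Fintype.card F - 1) * j) := by ring
        _ ≤ _ := hbound
    · -- `e ≥ 4`
      have hP2 := map_sq_of_isSRecip σ P (Matrix.charpoly_monic _) (charpoly_coeff_zero_ne L) hrec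
      have hord2 : orderOf (σ * σ) = e' := by
        rw [← pow_two, orderOf_pow' σ (by norm_num : (2 : ℕ) ≠ 0), ← he, he2]
        rw [Nat.gcd_mul_right_left, Nat.mul_div_cancel_left _ (by norm_num : 0 < 2)]
      obtain ⟨a, j, c, ha, hae, hj, hbound, hdvd⟩ := field_bound (σ * σ) P
        (Matrix.charpoly_monic _) (by rw [hdeg]; omega) (charpoly_coeff_zero_ne L) hP2
      rw [hdeg] at hbound
      rw [hord2] at hae
      -- `a` is a square
      have ha4 : 4 ≤ a := by
        have hb := card_fixF_pow σ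
        rw [← he, he2, pow_mul] at hb
        set b := Nat.card (fixF σ) with hbdef
        have hab : a = b ^ 2 := by
          have : a ^ e' = (b ^ 2) ^ e' := by rw [hae, hb]
          exact Nat.pow_left_injective (by omega : e' ≠ 0) this
        have hb2 : 2 ≤ b := by
          by_contra hcon
          have hb1 : b ≤ 1 := by omega
          have : (b ^ 2) ^ e' ≤ 1 := by
            calc (b ^ 2) ^ e' ≤ (1 ^ 2) ^ e' :=
                  Nat.pow_le_pow_left (Nat.pow_le_pow_left hb1 2) e'
              _ = 1 := by simp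
          omega
        rw [hab]
        nlinarith
      have hnum := num_graph a e' n j ha h2 hn (Or.inr ha4) hbound
      rw [hae] at hnum
      have := hord j c hj hdvd
      calc (Fintype.card F - 1) * orderOf (conjAHom g * t)
          ≤ (Fintype.card F - 1) * (2 * e' * j) := Nat.mul_le_mul_left _ this
        _ ≤ _ := hnum
  · -- `e` odd: `m = 2 e`
    obtain ⟨hrec, hord⟩ := hdata e he1 (Dvd.intro_left 2 rfl)
    set L : GL (Fin n) F := twN θ (2 * e) g with hL
    set P := (L : Matrix (Fin n) (Fin n) F).charpoly with hPdef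
    have hdeg : P.natDegree = n := charpoly_gl_natDegree L
    rcases Nat.lt_or_ge e 2 with h1 | h2
    · -- `e = 1`: the pure graph coset
      have e1 : e = 1 := by omega
      have hσ1 : σ = 1 := orderOf_eq_one_iff.mp (by rw [← he, e1])
      have hrec' : IsRecip P := by
        obtain ⟨u, hu, h⟩ := hrec
        refine ⟨u, hu, ?_⟩
        rw [hσ1] at h
        have hid : P.map (((1 : F ≃+* F) : F ≃+* F) : F →+* F) = P := by
          ext i
          rw [Polynomial.coeff_map]
          rfl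
        rw [hid] at h
        exact h
      obtain ⟨j, c, hj, hbound, hdvd⟩ := recip_bound P (Matrix.charpoly_monic _) n hdeg hn
        (charpoly_coeff_zero_ne L) hrec' h32
      have := hord j c hj hdvd
      rw [e1] at this
      calc (Fintype.card F - 1) * orderOf (conjAHom g * t)
          ≤ (Fintype.card F - 1) * (2 * 1 * j) := Nat.mul_le_mul_left _ this
        _ = 2 * ((Fintype.card F - 1) * j) := by ring
        _ ≤ _ := hbound
    · -- `e ≥ 3` odd
      have he3 : 3 ≤ e := by
        rcases hodd with ⟨r, hr⟩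
        omega
      have hP2 := map_sq_of_isSRecip σ P (Matrix.charpoly_monic _) (charpoly_coeff_zero_ne L) hrec
      have hord2 : orderOf (σ * σ) = e := by
        rw [← pow_two, orderOf_pow' σ (by norm_num : (2 : ℕ) ≠ 0), ← he]
        have hg : Nat.gcd e 2 = 1 := by
          rcases hodd with ⟨r, hr⟩
          rw [hr]
          simp
        rw [hg, Nat.div_one]
      obtain ⟨a, j, c, ha, hae, hj, hbound, hdvd⟩ := field_bound (σ * σ) P
        (Matrix.charpoly_monic _) (by rw [hdeg]; omega) (charpoly_coeff_zero_ne L) hP2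
      rw [hdeg] at hbound
      rw [hord2] at hae
      have hnum := num_graph a e n j ha h2 hn (Or.inl he3) hbound
      rw [hae] at hnum
      have := hord j c hj hdvd
      calc (Fintype.card F - 1) * orderOf (conjAHom g * t)
          ≤ (Fintype.card F - 1) * (2 * e * j) := Nat.mul_le_mul_left _ this
        _ ≤ _ := hnum

end ASM

/-- **S2262**. -/
theorem aut_psl_main {F : Type*} [Field F] [Fintype F] (d : ℕ) (hd : 2 ≤ d)
    (h2 : d = 2 → 4 ≤ Fintype.card F) (h24 : ¬ (d = 2 ∧ Fintype.card F = 4)) (h32 : ¬ (d = 3 ∧ Fintype.card F = 2)) :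
    (∀ φ : MulAut (Matrix.ProjectiveSpecialLinearGroup (Fin d) F),
      (Fintype.card F - 1) * orderOf φ ≤ Fintype.card F ^ d - 1) ∧
    (∃ φ : MulAut (Matrix.ProjectiveSpecialLinearGroup (Fin d) F),
      (Fintype.card F - 1) * orderOf φ = Fintype.card F ^ d - 1) := by
  classical
  obtain ⟨p, hp⟩ := CharP.exists F
  haveI : Fact p.Prime := ⟨CharP.char_is_prime F p⟩
  constructor
  · intro φ
    rcases Nat.lt_or_ge d 3 with h | h
    · obtain rfl : d = 2 := by omega
      obtain ⟨g, σ, hg⟩ := aut_decomp_two p φ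
      have hφ : φ = conjAHom g * fieldAHom σ := by
        ext x
        rw [hg x]
        rfl
      rw [hφ]
      exact bound_field hd h24 g σ
    · obtain ⟨g, σ, γ, hγ, hg⟩ := aut_decomp_three p h φ
      rcases hγ with rfl | rfl
      · have hφ : φ = conjAHom g * fieldAHom σ := by
          ext x
          rw [hg x]
          rfl
        rw [hφ]
        exact bound_field hd h24 g σ
      · have hφ : φ = conjAHom g * (fieldAHom σ * itAut) := by
          ext x
          rw [hg x]
          rfl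
        rw [hφ]
        exact bound_graph h h32 g σ
  · obtain ⟨gb, hgb⟩ := Cfsg.Agent.Lib.Helper13.exists_pgl_orderOf_eq (F := F) (d := d) (by omega)
    obtain ⟨g, rfl⟩ := QuotientGroup.mk_surjective gb
    refine ⟨conjAHom g, ?_⟩
    have hord : orderOf (conjAHom g : MulAut (ProjectiveSpecialLinearGroup (Fin d) F)) =
        orderOf (QuotientGroup.mk g : GL (Fin d) F ⧸ Subgroup.center (GL (Fin d) F)) := by
      apply orderOf_eq_orderOf_iff.mpr
      intro k
      rw [← map_pow, ← QuotientGroup.mk_pow, QuotientGroup.eq_one_iff, ← ker_conjAHom hd,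
        MonoidHom.mem_ker]
    rw [hord]
    exact hgb

end Cfsg.Agent.Lib.Helper19.AutPSLMain
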