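import Mathlib
import Cfsg.Prelude.Def_OddOrderLocal
import Cfsg.Agent.Lib.Helper8.Conj
import Cfsg.Agent.Lib.Helper9.FittingHall
import Cfsg.Agent.Lib.Helper9.TypeP
import Cfsg.Agent.Lib.Helper12.CNMinF

/-!
helper19: general lemmas on `fittingHallOf` used for the Type I–V assemblies (B&G Section 16).
-/

set_option autoImplicit false
open Subgroup

namespace Cfsg.Agent.Lib.Helper19.BGTyp

open Cfsg.Agent.Lib.Helper8
open Cfsg.Agent.Lib.Helper12.CNMin (fittingHallOf_le fittingHallOf_isNilpotent le_fittingHallOf)

variable {G : Type*} [Group G]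

/-- relIndex is invariant under simultaneous conjugation. -/
theorem relIndex_map_conj (A B : Subgroup G) (g : G) :
    (A.map (MulAut.conj g).toMonoidHom).relIndex (B.map (MulAut.conj g).toMonoidHom) = A.relIndex B := by
  have := Subgroup.relIndex_map_map_of_injective A B (f := (MulAut.conj g).toMonoidHom)
    (MulAut.conj g).injective
  exact this

/-- `(card M_F)` is coprime to `|M : M_F|` (as subgroups of `G`). -/
theorem coprime_card_fittingHallOf_relIndex [Finite G] (M : Subgroup G) :
    (Nat.card (Cfsg.fittingHallOf M)).Coprime ((Cfsg.fittingHallOf M).relIndex M) := by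
  have h := Cfsg.Agent.Lib.Helper9.fittingHall_coprime ↥M
  have h1 : Nat.card (Cfsg.fittingHallOf M) = Nat.card (Cfsg.fittingHall ↥M) :=
    (Nat.card_congr ((Cfsg.fittingHall ↥M).equivMapOfInjective M.subtype
      M.subtype_injective).toEquiv).symm
  have h2 : (Cfsg.fittingHallOf M).relIndex M = (Cfsg.fittingHall ↥M).index := by
    unfold Cfsg.fittingHallOf Subgroup.relIndex
    rw [Subgroup.subgroupOf, Subgroup.comap_map_eq_self_of_injective M.subtype_injective]
  rw [h1, h2]; exact h

/-- `M_F` of a normal subgroup `N` of `M` is normal in `M` (it is characteristic in `N`). -/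
theorem le_normalizer_fittingHallOf_of_le [Finite G] {N M : Subgroup G}
    (hn : M ≤ normalizer (N : Set G)) :
    M ≤ normalizer ((Cfsg.fittingHallOf N : Subgroup G) : Set G) := by
  intro m hm
  have hmN : N.map (MulAut.conj m).toMonoidHom = N := mem_normalizer_iff_map_conj.mp (hn hm)
  rw [mem_normalizer_iff_map_conj]
  apply map_conj_eq_of_le
  set F := Cfsg.fittingHallOf N with hF
  have hFN : F ≤ N := fittingHallOf_le N
  apply le_fittingHallOf N
  · calc F.map (MulAut.conj m).toMonoidHom ≤ N.map (MulAut.conj m).toMonoidHom :=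
        Subgroup.map_mono hFN
      _ = N := hmN
  · intro n hn'
    rw [mem_normalizer_iff_map_conj, map_conj_map_conj]
    have h1 : n * m = m * (m⁻¹ * n * m) := by group
    rw [h1, ← map_conj_map_conj]
    have h2 : m⁻¹ * n * m ∈ N := by
      have : n ∈ N.map (MulAut.conj m).toMonoidHom := by rw [hmN]; exact hn'
      exact mem_map_conj.mp this
    have h3 : m⁻¹ * n * m ∈ normalizer (F : Set G) :=
      Cfsg.Agent.Lib.Helper12.CNMin.le_normalizer_fittingHallOf N h2
    rw [mem_normalizer_iff_map_conj.mp h3]
  · haveI := fittingHallOf_isNilpotent N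
    exact Group.nilpotent_of_mulEquiv
      (F.equivMapOfInjective (MulAut.conj m).toMonoidHom (MulAut.conj m).injective)
  · rw [card_map_conj]
    have := relIndex_map_conj F N m
    rw [hmN] at this
    rw [this]
    exact coprime_card_fittingHallOf_relIndex N

/-- If `N ⊴ M` contains `M_F` and has index in `M` coprime to its order, then `N_F = M_F`. -/
theorem fittingHallOf_eq_of_normal [Finite G] {N M : Subgroup G} (hNM : N ≤ M)
    (hn : M ≤ normalizer (N : Set G)) (hcop : (Nat.card N).Coprime (N.relIndex M))
    (hle : Cfsg.fittingHallOf M ≤ N) : Cfsg.fittingHallOf N = Cfsg.fittingHallOf M := by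
  apply le_antisymm
  · apply le_fittingHallOf M _ ((fittingHallOf_le N).trans hNM)
      (le_normalizer_fittingHallOf_of_le hn) (fittingHallOf_isNilpotent N)
    have h1 : (Cfsg.fittingHallOf N).relIndex M =
        (Cfsg.fittingHallOf N).relIndex N * N.relIndex M :=
      (Subgroup.relIndex_mul_relIndex _ _ _ (fittingHallOf_le N) hNM).symm
    rw [h1]
    apply Nat.Coprime.mul_right (coprime_card_fittingHallOf_relIndex N)
    exact Nat.Coprime.coprime_dvd_left (Subgroup.card_dvd_of_le (fittingHallOf_le N)) hcop
  · apply le_fittingHallOf N _ hle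
      (hNM.trans (Cfsg.Agent.Lib.Helper12.CNMin.le_normalizer_fittingHallOf M))
      (fittingHallOf_isNilpotent M)
    have h1 : (Cfsg.fittingHallOf M).relIndex N * N.relIndex M =
        (Cfsg.fittingHallOf M).relIndex M :=
      Subgroup.relIndex_mul_relIndex _ _ _ hle hNM
    exact Nat.Coprime.coprime_dvd_right (Dvd.intro _ h1) (coprime_card_fittingHallOf_relIndex M)

/-- `fittingHall ↥N` as the `subgroupOf` of `fittingHallOf N`. -/
theorem fittingHall_eq_subgroupOf (N : Subgroup G) :
    Cfsg.fittingHall ↥N = (Cfsg.fittingHallOf N).subgroupOf N := by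
  unfold Cfsg.fittingHallOf Subgroup.subgroupOf
  rw [Subgroup.comap_map_eq_self_of_injective N.subtype_injective]

theorem mem_fittingHall_iff {N : Subgroup G} {x : ↥N} :
    x ∈ Cfsg.fittingHall ↥N ↔ (x : G) ∈ Cfsg.fittingHallOf N := by
  rw [fittingHall_eq_subgroupOf, Subgroup.mem_subgroupOf]

end Cfsg.Agent.Lib.Helper19.BGTyp
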