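import Mathlib
import Cfsg.Prelude.Def_OddOrderLocal
import Cfsg.Agent.Lib.Helper19.BGTyp1
import Cfsg.Agent.Lib.Helper1.BGZhat
import Cfsg.Agent.Lib.Helper1.BGEmb2

/-!
helper19: B&G Section 16, the type-P data `(K, U_P, K*)` of a maximal subgroup `M` with `K ≠ 1`,
in hypothesis form on the verbatim conclusions of S1354, S1356, S1364, S1365, S1370.
-/

set_option autoImplicit false
open Subgroup

namespace Cfsg.Agent.Lib.Helper19.BGTyp

open Cfsg.Agent.Lib.Helper8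
open Cfsg.Agent.Lib.Helper1.BGZhat (exists_mul_of_mem_sup exists_mul_of_mem_sup' K_inf_sigmaCore
  K_inf_U_sup_sigmaCore coprime_card_K_sigmaCore)

variable {G : Type*} [Group G]

/-- `K* = M_σ ∩ C_G(K)` -/
abbrev Ks (M K : Subgroup G) : Subgroup G := Cfsg.sigmaCore M ⊓ Subgroup.centralizer (K : Set G)

/-- conclusion of S1354 -/
def H54 (M K : Subgroup G) : Prop :=
  Cfsg.sigmaCore M ⊓ Subgroup.centralizer (K : Set G) ≠ ⊥ ∧
    (K ≠ ⊥ → ∀ k ∈ K, k ≠ 1 →
      M ⊓ Subgroup.centralizer ({k} : Set G) = K ⊔ (Cfsg.sigmaCore M ⊓ Subgroup.centralizer (K : Set G)))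

/-- conclusion of S1356 -/
def H56 (M : Subgroup G) : Prop :=
  ⁅⁅M, M⁆, ⁅M, M⁆⁆ ≤ Cfsg.fittingOf M ∧
    Cfsg.fittingOf M = (M ⊓ Subgroup.centralizer (Cfsg.fittingHallOf M : Set G)) ⊔ Cfsg.fittingHallOf M ∧
    ((Cfsg.kappa M).Nonempty → Cfsg.fittingOf M ≤ ⁅M, M⁆)

/-- conclusion of S1364 -/
def H64 (M K : Subgroup G) : Prop :=
  IsCyclic ↥(Cfsg.sigmaCore M ⊓ Subgroup.centralizer (K : Set G)) ∧
    (Cfsg.sigmaCore M ⊓ Subgroup.centralizer (K : Set G)) ≠ ⊥ ∧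
    (Cfsg.sigmaCore M ⊓ Subgroup.centralizer (K : Set G)) ≤ Cfsg.fittingHallOf M ∧
    ¬ IsCyclic (Cfsg.fittingHallOf M)

/-- conclusion of S1365 -/
def H65 (M K U : Subgroup G) : Prop :=
  ⁅M, M⁆ = U ⊔ Cfsg.sigmaCore M ∧
    (Cfsg.sigmaCore M ⊓ Subgroup.centralizer (K : Set G)) ≤ ⁅⁅M, M⁆, ⁅M, M⁆⁆

/-- conclusion of S1370 -/
def H70 (M K : Subgroup G) : Prop :=
  Cfsg.IsTISubset ((↑(K ⊔ (Cfsg.sigmaCore M ⊓ Subgroup.centralizer (K : Set G))) : Set G) \
      ((K : Set G) ∪ ↑(Cfsg.sigmaCore M ⊓ Subgroup.centralizer (K : Set G)))) ∧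
    Subgroup.normalizer ((↑(K ⊔ (Cfsg.sigmaCore M ⊓ Subgroup.centralizer (K : Set G))) : Set G) \
      ((K : Set G) ∪ ↑(Cfsg.sigmaCore M ⊓ Subgroup.centralizer (K : Set G)))) =
      K ⊔ (Cfsg.sigmaCore M ⊓ Subgroup.centralizer (K : Set G))

theorem commutator_self_le (M : Subgroup G) : ⁅M, M⁆ ≤ M :=
  Subgroup.commutator_le.mpr (fun a ha b hb =>
    M.mul_mem (M.mul_mem (M.mul_mem ha hb) (M.inv_mem ha)) (M.inv_mem hb))

theorem coprime_card_K_relIndex {M K : Subgroup G} (hK : Cfsg.IsPiHallOf (Cfsg.kappa M) K M) :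
    (Nat.card K).Coprime (K.relIndex M) := by
  apply Nat.coprime_of_dvd
  intro p hp h1 h2
  exact hK.2.2 p hp (hK.2.1 p hp h1) h2

theorem sigmaCore_le (M : Subgroup G) : Cfsg.sigmaCore M ≤ M := Subgroup.map_subtype_le _

theorem le_normalizer_sigmaCore (M : Subgroup G) :
    M ≤ Subgroup.normalizer ((Cfsg.sigmaCore M : Subgroup G) : Set G) :=
  Cfsg.Agent.Lib.Helper2.BGCor.le_normalizer_sigmaCore M

/-- `M' = U M_σ` and `K` are complements in `M`. -/
theorem isComplIn_derived_K {M K U : Subgroup G}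
    (hHall : Cfsg.IsPiHallOf (Cfsg.sigma M) (Cfsg.sigmaCore M) M)
    (hKU : Cfsg.IsSigmaDecomposition M K U) (h65 : ⁅M, M⁆ = U ⊔ Cfsg.sigmaCore M) :
    Cfsg.IsComplIn ⁅M, M⁆ K M := by
  obtain ⟨hUM, hKσM, hUK, hprod⟩ := hKU.compl
  have hKM : K ≤ M := hKU.hall.1
  refine ⟨commutator_self_le M, hKM, ?_, ?_⟩
  · rw [h65, inf_comm]; exact K_inf_U_sup_sigmaCore hHall hKU
  · intro m hm
    obtain ⟨u, hu, c, hc, rfl⟩ := hprod m hm
    have hKn : K ≤ Subgroup.normalizer ((Cfsg.sigmaCore M : Subgroup G) : Set G) :=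
      hKM.trans (le_normalizer_sigmaCore M)
    obtain ⟨s, hs, k, hk, rfl⟩ := exists_mul_of_mem_sup' hKn (by rwa [sup_comm] at hc)
    refine ⟨u * s, ?_, k, hk, by group⟩
    rw [h65]
    exact Subgroup.mul_mem _ (Subgroup.mem_sup_left hu) (Subgroup.mem_sup_right hs)

theorem mem_centralizer_comm {K : Subgroup G} {a b : G} (ha : a ∈ K)
    (hb : b ∈ Subgroup.centralizer (K : Set G)) : a * b = b * a :=
  (Subgroup.mem_centralizer_iff.mp hb a ha)

/-- `C_{M'}(x) = K*` for `x ∈ K^#`. -/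
theorem derived_inf_centralizer {M K U : Subgroup G}
    (hHall : Cfsg.IsPiHallOf (Cfsg.sigma M) (Cfsg.sigmaCore M) M)
    (hKU : Cfsg.IsSigmaDecomposition M K U) (hK1 : K ≠ ⊥) (h54 : H54 M K)
    (h65 : ⁅M, M⁆ = U ⊔ Cfsg.sigmaCore M) :
    ∀ x ∈ K, x ≠ 1 → ⁅M, M⁆ ⊓ Subgroup.centralizer ({x} : Set G) = Ks M K := by
  intro x hx hx1
  have hc := h54.2 hK1 x hx hx1
  have hcompl := isComplIn_derived_K hHall hKU h65
  have hKsM' : Ks M K ≤ ⁅M, M⁆ := by
    rw [h65]; exact inf_le_left.trans le_sup_right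
  apply le_antisymm
  · intro y hy
    have hyM : y ∈ M ⊓ Subgroup.centralizer ({x} : Set G) :=
      ⟨commutator_self_le M hy.1, hy.2⟩
    rw [hc] at hyM
    have hKn : K ≤ Subgroup.normalizer ((Ks M K : Subgroup G) : Set G) := by
      intro k hk
      rw [Subgroup.mem_normalizer_iff]
      intro s
      have hcomm : ∀ s ∈ Ks M K, k * s * k⁻¹ = s := by
        intro s hs
        have := mem_centralizer_comm hk hs.2
        rw [this]; group
      constructor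
      · intro hs; rw [hcomm s hs]; exact hs
      · intro hs
        have h2 := hcomm _ hs
        have h3 : k * s * k⁻¹ = s := by
          have : k * (k * s * k⁻¹) * k⁻¹ = k * s * k⁻¹ := h2
          have h4 : k * (k * s * k⁻¹) * k⁻¹ = k * (k * s * k⁻¹) * k⁻¹ := rfl
          calc k * s * k⁻¹ = k⁻¹ * (k * (k * s * k⁻¹) * k⁻¹) * k := by group
            _ = k⁻¹ * (k * s * k⁻¹) * k := by rw [this]
            _ = s := by group
        rw [← h3]; exact hs
    obtain ⟨k, hk, s, hs, rfl⟩ := exists_mul_of_mem_sup hKn hyM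
    have hk1 : k ∈ ⁅M, M⁆ ⊓ K := by
      refine ⟨?_, hk⟩
      have : k = (k * s) * s⁻¹ := by group
      rw [this]
      exact Subgroup.mul_mem _ hy.1 (Subgroup.inv_mem _ (hKsM' hs))
    rw [hcompl.2.2.1, Subgroup.mem_bot] at hk1
    rw [hk1, one_mul]; exact hs
  · intro y hy
    refine ⟨hKsM' hy, ?_⟩
    show y ∈ Subgroup.centralizer ({x} : Set G)
    rw [Subgroup.mem_centralizer_singleton_iff]
    exact (mem_centralizer_comm hx hy.2).symm

/-- `K`, `K*` form a self-normalizing cyclic pair. -/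
theorem selfNormalizing [Finite G] {M K : Subgroup G}
    (hHall : Cfsg.IsPiHallOf (Cfsg.sigma M) (Cfsg.sigmaCore M) M)
    (hKc : IsCyclic K) (hK : Cfsg.IsPiHallOf (Cfsg.kappa M) K M) (hK1 : K ≠ ⊥)
    (h54 : H54 M K) (h64 : H64 M K) (h70 : H70 M K) :
    Cfsg.IsSelfNormalizingCyclic K (Ks M K) := by
  have hcomm : ∀ a ∈ K, ∀ b ∈ Ks M K, a * b = b * a := fun a ha b hb => mem_centralizer_comm ha hb.2
  have hcyc : IsCyclic ↥(K ⊔ Ks M K) := by
    apply Cfsg.Agent.Lib.Helper1.BGEmb.isCyclic_sup_of_coprime hKc h64.1 _ hcomm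
    exact Nat.Coprime.coprime_dvd_right (Subgroup.card_dvd_of_le inf_le_left)
      (coprime_card_K_sigmaCore hHall hK)
  refine ⟨hK1, h54.1, ?_, hcomm, hcyc, ?_⟩
  · have := K_inf_sigmaCore hHall hK
    apply le_bot_iff.mp
    rw [← this]
    exact inf_le_inf_left K inf_le_left
  · intro X hX hXne
    have hab : ∀ a ∈ K ⊔ Ks M K, ∀ b ∈ K ⊔ Ks M K, a * b = b * a := by
      intro a ha b hb
      obtain ⟨c, hc⟩ := hcyc.exists_zpow_surjective
      obtain ⟨i, hi⟩ := hc ⟨a, ha⟩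
      obtain ⟨j, hj⟩ := hc ⟨b, hb⟩
      have h1 : (⟨a, ha⟩ : ↥(K ⊔ Ks M K)) * ⟨b, hb⟩ = ⟨b, hb⟩ * ⟨a, ha⟩ := by
        rw [← hi, ← hj]
        exact (Commute.zpow_zpow_self c i j).eq
      exact congrArg Subtype.val h1
    apply le_antisymm
    · intro g hg
      obtain ⟨x, hx⟩ := hXne
      have hgx : g * x * g⁻¹ ∈ X := (Subgroup.mem_set_normalizer_iff.mp hg x).mp hx
      by_contra hgZ
      rw [← h70.2] at hgZ
      have hx1 := h70.1 g hgZ x (hX hx) (hX hgx)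
      have hxK : x ∉ (K : Set G) := fun h => (hX hx).2 (Or.inl h)
      exact hxK (by rw [hx1]; exact K.one_mem)
    · intro g hg
      rw [Subgroup.mem_set_normalizer_iff]
      intro n
      constructor
      · intro hn
        have : g * n * g⁻¹ = n := by
          rw [hab g hg n (hX hn).1]; group
        rw [this]; exact hn
      · intro hn
        have h1 : g * n * g⁻¹ ∈ K ⊔ Ks M K := (hX hn).1
        have h2 : n ∈ K ⊔ Ks M K := by
          have : n = g⁻¹ * (g * n * g⁻¹) * g := by group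
          rw [this]
          exact Subgroup.mul_mem _ (Subgroup.mul_mem _ (Subgroup.inv_mem _ hg) h1) hg
        have : g * n * g⁻¹ = n := by
          rw [hab g hg n h2]; group
        rw [this] at hn; exact hn

end Cfsg.Agent.Lib.Helper19.BGTyp

namespace Cfsg.Agent.Lib.Helper19.BGTyp

open Cfsg.Agent.Lib.Helper1.BGZhat (coprime_card_K_sigmaCore K_inf_sigmaCore)

variable {G : Type*} [Group G]

/-- `κ(M)` is nonempty when `K ≠ 1`. -/
theorem kappa_nonempty [Finite G] {M K : Subgroup G} (hK : Cfsg.IsPiHallOf (Cfsg.kappa M) K M)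
    (hK1 : K ≠ ⊥) : (Cfsg.kappa M).Nonempty := by
  have hc : Nat.card K ≠ 1 := fun h => hK1 (Subgroup.card_eq_one.mp h)
  obtain ⟨p, hp, hpd⟩ := Nat.exists_prime_and_dvd hc
  exact ⟨p, hK.2.1 p hp hpd⟩

/-- **Type P data.**  For `K ≠ 1`, `(K, U_P, K*)` is type-P data for `M` whenever `U_P` is a nilpotent
`K`-invariant complement of `M_F` in `M'`. -/
theorem typeP_of [Finite G] {M K U UP : Subgroup G}
    (hHall : Cfsg.IsPiHallOf (Cfsg.sigma M) (Cfsg.sigmaCore M) M)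
    (hKU : Cfsg.IsSigmaDecomposition M K U) (hK1 : K ≠ ⊥)
    (h54 : H54 M K) (h56 : H56 M) (h64 : H64 M K) (h65 : H65 M K U) (h70 : H70 M K)
    (hUn : Group.IsNilpotent UP) (hKn : K ≤ Subgroup.normalizer (UP : Set G))
    (hUc : Cfsg.IsComplIn (Cfsg.fittingHallOf M) UP ⁅M, M⁆) :
    Cfsg.IsTypePWith M K UP (Ks M K) where
  W₁_ne := hK1
  W₁_cyclic := hKU.cyclic
  W₁_hall := coprime_card_K_relIndex hKU.hall
  W₁_compl := isComplIn_derived_K hHall hKU h65.1
  U_nilpotent := hUn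
  U_normal := hKn
  U_compl := hUc
  H_not_cyclic := h64.2.2.2
  derived_two_le := by
    have := h56.1
    rw [h56.2.1, sup_comm] at this
    exact this
  fitting_eq := by rw [h56.2.1, sup_comm]
  fitting_le := h56.2.2 (kappa_nonempty hKU.hall hK1)
  W₂_le := le_inf h64.2.2.1 h65.2
  W₂_centralizer := derived_inf_centralizer hHall hKU hK1 h54 h65.1
  selfNormalizing := selfNormalizing hHall hKU.cyclic hKU.hall hK1 h54 h64 h70

end Cfsg.Agent.Lib.Helper19.BGTyp
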