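import Mathlib
import Cfsg.Prelude.Def_OddOrderLocal
import Cfsg.Agent.Lib.Helper19.BGTyp2
import Cfsg.Agent.Lib.Helper24.BG15TA
import Cfsg.Agent.Lib.Helper8.BGEx1
import Cfsg.Agent.Lib.Helper1.BGX4
import Cfsg.Agent.S1350
import Cfsg.Agent.S1374
import Cfsg.Agent.S1375
import Cfsg.Agent.S1403
import Cfsg.Agent.S1426
import Cfsg.Agent.S1437
import Cfsg.Agent.S1439

/-!
helper19: B&G Section 15: if `M_F ≠ M_σ` then `F(M)` is a TI-subset (S1357).

Proof: `F(M) ≤ M_σ` (S1439, no `τ₂`-prime divides `|M| = |K| |M_σ|`).  If `g ∉ M` and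
`1 ≠ y ∈ F(M) ∩ F(M)^g`, then `o(y)` is prime to `q = |K*| ∈ β(M)` (S1426), so the normal Sylow
`q`-subgroup `Q ≤ M_F` of `M` centralizes `y`; `C_G(y) ≰ M` (S1374); for the unique maximal
`N ≥ C_G(y)` (S1375) `M ∩ N` is a `σ(N)'`-group, but `Q ≤ M ∩ N` has `q`-rank `≥ 3`, so
`q ∈ α(N) ⊆ σ(N)`: contradiction.
-/

set_option autoImplicit false
open Subgroup

namespace Cfsg.Agent.Lib.Helper19.BG1357

open Cfsg.Agent.Lib.Helper8
open Cfsg.Agent.Lib.Helper19.BGTyp (sigmaCore_le le_normalizer_sigmaCore)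

variable {G : Type*} [Group G] [Finite G]

/-- `|M| = |K| |M_σ|` when `U = 1`. -/
theorem card_eq_of_U_bot {M K U : Subgroup G}
    (hHall : Cfsg.IsPiHallOf (Cfsg.sigma M) (Cfsg.sigmaCore M) M)
    (hKU : Cfsg.IsSigmaDecomposition M K U) (hU : U = ⊥) :
    Nat.card K * Nat.card (Cfsg.sigmaCore M) = Nat.card M := by
  have h := Cfsg.Agent.Lib.Helper1.BGZhat.isComplIn_U_sup_K hHall hKU
  rw [hU, bot_sup_eq] at h
  exact Cfsg.Agent.Lib.Helper9.isComplIn_card_mul_card h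

/-- with `U = 1` and `|K|` prime, `M` has `s`-rank at most one for every `s ∉ σ(M)`. -/
theorem pRankLE_one_of_U_bot {M K U : Subgroup G}
    (hHall : Cfsg.IsPiHallOf (Cfsg.sigma M) (Cfsg.sigmaCore M) M)
    (hKU : Cfsg.IsSigmaDecomposition M K U) (hU : U = ⊥) (hKp : (Nat.card K).Prime)
    {s : ℕ} (hs : s.Prime) (hsσ : s ∉ Cfsg.sigma M) : Cfsg.PRankLE s 1 ↥M := by
  intro A _ hAs
  haveI : Fact s.Prime := ⟨hs⟩
  have hAp : IsPGroup s A := by
    intro a
    refine ⟨1, ?_⟩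
    rw [pow_one]
    exact Subtype.ext (hAs a a.2)
  obtain ⟨k, hk⟩ := IsPGroup.iff_card.mp hAp
  have h1 : Nat.card A ∣ Nat.card ↥M := Subgroup.card_subgroup_dvd_card A
  rw [← card_eq_of_U_bot hHall hKU hU, hk] at h1
  have hcop : (s ^ k).Coprime (Nat.card (Cfsg.sigmaCore M)) := by
    apply Nat.Coprime.pow_left
    exact (Nat.Prime.coprime_iff_not_dvd hs).mpr (fun h => hsσ (hHall.2.1 s hs h))
  have h2 : s ^ k ∣ Nat.card K := hcop.dvd_of_dvd_mul_right h1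
  rw [hk, pow_one]
  rcases (Nat.dvd_prime hKp).mp h2 with h3 | h3
  · rw [h3]; exact hs.one_lt.le
  · have hk0 : k ≠ 0 := by
      intro h0
      rw [h0, pow_zero] at h3
      exact hKp.one_lt.ne h3
    have h4 : s ∣ Nat.card K := (dvd_pow_self s hk0).trans h2
    have h5 : s = Nat.card K := (Nat.prime_dvd_prime_iff_eq hs hKp).mp h4
    rw [h3, ← h5]

/-- `F(M) ≤ M_σ` when `U = 1` and `|K|` is prime. -/
theorem fittingOf_le_sigmaCore (hG : Cfsg.IsMinSimpleOddOrder G) {M K U : Subgroup G}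
    (hM : IsCoatom M) (hKU : Cfsg.IsSigmaDecomposition M K U) (hU : U = ⊥)
    (hKp : (Nat.card K).Prime) : Cfsg.fittingOf M ≤ Cfsg.sigmaCore M := by
  have hHall := (Cfsg.Agent.S1350.result hG M hM).1
  obtain ⟨-, hY, hF⟩ := Cfsg.Agent.S1439.result hG M hM
  have hY1 : Cfsg.piCoreOf {q | q.Prime ∧ q ∉ Cfsg.sigma M} (Cfsg.fittingOf M) = ⊥ := by
    rw [← Subgroup.card_eq_one]
    by_contra hne
    obtain ⟨s, hs, hsd⟩ := Nat.exists_prime_and_dvd hne
    have hτ := hY s hs hsd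
    exact hτ.2.2.2 (pRankLE_one_of_U_bot hHall hKU hU hKp hs hτ.2.1)
  rw [hF, hY1, sup_bot_eq]
  exact Subgroup.map_subtype_le _

/-- **S1357, TI part.** -/
theorem fittingOf_isTISubset (hG : Cfsg.IsMinSimpleOddOrder G) {M K U : Subgroup G}
    (hM : IsCoatom M) (hKU : Cfsg.IsSigmaDecomposition M K U)
    (hne : Cfsg.fittingHallOf M ≠ Cfsg.sigmaCore M) :
    Cfsg.IsTISubset (Cfsg.fittingOf M : Set G) := by
  have hHall := (Cfsg.Agent.S1350.result hG M hM).1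
  have hUT : Cfsg.Agent.Lib.Helper1.BGX.UT G :=
    fun K hK hK2 hK3 => Cfsg.Agent.S1403.result hG K hK hK2 hK3
  obtain ⟨hU, -, hKp, hqp, -, hqβ, Q, hQF, hMQ, hQq, hQidx, -⟩ :=
    Cfsg.Agent.S1437.result hG M hM K U hKU hne
  set q := Nat.card ↥(Cfsg.sigmaCore M ⊓ Subgroup.centralizer (K : Set G)) with hq
  haveI : Fact q.Prime := ⟨hqp⟩
  have hFσ := fittingOf_le_sigmaCore hG hM hKU hU hKp
  have hFHσ : Cfsg.fittingHallOf M ≤ Cfsg.sigmaCore M :=
    Cfsg.Agent.Lib.Helper9.BG144.fittingHallOf_le_sigmaCore hG hM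
  have hQσ : Q ≤ Cfsg.sigmaCore M := hQF.trans hFHσ
  have hQM : Q ≤ M := hQσ.trans (sigmaCore_le M)
  have hqα : q ∈ Cfsg.alpha M := hqβ.1
  have hqσ : q ∈ Cfsg.sigma M := Cfsg.Agent.Lib.Helper1.BGX.alpha_subset_sigma hG hUT hM hqα
  -- `Q` contains every `q`-subgroup of `M`
  have hQidxM : ¬ q ∣ Q.relIndex M := by
    rw [← Subgroup.relIndex_mul_relIndex _ _ _ hQσ (sigmaCore_le M)]
    intro h
    rcases (Nat.Prime.dvd_mul hqp).mp h with h | h
    · exact hQidx h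
    · exact hHall.2.2 q hqp hqσ h
  have hQall : ∀ Y : Subgroup G, IsPGroup q Y → Y ≤ M → Y ≤ Q := fun Y hY hYM =>
    Cfsg.Agent.Lib.Helper8.BGEx.le_of_normal_of_not_dvd_relIndex hQM hMQ hQidxM hY hYM
  have hKcompl : Cfsg.IsComplIn K (Cfsg.sigmaCore M) M := by
    have h := Cfsg.Agent.Lib.Helper1.BGZhat.isComplIn_U_sup_K hHall hKU
    rwa [hU, bot_sup_eq] at h
  intro g hg x hxF hgx
  by_contra hx1
  have hgM : g ∉ M := fun h => hg (Cfsg.Agent.Lib.Helper17.BGU.le_normalizer_fittingOf M h)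
  have hFM : Cfsg.fittingOf M ≤ M := hFσ.trans (sigmaCore_le M)
  set y := g * x * g⁻¹ with hy
  have hyF : y ∈ Cfsg.fittingOf M := hgx
  have hy1 : y ≠ 1 := by
    intro h
    apply hx1
    have e : x = g⁻¹ * y * g := by rw [hy]; group
    rw [e, h]; group
  have hyσ : y ∈ Cfsg.sigmaCore M := hFσ hyF
  have hyMg : y ∈ M.map (MulAut.conj g).toMonoidHom := conj_mem_map_conj (hFM hxF)
  -- `o(y)` is prime to `q`
  have hqy : ¬ q ∣ orderOf y := by
    intro h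
    obtain ⟨-, hβ, -⟩ := (Cfsg.Agent.S1426.result hG M hM K hKcompl).2.2 g hgM
    have hyD : y ∈ Cfsg.sigmaCore M ⊓ M.map (MulAut.conj g).toMonoidHom := ⟨hyσ, hyMg⟩
    exact hβ q hqp (h.trans (Subgroup.orderOf_dvd_natCard _ hyD)) hqβ
  -- `Q ≤ C_G(y)`
  have hQy : Q ≤ Subgroup.centralizer ({y} : Set G) := by
    intro z hz
    rw [Subgroup.mem_centralizer_singleton_iff]
    haveI : Group.IsNilpotent ↥(Cfsg.fittingOf M) :=
      Cfsg.Agent.Lib.Helper9.fittingOf_isNilpotent M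
    have hzF : z ∈ Cfsg.fittingOf M :=
      Cfsg.Agent.Lib.Helper9.fittingHallOf_le_fittingOf M (hQF hz)
    have hcop : (orderOf z).Coprime (orderOf y) := by
      obtain ⟨k, hk⟩ := (IsPGroup.iff_orderOf.mp hQq) ⟨z, hz⟩
      rw [Subgroup.orderOf_mk] at hk
      rw [hk]
      apply Nat.Coprime.pow_left
      exact (Nat.Prime.coprime_iff_not_dvd hqp).mpr hqy
    have h := Cfsg.Agent.Lib.Helper23.NilHall.commute_of_coprime_of_nilpotent ↥(Cfsg.fittingOf M)
      ⟨z, hzF⟩ ⟨y, hyF⟩ (by rw [Subgroup.orderOf_mk, Subgroup.orderOf_mk]; exact hcop)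
    exact congrArg Subtype.val h
  -- `C_G(y) ≰ M`
  haveI := hG.2.1
  have hNM : Subgroup.normalizer (M : Set G) = M :=
    Cfsg.Agent.Lib.Helper17.BGU.normalizer_eq_of_coatom hM le_rfl
      (Cfsg.Agent.Lib.Helper2.BGCor.coatom_ne_bot hG hM) Subgroup.le_normalizer
  have hCM : ¬ Subgroup.centralizer ({y} : Set G) ≤ M := by
    intro hC
    obtain ⟨-, R, -, ⟨-, hRle, hdisj, -⟩, hRu⟩ := Cfsg.Agent.S1374.result hG M hM y hyσ hy1
    have hR : R = ⊥ := by
      apply le_bot_iff.mp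
      rw [← hdisj]
      exact le_inf (le_inf (hRle.trans hC) hRle) le_rfl
    obtain ⟨r, ⟨hrR, hrM⟩, -⟩ := hRu g hyMg
    rw [hR, Subgroup.mem_bot] at hrR
    rw [hrR, map_conj_one] at hrM
    apply hgM
    rw [← hNM]
    exact mem_normalizer_iff_map_conj.mpr hrM.symm
  obtain ⟨N, ⟨hN, hCN⟩, -, -, -, -, ⟨-, -, hMN, -⟩, -⟩ :=
    Cfsg.Agent.S1375.result hG M hM y hyσ hy1 hCM
  have hQN : Q ≤ N := hQy.trans hCN
  -- `q ∈ α(N)`
  have hqαN : q ∈ Cfsg.alpha N := by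
    refine ⟨hqp, fun hrk => hqα.2 ?_⟩
    intro A hAc hAq
    -- transport `A ≤ ↥M` to `↥N`
    have hAp : IsPGroup q (A.map M.subtype) := by
      rintro ⟨_, a, ha, rfl⟩
      refine ⟨1, ?_⟩
      rw [pow_one]
      apply Subtype.ext
      have := hAq a ha
      simpa using congrArg Subtype.val this
    have hAQ : A.map M.subtype ≤ Q := hQall _ hAp (Subgroup.map_subtype_le A)
    have hAN : A.map M.subtype ≤ N := hAQ.trans hQN
    set B : Subgroup ↥N := (A.map M.subtype).subgroupOf N with hB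
    have hcardB : Nat.card B = Nat.card A := by
      rw [hB, Cfsg.Agent.Lib.Helper1.card_subgroupOf_of_le hAN]
      exact (Nat.card_congr (A.equivMapOfInjective M.subtype M.subtype_injective).toEquiv).symm
    rw [← hcardB]
    apply hrk B
    · refine ⟨⟨fun a b => ?_⟩⟩
      apply Subtype.ext
      apply Subtype.ext
      obtain ⟨a', ha', hae⟩ := Subgroup.mem_subgroupOf.mp a.2
      obtain ⟨b', hb', hbe⟩ := Subgroup.mem_subgroupOf.mp b.2
      have hcomm : a' * b' = b' * a' :=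
        congrArg Subtype.val (mul_comm' (⟨a', ha'⟩ : A) ⟨b', hb'⟩)
      show ((a : ↥N) : G) * ((b : ↥N) : G) = ((b : ↥N) : G) * ((a : ↥N) : G)
      rw [← hae, ← hbe]
      exact congrArg Subtype.val hcomm
    · intro b hb
      obtain ⟨b', hb', hbe⟩ := Subgroup.mem_subgroupOf.mp hb
      apply Subtype.ext
      show ((b : ↥N) : G) ^ q = 1
      rw [← hbe]
      have := hAq b' hb'
      simpa using congrArg Subtype.val this
  have hqσN : q ∈ Cfsg.sigma N := Cfsg.Agent.Lib.Helper1.BGX.alpha_subset_sigma hG hUT hN hqαN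
  have hQNσ : Q ≤ Cfsg.sigmaCore N :=
    Cfsg.Agent.Lib.Helper8.BGEx.le_sigmaCore hG hN hqσN hQq hQN
  have hQbot : Q = ⊥ := by
    apply le_bot_iff.mp
    rw [← hMN]
    exact le_inf (le_inf hQM hQN) hQNσ
  -- but `Q ≠ 1` since `M` has `q`-rank `≥ 3`
  apply hqα.2
  intro A _ hAq
  have hAp : IsPGroup q (A.map M.subtype) := by
    rintro ⟨_, a, ha, rfl⟩
    refine ⟨1, ?_⟩
    rw [pow_one]
    apply Subtype.ext
    have := hAq a ha
    simpa using congrArg Subtype.val this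
  have hAQ : A.map M.subtype ≤ Q := hQall _ hAp (Subgroup.map_subtype_le A)
  rw [hQbot] at hAQ
  have : A = ⊥ := by
    rw [Subgroup.eq_bot_iff_forall]
    intro a ha
    have h1 : (a : G) ∈ A.map M.subtype := ⟨a, ha, rfl⟩
    have h2 := hAQ h1
    rw [Subgroup.mem_bot] at h2
    exact Subtype.ext h2
  rw [this, Subgroup.card_bot]
  exact Nat.one_le_pow _ _ hqp.pos

end Cfsg.Agent.Lib.Helper19.BG1357
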