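/-
helper19: TOOL (*) of notes/bg11/H19_11_7_and_12_4.md (the way B&G use Theorem 7.x(d) = S1395(d)).

Let `G` be a minimal simple group of odd order, `A` a `p`-subgroup satisfying the transitivity
hypothesis whose centre has rank at least two, `q ≠ p` a prime dividing `|C_G(A)|` such that every
`q`-subgroup of `G` is narrow.  Assume that Sylow `p`-subgroups `P` of `G` satisfy `P ≤ N_G(P)'`
(this is S1411; it is kept as a hypothesis here so that this file does not depend on S1410).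
Then:
* every Sylow `p`-subgroup `P ≥ A` centralizes every maximal `P`-invariant `q`-subgroup of `G`, and
  these are maximal `A`-invariant `q`-subgroups (`sylow_centralizes_maxInv`);
* `A` centralizes every `A`-invariant `q`-subgroup of `G` (`centralizes_invariant`);
* every maximal `A`-invariant `q`-subgroup of `G` is centralized by some Sylow `p`-subgroup of `G`
  containing `A` (`exists_sylow_centralizing`).
-/
import Mathlib
import Cfsg.Agent.S1394
import Cfsg.Agent.S1395
import Cfsg.Agent.Lib.Helper9.BG95Inv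
import Cfsg.Agent.Lib.Helper17.OddAutRank2
import Cfsg.Agent.Lib.Helper17.NarrowC

set_option autoImplicit false
set_option linter.unusedSectionVars false
open scoped Pointwise commutatorElement

namespace Cfsg.Agent.Lib.Helper19.BGStar

open Cfsg.Agent.Lib.Helper17 Cfsg.Agent.Lib.Helper17.BGU Cfsg.Agent.Lib.Helper9.BG95Inv

variable {G : Type*} [Group G]

/-- In a group of odd order, an element of `N_G(Q)'` of order prime to `q` centralizes the narrow
`q`-subgroup `Q` (the image of `N_G(Q)` in `Aut(Q)` has odd order, so its derived group is a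
`q`-group: B&G 4.17 for rank at most two, B&G 5.4 for narrow groups of rank at least three). -/
theorem derived_normalizer_centralizes [Finite G] (hodd : Odd (Nat.card G)) {q : ℕ}
    [Fact q.Prime] (Q : Subgroup G) (hQ : IsPGroup q Q) (hn : Cfsg.IsNarrow q Q) {x : G}
    (hx : x ∈ ⁅Subgroup.normalizer (Q : Set G), Subgroup.normalizer (Q : Set G)⁆)
    (hxo : (orderOf x).Coprime q) : x ∈ Subgroup.centralizer (Q : Set G) := by
  classical
  have hqp : q.Prime := Fact.out
  by_cases hQbot : Q = ⊥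
  · subst hQbot
    rw [Subgroup.mem_centralizer_iff]
    intro y hy
    have hy1 : y = 1 := by simpa using hy
    rw [hy1, one_mul, mul_one]
  have hq2 : q ≠ 2 := by
    rintro rfl
    obtain ⟨k, hk⟩ := IsPGroup.iff_card.mp hQ
    have hk0 : k ≠ 0 := by
      rintro rfl
      apply hQbot
      exact Subgroup.card_eq_one.mp (by simpa using hk)
    have h2 : 2 ∣ Nat.card G :=
      dvd_trans (hk ▸ dvd_pow_self 2 hk0) (Subgroup.card_subgroup_dvd_card Q)
    exact (Nat.not_even_iff_odd.mpr hodd) (even_iff_two_dvd.mpr h2)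
  obtain ⟨N, hN⟩ : ∃ N : Subgroup G, N = Subgroup.normalizer (Q : Set G) := ⟨_, rfl⟩
  obtain ⟨φ, hφker⟩ : ∃ φ : N →* MulAut Q,
      ∀ n : N, φ n = 1 → (n : G) ∈ Subgroup.centralizer (Q : Set G) := by
    subst hN
    refine ⟨Q.normalizerMonoidHom, fun n hn1 => ?_⟩
    have h6 : n ∈ Q.normalizerMonoidHom.ker := hn1
    rw [Subgroup.normalizerMonoidHom_ker] at h6
    exact Subgroup.mem_subgroupOf.mp h6
  rw [← hN] at hx
  have hx' : x ∈ (commutator N).map N.subtype := by
    rw [Subgroup.map_subtype_commutator]; exact hx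
  obtain ⟨x', hx'c, rfl⟩ := hx'
  have hφx : φ x' ∈ ⁅φ.range, φ.range⁆ := by
    have h1 : φ x' ∈ (commutator N).map φ := ⟨x', hx'c, rfl⟩
    rwa [commutator_def, Subgroup.map_commutator, ← MonoidHom.range_eq_map] at h1
  have hQfin : Finite Q := inferInstance
  have hqel : ∃ k : ℕ, (φ x') ^ (q ^ k) = 1 := by
    by_cases hr : Cfsg.PRankLE q 2 Q
    · have hodd' : Odd (Nat.card φ.range) := by
        have h1 : Nat.card φ.range ∣ Nat.card N := Subgroup.card_range_dvd φ
        have h2 : Nat.card N ∣ Nat.card G := Subgroup.card_subgroup_dvd_card N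
        exact Odd.of_dvd_nat hodd (dvd_trans h1 h2)
      exact (odd_aut_rank_two q hq2 hQ hr φ.range hodd').1 _ hφx
    · obtain ⟨K, hK1, -, hK3⟩ := Narrow.narrow_aut hq2 hQ hr hn
      apply hK3
      have hle : ⁅φ.range, φ.range⁆ ≤ K := by
        rw [Subgroup.commutator_le]
        intro a _ b _
        rw [commutatorElement_def]
        exact hK1 a b
      exact hle hφx
  obtain ⟨k, hk⟩ := hqel
  have h1 : orderOf (φ x') ∣ q ^ k := orderOf_dvd_of_pow_eq_one hk
  have h2 : orderOf (φ x') ∣ orderOf x' := orderOf_map_dvd φ x'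
  have h3 : orderOf x' = orderOf (x' : G) := (Subgroup.orderOf_coe x').symm
  have h3' : orderOf (N.subtype x') = orderOf (x' : G) := rfl
  rw [h3'] at hxo
  have h4 : orderOf (φ x') = 1 := by
    have h5 : (orderOf (φ x')).Coprime (orderOf (φ x')) :=
      Nat.Coprime.coprime_dvd_left (h3 ▸ h2) (Nat.Coprime.coprime_dvd_right h1
        (Nat.Coprime.pow_right k hxo))
    exact (Nat.coprime_self _).mp h5
  exact hφker x' (orderOf_eq_one_iff.mp h4)

/-- conjugation by `k` maps the centralizer of `Q` onto the centralizer of the conjugate. -/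
theorem conj_mem_centralizer_map {Q : Subgroup G} {x k : G}
    (hx : x ∈ Subgroup.centralizer (Q : Set G)) :
    k * x * k⁻¹ ∈ Subgroup.centralizer ((Q.map (MulAut.conj k).toMonoidHom : Subgroup G) : Set G) := by
  rw [Subgroup.mem_centralizer_iff]
  rintro _ ⟨y, hy, rfl⟩
  have h1 := Subgroup.mem_centralizer_iff.mp hx y hy
  show k * y * k⁻¹ * (k * x * k⁻¹) = k * x * k⁻¹ * (k * y * k⁻¹)
  calc k * y * k⁻¹ * (k * x * k⁻¹) = k * (y * x) * k⁻¹ := by group
    _ = k * (x * y) * k⁻¹ := by rw [h1]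
    _ = k * x * k⁻¹ * (k * y * k⁻¹) := by group

section Main

variable [Finite G]

/-- TOOL (*), Sylow form: a Sylow `p`-subgroup `P ≥ A` centralizes every maximal `P`-invariant
`q`-subgroup `Q` of `G`, and `Q` is a maximal `A`-invariant `q`-subgroup. -/
theorem sylow_centralizes_maxInv (hG : Cfsg.IsMinSimpleOddOrder G) (p : ℕ) [Fact p.Prime]
    (hder : ∀ P : Sylow p G, (P : Subgroup G) ≤
      ⁅Subgroup.normalizer ((P : Subgroup G) : Set G), Subgroup.normalizer ((P : Subgroup G) : Set G)⁆)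
    (A : Subgroup G) (hAp : IsPGroup p A) (hA : Cfsg.TransitivityHypothesis A)
    (hAr : ¬ Cfsg.RankLE 1 ↥(A ⊓ Subgroup.centralizer (A : Set G)))
    (q : ℕ) [Fact q.Prime] (hqp : q ≠ p)
    (hqC : q ∣ Nat.card (Subgroup.centralizer (A : Set G)))
    (hnar : ∀ Q : Subgroup G, IsPGroup q Q → Cfsg.IsNarrow q Q)
    (P : Sylow p G) (hAP : A ≤ (P : Subgroup G)) (Q : Subgroup G)
    (hQ : Q ∈ Cfsg.maxInvSubgroups ⊤ (P : Subgroup G) {q}) :
    Q ∈ Cfsg.maxInvSubgroups ⊤ A {q} ∧ (P : Subgroup G) ≤ Subgroup.centralizer (Q : Set G) := by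
  have hsimple : IsSimpleGroup G := hG.2.1
  have hnc := hG.2.2.1
  have hpp : p.Prime := Fact.out
  have hq : q.Prime := Fact.out
  obtain ⟨kA, hkA⟩ := IsPGroup.iff_card.mp hAp
  have hqA : ¬ q ∣ Nat.card A := by
    rw [hkA]
    intro h
    exact hqp ((Nat.prime_dvd_prime_iff_eq hq hpp).mp (hq.dvd_of_dvd_pow h))
  have hpA : p ∣ Nat.card A := by
    rw [hkA]
    have hk0 : kA ≠ 0 := by
      rintro rfl
      apply hA.1
      exact Subgroup.card_eq_one.mp (by simpa using hkA)
    exact dvd_pow_self p hk0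
  have htr := Cfsg.Agent.S1394.result hG A hA hAr q hq hqA hqC
  have hPp : IsPGroup p (P : Subgroup G) := P.2
  have hPtop : (P : Subgroup G) ≠ ⊤ := ne_top_of_isPGroup hnc hPp
  have hPπ : ∀ r : ℕ, r.Prime → r ∣ Nat.card (P : Subgroup G) → r ∣ Nat.card A := by
    intro r hr hrP
    obtain ⟨kP, hkP⟩ := IsPGroup.iff_card.mp hPp
    rw [hkP] at hrP
    have h3 : r = p := (Nat.prime_dvd_prime_iff_eq hr hpp).mp (hr.dvd_of_dvd_pow hrP)
    rw [h3]; exact hpA
  have hsn : (A.subgroupOf (P : Subgroup G)).IsSubnormal := by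
    have : Group.IsNilpotent ↥(P : Subgroup G) := hPp.isNilpotent
    exact isSubnormal_of_isNilpotent _ _ rfl
  have h95 := Cfsg.Agent.S1395.result hG A hA q hq hqA (P : Subgroup G) hPtop hPπ hAP hsn htr
  refine ⟨h95.2.2.1 hQ, ?_⟩
  have hd := (h95.2.2.2 Q hQ).1
  have hQq : IsPGroup q Q := ((mem_invq_iff hq).mp hQ.1).1
  intro x hx
  have hxN : x ∈ ⁅Subgroup.normalizer (Q : Set G), Subgroup.normalizer (Q : Set G)⁆ :=
    hd ⟨hx, hder P hx⟩
  have hxo : (orderOf x).Coprime q := by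
    obtain ⟨k, hk⟩ := (IsPGroup.iff_orderOf.mp hPp) ⟨x, hx⟩
    rw [Subgroup.orderOf_mk] at hk
    rw [hk]
    exact Nat.Coprime.pow_left k ((Nat.coprime_primes hpp hq).mpr (Ne.symm hqp))
  exact derived_normalizer_centralizes hG.1 Q hQq (hnar Q hQq) hxN hxo

/-- There is a maximal `P`-invariant `q`-subgroup. -/
theorem exists_maxInv (A : Subgroup G) {q : ℕ} (hq : q.Prime) :
    ∃ Q, Q ∈ Cfsg.maxInvSubgroups ⊤ A {q} := by
  obtain ⟨Q', hQ', -⟩ := exists_maxInv_ge (A := A) (T := ⊥) (π := {q})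
    ((mem_invq_iff hq).mpr ⟨IsPGroup.of_bot, by
      intro a _
      rw [Subgroup.mem_normalizer_iff]
      intro x
      simp [Subgroup.mem_bot]⟩)
  exact ⟨Q', hQ'⟩

/-- TOOL (*): `A` centralizes every `A`-invariant `q`-subgroup of `G`. -/
theorem centralizes_invariant (hG : Cfsg.IsMinSimpleOddOrder G) (p : ℕ) [Fact p.Prime]
    (hder : ∀ P : Sylow p G, (P : Subgroup G) ≤
      ⁅Subgroup.normalizer ((P : Subgroup G) : Set G), Subgroup.normalizer ((P : Subgroup G) : Set G)⁆)
    (A : Subgroup G) (hAp : IsPGroup p A) (hA : Cfsg.TransitivityHypothesis A)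
    (hAr : ¬ Cfsg.RankLE 1 ↥(A ⊓ Subgroup.centralizer (A : Set G)))
    (q : ℕ) [Fact q.Prime] (hqp : q ≠ p)
    (hqC : q ∣ Nat.card (Subgroup.centralizer (A : Set G)))
    (hnar : ∀ Q : Subgroup G, IsPGroup q Q → Cfsg.IsNarrow q Q)
    (D : Subgroup G) (hD : IsPGroup q D) (hAD : A ≤ Subgroup.normalizer (D : Set G)) :
    A ≤ Subgroup.centralizer (D : Set G) := by
  have hpp : p.Prime := Fact.out
  have hq : q.Prime := Fact.out
  obtain ⟨kA, hkA⟩ := IsPGroup.iff_card.mp hAp
  have hqA : ¬ q ∣ Nat.card A := by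
    rw [hkA]
    intro h
    exact hqp ((Nat.prime_dvd_prime_iff_eq hq hpp).mp (hq.dvd_of_dvd_pow h))
  have htr := Cfsg.Agent.S1394.result hG A hA hAr q hq hqA hqC
  obtain ⟨P, hAP⟩ := hAp.exists_le_sylow
  obtain ⟨Q, hQ⟩ := exists_maxInv (P : Subgroup G) hq
  obtain ⟨hQA, hPQ⟩ := sylow_centralizes_maxInv hG p hder A hAp hA hAr q hqp hqC hnar P hAP Q hQ
  obtain ⟨Q₂, hQ₂, hDQ₂⟩ := exists_maxInv_ge ((mem_invq_iff hq).mpr ⟨hD, hAD⟩)
  obtain ⟨k, hk, rfl⟩ := htr Q hQA Q₂ hQ₂
  have hkC : k ∈ Subgroup.centralizer (A : Set G) := piCoreOf_le _ hk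
  intro a ha
  have h1 : a ∈ Subgroup.centralizer (Q : Set G) := hPQ (hAP ha)
  have h2 := conj_mem_centralizer_map (k := k) h1
  have h3 : k * a * k⁻¹ = a := by
    have := Subgroup.mem_centralizer_iff.mp hkC a ha
    calc k * a * k⁻¹ = (a * k) * k⁻¹ := by rw [this]
      _ = a := by group
  rw [h3] at h2
  exact Subgroup.centralizer_le (SetLike.coe_subset_coe.mpr hDQ₂) h2

/-- TOOL (*), second form: every maximal `A`-invariant `q`-subgroup of `G` is centralized by a Sylow
`p`-subgroup of `G` containing `A`, and is a maximal invariant `q`-subgroup for it. -/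
theorem exists_sylow_centralizing (hG : Cfsg.IsMinSimpleOddOrder G) (p : ℕ) [Fact p.Prime]
    (hder : ∀ P : Sylow p G, (P : Subgroup G) ≤
      ⁅Subgroup.normalizer ((P : Subgroup G) : Set G), Subgroup.normalizer ((P : Subgroup G) : Set G)⁆)
    (A : Subgroup G) (hAp : IsPGroup p A) (hA : Cfsg.TransitivityHypothesis A)
    (hAr : ¬ Cfsg.RankLE 1 ↥(A ⊓ Subgroup.centralizer (A : Set G)))
    (q : ℕ) [Fact q.Prime] (hqp : q ≠ p)
    (hqC : q ∣ Nat.card (Subgroup.centralizer (A : Set G)))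
    (hnar : ∀ Q : Subgroup G, IsPGroup q Q → Cfsg.IsNarrow q Q)
    (Q₂ : Subgroup G) (hQ₂ : Q₂ ∈ Cfsg.maxInvSubgroups ⊤ A {q}) :
    ∃ P : Sylow p G, A ≤ (P : Subgroup G) ∧ (P : Subgroup G) ≤ Subgroup.centralizer (Q₂ : Set G) := by
  have hpp : p.Prime := Fact.out
  have hq : q.Prime := Fact.out
  obtain ⟨kA, hkA⟩ := IsPGroup.iff_card.mp hAp
  have hqA : ¬ q ∣ Nat.card A := by
    rw [hkA]
    intro h
    exact hqp ((Nat.prime_dvd_prime_iff_eq hq hpp).mp (hq.dvd_of_dvd_pow h))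
  have htr := Cfsg.Agent.S1394.result hG A hA hAr q hq hqA hqC
  obtain ⟨P, hAP⟩ := hAp.exists_le_sylow
  obtain ⟨Q, hQ⟩ := exists_maxInv (P : Subgroup G) hq
  obtain ⟨hQA, hPQ⟩ := sylow_centralizes_maxInv hG p hder A hAp hA hAr q hqp hqC hnar P hAP Q hQ
  obtain ⟨k, hk, rfl⟩ := htr Q hQA Q₂ hQ₂
  have hkC : k ∈ Subgroup.centralizer (A : Set G) := piCoreOf_le _ hk
  refine ⟨k • P, ?_, ?_⟩
  · intro a ha
    rw [Sylow.coe_subgroup_smul, Subgroup.mem_pointwise_smul_iff_inv_smul_mem]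
    have h3 : (MulAut.conj k)⁻¹ • a = a := by
      have := Subgroup.mem_centralizer_iff.mp hkC a ha
      show (MulAut.conj k)⁻¹ a = a
      rw [← map_inv, MulAut.conj_apply, inv_inv]
      calc k⁻¹ * a * k = k⁻¹ * (a * k) := by group
        _ = k⁻¹ * (k * a) := by rw [this]
        _ = a := by group
    rw [h3]
    exact hAP ha
  · intro x hx
    rw [Sylow.coe_subgroup_smul] at hx
    obtain ⟨y, hy, rfl⟩ := hx
    exact conj_mem_centralizer_map (k := k) (hPQ hy)

end Main

end Cfsg.Agent.Lib.Helper19.BGStar
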