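/-
helper19: TOOL (*) of notes/bg11/H19_11_7_and_12_4.md, final form (the hypothesis `P ≤ N_G(P)'` of
`Cfsg.Agent.Lib.Helper19.BGStar` is discharged by S1411).

Let `G` be a minimal simple group of odd order, `A` a `p`-subgroup satisfying the transitivity
hypothesis whose centre has rank at least two, `q ≠ p` a prime dividing `|C_G(A)|` such that every
`q`-subgroup of `G` is narrow.  Then `A` centralizes every `A`-invariant `q`-subgroup of `G`, and
every maximal `A`-invariant `q`-subgroup is centralized by a Sylow `p`-subgroup containing `A`.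
-/
import Mathlib
import Cfsg.Agent.S1411
import Cfsg.Agent.Lib.Helper24.BGTen4
import Cfsg.Agent.Lib.Helper19.BGStar

set_option autoImplicit false
set_option linter.unusedSectionVars false
open scoped Pointwise commutatorElement

namespace Cfsg.Agent.Lib.Helper19.BGStarM

variable {G : Type*} [Group G] [Finite G]

/-- S1411 without the complement: a Sylow subgroup lies in the derived group of its normalizer. -/
theorem sylow_le_derived_normalizer (hG : Cfsg.IsMinSimpleOddOrder G) (p : ℕ) [Fact p.Prime]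
    (P : Sylow p G) : (P : Subgroup G) ≤
      ⁅Subgroup.normalizer ((P : Subgroup G) : Set G), Subgroup.normalizer ((P : Subgroup G) : Set G)⁆ := by
  obtain ⟨V, hV, -⟩ := Cfsg.Agent.Lib.Helper24.BGTen.exists_compl_normalizer P
  exact (Cfsg.Agent.S1411.result hG p P V hV).2

/-- TOOL (*), Sylow form. -/
theorem sylow_centralizes_maxInv (hG : Cfsg.IsMinSimpleOddOrder G) (p : ℕ) [Fact p.Prime]
    (A : Subgroup G) (hAp : IsPGroup p A) (hA : Cfsg.TransitivityHypothesis A)
    (hAr : ¬ Cfsg.RankLE 1 ↥(A ⊓ Subgroup.centralizer (A : Set G)))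
    (q : ℕ) [Fact q.Prime] (hqp : q ≠ p)
    (hqC : q ∣ Nat.card (Subgroup.centralizer (A : Set G)))
    (hnar : ∀ Q : Subgroup G, IsPGroup q Q → Cfsg.IsNarrow q Q)
    (P : Sylow p G) (hAP : A ≤ (P : Subgroup G)) (Q : Subgroup G)
    (hQ : Q ∈ Cfsg.maxInvSubgroups ⊤ (P : Subgroup G) {q}) :
    Q ∈ Cfsg.maxInvSubgroups ⊤ A {q} ∧ (P : Subgroup G) ≤ Subgroup.centralizer (Q : Set G) :=
  Cfsg.Agent.Lib.Helper19.BGStar.sylow_centralizes_maxInv hG p (sylow_le_derived_normalizer hG p)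
    A hAp hA hAr q hqp hqC hnar P hAP Q hQ

/-- TOOL (*): `A` centralizes every `A`-invariant `q`-subgroup of `G`. -/
theorem centralizes_invariant (hG : Cfsg.IsMinSimpleOddOrder G) (p : ℕ) [Fact p.Prime]
    (A : Subgroup G) (hAp : IsPGroup p A) (hA : Cfsg.TransitivityHypothesis A)
    (hAr : ¬ Cfsg.RankLE 1 ↥(A ⊓ Subgroup.centralizer (A : Set G)))
    (q : ℕ) [Fact q.Prime] (hqp : q ≠ p)
    (hqC : q ∣ Nat.card (Subgroup.centralizer (A : Set G)))
    (hnar : ∀ Q : Subgroup G, IsPGroup q Q → Cfsg.IsNarrow q Q)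
    (D : Subgroup G) (hD : IsPGroup q D) (hAD : A ≤ Subgroup.normalizer (D : Set G)) :
    A ≤ Subgroup.centralizer (D : Set G) :=
  Cfsg.Agent.Lib.Helper19.BGStar.centralizes_invariant hG p (sylow_le_derived_normalizer hG p)
    A hAp hA hAr q hqp hqC hnar D hD hAD

/-- TOOL (*), second form. -/
theorem exists_sylow_centralizing (hG : Cfsg.IsMinSimpleOddOrder G) (p : ℕ) [Fact p.Prime]
    (A : Subgroup G) (hAp : IsPGroup p A) (hA : Cfsg.TransitivityHypothesis A)
    (hAr : ¬ Cfsg.RankLE 1 ↥(A ⊓ Subgroup.centralizer (A : Set G)))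
    (q : ℕ) [Fact q.Prime] (hqp : q ≠ p)
    (hqC : q ∣ Nat.card (Subgroup.centralizer (A : Set G)))
    (hnar : ∀ Q : Subgroup G, IsPGroup q Q → Cfsg.IsNarrow q Q)
    (Q₂ : Subgroup G) (hQ₂ : Q₂ ∈ Cfsg.maxInvSubgroups ⊤ A {q}) :
    ∃ P : Sylow p G, A ≤ (P : Subgroup G) ∧ (P : Subgroup G) ≤ Subgroup.centralizer (Q₂ : Set G) :=
  Cfsg.Agent.Lib.Helper19.BGStar.exists_sylow_centralizing hG p (sylow_le_derived_normalizer hG p)
    A hAp hA hAr q hqp hqC hnar Q₂ hQ₂

end Cfsg.Agent.Lib.Helper19.BGStarM
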