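import Mathlib
import Cfsg.Prelude.Def_OddOrderLocal
import Cfsg.Agent.Lib.Helper19.BGTyp2
import Cfsg.Agent.Lib.Helper1.Transport

/-!
helper19: B&G Section 16: a criterion for `IsOfTypeF ↥N` for a subgroup `N` of `G` in terms of
subgroups of `G`.
-/

set_option autoImplicit false
open Subgroup

namespace Cfsg.Agent.Lib.Helper19.BGTyp

variable {G : Type*} [Group G]

theorem comm_of_isMulCommutative {H : Subgroup G} (h : IsMulCommutative H) :
    ∀ x ∈ H, ∀ y ∈ H, x * y = y * x :=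
  fun x hx y hy => congrArg Subtype.val (mul_comm' (⟨x, hx⟩ : H) ⟨y, hy⟩)

theorem isNilpotent_of_isMulCommutative {H : Subgroup G} (h : IsMulCommutative H) :
    Group.IsNilpotent H := by
  let _ : CommGroup H := { (inferInstance : Group H) with mul_comm := fun a b => mul_comm' a b }
  infer_instance

/-- criterion for `IsOfTypeF ↥N` in terms of subgroups of `G`. -/
theorem isOfTypeF_of [Finite G] {N H U U₁ U₀ : Subgroup G}
    (hsolv : IsSolvable ↥N) (hodd : Odd (Nat.card N))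
    (hH : Cfsg.fittingHallOf N = H) (hH1 : H ≠ ⊥)
    (hU1 : U ≠ ⊥) (hc : Cfsg.IsComplIn H U N)
    (hU₁U : U₁ ≤ U) (hU₁n : U ≤ normalizer (U₁ : Set G)) (hU₁c : IsMulCommutative U₁)
    (hcent : ∀ x ∈ H, x ≠ 1 → U ⊓ centralizer ({x} : Set G) ≤ U₁)
    (hU₀U : U₀ ≤ U) (hexp : Monoid.exponent U₀ = Monoid.exponent U)
    (hfpf : ∀ u ∈ U₀, u ≠ 1 → ∀ x ∈ H, u * x = x * u → x = 1) :
    Cfsg.IsOfTypeF ↥N := by
  obtain ⟨hHN, hUN, hHU, hprod⟩ := hc
  have hF : Cfsg.fittingHall ↥N = H.subgroupOf N := by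
    rw [fittingHall_eq_subgroupOf, hH]
  have hmemF : ∀ x : ↥N, x ∈ Cfsg.fittingHall ↥N ↔ (x : G) ∈ H := by
    intro x; rw [hF, Subgroup.mem_subgroupOf]
  refine ⟨hsolv, hodd, ?_, ?_, U.subgroupOf N, ?_, ?_, ?_, ?_⟩
  · rw [hF, Ne, Subgroup.subgroupOf_eq_bot, disjoint_iff, inf_eq_left.mpr hHN]
    exact hH1
  · rw [hF, Ne, Subgroup.subgroupOf_eq_top]
    intro hNH
    apply hU1
    apply le_bot_iff.mp
    rw [← hHU]
    exact le_inf (hUN.trans hNH) le_rfl
  · rw [Ne, Subgroup.subgroupOf_eq_bot, disjoint_iff, inf_eq_left.mpr hUN]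
    exact hU1
  · rw [hF]
    apply Cfsg.Agent.Lib.Helper1.isComplement'_subgroupOf_of_sup_eq hHN hUN
      (disjoint_iff.mpr hHU)
    intro l hl
    obtain ⟨a, ha, b, hb, rfl⟩ := hprod l hl
    exact ⟨a, ha, b, hb, rfl⟩
  · refine ⟨U₁.subgroupOf N, ?_, ?_, ?_, ?_⟩
    · intro x hx
      rw [Subgroup.mem_subgroupOf] at hx ⊢
      exact hU₁U hx
    · intro u hu
      rw [Subgroup.mem_subgroupOf] at hu
      have h1 := hU₁n hu
      rw [Subgroup.mem_normalizer_iff] at h1 ⊢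
      intro h
      rw [Subgroup.mem_subgroupOf, Subgroup.mem_subgroupOf]
      exact h1 (h : G)
    · refine ⟨⟨fun a b => ?_⟩⟩
      apply Subtype.ext
      apply Subtype.ext
      have ha : ((a : ↥N) : G) ∈ U₁ := Subgroup.mem_subgroupOf.mp a.2
      have hb : ((b : ↥N) : G) ∈ U₁ := Subgroup.mem_subgroupOf.mp b.2
      exact comm_of_isMulCommutative hU₁c _ ha _ hb
    · intro x hx hx1 u hu
      rw [Subgroup.mem_subgroupOf]
      apply hcent (x : G) ((hmemF x).mp hx)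
        (fun h => hx1 (Subtype.ext h))
      refine ⟨Subgroup.mem_subgroupOf.mp hu.1, ?_⟩
      have h2 : u ∈ Subgroup.centralizer ({x} : Set ↥N) := hu.2
      show (u : G) ∈ Subgroup.centralizer ({(x : G)} : Set G)
      rw [Subgroup.mem_centralizer_singleton_iff] at h2 ⊢
      exact congrArg Subtype.val h2
  · refine ⟨U₀.subgroupOf N, ?_, ?_, ?_⟩
    · intro x hx
      rw [Subgroup.mem_subgroupOf] at hx ⊢
      exact hU₀U hx
    · rw [Monoid.exponent_eq_of_mulEquiv (Subgroup.subgroupOfEquivOfLe (hU₀U.trans hUN)),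
        Monoid.exponent_eq_of_mulEquiv (Subgroup.subgroupOfEquivOfLe hUN)]
      exact hexp
    · intro u hu hu1 x hx hux
      apply Subtype.ext
      apply hfpf (u : G) (Subgroup.mem_subgroupOf.mp hu) (fun h => hu1 (Subtype.ext h))
        (x : G) ((hmemF x).mp hx)
      exact congrArg Subtype.val hux

end Cfsg.Agent.Lib.Helper19.BGTyp
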