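import Mathlib
import Cfsg.Prelude.Def_OddOrderLocal
import Cfsg.Agent.Lib.Helper19.BGTyp3
import Cfsg.Agent.Lib.Helper9.BG144B
import Cfsg.Agent.Lib.Helper12.CNMinB
import Cfsg.Agent.Lib.Helper20.BGAlpha
import Cfsg.Agent.S1350

/-!
helper19: B&G Section 16: `K ≠ 1`, `U ≠ 1` ⟹ `M` is of Type II, in hypothesis form on the verbatim
conclusions of S1354, S1356, S1359, S1360, S1363, S1364, S1365, S1370, S1372.
-/

set_option autoImplicit false
open Subgroup
open scoped commutatorElement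

namespace Cfsg.Agent.Lib.Helper19.BGTyp

open Cfsg.Agent.Lib.Helper1.BGZhat (exists_mul_of_mem_sup exists_mul_of_mem_sup')

variable {G : Type*} [Group G] [Finite G]

/-- conclusion of S1359 -/
def H59 (M U : Subgroup G) : Prop :=
  IsMulCommutative (Subgroup.closure ((U : Set G) ∩ Cfsg.sigmaHat M))

/-- conclusion of S1360 -/
def H60 (M U : Subgroup G) : Prop :=
  ∃ U₀ : Subgroup G, U₀ ≤ U ∧ Monoid.exponent U₀ = Monoid.exponent U ∧
    ∀ u ∈ U₀, u ∈ Cfsg.sigmaHat M → u = 1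

/-- conclusion of S1363 -/
def H63 (M U : Subgroup G) : Prop :=
  IsMulCommutative U ∧ ¬ Subgroup.normalizer (U : Set G) ≤ M

/-- conclusion of S1372 -/
def H72 (M K : Subgroup G) : Prop :=
  (Nat.card K).Prime ∧ Cfsg.IsTISubset (Cfsg.fittingOf M : Set G) ∧
    Cfsg.sigmaCore M ≤ Cfsg.fittingOf M

/-- when `U ≠ 1`, `M_σ = M_F` (unconditional; via S1429). -/
theorem sigmaCore_eq_fittingHallOf_of_U (hG : Cfsg.IsMinSimpleOddOrder G) {M K U : Subgroup G}
    (hM : IsCoatom M) (hKU : Cfsg.IsSigmaDecomposition M K U) (hU1 : U ≠ ⊥) :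
    Cfsg.sigmaCore M = Cfsg.fittingHallOf M :=
  Cfsg.Agent.Lib.Helper9.BG144.sigmaCore_eq_fittingHallOf hG hM
    (Cfsg.Agent.Lib.Helper20.BGAlpha.cent_U_eq_bot hG hM hKU hU1).2

/-- `U` is a complement of `M_σ` in `U M_σ`. -/
theorem isComplIn_sigmaCore_U {M K U : Subgroup G} (hKU : Cfsg.IsSigmaDecomposition M K U) :
    Cfsg.IsComplIn (Cfsg.sigmaCore M) U (U ⊔ Cfsg.sigmaCore M) := by
  obtain ⟨hUM, hKσM, hUK, hprod⟩ := hKU.compl
  refine ⟨le_sup_right, le_sup_left, ?_, ?_⟩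
  · apply le_bot_iff.mp
    rw [← hUK, inf_comm]
    exact inf_le_inf_left U le_sup_right
  · intro m hm
    have hUn : U ≤ Subgroup.normalizer ((Cfsg.sigmaCore M : Subgroup G) : Set G) :=
      hUM.trans (le_normalizer_sigmaCore M)
    rw [sup_comm] at hm
    exact exists_mul_of_mem_sup' hUn hm

theorem sigmaCore_ne_bot_of_K {M K : Subgroup G} (h54 : H54 M K) : Cfsg.sigmaCore M ≠ ⊥ := by
  intro h
  apply h54.1
  rw [h]; exact bot_inf_eq _

/-- **Type II.** -/
theorem typeII_of (hG : Cfsg.IsMinSimpleOddOrder G) {M K U : Subgroup G} (hM : IsCoatom M)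
    (hKU : Cfsg.IsSigmaDecomposition M K U) (hK1 : K ≠ ⊥) (hU1 : U ≠ ⊥)
    (h54 : H54 M K) (h56 : H56 M) (h59 : H59 M U) (h60 : H60 M U) (h63 : H63 M U)
    (h64 : H64 M K) (h65 : H65 M K U) (h70 : H70 M K) (h72 : H72 M K) :
    Cfsg.IsOfTypeII M := by
  have hHall := (Cfsg.Agent.S1350.result hG M hM).1
  have hσF := sigmaCore_eq_fittingHallOf_of_U hG hM hKU hU1
  have hUM : U ≤ M := hKU.compl.1
  have hc0 := isComplIn_sigmaCore_U hKU
  have hUc : Cfsg.IsComplIn (Cfsg.fittingHallOf M) U ⁅M, M⁆ := by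
    rw [← hσF, h65.1]; exact hc0
  have hP : Cfsg.IsTypePWith M K U (Ks M K) :=
    typeP_of hHall hKU hK1 h54 h56 h64 h65 h70 (isNilpotent_of_isMulCommutative h63.1)
      hKU.normal hUc
  have hcompl := hP.W₁_compl
  have hM'M : ⁅M, M⁆ ≤ M := commutator_self_le M
  -- `(M')_F = M_F`
  have hMn : M ≤ normalizer ((⁅M, M⁆ : Subgroup G) : Set G) := by
    intro m hm
    rw [Subgroup.mem_normalizer_iff]
    have key : ∀ g ∈ M, ∀ x ∈ ⁅M, M⁆, g * x * g⁻¹ ∈ ⁅M, M⁆ := by
      intro g hg x hx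
      have h1 : g * x * g⁻¹ = ⁅g, x⁆ * x := by
        rw [commutatorElement_def]; group
      rw [h1]
      exact Subgroup.mul_mem _ (Subgroup.commutator_mem_commutator hg (hM'M hx)) hx
    intro x
    constructor
    · exact key m hm x
    · intro hx
      have := key m⁻¹ (M.inv_mem hm) _ hx
      have e : m⁻¹ * (m * x * m⁻¹) * m⁻¹⁻¹ = x := by group
      rwa [e] at this
  have hcop : (Nat.card ↥⁅M, M⁆).Coprime ((⁅M, M⁆ : Subgroup G).relIndex M) := by
    have h1 := Cfsg.Agent.Lib.Helper9.isComplIn_card_mul_card hcompl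
    have h2 := Cfsg.Agent.Lib.Helper9.card_eq_card_mul_relIndex hM'M
    have h3 := Cfsg.Agent.Lib.Helper9.card_eq_card_mul_relIndex hKU.hall.1
    have h4 := coprime_card_K_relIndex hKU.hall
    have hpos : 0 < Nat.card ↥⁅M, M⁆ := Nat.card_pos
    have hposK : 0 < Nat.card ↥K := Nat.card_pos
    have h5 : (⁅M, M⁆ : Subgroup G).relIndex M = Nat.card K := by
      apply Nat.eq_of_mul_eq_mul_left hpos
      rw [← h2, h1]
    have h6 : K.relIndex M = Nat.card ↥⁅M, M⁆ := by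
      apply Nat.eq_of_mul_eq_mul_left hposK
      rw [← h3, ← h1, mul_comm]
    rw [h5, ← h6]
    exact h4.symm
  have hFF : Cfsg.fittingHallOf ⁅M, M⁆ = Cfsg.fittingHallOf M :=
    fittingHallOf_eq_of_normal hM'M hMn hcop hUc.1
  refine ⟨K, U, Ks M K, hP, hU1, h72.1, h72.2.1, h63.1, h63.2, ?_, hFF⟩
  -- `M'` is of Frobenius type
  obtain ⟨U₀, hU₀U, hexp, hU₀⟩ := h60
  have hcommU := comm_of_isMulCommutative h63.1
  apply isOfTypeF_of (H := Cfsg.sigmaCore M) (U := U)
    (U₁ := Subgroup.closure ((U : Set G) ∩ Cfsg.sigmaHat M)) (U₀ := U₀)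
  · haveI := Cfsg.Agent.Lib.Helper12.CNMin.solvable_of_ne_top hG M hM.1
    exact solvable_of_solvable_injective (Subgroup.inclusion_injective hM'M)
  · exact Cfsg.Agent.Lib.Helper12.CNMin.odd_subgroup hG _
  · rw [hFF, hσF]
  · exact sigmaCore_ne_bot_of_K h54
  · exact hU1
  · rw [hσF]; exact hUc
  · rw [Subgroup.closure_le]; exact Set.inter_subset_left
  · intro u hu
    rw [Subgroup.mem_normalizer_iff]
    have hle : Subgroup.closure ((U : Set G) ∩ Cfsg.sigmaHat M) ≤ U := by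
      rw [Subgroup.closure_le]; exact Set.inter_subset_left
    intro h
    constructor
    · intro hh
      have : u * h * u⁻¹ = h := by rw [hcommU u hu h (hle hh)]; group
      rw [this]; exact hh
    · intro hh
      have h1 : h ∈ U := by
        have : h = u⁻¹ * (u * h * u⁻¹) * u := by group
        rw [this]
        exact U.mul_mem (U.mul_mem (U.inv_mem hu) (hle hh)) hu
      have : u * h * u⁻¹ = h := by rw [hcommU u hu h h1]; group
      rw [this] at hh; exact hh
  · exact h59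
  · intro x hx hx1 u hu
    apply Subgroup.subset_closure
    refine ⟨hu.1, hUM hu.1, x, hx, hx1, ?_⟩
    have h2 : u ∈ Subgroup.centralizer ({x} : Set G) := hu.2
    rw [Subgroup.mem_centralizer_singleton_iff] at h2
    exact h2
  · exact hU₀U
  · exact hexp
  · intro u hu hu1 x hx hux
    by_contra hx1
    exact hu1 (hU₀ u hu ⟨hUM (hU₀U hu), x, hx, hx1, hux⟩)

end Cfsg.Agent.Lib.Helper19.BGTyp
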