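import Mathlib
import Cfsg.Prelude.Def_OddOrderLocal
import Cfsg.Agent.Lib.Helper19.BGTyp4
import Cfsg.Agent.Lib.Helper1.Coprime
import Cfsg.Agent.Lib.Helper23.BGY2

/-!
helper19: B&G Section 16: invariant complements of `M_F` (for Types III, IV).
-/

set_option autoImplicit false
open Subgroup
open scoped commutatorElement

namespace Cfsg.Agent.Lib.Helper19.BGTyp

open Cfsg.Agent.Lib.Helper8

variable {G : Type*} [Group G] [Finite G]

/-- a complement of the normal Hall subgroup `F` in `M`, in `Cfsg.IsComplIn` form. -/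
theorem exists_compl_of_hall {M F : Subgroup G} (hFM : F ≤ M)
    (hFn : M ≤ normalizer (F : Set G)) (hcop : (Nat.card F).Coprime (F.relIndex M)) :
    ∃ C : Subgroup G, Cfsg.IsComplIn C F M := by
  obtain ⟨C, h1, h2, h3, h4⟩ := Cfsg.Agent.Lib.Helper1.internal_sz_exists hFM hFn hcop
  refine ⟨C, h2, h1, ?_, ?_⟩
  · rw [inf_comm]; exact disjoint_iff.mp h3
  · intro m hm
    obtain ⟨k, hk, a, ha, hka⟩ := h4 m hm
    refine ⟨a, ha, a⁻¹ * k * a, ?_, by rw [← hka]; group⟩
    have haN : a⁻¹ ∈ normalizer (F : Set G) := hFn (M.inv_mem (h2 ha))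
    have := (Subgroup.mem_normalizer_iff.mp haN k).mp hk
    simpa using this

/-- **invariant complement**: `F` a normal Hall subgroup of `M`, `K ≤ M` of order coprime to `|F|`,
`F ≤ S ⊴ M`: there is a `K`-invariant complement of `F` in `S`. -/
theorem exists_invariant_compl {M F K S : Subgroup G} (hFM : F ≤ M)
    (hFn : M ≤ normalizer (F : Set G)) (hcop : (Nat.card F).Coprime (F.relIndex M))
    (hKM : K ≤ M) (hKF : (Nat.card K).Coprime (Nat.card F))
    (hsolv : IsSolvable ↥K ∨ IsSolvable ↥F)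
    (hFS : F ≤ S) (hSM : S ≤ M) (hSn : M ≤ normalizer (S : Set G)) :
    ∃ UP : Subgroup G, Cfsg.IsComplIn F UP S ∧ K ≤ normalizer (UP : Set G) := by
  obtain ⟨C, hC⟩ := exists_compl_of_hall hFM hFn hcop
  obtain ⟨f, hf, hfK⟩ := Cfsg.Agent.Lib.Helper23.BGY.exists_conj_mem_compl hFn hC hKM hKF hsolv
  have hC' := Cfsg.Agent.Lib.Helper23.BGY.isComplIn_conj hFn hC (hFM hf)
  set C' := C.map (MulAut.conj f).toMonoidHom with hC'def
  have hKC' : K ≤ C' := by
    intro h hh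
    rw [hC'def, mem_map_conj]
    exact hfK h hh
  obtain ⟨hC'M, -, hC'F, hprod⟩ := hC'
  refine ⟨C' ⊓ S, ⟨hFS, inf_le_right, ?_, ?_⟩, ?_⟩
  · apply le_bot_iff.mp
    rw [← hC'F, inf_comm]
    exact inf_le_inf_right F inf_le_left
  · intro s hs
    obtain ⟨c, hc, a, ha, rfl⟩ := hprod s (hSM hs)
    have hcN := hFn (hC'M hc)
    have h1 : c * a * c⁻¹ ∈ F := (Subgroup.mem_normalizer_iff.mp hcN a).mp ha
    refine ⟨c * a * c⁻¹, h1, c, ⟨hc, ?_⟩, by group⟩
    have : c = (c * a * c⁻¹)⁻¹ * (c * a) := by group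
    rw [this]
    exact S.mul_mem (S.inv_mem (hFS h1)) hs
  · intro k hk
    have h1 : k ∈ normalizer (C' : Set G) := Subgroup.le_normalizer (hKC' hk)
    have h2 : k ∈ normalizer (S : Set G) := hSn (hKM hk)
    rw [Subgroup.mem_normalizer_iff] at h1 h2 ⊢
    intro h
    exact ⟨fun hh => ⟨(h1 h).mp hh.1, (h2 h).mp hh.2⟩, fun hh => ⟨(h1 h).mpr hh.1, (h2 h).mpr hh.2⟩⟩

/-- nilpotency of a complement of `M_F` in `M'` from the nilpotency of `M'/M_F` (S1355). -/
theorem nilpotent_of_compl {M UP : Subgroup G}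
    (h55 : Group.IsNilpotent
      ↥((commutator ↥M).map (QuotientGroup.mk' (Cfsg.fittingHall ↥M))))
    (hUP : UP ≤ ⁅M, M⁆) (hd : Cfsg.fittingHallOf M ⊓ UP = ⊥) : Group.IsNilpotent UP := by
  have hM'M : ⁅M, M⁆ ≤ M := commutator_self_le M
  have hmem : ∀ u : UP, (⟨(u : G), hM'M (hUP u.2)⟩ : ↥M) ∈ commutator ↥M := by
    intro u
    have h1 : (u : G) ∈ (commutator ↥M).map M.subtype := by
      rw [Subgroup.map_subtype_commutator]; exact hUP u.2
    obtain ⟨y, hy, hyu⟩ := h1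
    have : y = ⟨(u : G), hM'M (hUP u.2)⟩ := Subtype.ext hyu
    rw [← this]; exact hy
  let φ : UP →* ↥((commutator ↥M).map (QuotientGroup.mk' (Cfsg.fittingHall ↥M))) :=
    { toFun := fun u => ⟨QuotientGroup.mk' (Cfsg.fittingHall ↥M) ⟨(u : G), hM'M (hUP u.2)⟩,
        Subgroup.mem_map_of_mem _ (hmem u)⟩
      map_one' := by
        apply Subtype.ext
        show QuotientGroup.mk' (Cfsg.fittingHall ↥M) ⟨((1 : UP) : G), _⟩ = 1
        exact map_one _
      map_mul' := by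
        intro a b
        apply Subtype.ext
        show QuotientGroup.mk' (Cfsg.fittingHall ↥M) ⟨((a * b : UP) : G), _⟩ =
          QuotientGroup.mk' (Cfsg.fittingHall ↥M) ⟨(a : G), _⟩ *
            QuotientGroup.mk' (Cfsg.fittingHall ↥M) ⟨(b : G), _⟩
        rw [← map_mul]
        rfl }
  have hker : φ.ker = ⊥ := by
    rw [Subgroup.eq_bot_iff_forall]
    intro u hu
    rw [MonoidHom.mem_ker] at hu
    have h1 : QuotientGroup.mk' (Cfsg.fittingHall ↥M) ⟨(u : G), hM'M (hUP u.2)⟩ = 1 :=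
      congrArg Subtype.val hu
    rw [QuotientGroup.mk'_apply, QuotientGroup.eq_one_iff] at h1
    have h2 : (u : G) ∈ Cfsg.fittingHallOf M ⊓ UP :=
      ⟨⟨_, h1, rfl⟩, u.2⟩
    rw [hd, Subgroup.mem_bot] at h2
    exact Subtype.ext h2
  haveI := h55
  exact Subgroup.isNilpotent_of_ker_le_center φ (by rw [hker]; exact bot_le)

end Cfsg.Agent.Lib.Helper19.BGTyp
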