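import Mathlib
import Cfsg.Prelude.Def_OddOrderLocal
import Cfsg.Agent.Lib.Helper19.BGTyp5
import Cfsg.Agent.Lib.Helper8.BGEx1
import Cfsg.Agent.Lib.Helper9.BGSigEmb

/-!
helper19: B&G Section 16: `K ≠ 1`, `U = 1`, `M_F ≠ M_σ` ⟹ `M` is of Type III or IV, in hypothesis
form on the verbatim conclusions of S1354, S1355, S1356, S1357, S1364, S1365, S1370.
-/

set_option autoImplicit false
open Subgroup
open scoped commutatorElement

namespace Cfsg.Agent.Lib.Helper19.BGTyp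

open Cfsg.Agent.Lib.Helper8

variable {G : Type*} [Group G] [Finite G]

/-- The normalizer of a nontrivial Hall subgroup of `M_σ` lies in `M`. -/
theorem normalizer_le_of_hall_sigmaCore (hG : Cfsg.IsMinSimpleOddOrder G) {M UP : Subgroup G}
    (hM : IsCoatom M) (hUP : UP ≤ Cfsg.sigmaCore M) (hne : UP ≠ ⊥)
    (hcop : (Nat.card UP).Coprime (UP.relIndex (Cfsg.sigmaCore M))) :
    normalizer (UP : Set G) ≤ M := by
  have hHall := (Cfsg.Agent.S1350.result hG M hM).1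
  have hc : Nat.card UP ≠ 1 := fun h => hne (Subgroup.card_eq_one.mp h)
  obtain ⟨r, hr, hrd⟩ := Nat.exists_prime_and_dvd hc
  haveI : Fact r.Prime := ⟨hr⟩
  have hrσ : r ∈ Cfsg.sigma M :=
    hHall.2.1 r hr (hrd.trans (Subgroup.card_dvd_of_le hUP))
  have hrn : ¬ r ∣ UP.relIndex (Cfsg.sigmaCore M) := by
    intro h
    have := Nat.Coprime.eq_one_of_dvd (Nat.Coprime.coprime_dvd_left hrd hcop) h
    exact hr.one_lt.ne' this
  obtain P : Sylow r ↥UP := default
  set R := (P : Subgroup ↥UP).map UP.subtype with hR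
  have hRS : IsSylIn r R UP := sylow_map_subtype_isSylIn P
  have hRσ : IsSylIn r R (Cfsg.sigmaCore M) :=
    Cfsg.Agent.Lib.Helper8.BGEx.isSylIn_of_not_dvd_relIndex hRS hUP hrn
  have hNR : normalizer (R : Set G) ≤ M :=
    Cfsg.Agent.Lib.Helper8.BGEx.normalizer_le_of_isSylIn_sigmaCore hG hM hrσ hRσ
  have hRp : IsPGroup r R := hRS.isPGroup
  have hRidx : ¬ r ∣ R.relIndex UP := by
    intro h
    have h1 := Cfsg.Agent.Lib.Helper9.card_eq_card_mul_relIndex hRS.1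
    have h2 := hRS.2
    have h3 : r ^ ((Nat.card UP).factorization r + 1) ∣ Nat.card UP := by
      rw [pow_succ]
      conv_rhs => rw [h1, h2]
      exact Nat.mul_dvd_mul_left _ h
    exact (Nat.pow_succ_factorization_not_dvd Nat.card_pos.ne' hr) h3
  intro n hn
  -- `R^n ≤ UP` is conjugate into `R` by some `u ∈ UP`
  have hRn : R.map (MulAut.conj n).toMonoidHom ≤ UP := by
    rintro _ ⟨x, hx, rfl⟩
    exact (Subgroup.mem_normalizer_iff.mp hn x).mp (hRS.1 hx)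
  obtain ⟨y, hyU, hy⟩ := Cfsg.Agent.Lib.Helper9.BGSigEmb.exists_conj_le_of_not_dvd_relIndex hRp hRidx
    (hRp.map (MulAut.conj n).toMonoidHom) hRn
  have h1 : R.map (MulAut.conj (y * n)).toMonoidHom ≤ R := by
    rw [← map_conj_map_conj]
    rintro _ ⟨x, hx, rfl⟩
    exact hy x hx
  have h2 : y * n ∈ normalizer (R : Set G) :=
    mem_normalizer_iff_map_conj.mpr (map_conj_eq_of_le h1)
  have hyM : y ∈ M := sigmaCore_le M (hUP hyU)
  have : n = y⁻¹ * (y * n) := by group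
  rw [this]
  exact M.mul_mem (M.inv_mem hyM) (hNR h2)

/-- conclusion of S1355 -/
def H55 (M : Subgroup G) : Prop :=
  Cfsg.fittingHallOf M ≠ ⊥ ∧ Cfsg.fittingHallOf M ≤ Cfsg.sigmaCore M ∧ Cfsg.sigmaCore M ≤ ⁅M, M⁆ ∧
    ⁅M, M⁆ < M ∧
    Group.IsNilpotent ↥((commutator ↥M).map (QuotientGroup.mk' (Cfsg.fittingHall ↥M)))

/-- conclusion of S1357 (with its hypothesis `M_F ≠ M_σ`) -/
def H57 (M K U : Subgroup G) : Prop :=
  Cfsg.fittingHallOf M ≠ Cfsg.sigmaCore M →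
    U = ⊥ ∧ Cfsg.IsTISubset (Cfsg.fittingOf M : Set G) ∧ (Nat.card K).Prime

/-- **Type III or IV.** -/
theorem typeIII_or_IV_of (hG : Cfsg.IsMinSimpleOddOrder G) {M K U : Subgroup G} (hM : IsCoatom M)
    (hKU : Cfsg.IsSigmaDecomposition M K U) (hK1 : K ≠ ⊥) (hU : U = ⊥)
    (hne : Cfsg.fittingHallOf M ≠ Cfsg.sigmaCore M)
    (h54 : H54 M K) (h55 : H55 M) (h56 : H56 M) (h57 : H57 M K U)
    (h64 : H64 M K) (h65 : H65 M K U) (h70 : H70 M K) :
    Cfsg.IsOfTypeIII M ∨ Cfsg.IsOfTypeIV M := by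
  have hHall := (Cfsg.Agent.S1350.result hG M hM).1
  obtain ⟨-, hTI, hKp⟩ := h57 hne
  have hM' : ⁅M, M⁆ = Cfsg.sigmaCore M := by rw [h65.1, hU, bot_sup_eq]
  have hFσ : Cfsg.fittingHallOf M ≤ Cfsg.sigmaCore M := h55.2.1
  have hFM : Cfsg.fittingHallOf M ≤ M := Cfsg.Agent.Lib.Helper12.CNMin.fittingHallOf_le M
  have hFn := Cfsg.Agent.Lib.Helper12.CNMin.le_normalizer_fittingHallOf M
  have hFcop := coprime_card_fittingHallOf_relIndex M
  have hKF : (Nat.card K).Coprime (Nat.card (Cfsg.fittingHallOf M)) :=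
    Nat.Coprime.coprime_dvd_right (Subgroup.card_dvd_of_le hFσ)
      (Cfsg.Agent.Lib.Helper1.BGZhat.coprime_card_K_sigmaCore hHall hKU.hall)
  have hKsolv : IsSolvable ↥K := by
    haveI := Cfsg.Agent.Lib.Helper12.CNMin.solvable_of_ne_top hG M hM.1
    exact solvable_of_solvable_injective (Subgroup.inclusion_injective hKU.hall.1)
  obtain ⟨UP, hUPc, hUPn⟩ := exists_invariant_compl hFM hFn hFcop hKU.hall.1 hKF (Or.inl hKsolv)
    hFσ (sigmaCore_le M) (le_normalizer_sigmaCore M)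
  have hUPc' : Cfsg.IsComplIn (Cfsg.fittingHallOf M) UP ⁅M, M⁆ := by rw [hM']; exact hUPc
  have hUPnil : Group.IsNilpotent UP :=
    nilpotent_of_compl h55.2.2.2.2 hUPc'.2.1 hUPc.2.2.1
  have hP : Cfsg.IsTypePWith M K UP (Ks M K) :=
    typeP_of hHall hKU hK1 h54 h56 h64 h65 h70 hUPnil hUPn hUPc'
  have hUP1 : UP ≠ ⊥ := by
    intro h
    apply hne
    apply le_antisymm hFσ
    intro s hs
    obtain ⟨a, ha, b, hb, rfl⟩ := hUPc.2.2.2 s hs
    rw [h, Subgroup.mem_bot] at hb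
    rw [hb, mul_one]; exact ha
  have hUPcop : (Nat.card UP).Coprime (UP.relIndex (Cfsg.sigmaCore M)) := by
    have h1 := Cfsg.Agent.Lib.Helper9.isComplIn_card_mul_card hUPc
    have h2 := Cfsg.Agent.Lib.Helper9.card_eq_card_mul_relIndex hUPc.2.1
    have h3 := Cfsg.Agent.Lib.Helper9.card_eq_card_mul_relIndex hFσ
    have hposU : 0 < Nat.card ↥UP := Nat.card_pos
    have hposF : 0 < Nat.card ↥(Cfsg.fittingHallOf M) := Nat.card_pos
    have h5 : UP.relIndex (Cfsg.sigmaCore M) = Nat.card (Cfsg.fittingHallOf M) := by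
      apply Nat.eq_of_mul_eq_mul_left hposU
      rw [← h2, ← h1, mul_comm]
    have h6 : (Cfsg.fittingHallOf M).relIndex (Cfsg.sigmaCore M) = Nat.card UP := by
      apply Nat.eq_of_mul_eq_mul_left hposF
      rw [← h3, h1]
    rw [h5, ← h6]
    have h7 : (Cfsg.fittingHallOf M).relIndex (Cfsg.sigmaCore M) ∣
        (Cfsg.fittingHallOf M).relIndex M := by
      have := Subgroup.relIndex_mul_relIndex _ _ _ hFσ (sigmaCore_le M)
      exact Dvd.intro _ this
    exact (Nat.Coprime.coprime_dvd_right h7 hFcop).symm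
  have hN : normalizer (UP : Set G) ≤ M :=
    normalizer_le_of_hall_sigmaCore hG hM hUPc.2.1 hUP1 hUPcop
  by_cases hab : IsMulCommutative UP
  · exact Or.inl ⟨K, UP, Ks M K, hP, hUP1, hKp, hTI, hab, hN⟩
  · exact Or.inr ⟨K, UP, Ks M K, hP, hUP1, hKp, hTI, hab, hN⟩

end Cfsg.Agent.Lib.Helper19.BGTyp
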