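import Mathlib
import Cfsg.Prelude.Def_OddOrderLocal
import Cfsg.Agent.Lib.Helper19.BGTyp6

/-!
helper19: B&G Section 16: `K ≠ 1`, `U = 1`, `M_F = M_σ` ⟹ `M` is of Type V, in hypothesis
form on the verbatim conclusions of S1354, S1356, S1364, S1365, S1370, S1440.
-/

set_option autoImplicit false
open Subgroup
open scoped commutatorElement

namespace Cfsg.Agent.Lib.Helper19.BGTyp

open Cfsg.Agent.Lib.Helper8

variable {G : Type*} [Group G] [Finite G]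

/-- conclusion of S1440 for a given `g` -/
def C40 (M K U : Subgroup G) (g : G) : Prop :=
  (Cfsg.fittingOf M ⊓ (Cfsg.fittingOf M).map (MulAut.conj g).toMonoidHom ≤ Cfsg.fittingHallOf M ∧ IsCyclic ↥(Cfsg.fittingOf M ⊓ (Cfsg.fittingOf M).map (MulAut.conj g).toMonoidHom)) ∧
      (⁅M, M⁆ = Cfsg.fittingOf M ∧ Cfsg.fittingOf M = Cfsg.sigmaCore M ⊔ Cfsg.piCoreOf {q | q.Prime ∧ q ∉ Cfsg.sigma M} (Cfsg.fittingOf M)) ∧
      ((K = ⊥ ∧ IsMulCommutative (Cfsg.fittingHallOf M) ∧ Cfsg.RankLE 2 (Cfsg.fittingHallOf M) ∧ ¬ Cfsg.RankLE 1 (Cfsg.fittingHallOf M)) ∨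
       (∃ p : ℕ, p.Prime ∧ Nat.card ↥(Cfsg.fittingOf M ⊓ (Cfsg.fittingOf M).map (MulAut.conj g).toMonoidHom) = p ∧ p ∈ Cfsg.sigma M ∧ p ∉ Cfsg.beta M ∧
          ¬ IsMulCommutative (Cfsg.pCore p ↥(Cfsg.fittingHallOf M)) ∧ IsCyclic (Cfsg.pPrimeCore p ↥(Cfsg.fittingHallOf M)) ∧
          ∀ q : ℕ, q.Prime → q ∣ Nat.card (Cfsg.fittingHallOf M) → Monoid.exponent (↥M ⧸ Cfsg.fittingHall ↥M) ∣ q - 1) ∨
       (∃ p : ℕ, p.Prime ∧ Nat.card ↥(Cfsg.fittingOf M ⊓ (Cfsg.fittingOf M).map (MulAut.conj g).toMonoidHom) = p ∧ p ∈ Cfsg.sigma M ∧ p ∉ Cfsg.beta M ∧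
          IsCyclic (Cfsg.pPrimeCore p ↥(Cfsg.fittingHallOf M)) ∧ Nat.card (Cfsg.pCore p ↥(Cfsg.fittingHallOf M)) = p ^ 3 ∧
          ¬ IsMulCommutative (Cfsg.pCore p ↥(Cfsg.fittingHallOf M)) ∧ K ≠ ⊥ ∧ U = ⊥ ∧ (Cfsg.fittingHallOf M).relIndex M ∣ p + 1))

/-- S1440 as a hypothesis -/
def H40 (M K U : Subgroup G) : Prop :=
  ∀ g : G, g ∉ M →
    Cfsg.fittingOf M ⊓ (Cfsg.fittingOf M).map (MulAut.conj g).toMonoidHom ≠ ⊥ → C40 M K U g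

/-- If `M_F` is not a TI-subset then some `g ∉ M` has `F(M) ∩ F(M)^g ≠ 1`. -/
theorem exists_of_not_TI {M : Subgroup G}
    (hnTI : ¬ Cfsg.IsTISubset (Cfsg.fittingHallOf M : Set G)) :
    ∃ g : G, g ∉ M ∧
      Cfsg.fittingOf M ⊓ (Cfsg.fittingOf M).map (MulAut.conj g).toMonoidHom ≠ ⊥ := by
  unfold Cfsg.IsTISubset at hnTI
  push_neg at hnTI
  obtain ⟨g, hg, x, hx, hgx, hx1⟩ := hnTI
  have hHF := Cfsg.Agent.Lib.Helper9.fittingHallOf_le_fittingOf M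
  refine ⟨g, fun hgM => hg (Cfsg.Agent.Lib.Helper12.CNMin.le_normalizer_fittingHallOf M hgM), ?_⟩
  intro h
  have h1 : g * x * g⁻¹ ∈ Cfsg.fittingOf M ⊓ (Cfsg.fittingOf M).map (MulAut.conj g).toMonoidHom :=
    ⟨hHF hgx, conj_mem_map_conj (hHF hx)⟩
  rw [h, Subgroup.mem_bot] at h1
  apply hx1
  have : x = g⁻¹ * (g * x * g⁻¹) * g := by group
  rw [this, h1]; group

/-- **Type V.** -/
theorem typeV_of (hG : Cfsg.IsMinSimpleOddOrder G) {M K U : Subgroup G} (hM : IsCoatom M)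
    (hKU : Cfsg.IsSigmaDecomposition M K U) (hK1 : K ≠ ⊥) (hU : U = ⊥)
    (heq : Cfsg.fittingHallOf M = Cfsg.sigmaCore M)
    (h54 : H54 M K) (h56 : H56 M) (h64 : H64 M K) (h65 : H65 M K U) (h70 : H70 M K)
    (h40 : H40 M K U) :
    Cfsg.IsOfTypeV M := by
  have hHall := (Cfsg.Agent.S1350.result hG M hM).1
  have hM' : ⁅M, M⁆ = Cfsg.sigmaCore M := by rw [h65.1, hU, bot_sup_eq]
  have hc : Cfsg.IsComplIn (Cfsg.fittingHallOf M) ⊥ ⁅M, M⁆ := by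
    rw [hM', heq]
    exact ⟨le_rfl, bot_le, inf_bot_eq _, fun m hm => ⟨m, hm, 1, Subgroup.one_mem _, (mul_one m).symm⟩⟩
  have hP : Cfsg.IsTypePWith M K ⊥ (Ks M K) :=
    typeP_of hHall hKU hK1 h54 h56 h64 h65 h70 inferInstance
      (by rw [Subgroup.coe_bot]; intro k _; rw [Subgroup.mem_set_normalizer_iff]; intro h; simp) hc
  refine ⟨K, ⊥, Ks M K, hP, rfl, ?_⟩
  by_cases hTI : Cfsg.IsTISubset (Cfsg.fittingHallOf M : Set G)
  · exact Or.inl hTI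
  right
  obtain ⟨g, hgM, hX⟩ := exists_of_not_TI hTI
  obtain ⟨⟨hXH, -⟩, -, h3⟩ := h40 g hgM hX
  have hcompl := hP.W₁_compl
  have hKH : K ⊓ Cfsg.fittingHallOf M = ⊥ := by
    rw [heq]; exact Cfsg.Agent.Lib.Helper1.BGZhat.K_inf_sigmaCore hHall hKU.hall
  have hpH : ∀ p : ℕ, Nat.card ↥(Cfsg.fittingOf M ⊓
      (Cfsg.fittingOf M).map (MulAut.conj g).toMonoidHom) = p → p ∣ Nat.card (Cfsg.fittingHallOf M) :=
    fun p hp => hp ▸ Subgroup.card_dvd_of_le hXH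
  rcases h3 with ⟨hK0, -⟩ | ⟨p, hp, hXp, -, -, -, hcyc, hexp⟩ | ⟨p, hp, hXp, -, -, hcyc, hc3, -, -, -, hidx⟩
  · exact absurd hK0 hK1
  · left
    refine ⟨p, hp, hpH p hXp, ?_, hcyc⟩
    have he := hexp p hp (hpH p hXp)
    obtain ⟨k, hk⟩ := hKU.cyclic.exists_generator
    have hkM : (k : G) ∈ M := hKU.hall.1 k.2
    have h1 : (QuotientGroup.mk' (Cfsg.fittingHall ↥M) ⟨(k : G), hkM⟩) ^ (p - 1) = 1 :=
      (Monoid.exponent_dvd_iff_forall_pow_eq_one.mp he) _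
    rw [← map_pow, QuotientGroup.mk'_apply, QuotientGroup.eq_one_iff] at h1
    have h2 : ((k : G)) ^ (p - 1) ∈ K ⊓ Cfsg.fittingHallOf M :=
      ⟨K.pow_mem k.2 _, ⟨_, h1, rfl⟩⟩
    rw [hKH, Subgroup.mem_bot] at h2
    have h3 : k ^ (p - 1) = 1 := Subtype.ext h2
    have h4 : orderOf k ∣ p - 1 := orderOf_dvd_of_pow_eq_one h3
    rwa [orderOf_eq_card_of_forall_mem_zpowers hk] at h4
  · right
    refine ⟨p, hp, hpH p hXp, hc3, ?_, hcyc⟩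
    have h1 := Cfsg.Agent.Lib.Helper9.isComplIn_card_mul_card hcompl
    have h2 := Cfsg.Agent.Lib.Helper9.card_eq_card_mul_relIndex
      (Cfsg.Agent.Lib.Helper12.CNMin.fittingHallOf_le M)
    have hpos : 0 < Nat.card ↥(Cfsg.fittingHallOf M) := Nat.card_pos
    have h5 : (Cfsg.fittingHallOf M).relIndex M = Nat.card K := by
      apply Nat.eq_of_mul_eq_mul_left hpos
      rw [← h2, ← h1, hM', heq]
    rw [← h5]; exact hidx

/-- the non-TI alternative of Type V, as delivered by helper20's `typeV_alt`. -/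
def HV (M K : Subgroup G) : Prop :=
  ∀ g : G, g ∉ M →
    Cfsg.fittingHallOf M ⊓ (Cfsg.fittingHallOf M).map (MulAut.conj g).toMonoidHom ≠ ⊥ →
    ∃ p : ℕ, p.Prime ∧ p ∣ Nat.card (Cfsg.fittingHallOf M) ∧
      IsCyclic (Cfsg.pPrimeCore p ↥(Cfsg.fittingHallOf M)) ∧
      (Nat.card K ∣ p - 1 ∨
        (Nat.card (Cfsg.pCore p ↥(Cfsg.fittingHallOf M)) = p ^ 3 ∧ Nat.card K ∣ p + 1))

/-- If `M_F` is not a TI-subset then some `g ∉ M` has `M_F ∩ M_F^g ≠ 1`. -/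
theorem exists_of_not_TI' {M : Subgroup G}
    (hnTI : ¬ Cfsg.IsTISubset (Cfsg.fittingHallOf M : Set G)) :
    ∃ g : G, g ∉ M ∧
      Cfsg.fittingHallOf M ⊓ (Cfsg.fittingHallOf M).map (MulAut.conj g).toMonoidHom ≠ ⊥ := by
  unfold Cfsg.IsTISubset at hnTI
  push_neg at hnTI
  obtain ⟨g, hg, x, hx, hgx, hx1⟩ := hnTI
  refine ⟨g, fun hgM => hg (Cfsg.Agent.Lib.Helper12.CNMin.le_normalizer_fittingHallOf M hgM), ?_⟩
  intro h
  have h1 : g * x * g⁻¹ ∈ Cfsg.fittingHallOf M ⊓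
      (Cfsg.fittingHallOf M).map (MulAut.conj g).toMonoidHom :=
    ⟨hgx, conj_mem_map_conj hx⟩
  rw [h, Subgroup.mem_bot] at h1
  apply hx1
  have : x = g⁻¹ * (g * x * g⁻¹) * g := by group
  rw [this, h1]; group

/-- **Type V**, second form (without S1440). -/
theorem typeV_of' (hG : Cfsg.IsMinSimpleOddOrder G) {M K U : Subgroup G} (hM : IsCoatom M)
    (hKU : Cfsg.IsSigmaDecomposition M K U) (hK1 : K ≠ ⊥) (hU : U = ⊥)
    (heq : Cfsg.fittingHallOf M = Cfsg.sigmaCore M)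
    (h54 : H54 M K) (h56 : H56 M) (h64 : H64 M K) (h65 : H65 M K U) (h70 : H70 M K)
    (hV : HV M K) :
    Cfsg.IsOfTypeV M := by
  have hHall := (Cfsg.Agent.S1350.result hG M hM).1
  have hM' : ⁅M, M⁆ = Cfsg.sigmaCore M := by rw [h65.1, hU, bot_sup_eq]
  have hc : Cfsg.IsComplIn (Cfsg.fittingHallOf M) ⊥ ⁅M, M⁆ := by
    rw [hM', heq]
    exact ⟨le_rfl, bot_le, inf_bot_eq _, fun m hm => ⟨m, hm, 1, Subgroup.one_mem _, (mul_one m).symm⟩⟩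
  have hP : Cfsg.IsTypePWith M K ⊥ (Ks M K) :=
    typeP_of hHall hKU hK1 h54 h56 h64 h65 h70 inferInstance
      (by rw [Subgroup.coe_bot]; intro k _; rw [Subgroup.mem_set_normalizer_iff]; intro h; simp) hc
  refine ⟨K, ⊥, Ks M K, hP, rfl, ?_⟩
  by_cases hTI : Cfsg.IsTISubset (Cfsg.fittingHallOf M : Set G)
  · exact Or.inl hTI
  right
  obtain ⟨g, hgM, hX⟩ := exists_of_not_TI' hTI
  obtain ⟨p, hp, hpd, hcyc, h | ⟨h3, h⟩⟩ := hV g hgM hX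
  · exact Or.inl ⟨p, hp, hpd, h, hcyc⟩
  · exact Or.inr ⟨p, hp, hpd, h3, h, hcyc⟩

end Cfsg.Agent.Lib.Helper19.BGTyp
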