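import Mathlib
import Cfsg.Prelude.Def_OddOrderLocal
import Cfsg.Agent.Lib.Helper19.BGTyp7
import Cfsg.Agent.Lib.Helper24.BGBeta4
import Cfsg.Agent.S1403

/-!
helper19: B&G Section 16: type-P data force `κ(M) ≠ ∅` (so `K ≠ 1`).
-/

set_option autoImplicit false
open Subgroup
open scoped commutatorElement

namespace Cfsg.Agent.Lib.Helper19.BGTyp

open Cfsg.Agent.Lib.Helper8

variable {G : Type*} [Group G] [Finite G]

/-- `M_σ ≤ M'` (unconditional). -/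
theorem sigmaCore_le_derived (hG : Cfsg.IsMinSimpleOddOrder G) {M : Subgroup G} (hM : IsCoatom M) :
    Cfsg.sigmaCore M ≤ ⁅M, M⁆ :=
  Cfsg.Agent.Lib.Helper24.BGBeta.sigmaCore_le_commutator hG
    (fun K hK hK2 hK3 => Cfsg.Agent.S1403.result hG K hK hK2 hK3) hM

/-- every prime divisor of `|W₁|` lies in `κ(M)`. -/
theorem mem_kappa_of_typeP (hG : Cfsg.IsMinSimpleOddOrder G) {M W₁ UP W₂ : Subgroup G}
    (hM : IsCoatom M) (hP : Cfsg.IsTypePWith M W₁ UP W₂) {p : ℕ} (hp : p.Prime)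
    (hpd : p ∣ Nat.card W₁) : p ∈ Cfsg.kappa M := by
  haveI : Fact p.Prime := ⟨hp⟩
  obtain ⟨hM'M, hW₁M, hM'W, -⟩ := hP.W₁_compl
  have hσM' := sigmaCore_le_derived hG hM
  -- a Sylow `p`-subgroup `R` of `W₁`
  obtain P₀ : Sylow p ↥W₁ := default
  set R := (P₀ : Subgroup ↥W₁).map W₁.subtype with hRdef
  have hRW : IsSylIn p R W₁ := sylow_map_subtype_isSylIn P₀
  have hpn : ¬ p ∣ W₁.relIndex M := by
    intro h
    have := Nat.Coprime.eq_one_of_dvd (Nat.Coprime.coprime_dvd_left hpd hP.W₁_hall) h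
    exact hp.one_lt.ne' this
  have hRM : IsSylIn p R M := Cfsg.Agent.Lib.Helper8.BGEx.isSylIn_of_not_dvd_relIndex hRW hW₁M hpn
  have hR1 : R ≠ ⊥ := by
    intro h
    have h1 := hRW.2
    rw [h, Subgroup.card_bot] at h1
    have h2 : (Nat.card W₁).factorization p = 0 := by
      by_contra h0
      have : 1 < p ^ (Nat.card W₁).factorization p := Nat.one_lt_pow h0 hp.one_lt
      omega
    have h3 := (Nat.factorization_eq_zero_iff _ _).mp h2
    rcases h3 with h3 | h3 | h3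
    · exact h3 hp
    · exact h3 hpd
    · exact Nat.card_pos.ne' h3
  obtain ⟨x₀, hx₀R, hx₀1⟩ := (Subgroup.ne_bot_iff_exists_ne_one.mp hR1 |>
    fun ⟨⟨x, hx⟩, h⟩ => ⟨x, hx, fun h' => h (Subtype.ext h')⟩ : ∃ x₀ ∈ R, x₀ ≠ 1)
  have hx₀W : x₀ ∈ W₁ := hRW.1 hx₀R
  obtain ⟨-, hW₂1, -, -, -, -⟩ := hP.selfNormalizing
  obtain ⟨y₀, hy₀W, hy₀1⟩ := (Subgroup.ne_bot_iff_exists_ne_one.mp hW₂1 |>
    fun ⟨⟨x, hx⟩, h⟩ => ⟨x, hx, fun h' => h (Subtype.ext h')⟩ : ∃ y₀ ∈ W₂, y₀ ≠ 1)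
  have hy₀σ : y₀ ∈ Cfsg.sigmaCore M :=
    Cfsg.Agent.Lib.Helper9.BG144.fittingHallOf_le_sigmaCore hG hM (hP.W₂_le.trans inf_le_left hy₀W)
  have hcomm : x₀ * y₀ = y₀ * x₀ := by
    have h1 : y₀ ∈ ⁅M, M⁆ ⊓ centralizer ({x₀} : Set G) := by
      rw [hP.W₂_centralizer x₀ hx₀W hx₀1]; exact hy₀W
    have h2 : y₀ ∈ centralizer ({x₀} : Set G) := h1.2
    rw [Subgroup.mem_centralizer_singleton_iff] at h2
    exact h2.symm
  have hRcyc : IsCyclic ↥R := by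
    haveI := hP.W₁_cyclic
    have : IsCyclic ↥(R.subgroupOf W₁) := inferInstance
    exact isCyclic_of_surjective (Subgroup.subgroupOfEquivOfLe hRW.1).toMonoidHom
      (Subgroup.subgroupOfEquivOfLe hRW.1).surjective
  refine ⟨hp, hpd.trans (Subgroup.card_dvd_of_le hW₁M), ?_, ?_⟩
  · intro hσ
    have h1 : R ≤ Cfsg.sigmaCore M :=
      Cfsg.Agent.Lib.Helper8.BGEx.le_sigmaCore hG hM hσ hRW.isPGroup hRM.1
    have h2 : x₀ ∈ ⁅M, M⁆ ⊓ W₁ := ⟨hσM' (h1 hx₀R), hx₀W⟩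
    rw [hM'W, Subgroup.mem_bot] at h2
    exact hx₀1 h2
  · intro P
    have hPS : IsSylIn p ((P : Subgroup ↥M).map M.subtype) M := sylow_map_subtype_isSylIn P
    obtain ⟨m, hm, hPm⟩ := Cfsg.Agent.Lib.Helper8.BGEx.isSylIn_exists_conj hRM hPS
    have e1 : ↥(P : Subgroup ↥M) ≃* ↥((P : Subgroup ↥M).map M.subtype) :=
      (P : Subgroup ↥M).equivMapOfInjective M.subtype M.subtype_injective
    have e2 : ↥R ≃* ↥(R.map (MulAut.conj m).toMonoidHom) :=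
      R.equivMapOfInjective _ (MulAut.conj m).injective
    constructor
    · have h1 : IsCyclic ↥(R.map (MulAut.conj m).toMonoidHom) :=
        isCyclic_of_surjective e2.toMonoidHom e2.surjective
      have h2 : IsCyclic ↥((P : Subgroup ↥M).map M.subtype) := by rw [hPm]; exact h1
      exact isCyclic_of_surjective e1.symm.toMonoidHom e1.symm.surjective
    · have hxP : m * x₀ * m⁻¹ ∈ (P : Subgroup ↥M).map M.subtype := by
        rw [hPm]; exact conj_mem_map_conj hx₀R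
      obtain ⟨x, hxP', hxe⟩ := hxP
      refine ⟨x, hxP', ?_, m * y₀ * m⁻¹, ?_, ?_, ?_⟩
      · intro h
        rw [h] at hxe
        have : m * x₀ * m⁻¹ = 1 := hxe.symm
        apply hx₀1
        have e : x₀ = m⁻¹ * (m * x₀ * m⁻¹) * m := by group
        rw [e, this]; group
      · exact (Subgroup.mem_normalizer_iff.mp (le_normalizer_sigmaCore M hm) y₀).mp hy₀σ
      · intro h
        apply hy₀1
        have e : y₀ = m⁻¹ * (m * y₀ * m⁻¹) * m := by group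
        rw [e, h]; group
      · have : (x : G) = m * x₀ * m⁻¹ := hxe
        rw [this]
        calc m * x₀ * m⁻¹ * (m * y₀ * m⁻¹) = m * (x₀ * y₀) * m⁻¹ := by group
          _ = m * (y₀ * x₀) * m⁻¹ := by rw [hcomm]
          _ = m * y₀ * m⁻¹ * (m * x₀ * m⁻¹) := by group

/-- type-P data force `K ≠ 1`. -/
theorem K_ne_bot_of_typeP (hG : Cfsg.IsMinSimpleOddOrder G) {M K W₁ UP W₂ : Subgroup G}
    (hM : IsCoatom M) (hK : Cfsg.IsPiHallOf (Cfsg.kappa M) K M)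
    (hP : Cfsg.IsTypePWith M W₁ UP W₂) : K ≠ ⊥ := by
  have hc : Nat.card W₁ ≠ 1 := fun h => hP.W₁_ne (Subgroup.card_eq_one.mp h)
  obtain ⟨p, hp, hpd⟩ := Nat.exists_prime_and_dvd hc
  have hκ := mem_kappa_of_typeP hG hM hP hp hpd
  intro hK0
  have h1 : ¬ p ∣ K.relIndex M := hK.2.2 p hp hκ
  apply h1
  rw [hK0, Subgroup.relIndex_bot_left]
  exact hκ.2.1

end Cfsg.Agent.Lib.Helper19.BGTyp
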