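import Mathlib
import Cfsg.Prelude.Def_OddOrderLocal
import Cfsg.Agent.Lib.Helper19.BGTyp8

/-!
helper19: B&G Section 16: Types II–V determine `K`, `U` (the `⇒` directions of S1381–S1383), in
hypothesis form on the verbatim conclusions of S1363, S1365.
-/

set_option autoImplicit false
open Subgroup
open scoped commutatorElement Pointwise

namespace Cfsg.Agent.Lib.Helper19.BGTyp

open Cfsg.Agent.Lib.Helper8

variable {G : Type*} [Group G] [Finite G]

/-- a complement of `M_F` in `S ≤ M` is a Hall subgroup of `S`. -/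
theorem coprime_of_isComplIn_fittingHallOf {M S UP : Subgroup G} (hSM : S ≤ M)
    (hc : Cfsg.IsComplIn (Cfsg.fittingHallOf M) UP S) :
    (Nat.card UP).Coprime (UP.relIndex S) := by
  have hFS := hc.1
  have hFcop := coprime_card_fittingHallOf_relIndex M
  have h1 := Cfsg.Agent.Lib.Helper9.isComplIn_card_mul_card hc
  have h2 := Cfsg.Agent.Lib.Helper9.card_eq_card_mul_relIndex hc.2.1
  have h3 := Cfsg.Agent.Lib.Helper9.card_eq_card_mul_relIndex hFS
  have hposU : 0 < Nat.card ↥UP := Nat.card_pos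
  have hposF : 0 < Nat.card ↥(Cfsg.fittingHallOf M) := Nat.card_pos
  have h5 : UP.relIndex S = Nat.card (Cfsg.fittingHallOf M) := by
    apply Nat.eq_of_mul_eq_mul_left hposU
    rw [← h2, ← h1, mul_comm]
  have h6 : (Cfsg.fittingHallOf M).relIndex S = Nat.card UP := by
    apply Nat.eq_of_mul_eq_mul_left hposF
    rw [← h3, h1]
  rw [h5, ← h6]
  have h7 : (Cfsg.fittingHallOf M).relIndex S ∣ (Cfsg.fittingHallOf M).relIndex M := by
    have := Subgroup.relIndex_mul_relIndex _ _ _ hFS hSM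
    exact Dvd.intro _ this
  exact (Nat.Coprime.coprime_dvd_right h7 hFcop).symm

/-- `U = 1` and type-P data: the normalizer of a nontrivial `U_P` lies in `M`. -/
theorem normalizer_UP_le (hG : Cfsg.IsMinSimpleOddOrder G) {M U W₁ UP W₂ : Subgroup G}
    (hM : IsCoatom M) (h65 : ⁅M, M⁆ = U ⊔ Cfsg.sigmaCore M) (hU : U = ⊥)
    (hP : Cfsg.IsTypePWith M W₁ UP W₂) (hUP1 : UP ≠ ⊥) : normalizer (UP : Set G) ≤ M := by
  have hM' : ⁅M, M⁆ = Cfsg.sigmaCore M := by rw [h65, hU, bot_sup_eq]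
  have hc : Cfsg.IsComplIn (Cfsg.fittingHallOf M) UP (Cfsg.sigmaCore M) := hM' ▸ hP.U_compl
  exact normalizer_le_of_hall_sigmaCore hG hM hc.2.1 hUP1
    (coprime_of_isComplIn_fittingHallOf (sigmaCore_le M) hc)

/-- **S1381 (⇒).** -/
theorem K_U_of_typeII (hG : Cfsg.IsMinSimpleOddOrder G) {M K U : Subgroup G} (hM : IsCoatom M)
    (hKU : Cfsg.IsSigmaDecomposition M K U)
    (h65 : K ≠ ⊥ → ⁅M, M⁆ = U ⊔ Cfsg.sigmaCore M)
    (hII : Cfsg.IsOfTypeII M) : K ≠ ⊥ ∧ U ≠ ⊥ := by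
  obtain ⟨W₁, UP, W₂, hP, hUP1, -, -, -, hN, -, -⟩ := hII
  have hK1 := K_ne_bot_of_typeP hG hM hKU.hall hP
  refine ⟨hK1, fun hU => hN ?_⟩
  exact normalizer_UP_le hG hM (h65 hK1) hU hP hUP1

/-- two complements of `M_F` in `S ≤ M` (`M ≤ N(S)`) are conjugate under `M_F`. -/
theorem exists_conj_compl (hG : Cfsg.IsMinSimpleOddOrder G) {M S A B : Subgroup G}
    (hM : IsCoatom M) (hSM : S ≤ M)
    (hA : Cfsg.IsComplIn (Cfsg.fittingHallOf M) A S)
    (hB : Cfsg.IsComplIn (Cfsg.fittingHallOf M) B S) :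
    ∃ k ∈ Cfsg.fittingHallOf M, B.map (MulAut.conj k).toMonoidHom = A := by
  have conv : ∀ {X : Subgroup G}, Cfsg.IsComplIn (Cfsg.fittingHallOf M) X S →
      Cfsg.Agent.Lib.Helper1.IsComplIn (Cfsg.fittingHallOf M) X S := by
    intro X hX
    refine ⟨hX.1, hX.2.1, disjoint_iff.mpr hX.2.2.1, fun γ hγ => ?_⟩
    obtain ⟨a, ha, b, hb, rfl⟩ := hX.2.2.2 γ hγ
    exact ⟨a, ha, b, hb, rfl⟩
  have hnorm : S ≤ normalizer ((Cfsg.fittingHallOf M : Subgroup G) : Set G) :=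
    hSM.trans (Cfsg.Agent.Lib.Helper12.CNMin.le_normalizer_fittingHallOf M)
  have hcop : (Nat.card (Cfsg.fittingHallOf M)).Coprime (Nat.card A) := by
    have h1 := coprime_of_isComplIn_fittingHallOf hSM hA
    have h2 := Cfsg.Agent.Lib.Helper9.isComplIn_card_mul_card hA
    have h3 := Cfsg.Agent.Lib.Helper9.card_eq_card_mul_relIndex hA.2.1
    have hposU : 0 < Nat.card ↥A := Nat.card_pos
    have h5 : A.relIndex S = Nat.card (Cfsg.fittingHallOf M) := by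
      apply Nat.eq_of_mul_eq_mul_left hposU
      rw [← h3, ← h2, mul_comm]
    rw [h5] at h1
    exact h1.symm
  have hsolv : IsSolvable ↥(Cfsg.fittingHallOf M) := by
    haveI := Cfsg.Agent.Lib.Helper12.CNMin.solvable_of_ne_top hG M hM.1
    exact solvable_of_solvable_injective
      (Subgroup.inclusion_injective (Cfsg.Agent.Lib.Helper12.CNMin.fittingHallOf_le M))
  obtain ⟨k, hk, hkA⟩ := Cfsg.Agent.Lib.Helper1.internal_sz_conj hnorm (conv hA) (conv hB) hcop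
    (Or.inl hsolv)
  refine ⟨k, hk, ?_⟩
  rw [← hkA]
  ext x
  rw [mem_map_conj, Cfsg.Agent.Lib.Helper1.mem_conj_smul_iff]

/-- **S1382 (⇒).** -/
theorem K_U_of_typeIII_IV (hG : Cfsg.IsMinSimpleOddOrder G) {M K U : Subgroup G} (hM : IsCoatom M)
    (hKU : Cfsg.IsSigmaDecomposition M K U)
    (h63 : K ≠ ⊥ → H63 M U)
    (h65 : K ≠ ⊥ → ⁅M, M⁆ = U ⊔ Cfsg.sigmaCore M)
    (h : Cfsg.IsOfTypeIII M ∨ Cfsg.IsOfTypeIV M) :
    K ≠ ⊥ ∧ U = ⊥ ∧ Cfsg.fittingHallOf M ≠ Cfsg.sigmaCore M := by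
  have key : ∀ W₁ UP W₂ : Subgroup G, Cfsg.IsTypePWith M W₁ UP W₂ → UP ≠ ⊥ →
      normalizer (UP : Set G) ≤ M →
      K ≠ ⊥ ∧ U = ⊥ ∧ Cfsg.fittingHallOf M ≠ Cfsg.sigmaCore M := by
    intro W₁ UP W₂ hP hUP1 hN
    have hK1 := K_ne_bot_of_typeP hG hM hKU.hall hP
    have hU : U = ⊥ := by
      by_contra hU1
      have hσF := sigmaCore_eq_fittingHallOf_of_U hG hM hKU hU1
      have hcU : Cfsg.IsComplIn (Cfsg.fittingHallOf M) U ⁅M, M⁆ := by
        rw [← hσF, h65 hK1]; exact isComplIn_sigmaCore_U hKU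
      obtain ⟨k, hk, hkU⟩ := exists_conj_compl hG hM (commutator_self_le M) hcU hP.U_compl
      have hkM : k ∈ M := Cfsg.Agent.Lib.Helper12.CNMin.fittingHallOf_le M hk
      apply (h63 hK1).2
      intro n hn
      -- `k⁻¹ n k` normalizes `UP`
      have h1 : k⁻¹ * n * k ∈ normalizer (UP : Set G) := by
        rw [mem_normalizer_iff_map_conj]
        have h2 : U.map (MulAut.conj n).toMonoidHom = U := mem_normalizer_iff_map_conj.mp hn
        rw [← hkU, map_conj_map_conj] at h2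
        have h3 : (UP.map (MulAut.conj (n * k)).toMonoidHom).map (MulAut.conj k⁻¹).toMonoidHom =
            (UP.map (MulAut.conj k).toMonoidHom).map (MulAut.conj k⁻¹).toMonoidHom := by rw [h2]
        rw [map_conj_map_conj, map_conj_map_conj, inv_mul_cancel, map_conj_one] at h3
        rw [← mul_assoc] at h3
        exact h3
      have h4 := hN h1
      have : n = k * (k⁻¹ * n * k) * k⁻¹ := by group
      rw [this]
      exact M.mul_mem (M.mul_mem hkM h4) (M.inv_mem hkM)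
    refine ⟨hK1, hU, fun heq => hUP1 ?_⟩
    have hM' : ⁅M, M⁆ = Cfsg.sigmaCore M := by rw [h65 hK1, hU, bot_sup_eq]
    obtain ⟨-, hUPle, hd, -⟩ := hP.U_compl
    apply le_bot_iff.mp
    rw [← hd]
    refine le_inf ?_ le_rfl
    rw [heq, ← hM']; exact hUPle
  rcases h with ⟨W₁, UP, W₂, hP, hUP1, -, -, -, hN⟩ | ⟨W₁, UP, W₂, hP, hUP1, -, -, -, hN⟩
  · exact key W₁ UP W₂ hP hUP1 hN
  · exact key W₁ UP W₂ hP hUP1 hN

/-- **S1383 (⇒).** -/
theorem K_U_of_typeV (hG : Cfsg.IsMinSimpleOddOrder G) {M K U : Subgroup G} (hM : IsCoatom M)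
    (hKU : Cfsg.IsSigmaDecomposition M K U)
    (h65 : K ≠ ⊥ → ⁅M, M⁆ = U ⊔ Cfsg.sigmaCore M)
    (hV : Cfsg.IsOfTypeV M) :
    K ≠ ⊥ ∧ U = ⊥ ∧ Cfsg.fittingHallOf M = Cfsg.sigmaCore M := by
  obtain ⟨W₁, UP, W₂, hP, hUP, -⟩ := hV
  have hK1 := K_ne_bot_of_typeP hG hM hKU.hall hP
  have hM'F : ⁅M, M⁆ ≤ Cfsg.fittingHallOf M := by
    intro m hm
    obtain ⟨a, ha, b, hb, rfl⟩ := hP.U_compl.2.2.2 m hm
    rw [hUP, Subgroup.mem_bot] at hb
    rw [hb, mul_one]; exact ha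
  have hFσ := Cfsg.Agent.Lib.Helper9.BG144.fittingHallOf_le_sigmaCore hG hM
  have h1 := h65 hK1
  have hσF : Cfsg.sigmaCore M ≤ Cfsg.fittingHallOf M := by
    refine le_trans ?_ hM'F
    rw [h1]; exact le_sup_right
  refine ⟨hK1, ?_, le_antisymm hFσ hσF⟩
  apply le_bot_iff.mp
  rw [← hKU.compl.2.2.1]
  refine le_inf le_rfl ?_
  refine le_trans ?_ le_sup_right
  refine le_trans ?_ (hM'F.trans hFσ)
  rw [h1]; exact le_sup_left

end Cfsg.Agent.Lib.Helper19.BGTyp
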