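/-
helper19: maximal subgroups of "Frobenius type", Case N (some `q ∈ τ₂(M)` has nonabelian Sylow
`q`-subgroups in `G`), second half of S1421: `E` has a subgroup `E₀` of the same exponent acting
regularly on `M_σ`.  `E₀` is a complement of `A₀ = A ∩ C(M_σ)` in `E` (Gaschütz, S0051).
-/
import Mathlib
import Cfsg.Agent.Lib.Helper19.BGTypeF4
import Cfsg.Agent.S0051

set_option autoImplicit false
set_option linter.unusedSectionVars false
set_option linter.unusedVariables false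
open scoped commutatorElement

namespace Cfsg.Agent.Lib.Helper19.BGTypeF

open Cfsg Subgroup
open Cfsg.Agent.Lib.Helper19.BG127 Cfsg.Agent.Lib.Helper19.BG1210

variable {G : Type*} [Group G] [Finite G]

/-- In a commutative group `Q`, a subgroup `A₀` meeting the subgroup of `p`-th powers trivially has
a complement. -/
theorem exists_compl_of_disjoint_powSub {Q A₀ : Subgroup G}
    (hQc : ∀ a ∈ Q, ∀ b ∈ Q, a * b = b * a) {p : ℕ} (hp : p.Prime) (hA₀Q : A₀ ≤ Q)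
    (hW : powSub Q hQc p ⊓ A₀ = ⊥) :
    ∃ H : Subgroup G, H ≤ Q ∧ H ⊓ A₀ = ⊥ ∧ H ⊔ A₀ = Q := by
  classical
  obtain ⟨W, hWdef⟩ : ∃ W : Subgroup G, W = powSub Q hQc p := ⟨_, rfl⟩
  rw [← hWdef] at hW
  have hWQ : W ≤ Q := by
    rw [hWdef]
    rintro _ ⟨y, hy, rfl⟩
    exact Q.pow_mem hy p
  let T : Type _ := {H : Subgroup G // W ≤ H ∧ H ≤ Q ∧ H ⊓ A₀ = ⊥}
  haveI : Nonempty T := ⟨⟨W, le_refl _, hWQ, hW⟩⟩
  obtain ⟨⟨H, hWH, hHQ, hHA⟩, hmax⟩ := Finite.exists_max (fun H : T => Nat.card H.1)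
  refine ⟨H, hHQ, hHA, ?_⟩
  apply le_antisymm (sup_le hHQ hA₀Q)
  intro x hxQ
  by_contra hx
  -- enlarge `H` by `x`
  have hcomm : ∀ a ∈ H, ∀ b ∈ zpowers x, a * b = b * a := by
    intro a ha b hb
    exact hQc a (hHQ ha) b ((Subgroup.zpowers_le.mpr hxQ) hb)
  have hxq : x ^ p ∈ H := hWH (hWdef ▸ ⟨x, hxQ, rfl⟩)
  have hdisj : (H ⊔ zpowers x) ⊓ A₀ = ⊥ := by
    rw [eq_bot_iff]
    rintro a ⟨ha1, ha2⟩
    rw [Subgroup.mem_bot]
    obtain ⟨h, hh, b, hb, rfl⟩ := exists_mul_of_mem_sup_of_commute hcomm ha1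
    obtain ⟨i, rfl⟩ := Subgroup.mem_zpowers_iff.mp hb
    by_cases hi : (p : ℤ) ∣ i
    · obtain ⟨j, rfl⟩ := hi
      have h1 : x ^ ((p : ℤ) * j) ∈ H := by
        rw [zpow_mul, zpow_natCast]
        exact H.zpow_mem hxq j
      have h2 : h * x ^ ((p : ℤ) * j) ∈ H ⊓ A₀ := ⟨H.mul_mem hh h1, ha2⟩
      rw [hHA, Subgroup.mem_bot] at h2
      exact h2
    · exfalso
      apply hx
      have h1 : x ^ i ∈ H ⊔ A₀ := by
        have e : x ^ i = h⁻¹ * (h * x ^ i) := by group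
        rw [e]
        exact Subgroup.mul_mem _ (Subgroup.mem_sup_left (H.inv_mem hh)) (Subgroup.mem_sup_right ha2)
      have h2 : x ^ (p : ℤ) ∈ H ⊔ A₀ := by
        rw [zpow_natCast]; exact Subgroup.mem_sup_left hxq
      have hcop : IsCoprime i (p : ℤ) := by
        have hp' : Prime (p : ℤ) := Nat.prime_iff_prime_int.mp hp
        exact ((hp'.coprime_iff_not_dvd).mpr hi).symm
      obtain ⟨u, v, huv⟩ := hcop
      have e : x = (x ^ i) ^ u * (x ^ (p : ℤ)) ^ v := by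
        rw [← zpow_mul, ← zpow_mul, ← zpow_add, mul_comm i u, mul_comm (p : ℤ) v, huv, zpow_one]
      rw [e]
      exact Subgroup.mul_mem _ (Subgroup.zpow_mem _ h1 u) (Subgroup.zpow_mem _ h2 v)
  have hle : H ⊔ zpowers x ≤ Q := sup_le hHQ (Subgroup.zpowers_le.mpr hxQ)
  have h3 := hmax ⟨H ⊔ zpowers x, hWH.trans le_sup_left, hle, hdisj⟩
  have h4 : H ⊔ zpowers x = H :=
    (Subgroup.eq_of_le_of_card_ge le_sup_left h3).symm
  apply hx
  apply Subgroup.mem_sup_left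
  rw [← h4]
  exact Subgroup.mem_sup_right (Subgroup.mem_zpowers x)

/-- in a group with a normal subgroup `K`, `(k h)ⁿ ∈ K hⁿ`. -/
theorem exists_mul_pow_of_normal {X : Type*} [Group X] (K : Subgroup X) [K.Normal] {k : X}
    (hk : k ∈ K) (h : X) (n : ℕ) : ∃ k' ∈ K, (k * h) ^ n = k' * h ^ n := by
  induction n with
  | zero => exact ⟨1, K.one_mem, by simp⟩
  | succ n ih =>
    obtain ⟨k', hk', e⟩ := ih
    refine ⟨k' * (h ^ n * k * (h ^ n)⁻¹), K.mul_mem hk' (Subgroup.Normal.conj_mem inferInstance k hk _), ?_⟩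
    rw [pow_succ, e, pow_succ]
    group

/-- **Case N**, explicit form of the first half: `C_E(x) ≤ A ∩ C(M_σ)` for `x ∈ M_σ^#`. -/
theorem typeF_N_cent (hG : Cfsg.IsMinSimpleOddOrder G) {M E A : Subgroup G}
    (hM : IsCoatom M) (hE : Cfsg.IsComplIn E (Cfsg.sigmaCore M) M) (h : Reg M E)
    {q : ℕ} [Fact q.Prime] (hq : q ∈ Cfsg.tau2 M)
    (hS : ∀ S : Sylow q G, ¬ IsMulCommutative (S : Subgroup G))
    (hAE : A ≤ E) (hAe : Cfsg.IsElementaryAbelian q A) (hA2 : Nat.card A = q ^ 2) :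
    ∀ x ∈ Cfsg.sigmaCore M, x ≠ 1 →
      E ⊓ centralizer ({x} : Set G) ≤ A ⊓ centralizer (Cfsg.sigmaCore M : Set G) := by
  classical
  have hqq : q.Prime := Fact.out
  have h16 : C16 G := fun M hM p _ A hA => (Cfsg.Agent.S1416.result hG M hM p A hA).1
  have h17 : C17 G := fun M hM p _ hp A hA => Cfsg.Agent.S1417.result hG M hM p hp A hA
  have h18 : C18 G := fun M hM E hE p _ hp A hA => Cfsg.Agent.S1418.result hG M hM E hE p hp A hA
  obtain ⟨c0, -⟩ := exists_ctx hG h16 h17 h18 hM hE hq hS ⟨hAE, hAe, hA2⟩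
  have hτ := c0.tau2_eq
  intro x hx hx1 y hy
  have hyE : y ∈ E := hy.1
  have hyx : y * x = x * y := by
    have h2 : y ∈ centralizer ({x} : Set G) := hy.2
    rw [Subgroup.mem_centralizer_singleton_iff] at h2
    exact h2
  have hprime : ∀ r : ℕ, r.Prime → r ∣ orderOf y → r = q := by
    intro r hr hrd
    have h1 := mem_tau2_of_dvd_orderOf hG hM hE h hx hx1 hyE hyx hr hrd
    rw [hτ] at h1
    exact h1
  have hYq : IsPGroup q (zpowers y) :=
    isPGroup_of_primes (by rw [Nat.card_zpowers]; exact hprime)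
  have hYE : zpowers y ≤ E := by rw [Subgroup.zpowers_le]; exact hyE
  have hQq : IsPGroup q ↥(zpowers y ⊔ A) :=
    IsPGroup.to_sup_of_normal_right' hYq (elemAb_isPGroup hAe) (hYE.trans c0.t18.1.1)
  have hQM : zpowers y ⊔ A ≤ M := sup_le (hYE.trans hE.1) (hAE.trans hE.1)
  obtain ⟨c, hc⟩ := exists_ctx_ge hG h16 h17 h18 hM hE hq hS ⟨hAE, hAe, hA2⟩ hQM hQq le_sup_right
  have hyP : y ∈ c.P := hc (Subgroup.mem_sup_left (Subgroup.mem_zpowers y))
  by_cases hy1 : y = 1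
  · rw [hy1]; exact Subgroup.one_mem _
  obtain ⟨j, hj⟩ : ∃ j, orderOf y = q ^ j :=
    ⟨_, Nat.eq_prime_pow_of_unique_prime_dvd (orderOf_pos y).ne'
      (fun {d} hd hdd => hprime d hd hdd)⟩
  have hj0 : j ≠ 0 := by
    rintro rfl
    rw [pow_zero, orderOf_eq_one_iff] at hj
    exact hy1 hj
  obtain ⟨i, rfl⟩ : ∃ i, j = i + 1 := ⟨j - 1, by omega⟩
  obtain ⟨z, hz⟩ : ∃ z : G, z = y ^ (q ^ i) := ⟨_, rfl⟩
  have hzP : z ∈ c.P := hz ▸ c.P.pow_mem hyP _
  have hzq : z ^ q = 1 := by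
    rw [hz, ← pow_mul, ← pow_succ, ← hj]
    exact pow_orderOf_eq_one y
  have hz1 : z ≠ 1 := by
    rw [hz]
    intro h1
    have h2 := orderOf_dvd_of_pow_eq_one h1
    rw [hj] at h2
    have h3 := (Nat.pow_dvd_pow_iff_le_right hqq.one_lt).mp h2
    omega
  have hzx : z * x = x * z := by
    rw [hz]
    exact (Commute.pow_left (show Commute y x from hyx) _).eq
  have hzA₀ := c.zpowers_eq_A₀ hzP hzq hz1 hx hx1 hzx
  by_cases hi : i = 0
  · subst hi
    rw [pow_zero, pow_one] at hz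
    rw [← hz, ← hzA₀]
    exact Subgroup.mem_zpowers z
  · exfalso
    obtain ⟨i', rfl⟩ : ∃ i', i = i' + 1 := ⟨i - 1, by omega⟩
    have e : (y ^ (q ^ i')) ^ q = z := by rw [hz, ← pow_mul, ← pow_succ]
    apply c.false_of_pow (hS c.Ps) (y₀ := y ^ (q ^ i')) (c.P.pow_mem hyP _)
    · rw [e, ← hzA₀]
      exact Subgroup.mem_zpowers z
    · rw [e]
      exact hz1

end Cfsg.Agent.Lib.Helper19.BGTypeF
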