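/-
helper19: Case N, second half of S1421: the complement `E₀` of `A₀` in `E` (Gaschütz) has the same
exponent as `E` and acts regularly on `M_σ`.
-/
import Mathlib
import Cfsg.Agent.Lib.Helper19.BGTypeF6

set_option autoImplicit false
set_option linter.unusedSectionVars false
set_option linter.unusedVariables false
open scoped commutatorElement

namespace Cfsg.Agent.Lib.Helper19.BGTypeF

open Cfsg Subgroup
open Cfsg.Agent.Lib.Helper19.BG127 Cfsg.Agent.Lib.Helper19.BG1210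

variable {G : Type*} [Group G] [Finite G]

/-- **Case N** of B&G 14.3(e) for `K = 1`. -/
theorem typeF_b_nonabelian (hG : Cfsg.IsMinSimpleOddOrder G) {M E : Subgroup G}
    (hM : IsCoatom M) (hE : Cfsg.IsComplIn E (Cfsg.sigmaCore M) M) (h : Reg M E)
    {q : ℕ} [Fact q.Prime] (hq : q ∈ Cfsg.tau2 M) (S₀ : Sylow q G)
    (hS₀ : ¬ IsMulCommutative (S₀ : Subgroup G)) :
    ∃ E₀ : Subgroup G, E₀ ≤ E ∧ Monoid.exponent E₀ = Monoid.exponent E ∧
      ∀ e ∈ E₀, e ≠ 1 → Cfsg.sigmaCore M ⊓ centralizer ({e} : Set G) = ⊥ := by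
  classical
  have hqq : q.Prime := Fact.out
  have hS : ∀ S : Sylow q G, ¬ IsMulCommutative (S : Subgroup G) :=
    fun S h => hS₀ (sylow_comm_of_comm h)
  obtain ⟨A, hAE, hAe, hA2⟩ := exists_elemAb_le_compl hG hM hE hq
  have h16 : C16 G := fun M hM p _ A hA => (Cfsg.Agent.S1416.result hG M hM p A hA).1
  have h17 : C17 G := fun M hM p _ hp A hA => Cfsg.Agent.S1417.result hG M hM p hp A hA
  have h18 : C18 G := fun M hM E hE p _ hp A hA => Cfsg.Agent.S1418.result hG M hM E hE p hp A hA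
  have hcent := typeF_N_cent hG hM hE h hq hS hAE hAe hA2
  have hAp : IsPGroup q A := elemAb_isPGroup hAe
  have hEM : E ≤ M := hE.1
  obtain ⟨A₀, hA₀def⟩ : ∃ A₀ : Subgroup G, A₀ = A ⊓ centralizer (Cfsg.sigmaCore M : Set G) :=
    ⟨_, rfl⟩
  rw [← hA₀def] at hcent
  have hA₀A : A₀ ≤ A := hA₀def ▸ inf_le_left
  have hA₀E : A₀ ≤ E := hA₀A.trans hAE
  -- a Sylow `q`-subgroup `Q` of `E` containing `A`
  obtain ⟨QE, hQE⟩ := (hAp.comap_subtype (K := E)).exists_le_sylow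
  obtain ⟨Q, hQdef⟩ : ∃ Q : Subgroup G, Q = (QE : Subgroup ↥E).map E.subtype := ⟨_, rfl⟩
  have hQE' : Q ≤ E := hQdef ▸ Subgroup.map_subtype_le _
  have hQq : IsPGroup q Q := hQdef ▸ QE.2.map E.subtype
  have hAQ : A ≤ Q := by
    intro a ha
    rw [hQdef]
    exact ⟨⟨a, hAE ha⟩, hQE (Subgroup.mem_subgroupOf.mpr ha), rfl⟩
  obtain ⟨c, hc⟩ := exists_ctx_ge hG h16 h17 h18 hM hE hq hS ⟨hAE, hAe, hA2⟩ (hQE'.trans hEM) hQq hAQ
  have hA₀card : Nat.card A₀ = q := hA₀def ▸ c.part2a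
  have hEN : E ≤ normalizer (A₀ : Set G) := hA₀def ▸ hEM.trans c.le_normalizer_A₀
  have hQc : ∀ a ∈ Q, ∀ b ∈ Q, a * b = b * a := fun a ha b hb => c.hPcomm a (hc ha) b (hc hb)
  -- `A₀` avoids the `q`-th powers
  have hpow : ∀ y : G, y ∈ E → y ^ q ∈ A₀ → y ^ q = 1 := by
    intro y hyE hyA
    by_contra hne
    have hord : y ^ (q ^ 2) = 1 := by
      rw [pow_two, pow_mul]
      exact hAe.2 _ (hA₀A hyA)
    have hYq : IsPGroup q (zpowers y) := by
      obtain ⟨j, -, hj⟩ := (Nat.dvd_prime_pow hqq).mp (orderOf_dvd_of_pow_eq_one hord)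
      apply IsPGroup.of_card (n := j)
      rw [Nat.card_zpowers, hj]
    have hYE : zpowers y ≤ E := by rw [Subgroup.zpowers_le]; exact hyE
    have hQ'q : IsPGroup q ↥(zpowers y ⊔ A) :=
      IsPGroup.to_sup_of_normal_right' hYq hAp (hYE.trans c.t18.1.1)
    have hQ'M : zpowers y ⊔ A ≤ M := sup_le (hYE.trans hEM) (hAE.trans hEM)
    obtain ⟨c', hc'⟩ := exists_ctx_ge hG h16 h17 h18 hM hE hq hS ⟨hAE, hAe, hA2⟩ hQ'M hQ'q
      le_sup_right
    exact c'.false_of_pow (hS c'.Ps) (hc' (Subgroup.mem_sup_left (Subgroup.mem_zpowers y)))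
      (hA₀def ▸ hyA) hne
  have hW : powSub Q hQc q ⊓ A₀ = ⊥ := by
    rw [eq_bot_iff]
    rintro a ⟨⟨y, hy, rfl⟩, ha2⟩
    rw [Subgroup.mem_bot]
    exact hpow y (hQE' hy) ha2
  obtain ⟨Hc, hHcQ, hHcA, hHcsup⟩ :=
    exists_compl_of_disjoint_powSub hQc hqq (hA₀A.trans hAQ) hW
  -- Gaschütz in `E`
  haveI hKn : (A₀.subgroupOf E).Normal :=
    (Subgroup.normal_subgroupOf_iff_le_normalizer hA₀E).mpr hEN
  haveI hKc : IsMulCommutative ↥(A₀.subgroupOf E) := by
    refine ⟨⟨?_⟩⟩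
    rintro ⟨⟨a, haE⟩, ha⟩ ⟨⟨b, hbE⟩, hb⟩
    apply Subtype.ext
    apply Subtype.ext
    exact c.hAcomm a (hA₀A (Subgroup.mem_subgroupOf.mp ha)) b (hA₀A (Subgroup.mem_subgroupOf.mp hb))
  have hQsub : Q.subgroupOf E = (QE : Subgroup ↥E) := by
    ext ⟨x, hx⟩
    rw [Subgroup.mem_subgroupOf, hQdef]
    constructor
    · rintro ⟨⟨y, hy⟩, hyQ, hyx⟩
      have : (⟨y, hy⟩ : ↥E) = ⟨x, hx⟩ := Subtype.ext hyx
      rw [← this]; exact hyQ
    · intro hxQ
      exact ⟨⟨x, hx⟩, hxQ, rfl⟩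
  have hcardK : Nat.card ↥(A₀.subgroupOf E) = q := by
    rw [← hA₀card]
    exact Nat.card_congr (Subgroup.subgroupOfEquivOfLe hA₀E).toEquiv
  have hcop : (Nat.card ↥(A₀.subgroupOf E)).Coprime (Q.subgroupOf E).index := by
    rw [hcardK, hQsub, Nat.Prime.coprime_iff_not_dvd hqq]
    exact QE.not_dvd_index
  have hKU : A₀.subgroupOf E ≤ Q.subgroupOf E := by
    intro x hx
    rw [Subgroup.mem_subgroupOf] at hx ⊢
    exact hAQ (hA₀A hx)
  have hAU : Hc.subgroupOf E ≤ Q.subgroupOf E := by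
    intro x hx
    rw [Subgroup.mem_subgroupOf] at hx ⊢
    exact hHcQ hx
  have hAK : Hc.subgroupOf E ⊓ A₀.subgroupOf E = ⊥ := by
    rw [eq_bot_iff]
    rintro ⟨x, hxE⟩ ⟨hx1, hx2⟩
    rw [Subgroup.mem_bot]
    apply Subtype.ext
    have h3 : x ∈ Hc ⊓ A₀ := ⟨Subgroup.mem_subgroupOf.mp hx1, Subgroup.mem_subgroupOf.mp hx2⟩
    rw [hHcA, Subgroup.mem_bot] at h3
    exact h3
  have hKA : A₀.subgroupOf E ⊔ Hc.subgroupOf E = Q.subgroupOf E := by
    apply le_antisymm (sup_le hKU hAU)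
    rintro ⟨x, hxE⟩ hx
    rw [Subgroup.mem_subgroupOf] at hx
    have hx' : x ∈ Hc ⊔ A₀ := hHcsup ▸ hx
    have hcomm' : ∀ a ∈ Hc, ∀ b ∈ A₀, a * b = b * a :=
      fun a ha b hb => hQc a (hHcQ ha) b (hAQ (hA₀A hb))
    obtain ⟨a, ha, b, hb, hxab⟩ := exists_mul_of_mem_sup_of_commute hcomm' hx'
    have e : (⟨x, hxE⟩ : ↥E) = ⟨b, hA₀E hb⟩ * ⟨a, hQE' (hHcQ ha)⟩ := by
      apply Subtype.ext
      show x = b * a
      rw [hxab]
      exact hcomm' a ha b hb
    rw [e]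
    exact Subgroup.mul_mem _ (Subgroup.mem_sup_left (Subgroup.mem_subgroupOf.mpr hb))
      (Subgroup.mem_sup_right (Subgroup.mem_subgroupOf.mpr ha))
  obtain ⟨H', hH'⟩ := Cfsg.Agent.S0051.result (A₀.subgroupOf E) (Q.subgroupOf E) hKU hcop
    (Hc.subgroupOf E) hAU hAK hKA
  -- the complement
  refine ⟨H'.map E.subtype, Subgroup.map_subtype_le _, ?_, ?_⟩
  · -- exponent
    apply Nat.dvd_antisymm
    · apply Monoid.exponent_dvd_of_forall_pow_eq_one
      rintro ⟨x, hx⟩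
      apply Subtype.ext
      have hxE : x ∈ E := Subgroup.map_subtype_le _ hx
      have h1 := Monoid.pow_exponent_eq_one (⟨x, hxE⟩ : ↥E)
      have h2 : x ^ Monoid.exponent ↥E = 1 := by
        have := congrArg Subtype.val h1
        simpa using this
      simpa using h2
    · obtain ⟨n, hn⟩ : ∃ n, n = Monoid.exponent ↥(H'.map E.subtype) := ⟨_, rfl⟩
      rw [← hn]
      -- elements of `H'` have order dividing `n`
      have hH'n : ∀ w : ↥E, w ∈ H' → w ^ n = 1 := by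
        intro w hw
        have hw' : (w : G) ∈ H'.map E.subtype := ⟨w, hw, rfl⟩
        have h1 := Monoid.pow_exponent_eq_one (⟨(w : G), hw'⟩ : ↥(H'.map E.subtype))
        rw [← hn] at h1
        apply Subtype.ext
        have := congrArg Subtype.val h1
        simpa using this
      -- `q ∣ n`
      have hqn : q ∣ n := by
        have hcard := hH'.card_mul_card
        rw [hcardK] at hcard
        have hq2 : q ^ 2 ∣ Nat.card ↥E := hA2 ▸ Subgroup.card_dvd_of_le hAE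
        have hqH' : q ∣ Nat.card ↥H' := by
          rw [← hcard, pow_two] at hq2
          exact (Nat.mul_dvd_mul_iff_left hqq.pos).mp hq2
        obtain ⟨w, hw⟩ := exists_prime_orderOf_dvd_card' q hqH'
        have h1 := hH'n (w : ↥E) w.2
        have h2 : orderOf (w : ↥E) = q := by
          rw [← hw]; exact Subgroup.orderOf_coe w
        rw [← h2]
        exact orderOf_dvd_of_pow_eq_one h1
      apply Monoid.exponent_dvd_of_forall_pow_eq_one
      rintro ⟨x, hxE⟩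
      -- decompose `x = k * w`
      have htop := hH'.sup_eq_top
      have hxtop : (⟨x, hxE⟩ : ↥E) ∈ A₀.subgroupOf E ⊔ H' := htop ▸ Subgroup.mem_top _
      rw [sup_comm] at hxtop
      obtain ⟨w, hw, k, hk, hkw⟩ := Subgroup.mem_sup_of_normal_right.mp hxtop
      -- rewrite as `k' * w`
      have hkw' : (⟨x, hxE⟩ : ↥E) = (w * k * w⁻¹) * w := by rw [← hkw]; group
      have hk' : w * k * w⁻¹ ∈ A₀.subgroupOf E := Subgroup.Normal.conj_mem hKn k hk w
      obtain ⟨k'', hk'', e⟩ := exists_mul_pow_of_normal (A₀.subgroupOf E) hk' w n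
      rw [← hkw', hH'n w hw, mul_one] at e
      -- `x ^ n ∈ A₀`
      have hxn : x ^ n ∈ A₀ := by
        have h1 : ((⟨x, hxE⟩ : ↥E) ^ n : ↥E) ∈ A₀.subgroupOf E := e ▸ hk''
        rw [Subgroup.mem_subgroupOf] at h1
        simpa using h1
      obtain ⟨n', rfl⟩ := hqn
      have h2 : (x ^ n') ^ q = x ^ (q * n') := by rw [← pow_mul, mul_comm]
      have h3 := hpow (x ^ n') (E.pow_mem hxE _) (h2 ▸ hxn)
      apply Subtype.ext
      show (x ^ (q * n') : G) = 1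
      rw [← h2]; exact h3
  · -- regularity
    rintro e ⟨⟨e', he'E⟩, he'H, rfl⟩ he1
    by_contra hne
    obtain ⟨y, hy1⟩ := (Subgroup.ne_bot_iff_exists_ne_one).mp hne
    have hyK : (y : G) ∈ Cfsg.sigmaCore M := y.2.1
    have hyC : (y : G) ∈ centralizer ({E.subtype ⟨e', he'E⟩} : Set G) := y.2.2
    have hy1' : (y : G) ≠ 1 := fun h1 => hy1 (Subtype.ext h1)
    have hmem : e' ∈ E ⊓ centralizer ({(y : G)} : Set G) := by
      refine ⟨he'E, ?_⟩
      show e' ∈ centralizer ({(y : G)} : Set G)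
      rw [Subgroup.mem_centralizer_singleton_iff] at hyC ⊢
      exact hyC.symm
    have h1 := hcent (y : G) hyK hy1' hmem
    have h2 : (⟨e', he'E⟩ : ↥E) ∈ A₀.subgroupOf E ⊓ H' :=
      ⟨Subgroup.mem_subgroupOf.mpr h1, he'H⟩
    rw [hH'.disjoint.eq_bot, Subgroup.mem_bot] at h2
    apply he1
    have := congrArg Subtype.val h2
    simpa using this

end Cfsg.Agent.Lib.Helper19.BGTypeF
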