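/-
helper19: twisted norm of an automorphism of a finite commutative group.
For `α : MulAut C` with `α ^ n = 1` and `m ^ n ≡ 1`, the map
`ν(c) = ∏_{j<n} (α^j c)^(m^(n-1-j))` is an endomorphism of `C` with image in the "eigen-subgroup"
`{c | α c = c ^ m}`, on which it is the `n m^(n-1)`-th power map.
-/
import Mathlib

set_option autoImplicit false
set_option linter.unusedSectionVars false
set_option linter.unusedVariables false

namespace Cfsg.Agent.Lib.Helper19.BGTypeG

variable {C : Type*} [CommGroup C]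

/-- the twisted norm. -/
noncomputable def tnorm (α : MulAut C) (m n : ℕ) : C →* C where
  toFun c := ∏ j ∈ Finset.range n, ((α ^ j) c) ^ (m ^ (n - 1 - j))
  map_one' := by simp
  map_mul' c d := by
    simp only [map_mul, mul_pow]
    exact Finset.prod_mul_distrib

theorem tnorm_apply (α : MulAut C) (m n : ℕ) (c : C) :
    tnorm α m n c = ∏ j ∈ Finset.range n, ((α ^ j) c) ^ (m ^ (n - 1 - j)) := rfl

/-- `α (ν c) = (ν c) ^ m`. -/
theorem apply_tnorm {α : MulAut C} {m n : ℕ} (hn : 0 < n) (hα : α ^ n = 1)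
    (hm : ∀ c : C, c ^ (m ^ n) = c) (c : C) : α (tnorm α m n c) = (tnorm α m n c) ^ m := by
  obtain ⟨k, rfl⟩ : ∃ k, n = k + 1 := ⟨n - 1, by omega⟩
  rw [tnorm_apply, map_prod, ← Finset.prod_pow]
  let f : ℕ → C := fun j => ((α ^ j) c) ^ (m ^ (k + 1 - j))
  have h1 : ∀ j ∈ Finset.range (k + 1), α (((α ^ j) c) ^ (m ^ (k + 1 - 1 - j))) = f (j + 1) := by
    intro j hj
    have hj' : j < k + 1 := Finset.mem_range.mp hj
    show α (((α ^ j) c) ^ (m ^ (k + 1 - 1 - j))) = ((α ^ (j + 1)) c) ^ (m ^ (k + 1 - (j + 1)))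
    rw [map_pow, pow_succ', MulAut.mul_apply]
    congr 2
    omega
  have h2 : ∀ j ∈ Finset.range (k + 1), (((α ^ j) c) ^ (m ^ (k + 1 - 1 - j))) ^ m = f j := by
    intro j hj
    have hj' : j < k + 1 := Finset.mem_range.mp hj
    show (((α ^ j) c) ^ (m ^ (k + 1 - 1 - j))) ^ m = ((α ^ j) c) ^ (m ^ (k + 1 - j))
    rw [← pow_mul, ← pow_succ]
    congr 2
    omega
  rw [Finset.prod_congr rfl h1, Finset.prod_congr rfl h2]
  have h3 : (∏ j ∈ Finset.range (k + 1), f (j + 1)) * f 0 = (∏ j ∈ Finset.range (k + 1), f j) * f (k + 1) := by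
    rw [← Finset.prod_range_succ' f (k + 1), ← Finset.prod_range_succ f (k + 1)]
  have h4 : f 0 = c := by
    show ((α ^ 0) c) ^ (m ^ (k + 1 - 0)) = c
    rw [pow_zero, MulAut.one_apply, Nat.sub_zero]
    exact hm c
  have h5 : f (k + 1) = c := by
    show ((α ^ (k + 1)) c) ^ (m ^ (k + 1 - (k + 1))) = c
    rw [hα, MulAut.one_apply, Nat.sub_self, pow_zero, pow_one]
  rw [h4, h5] at h3
  exact mul_right_cancel h3

/-- on an eigenvector, iterates of `α` are power maps. -/
theorem pow_apply_of_eigen {α : MulAut C} {m : ℕ} {c : C} (h : α c = c ^ m) (j : ℕ) :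
    (α ^ j) c = c ^ (m ^ j) := by
  induction j with
  | zero => simp
  | succ j ih =>
    rw [pow_succ', MulAut.mul_apply, ih, map_pow, h, ← pow_mul, ← pow_succ']

/-- on an eigenvector, the twisted norm is a power map. -/
theorem tnorm_of_eigen {α : MulAut C} {m n : ℕ} {c : C} (h : α c = c ^ m) :
    tnorm α m n c = c ^ (n * m ^ (n - 1)) := by
  rw [tnorm_apply]
  have h1 : ∀ j ∈ Finset.range n, ((α ^ j) c) ^ (m ^ (n - 1 - j)) = c ^ (m ^ (n - 1)) := by
    intro j hj
    have hj' : j < n := Finset.mem_range.mp hj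
    rw [pow_apply_of_eigen h, ← pow_mul, ← pow_add]
    congr 2
    omega
  rw [Finset.prod_congr rfl h1, Finset.prod_const, Finset.card_range, ← pow_mul, mul_comm]

/-- the twisted norm commutes with every automorphism commuting with `α`. -/
theorem tnorm_comm {α β : MulAut C} (hc : Commute α β) (m n : ℕ) (c : C) :
    β (tnorm α m n c) = tnorm α m n (β c) := by
  rw [tnorm_apply, tnorm_apply, map_prod]
  apply Finset.prod_congr rfl
  intro j _
  rw [map_pow]
  congr 1
  have h1 : Commute (α ^ j) β := hc.pow_left j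
  calc β ((α ^ j) c) = (β * α ^ j) c := rfl
    _ = (α ^ j * β) c := by rw [h1.eq]
    _ = (α ^ j) (β c) := rfl

/-- `ν (α c) = (ν c) ^ m`. -/
theorem tnorm_apply_self {α : MulAut C} {m n : ℕ} (hn : 0 < n) (hα : α ^ n = 1)
    (hm : ∀ c : C, c ^ (m ^ n) = c) (c : C) : tnorm α m n (α c) = (tnorm α m n c) ^ m := by
  rw [← tnorm_comm (Commute.refl α), apply_tnorm hn hα hm]

end Cfsg.Agent.Lib.Helper19.BGTypeG
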