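/-
helper19: twisted norm for the conjugation action of an element `e` on a commutative subgroup `S`:
eigen-subgroups `{s ∈ S | e s e⁻¹ = s ^ m}`.
-/
import Mathlib
import Cfsg.Agent.Lib.Helper19.BGTypeG1

set_option autoImplicit false
set_option linter.unusedSectionVars false
set_option linter.unusedVariables false

namespace Cfsg.Agent.Lib.Helper19.BGTypeG

open Subgroup
open scoped IsMulCommutative

variable {G : Type*} [Group G]

/-- powers with congruent exponents. -/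
theorem pow_eq_pow_of_modEq {x : G} {N k k' : ℕ} (hx : x ^ N = 1) (h : k ≡ k' [MOD N]) :
    x ^ k = x ^ k' := by
  rw [pow_eq_pow_iff_modEq]
  exact h.of_dvd (orderOf_dvd_of_pow_eq_one hx)

/-- `x ≡ 1 [MOD q]` implies `x ^ q ^ a ≡ 1 [MOD q ^ (a + 1)]`. -/
theorem modEq_one_pow_prime_pow {q a x : ℕ} (h : x ≡ 1 [MOD q]) :
    x ^ q ^ a ≡ 1 [MOD q ^ (a + 1)] := by
  have h0 : (q : ℤ) ∣ (x : ℤ) - 1 := by
    have := (Int.natCast_modEq_iff.mpr h).symm.dvd
    simpa using this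
  have h1 := dvd_sub_pow_of_dvd_sub (R := ℤ) (p := q) (a := (x : ℤ)) (b := 1) h0 a
  rw [one_pow] at h1
  have h2 : ((x ^ q ^ a : ℕ) : ℤ) ≡ ((1 : ℕ) : ℤ) [ZMOD ((q ^ (a + 1) : ℕ) : ℤ)] := by
    push_cast
    exact (Int.modEq_iff_dvd.mpr h1).symm
  exact Int.natCast_modEq_iff.mp h2

/-- iterated Fermat: `x ^ q ^ a ≡ x [MOD q]`. -/
theorem pow_prime_pow_modEq_self {q : ℕ} (hq : q.Prime) (x a : ℕ) : x ^ q ^ a ≡ x [MOD q] := by
  haveI : Fact q.Prime := ⟨hq⟩
  rw [← ZMod.natCast_eq_natCast_iff]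
  push_cast
  induction a with
  | zero => simp
  | succ a ih => rw [pow_succ, pow_mul, ih, ZMod.pow_card]

/-- conjugation automorphism of a subgroup by an element of its normalizer. -/
def cjAut (S : Subgroup G) (g : G) (hg : g ∈ normalizer (S : Set G)) : MulAut ↥S :=
  S.normalizerMonoidHom ⟨g, hg⟩

theorem cjAut_apply_coe (S : Subgroup G) (g : G) (hg : g ∈ normalizer (S : Set G)) (s : ↥S) :
    ((cjAut S g hg s : ↥S) : G) = g * s * g⁻¹ := rfl

theorem cjAut_mul (S : Subgroup G) {g h : G} (hg : g ∈ normalizer (S : Set G))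
    (hh : h ∈ normalizer (S : Set G)) :
    cjAut S g hg * cjAut S h hh = cjAut S (g * h) (Subgroup.mul_mem _ hg hh) := by
  unfold cjAut
  rw [← map_mul]
  rfl

theorem cjAut_pow (S : Subgroup G) (g : G) (hg : g ∈ normalizer (S : Set G)) (k : ℕ) :
    cjAut S g hg ^ k = cjAut S (g ^ k) (Subgroup.pow_mem _ hg k) := by
  unfold cjAut
  rw [← map_pow]
  rfl

theorem cjAut_eq_one (S : Subgroup G) {g : G} (hg : g ∈ normalizer (S : Set G))
    (h : g ∈ centralizer (S : Set G)) : cjAut S g hg = 1 := by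
  rw [Subgroup.mem_centralizer_iff] at h
  ext s
  rw [cjAut_apply_coe, MulAut.one_apply, ← h s s.2]
  group

theorem cjAut_pow_apply_coe (S : Subgroup G) (g : G) (hg : g ∈ normalizer (S : Set G)) (k : ℕ)
    (s : ↥S) : (((cjAut S g hg ^ k) s : ↥S) : G) = g ^ k * s * (g ^ k)⁻¹ := by
  rw [cjAut_pow]; rfl

/-- elements commuting modulo the centralizer induce commuting automorphisms. -/
theorem cjAut_commute (S : Subgroup G) {g h : G} (hg : g ∈ normalizer (S : Set G))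
    (hh : h ∈ normalizer (S : Set G)) (hc : g * h * g⁻¹ * h⁻¹ ∈ centralizer (S : Set G)) :
    Commute (cjAut S g hg) (cjAut S h hh) := by
  have hn : g * h * g⁻¹ * h⁻¹ ∈ normalizer (S : Set G) :=
    Subgroup.mul_mem _ (Subgroup.mul_mem _ (Subgroup.mul_mem _ hg hh) (Subgroup.inv_mem _ hg))
      (Subgroup.inv_mem _ hh)
  have h1 := cjAut_eq_one S hn hc
  have hhg : h * g ∈ normalizer (S : Set G) := Subgroup.mul_mem _ hh hg
  have h2 : cjAut S (g * h * g⁻¹ * h⁻¹) hn * cjAut S (h * g) hhg =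
      cjAut S (g * h) (Subgroup.mul_mem _ hg hh) := by
    rw [cjAut_mul]
    congr 1
    group
  show cjAut S g hg * cjAut S h hh = cjAut S h hh * cjAut S g hg
  rw [cjAut_mul, cjAut_mul, ← h2, h1, one_mul]

section Twn

variable (S : Subgroup G) [IsMulCommutative ↥S]

/-- the twisted norm on `S`. -/
noncomputable def twn (e : G) (he : e ∈ normalizer (S : Set G)) (m n : ℕ) : ↥S →* ↥S :=
  tnorm (cjAut S e he) m n

/-- the eigen-subgroup `{s ∈ S | e s e⁻¹ = s ^ m}`. -/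
def eigenSub (e : G) (m : ℕ) : Subgroup G where
  carrier := {s | s ∈ S ∧ e * s * e⁻¹ = s ^ m}
  mul_mem' := by
    rintro a b ⟨ha, ha'⟩ ⟨hb, hb'⟩
    refine ⟨S.mul_mem ha hb, ?_⟩
    have hab : Commute a b := congrArg Subtype.val (mul_comm' (⟨a, ha⟩ : ↥S) ⟨b, hb⟩)
    rw [hab.mul_pow, ← ha', ← hb']
    group
  one_mem' := ⟨S.one_mem, by simp⟩
  inv_mem' := by
    rintro a ⟨ha, ha'⟩
    refine ⟨S.inv_mem ha, ?_⟩
    rw [inv_pow, ← ha']
    group

theorem mem_eigenSub {e : G} {m : ℕ} {s : G} :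
    s ∈ eigenSub S e m ↔ s ∈ S ∧ e * s * e⁻¹ = s ^ m := Iff.rfl

theorem eigenSub_le (e : G) (m : ℕ) : eigenSub S e m ≤ S := fun _ h => h.1

variable {S}

theorem cjAut_pow_eq_one {e : G} (he : e ∈ normalizer (S : Set G)) {n : ℕ}
    (hen : e ^ n ∈ centralizer (S : Set G)) : cjAut S e he ^ n = 1 := by
  rw [cjAut_pow]
  exact cjAut_eq_one S _ hen

theorem twn_mem_eigenSub {e : G} (he : e ∈ normalizer (S : Set G)) {m n : ℕ} (hn : 0 < n)
    (hen : e ^ n ∈ centralizer (S : Set G)) (hm : ∀ s ∈ S, s ^ (m ^ n) = s) (s : ↥S) :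
    ((twn S e he m n s : ↥S) : G) ∈ eigenSub S e m := by
  refine ⟨(twn S e he m n s).2, ?_⟩
  have h1 := apply_tnorm (α := cjAut S e he) (m := m) hn (cjAut_pow_eq_one he hen)
    (fun c => Subtype.ext (by simpa using hm c c.2)) s
  have h2 := congrArg Subtype.val h1
  rw [cjAut_apply_coe] at h2
  show e * ((tnorm (cjAut S e he) m n s : ↥S) : G) * e⁻¹ = ((tnorm (cjAut S e he) m n s : ↥S) : G) ^ m
  simpa using h2

theorem twn_of_mem_eigenSub {e : G} (he : e ∈ normalizer (S : Set G)) {m : ℕ} (n : ℕ) {s : ↥S}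
    (hs : (s : G) ∈ eigenSub S e m) : twn S e he m n s = s ^ (n * m ^ (n - 1)) := by
  apply tnorm_of_eigen
  apply Subtype.ext
  rw [cjAut_apply_coe]
  simpa using hs.2

theorem twn_conj {e g : G} (he : e ∈ normalizer (S : Set G)) (hg : g ∈ normalizer (S : Set G))
    (hc : g * e * g⁻¹ * e⁻¹ ∈ centralizer (S : Set G)) (m n : ℕ) (s : ↥S) :
    cjAut S g hg (twn S e he m n s) = twn S e he m n (cjAut S g hg s) :=
  tnorm_comm (cjAut_commute S hg he hc).symm m n s

/-- the twisted norm preserves `e`-invariant subgroups. -/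
theorem twn_mem_of_le {e : G} (he : e ∈ normalizer (S : Set G)) {A : Subgroup G}
    (heA : e ∈ normalizer (A : Set G)) (m n : ℕ) {s : ↥S} (hs : (s : G) ∈ A) :
    ((twn S e he m n s : ↥S) : G) ∈ A := by
  have h1 : twn S e he m n s ∈ A.subgroupOf S := by
    show tnorm (cjAut S e he) m n s ∈ A.subgroupOf S
    rw [tnorm_apply]
    apply Subgroup.prod_mem
    intro j _
    apply Subgroup.pow_mem
    rw [Subgroup.mem_subgroupOf, cjAut_pow_apply_coe]
    exact (Subgroup.mem_normalizer_iff.mp (Subgroup.pow_mem _ heA j) _).mp hs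
  exact Subgroup.mem_subgroupOf.mp h1

/-- the eigen-subgroup is normalized by the elements commuting with `e` modulo `C(S)`. -/
theorem conj_mem_eigenSub {e g : G} (he : e ∈ normalizer (S : Set G))
    (hg : g ∈ normalizer (S : Set G))
    (hc : g * e * g⁻¹ * e⁻¹ ∈ centralizer (S : Set G)) {m : ℕ} {s : G}
    (hs : s ∈ eigenSub S e m) : g * s * g⁻¹ ∈ eigenSub S e m := by
  have hgs : g * s * g⁻¹ ∈ S := (Subgroup.mem_normalizer_iff.mp hg s).mp hs.1
  refine ⟨hgs, ?_⟩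
  have h1 := (Subgroup.mem_centralizer_iff.mp hc) (e * (g * s * g⁻¹) * e⁻¹) ?_
  · have h2 : e * (g * s * g⁻¹) * e⁻¹ = g * (e * s * e⁻¹) * g⁻¹ := by
      calc e * (g * s * g⁻¹) * e⁻¹
          = (e * (g * s * g⁻¹) * e⁻¹ * (g * e * g⁻¹ * e⁻¹)) * (g * e * g⁻¹ * e⁻¹)⁻¹ := by group
        _ = ((g * e * g⁻¹ * e⁻¹) * (e * (g * s * g⁻¹) * e⁻¹)) * (g * e * g⁻¹ * e⁻¹)⁻¹ := by rw [h1]
        _ = g * (e * s * e⁻¹) * g⁻¹ := by group
    rw [h2, hs.2, conj_pow]
  · exact (Subgroup.mem_normalizer_iff.mp he _).mp hgs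

end Twn

end Cfsg.Agent.Lib.Helper19.BGTypeG
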