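/-
helper19: an automorphism `e` (of order prime to `q`) of an abelian `q`-group `S` of rank 2
(`Ω₁(S) = A` of order `q²`), non-scalar on `A` with an invariant line `L`: the eigen-subgroup `Y` of
`S` over `L` is cyclic, there is a second invariant line `L'`, and `Y` contains elements of maximal
order whenever `℧^b(S) ⊄ L'`.
-/
import Mathlib
import Cfsg.Agent.Lib.Helper19.BGTypeG2
import Cfsg.Agent.Lib.Helper17.RankOne
import Cfsg.Agent.Lib.Helper4.Basic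
import Cfsg.Agent.Lib.Helper1.Coprime

set_option autoImplicit false
set_option linter.unusedSectionVars false
set_option linter.unusedVariables false

namespace Cfsg.Agent.Lib.Helper19.BGTypeG

open Subgroup
open scoped IsMulCommutative

variable {G : Type*} [Group G] [Finite G]

/-- an element normalizing `S` normalizes `Ω₁(S) = A`. -/
theorem mem_normalizer_omega {q : ℕ} {S A : Subgroup G} (hAS : A ≤ S)
    (hΩ : ∀ s ∈ S, s ^ q = 1 → s ∈ A) (hAexp : ∀ a ∈ A, a ^ q = 1) {g : G}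
    (hg : g ∈ normalizer (S : Set G)) : g ∈ normalizer (A : Set G) := by
  apply Cfsg.Agent.Lib.Helper1.mem_normalizer_of_forall_conj_mem
  intro a ha
  apply hΩ _ ((Subgroup.mem_normalizer_iff.mp hg a).mp (hAS ha))
  rw [conj_pow, hAexp a ha, mul_one, mul_inv_cancel]

/-- a `q`-subgroup with at most `q` elements of order dividing `q` is cyclic (`q` odd). -/
theorem isCyclic_of_omega_le {q : ℕ} [Fact q.Prime] (hq2 : q ≠ 2) {Y L : Subgroup G}
    (hYq : IsPGroup q Y) (hLq : Nat.card L = q) (hΩ : ∀ y ∈ Y, y ^ q = 1 → y ∈ L) :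
    IsCyclic ↥Y := by
  have hrk : Cfsg.PRankLE q 1 ↥Y := by
    intro B _ hB
    rw [pow_one, ← hLq]
    have h1 : B.map Y.subtype ≤ L := by
      rintro _ ⟨x, hx, rfl⟩
      apply hΩ _ x.2
      have := hB x hx
      have h2 := congrArg Subtype.val this
      simpa using h2
    calc Nat.card B = Nat.card (B.map Y.subtype) :=
        (Subgroup.card_map_of_injective Y.subtype_injective).symm
      _ ≤ Nat.card L := Subgroup.card_le_of_le h1
  have h1 : IsCyclic ↥(⊤ : Subgroup ↥Y) :=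
    Cfsg.Agent.Lib.Helper17.isCyclic_of_pRankLE_one hq2 hrk ⊤
      (fun x => by
        obtain ⟨k, hk⟩ := hYq x.1
        exact ⟨k, Subtype.ext hk⟩)
  exact (Subgroup.topEquiv.isCyclic).mp h1

/-- **Eigen-decomposition** for a non-scalar coprime automorphism with an invariant line. -/
theorem eigen_cyclic {q : ℕ} [Fact q.Prime] (hq2 : q ≠ 2) {S A L : Subgroup G}
    [IsMulCommutative ↥S] (hSq : IsPGroup q S) (hAS : A ≤ S) (hA2 : Nat.card A = q ^ 2)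
    (hΩ : ∀ s ∈ S, s ^ q = 1 → s ∈ A) (hAexp : ∀ a ∈ A, a ^ q = 1)
    {b : ℕ} (hexp : ∀ s ∈ S, s ^ (q ^ (b + 1)) = 1)
    {e : G} (he : e ∈ normalizer (S : Set G)) {n : ℕ} (hn : 0 < n) (hnq : n.Coprime q)
    (hen : e ^ n ∈ centralizer (S : Set G))
    (hLA : L ≤ A) (hLq : Nat.card L = q) {lam : ℕ} (hL : ∀ a ∈ L, e * a * e⁻¹ = a ^ lam)
    (hns : ∃ a' ∈ A, e * a' * e⁻¹ ≠ a' ^ lam) :
    ∃ L' Y : Subgroup G, L' ≤ A ∧ Nat.card L' = q ∧ L ⊓ L' = ⊥ ∧
      Y ≤ S ∧ IsCyclic ↥Y ∧ Y ⊓ A = L ∧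
      (∀ g ∈ normalizer (S : Set G), g * e * g⁻¹ * e⁻¹ ∈ centralizer (S : Set G) →
         g ∈ normalizer (Y : Set G) ∧ g ∈ normalizer (L' : Set G)) ∧
      ∀ s ∈ S, s ^ (q ^ b) ∉ L' → ∃ y ∈ Y, y ^ (q ^ b) ≠ 1 := by
  classical
  have hqq : q.Prime := Fact.out
  have heA : e ∈ normalizer (A : Set G) := mem_normalizer_omega hAS hΩ hAexp he
  -- `lam ^ n ≡ 1 [MOD q]`
  have hL1 : L ≠ ⊥ := by
    intro h
    rw [h, Subgroup.card_bot] at hLq
    exact hqq.one_lt.ne hLq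
  obtain ⟨a₀, ha₀L, ha₀1⟩ : ∃ a₀ : G, a₀ ∈ L ∧ a₀ ≠ 1 := by
    obtain ⟨x, hx⟩ := (Subgroup.ne_bot_iff_exists_ne_one).mp hL1
    exact ⟨(x : G), x.2, fun h => hx (Subtype.ext h)⟩
  have hiter : ∀ j : ℕ, e ^ j * a₀ * (e ^ j)⁻¹ = a₀ ^ (lam ^ j) := by
    intro j
    induction j with
    | zero => simp
    | succ j ih =>
      have h1 : e ^ (j + 1) * a₀ * (e ^ (j + 1))⁻¹ = e * (e ^ j * a₀ * (e ^ j)⁻¹) * e⁻¹ := by
        rw [pow_succ']; group
      rw [h1, ih, ← conj_pow, hL a₀ ha₀L, ← pow_mul, ← pow_succ']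
  have hord : orderOf a₀ = q := by
    have h1 : orderOf a₀ ∣ q := orderOf_dvd_of_pow_eq_one (hAexp a₀ (hLA ha₀L))
    rcases (Nat.dvd_prime hqq).mp h1 with h | h
    · exact absurd (orderOf_eq_one_iff.mp h) ha₀1
    · exact h
  have hlamn : lam ^ n ≡ 1 [MOD q] := by
    have h1 := hiter n
    have h2 : e ^ n * a₀ * (e ^ n)⁻¹ = a₀ := by
      have := (Subgroup.mem_centralizer_iff.mp hen) a₀ (hAS (hLA ha₀L))
      rw [← this]; group
    rw [h2] at h1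
    have h3 : a₀ ^ (lam ^ n) = a₀ ^ 1 := by rw [pow_one]; exact h1.symm
    rw [pow_eq_pow_iff_modEq, hord] at h3
    exact h3
  have hlamq : lam.Coprime q := by
    rw [Nat.coprime_comm, Nat.Prime.coprime_iff_not_dvd hqq]
    intro hd
    have h1 : lam ^ n ≡ 0 [MOD q] := by
      rw [Nat.modEq_zero_iff_dvd]
      exact dvd_pow hd hn.ne'
    have h2 : (1 : ℕ) ≡ 0 [MOD q] := hlamn.symm.trans h1
    rw [Nat.modEq_zero_iff_dvd] at h2
    exact hqq.one_lt.ne' (Nat.dvd_one.mp h2)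
  obtain ⟨m, hmdef⟩ : ∃ m : ℕ, m = lam ^ (q ^ b) := ⟨_, rfl⟩
  have hmq : m.Coprime q := hmdef ▸ Nat.Coprime.pow_left _ hlamq
  have hmlam : m ≡ lam [MOD q] := hmdef ▸ pow_prime_pow_modEq_self hqq lam b
  have hmA : ∀ a ∈ A, a ^ m = a ^ lam := fun a ha => pow_eq_pow_of_modEq (hAexp a ha) hmlam
  have hmn : m ^ n ≡ 1 [MOD q ^ (b + 1)] := by
    rw [hmdef, ← pow_mul, mul_comm, pow_mul]
    exact modEq_one_pow_prime_pow hlamn
  have hm : ∀ s ∈ S, s ^ (m ^ n) = s := by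
    intro s hs
    have := pow_eq_pow_of_modEq (hexp s hs) hmn
    rwa [pow_one] at this
  -- the eigen-subgroup
  obtain ⟨Y, hYdef⟩ : ∃ Y : Subgroup G, Y = eigenSub S e m := ⟨_, rfl⟩
  have hYS : Y ≤ S := hYdef ▸ eigenSub_le S e m
  have hLY : L ≤ Y ⊓ A := by
    intro a ha
    refine ⟨?_, hLA ha⟩
    rw [hYdef]
    exact ⟨hAS (hLA ha), by rw [hL a ha, hmA a (hLA ha)]⟩
  have hYA : Y ⊓ A = L := by
    symm
    apply Subgroup.eq_of_le_of_card_ge hLY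
    rw [hLq]
    have hd : Nat.card ↥(Y ⊓ A) ∣ q ^ 2 := hA2 ▸ Subgroup.card_dvd_of_le inf_le_right
    obtain ⟨j, hj, hj2⟩ := (Nat.dvd_prime_pow hqq).mp hd
    have hj2' : j ≠ 2 := by
      rintro rfl
      obtain ⟨a', ha'A, ha'⟩ := hns
      have h6 : Y ⊓ A = A := Subgroup.eq_of_le_of_card_ge inf_le_right (by rw [hj2, hA2])
      have h7 : a' ∈ Y ⊓ A := by rw [h6]; exact ha'A
      have h8 : a' ∈ eigenSub S e m := hYdef ▸ h7.1
      exact ha' (by rw [h8.2, hmA a' ha'A])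
    rw [hj2]
    calc q ^ j ≤ q ^ 1 := Nat.pow_le_pow_right hqq.pos (by omega)
      _ = q := pow_one q
  -- the kernel line
  obtain ⟨ν, hνdef⟩ : ∃ ν : ↥S →* ↥S, ν = twn S e he m n := ⟨_, rfl⟩
  have hνY : ∀ s : ↥S, ((ν s : ↥S) : G) ∈ Y := by
    intro s
    rw [hνdef, hYdef]
    exact twn_mem_eigenSub he hn hen hm s
  have hνA : ∀ s : ↥S, (s : G) ∈ A → ((ν s : ↥S) : G) ∈ A := by
    intro s hs
    rw [hνdef]
    exact twn_mem_of_le he heA m n hs
  obtain ⟨k, hkdef⟩ : ∃ k : ℕ, k = n * m ^ (n - 1) := ⟨_, rfl⟩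
  have hkq : k.Coprime q := hkdef ▸ Nat.Coprime.mul_left hnq (Nat.Coprime.pow_left _ hmq)
  have hνeig : ∀ s : ↥S, (s : G) ∈ Y → ν s = s ^ k := by
    intro s hs
    rw [hνdef, hkdef]
    exact twn_of_mem_eigenSub he n (hYdef ▸ hs)
  obtain ⟨L', hL'def⟩ : ∃ L' : Subgroup G, L' = A ⊓ (ν.ker).map S.subtype := ⟨_, rfl⟩
  have hmemL' : ∀ a : G, a ∈ L' ↔ a ∈ A ∧ ∃ ha : a ∈ S, ν ⟨a, ha⟩ = 1 := by
    intro a
    rw [hL'def]
    constructor
    · rintro ⟨h1, ⟨s, hs, rfl⟩⟩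
      exact ⟨h1, s.2, MonoidHom.mem_ker.mp hs⟩
    · rintro ⟨h1, ha, h2⟩
      exact ⟨h1, ⟨⟨a, ha⟩, MonoidHom.mem_ker.mpr h2, rfl⟩⟩
  have hL'A : L' ≤ A := hL'def ▸ inf_le_left
  have hdisj : L ⊓ L' = ⊥ := by
    rw [eq_bot_iff]
    rintro a ⟨haL, haL'⟩
    rw [Subgroup.mem_bot]
    obtain ⟨haA, haS, h1⟩ := (hmemL' a).mp haL'
    have h2 := hνeig ⟨a, haS⟩ (hLY haL).1
    rw [h1] at h2
    have h3 : a ^ k = 1 := by
      have := congrArg Subtype.val h2.symm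
      simpa using this
    have h4 := Nat.eq_one_of_dvd_coprimes hkq (orderOf_dvd_of_pow_eq_one h3)
      (orderOf_dvd_of_pow_eq_one (hAexp a haA))
    exact orderOf_eq_one_iff.mp h4
  obtain ⟨k', -, hk'⟩ := Nat.exists_mul_mod_eq_one_of_coprime hkq hqq.one_lt
  have hkk' : k * k' ≡ 1 [MOD q] := by
    show k * k' % q = 1 % q
    rw [hk', Nat.mod_eq_of_lt hqq.one_lt]
  have hsup : L ⊔ L' = A := by
    apply le_antisymm (sup_le hLA hL'A)
    intro a haA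
    have haS : a ∈ S := hAS haA
    obtain ⟨l, hldef⟩ : ∃ l : ↥S, l = (ν ⟨a, haS⟩) ^ k' := ⟨_, rfl⟩
    have hlL : (l : G) ∈ L := by
      rw [← hYA, hldef]
      exact ⟨Y.pow_mem (hνY _) _, A.pow_mem (hνA _ haA) _⟩
    have hνl : ν l = ν ⟨a, haS⟩ := by
      rw [hνeig l (hLY hlL).1, hldef, ← pow_mul]
      apply Subtype.ext
      have h1 : ((ν ⟨a, haS⟩ : ↥S) : G) ^ q = 1 := hAexp _ (hνA _ haA)
      have h2 := pow_eq_pow_of_modEq h1 (show k' * k ≡ 1 [MOD q] by rw [mul_comm]; exact hkk')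
      rw [pow_one] at h2
      simpa using h2
    have h3 : a * (l : G)⁻¹ ∈ L' := by
      rw [hmemL']
      refine ⟨A.mul_mem haA (A.inv_mem (hLA hlL)), S.mul_mem haS (S.inv_mem l.2), ?_⟩
      have : (⟨a * (l : G)⁻¹, S.mul_mem haS (S.inv_mem l.2)⟩ : ↥S) = ⟨a, haS⟩ * l⁻¹ := rfl
      rw [this, map_mul, map_inv, hνl, mul_inv_cancel]
    have e1 : a = (l : G) * ((l : G)⁻¹ * a) := by group
    rw [e1]
    apply Subgroup.mul_mem _ (Subgroup.mem_sup_left hlL) (Subgroup.mem_sup_right _)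
    have hcomm : (l : G)⁻¹ * a = a * (l : G)⁻¹ := by
      have := congrArg Subtype.val (mul_comm' (l⁻¹ : ↥S) ⟨a, haS⟩)
      simpa using this
    rw [hcomm]; exact h3
  have hL'q : Nat.card L' = q := by
    have hLn : L ≤ normalizer (L' : Set G) := by
      intro x hx
      apply Cfsg.Agent.Lib.Helper1.mem_normalizer_of_forall_conj_mem
      intro y hy
      have hxy : x * y = y * x := by
        have := congrArg Subtype.val (mul_comm' (⟨x, hAS (hLA hx)⟩ : ↥S) ⟨y, hAS (hL'A hy)⟩)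
        simpa using this
      rw [hxy]
      have e1 : y * x * x⁻¹ = y := by group
      rw [e1]; exact hy
    have h1 := Cfsg.Agent.Lib.Helper4.card_sup_mul_card_inf L L' hLn
    rw [hsup, hdisj, Subgroup.card_bot, mul_one, hA2, hLq, pow_two] at h1
    exact (Nat.eq_of_mul_eq_mul_left hqq.pos h1).symm
  refine ⟨L', Y, hL'A, hL'q, hdisj, hYS, ?_, hYA, ?_, ?_⟩
  · apply isCyclic_of_omega_le hq2 (hSq.to_le hYS) hLq
    intro y hy hyq
    rw [← hYA]
    exact ⟨hy, hΩ y (hYS hy) hyq⟩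
  · intro g hg hc
    have hgA : g ∈ normalizer (A : Set G) := mem_normalizer_omega hAS hΩ hAexp hg
    constructor
    · apply Cfsg.Agent.Lib.Helper1.mem_normalizer_of_forall_conj_mem
      intro y hy
      rw [hYdef] at hy ⊢
      exact conj_mem_eigenSub he hg hc hy
    · apply Cfsg.Agent.Lib.Helper1.mem_normalizer_of_forall_conj_mem
      intro a ha
      obtain ⟨haA, haS, h1⟩ := (hmemL' a).mp ha
      rw [hmemL']
      have hgaS : g * a * g⁻¹ ∈ S := (Subgroup.mem_normalizer_iff.mp hg a).mp haS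
      refine ⟨(Subgroup.mem_normalizer_iff.mp hgA a).mp haA, hgaS, ?_⟩
      have h2 := twn_conj he hg hc m n ⟨a, haS⟩
      rw [← hνdef, h1, map_one] at h2
      have h3 : cjAut S g hg ⟨a, haS⟩ = ⟨g * a * g⁻¹, hgaS⟩ := rfl
      rw [h3] at h2
      exact h2.symm
  · intro s hsS hσ
    refine ⟨((ν ⟨s, hsS⟩ : ↥S) : G), hνY _, ?_⟩
    intro h1
    apply hσ
    rw [hmemL']
    have hσS : s ^ (q ^ b) ∈ S := S.pow_mem hsS _
    refine ⟨hΩ _ hσS (by rw [← pow_mul, ← pow_succ]; exact hexp s hsS), hσS, ?_⟩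
    have : (⟨s ^ (q ^ b), hσS⟩ : ↥S) = ⟨s, hsS⟩ ^ (q ^ b) := rfl
    rw [this, map_pow]
    apply Subtype.ext
    simpa using h1

end Cfsg.Agent.Lib.Helper19.BGTypeG
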