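/-
helper19: (1) an automorphism of order prime to `q` acting as a scalar on `Ω₁(S)` acts as a power
map on the abelian `q`-group `S`; (2) a Frobenius group `L⟨e₀⟩` of order `q t` acting on an abelian
group `V` with `C_V(L) = 1` has `C_V(e₀) ≠ 1`.
-/
import Mathlib
import Cfsg.Agent.Lib.Helper19.BGTypeG3
import Cfsg.Agent.S3703
import Cfsg.Agent.Lib.Helper19.BG127A

set_option autoImplicit false
set_option linter.unusedSectionVars false
set_option linter.unusedVariables false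

namespace Cfsg.Agent.Lib.Helper19.BGTypeG

open Subgroup
open scoped IsMulCommutative

variable {G : Type*} [Group G] [Finite G]

/-- **Scalar implies power map.** -/
theorem conj_eq_pow_of_scalar {q : ℕ} [Fact q.Prime] {S A : Subgroup G}
    [IsMulCommutative ↥S] (hSq : IsPGroup q S) (hAS : A ≤ S)
    (hΩ : ∀ s ∈ S, s ^ q = 1 → s ∈ A) (hAexp : ∀ a ∈ A, a ^ q = 1) (hA1 : A ≠ ⊥)
    {b : ℕ} (hexp : ∀ s ∈ S, s ^ (q ^ (b + 1)) = 1)
    {e : G} (he : e ∈ normalizer (S : Set G)) {n : ℕ} (hn : 0 < n) (hnq : n.Coprime q)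
    (hen : e ^ n ∈ centralizer (S : Set G))
    {lam : ℕ} (hL : ∀ a ∈ A, e * a * e⁻¹ = a ^ lam) :
    ∃ m : ℕ, ∀ s ∈ S, e * s * e⁻¹ = s ^ m := by
  classical
  have hqq : q.Prime := Fact.out
  obtain ⟨a₀, ha₀A, ha₀1⟩ : ∃ a₀ : G, a₀ ∈ A ∧ a₀ ≠ 1 := by
    obtain ⟨x, hx⟩ := (Subgroup.ne_bot_iff_exists_ne_one).mp hA1
    exact ⟨(x : G), x.2, fun h => hx (Subtype.ext h)⟩
  have heA : e ∈ normalizer (A : Set G) := mem_normalizer_omega hAS hΩ hAexp he
  have hiter : ∀ j : ℕ, e ^ j * a₀ * (e ^ j)⁻¹ = a₀ ^ (lam ^ j) := by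
    intro j
    induction j with
    | zero => simp
    | succ j ih =>
      have h1 : e ^ (j + 1) * a₀ * (e ^ (j + 1))⁻¹ = e * (e ^ j * a₀ * (e ^ j)⁻¹) * e⁻¹ := by
        rw [pow_succ']; group
      rw [h1, ih, ← conj_pow, hL a₀ ha₀A, ← pow_mul, ← pow_succ']
  have hord : orderOf a₀ = q := by
    have h1 : orderOf a₀ ∣ q := orderOf_dvd_of_pow_eq_one (hAexp a₀ ha₀A)
    rcases (Nat.dvd_prime hqq).mp h1 with h | h
    · exact absurd (orderOf_eq_one_iff.mp h) ha₀1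
    · exact h
  have hlamn : lam ^ n ≡ 1 [MOD q] := by
    have h1 := hiter n
    have h2 : e ^ n * a₀ * (e ^ n)⁻¹ = a₀ := by
      have := (Subgroup.mem_centralizer_iff.mp hen) a₀ (hAS ha₀A)
      rw [← this]; group
    rw [h2] at h1
    have h3 : a₀ ^ (lam ^ n) = a₀ ^ 1 := by rw [pow_one]; exact h1.symm
    rw [pow_eq_pow_iff_modEq, hord] at h3
    exact h3
  have hlamq : lam.Coprime q := by
    rw [Nat.coprime_comm, Nat.Prime.coprime_iff_not_dvd hqq]
    intro hd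
    have h1 : lam ^ n ≡ 0 [MOD q] := by
      rw [Nat.modEq_zero_iff_dvd]
      exact dvd_pow hd hn.ne'
    have h2 : (1 : ℕ) ≡ 0 [MOD q] := hlamn.symm.trans h1
    rw [Nat.modEq_zero_iff_dvd] at h2
    exact hqq.one_lt.ne' (Nat.dvd_one.mp h2)
  obtain ⟨m, hmdef⟩ : ∃ m : ℕ, m = lam ^ (q ^ b) := ⟨_, rfl⟩
  have hmq : m.Coprime q := hmdef ▸ Nat.Coprime.pow_left _ hlamq
  have hmlam : m ≡ lam [MOD q] := hmdef ▸ pow_prime_pow_modEq_self hqq lam b
  have hmA : ∀ a ∈ A, a ^ m = a ^ lam := fun a ha => pow_eq_pow_of_modEq (hAexp a ha) hmlam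
  have hmn : m ^ n ≡ 1 [MOD q ^ (b + 1)] := by
    rw [hmdef, ← pow_mul, mul_comm, pow_mul]
    exact modEq_one_pow_prime_pow hlamn
  have hm : ∀ s ∈ S, s ^ (m ^ n) = s := by
    intro s hs
    have := pow_eq_pow_of_modEq (hexp s hs) hmn
    rwa [pow_one] at this
  refine ⟨m, ?_⟩
  obtain ⟨ν, hνdef⟩ : ∃ ν : ↥S →* ↥S, ν = twn S e he m n := ⟨_, rfl⟩
  have hνY : ∀ s : ↥S, ((ν s : ↥S) : G) ∈ eigenSub S e m := by
    intro s
    rw [hνdef]
    exact twn_mem_eigenSub he hn hen hm s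
  obtain ⟨k, hkdef⟩ : ∃ k : ℕ, k = n * m ^ (n - 1) := ⟨_, rfl⟩
  have hkq : k.Coprime q := hkdef ▸ Nat.Coprime.mul_left hnq (Nat.Coprime.pow_left _ hmq)
  have hνeig : ∀ s : ↥S, (s : G) ∈ eigenSub S e m → ν s = s ^ k := by
    intro s hs
    rw [hνdef, hkdef]
    exact twn_of_mem_eigenSub he n hs
  have hAY : ∀ a ∈ A, a ∈ eigenSub S e m := fun a ha =>
    ⟨hAS ha, by rw [hL a ha, hmA a ha]⟩
  -- `ν` is injective
  have hinj : Function.Injective ν := by
    rw [injective_iff_map_eq_one]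
    intro s hs
    by_contra hs1
    have hs1' : (s : G) ≠ 1 := fun h => hs1 (Subtype.ext h)
    obtain ⟨j, hj⟩ := (IsPGroup.iff_orderOf.mp hSq) s
    have hj0 : j ≠ 0 := by
      rintro rfl
      rw [pow_zero, orderOf_eq_one_iff] at hj
      exact hs1 hj
    obtain ⟨i, rfl⟩ : ∃ i, j = i + 1 := ⟨j - 1, by omega⟩
    obtain ⟨s', hs'def⟩ : ∃ s' : ↥S, s' = s ^ (q ^ i) := ⟨_, rfl⟩
    have hs'q : s' ^ q = 1 := by
      rw [hs'def, ← pow_mul, ← pow_succ, ← hj]
      exact pow_orderOf_eq_one s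
    have hs'1 : s' ≠ 1 := by
      rw [hs'def]
      intro h1
      have h2 := orderOf_dvd_of_pow_eq_one h1
      rw [hj] at h2
      have h3 := (Nat.pow_dvd_pow_iff_le_right hqq.one_lt).mp h2
      omega
    have hs'A : (s' : G) ∈ A := by
      apply hΩ _ s'.2
      have := congrArg Subtype.val hs'q
      simpa using this
    have h1 : ν s' = 1 := by rw [hs'def, map_pow, hs, one_pow]
    rw [hνeig s' (hAY _ hs'A)] at h1
    have h4 := Nat.eq_one_of_dvd_coprimes hkq (orderOf_dvd_of_pow_eq_one h1)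
      (orderOf_dvd_of_pow_eq_one hs'q)
    exact hs'1 (orderOf_eq_one_iff.mp h4)
  have hsurj : Function.Surjective ν := Finite.injective_iff_surjective.mp hinj
  intro s hs
  obtain ⟨s₀, hs₀⟩ := hsurj ⟨s, hs⟩
  have h1 := hνY s₀
  rw [hs₀] at h1
  exact h1.2

/-- **Frobenius action.** -/
theorem frob_line_fixed {L V : Subgroup G} {e₀ : G} {t : ℕ} [Fact t.Prime]
    (he₀L : e₀ ∈ normalizer (L : Set G)) (he₀t : orderOf e₀ = t)
    (hfpf : L ⊓ centralizer ({e₀} : Set G) = ⊥)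
    (hVab : IsMulCommutative ↥V) (hV1 : V ≠ ⊥) (hLV : L ≤ normalizer (V : Set G))
    (he₀V : e₀ ∈ normalizer (V : Set G)) (hcop : (Nat.card V).Coprime (Nat.card L))
    (hCL : V ⊓ centralizer (L : Set G) = ⊥) : V ⊓ centralizer ({e₀} : Set G) ≠ ⊥ := by
  classical
  intro hbot
  have ht : t.Prime := Fact.out
  obtain ⟨F, hFdef⟩ : ∃ F : Subgroup G, F = L ⊔ zpowers e₀ := ⟨_, rfl⟩
  have hLF : L ≤ F := hFdef ▸ le_sup_left
  have hZF : zpowers e₀ ≤ F := hFdef ▸ le_sup_right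
  have hFV : F ≤ normalizer (V : Set G) :=
    hFdef ▸ sup_le hLV (by rw [Subgroup.zpowers_le]; exact he₀V)
  have hFL : F ≤ normalizer (L : Set G) :=
    hFdef ▸ sup_le Subgroup.le_normalizer (by rw [Subgroup.zpowers_le]; exact he₀L)
  haveI hKn : (L.subgroupOf F).Normal :=
    (Subgroup.normal_subgroupOf_iff_le_normalizer hLF).mpr hFL
  letI : CommGroup ↥V := { (inferInstance : Group ↥V) with mul_comm := hVab.is_comm.comm }
  let φ : ↥F →* MulAut ↥V := V.normalizerMonoidHom.comp (Subgroup.inclusion hFV)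
  have hφ : ∀ (x : ↥F) (v : ↥V), ((φ x v : ↥V) : G) = (x : G) * v * (x : G)⁻¹ := fun x v => rfl
  letI : Fintype ↥((zpowers e₀).subgroupOf F) := Fintype.ofFinite _
  have hcommute : ∀ k ∈ L, ∀ h ∈ zpowers e₀, h ≠ 1 → h * k = k * h → k = 1 := by
    intro k hk h hh hh1 hhk
    have hcardZ : Nat.card (zpowers e₀) = t := by rw [Nat.card_zpowers, he₀t]
    have h1 := Cfsg.Agent.Lib.Helper19.BG127.eq_zpowers_of_card_prime hcardZ hh hh1
    have h2 : e₀ ∈ zpowers h := h1 ▸ Subgroup.mem_zpowers e₀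
    obtain ⟨i, hi⟩ := Subgroup.mem_zpowers_iff.mp h2
    have h3 : k ∈ L ⊓ centralizer ({e₀} : Set G) := by
      refine ⟨hk, ?_⟩
      show k ∈ centralizer ({e₀} : Set G)
      rw [Subgroup.mem_centralizer_singleton_iff, ← hi]
      exact ((Commute.zpow_left (show Commute h k from hhk) i).eq).symm
    rw [hfpf, Subgroup.mem_bot] at h3
    exact h3
  have hKH : L.subgroupOf F ⊓ (zpowers e₀).subgroupOf F = ⊥ := by
    rw [eq_bot_iff]
    rintro ⟨x, hxF⟩ ⟨hx1, hx2⟩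
    rw [Subgroup.mem_bot]
    apply Subtype.ext
    have hx1' : x ∈ L := Subgroup.mem_subgroupOf.mp hx1
    have hx2' : x ∈ zpowers e₀ := Subgroup.mem_subgroupOf.mp hx2
    by_contra hx
    exact hx (hcommute x hx1' x hx2' hx rfl)
  have hKH' : L.subgroupOf F ⊔ (zpowers e₀).subgroupOf F = ⊤ := by
    rw [← Subgroup.subgroupOf_sup hLF hZF, ← hFdef, Subgroup.subgroupOf_self]
  have hfpf' : ∀ h ∈ (zpowers e₀).subgroupOf F, h ≠ 1 → ∀ k ∈ L.subgroupOf F,
      h * k = k * h → k = 1 := by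
    rintro ⟨h, hhF⟩ hh hh1 ⟨k, hkF⟩ hk hhk
    apply Subtype.ext
    apply hcommute k (Subgroup.mem_subgroupOf.mp hk) h (Subgroup.mem_subgroupOf.mp hh)
    · intro h1; apply hh1; exact Subtype.ext h1
    · exact congrArg Subtype.val hhk
  have hcop' : (Nat.card ↥V).Coprime (Nat.card ↥(L.subgroupOf F)) := by
    rw [Nat.card_congr (Subgroup.subgroupOfEquivOfLe hLF).toEquiv]
    exact hcop
  have hCK : ∀ v : ↥V, (∀ k ∈ L.subgroupOf F, φ k v = v) → v = 1 := by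
    intro v hv
    have h1 : (v : G) ∈ V ⊓ centralizer (L : Set G) := by
      refine ⟨v.2, ?_⟩
      show (v : G) ∈ centralizer (L : Set G)
      rw [Subgroup.mem_centralizer_iff]
      intro k hk
      have h2 := hv ⟨k, hLF hk⟩ (Subgroup.mem_subgroupOf.mpr hk)
      have h3 := congrArg Subtype.val h2
      rw [hφ] at h3
      calc k * (v : G) = (k * (v : G) * k⁻¹) * k := by group
        _ = (v : G) * k := by rw [h3]
    rw [hCL, Subgroup.mem_bot] at h1
    exact Subtype.ext h1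
  have hPH : ∀ v : ↥V, ∏ x : ↥((zpowers e₀).subgroupOf F), φ x v = 1 := by
    intro v
    have he₀H : (⟨e₀, hZF (Subgroup.mem_zpowers e₀)⟩ : ↥F) ∈ (zpowers e₀).subgroupOf F :=
      Subgroup.mem_subgroupOf.mpr (Subgroup.mem_zpowers e₀)
    obtain ⟨y, hy⟩ : ∃ y : ↥((zpowers e₀).subgroupOf F), (y : ↥F) = ⟨e₀, hZF (Subgroup.mem_zpowers e₀)⟩ :=
      ⟨⟨_, he₀H⟩, rfl⟩
    have hfix : φ (y : ↥F) (∏ x : ↥((zpowers e₀).subgroupOf F), φ x v) =
        ∏ x : ↥((zpowers e₀).subgroupOf F), φ x v := by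
      rw [map_prod]
      have h1 : ∀ x : ↥((zpowers e₀).subgroupOf F),
          φ (y : ↥F) (φ x v) = φ ((y * x : ↥((zpowers e₀).subgroupOf F)) : ↥F) v := by
        intro x
        rw [Subgroup.coe_mul, map_mul, MulAut.mul_apply]
      simp_rw [h1]
      exact Fintype.prod_equiv (Equiv.mulLeft y) _ _ (fun x => rfl)
    have h2 : ((∏ x : ↥((zpowers e₀).subgroupOf F), φ x v : ↥V) : G) ∈
        V ⊓ centralizer ({e₀} : Set G) := by
      refine ⟨Subtype.coe_prop _, ?_⟩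
      show _ ∈ centralizer ({e₀} : Set G)
      rw [Subgroup.mem_centralizer_singleton_iff]
      have h3 := congrArg Subtype.val hfix
      rw [hφ, hy] at h3
      obtain ⟨w, hw⟩ : ∃ w : G, w = ((∏ x : ↥((zpowers e₀).subgroupOf F), φ x v : ↥V) : G) :=
        ⟨_, rfl⟩
      rw [← hw] at h3 ⊢
      show w * e₀ = e₀ * w
      calc w * e₀ = (e₀ * w * e₀⁻¹) * e₀ := by rw [h3]
        _ = e₀ * w := by group
    rw [hbot, Subgroup.mem_bot] at h2
    exact Subtype.ext h2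
  have hall := Cfsg.Agent.S3703.norm_lemma φ (L.subgroupOf F) ((zpowers e₀).subgroupOf F)
    hKH hKH' hfpf' hcop' hCK hPH
  apply hV1
  rw [eq_bot_iff]
  intro v hv
  rw [Subgroup.mem_bot]
  exact congrArg Subtype.val (hall ⟨v, hv⟩)

end Cfsg.Agent.Lib.Helper19.BGTypeG
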