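/-
helper19: generic lemmas for Case Ab of S1421(b): centres of nilpotent subgroups, coprime
automorphisms centralizing `Ω₁`, prime-power-order witnesses.
-/
import Mathlib
import Cfsg.Agent.Lib.Helper19.BGTypeG4

set_option autoImplicit false
set_option linter.unusedSectionVars false
set_option linter.unusedVariables false

namespace Cfsg.Agent.Lib.Helper19.BGTypeG

open Subgroup
open scoped IsMulCommutative

variable {G : Type*} [Group G] [Finite G]

/-- the centre of a subgroup, as a subgroup of the ambient group. -/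
def zcen (X : Subgroup G) : Subgroup G := X ⊓ centralizer (X : Set G)

theorem zcen_le (X : Subgroup G) : zcen X ≤ X := inf_le_left

theorem zcen_comm (X : Subgroup G) : IsMulCommutative ↥(zcen X) := by
  refine ⟨⟨?_⟩⟩
  rintro ⟨a, ha⟩ ⟨b, hb⟩
  apply Subtype.ext
  show a * b = b * a
  exact ((Subgroup.mem_centralizer_iff.mp hb.2) a ha.1)

theorem zcen_ne_bot {X : Subgroup G} (hnil : Group.IsNilpotent ↥X) (hX : X ≠ ⊥) :
    zcen X ≠ ⊥ := by
  haveI : Nontrivial ↥X := (Subgroup.nontrivial_iff_ne_bot X).mpr hX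
  have h1 : Subgroup.center ↥X ≠ ⊥ := Group.IsNilpotent.center_ne_bot (G := ↥X)
  obtain ⟨⟨z, hz⟩, hz1⟩ := (Subgroup.ne_bot_iff_exists_ne_one).mp h1
  intro hbot
  apply hz1
  apply Subtype.ext
  have h2 : (z : G) ∈ zcen X := by
    refine ⟨z.2, ?_⟩
    show (z : G) ∈ centralizer (X : Set G)
    rw [Subgroup.mem_centralizer_iff]
    intro x hx
    have h3 := Subgroup.mem_center_iff.mp hz ⟨x, hx⟩
    exact congrArg Subtype.val h3
  rw [hbot, Subgroup.mem_bot] at h2
  exact Subtype.ext h2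

theorem mem_normalizer_zcen {X : Subgroup G} {g : G} (hg : g ∈ normalizer (X : Set G)) :
    g ∈ normalizer (zcen X : Set G) := by
  apply Cfsg.Agent.Lib.Helper1.mem_normalizer_of_forall_conj_mem
  intro z hz
  refine ⟨(Subgroup.mem_normalizer_iff.mp hg z).mp hz.1, ?_⟩
  show g * z * g⁻¹ ∈ centralizer (X : Set G)
  rw [Subgroup.mem_centralizer_iff]
  intro x hx
  have hx' : g⁻¹ * x * g ∈ X := by
    have := (Subgroup.mem_normalizer_iff.mp (Subgroup.inv_mem _ hg) x).mp hx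
    simpa using this
  have h1 := (Subgroup.mem_centralizer_iff.mp hz.2) _ hx'
  calc x * (g * z * g⁻¹) = g * ((g⁻¹ * x * g) * z) * g⁻¹ := by group
    _ = g * (z * (g⁻¹ * x * g)) * g⁻¹ := by rw [h1]
    _ = g * z * g⁻¹ * x := by group

/-- in a `q`-group, a non-identity element has a power of order `q`. -/
theorem exists_pow_prime_order {q : ℕ} [Fact q.Prime] {c : G} (hc : ∃ k : ℕ, c ^ (q ^ k) = 1)
    (hc1 : c ≠ 1) : ∃ i : ℕ, c ^ (q ^ i) ≠ 1 ∧ (c ^ (q ^ i)) ^ q = 1 := by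
  classical
  have hqq : q.Prime := Fact.out
  obtain ⟨k, hk⟩ := hc
  obtain ⟨j, -, hj⟩ := (Nat.dvd_prime_pow hqq).mp (orderOf_dvd_of_pow_eq_one hk)
  have hj0 : j ≠ 0 := by
    rintro rfl
    rw [pow_zero, orderOf_eq_one_iff] at hj
    exact hc1 hj
  obtain ⟨i, rfl⟩ : ∃ i, j = i + 1 := ⟨j - 1, by omega⟩
  refine ⟨i, ?_, ?_⟩
  · intro h
    have h1 := orderOf_dvd_of_pow_eq_one h
    rw [hj] at h1
    have h2 := Nat.le_of_dvd (pow_pos hqq.pos i) h1
    have h3 : q ^ i < q ^ (i + 1) := Nat.pow_lt_pow_right hqq.one_lt (Nat.lt_succ_self i)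
    omega
  · rw [← pow_mul, ← pow_succ, ← hj, pow_orderOf_eq_one]

/-- a coprime automorphism of an abelian `q`-group centralizing `Ω₁` is trivial. -/
theorem centralizes_of_centralizes_omega {q : ℕ} [Fact q.Prime] {S A : Subgroup G}
    [IsMulCommutative ↥S] (hSq : IsPGroup q S) (hAS : A ≤ S)
    (hΩ : ∀ s ∈ S, s ^ q = 1 → s ∈ A)
    {e : G} (he : e ∈ normalizer (S : Set G)) {n : ℕ} (hn : 0 < n) (hnq : n.Coprime q)
    (hen : e ^ n ∈ centralizer (S : Set G)) (heA : e ∈ centralizer (A : Set G)) :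
    e ∈ centralizer (S : Set G) := by
  classical
  have hqq : q.Prime := Fact.out
  rw [Subgroup.mem_centralizer_iff]
  intro s hs
  have hes : e * s * e⁻¹ ∈ S := (Subgroup.mem_normalizer_iff.mp he s).mp hs
  obtain ⟨c, hcdef⟩ : ∃ c : ↥S, c = (⟨e * s * e⁻¹, hes⟩ : ↥S) * (⟨s, hs⟩ : ↥S)⁻¹ := ⟨_, rfl⟩
  have hm1 : ∀ c : ↥S, c ^ (1 ^ n) = c := fun c => by rw [one_pow, pow_one]
  have hν : twn S e he 1 n c = 1 := by
    rw [hcdef, map_mul, map_inv]
    have h1 := tnorm_apply_self (α := cjAut S e he) (m := 1) hn (cjAut_pow_eq_one he hen) hm1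
      ⟨s, hs⟩
    have h2 : cjAut S e he ⟨s, hs⟩ = ⟨e * s * e⁻¹, hes⟩ := Subtype.ext (cjAut_apply_coe S e he _)
    rw [h2, pow_one] at h1
    show tnorm (cjAut S e he) 1 n ⟨e * s * e⁻¹, hes⟩ * (tnorm (cjAut S e he) 1 n ⟨s, hs⟩)⁻¹ = 1
    rw [h1, mul_inv_cancel]
  have hc1 : c = 1 := by
    by_contra hne
    have hcq : ∃ k : ℕ, c ^ (q ^ k) = 1 := hSq c
    obtain ⟨i, hi1, hiq⟩ := exists_pow_prime_order hcq hne
    obtain ⟨c', hc'⟩ : ∃ c' : ↥S, c' = c ^ (q ^ i) := ⟨_, rfl⟩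
    rw [← hc'] at hi1 hiq
    have hc'A : (c' : G) ∈ A := by
      apply hΩ _ c'.2
      have := congrArg Subtype.val hiq
      simpa using this
    have hc'e : (c' : G) ∈ eigenSub S e 1 := by
      refine ⟨c'.2, ?_⟩
      rw [pow_one, ← (Subgroup.mem_centralizer_iff.mp heA) _ hc'A]
      group
    have h3 := twn_of_mem_eigenSub he n hc'e
    rw [one_pow, mul_one] at h3
    have h4 : twn S e he 1 n c' = 1 := by rw [hc', map_pow, hν, one_pow]
    rw [h4] at h3
    have h5 := Nat.eq_one_of_dvd_coprimes hnq (orderOf_dvd_of_pow_eq_one h3.symm)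
      (orderOf_dvd_of_pow_eq_one hiq)
    exact hi1 (orderOf_eq_one_iff.mp h5)
  have h6 := congrArg Subtype.val hcdef
  rw [hc1] at h6
  have h7 : (1 : G) = e * s * e⁻¹ * s⁻¹ := by simpa using h6
  calc s * e = (e * s * e⁻¹ * s⁻¹)⁻¹ * (e * s) := by group
    _ = e * s := by rw [← h7, inv_one, one_mul]

/-- **Prime-power witnesses.** If `e` fails a property that is closed under products and powers,
some power of `e` of prime-power order fails it. -/
theorem exists_pow_prime_power_order {Q : G → Prop} (hmul : ∀ x y, Q x → Q y → Q (x * y))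
    (hpow : ∀ (x : G) (k : ℕ), Q x → Q (x ^ k)) :
    ∀ (N : ℕ) (e : G), orderOf e = N → ¬ Q e →
      ∃ k : ℕ, ¬ Q (e ^ k) ∧ ∃ t j : ℕ, t.Prime ∧ orderOf (e ^ k) = t ^ j := by
  have hzpow : ∀ (x : G) (z : ℤ), Q x → Q (x ^ z) := by
    intro x z hx
    have h1 : x ^ z ∈ Submonoid.powers x := mem_powers_iff_mem_zpowers.mpr ⟨z, rfl⟩
    obtain ⟨k, hk⟩ := h1
    rw [← hk]
    exact hpow x k hx
  intro N
  induction N using Nat.strong_induction_on with
  | _ N ih =>
    intro e heN hQ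
    have hN0 : N ≠ 0 := heN ▸ (orderOf_pos e).ne'
    by_cases hN1 : N = 1
    · exact ⟨1, by rwa [pow_one], 2, 0, Nat.prime_two, by rw [pow_one, heN, hN1, pow_zero]⟩
    obtain ⟨p, hpdef⟩ : ∃ p, p = N.minFac := ⟨_, rfl⟩
    have hp : p.Prime := hpdef ▸ Nat.minFac_prime hN1
    have hpN : p ∣ N := hpdef ▸ Nat.minFac_dvd N
    obtain ⟨a, b, hpb, hNab⟩ := Nat.exists_eq_pow_mul_and_not_dvd hN0 p hp.ne_one
    by_cases hb1 : b = 1
    · refine ⟨1, by rwa [pow_one], p, a, hp, ?_⟩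
      rw [pow_one, heN, hNab, hb1, mul_one]
    have hb0 : b ≠ 0 := by
      rintro rfl
      rw [mul_zero] at hNab
      exact hN0 hNab
    have ha0 : a ≠ 0 := by
      rintro rfl
      rw [pow_zero, one_mul] at hNab
      exact hpb (hNab ▸ hpN)
    have hcop : Nat.Coprime (p ^ a) b :=
      Nat.Coprime.pow_left a ((Nat.Prime.coprime_iff_not_dvd hp).mpr hpb)
    obtain ⟨A, hA⟩ : ∃ A, A = p ^ a := ⟨_, rfl⟩
    rw [← hA] at hcop hNab
    have hA1 : 1 < A := hA ▸ Nat.one_lt_pow ha0 hp.one_lt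
    have hb1' : 1 < b := by omega
    -- `e = (e ^ A) ^ x * (e ^ b) ^ y`
    have hbez := Nat.gcd_eq_gcd_ab A b
    rw [hcop.gcd_eq_one] at hbez
    have hdec : e = (e ^ A) ^ (Nat.gcdA A b) * (e ^ b) ^ (Nat.gcdB A b) := by
      rw [← zpow_natCast, ← zpow_natCast, ← zpow_mul, ← zpow_mul, ← zpow_add, ← hbez]
      simp
    have hor : ¬ Q (e ^ A) ∨ ¬ Q (e ^ b) := by
      by_contra hcon
      push Not at hcon
      apply hQ
      rw [hdec]
      exact hmul _ _ (hzpow _ _ hcon.1) (hzpow _ _ hcon.2)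
    rcases hor with h1 | h1
    · have hord : orderOf (e ^ A) = b := by
        rw [orderOf_pow' e (by omega : A ≠ 0), heN, hNab, Nat.gcd_mul_right_left,
          Nat.mul_div_cancel_left b (by omega)]
      have hlt : b < N := by
        rw [hNab]
        calc b = 1 * b := (one_mul b).symm
          _ < A * b := Nat.mul_lt_mul_of_pos_right hA1 (by omega)
      obtain ⟨k, hk, t, j, ht, hj⟩ := ih b hlt (e ^ A) hord h1
      refine ⟨A * k, ?_, t, j, ht, ?_⟩
      · rwa [pow_mul]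
      · rwa [pow_mul]
    · have hord : orderOf (e ^ b) = A := by
        rw [orderOf_pow' e hb0, heN, hNab, Nat.gcd_mul_left_left,
          Nat.mul_div_cancel A (by omega : 0 < b)]
      have hlt : A < N := by
        rw [hNab]
        calc A = A * 1 := (mul_one A).symm
          _ < A * b := Nat.mul_lt_mul_of_pos_left hb1' (by omega)
      obtain ⟨k, hk, t, j, ht, hj⟩ := ih A hlt (e ^ b) hord h1
      refine ⟨b * k, ?_, t, j, ht, ?_⟩
      · rwa [pow_mul]
      · rwa [pow_mul]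

end Cfsg.Agent.Lib.Helper19.BGTypeG
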