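/-
helper19: Case Ab of S1421(b): the context `AbCtx` (abelian normal Sylow `q`-subgroup `S` of `E`,
`q ∈ τ₂(M)`), singular and nonsingular lines of `A = Ω₁(S)`.
-/
import Mathlib
import Cfsg.Agent.Lib.Helper19.BGTypeF5
import Cfsg.Agent.Lib.Helper19.BGTypeH1
import Cfsg.Agent.Lib.Helper17.BGUniqC
import Cfsg.Agent.S1420

set_option autoImplicit false
set_option linter.unusedSectionVars false
set_option linter.unusedVariables false
open scoped commutatorElement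

namespace Cfsg.Agent.Lib.Helper19.BGTypeF

open Cfsg Subgroup
open Cfsg.Agent.Lib.Helper19.BG127 Cfsg.Agent.Lib.Helper19.BG1210
open Cfsg.Agent.Lib.Helper19.BGTypeG

variable {G : Type*} [Group G] [Finite G]

/-- the context of Case Ab for one prime `q ∈ τ₂(M)`. -/
structure AbCtx (M E : Subgroup G) (q : ℕ) (S A : Subgroup G) : Prop where
  hG : Cfsg.IsMinSimpleOddOrder G
  hM : IsCoatom M
  hE : Cfsg.IsComplIn E (Cfsg.sigmaCore M) M
  hReg : Reg M E
  hqq : q.Prime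
  hq : q ∈ Cfsg.tau2 M
  hq2 : q ≠ 2
  hSE : S ≤ E
  hES : E ≤ normalizer (S : Set G)
  hSq : IsPGroup q S
  hSc : IsMulCommutative ↥S
  hSmax : ∀ Q : Subgroup G, IsPGroup q Q → S ≤ Q → Q = S
  hAS : A ≤ S
  hAe : Cfsg.IsElementaryAbelian q A
  hA2 : Nat.card A = q ^ 2
  hΩ : ∀ s ∈ S, s ^ q = 1 → s ∈ A
  hNS : ¬ normalizer (S : Set G) ≤ M
  hnil : Group.IsNilpotent ↥(Cfsg.sigmaCore M)
  hσ1 : Cfsg.sigmaCore M ≠ ⊥
  hσA : Cfsg.sigmaCore M ⊓ centralizer (A : Set G) = ⊥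
  hA₁ : ∃ A₁ : Subgroup G, A₁ ≤ A ∧ Nat.card A₁ = q ∧
    Cfsg.sigmaCore M ⊓ centralizer (A₁ : Set G) = ⊥
  hEA : E ≤ normalizer (A : Set G)
  hCA : centralizer (A : Set G) ≤ E
  hMNA : M ⊓ normalizer (A : Set G) = E
  hsing : ∀ X : Subgroup G, X ≤ A → Nat.card X = q →
    Cfsg.sigmaCore M ⊓ centralizer (X : Set G) ≠ ⊥ →
    (centralizer (X : Set G) ≤ M ∧ ∀ L : Subgroup G, IsCoatom L → centralizer (X : Set G) ≤ L → L = M)
  hcop : (Nat.card (Cfsg.sigmaCore M)).Coprime q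

/-- `q`-elements of `E` lie in the normal Sylow subgroup `S`. -/
theorem AbCtx.mem_of_pow {M E S A : Subgroup G} {q : ℕ} (c : AbCtx M E q S A) {x : G}
    (hxE : x ∈ E) {k : ℕ} (hx : x ^ (q ^ k) = 1) : x ∈ S := by
  haveI : Fact q.Prime := ⟨c.hqq⟩
  have hYq : IsPGroup q (zpowers x) := by
    obtain ⟨j, -, hj⟩ := (Nat.dvd_prime_pow c.hqq).mp (orderOf_dvd_of_pow_eq_one hx)
    apply IsPGroup.of_card (n := j)
    rw [Nat.card_zpowers, hj]
  have hYE : zpowers x ≤ E := by rw [Subgroup.zpowers_le]; exact hxE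
  have h1 : IsPGroup q ↥(zpowers x ⊔ S) :=
    IsPGroup.to_sup_of_normal_right' hYq c.hSq (hYE.trans c.hES)
  have h2 := c.hSmax _ h1 le_sup_right
  exact h2 ▸ Subgroup.mem_sup_left (Subgroup.mem_zpowers x)

/-- `E' ≤ C_G(S)`. -/
theorem AbCtx.commutator_le {M E S A : Subgroup G} {q : ℕ} (c : AbCtx M E q S A) :
    ⁅E, E⁆ ≤ centralizer (S : Set G) := by
  classical
  haveI : Fact q.Prime := ⟨c.hqq⟩
  haveI := c.hSc
  have hDc : IsMulCommutative ↥⁅E, E⁆ := (Cfsg.Agent.S1420.result c.hG M c.hM E c.hE).2.1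
  have hDE : ⁅E, E⁆ ≤ E := Subgroup.commutator_le_self E
  have hDn : E ≤ normalizer ((⁅E, E⁆ : Subgroup G) : Set G) :=
    Cfsg.Agent.Lib.Helper9.le_normalizer_commutator_left E E
  have hScomm : ∀ a ∈ S, ∀ b ∈ S, a * b = b * a := fun a ha b hb =>
    congrArg Subtype.val (c.hSc.is_comm.comm ⟨a, ha⟩ ⟨b, hb⟩)
  intro c₀ hc₀
  by_contra hcon
  obtain ⟨k, hk, t, j, ht, hj⟩ := exists_pow_prime_power_order
    (Q := fun x => x ∈ centralizer (S : Set G))
    (fun x y hx hy => Subgroup.mul_mem _ hx hy) (fun x k hx => Subgroup.pow_mem _ hx k)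
    _ c₀ rfl hcon
  obtain ⟨d, hd⟩ : ∃ d : G, d = c₀ ^ k := ⟨_, rfl⟩
  rw [← hd] at hk hj
  have hdD : d ∈ ⁅E, E⁆ := hd ▸ Subgroup.pow_mem _ hc₀ k
  have hdE : d ∈ E := hDE hdD
  apply hk
  by_cases htq : t = q
  · have hdS : d ∈ S := by
      apply c.mem_of_pow hdE (k := j)
      rw [← htq, ← hj, pow_orderOf_eq_one]
    rw [Subgroup.mem_centralizer_iff]
    intro s hs
    exact hScomm s hs d hdS
  · rw [Subgroup.mem_centralizer_iff]
    intro s hs
    obtain ⟨κ, hκ⟩ : ∃ κ : G, κ = d * s * d⁻¹ * s⁻¹ := ⟨_, rfl⟩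
    have hdsS : d * s * d⁻¹ ∈ S := (Subgroup.mem_normalizer_iff.mp (c.hES hdE) s).mp hs
    have hκS : κ ∈ S := hκ ▸ S.mul_mem hdsS (S.inv_mem hs)
    have hκD : κ ∈ ⁅E, E⁆ := by
      rw [hκ]
      have h1 : s * d⁻¹ * s⁻¹ ∈ ⁅E, E⁆ :=
        (Subgroup.mem_normalizer_iff.mp (hDn (c.hSE hs)) d⁻¹).mp (Subgroup.inv_mem _ hdD)
      have h2 : d * s * d⁻¹ * s⁻¹ = d * (s * d⁻¹ * s⁻¹) := by group
      rw [h2]
      exact Subgroup.mul_mem _ hdD h1
    have hdκ : d * κ = κ * d :=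
      congrArg Subtype.val (hDc.is_comm.comm ⟨d, hdD⟩ ⟨κ, hκD⟩)
    have hds : d * s * d⁻¹ = κ * s := by rw [hκ]; group
    have key : ∀ i : ℕ, d ^ i * s * (d ^ i)⁻¹ = κ ^ i * s := by
      intro i
      induction i with
      | zero => simp
      | succ i ih =>
        have hdκi : d * κ ^ i * d⁻¹ = κ ^ i := by
          have := (Commute.pow_right (show Commute d κ from hdκ) i).eq
          rw [this]; group
        calc d ^ (i + 1) * s * (d ^ (i + 1))⁻¹ = d * (d ^ i * s * (d ^ i)⁻¹) * d⁻¹ := by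
              rw [pow_succ']; group
          _ = d * (κ ^ i * s) * d⁻¹ := by rw [ih]
          _ = (d * κ ^ i * d⁻¹) * (d * s * d⁻¹) := by group
          _ = κ ^ i * (κ * s) := by rw [hdκi, hds]
          _ = κ ^ (i + 1) * s := by rw [pow_succ]; group
    have h3 := key (t ^ j)
    rw [← hj, pow_orderOf_eq_one, one_mul, inv_one, mul_one] at h3
    have h4 : κ ^ orderOf d = 1 := by
      have : κ ^ orderOf d * s = 1 * s := by rw [← h3, one_mul]
      exact mul_right_cancel this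
    obtain ⟨m, hm⟩ := c.hSq ⟨κ, hκS⟩
    have hm' : κ ^ (q ^ m) = 1 := by
      have := congrArg Subtype.val hm
      simpa using this
    have hcop : (orderOf d).Coprime (q ^ m) := by
      rw [hj]
      exact Nat.Coprime.pow _ _ ((Nat.coprime_primes ht c.hqq).mpr htq)
    have h5 := Nat.eq_one_of_dvd_coprimes hcop (orderOf_dvd_of_pow_eq_one h4)
      (orderOf_dvd_of_pow_eq_one hm')
    have hκ1 : κ = 1 := orderOf_eq_one_iff.mp h5
    rw [hκ1, one_mul] at hds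
    calc s * d = (d * s * d⁻¹) * d := by rw [hds]
      _ = d * s := by group

/-- `E` acts on `S` through commuting automorphisms: commutators of elements of `E` centralize `S`. -/
theorem AbCtx.comm_mem {M E S A : Subgroup G} {q : ℕ} (c : AbCtx M E q S A) {g e : G}
    (hg : g ∈ E) (he : e ∈ E) : g * e * g⁻¹ * e⁻¹ ∈ centralizer (S : Set G) := by
  apply c.commutator_le
  exact Subgroup.commutator_mem_commutator hg he

/-- a line of `A` normalized by an element outside `M` is nonsingular. -/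
theorem AbCtx.nonsing_of_normalizer {M E S A : Subgroup G} {q : ℕ} (c : AbCtx M E q S A)
    {L : Subgroup G} (hLA : L ≤ A) (hLq : Nat.card L = q) {g : G}
    (hg : g ∈ normalizer (L : Set G)) (hgM : g ∉ M) :
    Cfsg.sigmaCore M ⊓ centralizer (L : Set G) = ⊥ := by
  by_contra hne
  haveI := c.hG.2.1
  obtain ⟨hCM, huniq⟩ := c.hsing L hLA hLq hne
  have hL1 : L ≠ ⊥ := by
    intro h
    rw [h, Subgroup.card_bot] at hLq
    exact c.hqq.one_lt.ne hLq
  have hLtop : L ≠ ⊤ := by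
    intro h
    apply c.hM.1
    rw [eq_top_iff, ← h]
    exact hLA.trans (c.hAS.trans (c.hSE.trans c.hE.1))
  obtain ⟨K, hK, hNK⟩ := Cfsg.Agent.Lib.Helper17.BGU.exists_coatom_ge
    (Cfsg.Agent.Lib.Helper17.BGU.normalizer_ne_top hL1 hLtop)
  have hKM := huniq K hK ((Subgroup.centralizer_le_normalizer _).trans hNK)
  exact hgM (hKM ▸ hNK hg)

/-- the elements of a subgroup `Y ≤ S` with nonsingular socle `Y ⊓ A` act regularly on `M_σ`. -/
theorem AbCtx.regular_of_inf {M E S A : Subgroup G} {q : ℕ} (c : AbCtx M E q S A)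
    {Y L : Subgroup G} (hYS : Y ≤ S) (hYA : Y ⊓ A ≤ L) (hLq : Nat.card L = q)
    (hLns : Cfsg.sigmaCore M ⊓ centralizer (L : Set G) = ⊥) :
    ∀ z ∈ Y, z ≠ 1 → Cfsg.sigmaCore M ⊓ centralizer ({z} : Set G) = ⊥ := by
  haveI : Fact q.Prime := ⟨c.hqq⟩
  intro z hz hz1
  have hzq : ∃ k : ℕ, z ^ (q ^ k) = 1 := by
    obtain ⟨k, hk⟩ := c.hSq ⟨z, hYS hz⟩
    exact ⟨k, by simpa using congrArg Subtype.val hk⟩
  obtain ⟨i, hi1, hiq⟩ := exists_pow_prime_order hzq hz1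
  obtain ⟨z', hz'⟩ : ∃ z' : G, z' = z ^ (q ^ i) := ⟨_, rfl⟩
  rw [← hz'] at hi1 hiq
  have hz'Y : z' ∈ Y := hz' ▸ Y.pow_mem hz _
  have hz'L : z' ∈ L := hYA ⟨hz'Y, c.hΩ z' (hYS hz'Y) hiq⟩
  have hLz : L = zpowers z' :=
    (Cfsg.Agent.Lib.Helper19.BG127.eq_zpowers_of_card_prime hLq hz'L hi1)
  rw [eq_bot_iff, ← hLns]
  intro x hx
  refine ⟨hx.1, ?_⟩
  show x ∈ centralizer (L : Set G)
  rw [hLz, Subgroup.mem_centralizer_iff]
  intro y hy
  obtain ⟨n, rfl⟩ := Subgroup.mem_zpowers_iff.mp hy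
  have h1 : x ∈ centralizer ({z} : Set G) := hx.2
  rw [Subgroup.mem_centralizer_singleton_iff] at h1
  have h2 : Commute z x := h1.symm
  rw [hz']
  exact ((h2.pow_left _).zpow_left n).eq

end Cfsg.Agent.Lib.Helper19.BGTypeF
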