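/-
helper19: Case Ab of S1421(b): construction of the context `AbCtx`, exponent of `S`.
-/
import Mathlib
import Cfsg.Agent.Lib.Helper19.BGTypeH2

set_option autoImplicit false
set_option linter.unusedSectionVars false
set_option linter.unusedVariables false
open scoped commutatorElement

namespace Cfsg.Agent.Lib.Helper19.BGTypeF

open Cfsg Subgroup
open Cfsg.Agent.Lib.Helper19.BG127 Cfsg.Agent.Lib.Helper19.BG1210
open Cfsg.Agent.Lib.Helper19.BGTypeG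

variable {G : Type*} [Group G] [Finite G]

/-- existence of the context. -/
theorem exists_abCtx (hG : Cfsg.IsMinSimpleOddOrder G) {M E : Subgroup G}
    (hM : IsCoatom M) (hE : Cfsg.IsComplIn E (Cfsg.sigmaCore M) M) (h : Reg M E)
    {q : ℕ} [Fact q.Prime] (hq : q ∈ Cfsg.tau2 M)
    (hab : ∀ S : Sylow q G, IsMulCommutative (S : Subgroup G))
    (hσ1 : Cfsg.sigmaCore M ≠ ⊥) :
    ∃ A : Subgroup G, AbCtx M E q (Cfsg.pCoreOf q E) A := by
  classical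
  have hqq : q.Prime := Fact.out
  obtain ⟨A, hAE, hAe, hA2⟩ := exists_elemAb_le_compl hG hM hE hq
  have hAp : IsPGroup q A := elemAb_isPGroup hAe
  obtain ⟨Ps, hAPs⟩ := hAp.exists_le_sylow
  have hPs := sylow_le_pCoreOf hG hM hE hq hAE hAe hA2 Ps hAPs (hab Ps)
  have hSq : IsPGroup q (Cfsg.pCoreOf q E) := Cfsg.Agent.Lib.Helper17.PrimeAct.pCoreOf_isPGroup q E
  have hSE : Cfsg.pCoreOf q E ≤ E := Cfsg.Agent.Lib.Helper17.PrimeAct.pCoreOf_le q E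
  have hSeq : Cfsg.pCoreOf q E = (Ps : Subgroup G) := Ps.is_maximal' hSq hPs
  have h18 := Cfsg.Agent.S1418.result hG M hM E hE q hq A ⟨hAE, hAe, hA2⟩
  have h17 := Cfsg.Agent.S1417.result hG M hM q hq A ⟨hAE.trans hE.1, hAe, hA2⟩
  have hAS : A ≤ Cfsg.pCoreOf q E := hSeq ▸ hAPs
  have hCE : centralizer (A : Set G) ≤ E := by
    have h1 := h18.2.1.1
    rw [h18.2.1.2.1] at h1
    exact h1
  have hq2 : q ≠ 2 := by
    apply Cfsg.Agent.Lib.Helper1.BGX.ne_two_of_dvd_sub hG.1 (H := A)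
    rw [hA2]
    exact dvd_pow_self q two_ne_zero
  refine ⟨A, ⟨hG, hM, hE, h, hqq, hq, hq2, hSE, le_normalizer_pCoreOf q E, hSq, hSeq ▸ hab Ps, ?_,
    hAS, hAe, hA2, ?_, ?_, h17.1, hσ1, h17.2.2.2.1, h17.2.2.2.2.2, h18.1.1, hCE, h18.2.1.2.1,
    h18.2.2, ?_⟩⟩
  · intro Q hQ hSQ
    rw [hSeq] at hSQ ⊢
    exact Ps.is_maximal' hQ hSQ
  · intro s hs hsq
    by_cases hs1 : s = 1
    · rw [hs1]; exact A.one_mem
    · have hcard : Nat.card (zpowers s) = q := by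
        rw [Nat.card_zpowers]
        rcases (Nat.dvd_prime hqq).mp (orderOf_dvd_of_pow_eq_one hsq) with h1 | h1
        · exact absurd (orderOf_eq_one_iff.mp h1) hs1
        · exact h1
      exact h18.1.2 (zpowers s) (by rw [Subgroup.zpowers_le]; exact hSE hs) hcard
        (Subgroup.mem_zpowers s)
  · intro hN
    have hS1 : (Ps : Subgroup G) ≠ ⊥ := by
      intro hbot
      have h1 : A ≤ ⊥ := hbot ▸ hAPs
      have h2 : Nat.card A = 1 := by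
        rw [le_bot_iff] at h1
        rw [h1, Subgroup.card_bot]
      rw [hA2] at h2
      have := Nat.one_lt_pow two_ne_zero hqq.one_lt
      omega
    have hPsM : (Ps : Subgroup G) ≤ M := hSeq ▸ hSE.trans hE.1
    exact hq.2.1 (mem_sigma_of_sylow Ps hPsM hS1 (hSeq ▸ hN))
  · rw [Nat.coprime_comm, Nat.Prime.coprime_iff_not_dvd hqq]
    intro hd
    exact hq.2.1 (Cfsg.Agent.Lib.Helper2.BGCor.primes_card_sigmaCore M q hqq hd)

/-- the exponent of `S`. -/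
theorem AbCtx.exists_exp {M E S A : Subgroup G} {q : ℕ} (c : AbCtx M E q S A) :
    ∃ b : ℕ, (∀ s ∈ S, s ^ (q ^ (b + 1)) = 1) ∧ ∃ s ∈ S, s ^ (q ^ b) ≠ 1 := by
  classical
  haveI : Fact q.Prime := ⟨c.hqq⟩
  -- `S ≠ ⊥`
  have hS1 : ∃ s ∈ S, s ≠ 1 := by
    obtain ⟨A₁, hA₁A, hA₁q, -⟩ := c.hA₁
    have hA₁1 : A₁ ≠ ⊥ := by
      intro hbot
      rw [hbot, Subgroup.card_bot] at hA₁q
      exact c.hqq.one_lt.ne hA₁q
    obtain ⟨x, hx⟩ := (Subgroup.ne_bot_iff_exists_ne_one).mp hA₁1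
    exact ⟨(x : G), c.hAS (hA₁A x.2), fun h => hx (Subtype.ext h)⟩
  obtain ⟨n, hn⟩ := IsPGroup.iff_card.mp c.hSq
  have hall : ∀ s ∈ S, s ^ (q ^ n) = 1 := by
    intro s hs
    have h1 : (⟨s, hs⟩ : ↥S) ^ Nat.card ↥S = 1 := pow_card_eq_one'
    rw [hn] at h1
    simpa using congrArg Subtype.val h1
  -- least `k` with `∀ s, s ^ q ^ k = 1`
  have hex : ∃ k : ℕ, ∀ s ∈ S, s ^ (q ^ k) = 1 := ⟨n, hall⟩
  obtain ⟨k, hk, hmin⟩ : ∃ k : ℕ, (∀ s ∈ S, s ^ (q ^ k) = 1) ∧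
      ∀ k' < k, ¬ ∀ s ∈ S, s ^ (q ^ k') = 1 :=
    ⟨Nat.find hex, Nat.find_spec hex, fun k' hk' => Nat.find_min hex hk'⟩
  have hk0 : k ≠ 0 := by
    rintro rfl
    obtain ⟨s, hs, hs1⟩ := hS1
    apply hs1
    simpa using hk s hs
  obtain ⟨b, rfl⟩ : ∃ b, k = b + 1 := ⟨k - 1, by omega⟩
  refine ⟨b, hk, ?_⟩
  have := hmin b (Nat.lt_succ_self b)
  push Not at this
  exact this

end Cfsg.Agent.Lib.Helper19.BGTypeF
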