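/-
helper19: Case Ab of S1421(b): lines of `A`, packaging of the conclusion `YqProp`, and Tool F
(an element of prime order of `E` acting nontrivially on `A`).
-/
import Mathlib
import Cfsg.Agent.Lib.Helper19.BGTypeH3
import Cfsg.Agent.Lib.Helper9.FStar4
import Cfsg.Agent.Lib.Helper23.BGY4

set_option autoImplicit false
set_option linter.unusedSectionVars false
set_option linter.unusedVariables false
open scoped commutatorElement

namespace Cfsg.Agent.Lib.Helper19.BGTypeF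

open Cfsg Subgroup
open Cfsg.Agent.Lib.Helper19.BG127 Cfsg.Agent.Lib.Helper19.BG1210
open Cfsg.Agent.Lib.Helper19.BGTypeG

variable {G : Type*} [Group G] [Finite G]

/-- the conclusion for one prime: an `E`-invariant subgroup of `S` of full exponent acting
regularly on `M_σ`. -/
def YqProp (M E S : Subgroup G) : Prop :=
  ∃ Y : Subgroup G, Y ≤ S ∧ E ≤ normalizer (Y : Set G) ∧
    (∃ y ∈ Y, ∀ s ∈ S, s ^ orderOf y = 1) ∧
    ∀ z ∈ Y, z ≠ 1 → Cfsg.sigmaCore M ⊓ centralizer ({z} : Set G) = ⊥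

theorem mem_centralizer_of_le_sup {A B L : Subgroup G} (hA : A ≤ B ⊔ L) {x : G}
    (hB : x ∈ centralizer (B : Set G)) (hL : x ∈ centralizer (L : Set G)) :
    x ∈ centralizer (A : Set G) := by
  have h1 : B ⊔ L ≤ centralizer ({x} : Set G) := by
    apply sup_le
    · intro b hb
      rw [Subgroup.mem_centralizer_singleton_iff]
      exact ((Subgroup.mem_centralizer_iff.mp hB) b hb)
    · intro b hb
      rw [Subgroup.mem_centralizer_singleton_iff]
      exact ((Subgroup.mem_centralizer_iff.mp hL) b hb)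
  rw [Subgroup.mem_centralizer_iff]
  intro a ha
  have := h1 (hA ha)
  rw [Subgroup.mem_centralizer_singleton_iff] at this
  exact this

section Lines

variable {M E S A : Subgroup G} {q : ℕ}

/-- a nontrivial proper subgroup of `A` is a line. -/
theorem AbCtx.card_line (c : AbCtx M E q S A) {B : Subgroup G} (hBA : B ≤ A) (hB1 : B ≠ ⊥)
    (hBne : B ≠ A) : Nat.card B = q := by
  have h1 : Nat.card B ∣ q ^ 2 := c.hA2 ▸ Subgroup.card_dvd_of_le hBA
  obtain ⟨i, hi, hBi⟩ := (Nat.dvd_prime_pow c.hqq).mp h1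
  interval_cases i
  · exfalso; apply hB1
    rw [pow_zero] at hBi
    exact Subgroup.card_eq_one.mp hBi
  · rw [hBi, pow_one]
  · exfalso; apply hBne
    exact Subgroup.eq_of_le_of_card_ge hBA (by rw [hBi, c.hA2])

/-- two independent lines generate `A`. -/
theorem AbCtx.le_sup_lines (c : AbCtx M E q S A) {B L : Subgroup G} (hBA : B ≤ A) (hLA : L ≤ A)
    (hBq : Nat.card B = q) (hLq : Nat.card L = q) (hBL : B ⊓ L = ⊥) : A ≤ B ⊔ L := by
  have hBN : B ≤ normalizer (L : Set G) := by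
    intro b hb
    apply Cfsg.Agent.Lib.Helper1.mem_normalizer_of_forall_conj_mem
    intro l hl
    have h1 : b * l = l * b :=
      congrArg Subtype.val (c.hAe.1.is_comm.comm ⟨b, hBA hb⟩ ⟨l, hLA hl⟩)
    rw [h1, mul_inv_cancel_right]
    exact hl
  have h1 := Cfsg.Agent.Lib.Helper4.card_sup_mul_card_inf B L hBN
  rw [hBL, Subgroup.card_bot, mul_one, hBq, hLq] at h1
  have h2 : B ⊔ L = A := Subgroup.eq_of_le_of_card_ge (sup_le hBA hLA) (by rw [h1, c.hA2, pow_two])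
  exact h2.ge

/-- a line containing all `q ^ b`-th powers is normalized by `N_G(S)`, hence nonsingular. -/
theorem AbCtx.nonsing_of_all_pow_mem (c : AbCtx M E q S A) {L : Subgroup G} (hLA : L ≤ A)
    (hLq : Nat.card L = q) {b : ℕ} (hall : ∀ s ∈ S, s ^ (q ^ b) ∈ L)
    (hex : ∃ s ∈ S, s ^ (q ^ b) ≠ 1) :
    Cfsg.sigmaCore M ⊓ centralizer (L : Set G) = ⊥ := by
  haveI : Fact q.Prime := ⟨c.hqq⟩
  obtain ⟨g, hgN, hgM⟩ := SetLike.not_le_iff_exists.mp c.hNS
  refine c.nonsing_of_normalizer hLA hLq ?_ hgM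
  obtain ⟨s₀, hs₀, hs₀1⟩ := hex
  have hLz : L = zpowers (s₀ ^ (q ^ b)) :=
    Cfsg.Agent.Lib.Helper19.BG127.eq_zpowers_of_card_prime hLq (hall s₀ hs₀) hs₀1
  apply Cfsg.Agent.Lib.Helper1.mem_normalizer_of_forall_conj_mem
  intro x hx
  rw [hLz] at hx
  obtain ⟨n, rfl⟩ := Subgroup.mem_zpowers_iff.mp hx
  have h1 : g * (s₀ ^ (q ^ b)) ^ n * g⁻¹ = ((g * s₀ * g⁻¹) ^ (q ^ b)) ^ n := by
    rw [conj_pow, conj_zpow]
  rw [h1]
  exact Subgroup.zpow_mem _ (hall _ ((Subgroup.mem_normalizer_iff.mp hgN s₀).mp hs₀)) n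

/-- packaging: a subgroup `Y` with nonsingular socle `L`, `E`-invariant, containing an element of
maximal order. -/
theorem AbCtx.yq_of (c : AbCtx M E q S A) {Y L : Subgroup G} (hYS : Y ≤ S) (hYA : Y ⊓ A ≤ L)
    (hLq : Nat.card L = q) (hLns : Cfsg.sigmaCore M ⊓ centralizer (L : Set G) = ⊥)
    (hEY : E ≤ normalizer (Y : Set G)) {b : ℕ} (hexp : ∀ s ∈ S, s ^ (q ^ (b + 1)) = 1)
    (hy : ∃ y ∈ Y, y ^ (q ^ b) ≠ 1) : YqProp M E S := by
  haveI : Fact q.Prime := ⟨c.hqq⟩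
  obtain ⟨y, hyY, hy1⟩ := hy
  refine ⟨Y, hYS, hEY, ⟨y, hyY, ?_⟩, c.regular_of_inf hYS hYA hLq hLns⟩
  have hord : orderOf y = q ^ (b + 1) := orderOf_eq_prime_pow hy1 (hexp y (hYS hyY))
  intro s hs
  rw [hord]
  exact hexp s hs

end Lines

end Cfsg.Agent.Lib.Helper19.BGTypeF
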