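/-
helper19: Case Ab of S1421(b): Tool F (an element of prime order of `E` acting nontrivially on `A`).
-/
import Mathlib
import Cfsg.Agent.Lib.Helper19.BGTypeH4

set_option autoImplicit false
set_option linter.unusedSectionVars false
set_option linter.unusedVariables false
open scoped commutatorElement

namespace Cfsg.Agent.Lib.Helper19.BGTypeF

open Cfsg Subgroup
open Cfsg.Agent.Lib.Helper19.BG127 Cfsg.Agent.Lib.Helper19.BG1210
open Cfsg.Agent.Lib.Helper19.BGTypeG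

variable {G : Type*} [Group G] [Finite G]

variable {M E S A : Subgroup G} {q : ℕ}

theorem conj_mem_centralizer {K : Subgroup G} {g x : G} (hg : g ∈ normalizer (K : Set G))
    (hx : x ∈ centralizer (K : Set G)) : g * x * g⁻¹ ∈ centralizer (K : Set G) := by
  rw [Subgroup.mem_centralizer_iff] at hx ⊢
  intro k hk
  have hk' : g⁻¹ * k * g ∈ K := by
    have := (Subgroup.mem_normalizer_iff.mp (Subgroup.inv_mem _ hg) k).mp hk
    simpa using this
  have h1 := hx _ hk'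
  calc k * (g * x * g⁻¹) = g * ((g⁻¹ * k * g) * x) * g⁻¹ := by group
    _ = g * (x * (g⁻¹ * k * g)) * g⁻¹ := by rw [h1]
    _ = g * x * g⁻¹ * k := by group

/-- an element of prime-power order `t ^ j` of `E` not centralizing `S` has
`t ∈ τ₁(M) ∪ τ₃(M)`. -/
theorem AbCtx.tau13 (c : AbCtx M E q S A) {e : G} (heE : e ∈ E) {t j : ℕ} (ht : t.Prime)
    (hord : orderOf e = t ^ j) (heS : e ∉ centralizer (S : Set G)) :
    t ≠ q ∧ t ∈ Cfsg.tau1 M ∪ Cfsg.tau3 M ∧ Cfsg.PRankLE t 1 ↥M := by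
  classical
  haveI : Fact q.Prime := ⟨c.hqq⟩
  have hScomm : ∀ a ∈ S, ∀ b ∈ S, a * b = b * a := fun a ha b hb =>
    congrArg Subtype.val (c.hSc.is_comm.comm ⟨a, ha⟩ ⟨b, hb⟩)
  have he1 : e ≠ 1 := by
    rintro rfl
    exact heS (Subgroup.one_mem _)
  have hj0 : j ≠ 0 := by
    rintro rfl
    rw [pow_zero, orderOf_eq_one_iff] at hord
    exact he1 hord
  have htq : t ≠ q := by
    rintro rfl
    apply heS
    have heS' : e ∈ S := c.mem_of_pow heE (k := j) (by rw [← hord, pow_orderOf_eq_one])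
    rw [Subgroup.mem_centralizer_iff]
    intro s hs
    exact hScomm s hs e heS'
  have htτ2 : t ∉ Cfsg.tau2 M := by
    intro htτ
    apply heS
    obtain ⟨X, hXdef⟩ : ∃ X : Subgroup G, X = zpowers e ⊔ S := ⟨_, rfl⟩
    have hZE : zpowers e ≤ E := by rw [Subgroup.zpowers_le]; exact heE
    have hXE : X ≤ E := hXdef ▸ sup_le hZE c.hSE
    have hXprimes : ∀ s : ℕ, s.Prime → s ∣ Nat.card X → s ∈ Cfsg.tau2 M := by
      intro s hs hsd
      have h1 := Cfsg.Agent.Lib.Helper4.card_sup_mul_card_inf (zpowers e) S (hZE.trans c.hES)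
      have h2 : Nat.card X ∣ Nat.card (zpowers e) * Nat.card S := by
        rw [hXdef, ← h1]
        exact Dvd.intro _ rfl
      have h3 := hsd.trans h2
      rcases (Nat.Prime.dvd_mul hs).mp h3 with h4 | h4
      · rw [Nat.card_zpowers, hord] at h4
        rw [prime_eq_of_dvd_sq ht hs h4]; exact htτ
      · obtain ⟨n, hn⟩ := IsPGroup.iff_card.mp c.hSq
        rw [hn] at h4
        rw [prime_eq_of_dvd_sq c.hqq hs h4]; exact c.hq
    have hXc := tau2_subgroup_comm c.hG c.hM c.hE hXE hXprimes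
    have heX : e ∈ X := hXdef ▸ Subgroup.mem_sup_left (Subgroup.mem_zpowers e)
    rw [Subgroup.mem_centralizer_iff]
    intro s hs
    have hsX : s ∈ X := hXdef ▸ Subgroup.mem_sup_right hs
    exact congrArg Subtype.val (hXc.is_comm.comm ⟨s, hsX⟩ ⟨e, heX⟩)
  have htE : t ∣ Nat.card E := by
    have h1 : orderOf e ∣ Nat.card E := by
      have := orderOf_dvd_natCard (⟨e, heE⟩ : ↥E)
      rwa [Subgroup.orderOf_mk] at this
    rw [hord] at h1
    exact (dvd_pow_self t hj0).trans h1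
  have htσ : t ∉ Cfsg.sigma M := not_mem_sigma_of_dvd_card_compl c.hG c.hM c.hE ht htE
  have htM : t ∣ Nat.card M := htE.trans (Subgroup.card_dvd_of_le c.hE.1)
  have hrk : Cfsg.PRankLE t 1 ↥M := by
    by_contra hrk
    exact htτ2 (Cfsg.Agent.Lib.Helper23.BGY.mem_tau2_of_not_rank_one c.hG c.hM ht htσ hrk)
  refine ⟨htq, ?_, hrk⟩
  by_cases hd : t ∣ Nat.card ↥⁅M, M⁆
  · right; exact ⟨ht, htσ, hd, hrk⟩
  · left; exact ⟨ht, htσ, htM, hd, hrk⟩

/-- the elements of prime-power order of `E` not centralizing `S` act regularly on `M_σ`. -/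
theorem AbCtx.reg_of_not_cent (c : AbCtx M E q S A) {e : G} (heE : e ∈ E) {t j : ℕ}
    (ht : t.Prime) (hord : orderOf e = t ^ j) (heS : e ∉ centralizer (S : Set G))
    {x : G} (hxE : x ∈ zpowers e) (hx1 : x ≠ 1) :
    Cfsg.sigmaCore M ⊓ centralizer ({x} : Set G) = ⊥ := by
  obtain ⟨-, hτ, -⟩ := c.tau13 heE ht hord heS
  have hZE : zpowers e ≤ E := by rw [Subgroup.zpowers_le]; exact heE
  apply c.hReg x (hZE hxE) hx1
  intro p hp hpd
  have h1 : orderOf x ∣ orderOf e := by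
    obtain ⟨n, rfl⟩ := Subgroup.mem_zpowers_iff.mp hxE
    exact orderOf_dvd_of_mem_zpowers (Subgroup.mem_zpowers_iff.mpr ⟨n, rfl⟩)
  rw [hord] at h1
  rw [prime_eq_of_dvd_sq ht hp (hpd.trans h1)]
  exact hτ

/-- **Tool F.** -/
theorem AbCtx.toolF (c : AbCtx M E q S A) {e₀ : G} (he₀E : e₀ ∈ E) {t : ℕ} [Fact t.Prime]
    (ht : orderOf e₀ = t) (he₀A : e₀ ∉ centralizer (A : Set G))
    {b : ℕ} (hexp : ∀ s ∈ S, s ^ (q ^ (b + 1)) = 1) (hex : ∃ s ∈ S, s ^ (q ^ b) ≠ 1) :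
    YqProp M E S := by
  classical
  haveI : Fact q.Prime := ⟨c.hqq⟩
  haveI := c.hSc
  have htt : t.Prime := Fact.out
  have he₀S : e₀ ∉ centralizer (S : Set G) := fun h =>
    he₀A (Subgroup.centralizer_le (show (A : Set G) ⊆ S from c.hAS) h)
  have hord : orderOf e₀ = t ^ 1 := by rw [pow_one, ht]
  obtain ⟨htq, hτ, -⟩ := c.tau13 he₀E htt hord he₀S
  have hreg : Cfsg.sigmaCore M ⊓ centralizer ({e₀} : Set G) = ⊥ := by
    apply c.reg_of_not_cent he₀E htt hord he₀S (Subgroup.mem_zpowers e₀)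
    rintro rfl
    exact he₀S (Subgroup.one_mem _)
  have hEM : E ≤ M := c.hE.1
  have hMσ : M ≤ normalizer ((Cfsg.sigmaCore M : Subgroup G) : Set G) :=
    Cfsg.Agent.Lib.Helper23.BGY.le_normalizer_sigmaCore M
  have hAE : A ≤ E := c.hAS.trans c.hSE
  have hAcomm : ∀ a ∈ A, ∀ b ∈ A, a * b = b * a := fun a ha b hb =>
    congrArg Subtype.val (c.hAe.1.is_comm.comm ⟨a, ha⟩ ⟨b, hb⟩)
  have he₀NS : e₀ ∈ normalizer (S : Set G) := c.hES he₀E
  have he₀NA : e₀ ∈ normalizer (A : Set G) := c.hEA he₀E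
  -- the centre `W` of `M_σ`
  obtain ⟨W, hWdef⟩ : ∃ W : Subgroup G, W = zcen (Cfsg.sigmaCore M) := ⟨_, rfl⟩
  have hW1 : W ≠ ⊥ := hWdef ▸ zcen_ne_bot c.hnil c.hσ1
  have hWc : IsMulCommutative ↥W := hWdef ▸ zcen_comm _
  have hWσ : W ≤ Cfsg.sigmaCore M := hWdef ▸ zcen_le _
  have hMW : M ≤ normalizer (W : Set G) := fun m hm => hWdef ▸ mem_normalizer_zcen (hMσ hm)
  have hcopσ : ∀ V : Subgroup G, V ≤ Cfsg.sigmaCore M → ∀ k : ℕ, (Nat.card V).Coprime (q ^ k) :=
    fun V hV k => Nat.Coprime.pow_right k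
      (Nat.Coprime.coprime_dvd_left (Subgroup.card_dvd_of_le hV) c.hcop)
  -- `B' = C_A(e₀) ≠ 1`
  obtain ⟨B', hB'def⟩ : ∃ B' : Subgroup G, B' = A ⊓ centralizer ({e₀} : Set G) := ⟨_, rfl⟩
  have hB'A : B' ≤ A := hB'def ▸ inf_le_left
  have hB'1 : B' ≠ ⊥ := by
    intro hbot
    have h1 := frob_line_fixed (L := A) (V := W) he₀NA ht (hB'def ▸ hbot) hWc hW1
      (hAE.trans (hEM.trans hMW)) (hMW (hEM he₀E)) (c.hA2 ▸ hcopσ W hWσ 2) (by
        rw [eq_bot_iff, ← c.hσA]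
        exact inf_le_inf_right _ hWσ)
    apply h1
    rw [eq_bot_iff, ← hreg]
    exact inf_le_inf_right _ hWσ
  have hB'ne : B' ≠ A := by
    intro h
    apply he₀A
    rw [Subgroup.mem_centralizer_iff]
    intro a ha
    have h1 : a ∈ A ⊓ centralizer ({e₀} : Set G) := hB'def ▸ (h ▸ ha)
    have h2 : a ∈ centralizer ({e₀} : Set G) := h1.2
    rw [Subgroup.mem_centralizer_singleton_iff] at h2
    exact h2
  have hB'q : Nat.card B' = q := c.card_line hB'A hB'1 hB'ne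
  have hB'fix : ∀ a ∈ B', e₀ * a * e₀⁻¹ = a ^ 1 := by
    intro a ha
    have h1 : a ∈ A ⊓ centralizer ({e₀} : Set G) := hB'def ▸ ha
    have h2 : a ∈ centralizer ({e₀} : Set G) := h1.2
    rw [Subgroup.mem_centralizer_singleton_iff] at h2
    rw [pow_one, ← h2]; group
  have hns : ∃ a' ∈ A, e₀ * a' * e₀⁻¹ ≠ a' ^ 1 := by
    by_contra hcon
    push Not at hcon
    apply he₀A
    rw [Subgroup.mem_centralizer_iff]
    intro a ha
    have h1 := hcon a ha
    rw [pow_one] at h1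
    calc a * e₀ = (e₀ * a * e₀⁻¹) * e₀ := by rw [h1]
      _ = e₀ * a := by group
  have hen : e₀ ^ t ∈ centralizer (S : Set G) := by
    rw [← ht, pow_orderOf_eq_one]; exact Subgroup.one_mem _
  have hcoptq : t.Coprime q := (Nat.coprime_primes htt c.hqq).mpr htq
  obtain ⟨L', Y, hL'A, hL'q, hBL, hYS, hYc, hYA, hinv, hpow⟩ :=
    eigen_cyclic c.hq2 c.hSq c.hAS c.hA2 c.hΩ c.hAe.2 hexp he₀NS htt.pos hcoptq hen hB'A hB'q
      hB'fix hns
  have hcomm1 : e₀ * e₀ * e₀⁻¹ * e₀⁻¹ ∈ centralizer (S : Set G) := by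
    have : e₀ * e₀ * e₀⁻¹ * e₀⁻¹ = 1 := by group
    rw [this]; exact Subgroup.one_mem _
  have he₀L' : e₀ ∈ normalizer (L' : Set G) := (hinv e₀ he₀NS hcomm1).2
  have hEY : E ≤ normalizer (Y : Set G) := fun g hg => (hinv g (c.hES hg) (c.comm_mem hg he₀E)).1
  -- `L' ⊓ C(e₀) = ⊥`
  have hfpf : L' ⊓ centralizer ({e₀} : Set G) = ⊥ := by
    rw [eq_bot_iff, ← hBL]
    intro x hx
    exact ⟨hB'def ▸ ⟨hL'A hx.1, hx.2⟩, hx.1⟩
  have hAsup : A ≤ B' ⊔ L' := c.le_sup_lines hB'A hL'A hB'q hL'q hBL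
  -- `L'` is singular
  have hL'sing : Cfsg.sigmaCore M ⊓ centralizer (L' : Set G) ≠ ⊥ := by
    intro hbot
    have h1 := frob_line_fixed (L := L') (V := W) he₀L' ht hfpf hWc hW1
      ((hL'A.trans hAE).trans (hEM.trans hMW)) (hMW (hEM he₀E))
      (by have := hcopσ W hWσ 1; rwa [pow_one, ← hL'q] at this) (by
        rw [eq_bot_iff, ← hbot]
        exact inf_le_inf_right _ hWσ)
    apply h1
    rw [eq_bot_iff, ← hreg]
    exact inf_le_inf_right _ hWσ
  -- `B'` is nonsingular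
  have hB'ns : Cfsg.sigmaCore M ⊓ centralizer (B' : Set G) = ⊥ := by
    by_contra hne
    obtain ⟨X, hXdef⟩ : ∃ X : Subgroup G, X = Cfsg.sigmaCore M ⊓ centralizer (B' : Set G) :=
      ⟨_, rfl⟩
    rw [← hXdef] at hne
    have hXσ : X ≤ Cfsg.sigmaCore M := hXdef ▸ inf_le_left
    have hXnil : Group.IsNilpotent ↥X := Cfsg.Agent.Lib.Helper9.isNilpotent_of_le hXσ c.hnil
    -- elements of `E` normalizing `B'` normalize `X`
    have hNX : ∀ g ∈ E, g ∈ normalizer (B' : Set G) → g ∈ normalizer (X : Set G) := by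
      intro g hg hgB
      apply Cfsg.Agent.Lib.Helper1.mem_normalizer_of_forall_conj_mem
      intro x hx
      rw [hXdef] at hx ⊢
      refine ⟨(Subgroup.mem_normalizer_iff.mp (hMσ (hEM hg)) x).mp hx.1, ?_⟩
      exact conj_mem_centralizer hgB hx.2
    obtain ⟨V, hVdef⟩ : ∃ V : Subgroup G, V = zcen X := ⟨_, rfl⟩
    have hV1 : V ≠ ⊥ := hVdef ▸ zcen_ne_bot hXnil hne
    have hVc : IsMulCommutative ↥V := hVdef ▸ zcen_comm _
    have hVX : V ≤ X := hVdef ▸ zcen_le _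
    have hcentB' : ∀ g ∈ centralizer (B' : Set G), g ∈ normalizer (B' : Set G) :=
      fun g hg => Subgroup.centralizer_le_normalizer _ hg
    have hL'V : L' ≤ normalizer (V : Set G) := by
      intro l hl
      rw [hVdef]
      apply mem_normalizer_zcen
      apply hNX l (hAE (hL'A hl))
      apply hcentB'
      rw [Subgroup.mem_centralizer_iff]
      intro b' hb'
      exact hAcomm b' (hB'A hb') l (hL'A hl)
    have he₀V : e₀ ∈ normalizer (V : Set G) := by
      rw [hVdef]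
      apply mem_normalizer_zcen
      apply hNX e₀ he₀E
      apply hcentB'
      rw [Subgroup.mem_centralizer_iff]
      intro b' hb'
      have h1 := hB'fix b' hb'
      rw [pow_one] at h1
      calc b' * e₀ = (e₀ * b' * e₀⁻¹) * e₀ := by rw [h1]
        _ = e₀ * b' := by group
    have hCL : V ⊓ centralizer (L' : Set G) = ⊥ := by
      rw [eq_bot_iff, ← c.hσA]
      intro x hx
      have hxX : x ∈ X := hVX hx.1
      rw [hXdef] at hxX
      exact ⟨hxX.1, mem_centralizer_of_le_sup hAsup hxX.2 hx.2⟩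
    have h1 := frob_line_fixed (L := L') (V := V) he₀L' ht hfpf hVc hV1 hL'V he₀V
      (by have := hcopσ V (hVX.trans hXσ) 1; rwa [pow_one, ← hL'q] at this) hCL
    apply h1
    rw [eq_bot_iff, ← hreg]
    exact inf_le_inf_right _ (hVX.trans hXσ)
  -- the exponent
  have hy : ∃ y ∈ Y, y ^ (q ^ b) ≠ 1 := by
    have h1 : ∃ s ∈ S, s ^ (q ^ b) ∉ L' := by
      by_contra hcon
      push Not at hcon
      exact hL'sing (c.nonsing_of_all_pow_mem hL'A hL'q hcon hex)
    obtain ⟨s, hs, hsL⟩ := h1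
    exact hpow s hs hsL
  exact c.yq_of hYS hYA.le hB'q hB'ns hEY hexp hy

end Cfsg.Agent.Lib.Helper19.BGTypeF
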