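/-
helper19: Case Ab of S1421(b): Tool H, part 1 (the third maximal subgroup `H ⊇ N_G(S)`).
-/
import Mathlib
import Cfsg.Agent.Lib.Helper19.BGTypeH5
import Cfsg.Agent.Lib.Helper17.BGUniqA
import Cfsg.Agent.Lib.Helper12.PNilpotent
import Cfsg.Agent.Lib.Helper16.BGPrimC
import Cfsg.Agent.Lib.Helper9.BGSigPartA
import Cfsg.Agent.S1414
import Cfsg.Agent.S1427

set_option autoImplicit false
set_option linter.unusedSectionVars false
set_option linter.unusedVariables false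
open scoped commutatorElement

namespace Cfsg.Agent.Lib.Helper19.BGTypeF

open Cfsg Subgroup
open Cfsg.Agent.Lib.Helper19.BG127 Cfsg.Agent.Lib.Helper19.BG1210
open Cfsg.Agent.Lib.Helper19.BGTypeG

variable {G : Type*} [Group G] [Finite G]

variable {M E S A : Subgroup G} {q : ℕ}

/-- `S` as a Sylow subgroup of `G`. -/
theorem AbCtx.sylow (c : AbCtx M E q S A) : ∃ Ps : Sylow q G, (Ps : Subgroup G) = S :=
  ⟨{ toSubgroup := S, isPGroup' := c.hSq, is_maximal' := fun hQ hle => c.hSmax _ hQ hle }, rfl⟩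

theorem AbCtx.S_ne_bot (c : AbCtx M E q S A) : S ≠ ⊥ := by
  intro hbot
  have h1 : A ≤ ⊥ := hbot ▸ c.hAS
  have h2 : Nat.card A = 1 := by
    rw [le_bot_iff] at h1
    rw [h1, Subgroup.card_bot]
  rw [c.hA2] at h2
  have := Nat.one_lt_pow two_ne_zero c.hqq.one_lt
  omega

/-- `G` has `q`-rank 2. -/
theorem AbCtx.pRankLE_two (c : AbCtx M E q S A) : Cfsg.PRankLE q 2 G := by
  haveI : Fact q.Prime := ⟨c.hqq⟩
  obtain ⟨Ps, hPs⟩ := c.sylow
  apply Cfsg.Agent.Lib.Helper17.BGU.pRankLE_of_sylow Ps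
  intro B hB _ hBq
  rw [← c.hA2]
  apply Subgroup.card_le_of_le
  intro x hx
  exact c.hΩ x (hPs ▸ hB hx) (hBq x hx)

/-- the third maximal subgroup. -/
theorem AbCtx.exists_third (c : AbCtx M E q S A) :
    ∃ H : Subgroup G, IsCoatom H ∧ normalizer (S : Set G) ≤ H ∧ q ∈ Cfsg.sigma H ∧
      S ≤ Cfsg.sigmaCore H ∧ q ∉ Cfsg.beta H := by
  haveI : Fact q.Prime := ⟨c.hqq⟩
  haveI := c.hG.2.1
  have hStop : S ≠ ⊤ := by
    intro h
    apply c.hM.1
    rw [eq_top_iff, ← h]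
    exact c.hSE.trans c.hE.1
  obtain ⟨H, hH, hNH⟩ := Cfsg.Agent.Lib.Helper17.BGU.exists_coatom_ge
    (Cfsg.Agent.Lib.Helper17.BGU.normalizer_ne_top c.S_ne_bot hStop)
  obtain ⟨Ps, hPs⟩ := c.sylow
  have hSH : S ≤ H := Subgroup.le_normalizer.trans hNH
  have hqσ : q ∈ Cfsg.sigma H :=
    mem_sigma_of_sylow Ps (hPs ▸ hSH) (hPs ▸ c.S_ne_bot) (hPs ▸ hNH)
  refine ⟨H, hH, hNH, hqσ,
    Cfsg.Agent.Lib.Helper16.BGPrim.le_sigmaCore_of_isPGroup c.hG hH hqσ c.hSq hSH, ?_⟩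
  intro hβ
  exact hβ.1.2 (Cfsg.Agent.Lib.Helper1.BGX.pRankLE_subgroup c.pRankLE_two H)

/-- a `t`-element `e` of `N_G(S)` not centralizing `S` has `t ∉ σ(H)`. -/
theorem AbCtx.not_mem_sigma_third (c : AbCtx M E q S A) {H : Subgroup G} (hH : IsCoatom H)
    (hNH : normalizer (S : Set G) ≤ H) (hSσ : S ≤ Cfsg.sigmaCore H) (hqβ : q ∉ Cfsg.beta H)
    {e : G} (heN : e ∈ normalizer (S : Set G)) {t k : ℕ} (ht : t.Prime) (htq : t ≠ q)
    (hord : orderOf e = t ^ k) (heS : e ∉ centralizer (S : Set G)) : t ∉ Cfsg.sigma H := by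
  classical
  haveI : Fact q.Prime := ⟨c.hqq⟩
  haveI : Fact t.Prime := ⟨ht⟩
  intro htσ
  apply heS
  have heH : e ∈ H := hNH heN
  have hZt : IsPGroup t (zpowers e) := by
    apply IsPGroup.of_card (n := k)
    rw [Nat.card_zpowers, hord]
  have heσ : e ∈ Cfsg.sigmaCore H :=
    Cfsg.Agent.Lib.Helper16.BGPrim.le_sigmaCore_of_isPGroup c.hG hH htσ hZt
      (by rw [Subgroup.zpowers_le]; exact heH) (Subgroup.mem_zpowers e)
  have hqH : q ∣ Nat.card H := by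
    have h1 : q ∣ Nat.card A := by rw [c.hA2]; exact dvd_pow_self q two_ne_zero
    exact h1.trans (Subgroup.card_dvd_of_le (c.hAS.trans (Subgroup.le_normalizer.trans hNH)))
  have h14 := ((Cfsg.Agent.S1414.result c.hG H hH).2.2.2.2 q c.hqq hqH hqβ).2.1
  have hfrob := (Cfsg.Agent.Lib.Helper12.hasNormalPComplement_iff_frobCond (p := q)).mp h14
  have h1 := hfrob (S.subgroupOf (Cfsg.sigmaCore H)) c.hSq.comap_subtype ⟨e, heσ⟩ (by
      rw [Subgroup.mem_normalizer_iff]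
      intro x
      rw [Subgroup.mem_subgroupOf, Subgroup.mem_subgroupOf]
      exact Subgroup.mem_normalizer_iff.mp heN x) (by
      have : orderOf (⟨e, heσ⟩ : ↥(Cfsg.sigmaCore H)) = orderOf e := Subgroup.orderOf_mk e heσ
      rw [this, hord]
      exact Nat.Coprime.pow_left k ((Nat.coprime_primes ht c.hqq).mpr htq))
  rw [Subgroup.mem_centralizer_iff] at h1 ⊢
  intro s hs
  have h2 := h1 ⟨s, hSσ hs⟩ (Subgroup.mem_subgroupOf.mpr hs)
  exact congrArg Subtype.val h2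

end Cfsg.Agent.Lib.Helper19.BGTypeF
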