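/-
helper19: Case Ab of S1421(b): Tool H, part 2 (an element `b ∈ N_G(S) ∖ M` commuting with `e`).
-/
import Mathlib
import Cfsg.Agent.Lib.Helper19.BGTypeH6

set_option autoImplicit false
set_option linter.unusedSectionVars false
set_option linter.unusedVariables false
open scoped commutatorElement

namespace Cfsg.Agent.Lib.Helper19.BGTypeF

open Cfsg Subgroup
open Cfsg.Agent.Lib.Helper19.BG127 Cfsg.Agent.Lib.Helper19.BG1210
open Cfsg.Agent.Lib.Helper19.BGTypeG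

variable {G : Type*} [Group G] [Finite G]

variable {M E S A : Subgroup G} {q : ℕ}

/-- the `t`-rank of `H` is at least 2. -/
theorem AbCtx.not_rank_one_third (c : AbCtx M E q S A) {H : Subgroup G} (hH : IsCoatom H)
    (hSσ : S ≤ Cfsg.sigmaCore H) {EH : Subgroup G} (hEH : Cfsg.IsComplIn EH (Cfsg.sigmaCore H) H)
    {e : G} (heEH : e ∈ EH) {t k : ℕ} (ht : t.Prime)
    (hord : orderOf e = t ^ k) (heS : e ∉ centralizer (S : Set G))
    {e₀ : G} (he₀ : e₀ ∈ zpowers e) (he₀1 : e₀ ≠ 1) (he₀S : e₀ ∈ centralizer (S : Set G)) :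
    ¬ Cfsg.PRankLE t 1 ↥H := by
  classical
  haveI : Fact t.Prime := ⟨ht⟩
  intro hrk
  apply heS
  have hZt : IsPGroup t (zpowers e) := by
    apply IsPGroup.of_card (n := k)
    rw [Nat.card_zpowers, hord]
  have hZE : zpowers e ≤ EH := by rw [Subgroup.zpowers_le]; exact heEH
  have he1 : e ≠ 1 := by
    rintro rfl
    exact heS (Subgroup.one_mem _)
  have hk0 : k ≠ 0 := by
    rintro rfl
    rw [pow_zero, orderOf_eq_one_iff] at hord
    exact he1 hord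
  have ht2 : t ≠ 2 := by
    apply Cfsg.Agent.Lib.Helper1.BGX.ne_two_of_dvd_sub c.hG.1 (H := zpowers e)
    rw [Nat.card_zpowers, hord]
    exact dvd_pow_self t hk0
  obtain ⟨T, hT⟩ := (hZt.comap_subtype (K := EH)).exists_le_sylow
  have heT : (⟨e, heEH⟩ : ↥EH) ∈ (T : Subgroup ↥EH) :=
    hT (Subgroup.mem_subgroupOf.mpr (Subgroup.mem_zpowers e))
  have hT1 : (T : Subgroup ↥EH) ≠ ⊥ := by
    intro hbot
    rw [hbot, Subgroup.mem_bot] at heT
    exact he1 (congrArg Subtype.val heT)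
  have hrkE : Cfsg.PRankLE t 1 ↥EH := Cfsg.Agent.Lib.Helper17.pRankLE_of_le hEH.1 hrk
  have hTc : IsCyclic ↥(T : Subgroup ↥EH) :=
    Cfsg.Agent.Lib.Helper17.isCyclic_of_pRankLE_one ht2 hrkE (T : Subgroup ↥EH) T.2
  have he₀T : e₀ ∈ (T : Subgroup ↥EH).map EH.subtype :=
    ⟨⟨e₀, hZE he₀⟩, hT (Subgroup.mem_subgroupOf.mpr he₀), rfl⟩
  have h27 := Cfsg.Agent.S1427.result c.hG H hH EH hEH t T hT1 hTc e₀ he₀T he₀1
  rw [Subgroup.mem_centralizer_iff]
  intro s hs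
  have h1 : s ∈ Cfsg.sigmaCore H ⊓ centralizer ({e₀} : Set G) := by
    refine ⟨hSσ hs, ?_⟩
    show s ∈ centralizer ({e₀} : Set G)
    rw [Subgroup.mem_centralizer_singleton_iff]
    exact ((Subgroup.mem_centralizer_iff.mp he₀S) s hs)
  rw [h27] at h1
  have h2 : s ∈ centralizer (((T : Subgroup ↥EH).map EH.subtype : Subgroup G) : Set G) := h1.2
  have h3 := (Subgroup.mem_centralizer_iff.mp h2) e ⟨⟨e, heEH⟩, heT, rfl⟩
  exact h3.symm

/-- **Tool H.** -/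
theorem AbCtx.toolH (c : AbCtx M E q S A) {e : G} (heE : e ∈ E) {t k : ℕ} (ht : t.Prime)
    (hord : orderOf e = t ^ k) (heS : e ∉ centralizer (S : Set G))
    {e₀ : G} (he₀ : e₀ ∈ zpowers e) (he₀t : orderOf e₀ = t)
    (he₀S : e₀ ∈ centralizer (S : Set G)) :
    ∃ b ∈ normalizer (S : Set G), b ∉ M ∧ b * e = e * b ∧ b ^ t = 1 := by
  classical
  haveI : Fact q.Prime := ⟨c.hqq⟩
  haveI : Fact t.Prime := ⟨ht⟩
  obtain ⟨htq, -, hrkM⟩ := c.tau13 heE ht hord heS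
  obtain ⟨H, hH, hNH, hqσ, hSσ, hqβ⟩ := c.exists_third
  have heN : e ∈ normalizer (S : Set G) := c.hES heE
  have heH : e ∈ H := hNH heN
  have htσ : t ∉ Cfsg.sigma H := c.not_mem_sigma_third hH hNH hSσ hqβ heN ht htq hord heS
  have he₀1 : e₀ ≠ 1 := by
    rintro rfl
    rw [orderOf_one] at he₀t
    exact ht.one_lt.ne he₀t
  -- a complement of `H_σ` containing `e`
  have hZH : zpowers e ≤ H := by rw [Subgroup.zpowers_le]; exact heH
  have hcop : (Nat.card (zpowers e)).Coprime (Nat.card (Cfsg.sigmaCore H)) := by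
    rw [Nat.card_zpowers, hord]
    apply Nat.Coprime.pow_left
    rw [Nat.Prime.coprime_iff_not_dvd ht]
    intro hd
    exact htσ (Cfsg.Agent.Lib.Helper2.BGCor.primes_card_sigmaCore H t ht hd)
  obtain ⟨EH, hEH, hZE⟩ := Cfsg.Agent.Lib.Helper9.BGSigPart.exists_compl_ge c.hG hH hZH hcop
  have heEH : e ∈ EH := hZE (Subgroup.mem_zpowers e)
  have hrkH := c.not_rank_one_third hH hSσ hEH heEH ht hord heS he₀ he₀1 he₀S
  have htτ : t ∈ Cfsg.tau2 H :=
    Cfsg.Agent.Lib.Helper23.BGY.mem_tau2_of_not_rank_one c.hG hH ht htσ hrkH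
  obtain ⟨At, hAtE, hAte, hAt2⟩ := exists_elemAb_le_compl c.hG hH hEH htτ
  have h18 := Cfsg.Agent.S1418.result c.hG H hH EH hEH t htτ At ⟨hAtE, hAte, hAt2⟩
  have h17 := Cfsg.Agent.S1417.result c.hG H hH t htτ At ⟨hAtE.trans hEH.1, hAte, hAt2⟩
  -- `e₀ ∈ A_t`
  have hcard₀ : Nat.card (zpowers e₀) = t := by rw [Nat.card_zpowers, he₀t]
  have hZ₀At : zpowers e₀ ≤ At :=
    h18.1.2 (zpowers e₀) (by rw [Subgroup.zpowers_le]; exact hZE he₀) hcard₀
  -- `S ⊴ H`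
  have hHS : H ≤ normalizer (S : Set G) := by
    obtain ⟨QH, hQH, hHQ⟩ := Cfsg.Agent.Lib.Helper16.BGPrim.exists_normal_isSylIn c.hG hH h17.1 hqσ
    have hSH : S ≤ H := Subgroup.le_normalizer.trans hNH
    have h1 : IsPGroup q ↥(S ⊔ QH) :=
      IsPGroup.to_sup_of_normal_right' c.hSq hQH.isPGroup (hSH.trans hHQ)
    have h2 := c.hSmax _ h1 le_sup_left
    have h3 : QH ≤ S := h2 ▸ le_sup_right
    have h4 := hQH.eq_of_le c.hSq h3 hSH
    rw [h4]
    exact hHQ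
  -- `A_t ⊔ ⟨e⟩` is abelian
  obtain ⟨X, hXdef⟩ : ∃ X : Subgroup G, X = zpowers e ⊔ At := ⟨_, rfl⟩
  have hXE : X ≤ EH := hXdef ▸ sup_le hZE hAtE
  have hXprimes : ∀ s : ℕ, s.Prime → s ∣ Nat.card X → s ∈ Cfsg.tau2 H := by
    intro s hs hsd
    have h1 := Cfsg.Agent.Lib.Helper4.card_sup_mul_card_inf (zpowers e) At (hZE.trans h18.1.1)
    have h2 : Nat.card X ∣ Nat.card (zpowers e) * Nat.card At := by
      rw [hXdef, ← h1]
      exact Dvd.intro _ rfl
    have h3 := hsd.trans h2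
    rcases (Nat.Prime.dvd_mul hs).mp h3 with h4 | h4
    · rw [Nat.card_zpowers, hord] at h4
      rw [prime_eq_of_dvd_sq ht hs h4]; exact htτ
    · rw [hAt2] at h4
      rw [prime_eq_of_dvd_sq ht hs h4]; exact htτ
  have hXc := tau2_subgroup_comm c.hG hH hEH hXE hXprimes
  -- `b ∈ A_t ∖ ⟨e₀⟩`
  have hlt : zpowers e₀ < At := by
    refine lt_of_le_of_ne hZ₀At ?_
    intro h
    rw [h, hAt2] at hcard₀
    have := Nat.lt_pow_self (n := 2) ht.one_lt
    have h5 : t ^ 2 = t * t := pow_two t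
    nlinarith [ht.one_lt]
  obtain ⟨b, hbAt, hbZ⟩ := SetLike.exists_of_lt hlt
  refine ⟨b, hHS (hEH.1 (hAtE hbAt)), ?_, ?_, hAte.2 b hbAt⟩
  · intro hbM
    obtain ⟨B, hBdef⟩ : ∃ B : Subgroup G, B = At ⊓ M := ⟨_, rfl⟩
    have hBM : B ≤ M := hBdef ▸ inf_le_right
    have hBAt : B ≤ At := hBdef ▸ inf_le_left
    have he₀M : e₀ ∈ M := by
      have hZE' : zpowers e ≤ E := by rw [Subgroup.zpowers_le]; exact heE
      exact c.hE.1 (hZE' he₀)
    have hZ₀B : zpowers e₀ ≤ B := by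
      rw [Subgroup.zpowers_le, hBdef]
      exact ⟨hZ₀At (Subgroup.mem_zpowers e₀), he₀M⟩
    have hltB : zpowers e₀ < B := by
      refine lt_of_le_of_ne hZ₀B ?_
      intro h
      apply hbZ
      rw [h, hBdef]
      exact ⟨hbAt, hbM⟩
    have h1 : Nat.card (zpowers e₀) < Nat.card B := by
      have hle := Subgroup.card_le_of_le hZ₀B
      rcases Nat.lt_or_ge (Nat.card (zpowers e₀)) (Nat.card B) with h | h
      · exact h
      · exact absurd (Subgroup.eq_of_le_of_card_ge hZ₀B h) hltB.ne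
    have h2 : Nat.card (B.subgroupOf M) ≤ t ^ 1 := by
      apply hrkM
      · refine ⟨⟨?_⟩⟩
        rintro ⟨⟨x, hxM⟩, hx⟩ ⟨⟨y, hyM⟩, hy⟩
        apply Subtype.ext
        apply Subtype.ext
        show x * y = y * x
        exact congrArg Subtype.val (hAte.1.is_comm.comm
          ⟨x, hBAt (Subgroup.mem_subgroupOf.mp hx)⟩ ⟨y, hBAt (Subgroup.mem_subgroupOf.mp hy)⟩)
      · rintro ⟨x, hxM⟩ hx
        apply Subtype.ext
        exact hAte.2 x (hBAt (Subgroup.mem_subgroupOf.mp hx))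
    rw [Nat.card_congr (Subgroup.subgroupOfEquivOfLe hBM).toEquiv, pow_one] at h2
    rw [hcard₀] at h1
    omega
  · have heX : e ∈ X := hXdef ▸ Subgroup.mem_sup_left (Subgroup.mem_zpowers e)
    have hbX : b ∈ X := hXdef ▸ Subgroup.mem_sup_right hbAt
    exact congrArg Subtype.val (hXc.is_comm.comm ⟨b, hbX⟩ ⟨e, heX⟩)

end Cfsg.Agent.Lib.Helper19.BGTypeF
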