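/-
helper19: Case Ab of S1421(b): scalar actions on `A` and Case A (all of `E` scalar on `A`).
-/
import Mathlib
import Cfsg.Agent.Lib.Helper19.BGTypeH7
import Cfsg.Agent.Lib.Helper19.BG127D

set_option autoImplicit false
set_option linter.unusedSectionVars false
set_option linter.unusedVariables false
open scoped commutatorElement

namespace Cfsg.Agent.Lib.Helper19.BGTypeF

open Cfsg Subgroup
open Cfsg.Agent.Lib.Helper19.BG127 Cfsg.Agent.Lib.Helper19.BG1210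
open Cfsg.Agent.Lib.Helper19.BGTypeG

variable {G : Type*} [Group G] [Finite G]

/-- `x` acts on `A` as a power map. -/
def Scal (A : Subgroup G) (x : G) : Prop := ∃ m : ℕ, ∀ a ∈ A, x * a * x⁻¹ = a ^ m

theorem scal_one (A : Subgroup G) : Scal A 1 := ⟨1, fun a _ => by simp⟩

theorem scal_mul {A : Subgroup G} {x y : G} (hx : Scal A x) (hy : Scal A y) : Scal A (x * y) := by
  obtain ⟨m, hm⟩ := hx
  obtain ⟨m', hm'⟩ := hy
  refine ⟨m * m', fun a ha => ?_⟩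
  calc x * y * a * (x * y)⁻¹ = x * (y * a * y⁻¹) * x⁻¹ := by group
    _ = x * (a ^ m') * x⁻¹ := by rw [hm' a ha]
    _ = (x * a * x⁻¹) ^ m' := by rw [conj_pow]
    _ = a ^ (m * m') := by rw [hm a ha, pow_mul]

theorem scal_pow {A : Subgroup G} {x : G} (hx : Scal A x) (k : ℕ) : Scal A (x ^ k) := by
  induction k with
  | zero => rw [pow_zero]; exact scal_one A
  | succ k ih => rw [pow_succ]; exact scal_mul ih hx

theorem scal_of_mem_centralizer {A : Subgroup G} {x : G} (hx : x ∈ centralizer (A : Set G)) :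
    Scal A x := by
  refine ⟨1, fun a ha => ?_⟩
  rw [pow_one, ← (Subgroup.mem_centralizer_iff.mp hx) a ha]
  group

/-- elements of order dividing `q` in a cyclic group of order `q ^ (b + 1)`. -/
theorem mem_zpowers_pow_of_pow_eq_one {q b : ℕ} (hq : q.Prime) {s x : G}
    (hs : orderOf s = q ^ (b + 1)) (hx : x ∈ zpowers s) (hxq : x ^ q = 1) :
    x ∈ zpowers (s ^ (q ^ b)) := by
  obtain ⟨k, rfl⟩ := Subgroup.mem_zpowers_iff.mp hx
  have h1 : s ^ (k * (q : ℤ)) = 1 := by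
    rw [zpow_mul, zpow_natCast]; exact hxq
  have h2 := (orderOf_dvd_iff_zpow_eq_one).mpr h1
  rw [hs] at h2
  have h3 : ((q ^ b : ℕ) : ℤ) * (q : ℤ) ∣ k * (q : ℤ) := by
    have : ((q ^ (b + 1) : ℕ) : ℤ) = ((q ^ b : ℕ) : ℤ) * (q : ℤ) := by push_cast; ring
    rwa [this] at h2
  have hq0 : (q : ℤ) ≠ 0 := by exact_mod_cast hq.ne_zero
  obtain ⟨k', hk'⟩ := Int.dvd_of_mul_dvd_mul_right hq0 h3
  rw [Subgroup.mem_zpowers_iff]
  refine ⟨k', ?_⟩
  rw [hk', zpow_mul, zpow_natCast]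

variable {M E S A : Subgroup G} {q : ℕ}

/-- for every `e ∈ E` some power `e ^ n`, `n` prime to `q`, centralizes `S`. -/
theorem AbCtx.exists_pow_mem_centralizer (c : AbCtx M E q S A) {e : G} (heE : e ∈ E) :
    ∃ n : ℕ, 0 < n ∧ n.Coprime q ∧ e ^ n ∈ centralizer (S : Set G) := by
  have hN0 : orderOf e ≠ 0 := (orderOf_pos e).ne'
  refine ⟨ordCompl[q] (orderOf e), Nat.ordCompl_pos q hN0,
    (Nat.coprime_ordCompl c.hqq hN0).symm, ?_⟩
  have h1 : e ^ (ordCompl[q] (orderOf e)) ∈ S := by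
    apply c.mem_of_pow (E.pow_mem heE _) (k := (orderOf e).factorization q)
    rw [← pow_mul, mul_comm, Nat.ordProj_mul_ordCompl_eq_self, pow_orderOf_eq_one]
  rw [Subgroup.mem_centralizer_iff]
  intro s hs
  exact congrArg Subtype.val (c.hSc.is_comm.comm ⟨s, hs⟩ ⟨_, h1⟩)

/-- **Case A.** -/
theorem AbCtx.caseA (c : AbCtx M E q S A) (hall : ∀ e ∈ E, Scal A e) : YqProp M E S := by
  classical
  haveI : Fact q.Prime := ⟨c.hqq⟩
  haveI := c.hSc
  obtain ⟨b, hexp, hex⟩ := c.exists_exp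
  have hScomm : ∀ a ∈ S, ∀ b ∈ S, a * b = b * a := fun a ha b hb =>
    congrArg Subtype.val (c.hSc.is_comm.comm ⟨a, ha⟩ ⟨b, hb⟩)
  have hA1 : A ≠ ⊥ := by
    intro hbot
    have h2 : Nat.card A = 1 := by rw [hbot, Subgroup.card_bot]
    rw [c.hA2] at h2
    have := Nat.one_lt_pow two_ne_zero c.hqq.one_lt
    omega
  -- every element of `E` acts on `S` as a power map
  have hpowmap : ∀ e ∈ E, ∃ m : ℕ, ∀ s ∈ S, e * s * e⁻¹ = s ^ m := by
    intro e he
    obtain ⟨n, hn, hnq, hen⟩ := c.exists_pow_mem_centralizer he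
    obtain ⟨lam, hlam⟩ := hall e he
    exact conj_eq_pow_of_scalar c.hSq c.hAS c.hΩ c.hAe.2 hA1 hexp (c.hES he) hn hnq hen hlam
  -- every cyclic subgroup of `S` is `E`-invariant
  have hinv : ∀ s ∈ S, E ≤ normalizer ((zpowers s : Subgroup G) : Set G) := by
    intro s hs e he
    obtain ⟨m, hm⟩ := hpowmap e he
    apply Cfsg.Agent.Lib.Helper1.mem_normalizer_of_forall_conj_mem
    intro x hx
    have hxS : x ∈ S := (Subgroup.zpowers_le.mpr hs) hx
    rw [hm x hxS]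
    exact Subgroup.pow_mem _ hx m
  -- a good element of maximal order
  have hgood : ∃ s₁ ∈ S, s₁ ^ (q ^ b) ≠ 1 ∧
      Cfsg.sigmaCore M ⊓ centralizer ((zpowers (s₁ ^ (q ^ b)) : Subgroup G) : Set G) = ⊥ := by
    have hPA : powSub S hScomm (q ^ b) ≤ A := by
      rintro _ ⟨y, hy, rfl⟩
      apply c.hΩ _ (S.pow_mem hy _)
      rw [← pow_mul, ← pow_succ]
      exact hexp y hy
    have hP1 : powSub S hScomm (q ^ b) ≠ ⊥ := by
      obtain ⟨s, hs, hs1⟩ := hex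
      intro hbot
      have h1 : s ^ (q ^ b) ∈ powSub S hScomm (q ^ b) := ⟨s, hs, rfl⟩
      rw [hbot, Subgroup.mem_bot] at h1
      exact hs1 h1
    by_cases hPA' : powSub S hScomm (q ^ b) = A
    · obtain ⟨A₁, hA₁A, hA₁q, hA₁ns⟩ := c.hA₁
      have hA₁1 : A₁ ≠ ⊥ := by
        intro hbot
        rw [hbot, Subgroup.card_bot] at hA₁q
        exact c.hqq.one_lt.ne hA₁q
      obtain ⟨x, hx⟩ := (Subgroup.ne_bot_iff_exists_ne_one).mp hA₁1
      have hx1 : (x : G) ≠ 1 := fun h => hx (Subtype.ext h)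
      have hxP : (x : G) ∈ powSub S hScomm (q ^ b) := hPA' ▸ hA₁A x.2
      obtain ⟨s₁, hs₁, hs₁x⟩ := hxP
      refine ⟨s₁, hs₁, hs₁x ▸ hx1, ?_⟩
      rw [hs₁x, ← Cfsg.Agent.Lib.Helper19.BG127.eq_zpowers_of_card_prime hA₁q x.2 hx1]
      exact hA₁ns
    · have hPq := c.card_line hPA hP1 hPA'
      obtain ⟨s, hs, hs1⟩ := hex
      refine ⟨s, hs, hs1, ?_⟩
      have hsP : s ^ (q ^ b) ∈ powSub S hScomm (q ^ b) := ⟨s, hs, rfl⟩
      rw [← Cfsg.Agent.Lib.Helper19.BG127.eq_zpowers_of_card_prime hPq hsP hs1]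
      exact c.nonsing_of_all_pow_mem hPA hPq (fun s' hs' => ⟨s', hs', rfl⟩) ⟨s, hs, hs1⟩
  obtain ⟨s₁, hs₁, hs₁1, hns⟩ := hgood
  have hord : orderOf s₁ = q ^ (b + 1) := orderOf_eq_prime_pow hs₁1 (hexp s₁ hs₁)
  have hLq : Nat.card (zpowers (s₁ ^ (q ^ b))) = q := by
    rw [Nat.card_zpowers, orderOf_pow' s₁ (pow_pos c.hqq.pos b).ne', hord, pow_succ,
      Nat.gcd_mul_right_left, Nat.mul_div_cancel_left q (pow_pos c.hqq.pos b)]
  refine c.yq_of (Y := zpowers s₁) (L := zpowers (s₁ ^ (q ^ b))) (Subgroup.zpowers_le.mpr hs₁)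
    ?_ hLq hns (hinv s₁ hs₁) hexp ⟨s₁, Subgroup.mem_zpowers s₁, hs₁1⟩
  intro x hx
  exact mem_zpowers_pow_of_pow_eq_one c.hqq hord hx.1 (c.hAe.2 x hx.2)

end Cfsg.Agent.Lib.Helper19.BGTypeF
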