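/-
helper19: Case Ab of S1421(b): Case B (some element of `E` is not scalar on `A`).
-/
import Mathlib
import Cfsg.Agent.Lib.Helper19.BGTypeH8
import Cfsg.Agent.Lib.Helper18.Fpf

set_option autoImplicit false
set_option linter.unusedSectionVars false
set_option linter.unusedVariables false
open scoped commutatorElement

namespace Cfsg.Agent.Lib.Helper19.BGTypeF

open Cfsg Subgroup
open Cfsg.Agent.Lib.Helper19.BG127 Cfsg.Agent.Lib.Helper19.BG1210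
open Cfsg.Agent.Lib.Helper19.BGTypeG

variable {G : Type*} [Group G] [Finite G]

/-- an element normalizing a subgroup of prime order acts on it as a power map. -/
theorem exists_pow_of_mem_normalizer_line {q : ℕ} (hq : q.Prime) {L : Subgroup G}
    (hLq : Nat.card L = q) {e : G} (he : e ∈ normalizer (L : Set G)) :
    ∃ lam : ℕ, ∀ a ∈ L, e * a * e⁻¹ = a ^ lam := by
  haveI : Fact q.Prime := ⟨hq⟩
  have hL1 : L ≠ ⊥ := by
    intro h
    rw [h, Subgroup.card_bot] at hLq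
    exact hq.one_lt.ne hLq
  obtain ⟨x, hx⟩ := (Subgroup.ne_bot_iff_exists_ne_one).mp hL1
  obtain ⟨a₀, ha₀⟩ : ∃ a₀ : G, a₀ = (x : G) := ⟨_, rfl⟩
  have ha₀L : a₀ ∈ L := ha₀ ▸ x.2
  have ha₀1 : a₀ ≠ 1 := fun h => hx (Subtype.ext (ha₀ ▸ h))
  have hLz : L = zpowers a₀ :=
    Cfsg.Agent.Lib.Helper19.BG127.eq_zpowers_of_card_prime hLq ha₀L ha₀1
  have h1 : e * a₀ * e⁻¹ ∈ zpowers a₀ := hLz ▸ (Subgroup.mem_normalizer_iff.mp he a₀).mp ha₀L
  have h2 : e * a₀ * e⁻¹ ∈ Submonoid.powers a₀ := mem_powers_iff_mem_zpowers.mpr h1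
  obtain ⟨lam, hlam⟩ := h2
  have hlam' : a₀ ^ lam = e * a₀ * e⁻¹ := hlam
  refine ⟨lam, fun a ha => ?_⟩
  rw [hLz] at ha
  obtain ⟨i, rfl⟩ := Subgroup.mem_zpowers_iff.mp ha
  rw [← conj_zpow, ← hlam', ← zpow_natCast, ← zpow_natCast, ← zpow_mul, ← zpow_mul, mul_comm]

variable {M E S A : Subgroup G} {q : ℕ}

/-- **Case B2a**: a non-scalar element with an invariant line, and `b₁ ∈ N_G(S) ∖ M`
commuting with it. -/
theorem AbCtx.caseB2a (c : AbCtx M E q S A) {e b₁ : G} (heE : e ∈ E) {n : ℕ} (hn : 0 < n)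
    (hnq : n.Coprime q) (hen : e ^ n ∈ centralizer (S : Set G)) (hes : ¬ Scal A e)
    (hb₁N : b₁ ∈ normalizer (S : Set G)) (hb₁M : b₁ ∉ M) (hb₁e : b₁ * e = e * b₁)
    {L : Subgroup G} (hLA : L ≤ A) (hLq : Nat.card L = q) (heL : e ∈ normalizer (L : Set G)) :
    YqProp M E S := by
  classical
  haveI : Fact q.Prime := ⟨c.hqq⟩
  haveI := c.hSc
  obtain ⟨b, hexp, hex⟩ := c.exists_exp
  have heN : e ∈ normalizer (S : Set G) := c.hES heE
  have hb₁A : b₁ ∈ normalizer (A : Set G) := mem_normalizer_omega c.hAS c.hΩ c.hAe.2 hb₁N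
  have hcomm1 : ∀ g : G, g * e = e * g → g * e * g⁻¹ * e⁻¹ ∈ centralizer (S : Set G) := by
    intro g hg
    have : g * e * g⁻¹ * e⁻¹ = 1 := by rw [hg]; group
    rw [this]; exact Subgroup.one_mem _
  -- first eigenline
  obtain ⟨lam, hlam⟩ := exists_pow_of_mem_normalizer_line c.hqq hLq heL
  have hns : ∃ a' ∈ A, e * a' * e⁻¹ ≠ a' ^ lam := by
    by_contra hcon
    push Not at hcon
    exact hes ⟨lam, hcon⟩
  obtain ⟨L', Y, hL'A, hL'q, hLL', hYS, hYc, hYA, hinv, hpow⟩ :=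
    eigen_cyclic c.hq2 c.hSq c.hAS c.hA2 c.hΩ c.hAe.2 hexp heN hn hnq hen hLA hLq hlam hns
  have hEY : E ≤ normalizer (Y : Set G) := fun g hg => (hinv g (c.hES hg) (c.comm_mem hg heE)).1
  obtain ⟨hb₁Y, hb₁L'⟩ := hinv b₁ hb₁N (hcomm1 b₁ hb₁e)
  have hb₁L : b₁ ∈ normalizer (L : Set G) := by
    apply Cfsg.Agent.Lib.Helper1.mem_normalizer_of_forall_conj_mem
    intro x hx
    have hx' : x ∈ Y ⊓ A := hYA ▸ hx
    rw [← hYA]
    exact ⟨(Subgroup.mem_normalizer_iff.mp hb₁Y x).mp hx'.1,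
      (Subgroup.mem_normalizer_iff.mp hb₁A x).mp hx'.2⟩
  have hLns := c.nonsing_of_normalizer hLA hLq hb₁L hb₁M
  have hL'ns := c.nonsing_of_normalizer hL'A hL'q hb₁L' hb₁M
  by_cases hP : ∃ s ∈ S, s ^ (q ^ b) ∉ L'
  · obtain ⟨s, hs, hsL'⟩ := hP
    exact c.yq_of hYS hYA.le hLq hLns hEY hexp (hpow s hs hsL')
  · push Not at hP
    -- second eigenline
    have heL' : e ∈ normalizer (L' : Set G) := (hinv e heN (hcomm1 e rfl)).2
    obtain ⟨lam', hlam'⟩ := exists_pow_of_mem_normalizer_line c.hqq hL'q heL'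
    have hns' : ∃ a' ∈ A, e * a' * e⁻¹ ≠ a' ^ lam' := by
      by_contra hcon
      push Not at hcon
      exact hes ⟨lam', hcon⟩
    obtain ⟨L'', Y₂, hL''A, hL''q, hLL'', hY₂S, hY₂c, hY₂A, hinv₂, hpow₂⟩ :=
      eigen_cyclic c.hq2 c.hSq c.hAS c.hA2 c.hΩ c.hAe.2 hexp heN hn hnq hen hL'A hL'q hlam' hns'
    have hEY₂ : E ≤ normalizer (Y₂ : Set G) :=
      fun g hg => (hinv₂ g (c.hES hg) (c.comm_mem hg heE)).1
    obtain ⟨s, hs, hs1⟩ := hex
    have hsL'' : s ^ (q ^ b) ∉ L'' := by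
      intro h
      have h1 : s ^ (q ^ b) ∈ L' ⊓ L'' := ⟨hP s hs, h⟩
      rw [hLL'', Subgroup.mem_bot] at h1
      exact hs1 h1
    exact c.yq_of hY₂S hY₂A.le hL'q hL'ns hEY₂ hexp (hpow₂ s hs hsL'')

end Cfsg.Agent.Lib.Helper19.BGTypeF
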