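/-
helper19: Case Ab of S1421(b): Case B2b (existence of an invariant line) and the conclusion for one
prime.
-/
import Mathlib
import Cfsg.Agent.Lib.Helper19.BGTypeH9

set_option autoImplicit false
set_option linter.unusedSectionVars false
set_option linter.unusedVariables false
open scoped commutatorElement

namespace Cfsg.Agent.Lib.Helper19.BGTypeF

open Cfsg Subgroup
open Cfsg.Agent.Lib.Helper19.BG127 Cfsg.Agent.Lib.Helper19.BG1210
open Cfsg.Agent.Lib.Helper19.BGTypeG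

variable {G : Type*} [Group G] [Finite G]

variable {M E S A : Subgroup G} {q : ℕ}

/-- **Case B2b**: a `t`-element `e` of `E` not centralizing `A`, commuting with an element
`b₁ ∈ N_G(S) ∖ M` of order `t`, has an invariant line. -/
theorem AbCtx.caseB2b (c : AbCtx M E q S A) {e b₁ : G} (heE : e ∈ E) {t k : ℕ} (ht : t.Prime)
    (htq : t ≠ q) (hord : orderOf e = t ^ k) (heA : e ∉ centralizer (A : Set G))
    (hb₁N : b₁ ∈ normalizer (S : Set G)) (hb₁M : b₁ ∉ M) (hb₁e : b₁ * e = e * b₁)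
    (hb₁t : b₁ ^ t = 1) :
    ∃ L : Subgroup G, L ≤ A ∧ Nat.card L = q ∧ e ∈ normalizer (L : Set G) := by
  classical
  haveI : Fact q.Prime := ⟨c.hqq⟩
  haveI : Fact t.Prime := ⟨ht⟩
  haveI hAc : IsMulCommutative ↥A := c.hAe.1
  have heNA : e ∈ normalizer (A : Set G) := c.hEA heE
  have hb₁A : b₁ ∈ normalizer (A : Set G) := mem_normalizer_omega c.hAS c.hΩ c.hAe.2 hb₁N
  -- the last power of `e` not centralizing `A`
  have hex : ∃ i : ℕ, e ^ (t ^ i) ∈ centralizer (A : Set G) :=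
    ⟨k, by rw [← hord, pow_orderOf_eq_one]; exact Subgroup.one_mem _⟩
  obtain ⟨i₀, hi₀, hmin⟩ : ∃ i₀ : ℕ, e ^ (t ^ i₀) ∈ centralizer (A : Set G) ∧
      ∀ i < i₀, e ^ (t ^ i) ∉ centralizer (A : Set G) :=
    ⟨Nat.find hex, Nat.find_spec hex, fun i hi => Nat.find_min hex hi⟩
  have hi₀0 : i₀ ≠ 0 := by
    rintro rfl
    rw [pow_zero, pow_one] at hi₀
    exact heA hi₀
  obtain ⟨i, rfl⟩ : ∃ i, i₀ = i + 1 := ⟨i₀ - 1, by omega⟩
  obtain ⟨x, hxdef⟩ : ∃ x : G, x = e ^ (t ^ i) := ⟨_, rfl⟩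
  have hxA : x ∉ centralizer (A : Set G) := hxdef ▸ hmin i (Nat.lt_succ_self i)
  have hxt : x ^ t ∈ centralizer (A : Set G) := by
    rw [hxdef, ← pow_mul, ← pow_succ]; exact hi₀
  have hxE : x ∈ E := hxdef ▸ E.pow_mem heE _
  have hxNA : x ∈ normalizer (A : Set G) := c.hEA hxE
  have hxe : x * e = e * x := by
    rw [hxdef]
    exact ((Commute.refl e).pow_left _).eq
  have hb₁x : b₁ * x = x * b₁ := by
    rw [hxdef]
    exact ((show Commute b₁ e from hb₁e).pow_right _).eq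
  -- the two automorphisms of `A`
  obtain ⟨α, hα⟩ : ∃ α : MulAut ↥A, α = cjAut A b₁ hb₁A := ⟨_, rfl⟩
  obtain ⟨β, hβ⟩ : ∃ β : MulAut ↥A, β = cjAut A x hxNA := ⟨_, rfl⟩
  have hc : Commute α β := by
    rw [hα, hβ]
    apply cjAut_commute
    have : b₁ * x * b₁⁻¹ * x⁻¹ = 1 := by rw [hb₁x]; group
    rw [this]; exact Subgroup.one_mem _
  have hαp : α ^ t = 1 := by
    rw [hα]
    apply cjAut_pow_eq_one
    rw [hb₁t]; exact Subgroup.one_mem _
  have hβp : β ^ t = 1 := by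
    rw [hβ]
    exact cjAut_pow_eq_one hxNA hxt
  letI : CommGroup ↥A := { (inferInstance : Group ↥A) with mul_comm := hAc.is_comm.comm }
  -- some element `y` commuting with `e` has a proper nontrivial centralizer in `A`
  have hA1 : A ≠ ⊥ := by
    intro hbot
    have h2 : Nat.card A = 1 := by rw [hbot, Subgroup.card_bot]
    rw [c.hA2] at h2
    have := Nat.one_lt_pow two_ne_zero c.hqq.one_lt
    omega
  obtain ⟨v₀, hv₀⟩ := (Subgroup.ne_bot_iff_exists_ne_one).mp hA1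
  have hkey : ¬ ((∀ v : ↥A, β v = v → v = 1) ∧
      ∀ (j : ℕ) (v : ↥A), (α * β ^ j) v = v → v = 1) := by
    rintro ⟨h1, h2⟩
    have h3 := Cfsg.Agent.Lib.Helper18.pow_prime_eq_one_of_fpf_pair α β hc hαp hβp h1 h2 v₀
    have h4 : v₀ ^ q = 1 := Subtype.ext (by simpa using c.hAe.2 (v₀ : G) v₀.2)
    have h5 := Nat.eq_one_of_dvd_coprimes ((Nat.coprime_primes ht c.hqq).mpr htq)
      (orderOf_dvd_of_pow_eq_one h3) (orderOf_dvd_of_pow_eq_one h4)
    exact hv₀ (orderOf_eq_one_iff.mp h5)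
  have hy : ∃ y : G, y ∈ normalizer (A : Set G) ∧ y * e = e * y ∧ y ∉ centralizer (A : Set G) ∧
      ∃ v ∈ A, v ≠ 1 ∧ y * v * y⁻¹ = v := by
    rw [not_and_or] at hkey
    rcases hkey with h1 | h1
    · push Not at h1
      obtain ⟨v, hv, hv1⟩ := h1
      refine ⟨x, hxNA, hxe, hxA, (v : G), v.2, fun h => hv1 (Subtype.ext h), ?_⟩
      have := congrArg Subtype.val hv
      rw [hβ, cjAut_apply_coe] at this
      exact this
    · push Not at h1
      obtain ⟨j, v, hv, hv1⟩ := h1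
      have hyN : b₁ * x ^ j ∈ normalizer (A : Set G) :=
        Subgroup.mul_mem _ hb₁A (Subgroup.pow_mem _ hxNA j)
      refine ⟨b₁ * x ^ j, hyN, ?_, ?_, (v : G), v.2, fun h => hv1 (Subtype.ext h), ?_⟩
      · have h2 : Commute (b₁ * x ^ j) e :=
          Commute.mul_left (show Commute b₁ e from hb₁e) ((show Commute x e from hxe).pow_left j)
        exact h2.eq
      · intro hcon
        apply hb₁M
        have h2 : b₁ * x ^ j ∈ E := c.hCA hcon
        have h3 : b₁ = (b₁ * x ^ j) * (x ^ j)⁻¹ := by group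
        rw [h3]
        exact c.hE.1 (E.mul_mem h2 (E.inv_mem (E.pow_mem hxE j)))
      · have := congrArg Subtype.val hv
        rw [MulAut.mul_apply, hα, hβ, cjAut_apply_coe, cjAut_pow_apply_coe] at this
        calc b₁ * x ^ j * (v : G) * (b₁ * x ^ j)⁻¹
            = b₁ * (x ^ j * (v : G) * (x ^ j)⁻¹) * b₁⁻¹ := by group
          _ = (v : G) := this
  obtain ⟨y, hyN, hye, hyA, v, hvA, hv1, hyv⟩ := hy
  obtain ⟨L, hLdef⟩ : ∃ L : Subgroup G, L = A ⊓ centralizer ({y} : Set G) := ⟨_, rfl⟩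
  have hLA : L ≤ A := hLdef ▸ inf_le_left
  have hL1 : L ≠ ⊥ := by
    intro hbot
    have h1 : v ∈ L := by
      rw [hLdef]
      refine ⟨hvA, ?_⟩
      show v ∈ centralizer ({y} : Set G)
      rw [Subgroup.mem_centralizer_singleton_iff]
      calc v * y = (y * v * y⁻¹) * y := by rw [hyv]
        _ = y * v := by group
    rw [hbot, Subgroup.mem_bot] at h1
    exact hv1 h1
  have hLne : L ≠ A := by
    intro h
    apply hyA
    rw [Subgroup.mem_centralizer_iff]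
    intro a ha
    have h1 : a ∈ A ⊓ centralizer ({y} : Set G) := hLdef ▸ (h ▸ ha)
    have h2 : a ∈ centralizer ({y} : Set G) := h1.2
    rw [Subgroup.mem_centralizer_singleton_iff] at h2
    exact h2
  refine ⟨L, hLA, c.card_line hLA hL1 hLne, ?_⟩
  apply Cfsg.Agent.Lib.Helper1.mem_normalizer_of_forall_conj_mem
  intro z hz
  rw [hLdef] at hz ⊢
  refine ⟨(Subgroup.mem_normalizer_iff.mp heNA z).mp hz.1, ?_⟩
  show e * z * e⁻¹ ∈ centralizer ({y} : Set G)
  have h2 : z ∈ centralizer ({y} : Set G) := hz.2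
  rw [Subgroup.mem_centralizer_singleton_iff] at h2 ⊢
  have hye' : y * e⁻¹ = e⁻¹ * y := by
    calc y * e⁻¹ = e⁻¹ * (e * y) * e⁻¹ := by group
      _ = e⁻¹ * (y * e) * e⁻¹ := by rw [hye]
      _ = e⁻¹ * y := by group
  calc e * z * e⁻¹ * y = e * z * (e⁻¹ * y) := by group
    _ = e * z * (y * e⁻¹) := by rw [hye']
    _ = e * (z * y) * e⁻¹ := by group
    _ = e * (y * z) * e⁻¹ := by rw [h2]
    _ = (e * y) * z * e⁻¹ := by group
    _ = (y * e) * z * e⁻¹ := by rw [hye]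
    _ = y * (e * z * e⁻¹) := by group

/-- **The conclusion for one prime** `q ∈ τ₂(M)`. -/
theorem AbCtx.yq (c : AbCtx M E q S A) : YqProp M E S := by
  classical
  haveI : Fact q.Prime := ⟨c.hqq⟩
  haveI := c.hSc
  by_cases hall : ∀ e ∈ E, Scal A e
  · exact c.caseA hall
  push Not at hall
  obtain ⟨e₁, he₁E, he₁s⟩ := hall
  obtain ⟨k, hk, t, j, ht, hj⟩ := exists_pow_prime_power_order (Q := Scal A)
    (fun x y hx hy => scal_mul hx hy) (fun x k hx => scal_pow hx k) _ e₁ rfl he₁s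
  haveI : Fact t.Prime := ⟨ht⟩
  obtain ⟨e, hedef⟩ : ∃ e : G, e = e₁ ^ k := ⟨_, rfl⟩
  rw [← hedef] at hk hj
  have heE : e ∈ E := hedef ▸ E.pow_mem he₁E k
  have heA : e ∉ centralizer (A : Set G) := fun h => hk (scal_of_mem_centralizer h)
  have heS : e ∉ centralizer (S : Set G) := fun h =>
    heA (Subgroup.centralizer_le (show (A : Set G) ⊆ S from c.hAS) h)
  obtain ⟨htq, -, -⟩ := c.tau13 heE ht hj heS
  have hj0 : j ≠ 0 := by
    rintro rfl
    rw [pow_zero, orderOf_eq_one_iff] at hj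
    exact heS (hj ▸ Subgroup.one_mem _)
  obtain ⟨j', rfl⟩ : ∃ j', j = j' + 1 := ⟨j - 1, by omega⟩
  obtain ⟨e₀, he₀def⟩ : ∃ e₀ : G, e₀ = e ^ (t ^ j') := ⟨_, rfl⟩
  have he₀t : orderOf e₀ = t := by
    rw [he₀def, orderOf_pow' e (pow_pos ht.pos j').ne', hj, pow_succ,
      Nat.gcd_mul_right_left, Nat.mul_div_cancel_left t (pow_pos ht.pos j')]
  have he₀E : e₀ ∈ E := he₀def ▸ E.pow_mem heE _
  have he₀Z : e₀ ∈ zpowers e := he₀def ▸ Subgroup.pow_mem _ (Subgroup.mem_zpowers e) _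
  have hcoptq : t.Coprime q := (Nat.coprime_primes ht c.hqq).mpr htq
  by_cases he₀A : e₀ ∈ centralizer (A : Set G)
  · have he₀S : e₀ ∈ centralizer (S : Set G) :=
      centralizes_of_centralizes_omega c.hSq c.hAS c.hΩ (c.hES he₀E) ht.pos hcoptq
        (by rw [← he₀t, pow_orderOf_eq_one]; exact Subgroup.one_mem _) he₀A
    obtain ⟨b₁, hb₁N, hb₁M, hb₁e, hb₁t⟩ := c.toolH heE ht hj heS he₀Z he₀t he₀S
    obtain ⟨L, hLA, hLq, heL⟩ := c.caseB2b heE ht htq hj heA hb₁N hb₁M hb₁e hb₁t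
    exact c.caseB2a heE (pow_pos ht.pos (j' + 1)) (Nat.Coprime.pow_left _ hcoptq)
      (by rw [← hj, pow_orderOf_eq_one]; exact Subgroup.one_mem _) hk hb₁N hb₁M hb₁e hLA hLq heL
  · obtain ⟨b, hexp, hex⟩ := c.exists_exp
    exact c.toolF he₀E he₀t he₀A hexp hex

end Cfsg.Agent.Lib.Helper19.BGTypeF
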