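/-
helper19: Case Ab of S1421(b): the abelian normal Hall `τ₂(M)`-subgroup `E₂` of `E`.
-/
import Mathlib
import Cfsg.Agent.Lib.Helper19.BGTypeH10

set_option autoImplicit false
set_option linter.unusedSectionVars false
set_option linter.unusedVariables false
open scoped commutatorElement

namespace Cfsg.Agent.Lib.Helper19.BGTypeF

open Cfsg Subgroup
open Cfsg.Agent.Lib.Helper19.BG127 Cfsg.Agent.Lib.Helper19.BG1210
open Cfsg.Agent.Lib.Helper19.BGTypeG

variable {G : Type*} [Group G] [Finite G]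

/-- the abelian normal Hall `τ₂(M)`-subgroup of `E` in Case Ab. -/
theorem exists_tau2Hall (hG : Cfsg.IsMinSimpleOddOrder G) {M E : Subgroup G}
    (hM : IsCoatom M) (hE : Cfsg.IsComplIn E (Cfsg.sigmaCore M) M) (h : Reg M E)
    (hab : ∀ (q : ℕ) [Fact q.Prime], q ∈ Cfsg.tau2 M → ∀ S : Sylow q G,
      IsMulCommutative (S : Subgroup G)) :
    ∃ E₂ : Subgroup G, E₂ ≤ E ∧ E ≤ normalizer (E₂ : Set G) ∧ IsMulCommutative E₂ ∧
      (∀ q : ℕ, q.Prime → q ∈ Cfsg.tau2 M → Cfsg.pCoreOf q E ≤ E₂) ∧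
      (∀ x ∈ E₂, ∀ r : ℕ, r.Prime → r ∣ orderOf x → r ∈ Cfsg.tau2 M) ∧
      (∀ x ∈ Cfsg.sigmaCore M, x ≠ 1 → E ⊓ centralizer ({x} : Set G) ≤ E₂) ∧
      (Nat.card E₂).Coprime (E₂.relIndex E) ∧
      (∀ n : ℕ, (∀ q : ℕ, q.Prime → q ∈ Cfsg.tau2 M → ∀ s ∈ Cfsg.pCoreOf q E, s ^ n = 1) →
        ∀ w ∈ E₂, w ^ n = 1) := by
  classical
  obtain ⟨S₂, hS₂⟩ : ∃ S₂ : Set G, S₂ = {y | ∃ q : ℕ, q.Prime ∧ q ∈ Cfsg.tau2 M ∧
      y ∈ Cfsg.pCoreOf q E} := ⟨_, rfl⟩
  have hmemS : ∀ {q : ℕ}, q.Prime → q ∈ Cfsg.tau2 M → ∀ y ∈ Cfsg.pCoreOf q E, y ∈ S₂ := by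
    intro q hq hqτ y hy
    rw [hS₂]; exact ⟨q, hq, hqτ, hy⟩
  have hA₀E : closure S₂ ≤ E := by
    rw [Subgroup.closure_le]
    intro y hy
    rw [hS₂] at hy
    obtain ⟨q, hq, hqτ, hyq⟩ := hy
    exact Cfsg.Agent.Lib.Helper17.PrimeAct.pCoreOf_le q E hyq
  have hnorm : E ≤ normalizer ((closure S₂ : Subgroup G) : Set G) := by
    apply le_normalizer_closure
    intro e he s hs
    rw [hS₂] at hs ⊢
    obtain ⟨q, hq, hqτ, hsq⟩ := hs
    haveI : Fact q.Prime := ⟨hq⟩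
    exact ⟨q, hq, hqτ, (Subgroup.mem_normalizer_iff.mp (le_normalizer_pCoreOf q E he) s).mp hsq⟩
  have hcomm : IsMulCommutative ↥(closure S₂) := by
    apply isMulCommutative_closure
    intro a ha b hb
    rw [hS₂] at ha hb
    obtain ⟨q, hq, hqτ, haq⟩ := ha
    obtain ⟨r, hr, hrτ, hbr⟩ := hb
    haveI : Fact q.Prime := ⟨hq⟩
    haveI : Fact r.Prime := ⟨hr⟩
    obtain ⟨X, hXdef⟩ : ∃ X : Subgroup G, X = Cfsg.pCoreOf q E ⊔ Cfsg.pCoreOf r E := ⟨_, rfl⟩
    have hqE := Cfsg.Agent.Lib.Helper17.PrimeAct.pCoreOf_le q E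
    have hrE := Cfsg.Agent.Lib.Helper17.PrimeAct.pCoreOf_le r E
    have hXE : X ≤ E := hXdef ▸ sup_le hqE hrE
    have hXprimes : ∀ s : ℕ, s.Prime → s ∣ Nat.card X → s ∈ Cfsg.tau2 M := by
      intro s hs hsd
      have h1 := Cfsg.Agent.Lib.Helper4.card_sup_mul_card_inf (Cfsg.pCoreOf r E)
        (Cfsg.pCoreOf q E) (hrE.trans (le_normalizer_pCoreOf q E))
      have h2 : Nat.card X ∣ Nat.card (Cfsg.pCoreOf r E) * Nat.card (Cfsg.pCoreOf q E) := by
        rw [hXdef, sup_comm, ← h1]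
        exact Dvd.intro _ rfl
      have h3 := hsd.trans h2
      rcases (Nat.Prime.dvd_mul hs).mp h3 with h4 | h4
      · obtain ⟨n, hn⟩ := IsPGroup.iff_card.mp
          (Cfsg.Agent.Lib.Helper17.PrimeAct.pCoreOf_isPGroup r E)
        rw [hn] at h4
        rw [prime_eq_of_dvd_sq hr hs h4]; exact hrτ
      · obtain ⟨n, hn⟩ := IsPGroup.iff_card.mp
          (Cfsg.Agent.Lib.Helper17.PrimeAct.pCoreOf_isPGroup q E)
        rw [hn] at h4
        rw [prime_eq_of_dvd_sq hq hs h4]; exact hqτ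
    have hXc := tau2_subgroup_comm hG hM hE hXE hXprimes
    have haX : a ∈ X := hXdef ▸ Subgroup.mem_sup_left haq
    have hbX : b ∈ X := hXdef ▸ Subgroup.mem_sup_right hbr
    exact congrArg Subtype.val (hXc.is_comm.comm ⟨a, haX⟩ ⟨b, hbX⟩)
  -- orders of the elements of `E₂`
  have hord : ∀ x ∈ closure S₂, ∀ r : ℕ, r.Prime → r ∣ orderOf x → r ∈ Cfsg.tau2 M := by
    intro x hx
    induction hx using Subgroup.closure_induction with
    | mem y hy =>
      intro r hr hrd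
      rw [hS₂] at hy
      obtain ⟨q, hq, hqτ, hyq⟩ := hy
      haveI : Fact q.Prime := ⟨hq⟩
      obtain ⟨k, hk⟩ := (Cfsg.Agent.Lib.Helper17.PrimeAct.pCoreOf_isPGroup q E) ⟨y, hyq⟩
      have hk' : y ^ (q ^ k) = 1 := by simpa using congrArg Subtype.val hk
      have h1 := hrd.trans (orderOf_dvd_of_pow_eq_one hk')
      rw [prime_eq_of_dvd_sq hq hr h1]; exact hqτ
    | one =>
      intro r hr hrd
      rw [orderOf_one] at hrd
      exact absurd (Nat.dvd_one.mp hrd) hr.one_lt.ne'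
    | mul y z hy hz ihy ihz =>
      intro r hr hrd
      have hyz : Commute y z := congrArg Subtype.val (hcomm.is_comm.comm ⟨y, hy⟩ ⟨z, hz⟩)
      have h1 := hrd.trans hyz.orderOf_mul_dvd_lcm
      have h2 := h1.trans (Nat.lcm_dvd_mul _ _)
      rcases (Nat.Prime.dvd_mul hr).mp h2 with h3 | h3
      · exact ihy r hr h3
      · exact ihz r hr h3
    | inv y hy ihy =>
      intro r hr hrd
      rw [orderOf_inv] at hrd
      exact ihy r hr hrd
  have hSyl : ∀ r : ℕ, r.Prime → r ∈ Cfsg.tau2 M →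
      ¬ r ∣ (closure S₂).relIndex E := by
    intro r hr hrτ hrI
    haveI : Fact r.Prime := ⟨hr⟩
    obtain ⟨A, hAE, hAe, hA2⟩ := exists_elemAb_le_compl hG hM hE hrτ
    obtain ⟨Ps, hAPs⟩ := (elemAb_isPGroup hAe).exists_le_sylow
    have hPs := sylow_le_pCoreOf hG hM hE hrτ hAE hAe hA2 Ps hAPs (hab r hrτ Ps)
    have hPsA₀ : (Ps : Subgroup G) ≤ closure S₂ := by
      intro z hz
      exact Subgroup.subset_closure (hmemS hr hrτ z (hPs hz))
    have h1 : (closure S₂).relIndex E ∣ (Ps : Subgroup G).relIndex E :=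
      Subgroup.relIndex_dvd_of_le_left E hPsA₀
    have h2 : (Ps : Subgroup G).relIndex E ∣ (Ps : Subgroup G).index :=
      Subgroup.relIndex_dvd_index_of_le (hPsA₀.trans hA₀E)
    exact Ps.not_dvd_index ((hrI.trans h1).trans h2)
  refine ⟨closure S₂, hA₀E, hnorm, hcomm, ?_, hord, ?_, ?_, ?_⟩
  · intro q hq hqτ y hy
    exact Subgroup.subset_closure (hmemS hq hqτ y hy)
  · intro x hx hx1 y hy
    have hyE : y ∈ E := hy.1
    have hyx : y * x = x * y := by
      have h2 : y ∈ centralizer ({x} : Set G) := hy.2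
      rw [Subgroup.mem_centralizer_singleton_iff] at h2
      exact h2
    have hYE : zpowers y ≤ E := by rw [Subgroup.zpowers_le]; exact hyE
    have hle : zpowers y ≤ closure S₂ := by
      apply Cfsg.Agent.Lib.Helper19.BG123.le_of_coprime_relIndex hA₀E hYE (hYE.trans hnorm)
      apply Nat.coprime_of_dvd
      intro r hr hrd hrI
      rw [Nat.card_zpowers] at hrd
      have hrτ := mem_tau2_of_dvd_orderOf hG hM hE h hx hx1 hyE hyx hr hrd
      exact hSyl r hr hrτ hrI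
    exact hle (Subgroup.mem_zpowers y)
  · apply Nat.coprime_of_dvd
    intro r hr hrd hrI
    haveI : Fact r.Prime := ⟨hr⟩
    obtain ⟨w, hw⟩ := exists_prime_orderOf_dvd_card' r hrd
    have h1 : orderOf (w : G) = r := by rw [Subgroup.orderOf_coe]; exact hw
    exact hSyl r hr (hord (w : G) w.2 r hr (h1 ▸ dvd_rfl)) hrI
  · intro n hn w hw
    induction hw using Subgroup.closure_induction with
    | mem y hy =>
      rw [hS₂] at hy
      obtain ⟨q, hq, hqτ, hyq⟩ := hy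
      exact hn q hq hqτ y hyq
    | one => exact one_pow n
    | mul y z hy hz ihy ihz =>
      have hyz : Commute y z := congrArg Subtype.val (hcomm.is_comm.comm ⟨y, hy⟩ ⟨z, hz⟩)
      rw [hyz.mul_pow, ihy, ihz, one_mul]
    | inv y hy ihy => rw [inv_pow, ihy, inv_one]

end Cfsg.Agent.Lib.Helper19.BGTypeF
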