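/-
helper19: Case Ab of S1421(b): global assembly `E₀ = H ⋉ ⟨Y_q | q ∈ τ₂(M)⟩`.
-/
import Mathlib
import Cfsg.Agent.Lib.Helper19.BGTypeH11
import Cfsg.Agent.Lib.Helper19.BGTypeF7

set_option autoImplicit false
set_option linter.unusedSectionVars false
set_option linter.unusedVariables false
open scoped commutatorElement

namespace Cfsg.Agent.Lib.Helper19.BGTypeF

open Cfsg Subgroup
open Cfsg.Agent.Lib.Helper19.BG127 Cfsg.Agent.Lib.Helper19.BG1210
open Cfsg.Agent.Lib.Helper19.BGTypeG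

variable {G : Type*} [Group G] [Finite G]

/-- **Case Ab** of B&G 14.3(e) for `K = 1`. -/
theorem typeF_b_abelian (hG : Cfsg.IsMinSimpleOddOrder G) {M E : Subgroup G}
    (hM : IsCoatom M) (hE : Cfsg.IsComplIn E (Cfsg.sigmaCore M) M) (h : Reg M E)
    (hab : ∀ (q : ℕ) [Fact q.Prime], q ∈ Cfsg.tau2 M → ∀ S : Sylow q G,
      IsMulCommutative (S : Subgroup G)) :
    ∃ E₀ : Subgroup G, E₀ ≤ E ∧ Monoid.exponent E₀ = Monoid.exponent E ∧
      ∀ e ∈ E₀, e ≠ 1 → Cfsg.sigmaCore M ⊓ centralizer ({e} : Set G) = ⊥ := by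
  classical
  by_cases hσ1 : Cfsg.sigmaCore M = ⊥
  · refine ⟨E, le_rfl, rfl, ?_⟩
    intro e _ _
    rw [hσ1, bot_inf_eq]
  obtain ⟨E₂, hE₂E, hEN₂, hE₂c, hSE₂, hord₂, hsing, hcop, hpowE₂⟩ :=
    exists_tau2Hall hG hM hE h hab
  have hE₂comm : ∀ a ∈ E₂, ∀ b ∈ E₂, a * b = b * a := fun a ha b hb =>
    congrArg Subtype.val (hE₂c.is_comm.comm ⟨a, ha⟩ ⟨b, hb⟩)
  -- the subgroups `Y_q`
  have hYex : ∀ q : ℕ, q.Prime → q ∈ Cfsg.tau2 M → ∃ Y : Subgroup G,
      Y ≤ Cfsg.pCoreOf q E ∧ E ≤ normalizer (Y : Set G) ∧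
      (∃ y ∈ Y, ∀ s ∈ Cfsg.pCoreOf q E, s ^ orderOf y = 1) ∧
      ∀ z ∈ Y, z ≠ 1 → Cfsg.sigmaCore M ⊓ centralizer ({z} : Set G) = ⊥ := by
    intro q hq hqτ
    haveI : Fact q.Prime := ⟨hq⟩
    obtain ⟨A, c⟩ := exists_abCtx hG hM hE h hqτ (hab q hqτ) hσ1
    exact c.yq
  choose! Yf hYf using hYex
  obtain ⟨T₂, hT₂⟩ : ∃ T₂ : Set G, T₂ = {y | ∃ q : ℕ, q.Prime ∧ q ∈ Cfsg.tau2 M ∧ y ∈ Yf q} :=
    ⟨_, rfl⟩
  obtain ⟨Y, hYdef⟩ : ∃ Y : Subgroup G, Y = closure T₂ := ⟨_, rfl⟩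
  have hYfY : ∀ q : ℕ, q.Prime → q ∈ Cfsg.tau2 M → Yf q ≤ Y := by
    intro q hq hqτ y hy
    rw [hYdef]
    apply Subgroup.subset_closure
    rw [hT₂]; exact ⟨q, hq, hqτ, hy⟩
  have hYE₂ : Y ≤ E₂ := by
    rw [hYdef, Subgroup.closure_le]
    intro y hy
    rw [hT₂] at hy
    obtain ⟨q, hq, hqτ, hyq⟩ := hy
    exact hSE₂ q hq hqτ ((hYf q hq hqτ).1 hyq)
  have hEY : E ≤ normalizer (Y : Set G) := by
    rw [hYdef]
    apply le_normalizer_closure
    intro e he s hs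
    rw [hT₂] at hs ⊢
    obtain ⟨q, hq, hqτ, hsq⟩ := hs
    exact ⟨q, hq, hqτ, (Subgroup.mem_normalizer_iff.mp ((hYf q hq hqτ).2.1 he) s).mp hsq⟩
  -- the `r`-elements of `Y` lie in `Y_r`
  have hYr : ∀ r : ℕ, r.Prime → r ∈ Cfsg.tau2 M → ∀ u ∈ Y, u ^ r = 1 → u ∈ Yf r := by
    intro r hr hrτ u hu hur
    obtain ⟨m, hm⟩ : ∃ m, m = ordCompl[r] (Nat.card G) := ⟨_, rfl⟩
    have hcardG : Nat.card G ≠ 0 := Nat.card_pos.ne'
    have hmr : m.Coprime r := hm ▸ (Nat.coprime_ordCompl hr hcardG).symm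
    have hclaim : ∀ y ∈ Y, y ^ m ∈ Yf r := by
      intro y hy
      rw [hYdef] at hy
      induction hy using Subgroup.closure_induction with
      | mem y hy =>
        rw [hT₂] at hy
        obtain ⟨q, hq, hqτ, hyq⟩ := hy
        by_cases hqr : q = r
        · subst hqr
          exact Subgroup.pow_mem _ hyq m
        · haveI : Fact q.Prime := ⟨hq⟩
          obtain ⟨k, hk⟩ := (Cfsg.Agent.Lib.Helper17.PrimeAct.pCoreOf_isPGroup q E)
            ⟨y, (hYf q hq hqτ).1 hyq⟩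
          have hk' : y ^ (q ^ k) = 1 := by simpa using congrArg Subtype.val hk
          obtain ⟨j, -, hj⟩ := (Nat.dvd_prime_pow hq).mp (orderOf_dvd_of_pow_eq_one hk')
          have h1 : orderOf y ∣ Nat.card G := orderOf_dvd_natCard y
          rw [← Nat.ordProj_mul_ordCompl_eq_self (Nat.card G) r, ← hm] at h1
          have h2 : (orderOf y).Coprime (ordProj[r] (Nat.card G)) := by
            rw [hj]
            exact Nat.Coprime.pow _ _ ((Nat.coprime_primes hq hr).mpr hqr)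
          have h3 : orderOf y ∣ m := h2.dvd_of_dvd_mul_left h1
          rw [orderOf_dvd_iff_pow_eq_one.mp h3]
          exact Subgroup.one_mem _
      | one => rw [one_pow]; exact Subgroup.one_mem _
      | mul y z hy hz ihy ihz =>
        have hyz : Commute y z :=
          hE₂comm y (hYE₂ (hYdef ▸ hy)) z (hYE₂ (hYdef ▸ hz))
        rw [hyz.mul_pow]
        exact Subgroup.mul_mem _ ihy ihz
      | inv y hy ihy =>
        rw [inv_pow]
        exact Subgroup.inv_mem _ ihy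
    have h1 := hclaim u hu
    have hbez := Nat.gcd_eq_gcd_ab m r
    rw [hmr.gcd_eq_one] at hbez
    have h2 : u = (u ^ m) ^ (Nat.gcdA m r) * (u ^ r) ^ (Nat.gcdB m r) := by
      rw [← zpow_natCast, ← zpow_natCast, ← zpow_mul, ← zpow_mul, ← zpow_add, ← hbez]
      simp
    rw [hur, one_zpow, mul_one] at h2
    rw [h2]
    exact Subgroup.zpow_mem _ h1 _
  -- a complement `H` of `E₂` in `E`
  haveI hNn : (E₂.subgroupOf E).Normal :=
    (Subgroup.normal_subgroupOf_iff_le_normalizer hE₂E).mpr hEN₂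
  have hcardN : Nat.card ↥(E₂.subgroupOf E) = Nat.card E₂ :=
    Nat.card_congr (Subgroup.subgroupOfEquivOfLe hE₂E).toEquiv
  have hcopN : (Nat.card ↥(E₂.subgroupOf E)).Coprime (E₂.subgroupOf E).index := by
    rw [hcardN]; exact hcop
  obtain ⟨H', hH'⟩ := Subgroup.exists_right_complement'_of_coprime hcopN
  obtain ⟨H, hHdef⟩ : ∃ H : Subgroup G, H = H'.map E.subtype := ⟨_, rfl⟩
  have hHE : H ≤ E := hHdef ▸ Subgroup.map_subtype_le _
  have hHE₂ : ∀ z ∈ H, z ∈ E₂ → z = 1 := by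
    intro z hz hzE₂
    rw [hHdef] at hz
    obtain ⟨w, hw, rfl⟩ := hz
    have h1 : w ∈ E₂.subgroupOf E ⊓ H' := ⟨Subgroup.mem_subgroupOf.mpr hzE₂, hw⟩
    rw [hH'.disjoint.eq_bot, Subgroup.mem_bot] at h1
    rw [h1]; rfl
  have hcardH : (Nat.card ↥(E₂.subgroupOf E)).Coprime (Nat.card ↥H') := by
    have h1 := hH'.card_mul_card
    have h2 := (E₂.subgroupOf E).card_mul_index
    have h3 : (E₂.subgroupOf E).index = Nat.card ↥H' := by
      apply Nat.eq_of_mul_eq_mul_left (Nat.card_pos (α := ↥(E₂.subgroupOf E)))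
      rw [h2, h1]
    rw [← h3]; exact hcopN
  obtain ⟨E₀, hE₀def⟩ : ∃ E₀ : Subgroup G, E₀ = H ⊔ Y := ⟨_, rfl⟩
  have hYE : Y ≤ E := hYE₂.trans hE₂E
  have hE₀E : E₀ ≤ E := hE₀def ▸ sup_le hHE hYE
  have hdec : ∀ e ∈ E₀, ∃ h' ∈ H, ∃ y ∈ Y, e = h' * y := by
    intro e he
    have h1 := Subgroup.coe_mul_of_left_le_normalizer_right H Y (hHE.trans hEY)
    have h2 : e ∈ ((H ⊔ Y : Subgroup G) : Set G) := hE₀def ▸ he
    rw [h1] at h2
    obtain ⟨a, ha, b, hb, hab'⟩ := Set.mem_mul.mp h2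
    exact ⟨a, ha, b, hb, hab'.symm⟩
  refine ⟨E₀, hE₀E, ?_, ?_⟩
  · -- exponent
    apply Nat.dvd_antisymm
    · apply Monoid.exponent_dvd_of_forall_pow_eq_one
      rintro ⟨x, hx⟩
      apply Subtype.ext
      have hxE : x ∈ E := hE₀E hx
      have h1 := Monoid.pow_exponent_eq_one (⟨x, hxE⟩ : ↥E)
      have h2 : x ^ Monoid.exponent ↥E = 1 := by
        have := congrArg Subtype.val h1
        simpa using this
      simpa using h2
    · obtain ⟨n, hn⟩ : ∃ n, n = Monoid.exponent ↥E₀ := ⟨_, rfl⟩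
      rw [← hn]
      have hE₀n : ∀ z ∈ E₀, z ^ n = 1 := by
        intro z hz
        have h1 := Monoid.pow_exponent_eq_one (⟨z, hz⟩ : ↥E₀)
        rw [← hn] at h1
        have := congrArg Subtype.val h1
        simpa using this
      have hE₂n : ∀ w ∈ E₂, w ^ n = 1 := by
        apply hpowE₂
        intro q hq hqτ s hs
        obtain ⟨y, hyY, hy⟩ := (hYf q hq hqτ).2.2.1
        have h1 : y ∈ E₀ := hE₀def ▸ Subgroup.mem_sup_right (hYfY q hq hqτ hyY)
        have h2 : orderOf y ∣ n := orderOf_dvd_of_pow_eq_one (hE₀n y h1)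
        obtain ⟨d, hd⟩ := h2
        rw [hd, pow_mul, hy s hs, one_pow]
      apply Monoid.exponent_dvd_of_forall_pow_eq_one
      rintro ⟨x, hxE⟩
      have htop := hH'.sup_eq_top
      have hxtop : (⟨x, hxE⟩ : ↥E) ∈ E₂.subgroupOf E ⊔ H' := htop ▸ Subgroup.mem_top _
      rw [sup_comm] at hxtop
      obtain ⟨w, hw, k, hk, hkw⟩ := Subgroup.mem_sup_of_normal_right.mp hxtop
      have hkw' : (⟨x, hxE⟩ : ↥E) = (w * k * w⁻¹) * w := by rw [← hkw]; group
      have hk' : w * k * w⁻¹ ∈ E₂.subgroupOf E := Subgroup.Normal.conj_mem hNn k hk w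
      obtain ⟨k'', hk'', e⟩ := exists_mul_pow_of_normal (E₂.subgroupOf E) hk' w (orderOf w)
      rw [← hkw', pow_orderOf_eq_one, mul_one] at e
      -- `z = x ^ m ∈ E₂`
      have hzE₂ : ((k'' : ↥E) : G) ∈ E₂ := Subgroup.mem_subgroupOf.mp hk''
      have hzn := hE₂n _ hzE₂
      have hwn : orderOf w ∣ n := by
        have h1 : ((w : ↥E) : G) ∈ E₀ := by
          rw [hE₀def]
          apply Subgroup.mem_sup_left
          rw [hHdef]
          exact ⟨w, hw, rfl⟩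
        have h2 := hE₀n _ h1
        have h3 : w ^ n = 1 := Subtype.ext (by simpa using h2)
        exact orderOf_dvd_of_pow_eq_one h3
      have hcn : orderOf k'' ∣ n := by
        have h3 : k'' ^ n = 1 := Subtype.ext (by simpa using hzn)
        exact orderOf_dvd_of_pow_eq_one h3
      have hcopwc : (orderOf w).Coprime (orderOf k'') := by
        have h1 : orderOf k'' ∣ Nat.card ↥(E₂.subgroupOf E) := by
          have := orderOf_dvd_natCard (⟨k'', hk''⟩ : ↥(E₂.subgroupOf E))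
          rwa [Subgroup.orderOf_mk] at this
        have h2 : orderOf w ∣ Nat.card ↥H' := by
          have := orderOf_dvd_natCard (⟨w, hw⟩ : ↥H')
          rwa [Subgroup.orderOf_mk] at this
        exact (Nat.Coprime.coprime_dvd_left h1 (Nat.Coprime.coprime_dvd_right h2 hcardH)).symm
      obtain ⟨d, hd⟩ := Nat.Coprime.mul_dvd_of_dvd_of_dvd hcopwc hwn hcn
      rw [hd, pow_mul, pow_mul, e, pow_orderOf_eq_one, one_pow]
  · -- regularity
    intro e he he1
    by_contra hne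
    obtain ⟨x, hx1⟩ := (Subgroup.ne_bot_iff_exists_ne_one).mp hne
    have hxσ : (x : G) ∈ Cfsg.sigmaCore M := x.2.1
    have hxC : (x : G) ∈ centralizer ({e} : Set G) := x.2.2
    have hx1' : (x : G) ≠ 1 := fun h1 => hx1 (Subtype.ext h1)
    rw [Subgroup.mem_centralizer_singleton_iff] at hxC
    have heE₂ : e ∈ E₂ := by
      apply hsing (x : G) hxσ hx1'
      refine ⟨hE₀E he, ?_⟩
      show e ∈ centralizer ({(x : G)} : Set G)
      rw [Subgroup.mem_centralizer_singleton_iff]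
      exact hxC.symm
    obtain ⟨h', hh', y, hy, hey⟩ := hdec e he
    have hh'1 : h' = 1 := by
      apply hHE₂ h' hh'
      have : h' = e * y⁻¹ := by rw [hey]; group
      rw [this]
      exact E₂.mul_mem heE₂ (E₂.inv_mem (hYE₂ hy))
    rw [hh'1, one_mul] at hey
    have heY : e ∈ Y := hey ▸ hy
    -- a power of prime order
    have hord1 : orderOf e ≠ 1 := fun h1 => he1 (orderOf_eq_one_iff.mp h1)
    obtain ⟨r, hr⟩ : ∃ r, r = (orderOf e).minFac := ⟨_, rfl⟩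
    have hrp : r.Prime := hr ▸ Nat.minFac_prime hord1
    have hrd : r ∣ orderOf e := hr ▸ Nat.minFac_dvd _
    obtain ⟨e', he'⟩ : ∃ e' : G, e' = e ^ (orderOf e / r) := ⟨_, rfl⟩
    have hord' : orderOf e' = r := by
      rw [he']
      exact orderOf_pow_orderOf_div (orderOf_pos e).ne' hrd
    have he'Y : e' ∈ Y := he' ▸ Y.pow_mem heY _
    have he'1 : e' ≠ 1 := by
      intro h1
      rw [h1, orderOf_one] at hord'
      exact hrp.one_lt.ne hord'
    have hrτ : r ∈ Cfsg.tau2 M := hord₂ e heE₂ r hrp hrd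
    have he'r : e' ∈ Yf r := hYr r hrp hrτ e' he'Y (by rw [← hord', pow_orderOf_eq_one])
    have hreg := (hYf r hrp hrτ).2.2.2 e' he'r he'1
    have hmem : (x : G) ∈ Cfsg.sigmaCore M ⊓ centralizer ({e'} : Set G) := by
      refine ⟨hxσ, ?_⟩
      show (x : G) ∈ centralizer ({e'} : Set G)
      rw [Subgroup.mem_centralizer_singleton_iff, he']
      exact ((show Commute (x : G) e from hxC).pow_right _).eq
    rw [hreg, Subgroup.mem_bot] at hmem
    exact hx1' hmem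

/-- **B&G 14.3(e) for `K = 1`**: the second half of S1421. -/
theorem typeF_b (hG : Cfsg.IsMinSimpleOddOrder G) {M E : Subgroup G}
    (hM : IsCoatom M) (hE : Cfsg.IsComplIn E (Cfsg.sigmaCore M) M) (h : Reg M E) :
    ∃ E₀ : Subgroup G, E₀ ≤ E ∧ Monoid.exponent E₀ = Monoid.exponent E ∧
      ∀ e ∈ E₀, e ≠ 1 → Cfsg.sigmaCore M ⊓ centralizer ({e} : Set G) = ⊥ := by
  classical
  by_cases hab : ∀ (q : ℕ) [Fact q.Prime], q ∈ Cfsg.tau2 M → ∀ S : Sylow q G,
      IsMulCommutative (S : Subgroup G)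
  · exact typeF_b_abelian hG hM hE h hab
  · push Not at hab
    obtain ⟨q, hqf, hq, S₀, hS₀⟩ := hab
    exact typeF_b_nonabelian hG hM hE h hq S₀ hS₀

end Cfsg.Agent.Lib.Helper19.BGTypeF
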