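/-
helper19: S1360, case `K ≠ 1` (`U` abelian): a cyclic subgroup of full exponent with nonsingular
socle in an abelian Sylow `q`-subgroup `S` of `M`, `q ∈ τ₂(M)`.
-/
import Mathlib
import Cfsg.Agent.Lib.Helper19.BGTypeH12

set_option autoImplicit false
set_option linter.unusedSectionVars false
set_option linter.unusedVariables false
open scoped commutatorElement

namespace Cfsg.Agent.Lib.Helper19.BGTypeF

open Cfsg Subgroup
open Cfsg.Agent.Lib.Helper19.BG127 Cfsg.Agent.Lib.Helper19.BG1210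
open Cfsg.Agent.Lib.Helper19.BGTypeG

variable {G : Type*} [Group G] [Finite G]

/-- an abelian Sylow `q`-subgroup `S` of `M`, `q ∈ τ₂(M)`, with `Ω₁(S) = A`. -/
structure SylCtx (M : Subgroup G) (q : ℕ) (S A : Subgroup G) : Prop where
  hG : Cfsg.IsMinSimpleOddOrder G
  hM : IsCoatom M
  hqq : q.Prime
  hq : q ∈ Cfsg.tau2 M
  hSM : S ≤ M
  hSq : IsPGroup q S
  hSc : IsMulCommutative ↥S
  hAS : A ≤ S
  hAe : Cfsg.IsElementaryAbelian q A
  hA2 : Nat.card A = q ^ 2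
  hΩ : ∀ s ∈ S, s ^ q = 1 → s ∈ A
  hNS : ¬ normalizer (S : Set G) ≤ M
  hA₁ : ∃ A₁ : Subgroup G, A₁ ≤ A ∧ Nat.card A₁ = q ∧
    Cfsg.sigmaCore M ⊓ centralizer (A₁ : Set G) = ⊥

variable {M S A : Subgroup G} {q : ℕ}

theorem SylCtx.card_line (c : SylCtx M q S A) {B : Subgroup G} (hBA : B ≤ A) (hB1 : B ≠ ⊥)
    (hBne : B ≠ A) : Nat.card B = q := by
  have h1 : Nat.card B ∣ q ^ 2 := c.hA2 ▸ Subgroup.card_dvd_of_le hBA
  obtain ⟨i, hi, hBi⟩ := (Nat.dvd_prime_pow c.hqq).mp h1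
  interval_cases i
  · exfalso; apply hB1
    rw [pow_zero] at hBi
    exact Subgroup.card_eq_one.mp hBi
  · rw [hBi, pow_one]
  · exfalso; apply hBne
    exact Subgroup.eq_of_le_of_card_ge hBA (by rw [hBi, c.hA2])

/-- a line of `A` normalized by an element outside `M` is nonsingular. -/
theorem SylCtx.nonsing_of_normalizer (c : SylCtx M q S A)
    {L : Subgroup G} (hLA : L ≤ A) (hLq : Nat.card L = q) {g : G}
    (hg : g ∈ normalizer (L : Set G)) (hgM : g ∉ M) :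
    Cfsg.sigmaCore M ⊓ centralizer (L : Set G) = ⊥ := by
  by_contra hne
  haveI := c.hG.2.1
  haveI : Fact q.Prime := ⟨c.hqq⟩
  have hLM : L ≤ M := hLA.trans (c.hAS.trans c.hSM)
  have hL1 : L ≠ ⊥ := by
    intro h
    rw [h, Subgroup.card_bot] at hLq
    exact c.hqq.one_lt.ne hLq
  have hLtop : L ≠ ⊤ := by
    intro h
    apply c.hM.1
    rw [eq_top_iff, ← h]
    exact hLM
  obtain ⟨x', hx'⟩ := (Subgroup.ne_bot_iff_exists_ne_one).mp hL1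
  obtain ⟨x, hxdef⟩ : ∃ x : G, x = (x' : G) := ⟨_, rfl⟩
  have hxL : x ∈ L := hxdef ▸ x'.2
  have hx1 : x ≠ 1 := fun h => hx' (Subtype.ext (hxdef ▸ h))
  have hLz : L = zpowers x := Cfsg.Agent.Lib.Helper19.BG127.eq_zpowers_of_card_prime hLq hxL hx1
  obtain ⟨y, hy1⟩ := (Subgroup.ne_bot_iff_exists_ne_one).mp hne
  have hyσ : (y : G) ∈ Cfsg.sigmaCore M := y.2.1
  have hyC : (y : G) ∈ centralizer (L : Set G) := y.2.2
  have hy1' : (y : G) ≠ 1 := fun h => hy1 (Subtype.ext h)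
  obtain ⟨E, hE⟩ := Cfsg.Agent.Lib.Helper2.BGCor.exists_compl_sigmaCore
    (Cfsg.Agent.S1350.result c.hG M c.hM).1
  have h20 := (Cfsg.Agent.S1420.result c.hG M c.hM E hE).2.2.2 x (hLM hxL) hx1 (by
      intro p hp hpd
      have h1 : orderOf x ∣ q := by
        apply orderOf_dvd_of_pow_eq_one
        exact c.hAe.2 x (hLA hxL)
      rw [(Nat.prime_dvd_prime_iff_eq hp c.hqq).mp (hpd.trans h1)]
      exact c.hq) ⟨hLM hxL, (y : G), hyσ, hy1', ((Subgroup.mem_centralizer_iff.mp hyC) x hxL)⟩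
  obtain ⟨K, hK, hNK⟩ := Cfsg.Agent.Lib.Helper17.BGU.exists_coatom_ge
    (Cfsg.Agent.Lib.Helper17.BGU.normalizer_ne_top hL1 hLtop)
  have hCN : centralizer ({x} : Set G) ≤ normalizer (L : Set G) := by
    intro z hz
    rw [Subgroup.mem_centralizer_singleton_iff] at hz
    apply Cfsg.Agent.Lib.Helper1.mem_normalizer_of_forall_conj_mem
    intro l hl
    rw [hLz] at hl ⊢
    obtain ⟨n, rfl⟩ := Subgroup.mem_zpowers_iff.mp hl
    have h1 : z * x ^ n = x ^ n * z := ((show Commute z x from hz).zpow_right n).eq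
    rw [h1, mul_inv_cancel_right]
    exact Subgroup.zpow_mem _ (Subgroup.mem_zpowers x) n
  have hKM := h20.2 K hK (hCN.trans hNK)
  exact hgM (hKM ▸ hNK hg)

/-- the exponent of `S`. -/
theorem SylCtx.exists_exp (c : SylCtx M q S A) :
    ∃ b : ℕ, (∀ s ∈ S, s ^ (q ^ (b + 1)) = 1) ∧ ∃ s ∈ S, s ^ (q ^ b) ≠ 1 := by
  classical
  haveI : Fact q.Prime := ⟨c.hqq⟩
  have hS1 : ∃ s ∈ S, s ≠ 1 := by
    obtain ⟨A₁, hA₁A, hA₁q, -⟩ := c.hA₁
    have hA₁1 : A₁ ≠ ⊥ := by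
      intro hbot
      rw [hbot, Subgroup.card_bot] at hA₁q
      exact c.hqq.one_lt.ne hA₁q
    obtain ⟨x, hx⟩ := (Subgroup.ne_bot_iff_exists_ne_one).mp hA₁1
    exact ⟨(x : G), c.hAS (hA₁A x.2), fun h => hx (Subtype.ext h)⟩
  obtain ⟨n, hn⟩ := IsPGroup.iff_card.mp c.hSq
  have hall : ∀ s ∈ S, s ^ (q ^ n) = 1 := by
    intro s hs
    have h1 : (⟨s, hs⟩ : ↥S) ^ Nat.card ↥S = 1 := pow_card_eq_one'
    rw [hn] at h1
    simpa using congrArg Subtype.val h1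
  have hex : ∃ k : ℕ, ∀ s ∈ S, s ^ (q ^ k) = 1 := ⟨n, hall⟩
  obtain ⟨k, hk, hmin⟩ : ∃ k : ℕ, (∀ s ∈ S, s ^ (q ^ k) = 1) ∧
      ∀ k' < k, ¬ ∀ s ∈ S, s ^ (q ^ k') = 1 :=
    ⟨Nat.find hex, Nat.find_spec hex, fun k' hk' => Nat.find_min hex hk'⟩
  have hk0 : k ≠ 0 := by
    rintro rfl
    obtain ⟨s, hs, hs1⟩ := hS1
    apply hs1
    simpa using hk s hs
  obtain ⟨b, rfl⟩ : ∃ b, k = b + 1 := ⟨k - 1, by omega⟩
  refine ⟨b, hk, ?_⟩
  have := hmin b (Nat.lt_succ_self b)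
  push Not at this
  exact this

/-- **An element of maximal order with nonsingular socle.** -/
theorem SylCtx.exists_good (c : SylCtx M q S A) :
    ∃ y ∈ S, (∀ s ∈ S, s ^ orderOf y = 1) ∧
      ∀ z ∈ zpowers y, z ≠ 1 → Cfsg.sigmaCore M ⊓ centralizer ({z} : Set G) = ⊥ := by
  classical
  haveI : Fact q.Prime := ⟨c.hqq⟩
  haveI := c.hSc
  obtain ⟨b, hexp, hex⟩ := c.exists_exp
  have hScomm : ∀ a ∈ S, ∀ b ∈ S, a * b = b * a := fun a ha b hb =>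
    congrArg Subtype.val (c.hSc.is_comm.comm ⟨a, ha⟩ ⟨b, hb⟩)
  have hgood : ∃ s₁ ∈ S, s₁ ^ (q ^ b) ≠ 1 ∧
      Cfsg.sigmaCore M ⊓ centralizer ((zpowers (s₁ ^ (q ^ b)) : Subgroup G) : Set G) = ⊥ := by
    have hPA : powSub S hScomm (q ^ b) ≤ A := by
      rintro _ ⟨y, hy, rfl⟩
      apply c.hΩ _ (S.pow_mem hy _)
      rw [← pow_mul, ← pow_succ]
      exact hexp y hy
    have hP1 : powSub S hScomm (q ^ b) ≠ ⊥ := by
      obtain ⟨s, hs, hs1⟩ := hex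
      intro hbot
      have h1 : s ^ (q ^ b) ∈ powSub S hScomm (q ^ b) := ⟨s, hs, rfl⟩
      rw [hbot, Subgroup.mem_bot] at h1
      exact hs1 h1
    by_cases hPA' : powSub S hScomm (q ^ b) = A
    · obtain ⟨A₁, hA₁A, hA₁q, hA₁ns⟩ := c.hA₁
      have hA₁1 : A₁ ≠ ⊥ := by
        intro hbot
        rw [hbot, Subgroup.card_bot] at hA₁q
        exact c.hqq.one_lt.ne hA₁q
      obtain ⟨x, hx⟩ := (Subgroup.ne_bot_iff_exists_ne_one).mp hA₁1
      have hx1 : (x : G) ≠ 1 := fun h => hx (Subtype.ext h)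
      have hxP : (x : G) ∈ powSub S hScomm (q ^ b) := hPA' ▸ hA₁A x.2
      obtain ⟨s₁, hs₁, hs₁x⟩ := hxP
      refine ⟨s₁, hs₁, hs₁x ▸ hx1, ?_⟩
      rw [hs₁x, ← Cfsg.Agent.Lib.Helper19.BG127.eq_zpowers_of_card_prime hA₁q x.2 hx1]
      exact hA₁ns
    · have hPq := c.card_line hPA hP1 hPA'
      obtain ⟨s, hs, hs1⟩ := hex
      refine ⟨s, hs, hs1, ?_⟩
      have hsP : s ^ (q ^ b) ∈ powSub S hScomm (q ^ b) := ⟨s, hs, rfl⟩
      rw [← Cfsg.Agent.Lib.Helper19.BG127.eq_zpowers_of_card_prime hPq hsP hs1]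
      -- the line of `q ^ b`-th powers is normalized by `N_G(S)`
      obtain ⟨g, hgN, hgM⟩ := SetLike.not_le_iff_exists.mp c.hNS
      refine c.nonsing_of_normalizer hPA hPq ?_ hgM
      apply Cfsg.Agent.Lib.Helper1.mem_normalizer_of_forall_conj_mem
      rintro _ ⟨y, hy, rfl⟩
      refine ⟨g * y * g⁻¹, (Subgroup.mem_normalizer_iff.mp hgN y).mp hy, ?_⟩
      rw [conj_pow]
  obtain ⟨s₁, hs₁, hs₁1, hns⟩ := hgood
  have hord : orderOf s₁ = q ^ (b + 1) := orderOf_eq_prime_pow hs₁1 (hexp s₁ hs₁)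
  refine ⟨s₁, hs₁, fun s hs => by rw [hord]; exact hexp s hs, ?_⟩
  intro z hz hz1
  have hzS : z ∈ S := (Subgroup.zpowers_le.mpr hs₁) hz
  have hzq : ∃ k : ℕ, z ^ (q ^ k) = 1 := by
    obtain ⟨k, hk⟩ := c.hSq ⟨z, hzS⟩
    exact ⟨k, by simpa using congrArg Subtype.val hk⟩
  obtain ⟨i, hi1, hiq⟩ := exists_pow_prime_order hzq hz1
  obtain ⟨z', hz'⟩ : ∃ z' : G, z' = z ^ (q ^ i) := ⟨_, rfl⟩
  rw [← hz'] at hi1 hiq
  have hz'Y : z' ∈ zpowers s₁ := hz' ▸ Subgroup.pow_mem _ hz _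
  have hz'L : z' ∈ zpowers (s₁ ^ (q ^ b)) :=
    mem_zpowers_pow_of_pow_eq_one c.hqq hord hz'Y hiq
  have hLq : Nat.card (zpowers (s₁ ^ (q ^ b))) = q := by
    rw [Nat.card_zpowers, orderOf_pow' s₁ (pow_pos c.hqq.pos b).ne', hord, pow_succ,
      Nat.gcd_mul_right_left, Nat.mul_div_cancel_left q (pow_pos c.hqq.pos b)]
  have hLz : zpowers (s₁ ^ (q ^ b)) = zpowers z' :=
    Cfsg.Agent.Lib.Helper19.BG127.eq_zpowers_of_card_prime hLq hz'L hi1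
  rw [eq_bot_iff, ← hns]
  intro x hx
  refine ⟨hx.1, ?_⟩
  show x ∈ centralizer ((zpowers (s₁ ^ (q ^ b)) : Subgroup G) : Set G)
  rw [hLz, Subgroup.mem_centralizer_iff]
  intro y hy
  obtain ⟨n, rfl⟩ := Subgroup.mem_zpowers_iff.mp hy
  have h1 : x ∈ centralizer ({z} : Set G) := hx.2
  rw [Subgroup.mem_centralizer_singleton_iff] at h1
  have h2 : Commute z x := h1.symm
  rw [hz']
  exact ((h2.pow_left _).zpow_left n).eq

end Cfsg.Agent.Lib.Helper19.BGTypeF
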