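/-
helper19: S1360, case `U` abelian: the Sylow `r`-subgroup of `U`, `r ∈ τ₂(M)`, gives a `SylCtx`.
-/
import Mathlib
import Cfsg.Agent.Lib.Helper19.BGTypeK1
import Cfsg.Agent.Lib.Helper1.BGZhat
import Cfsg.Agent.Lib.Helper1.BGKap3
import Cfsg.Agent.Lib.Helper8.BGEx1

set_option autoImplicit false
set_option linter.unusedSectionVars false
set_option linter.unusedVariables false
open scoped commutatorElement

namespace Cfsg.Agent.Lib.Helper19.BGTypeF

open Cfsg Subgroup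
open Cfsg.Agent.Lib.Helper19.BG127 Cfsg.Agent.Lib.Helper19.BG1210
open Cfsg.Agent.Lib.Helper19.BGTypeG
open Cfsg.Agent.Lib.Helper8 (IsSylIn)

variable {G : Type*} [Group G] [Finite G]

/-- the Sylow `r`-subgroup of an abelian `U`. -/
theorem exists_sylCtx_of_abelian (hG : Cfsg.IsMinSimpleOddOrder G) {M K U : Subgroup G}
    (hM : IsCoatom M) (hKU : Cfsg.IsSigmaDecomposition M K U) (hUab : IsMulCommutative U)
    {r : ℕ} [Fact r.Prime] (hr : r ∈ Cfsg.tau2 M) :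
    ∃ S A : Subgroup G, SylCtx M r S A ∧ S ≤ U ∧
      ∀ u ∈ U, (∃ k : ℕ, u ^ (r ^ k) = 1) → u ∈ S := by
  classical
  have hrr : r.Prime := Fact.out
  have hHall := (Cfsg.Agent.S1350.result hG M hM).1
  have hUcomm : ∀ a ∈ U, ∀ b ∈ U, a * b = b * a := fun a ha b hb =>
    congrArg Subtype.val (hUab.is_comm.comm ⟨a, ha⟩ ⟨b, hb⟩)
  have hUM : U ≤ M := hKU.compl.1
  obtain ⟨PU⟩ : Nonempty (Sylow r ↥U) := inferInstance
  obtain ⟨S, hSdef⟩ : ∃ S : Subgroup G, S = (PU : Subgroup ↥U).map U.subtype := ⟨_, rfl⟩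
  have hSylU : IsSylIn r S U := hSdef ▸ Cfsg.Agent.Lib.Helper8.sylow_map_subtype_isSylIn PU
  have hSU : S ≤ U := hSylU.1
  have hSr : IsPGroup r S := hSylU.isPGroup
  -- `U` normalizes every subgroup of `U`
  have hUN : ∀ X : Subgroup G, X ≤ U → U ≤ normalizer (X : Set G) := by
    intro X hX u hu
    apply Cfsg.Agent.Lib.Helper1.mem_normalizer_of_forall_conj_mem
    intro x hx
    rw [hUcomm u hu x (hX hx), mul_inv_cancel_right]
    exact hx
  have hmemS : ∀ u ∈ U, (∃ k : ℕ, u ^ (r ^ k) = 1) → u ∈ S := by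
    rintro u hu ⟨k, hk⟩
    have hZr : IsPGroup r (zpowers u) := by
      obtain ⟨j, -, hj⟩ := (Nat.dvd_prime_pow hrr).mp (orderOf_dvd_of_pow_eq_one hk)
      apply IsPGroup.of_card (n := j)
      rw [Nat.card_zpowers, hj]
    have hZU : zpowers u ≤ U := by rw [Subgroup.zpowers_le]; exact hu
    have hT : IsPGroup r ↥(zpowers u ⊔ S) :=
      IsPGroup.to_sup_of_normal_right' hZr hSr (hZU.trans (hUN S hSU))
    have h1 := hSylU.eq_of_le hT le_sup_right (sup_le hZU hSU)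
    exact h1 ▸ Subgroup.mem_sup_left (Subgroup.mem_zpowers u)
  -- the complement `E = U K` and `A`
  have hcE := Cfsg.Agent.Lib.Helper1.BGZhat.isComplIn_U_sup_K hHall hKU
  obtain ⟨A, hAE, hAe, hA2⟩ := exists_elemAb_le_compl hG hM hcE hr
  have hrκ : r ∉ Cfsg.kappa M := fun h =>
    hr.2.2.2 (Cfsg.Agent.Lib.Helper2.BGCor.pRankLE_one_of_kappa h)
  have hrK : ¬ r ∣ Nat.card K := fun h => hrκ (hKU.hall.2.1 r hrr h)
  have hAU : A ≤ U := by
    apply Cfsg.Agent.Lib.Helper19.BG123.le_of_coprime_relIndex (T := U ⊔ K) le_sup_left hAE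
      (hAE.trans (sup_le (hUN U le_rfl) hKU.normal))
    rw [hA2]
    apply Nat.Coprime.pow_left
    rw [Nat.Prime.coprime_iff_not_dvd hrr]
    intro hd
    apply hrK
    have h1 := Cfsg.Agent.Lib.Helper4.card_sup_mul_card_inf K U hKU.normal
    have h2 := Cfsg.Agent.Lib.Helper4.card_mul_relIndex (show U ≤ U ⊔ K from le_sup_left)
    rw [sup_comm] at h1
    rw [← h2] at h1
    have h3 : U.relIndex (U ⊔ K) * Nat.card (K ⊓ U : Subgroup G) = Nat.card K := by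
      apply Nat.eq_of_mul_eq_mul_left (Nat.card_pos (α := U))
      rw [← mul_assoc, h1, mul_comm]
    rw [← h3]
    exact Dvd.dvd.mul_right hd _
  have hAS : A ≤ S := fun a ha => hmemS a (hAU ha) ⟨1, by rw [pow_one]; exact hAe.2 a ha⟩
  -- `S` is a Sylow subgroup of `M`
  have hUHall := Cfsg.Agent.Lib.Helper1.BGKap.isPiHallOf_U hHall hKU
  have hSylM : IsSylIn r S M :=
    Cfsg.Agent.Lib.Helper8.BGEx.isSylIn_of_not_dvd_relIndex hSylU hUM
      (hUHall.2.2 r hrr ⟨hrr, hrκ, hr.2.1⟩)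
  have hPmap := hSylM.toSylow_map
  have h17 := Cfsg.Agent.S1417.result hG M hM r hr A ⟨hAU.trans hUM, hAe, hA2⟩
  have hb := (h17.2.1 hSylM.toSylow).2 (by rw [hPmap]; exact hAS)
  rw [hPmap] at hb
  refine ⟨S, A, ⟨hG, hM, hrr, hr, hSU.trans hUM, hSr, ?_, hAS, hAe, hA2, ?_, hb.2,
    h17.2.2.2.2.2⟩, hSU, hmemS⟩
  · refine ⟨⟨?_⟩⟩
    rintro ⟨a, ha⟩ ⟨b, hb'⟩
    apply Subtype.ext
    exact hUcomm a (hSU ha) b (hSU hb')
  · intro s hs hsr
    exact (hb.1 s hs).mp hsr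

end Cfsg.Agent.Lib.Helper19.BGTypeF
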