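/-
helper19: S1360: the case `K = 1` (from `typeF_b`) and the case `U` abelian.
-/
import Mathlib
import Cfsg.Agent.Lib.Helper19.BGTypeK2
import Cfsg.Agent.Lib.Helper1.BGKap2
import Cfsg.Agent.S1403

set_option autoImplicit false
set_option linter.unusedSectionVars false
set_option linter.unusedVariables false
open scoped commutatorElement

namespace Cfsg.Agent.Lib.Helper19.BGTypeF

open Cfsg Subgroup
open Cfsg.Agent.Lib.Helper19.BG127 Cfsg.Agent.Lib.Helper19.BG1210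
open Cfsg.Agent.Lib.Helper19.BGTypeG

variable {G : Type*} [Group G] [Finite G]

/-- **S1360 for `K = 1`**. -/
theorem s1360_of_bot (hG : Cfsg.IsMinSimpleOddOrder G) {M U : Subgroup G} (hM : IsCoatom M)
    (hKU : Cfsg.IsSigmaDecomposition M ⊥ U) :
    ∃ U₀ : Subgroup G, U₀ ≤ U ∧ Monoid.exponent U₀ = Monoid.exponent U ∧
      ∀ u ∈ U₀, u ∈ Cfsg.sigmaHat M → u = 1 := by
  have hE : Cfsg.IsComplIn U (Cfsg.sigmaCore M) M := by
    have := hKU.compl
    rwa [bot_sup_eq] at this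
  obtain ⟨U₀, hU₀U, hexp, hreg⟩ := typeF_b hG hM hE
    (reg_of_kappa_eq_empty hG hM hE (kappa_eq_empty_of_bot hKU))
  refine ⟨U₀, hU₀U, hexp, ?_⟩
  rintro u hu ⟨-, y, hyσ, hy1, huy⟩
  by_contra hu1
  have h1 : y ∈ Cfsg.sigmaCore M ⊓ centralizer ({u} : Set G) := by
    refine ⟨hyσ, ?_⟩
    show y ∈ centralizer ({u} : Set G)
    rw [Subgroup.mem_centralizer_singleton_iff]
    exact huy.symm
  rw [hreg u hu hu1, Subgroup.mem_bot] at h1
  exact hy1 h1

/-- an element of order prime to `r` is killed by the `r'`-part of `|G|`. -/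
theorem pow_ordCompl_eq_one {r : ℕ} (hr : r.Prime) {z : G} (h : ¬ r ∣ orderOf z) :
    z ^ (ordCompl[r] (Nat.card G)) = 1 := by
  have h1 : orderOf z ∣ Nat.card G := orderOf_dvd_natCard z
  rw [← Nat.ordProj_mul_ordCompl_eq_self (Nat.card G) r] at h1
  have h2 : (orderOf z).Coprime (ordProj[r] (Nat.card G)) :=
    Nat.Coprime.pow_right _ ((Nat.Prime.coprime_iff_not_dvd hr).mpr h).symm
  exact orderOf_dvd_iff_pow_eq_one.mp (h2.dvd_of_dvd_mul_left h1)

/-- **S1360 for abelian `U`**. -/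
theorem s1360_of_abelian (hG : Cfsg.IsMinSimpleOddOrder G) {M K U : Subgroup G} (hM : IsCoatom M)
    (hKU : Cfsg.IsSigmaDecomposition M K U) (hUab : IsMulCommutative U) :
    ∃ U₀ : Subgroup G, U₀ ≤ U ∧ Monoid.exponent U₀ = Monoid.exponent U ∧
      ∀ u ∈ U₀, u ∈ Cfsg.sigmaHat M → u = 1 := by
  classical
  have hU : Cfsg.Agent.Lib.Helper1.BGX.UT G :=
    fun K hK hK2 hK3 => Cfsg.Agent.S1403.result hG K hK hK2 hK3
  have hHall := (Cfsg.Agent.S1350.result hG M hM).1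
  have h125 : Cfsg.Agent.Lib.Helper2.BGCor.T125 M :=
    fun p _ hp A hA => Cfsg.Agent.S1417.result hG M hM p hp A hA
  have h1210 : Cfsg.Agent.Lib.Helper1.BGKap.T1210 M := fun E X hE hXE hX =>
    Cfsg.Agent.Lib.Helper19.BG1210.tau2_subgroup_comm hG hM hE hXE hX
  have hUcomm : ∀ a ∈ U, ∀ b ∈ U, a * b = b * a := fun a ha b hb =>
    congrArg Subtype.val (hUab.is_comm.comm ⟨a, ha⟩ ⟨b, hb⟩)
  -- singular elements of `U` are `τ₂(M)`-elements
  have hsingτ : ∀ u ∈ U, u ∈ Cfsg.sigmaHat M → ∀ r : ℕ, r.Prime → r ∣ orderOf u →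
      r ∈ Cfsg.tau2 M := by
    rintro u hu ⟨-, y, hyσ, hy1, huy⟩ r hr hrd
    have hXU : zpowers u ≤ U := by rw [Subgroup.zpowers_le]; exact hu
    have hXc : Cfsg.sigmaCore M ⊓ centralizer ((zpowers u : Subgroup G) : Set G) ≠ ⊥ := by
      intro hbot
      have h1 : y ∈ Cfsg.sigmaCore M ⊓ centralizer ((zpowers u : Subgroup G) : Set G) := by
        refine ⟨hyσ, ?_⟩
        show y ∈ centralizer ((zpowers u : Subgroup G) : Set G)
        rw [Subgroup.mem_centralizer_iff]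
        intro x hx
        obtain ⟨n, rfl⟩ := Subgroup.mem_zpowers_iff.mp hx
        exact ((show Commute u y from huy).zpow_left n).eq
      rw [hbot, Subgroup.mem_bot] at h1
      exact hy1 h1
    have h1 := (Cfsg.Agent.Lib.Helper1.BGKap.singular_tau2_cyclic hG hU hM hHall hKU h125 h1210
      hXU hXc).1
    apply h1 r hr
    rw [Nat.card_zpowers]
    exact hrd
  -- the elements `y_r`
  have hyex : ∀ r : ℕ, r.Prime → r ∈ Cfsg.tau2 M → ∃ y : G, y ∈ U ∧ (∃ k : ℕ, y ^ (r ^ k) = 1) ∧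
      (∀ s ∈ U, (∃ k : ℕ, s ^ (r ^ k) = 1) → s ^ orderOf y = 1) ∧
      ∀ z ∈ zpowers y, z ≠ 1 → Cfsg.sigmaCore M ⊓ centralizer ({z} : Set G) = ⊥ := by
    intro r hr hrτ
    haveI : Fact r.Prime := ⟨hr⟩
    obtain ⟨S, A, c, hSU, hmemS⟩ := exists_sylCtx_of_abelian hG hM hKU hUab hrτ
    obtain ⟨y, hyS, hyexp, hyreg⟩ := c.exists_good
    refine ⟨y, hSU hyS, ?_, fun s hs hsr => hyexp s (hmemS s hs hsr), hyreg⟩
    obtain ⟨k, hk⟩ := c.hSq ⟨y, hyS⟩
    exact ⟨k, by simpa using congrArg Subtype.val hk⟩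
  choose! yf hyf using hyex
  obtain ⟨T, hT⟩ : ∃ T : Set G, T = {z | ∃ r : ℕ, r.Prime ∧ r ∈ Cfsg.tau2 M ∧ z ∈ zpowers (yf r)} ∪
      {u | u ∈ U ∧ ∀ r : ℕ, r.Prime → r ∣ orderOf u → r ∉ Cfsg.tau2 M} := ⟨_, rfl⟩
  obtain ⟨U₀, hU₀def⟩ : ∃ U₀ : Subgroup G, U₀ = closure T := ⟨_, rfl⟩
  have hTU : T ⊆ U := by
    rw [hT]
    rintro z (⟨r, hr, hrτ, hz⟩ | ⟨hz, -⟩)
    · exact (Subgroup.zpowers_le.mpr (hyf r hr hrτ).1) hz
    · exact hz
  have hU₀U : U₀ ≤ U := by
    rw [hU₀def, Subgroup.closure_le]; exact hTU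
  have hyU₀ : ∀ r : ℕ, r.Prime → r ∈ Cfsg.tau2 M → zpowers (yf r) ≤ U₀ := by
    intro r hr hrτ z hz
    rw [hU₀def]
    apply Subgroup.subset_closure
    rw [hT]
    exact Or.inl ⟨r, hr, hrτ, hz⟩
  refine ⟨U₀, hU₀U, ?_, ?_⟩
  · -- exponent
    apply Nat.dvd_antisymm
    · apply Monoid.exponent_dvd_of_forall_pow_eq_one
      rintro ⟨x, hx⟩
      apply Subtype.ext
      have hxU : x ∈ U := hU₀U hx
      have h1 := Monoid.pow_exponent_eq_one (⟨x, hxU⟩ : ↥U)
      have h2 : x ^ Monoid.exponent ↥U = 1 := by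
        have := congrArg Subtype.val h1
        simpa using this
      simpa using h2
    · obtain ⟨n, hn⟩ : ∃ n, n = Monoid.exponent ↥U₀ := ⟨_, rfl⟩
      rw [← hn]
      have hU₀n : ∀ z ∈ U₀, z ^ n = 1 := by
        intro z hz
        have h1 := Monoid.pow_exponent_eq_one (⟨z, hz⟩ : ↥U₀)
        rw [← hn] at h1
        have := congrArg Subtype.val h1
        simpa using this
      apply Monoid.exponent_dvd_of_forall_pow_eq_one
      rintro ⟨u, huU⟩
      apply Subtype.ext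
      show (u ^ n : G) = 1
      by_contra hne
      have hQ : ¬ (u ∈ U ∧ u ^ n = 1) := fun h => hne h.2
      obtain ⟨k, hk, t, j, ht, hj⟩ := exists_pow_prime_power_order
        (Q := fun x => x ∈ U ∧ x ^ n = 1)
        (fun x y hx hy => ⟨U.mul_mem hx.1 hy.1, by
          rw [(show Commute x y from hUcomm x hx.1 y hy.1).mul_pow, hx.2, hy.2, one_mul]⟩)
        (fun x k hx => ⟨U.pow_mem hx.1 k, by rw [← pow_mul, mul_comm, pow_mul, hx.2, one_pow]⟩)
        _ u rfl hQ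
      apply hk
      refine ⟨U.pow_mem huU k, ?_⟩
      obtain ⟨v, hv⟩ : ∃ v : G, v = u ^ k := ⟨_, rfl⟩
      rw [← hv] at hj ⊢
      have hvU : v ∈ U := hv ▸ U.pow_mem huU k
      by_cases htτ : t ∈ Cfsg.tau2 M
      · obtain ⟨-, -, hexp, -⟩ := hyf t ht htτ
        have h1 : orderOf (yf t) ∣ n :=
          orderOf_dvd_of_pow_eq_one (hU₀n _ (hyU₀ t ht htτ (Subgroup.mem_zpowers _)))
        obtain ⟨d, hd⟩ := h1
        rw [hd, pow_mul, hexp v hvU ⟨j, by rw [← hj, pow_orderOf_eq_one]⟩, one_pow]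
      · apply hU₀n
        rw [hU₀def]
        apply Subgroup.subset_closure
        rw [hT]
        refine Or.inr ⟨hvU, ?_⟩
        intro r hr hrd
        rw [hj] at hrd
        rw [(Nat.prime_dvd_prime_iff_eq hr ht).mp (hr.dvd_of_dvd_pow hrd)]
        exact htτ
  · -- regularity
    intro u hu husing
    by_contra hu1
    have huU : u ∈ U := hU₀U hu
    obtain ⟨-, y, hyσ, hy1, huy⟩ := id husing
    have hord1 : orderOf u ≠ 1 := fun h1 => hu1 (orderOf_eq_one_iff.mp h1)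
    obtain ⟨r, hr⟩ : ∃ r, r = (orderOf u).minFac := ⟨_, rfl⟩
    have hrp : r.Prime := hr ▸ Nat.minFac_prime hord1
    have hrd : r ∣ orderOf u := hr ▸ Nat.minFac_dvd _
    have hrτ : r ∈ Cfsg.tau2 M := hsingτ u huU husing r hrp hrd
    obtain ⟨u', hu'⟩ : ∃ u' : G, u' = u ^ (orderOf u / r) := ⟨_, rfl⟩
    have hord' : orderOf u' = r := by
      rw [hu']
      exact orderOf_pow_orderOf_div (orderOf_pos u).ne' hrd
    have hu'U₀ : u' ∈ U₀ := hu' ▸ U₀.pow_mem hu _
    have hu'1 : u' ≠ 1 := by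
      intro h1
      rw [h1, orderOf_one] at hord'
      exact hrp.one_lt.ne hord'
    obtain ⟨m, hm⟩ : ∃ m, m = ordCompl[r] (Nat.card G) := ⟨_, rfl⟩
    have hcardG : Nat.card G ≠ 0 := Nat.card_pos.ne'
    have hmr : m.Coprime r := hm ▸ (Nat.coprime_ordCompl hrp hcardG).symm
    have hclaim : ∀ z ∈ U₀, z ^ m ∈ zpowers (yf r) := by
      intro z hz
      rw [hU₀def] at hz
      induction hz using Subgroup.closure_induction with
      | mem z hz =>
        rw [hT] at hz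
        rcases hz with ⟨q, hq, hqτ, hzq⟩ | ⟨hzU, hzτ⟩
        · by_cases hqr : q = r
          · subst hqr
            exact Subgroup.pow_mem _ hzq m
          · have hnd : ¬ r ∣ orderOf z := by
              intro hd
              obtain ⟨k, hk⟩ := (hyf q hq hqτ).2.1
              obtain ⟨i, rfl⟩ := Subgroup.mem_zpowers_iff.mp hzq
              have h1 : (yf q ^ i) ^ (q ^ k) = 1 := by
                rw [← zpow_natCast, ← zpow_mul, mul_comm, zpow_mul, zpow_natCast, hk, one_zpow]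
              have h2 := hd.trans (orderOf_dvd_of_pow_eq_one h1)
              exact hqr ((Nat.prime_dvd_prime_iff_eq hrp hq).mp (hrp.dvd_of_dvd_pow h2)).symm
            rw [hm, pow_ordCompl_eq_one hrp hnd]
            exact Subgroup.one_mem _
        · have hnd : ¬ r ∣ orderOf z := fun hd => hzτ r hrp hd hrτ
          rw [hm, pow_ordCompl_eq_one hrp hnd]
          exact Subgroup.one_mem _
      | one => rw [one_pow]; exact Subgroup.one_mem _
      | mul y z hy hz ihy ihz =>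
        have hyz : Commute y z :=
          hUcomm y (hU₀U (hU₀def ▸ hy)) z (hU₀U (hU₀def ▸ hz))
        rw [hyz.mul_pow]
        exact Subgroup.mul_mem _ ihy ihz
      | inv y hy ihy =>
        rw [inv_pow]
        exact Subgroup.inv_mem _ ihy
    have h1 := hclaim u' hu'U₀
    have hbez := Nat.gcd_eq_gcd_ab m r
    rw [hmr.gcd_eq_one] at hbez
    have hu'r : u' ^ r = 1 := by rw [← hord', pow_orderOf_eq_one]
    have h2 : u' = (u' ^ m) ^ (Nat.gcdA m r) * (u' ^ r) ^ (Nat.gcdB m r) := by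
      rw [← zpow_natCast, ← zpow_natCast, ← zpow_mul, ← zpow_mul, ← zpow_add, ← hbez]
      simp
    rw [hu'r, one_zpow, mul_one] at h2
    have hu'y : u' ∈ zpowers (yf r) := by
      rw [h2]
      exact Subgroup.zpow_mem _ h1 _
    have hreg := (hyf r hrp hrτ).2.2.2 u' hu'y hu'1
    have hmem : y ∈ Cfsg.sigmaCore M ⊓ centralizer ({u'} : Set G) := by
      refine ⟨hyσ, ?_⟩
      show y ∈ centralizer ({u'} : Set G)
      rw [Subgroup.mem_centralizer_singleton_iff, hu']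
      exact ((show Commute u y from huy).pow_left _).eq.symm
    rw [hreg, Subgroup.mem_bot] at hmem
    exact hy1 hmem

end Cfsg.Agent.Lib.Helper19.BGTypeF
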