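/-
helper19: BRW-ARITHP (`arith_plus`) of helper27's S4700/S0996 wrapper market (notes/S4700_W_leaves.lean).
-/
import Mathlib

set_option autoImplicit false

namespace Cfsg.Agent.Lib.Helper19.BRWARITHP

variable {p : ℕ} [Fact p.Prime]

/-- ARITHP : `D = up+1 ∣ f(1+np)`, `f ∣ p-1`, `1 ≤ u < n`. -/
theorem arith_plus (f n u : ℕ) (hf : f ∣ p - 1) (hu : 1 ≤ u) (hun : u < n)
    (hdvd : (u * p + 1) ∣ f * (1 + n * p)) :
    ∃ h : ℕ, 0 < h ∧ n * (u + 1) = h * u * p + u ^ 2 + u + h := by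
  have hpp : p.Prime := Fact.out
  have hp2 : 2 ≤ p := hpp.two_le
  have hp0 : 0 < p := hpp.pos
  -- `D ∣ (p-1)(1+np)`
  have h1 : (u * p + 1) ∣ (p - 1) * (1 + n * p) :=
    hdvd.trans (Nat.mul_dvd_mul_right hf _)
  have h2 : (u * p + 1) ∣ (u * p + 1) * (1 + n * p) := dvd_mul_right _ _
  have h3 : (u * p + 1) ∣ p * ((u + 1) * (1 + n * p)) := by
    have h4 := Nat.dvd_add h1 h2
    have h5 : (p - 1) * (1 + n * p) + (u * p + 1) * (1 + n * p) = p * ((u + 1) * (1 + n * p)) := by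
      have : (p - 1) + (u * p + 1) = (u + 1) * p := by
        have : p - 1 + 1 = p := Nat.sub_add_cancel hpp.one_le
        nlinarith
      calc (p - 1) * (1 + n * p) + (u * p + 1) * (1 + n * p)
          = ((p - 1) + (u * p + 1)) * (1 + n * p) := by ring
        _ = ((u + 1) * p) * (1 + n * p) := by rw [this]
        _ = p * ((u + 1) * (1 + n * p)) := by ring
    rwa [h5] at h4
  have hcop : Nat.Coprime (u * p + 1) p := by
    have : Nat.Coprime (1 + u * p) p := by
      rw [Nat.coprime_add_mul_right_left]; exact Nat.coprime_one_left p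
    rwa [add_comm] at this
  have h6 : (u * p + 1) ∣ (u + 1) * (1 + n * p) := hcop.dvd_of_dvd_mul_left h3
  obtain ⟨c, hc⟩ := h6
  -- `c > u + 1`
  have hDlt : u * p + 1 < 1 + n * p := by
    have : u * p < n * p := Nat.mul_lt_mul_of_pos_right hun hp0
    omega
  have hcgt : u + 1 < c := by
    by_contra hle
    push_neg at hle
    have h7 : (u * p + 1) * c ≤ (u * p + 1) * (u + 1) := Nat.mul_le_mul_left _ hle
    have h8 : (u * p + 1) * (u + 1) < (1 + n * p) * (u + 1) :=
      Nat.mul_lt_mul_of_pos_right hDlt (Nat.succ_pos u)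
    have h9 : (u + 1) * (1 + n * p) = (1 + n * p) * (u + 1) := mul_comm _ _
    omega
  obtain ⟨k, hk⟩ : ∃ k, c = u + 1 + k := ⟨c - (u + 1), by omega⟩
  have hkpos : 0 < k := by omega
  -- `k + u p (u+1+k) = (u+1) n p`
  have h10 : k + p * (u * (u + 1 + k)) = p * ((u + 1) * n) := by
    rw [hk] at hc
    nlinarith
  have hpk : p ∣ k := by
    have h11 : p ∣ k + p * (u * (u + 1 + k)) := h10 ▸ dvd_mul_right _ _
    exact (Nat.dvd_add_left (dvd_mul_right p _)).mp h11
  obtain ⟨h, hh⟩ := hpk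
  refine ⟨h, ?_, ?_⟩
  · rcases Nat.eq_zero_or_pos h with h0 | h0
    · rw [h0] at hh; omega
    · exact h0
  · rw [hh] at h10
    have h12 : p * (h + u * (u + 1 + p * h)) = p * ((u + 1) * n) := by
      rw [← h10]; ring
    have h13 := Nat.eq_of_mul_eq_mul_left hp0 h12
    nlinarith

end Cfsg.Agent.Lib.Helper19.BRWARITHP
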