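/-
helper19: BRW-LIFT (`alt_lift`) of helper27's S4700/S0996 wrapper market (notes/S4700_W_leaves.lean).
-/
import Mathlib
import Cfsg.Agent.Lib.Helper27.BRWDefs

set_option autoImplicit false

namespace Cfsg.Agent.Lib.Helper19.BRWLIFT

open Cfsg.Agent.Lib.Helper27.BRW

variable {p : ℕ} [Fact p.Prime]

/-- LIFT : the third alternative survives the passage to the quotient. -/
theorem alt_lift (n m k : ℕ) (h1 : 1 + n * p = (1 + m * p) * (1 + k * p)) (ha : Alt p m) : Alt p n := by
  have hpp : p.Prime := Fact.out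
  have hp0 : 0 < p := hpp.pos
  obtain ⟨h, u, hh, hu, heq⟩ := ha
  have hn : n = m + k * (1 + m * p) := by
    have h2 : p * n = p * (m + k * (1 + m * p)) := by nlinarith
    exact Nat.eq_of_mul_eq_mul_left hp0 h2
  have h3 : (u + 1) * (1 + m * p) = (u * p + 1) * (h * p + u + 1) := by
    have : (u + 1) * (1 + m * p) = (u + 1) + p * (m * (u + 1)) := by ring
    rw [this, heq]; ring
  refine ⟨h + k * (h * p + u + 1), u, by positivity, hu, ?_⟩
  rw [hn]
  have : (m + k * (1 + m * p)) * (u + 1) = m * (u + 1) + k * ((u + 1) * (1 + m * p)) := by ring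
  rw [this, heq, h3]; ring

end Cfsg.Agent.Lib.Helper19.BRWLIFT
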