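/-
helper19: S0997 (BT market), leaf BT-GEN (notes/S0997_leaves.lean): `P = ⟨x⟩`, `C_G(x) = C_G(P) = P`.
-/
import Mathlib
import Cfsg.Prelude.Def_BlockRank
import Cfsg.Agent.Lib.Helper6.BRHDefs
import Cfsg.Agent.Lib.Helper24.BRCDefs
import Cfsg.Agent.Lib.Helper6.BRCOUT

set_option autoImplicit false

namespace Cfsg.Agent.Lib.Helper19.BTGEN

open Cfsg Cfsg.Agent.Lib.Helper8.DOM Cfsg.Agent.Lib.Helper27.DO Cfsg.Agent.CharLib
open Cfsg.Agent.Lib.Helper6.BRH Cfsg.Agent.Lib.Helper24.BRC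
open scoped ComplexConjugate

universe u

variable {G : Type u} [Group G] [Finite G] {p : ℕ} [Fact p.Prime]

/-- BT-GEN.  `P = ⟨x⟩`, `C_G(x) = C_G(P) = P`. -/
theorem exists_gen (P : Subgroup G) (hP : Nat.card P = p) (hC : Cz P = P) :
    ∃ x : G, x ∈ P ∧ x ≠ 1 ∧ orderOf x = p ∧ Subgroup.centralizer ({x} : Set G) = Subgroup.zpowers x := by
  have hpp : p.Prime := Fact.out
  obtain ⟨x, hxP, hx1⟩ : ∃ x ∈ P, x ≠ 1 := by
    by_contra hcon
    push Not at hcon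
    have h1 : P = ⊥ := (Subgroup.eq_bot_iff_forall P).mpr hcon
    rw [h1, Subgroup.card_bot] at hP
    exact hpp.one_lt.ne hP
  have hord : orderOf x = p := Cfsg.Agent.Lib.Helper29.DOTI.orderOf_eq_of_mem P hP hxP hx1
  refine ⟨x, hxP, hx1, hord, ?_⟩
  rw [Cfsg.Agent.Lib.Helper6.BRCOUT.centralizer_singleton_eq P hP hxP hx1, hC]
  have hle : Subgroup.zpowers x ≤ P := (Subgroup.zpowers_le).mpr hxP
  have hcard : Nat.card P ≤ Nat.card (Subgroup.zpowers x) := by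
    rw [Nat.card_zpowers, hord, hP]
  exact (Subgroup.eq_of_le_of_card_ge hle hcard).symm

end Cfsg.Agent.Lib.Helper19.BTGEN
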