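/-
helper19: S0997 (BT market), leaf BT-OUT (notes/S0997_leaves.lean): helper6's `BRCOUT.normY` / `out_zero` with `Special` replaced by what their
proofs use (`B0X`, `|P| = p`, Sylow, `C_G(P) = P`).  The proofs are helper6's, verbatim.
-/
import Mathlib
import Cfsg.Prelude.Def_BlockRank
import Cfsg.Agent.Lib.Helper6.BRHDefs
import Cfsg.Agent.Lib.Helper24.BRCDefs
import Cfsg.Agent.Lib.Helper6.BRCOUT

set_option autoImplicit false
set_option linter.unusedSectionVars false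

namespace Cfsg.Agent.Lib.Helper19.BTOUT

open Cfsg Cfsg.Agent.Lib.Helper8.DOM Cfsg.Agent.Lib.Helper27.DO Cfsg.Agent.CharLib
open Cfsg.Agent.Lib.Helper6.BRH Cfsg.Agent.Lib.Helper24.BRC
open Cfsg.Agent.Lib.Helper6.BRCTools Cfsg.Agent.Lib.Helper6.BRCOUT
open scoped ComplexConjugate

universe u

variable {G : Type u} [Group G] [Finite G] {p : ℕ} [Fact p.Prime]

variable {X Y : Set (IrrCharacter G)} {v : IrrCharacter G → ℤ} {ε : ℤ}

/-- helper6's `normY` without `Special` -/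
theorem normY' (P : Subgroup G) (hP : Nat.card P = p) (hSyl : ¬ p ∣ P.index) (hC : Cz P = P)
    (bx : B0X p P X Y v ε) :
    ∀ ψ ∈ Y, ∑ᶠ x ∈ {x : G | x ∈ P ∧ x ≠ 1}, Complex.normSq ((ψ : G → ℂ) x) =
      (fI P : ℝ) * ((p : ℝ) - (fI P : ℝ)) := by
  classical
  let _ : Fintype G := Fintype.ofFinite G
  let _ : Fintype (IrrCharacter G) := Fintype.ofFinite _
  intro ψ hψ
  have hpp : p.Prime := Fact.out
  have d := bx.b0
  set f := fI P with hfdef
  have hXfin : X.Finite := Set.toFinite X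
  set Xf := hXfin.toFinset with hXf
  have hmemX : ∀ η, η ∈ Xf ↔ η ∈ X := fun η => Set.Finite.mem_toFinset hXfin
  have hcardX : Xf.card = f := by
    show Xf.card = (Cz P).relIndex (Nz P)
    rw [← d.cardX, Nat.card_coe_set_eq, Set.ncard_eq_toFinset_card X hXfin]
  have hψX : ψ ∉ Xf := fun h => (Set.disjoint_left.mp d.disj ((hmemX ψ).mp h)) hψ
  have hεsq : (ε : ℂ) * (ε : ℂ) = 1 := by
    rcases d.sgn with h | h <;> rw [h] <;> norm_num
  have hvsq : ∀ η ∈ Xf, (v η : ℂ) * (v η : ℂ) = 1 := by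
    intro η hη
    rcases d.sgnX η ((hmemX η).mp hη) with h | h <;> rw [h] <;> norm_num
  -- the coefficients
  set c : IrrCharacter G → ℂ := fun χ => if χ = ψ then -(ε : ℂ) else (v χ : ℂ) with hcdef
  set Φ : G → ℂ := ∑ χ ∈ insert ψ Xf, c χ • (χ : G → ℂ) with hΦdef
  have hΦ : ∀ g : G, Φ g = ∑ᶠ χ ∈ X, (v χ : ℂ) * (χ : G → ℂ) g - (ε : ℂ) * (ψ : G → ℂ) g := by
    intro g
    rw [hΦdef, Finset.sum_insert hψX, finsum_mem_eq_finite_toFinset_sum _ hXfin]
    simp only [Pi.add_apply, Pi.smul_apply, Finset.sum_apply, smul_eq_mul]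
    rw [hcdef]
    simp only [if_true]
    have h1 : ∑ χ ∈ Xf, (if χ = ψ then -(ε : ℂ) else (v χ : ℂ)) * (χ : G → ℂ) g =
        ∑ χ ∈ Xf, (v χ : ℂ) * (χ : G → ℂ) g := by
      apply Finset.sum_congr rfl
      intro χ hχ
      rw [if_neg (fun h : χ = ψ => hψX (by rw [← h]; exact hχ))]
    rw [h1]
    ring
  have hΦreg : ∀ g : G, ¬ p ∣ orderOf g → Φ g = 0 := by
    intro g hg
    rw [hΦ g, ← bx.relY ψ hψ g hg, sub_self]
  have hΦsing : ∀ g : G, p ∣ orderOf g → Φ g = (f : ℂ) - (ε : ℂ) * (ψ : G → ℂ) g := by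
    intro g hg
    rw [hΦ g, finsum_mem_eq_finite_toFinset_sum _ hXfin]
    have h1 : ∑ χ ∈ Xf, (v χ : ℂ) * (χ : G → ℂ) g = ∑ _χ ∈ Xf, (1 : ℂ) := by
      apply Finset.sum_congr rfl
      intro χ hχ
      rw [d.valX χ ((hmemX χ).mp hχ) g hg, hvsq χ hχ]
    rw [h1, Finset.sum_const, hcardX, nsmul_eq_mul, mul_one]
  have hΦcf : IsClassFunction G Φ := by
    rw [hΦdef]
    apply IsClassFunction.sum
    intro χ _
    exact IsClassFunction.smul _ (IsCharacter.isClassFunction (IsIrrCharacter.isCharacter χ.2))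
  -- the norm of `Φ`
  have hnorm : ∑ g : G, Φ g * conj (Φ g) = (Nat.card G : ℂ) * ((f : ℂ) + 1) := by
    have h1 := classInner_comb (insert ψ Xf) c
    rw [← hΦdef] at h1
    have h2 : ∑ χ ∈ insert ψ Xf, c χ * conj (c χ) = (f : ℂ) + 1 := by
      rw [Finset.sum_insert hψX, hcdef]
      simp only [if_true]
      have h3 : ∑ χ ∈ Xf, (if χ = ψ then -(ε : ℂ) else (v χ : ℂ)) *
          conj (if χ = ψ then -(ε : ℂ) else (v χ : ℂ)) = ∑ _χ ∈ Xf, (1 : ℂ) := by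
        apply Finset.sum_congr rfl
        intro χ hχ
        rw [if_neg (fun h : χ = ψ => hψX (by rw [← h]; exact hχ)), map_intCast, hvsq χ hχ]
      rw [h3, Finset.sum_const, hcardX, nsmul_eq_mul, mul_one, map_neg, map_intCast]
      linear_combination hεsq
    rw [h2] at h1
    unfold classInner at h1
    have hG0 : (Nat.card G : ℂ) ≠ 0 := Nat.cast_ne_zero.mpr Nat.card_pos.ne'
    rw [← h1, ← mul_assoc, mul_inv_cancel₀ hG0, one_mul]
  -- the sum over the singular elements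
  have hF : IsClassFunction G (fun g => Φ g * conj (Φ g)) := by
    intro g k
    show Φ (k * g * k⁻¹) * conj (Φ (k * g * k⁻¹)) = Φ g * conj (Φ g)
    rw [hΦcf g k]
  have hsum := sum_singular P hP hSyl hC (fun g => Φ g * conj (Φ g)) hF (by
    intro g hg
    show Φ g * conj (Φ g) = 0
    rw [hΦreg g hg, zero_mul])
  rw [hnorm] at hsum
  -- the sum over `P#`
  have hAfin : {x : G | x ∈ P ∧ x ≠ 1}.Finite := Set.toFinite _
  set Af := hAfin.toFinset with hAf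
  have hcardA : Af.card = p - 1 := card_Psharp P hP
  have hmemA : ∀ x, x ∈ Af ↔ (x ∈ P ∧ x ≠ 1) := fun x => Set.Finite.mem_toFinset hAfin
  have hsingA : ∀ x ∈ Af, p ∣ orderOf x := by
    intro x hx
    rw [Cfsg.Agent.Lib.Helper29.DOTI.orderOf_eq_of_mem P hP ((hmemA x).mp hx).1
      ((hmemA x).mp hx).2]
  have hpsum : ∑ x ∈ Af, (ψ : G → ℂ) x = -(ε : ℂ) * (f : ℂ) := by
    rw [← d.psumY ψ hψ, finsum_mem_eq_finite_toFinset_sum _ hAfin]
  have hpsumc : ∑ x ∈ Af, conj ((ψ : G → ℂ) x) = -(ε : ℂ) * (f : ℂ) := by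
    rw [← map_sum, hpsum, map_mul, map_neg, map_intCast, Complex.conj_natCast]
  set S : ℂ := ∑ x ∈ Af, (ψ : G → ℂ) x * conj ((ψ : G → ℂ) x) with hSdef
  have hP1 : ∑ᶠ x ∈ {x : G | x ∈ P ∧ x ≠ 1}, Φ x * conj (Φ x) =
      ((p : ℂ) + 1) * (f : ℂ) ^ 2 + S := by
    rw [finsum_mem_eq_finite_toFinset_sum _ hAfin]
    have h1 : ∀ x ∈ Af, Φ x * conj (Φ x) =
        (f : ℂ) ^ 2 - (f : ℂ) * (ε : ℂ) * conj ((ψ : G → ℂ) x) - (f : ℂ) * (ε : ℂ) * (ψ : G → ℂ) x +
          (ψ : G → ℂ) x * conj ((ψ : G → ℂ) x) := by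
      intro x hx
      rw [hΦsing x (hsingA x hx), map_sub, map_mul, map_intCast, Complex.conj_natCast]
      linear_combination ((ψ : G → ℂ) x * conj ((ψ : G → ℂ) x)) * hεsq
    rw [Finset.sum_congr rfl h1, Finset.sum_add_distrib, Finset.sum_sub_distrib,
      Finset.sum_sub_distrib, Finset.sum_const, ← Finset.mul_sum, ← Finset.mul_sum, hpsum, hpsumc,
      hcardA, nsmul_eq_mul, Nat.cast_sub hpp.one_le, Nat.cast_one, ← hSdef]
    linear_combination (2 * (f : ℂ) ^ 2) * hεsq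
  rw [hP1] at hsum
  have hp0 : (p : ℂ) ≠ 0 := Nat.cast_ne_zero.mpr hpp.ne_zero
  have hG0 : (Nat.card G : ℂ) ≠ 0 := Nat.cast_ne_zero.mpr Nat.card_pos.ne'
  have hSval : S = (f : ℂ) * ((p : ℂ) - (f : ℂ)) := by
    have h1 : (f : ℂ) * ((f : ℂ) + 1) * (p : ℂ) = ((p : ℂ) + 1) * (f : ℂ) ^ 2 + S := by
      have h2 : (Nat.card G : ℂ) * ((f : ℂ) * ((f : ℂ) + 1) * (p : ℂ)) =
          (Nat.card G : ℂ) * (((p : ℂ) + 1) * (f : ℂ) ^ 2 + S) := by
        have h3 : (Nat.card G : ℂ) * (p : ℂ)⁻¹ * (((p : ℂ) + 1) * (f : ℂ) ^ 2 + S) * (p : ℂ) =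
            (Nat.card G : ℂ) * (((p : ℂ) + 1) * (f : ℂ) ^ 2 + S) := by
          field_simp
        rw [← h3, ← hsum]
        ring
      exact mul_left_cancel₀ hG0 h2
    linear_combination -h1
  -- back to the reals
  have hreal : ((∑ᶠ x ∈ {x : G | x ∈ P ∧ x ≠ 1}, Complex.normSq ((ψ : G → ℂ) x) : ℝ) : ℂ) = S := by
    rw [finsum_mem_eq_finite_toFinset_sum _ hAfin, hSdef]
    push_cast
    apply Finset.sum_congr rfl
    intro x _
    rw [Complex.mul_conj]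
  have hfin : ((∑ᶠ x ∈ {x : G | x ∈ P ∧ x ≠ 1}, Complex.normSq ((ψ : G → ℂ) x) : ℝ) : ℂ) =
      (((f : ℝ) * ((p : ℝ) - (f : ℝ)) : ℝ) : ℂ) := by
    rw [hreal, hSval]
    push_cast
    rfl
  exact_mod_cast hfin

/-- BT-OUT. -/
theorem out_zero (P : Subgroup G) (hP : Nat.card P = p) (hSyl : ¬ p ∣ P.index) (hC : Cz P = P) (bx : B0X p P X Y v ε) :
    ∀ χ : IrrCharacter G, χ ∉ X ∪ Y → ∀ x ∈ P, x ≠ 1 → (χ : G → ℂ) x = 0 := by
  classical
  have hnormY := normY' P hP hSyl hC bx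
  let _ : Fintype G := Fintype.ofFinite G
  let _ : Fintype (IrrCharacter G) := Fintype.ofFinite _
  have hpp : p.Prime := Fact.out
  have d := bx.b0
  set f := fI P with hfdef
  have hXfin : X.Finite := Set.toFinite X
  have hYfin : Y.Finite := Set.toFinite Y
  set Xf := hXfin.toFinset with hXf
  set Yf := hYfin.toFinset with hYf
  have hmemX : ∀ η, η ∈ Xf ↔ η ∈ X := fun η => Set.Finite.mem_toFinset hXfin
  have hmemY : ∀ η, η ∈ Yf ↔ η ∈ Y := fun η => Set.Finite.mem_toFinset hYfin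
  have hcardX : Xf.card = f := by
    show Xf.card = (Cz P).relIndex (Nz P)
    rw [← d.cardX, Nat.card_coe_set_eq, Set.ncard_eq_toFinset_card X hXfin]
  have hcardY : Yf.card = (p - 1) / f := by
    show Yf.card = (p - 1) / (Cz P).relIndex (Nz P)
    rw [← d.cardY, Nat.card_coe_set_eq, Set.ncard_eq_toFinset_card Y hYfin]
  have hdisj : Disjoint Xf Yf := by
    rw [Finset.disjoint_left]
    intro η h1 h2
    exact (Set.disjoint_left.mp d.disj ((hmemX η).mp h1)) ((hmemY η).mp h2)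
  have hAfin : {x : G | x ∈ P ∧ x ≠ 1}.Finite := Set.toFinite _
  set Af := hAfin.toFinset with hAf
  have hcardA : Af.card = p - 1 := card_Psharp P hP
  have hmemA : ∀ x, x ∈ Af ↔ (x ∈ P ∧ x ≠ 1) := fun x => Set.Finite.mem_toFinset hAfin
  have hsingA : ∀ x ∈ Af, p ∣ orderOf x := by
    intro x hx
    rw [Cfsg.Agent.Lib.Helper29.DOTI.orderOf_eq_of_mem P hP ((hmemA x).mp hx).1
      ((hmemA x).mp hx).2]
  -- column orthogonality
  have hcol : ∀ x ∈ Af, ∑ χ : IrrCharacter G, Complex.normSq ((χ : G → ℂ) x) = (p : ℝ) := by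
    intro x hx
    have h1 := sum_irr_mul_conj x x
    have h2 : classIndicator x x = 1 := by
      unfold classIndicator
      rw [if_pos (IsConj.refl x)]
    rw [h2, one_mul, centralizer_singleton_eq P hP ((hmemA x).mp hx).1 ((hmemA x).mp hx).2,
      hC, hP] at h1
    have h3 : ((∑ χ : IrrCharacter G, Complex.normSq ((χ : G → ℂ) x) : ℝ) : ℂ) = ((p : ℝ) : ℂ) := by
      push_cast
      rw [← h1]
      apply Finset.sum_congr rfl
      intro χ _
      rw [Complex.mul_conj]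
    exact_mod_cast h3
  set T : IrrCharacter G → ℝ := fun χ => ∑ x ∈ Af, Complex.normSq ((χ : G → ℂ) x) with hT
  have hTnn : ∀ χ, 0 ≤ T χ := fun χ => Finset.sum_nonneg (fun x _ => Complex.normSq_nonneg _)
  have htotal : ∑ χ : IrrCharacter G, T χ = ((p - 1 : ℕ) : ℝ) * (p : ℝ) := by
    rw [hT]
    simp only
    rw [Finset.sum_comm, Finset.sum_congr rfl hcol, Finset.sum_const, hcardA, nsmul_eq_mul]
  have hTX : ∑ χ ∈ Xf, T χ = (f : ℝ) * ((p - 1 : ℕ) : ℝ) := by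
    have h1 : ∀ χ ∈ Xf, T χ = ((p - 1 : ℕ) : ℝ) := by
      intro χ hχ
      rw [hT]
      simp only
      have h2 : ∀ x ∈ Af, Complex.normSq ((χ : G → ℂ) x) = 1 := by
        intro x hx
        rw [d.valX χ ((hmemX χ).mp hχ) x (hsingA x hx)]
        rcases d.sgnX χ ((hmemX χ).mp hχ) with h | h <;> rw [h] <;> simp
      rw [Finset.sum_congr rfl h2, Finset.sum_const, hcardA, nsmul_eq_mul, mul_one]
    rw [Finset.sum_congr rfl h1, Finset.sum_const, hcardX, nsmul_eq_mul]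
  have hft : (p - 1) / f * f = p - 1 := Nat.div_mul_cancel d.dvd
  have hTY : ∑ χ ∈ Yf, T χ = ((p - 1 : ℕ) : ℝ) * ((p : ℝ) - (f : ℝ)) := by
    have h1 : ∀ χ ∈ Yf, T χ = (f : ℝ) * ((p : ℝ) - (f : ℝ)) := by
      intro χ hχ
      rw [hT]
      simp only
      rw [← hnormY χ ((hmemY χ).mp hχ), finsum_mem_eq_finite_toFinset_sum _ hAfin]
    rw [Finset.sum_congr rfl h1, Finset.sum_const, hcardY, nsmul_eq_mul, ← mul_assoc]
    congr 1
    exact_mod_cast hft
  have hrest : ∑ χ ∈ (Finset.univ \ (Xf ∪ Yf)), T χ = 0 := by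
    have h1 := Finset.sum_sdiff (f := T) (Finset.subset_univ (Xf ∪ Yf))
    rw [Finset.sum_union hdisj, htotal, hTX, hTY] at h1
    have hp1 : ((p - 1 : ℕ) : ℝ) = (p : ℝ) - 1 := by
      rw [Nat.cast_sub hpp.one_le, Nat.cast_one]
    rw [hp1] at h1
    linarith
  intro χ hχ x hxP hx1
  have hχmem : χ ∈ Finset.univ \ (Xf ∪ Yf) := by
    rw [Finset.mem_sdiff, Finset.mem_union, hmemX, hmemY]
    exact ⟨Finset.mem_univ _, hχ⟩
  have h1 : T χ = 0 :=
    (Finset.sum_eq_zero_iff_of_nonneg (fun χ _ => hTnn χ)).mp hrest χ hχmem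
  have h2 : Complex.normSq ((χ : G → ℂ) x) = 0 :=
    (Finset.sum_eq_zero_iff_of_nonneg (fun x _ => Complex.normSq_nonneg _)).mp h1 x
      ((hmemA x).mpr ⟨hxP, hx1⟩)
  exact Complex.normSq_eq_zero.mp h2

end Cfsg.Agent.Lib.Helper19.BTOUT
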