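/-
helper19: S0997 (BT market), leaf BT-SETUP (notes/S0997_leaves.lean): the set-up of a non-cyclic simple group of order `p q^b g₀`, `g₀ < p - 1`.
-/
import Mathlib
import Cfsg.Prelude.Def_BlockRank
import Cfsg.Prelude.Def_CaseTheorems
import Cfsg.Agent.Lib.Helper6.BRHDefs
import Cfsg.Agent.Lib.Helper24.BRCDefs
import Cfsg.Agent.Lib.Helper5.BRWNPOS
import Cfsg.Agent.Lib.Helper11.BRCW999

set_option autoImplicit false

namespace Cfsg.Agent.Lib.Helper19.BTSETUP

open Cfsg Cfsg.Agent.Lib.Helper8.DOM Cfsg.Agent.Lib.Helper27.DO Cfsg.Agent.CharLib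
open Cfsg.Agent.Lib.Helper6.BRH Cfsg.Agent.Lib.Helper24.BRC
open scoped ComplexConjugate

universe u

variable {G : Type u} [Group G] [Finite G] {p : ℕ} [Fact p.Prime]

/-- BT-SETUP. -/
theorem setup [IsSimpleGroup G] (hG : ¬ IsCyclic G) (q b g₀ : ℕ) (hq : q.Prime) (hpq : p ≠ q)
    (hcard : Nat.card G = p * q ^ b * g₀) (hg : g₀ < p - 1) :
    commutator G = ⊤ ∧ pPrimeCore p G = ⊥ ∧ Subgroup.center G = ⊥ ∧
      ∃ P : Subgroup G, Nat.card P = p ∧ ¬ p ∣ P.index ∧
        ∃ n : ℕ, 1 ≤ n ∧ Nat.card (Sylow p G) = 1 + n * p ∧ (Nz P).index = 1 + n * p := by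
  have hpp : p.Prime := Fact.out
  have hperf : commutator G = ⊤ := Cfsg.Agent.Lib.Helper11.BRCW999.commutator_eq_top_of_simple hG
  have hdvd : p ∣ Nat.card G := by
    rw [hcard, mul_assoc]
    exact Dvd.intro _ rfl
  have hcore : pPrimeCore p G = ⊥ := by
    unfold pPrimeCore
    rw [sSup_eq_bot]
    rintro K ⟨hK, hcop⟩
    rcases hK.eq_bot_or_eq_top with h | h
    · exact h
    · exfalso
      rw [h, Subgroup.card_top] at hcop
      have := Nat.Coprime.eq_one_of_dvd hcop.symm hdvd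
      exact hpp.one_lt.ne' this
  have hZ : Subgroup.center G = ⊥ := by
    rcases (inferInstance : (Subgroup.center G).Normal).eq_bot_or_eq_top with h | h
    · exact h
    · exfalso
      apply hG
      apply Cfsg.Agent.Lib.Helper11.BRCW999.isCyclic_of_simple_of_comm
      intro a c
      have ha : a ∈ Subgroup.center G := by rw [h]; exact Subgroup.mem_top a
      exact (Subgroup.mem_center_iff.mp ha c).symm
  -- the Sylow subgroup
  have hg0 : 0 < g₀ := by
    rcases Nat.eq_zero_or_pos g₀ with h | h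
    · exfalso
      rw [h, mul_zero] at hcard
      exact Nat.card_pos.ne' hcard
    · exact h
  have hpg : ¬ p ∣ q ^ b * g₀ := by
    intro h
    rcases (Nat.Prime.dvd_mul hpp).mp h with h1 | h1
    · exact hpq ((Nat.prime_dvd_prime_iff_eq hpp hq).mp (hpp.dvd_of_dvd_pow h1))
    · have := Nat.le_of_dvd hg0 h1
      omega
  have hfac : (Nat.card G).factorization p = 1 := by
    have h0 : q ^ b * g₀ ≠ 0 := by
      have := hq.pos
      positivity
    rw [hcard, mul_assoc, Nat.factorization_mul hpp.ne_zero h0, Finsupp.add_apply,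
      hpp.factorization_self, Nat.factorization_eq_zero_of_not_dvd hpg]
  let S : Sylow p G := default
  have hS : Nat.card (S : Subgroup G) = p := by
    rw [S.card_eq_multiplicity, hfac, pow_one]
  have hSyl : ¬ p ∣ (S : Subgroup G).index := by
    intro h
    have h1 := Subgroup.card_mul_index (S : Subgroup G)
    rw [hS, hcard, mul_assoc] at h1
    have h2 : (S : Subgroup G).index = q ^ b * g₀ := Nat.eq_of_mul_eq_mul_left hpp.pos h1
    rw [h2] at h
    exact hpg h
  refine ⟨hperf, hcore, hZ, (S : Subgroup G), hS, hSyl, ?_⟩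
  have hmod : Nat.card (Sylow p G) ≡ 1 [MOD p] := card_sylow_modEq_one p G
  have hidxS : Nat.card (Sylow p G) = (Nz (S : Subgroup G)).index := by
    rw [Sylow.card_eq_index_normalizer S]
    rfl
  have hpos : 0 < Nat.card (Sylow p G) := Nat.card_pos
  obtain ⟨n, hn⟩ : ∃ n : ℕ, Nat.card (Sylow p G) = 1 + n * p := by
    have h1 : p ∣ Nat.card (Sylow p G) - 1 := (Nat.modEq_iff_dvd' hpos).mp hmod.symm
    obtain ⟨n, hn⟩ := h1
    exact ⟨n, by rw [mul_comm n p]; omega⟩
  have hidx : (Nz (S : Subgroup G)).index = 1 + n * p := by rw [← hidxS, hn]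
  exact ⟨n, Cfsg.Agent.Lib.Helper5.BRWNPOS.one_le_n hperf (S : Subgroup G) hS hSyl n hidx, hn, hidx⟩

end Cfsg.Agent.Lib.Helper19.BTSETUP
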