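/-
helper19: S0997 (Brauer-Tuan 1945), the ASSEMBLY over the BT leaves (frozen statements + the complete paper proof in notes/S0997_leaves.lean).
Leaves by helper1 (CLASSPOS), helper2 (DEGNEG), helper4 (CARD, ZCENT, FIX, ORBIT), helper16 (STRUCT, TWOADIC, FTWO, NEGEX, ARITHEND),
helper19 (SETUP, GEN, OUT), helper22 (CZ), helper29 (STEP1, SUMX, EPSPOS [+ FAITH], EPSARITH); the closing of the case eps = -1 is helper21's.
-/
import Mathlib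
import Cfsg.Prelude.Def_BlockRank
import Cfsg.Prelude.Def_CaseTheorems
import Cfsg.Agent.Lib.Helper6.BRHDefs
import Cfsg.Agent.Lib.Helper6.BRHB0X
import Cfsg.Agent.Lib.Helper16.BRWB0T1
import Cfsg.Agent.Lib.Helper24.BRCDefs
import Cfsg.Agent.Lib.Helper8.BRWBURN
import Cfsg.Agent.Lib.Helper23.FaithfulDefect
import Cfsg.Agent.Lib.Helper24.IrrFacts
import Cfsg.Agent.Lib.Helper29.DOTI
import Cfsg.Agent.Lib.Helper16.BTARITHEND
import Cfsg.Agent.Lib.Helper16.BTFTWO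
import Cfsg.Agent.Lib.Helper16.BTNEGEX
import Cfsg.Agent.Lib.Helper16.BTSTRUCT
import Cfsg.Agent.Lib.Helper16.BTTWOADIC
import Cfsg.Agent.Lib.Helper22.BTCZ
import Cfsg.Agent.Lib.Helper29.BTEPSARITH
import Cfsg.Agent.Lib.Helper29.BTEPSPOS
import Cfsg.Agent.Lib.Helper29.BTSTEP1
import Cfsg.Agent.Lib.Helper29.BTSUMX
import Cfsg.Agent.Lib.Helper4.BTCARD
import Cfsg.Agent.Lib.Helper4.BTFIX
import Cfsg.Agent.Lib.Helper4.BTORBIT
import Cfsg.Agent.Lib.Helper4.BTZCENT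
import Cfsg.Agent.Lib.Helper19.BTGEN
import Cfsg.Agent.Lib.Helper19.BTSETUP
import Cfsg.Agent.Lib.Helper19.BTOUT
import Cfsg.Agent.Lib.Helper1.BTCLASSPOS
import Cfsg.Agent.Lib.Helper2.BTDEGNEG
import Cfsg.Agent.Lib.Helper22.BRCFDVD
import Cfsg.Agent.Lib.Helper6.Knoerr
import Cfsg.Agent.S0996

set_option autoImplicit false

namespace Cfsg.Agent.Lib.Helper19.BTAsm

open Cfsg Cfsg.Agent.Lib.Helper8.DOM Cfsg.Agent.Lib.Helper27.DO Cfsg.Agent.CharLib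
open Cfsg.Agent.Lib.Helper6.BRH Cfsg.Agent.Lib.Helper24.BRC
open Cfsg.Agent.Lib.Helper16.BTARITHEND Cfsg.Agent.Lib.Helper16.BTFTWO Cfsg.Agent.Lib.Helper16.BTNEGEX
open Cfsg.Agent.Lib.Helper16.BTSTRUCT Cfsg.Agent.Lib.Helper16.BTTWOADIC Cfsg.Agent.Lib.Helper22.BTCZ
open Cfsg.Agent.Lib.Helper29.BTEPSARITH Cfsg.Agent.Lib.Helper29.BTEPSPOS Cfsg.Agent.Lib.Helper29.BTSTEP1
open Cfsg.Agent.Lib.Helper29.BTSUMX Cfsg.Agent.Lib.Helper4.BTCARD Cfsg.Agent.Lib.Helper4.BTFIX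
open Cfsg.Agent.Lib.Helper4.BTORBIT Cfsg.Agent.Lib.Helper4.BTZCENT Cfsg.Agent.Lib.Helper19.BTGEN
open Cfsg.Agent.Lib.Helper19.BTSETUP
open scoped ComplexConjugate

universe u

variable {G : Type u} [Group G] [Finite G] {p : ℕ} [Fact p.Prime]

variable {X Y : Set (IrrCharacter G)} {v : IrrCharacter G → ℤ} {ε : ℤ}

/-- the case `ε = 1` -/
theorem concl_pos [IsSimpleGroup G] (hG : ¬ IsCyclic G) (q b g₀ : ℕ) (hq : q.Prime)
    (hcard : Nat.card G = p * q ^ b * g₀) (hg : g₀ < p - 1) (hZ : Subgroup.center G = ⊥)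
    (P : Subgroup G) (hP : Nat.card P = p) (hSyl : ¬ p ∣ P.index) (hflt : fI P < p - 1)
    (ψ : IrrCharacter G) (hψ : ψ ≠ trivIrr G) (hdeg : charDegree (ψ : G → ℂ) = fI P)
    (hdvd : charDegree (ψ : G → ℂ) ∣ g₀) :
    ∃ (m : ℕ) (F : Type) (_ : Field F) (_ : Fintype F), Fintype.card F = p ∧ (p = 2 ^ m + 1 ∨ p = 2 ^ m - 1) ∧
      Nonempty (G ≃* Matrix.ProjectiveSpecialLinearGroup (Fin 2) F) := by
  have hpp : p.Prime := Fact.out
  haveI : NeZero p := ⟨hpp.ne_zero⟩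
  obtain ⟨h2f, ⟨e⟩⟩ := psl_of_eps_pos hG hZ P hP hSyl (Cfsg.Agent.Lib.Helper22.BRCFDVD.fI_dvd P hP) hflt ψ hψ hdeg
  have hm := mersenne_of_psl q b g₀ (fI P) hq hcard hg h2f (hdeg ▸ hdvd) e
  exact ⟨b, ZMod p, inferInstance, inferInstance, ZMod.card p, Or.inr hm, ⟨e⟩⟩

/-- the case `ε = -1` -/
theorem concl_neg [IsSimpleGroup G] (hperf : commutator G = ⊤) (hcore : pPrimeCore p G = ⊥)
    (hZ : Subgroup.center G = ⊥) (q b g₀ : ℕ) (hq : q.Prime) (hpq : p ≠ q)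
    (hcard : Nat.card G = p * q ^ b * g₀) (hg : g₀ < p - 1)
    (P : Subgroup G) (hP : Nat.card P = p) (hSyl : ¬ p ∣ P.index) (n : ℕ)
    (hsyl : Nat.card (Sylow p G) = 1 + n * p) (hidx : (Nz P).index = 1 + n * p)
    (hf2 : 2 ≤ fI P) (hflt : fI P < p - 1) (bx : B0X p P X Y v ε)
    (hdX : ∀ η ∈ X, (charDegree (η : G → ℂ) : ℤ) ≡ v η [ZMOD p]) (hε : ε = -1)
    (hqX : ∀ η ∈ X, η ≠ trivIrr G → q ∣ charDegree (η : G → ℂ))
    (ψ : IrrCharacter G) (hψ : ψ ∈ Y) (hψg : charDegree (ψ : G → ℂ) ∣ g₀)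
    (hdegY : ∀ ψ ∈ Y, charDegree (ψ : G → ℂ) + fI P = p) :
    (∃ (m : ℕ) (F : Type) (_ : Field F) (_ : Fintype F), Fintype.card F = p ∧ (p = 2 ^ m + 1 ∨ p = 2 ^ m - 1) ∧
      Nonempty (G ≃* Matrix.ProjectiveSpecialLinearGroup (Fin 2) F)) ∨
    (∃ (m : ℕ) (F : Type) (_ : Field F) (_ : Fintype F), Fintype.card F = 2 ^ m ∧ p = 2 ^ m + 1 ∧ 3 < p ∧
      Nonempty (G ≃* Matrix.ProjectiveSpecialLinearGroup (Fin 2) F)) := by
  classical
  have hpp : p.Prime := Fact.out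
  have b0 := bx.b0
  have hfdvd : fI P ∣ p - 1 := Cfsg.Agent.Lib.Helper22.BRCFDVD.fI_dvd P hP
  obtain ⟨S, hSmem, hScard, hSsum⟩ := exists_finset_X P hP b0
  set dd := charDegree (ψ : G → ℂ) with hdd
  have hddf : dd + fI P = p := hdegY ψ hψ
  have hsum : -(dd : ℤ) = 1 + ∑ η ∈ S, v η * (charDegree (η : G → ℂ) : ℤ) := by
    have h := hSsum ψ hψ
    rw [hε] at h
    rw [← h]
    ring
  have hs : ∀ η ∈ S, v η = 1 ∨ v η = -1 := fun η hη => b0.sgnX η ((hSmem η).mp hη).1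
  -- `q ∣ dd + 1`
  have hmod : q ∣ dd + 1 := by
    have h1 : (q : ℤ) ∣ ∑ η ∈ S, v η * (charDegree (η : G → ℂ) : ℤ) := by
      apply Finset.dvd_sum
      intro η hη
      have h2 := hqX η ((hSmem η).mp hη).1 ((hSmem η).mp hη).2
      exact Dvd.dvd.mul_left (by exact_mod_cast h2) _
    have h3 : ((dd + 1 : ℕ) : ℤ) = -(∑ η ∈ S, v η * (charDegree (η : G → ℂ) : ℤ)) := by
      push_cast
      linarith
    have h4 : (q : ℤ) ∣ ((dd + 1 : ℕ) : ℤ) := by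
      rw [h3]
      exact (dvd_neg).mpr h1
    exact_mod_cast h4
  obtain ⟨c, hCz, hcard2⟩ := card_eq P hP n hidx
  obtain ⟨hq2, hg0, a, ha, hfa⟩ := struct_arith (p := p) (Nat.card G) q b g₀ (fI P) dd c n hq hcard hcard2
    Nat.card_pos hg hψg hddf hf2 hfdvd hflt hmod
  subst hq2
  subst hg0
  have hp2 : p ≠ 2 := hpq
  have heven : ∀ η ∈ X, η ≠ trivIrr G → 2 ∣ charDegree (η : G → ℂ) := hqX
  have hdvdG : ∀ η : IrrCharacter G, charDegree (η : G → ℂ) ∣ p * 2 ^ b * dd := by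
    intro η
    rw [← hcard]
    exact Cfsg.Agent.Lib.Helper24.irr_charDegree_dvd_card η
  -- `v 1_G = 1`
  obtain ⟨x0, hx0P, hx01⟩ : ∃ x0 ∈ P, x0 ≠ 1 := by
    by_contra hcon
    push Not at hcon
    have h1 : P = ⊥ := (Subgroup.eq_bot_iff_forall P).mpr hcon
    rw [h1, Subgroup.card_bot] at hP
    exact hpp.one_lt.ne hP
  have hx0s : p ∣ orderOf x0 := by
    rw [Cfsg.Agent.Lib.Helper29.DOTI.orderOf_eq_of_mem P hP hx0P hx01]
  have hvtriv : v (trivIrr G) = 1 := by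
    have h0 := b0.valX (trivIrr G) b0.trivX x0 hx0s
    have h1 : ((trivIrr G : IrrCharacter G) : G → ℂ) x0 = 1 := rfl
    rw [h1] at h0
    exact_mod_cast h0.symm
  have hne_of_neg : ∀ η, v η = -1 → η ≠ trivIrr G := by
    intro η hv h
    rw [h, hvtriv] at hv
    norm_num at hv
  -- `f = 2` or `2 f + 1 = p`
  have hcases := two_adic (p := p) S (fun η => charDegree (η : G → ℂ)) v a b dd (fI P) ha hfa hfdvd hflt hddf hs
    (fun η hη => hdX η ((hSmem η).mp hη).1) (fun η hη => heven η ((hSmem η).mp hη).1 ((hSmem η).mp hη).2)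
    (fun η _ => hdvdG η) hsum
  -- every `η` with `v η = -1` has degree `p - 1 = 2 ^ e`
  have hnegdeg : (∀ η ∈ X, v η = -1 → charDegree (η : G → ℂ) = p - 1) ∧ ∃ e : ℕ, p - 1 = 2 ^ e := by
    rcases hcases with hf | hf
    · have hS1 : S.card = 1 := by omega
      have hddf2 : dd + 2 = p := by rw [← hf]; exact hddf
      obtain ⟨h1, h2⟩ := f_two_arith (p := p) S hS1 (fun η => charDegree (η : G → ℂ)) v b dd hddf2 hs
        (fun η _ => hdvdG η) hsum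
      exact ⟨fun η hη hv => h1 η ((hSmem η).mpr ⟨hη, hne_of_neg η hv⟩) hv, h2⟩
    · refine ⟨Cfsg.Agent.Lib.Helper2.BTDEGNEG.deg_of_neg P hP hSyl bx hε hf hdegY heven hdX, a + 1, ?_⟩
      rw [pow_succ, ← hfa]
      omega
  obtain ⟨hnd, e, he⟩ := hnegdeg
  -- `C(P) = P`
  obtain ⟨η0, hη0S, hv0⟩ := exists_neg S (fun η => charDegree (η : G → ℂ)) v dd hs hsum
  have hη0X : η0 ∈ X := ((hSmem η0).mp hη0S).1
  have hC : Cz P = P := Cz_eq hcore P hP hSyl b0 η0 hη0X hv0 (hnd η0 hη0X hv0)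
  have hc1 : c = 1 := by
    rw [hC, hP] at hCz
    have hp0 : 0 < p := hpp.pos
    nlinarith [Nat.eq_of_mul_eq_mul_left hp0 (by rw [mul_one]; exact hCz : p * 1 = p * c)]
  subst hc1
  -- the 2-central involution
  have h2G : 2 ∣ Nat.card G := by
    rw [hcard2, hfa]
    exact Dvd.dvd.mul_right (Dvd.dvd.mul_left (dvd_pow_self 2 (by omega)) _) _
  obtain ⟨z, hz2, hzodd⟩ := exists_two_central h2G
  have hz1 : z ≠ 1 := by
    rintro rfl
    rw [orderOf_one] at hz2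
    omega
  have hvan : ∀ η ∈ X, v η = -1 → (η : G → ℂ) z = 0 := by
    intro η hη hv
    apply Cfsg.Agent.Lib.Helper23.irr_eq_zero_of_coprime_of_faithful η hZ
      (faithful_of_simple' η (hne_of_neg η hv)) z hz1
    rw [hnd η hη hv, he]
    exact Nat.Coprime.pow_left e ((Nat.Prime.coprime_iff_not_dvd Nat.prime_two).mpr hzodd)
  have hout := Cfsg.Agent.Lib.Helper19.BTOUT.out_zero P hP hSyl hC bx
  obtain ⟨x, hxP, hx1, hxord, hxC⟩ := exists_gen P hP hC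
  obtain ⟨z₁, hz₁2, hz₁idx, hinv⟩ := Cfsg.Agent.Lib.Helper1.BTCLASSPOS.exists_inverting hp2 P hP bx hε hout z hz2 hvan x hxP hx1
  have hfix := card_fixedBy_le hp2 P hP hSyl n hidx z₁ x hxP hx1 hinv
  have hcent := card_centralizer_le_mul hp2 P hP hSyl hC z₁ x hz₁2 hxP hx1 hinv
  -- `2 ^ b ≤ f (n + 1)`
  have hle : 2 ^ b ≤ fI P * (n + 1) := by
    have h1 : 2 ^ b ∣ Nat.card (Subgroup.centralizer ({z₁} : Set G)) := by
      have h2 : 2 ^ b ∣ Nat.card (Subgroup.centralizer ({z₁} : Set G)) *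
          (Subgroup.centralizer ({z₁} : Set G)).index := by
        rw [Subgroup.card_mul_index, hcard]
        exact Dvd.dvd.mul_right (Dvd.dvd.mul_left (dvd_refl _) _) _
      have h3 : Nat.Coprime (2 ^ b) (Subgroup.centralizer ({z₁} : Set G)).index := by
        rw [hz₁idx]
        exact Nat.Coprime.pow_left b ((Nat.Prime.coprime_iff_not_dvd Nat.prime_two).mpr hzodd)
      exact h3.dvd_of_dvd_mul_right h2
    have h4 : 2 ^ b ≤ Nat.card (Subgroup.centralizer ({z₁} : Set G)) :=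
      Nat.le_of_dvd Nat.card_pos h1
    calc 2 ^ b ≤ Nat.card (Subgroup.centralizer ({z₁} : Set G)) := h4
      _ ≤ fI P * Nat.card (MulAction.fixedBy (G ⧸ Nz P) z₁) := hcent
      _ ≤ fI P * (n + 1) := Nat.mul_le_mul_left _ hfix
  have hcardeq : p * 2 ^ b * dd = p * fI P * (1 + n * p) := by
    rw [← hcard, hcard2, mul_one]
  obtain ⟨hb, hnlt⟩ := arith_end (p := p) b dd (fI P) n hcardeq hddf hf2 hle
  have hn' : 2 * Nat.card (Sylow p G) < (p + 1) * (p + 2) := by rw [hsyl]; exact hnlt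
  rcases Cfsg.Agent.S0996.result hperf p x hxord hxC hn' with ⟨F, i1, i2, hF, -, hiso⟩ | h
  · refine Or.inl ⟨b, F, i1, i2, hF, Or.inl ?_, hiso⟩
    have := hpp.one_lt
    omega
  · exact Or.inr h

/-- **S0997** (Brauer-Tuan) -/
theorem s0997 {G : Type u} [Group G] [Finite G] [IsSimpleGroup G] (hG : ¬ IsCyclic G) (p q b g₀ : ℕ)
    (hp : p.Prime) (hq : q.Prime) (hpq : p ≠ q) (hG' : Nat.card G = p * q ^ b * g₀) (hg : g₀ < p - 1) :
    (∃ (m : ℕ) (F : Type) (_ : Field F) (_ : Fintype F), Fintype.card F = p ∧ (p = 2 ^ m + 1 ∨ p = 2 ^ m - 1) ∧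
      Nonempty (G ≃* Matrix.ProjectiveSpecialLinearGroup (Fin 2) F)) ∨
    (∃ (m : ℕ) (F : Type) (_ : Field F) (_ : Fintype F), Fintype.card F = 2 ^ m ∧ p = 2 ^ m + 1 ∧ 3 < p ∧
      Nonempty (G ≃* Matrix.ProjectiveSpecialLinearGroup (Fin 2) F)) := by
  classical
  haveI : Fact p.Prime := ⟨hp⟩
  obtain ⟨hperf, hcore, hZ, P, hP, hSyl, n, -, hsyl, hidx⟩ := setup hG q b g₀ hq hpq hG' hg
  have hf2 : 2 ≤ fI P := Cfsg.Agent.Lib.Helper8.BRWBURN.two_le_relIndex hperf P hP hSyl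
  have hfd : fI P ∣ p - 1 := Cfsg.Agent.Lib.Helper22.BRCFDVD.fI_dvd P hP
  have hp2 := hp.two_le
  have hfle : fI P ≤ p - 1 := Nat.le_of_dvd (by omega) hfd
  obtain ⟨M, hM⟩ := Cfsg.Agent.Lib.Helper6.exists_isPModular p
  have hB : ∃ (X Y : Set (IrrCharacter G)) (v : IrrCharacter G → ℤ) (ε : ℤ), B0 p P X Y v ε ∧
      principalBlock M G = X ∪ Y ∧
      (∀ η ∈ X, (charDegree (η : G → ℂ) : ℤ) ≡ v η [ZMOD p]) ∧
      (∀ ξ ∈ Y, (charDegree (ξ : G → ℂ) : ℤ) ≡ ε * ((Cz P).relIndex (Nz P) : ℤ) [ZMOD p]) ∧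
      (∀ ξ ∈ Y, ∀ ξ' ∈ Y, ∀ g : G, ¬ p ∣ orderOf g → (ξ : G → ℂ) g = (ξ' : G → ℂ) g) ∧
      (∀ ξ ∈ Y, ∀ g : G, ¬ p ∣ orderOf g →
        (ε : ℂ) * (ξ : G → ℂ) g = ∑ᶠ χ ∈ X, (v χ : ℂ) * (χ : G → ℂ) g) := by
    by_cases hf : (Cz P).relIndex (Nz P) < p - 1
    · exact Cfsg.Agent.Lib.Helper6.BRHB0X.exists_B0_full hM P hP hSyl hf
    · exact Cfsg.Agent.Lib.Helper16.BRWB0T1.exists_B0_full_eq hM P hP hSyl (by
        have : (Cz P).relIndex (Nz P) ≤ p - 1 := hfle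
        omega)
  obtain ⟨X, Y, v, ε, b0, -, hdX, hdY, hYreg, hrel⟩ := hB
  obtain ⟨hflt, hqX, hY⟩ := step1 hperf q b g₀ hq hpq hG' hg P hP hSyl hf2 b0 hdX hdY
  have hYne : Y.Nonempty := by
    rw [← Set.nonempty_coe_sort]
    have h1 : Nat.card Y ≠ 0 := by
      rw [b0.cardY]
      have h2 : 0 < (Cz P).relIndex (Nz P) := by
        have : 2 ≤ (Cz P).relIndex (Nz P) := hf2
        omega
      exact (Nat.div_pos hfle h2).ne'
    exact (Nat.card_ne_zero.mp h1).1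
  obtain ⟨ψ, hψ⟩ := hYne
  obtain ⟨hψg, hcase⟩ := hY ψ hψ
  rcases hcase with ⟨hε, hdeg⟩ | ⟨hε, -⟩
  · have hψne : ψ ≠ trivIrr G := fun h => Set.disjoint_left.mp b0.disj b0.trivX (h ▸ hψ)
    exact Or.inl (concl_pos hG q b g₀ hq hG' hg hZ P hP hSyl hflt ψ hψne hdeg hψg)
  · refine concl_neg hperf hcore hZ q b g₀ hq hpq hG' hg P hP hSyl n hsyl hidx hf2 hflt ⟨b0, hYreg, hrel⟩ hdX hε hqX
      ψ hψ hψg (fun ψ' hψ' => ?_)
    rcases (hY ψ' hψ').2 with ⟨h, -⟩ | ⟨-, h⟩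
    · rw [hε] at h
      norm_num at h
    · exact h

end Cfsg.Agent.Lib.Helper19.BTAsm
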