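/-
helper19: S0998 from S0997 (assembly over the BT8 leaves).
-/
import Mathlib
import Cfsg.Agent.Lib.Helper5.BT8TWOODD
import Cfsg.Agent.Lib.Helper5.BT8ARITHB
import Cfsg.Agent.Lib.Helper29.BT8ARITHA
import Cfsg.Agent.Lib.Helper19.BTAsm
import Cfsg.Agent.Lib.Helper13.DkMax
import Cfsg.Agent.S0252
import Cfsg.Agent.S0253

set_option autoImplicit false

namespace Cfsg.Agent.Lib.Helper19.BT8Asm

open Cfsg Cfsg.Agent.Lib.Helper5.BT8TWOODD Cfsg.Agent.Lib.Helper5.BT8ARITHB Cfsg.Agent.Lib.Helper29.BT8ARITHA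

universe u

variable {G : Type u} [Group G] [Finite G]

/-- the case `r < p` -/
theorem s0998_aux [IsSimpleGroup G] (hG : ¬ IsCyclic G) (p q r b : ℕ) (hp : p.Prime) (hq : q.Prime) (hr : r.Prime)
    (hpq : p ≠ q) (hqr : q ≠ r) (hrp : r < p) (hG' : Nat.card G = p * r * q ^ b) :
    (∃ (F : Type) (_ : Field F) (_ : Fintype F), Fintype.card F = 5 ∧
      Nonempty (G ≃* Matrix.ProjectiveSpecialLinearGroup (Fin 2) F)) ∨
    (∃ (F : Type) (_ : Field F) (_ : Fintype F), Fintype.card F = 7 ∧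
      Nonempty (G ≃* Matrix.ProjectiveSpecialLinearGroup (Fin 2) F)) := by
  have hr2 := hr.two_le
  by_cases h : r < p - 1
  · have hG'' : Nat.card G = p * q ^ b * r := by rw [hG']; ring
    rcases Cfsg.Agent.Lib.Helper19.BTAsm.s0997 hG p q b r hp hq hpq hG'' h with
      ⟨m, F, i1, i2, hF, hm, ⟨e⟩⟩ | ⟨m, F, i1, i2, hF, hm, h3, ⟨e⟩⟩
    · have hc := Cfsg.Agent.Lib.Helper13.Dk.card_PSL2_mul_gcd (K := F)
      rw [← Nat.card_congr e.toEquiv, hF, hG'] at hc
      have hodd : Odd p := hp.odd_of_ne_two (by omega)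
      have hgcd : Nat.gcd 2 (p - 1) = 2 := by
        obtain ⟨k, hk⟩ := hodd
        have : p - 1 = 2 * k := by omega
        rw [this]
        exact Nat.gcd_mul_right_right k 2 |> fun h => by simpa [Nat.gcd_comm] using Nat.gcd_mul_right_right k 2
      rw [hgcd] at hc
      rcases arith_A p q r b m hp hq hr hpq hqr hrp hm hc with h5 | h7
      · exact Or.inl ⟨F, i1, i2, by rw [hF, h5], ⟨e⟩⟩
      · exact Or.inr ⟨F, i1, i2, by rw [hF, h7], ⟨e⟩⟩
    · have hc := Cfsg.Agent.Lib.Helper13.Dk.card_PSL2_mul_gcd (K := F)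
      rw [← Nat.card_congr e.toEquiv, hF, hG'] at hc
      have hm1 : 1 ≤ m := by
        rcases Nat.eq_zero_or_pos m with h0 | h0
        · subst h0; omega
        · exact h0
      have hgcd : Nat.gcd 2 (2 ^ m - 1) = 1 := by
        have h2 : ¬ 2 ∣ 2 ^ m - 1 := by
          have h4 : 2 ∣ 2 ^ m := dvd_pow_self 2 (by omega)
          have h5 : 0 < 2 ^ m := by positivity
          omega
        exact (Nat.Prime.coprime_iff_not_dvd Nat.prime_two).mpr h2
      rw [hgcd, mul_one] at hc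
      have hm2 := arith_B p q r b m hp hq hr hpq hqr hrp hm h3 hc
      subst hm2
      have hF4 : Fintype.card F = 4 := by rw [hF]; norm_num
      obtain ⟨e4⟩ := Cfsg.Agent.S0252.result hF4
      haveI : Fact (Nat.Prime 5) := ⟨by norm_num⟩
      obtain ⟨e5⟩ := Cfsg.Agent.S0253.result (F := ZMod 5) (ZMod.card 5)
      exact Or.inl ⟨ZMod 5, inferInstance, inferInstance, ZMod.card 5, ⟨(e.trans e4).trans e5.symm⟩⟩
  · exfalso
    have hp2 := hp.two_le
    have hrp' : r = p - 1 := by omega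
    -- consecutive primes
    have hr2' : r = 2 := by
      rcases hr.eq_two_or_odd with h2 | hodd
      · exact h2
      · rcases hp.eq_two_or_odd with hp2' | hpodd
        · omega
        · omega
    have hp3 : p = 3 := by omega
    subst hr2' hp3
    have hq2 : q ≠ 2 := hqr
    have hqodd : ¬ 2 ∣ q := by
      intro h2
      exact hq2 ((Nat.prime_dvd_prime_iff_eq Nat.prime_two hq).mp h2).symm
    refine false_of_card_two_mul_odd hG (3 * q ^ b) (by rw [hG']; ring) ?_
    intro h2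
    rcases (Nat.Prime.dvd_mul Nat.prime_two).mp h2 with h3 | h3
    · omega
    · exact hqodd (Nat.Prime.dvd_of_dvd_pow Nat.prime_two h3)

/-- **S0998** -/
theorem s0998 [IsSimpleGroup G] (hG : ¬ IsCyclic G) (p q r b : ℕ) (hp : p.Prime) (hq : q.Prime) (hr : r.Prime)
    (hpq : p ≠ q) (hpr : p ≠ r) (hqr : q ≠ r) (hG' : Nat.card G = p * r * q ^ b) :
    (∃ (F : Type) (_ : Field F) (_ : Fintype F), Fintype.card F = 5 ∧
      Nonempty (G ≃* Matrix.ProjectiveSpecialLinearGroup (Fin 2) F)) ∨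
    (∃ (F : Type) (_ : Field F) (_ : Fintype F), Fintype.card F = 7 ∧
      Nonempty (G ≃* Matrix.ProjectiveSpecialLinearGroup (Fin 2) F)) := by
  rcases lt_or_gt_of_ne hpr with h | h
  · exact s0998_aux hG r q p b hr hq hp (fun h' => hqr h'.symm) (fun h' => hpq h'.symm) h (by rw [hG']; ring)
  · exact s0998_aux hG p q r b hp hq hr hpq hqr h hG'

end Cfsg.Agent.Lib.Helper19.BT8Asm
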