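/-
helper19: S4607 leaf (B6) `ebar_primitive` (planner helper27): the reduced block idempotent is a
primitive idempotent of the centre of the group algebra over the residue field.
[Lift `ε` to a class function `β` (B2f); `ω_ξ(β)` is `0` or `1` modulo the local ideal, `0` for
`ξ ∉ B` (as `e_B β ≡ β`), constant on `B`; apply helper6 `memLocalIdeal_of_idempotent` to `β` or to
`blockCoeff B - β`.]
-/
import Cfsg.Agent.Lib.Helper18.BlkAlgB3

set_option autoImplicit false

namespace Cfsg.Agent.Lib.Helper19.BlkAlgB6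

open Cfsg Cfsg.Agent.CharLib Cfsg.Agent.Lib.Helper6 Cfsg.Agent.Lib.Helper24
open Cfsg.Agent.Lib.Helper27.BlkAlg Cfsg.Agent.Lib.Helper18.BlkAlgB2 Cfsg.Agent.Lib.Helper18.BlkAlgB3

universe u

variable (M : Ideal AlgInt) [M.IsMaximal] {G : Type u} [Group G] [Fintype G]
variable {p : ℕ} [Fact p.Prime]

/-- LEAF B6. -/
theorem ebar_primitive (hM : IsPModular p M) {B : Set (IrrCharacter G)} (hB : IsPBlock M B)
    (ε : MonoidAlgebra (ResField M) G)
    (hεc : ε ∈ Subalgebra.center (ResField M) (MonoidAlgebra (ResField M) G))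
    (hε : ε * ε = ε) (hεe : ebar M B * ε = ε) : ε = 0 ∨ ε = ebar M B := by
  classical
  obtain ⟨β, hβc, hβR, hβ⟩ := exists_classFunction_lift M ε hεc
  obtain ⟨χ₀, rfl⟩ := hB
  set e := blockCoeff (blockOf M (χ₀ : G → ℂ)) with he
  have hebar : ebar M (blockOf M (χ₀ : G → ℂ)) = redFun M e := rfl
  have heR : ∀ g, MemLocalRing M (e g) := fun g => memLocalRing_blockCoeff_blockOf χ₀ g
  have hec : IsClassFunction G e := blockCoeff_isClassFunction _
  -- `β` is idempotent modulo the local ideal
  have hidem : ∀ x, MemLocalIdeal M (conv β β x - β x) := by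
    rw [← redFun_eq_iff M (memLocalRing_conv hβR hβR) hβR, redFun_conv M hβR hβR, hβ, hε]
  -- `e * β ≡ β`
  have heβ : ∀ x, MemLocalIdeal M (conv e β x - β x) := by
    rw [← redFun_eq_iff M (memLocalRing_conv heR hβR) hβR, redFun_conv M heR hβR, hβ, ← hebar]
    exact hεe
  have hωR : ∀ ξ : IrrCharacter G, MemLocalRing M (omegaFun (ξ : G → ℂ) β) :=
    fun ξ => memLocalRing_omegaFun ξ hβc hβR
  -- the central character values of `β` are `0` or `1` modulo the local ideal
  have hω01 : ∀ ξ : IrrCharacter G, MemLocalIdeal M (omegaFun (ξ : G → ℂ) β) ∨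
      MemLocalIdeal M (omegaFun (ξ : G → ℂ) β - 1) := by
    intro ξ
    have h1 : MemLocalIdeal M (omegaFun (ξ : G → ℂ) (conv β β - β)) :=
      memLocalIdeal_omegaFun_of_forall ξ (IsClassFunction.sub (conv_isClassFunction hβc hβc) hβc)
        (fun x => memLocalRing_sub (memLocalRing_conv hβR hβR x) (hβR x))
        (fun x => Or.inl (hidem x))
    rw [omegaFun_sub, omegaFun_conv ξ hβc hβc] at h1
    have h2 : omegaFun (ξ : G → ℂ) β * omegaFun (ξ : G → ℂ) β - omegaFun (ξ : G → ℂ) β =
        omegaFun (ξ : G → ℂ) β * (omegaFun (ξ : G → ℂ) β - 1) := by ring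
    rw [h2] at h1
    exact memLocalIdeal_or_of_mul (hωR ξ) (memLocalRing_sub (hωR ξ) memLocalRing_one) h1
  -- they vanish (mod the ideal) outside the block
  have hωout : ∀ ξ : IrrCharacter G, ξ ∉ blockOf M (χ₀ : G → ℂ) →
      MemLocalIdeal M (omegaFun (ξ : G → ℂ) β) := by
    intro ξ hξ
    have h1 : MemLocalIdeal M (omegaFun (ξ : G → ℂ) (conv e β - β)) :=
      memLocalIdeal_omegaFun_of_forall ξ (IsClassFunction.sub (conv_isClassFunction hec hβc) hβc)
        (fun x => memLocalRing_sub (memLocalRing_conv heR hβR x) (hβR x))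
        (fun x => Or.inl (heβ x))
    rw [omegaFun_sub, omegaFun_conv ξ hec hβc, he, omegaFun_blockCoeff, if_neg hξ, zero_mul,
      zero_sub] at h1
    have := memLocalIdeal_neg h1
    rwa [neg_neg] at this
  -- they are constant (mod the ideal) on the block
  have hωin : ∀ ξ : IrrCharacter G, ξ ∈ blockOf M (χ₀ : G → ℂ) →
      MemLocalIdeal M (omegaFun (ξ : G → ℂ) β - omegaFun (χ₀ : G → ℂ) β) := by
    intro ξ hξ
    have h1 := memLocalIdeal_omegaFun_sub χ₀ ξ hξ hβc hβR
    have := memLocalIdeal_neg h1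
    rwa [neg_sub] at this
  rcases hω01 χ₀ with h0 | h1
  · left
    have hall : ∀ ξ : IrrCharacter G, MemLocalIdeal M (omegaFun (ξ : G → ℂ) β) := by
      intro ξ
      by_cases hξ : ξ ∈ blockOf M (χ₀ : G → ℂ)
      · have := memLocalIdeal_add (hωin ξ hξ) h0
        rwa [sub_add_cancel] at this
      · exact hωout ξ hξ
    have hβI := memLocalIdeal_of_idempotent hβc hβR hidem hall
    rw [← hβ, ← redFun_zero M (G := G)]
    refine (redFun_eq_iff M hβR (b := (0 : G → ℂ)) (fun _ => memLocalRing_zero)).2 ?_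
    intro g
    simpa using hβI g
  · right
    set γ := e - β with hγ
    have hγc : IsClassFunction G γ := IsClassFunction.sub hec hβc
    have hγR : ∀ x, MemLocalRing M (γ x) := fun x => memLocalRing_sub (heR x) (hβR x)
    have hγred : redFun M γ = redFun M e - ε := by
      have h2 := redFun_add M hγR hβR
      have hsum : γ + β = e := sub_add_cancel e β
      rw [hsum, hβ] at h2
      rw [eq_sub_iff_add_eq]
      exact h2.symm
    have hγidem : ∀ x, MemLocalIdeal M (conv γ γ x - γ x) := by
      rw [← redFun_eq_iff M (memLocalRing_conv hγR hγR) hγR, redFun_conv M hγR hγR, hγred]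
      have h3 : ε * redFun M e = ε := by rw [← hebar, ← ebar_comm, hεe]
      have h4 : redFun M e * redFun M e = redFun M e := by
        rw [← hebar]; exact ebar_mul_self M hM ⟨χ₀, rfl⟩
      have h5 : redFun M e * ε = ε := by rw [← hebar]; exact hεe
      rw [sub_mul, mul_sub, mul_sub, h4, h5, h3, hε]
      abel
    have hγall : ∀ ξ : IrrCharacter G, MemLocalIdeal M (omegaFun (ξ : G → ℂ) γ) := by
      intro ξ
      rw [hγ, omegaFun_sub, he, omegaFun_blockCoeff]
      by_cases hξ : ξ ∈ blockOf M (χ₀ : G → ℂ)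
      · rw [if_pos hξ]
        have := memLocalIdeal_neg (memLocalIdeal_add (hωin ξ hξ) h1)
        convert this using 1
        ring
      · rw [if_neg hξ, zero_sub]
        exact memLocalIdeal_neg (hωout ξ hξ)
    have hγI := memLocalIdeal_of_idempotent hγc hγR hγidem hγall
    have h6 : redFun M e = redFun M β := (redFun_eq_iff M heR hβR).2 (fun g => hγI g)
    rw [← hβ, hebar]
    exact h6.symm

end Cfsg.Agent.Lib.Helper19.BlkAlgB6
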