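import Mathlib

open Equiv Equiv.Perm
open scoped Nat

namespace Cfsg.Agent.Lib.Helper19.Bochert

variable {Ω : Type*} [DecidableEq Ω] [Fintype Ω]

theorem isThreeCycle_commutator_of_inter_singleton {x y : Perm Ω} {α : Ω}
    (hx : x α ≠ α) (hy : y α ≠ α) (h : ∀ γ, x γ ≠ γ → y γ ≠ γ → γ = α) :
    IsThreeCycle (x * y * x⁻¹ * y⁻¹) := by
  have hxy : y α ≠ x α := by
    intro e
    have h1 : x (x α) ≠ x α := fun e' => hx (x.injective e')
    have h2 : y (x α) ≠ x α := by
      rw [← e]; exact fun e' => hy (y.injective e')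
    exact hx (h _ h1 h2)
  -- basic facts
  have F1 : ∀ γ, γ ≠ α → y γ ≠ γ → x γ = γ := fun γ hγ hyγ => by
    by_contra hxγ; exact hγ (h γ hxγ hyγ)
  have F2 : ∀ γ, γ ≠ α → x γ ≠ γ → y γ = γ := fun γ hγ hxγ => by
    by_contra hyγ; exact hγ (h γ hxγ hyγ)
  have ais : ∀ (z : Perm Ω) γ, z (z⁻¹ γ) = γ := fun z γ => by simp
  have ias : ∀ (z : Perm Ω) γ, z⁻¹ (z γ) = γ := fun z γ => by simp
  have inv_fix : ∀ (z : Perm Ω) γ, z γ = γ → z⁻¹ γ = γ := fun z γ e => by
    rw [Perm.inv_eq_iff_eq]; exact e.symm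
  have inv_mov : ∀ (z : Perm Ω) γ, z γ ≠ γ → z (z⁻¹ γ) ≠ z⁻¹ γ := fun z γ e e' => by
    rw [ais] at e'
    have := congrArg z e'; rw [ais] at this; exact e this
  have key : x * y * x⁻¹ * y⁻¹ = swap (y α) (x α) * swap (y α) α := by
    ext γ
    simp only [Perm.mul_apply]
    by_cases h1 : γ = α
    · subst h1
      rw [swap_apply_right, swap_apply_left]
      have a1 : y (y⁻¹ γ) ≠ y⁻¹ γ := inv_mov y γ hy
      have a2 : y⁻¹ γ ≠ γ := fun e => hy (by
        have := congrArg y e; rw [ais] at this; exact this.symm)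
      have a3 : x (y⁻¹ γ) = y⁻¹ γ := F1 _ a2 a1
      rw [inv_fix x _ a3, ais]
    by_cases h2 : γ = x α
    · subst h2
      have a1 : x (x α) ≠ x α := fun e' => hx (x.injective e')
      have a2 : y (x α) = x α := F2 _ h1 a1
      rw [inv_fix y _ a2, ias, swap_apply_of_ne_of_ne hxy.symm h1,
        swap_apply_right]
      have a3 : y (y α) ≠ y α := fun e' => hy (y.injective e')
      exact F1 _ hy a3
    by_cases h3 : γ = y α
    · subst h3
      rw [ias, swap_apply_left, swap_apply_of_ne_of_ne hy.symm hx.symm]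
      have a1 : x (x⁻¹ α) ≠ x⁻¹ α := inv_mov x α hx
      have a2 : x⁻¹ α ≠ α := fun e => hx (by
        have := congrArg x e; rw [ais] at this; exact this.symm)
      rw [F2 _ a2 a1, ais]
    rw [swap_apply_of_ne_of_ne h3 h1, swap_apply_of_ne_of_ne h3 h2]
    by_cases hyγ : y γ = γ
    · rw [inv_fix y _ hyγ]
      by_cases hxγ : x γ = γ
      · rw [inv_fix x _ hxγ, hyγ, hxγ]
      · have a1 := inv_mov x γ hxγ
        have a2 : x⁻¹ γ ≠ α := fun e => h2 (by rw [← e, ais])
        rw [F2 _ a2 a1, ais]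
    · have a1 := inv_mov y γ hyγ
      have a2 : y⁻¹ γ ≠ α := fun e => h3 (by rw [← e, ais])
      have a3 := F1 _ a2 a1
      rw [inv_fix x _ a3, ais]
      exact F1 _ h1 hyγ
  rw [key]
  exact isThreeCycle_swap_mul_swap_same hxy hy hx

theorem card_mul_le {P : Subgroup (Perm Ω)} {Δ : Finset Ω}
    (hQ : ∀ x ∈ P, (∀ a ∉ Δ, x a = a) → x = 1) :
    Nat.card P * (Δ.card)! ≤ (Fintype.card Ω)! := by
  classical
  have hinj : Function.Injective
      (fun pt : P × Perm {a // a ∈ Δ} => (pt.1 : Perm Ω) * Perm.ofSubtype pt.2) := by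
    rintro ⟨p₁, t₁⟩ ⟨p₂, t₂⟩ h
    simp only at h
    have h1 : (p₂ : Perm Ω)⁻¹ * p₁ = ofSubtype (t₂ * t₁⁻¹) := by
      rw [map_mul, map_inv, inv_mul_eq_iff_eq_mul, ← mul_assoc, ← h, mul_assoc,
        mul_inv_cancel, mul_one]
    have h2 : (p₂ : Perm Ω)⁻¹ * p₁ = 1 := by
      apply hQ _ (P.mul_mem (P.inv_mem p₂.2) p₁.2)
      intro a ha
      rw [h1]; exact ofSubtype_apply_of_not_mem _ ha
    have h3 : p₁ = p₂ := by
      apply Subtype.ext
      exact (inv_mul_eq_one.1 h2).symm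
    have h4 : t₂ * t₁⁻¹ = 1 := by
      apply ofSubtype_injective
      rw [← h1, h2, map_one]
    rw [h3, (mul_inv_eq_one.1 h4)]
  have := Nat.card_le_card_of_injective _ hinj
  rw [Nat.card_prod, Nat.card_perm, Nat.card_perm, Nat.card_eq_fintype_card (α := Ω),
    Nat.card_eq_fintype_card (α := {a // a ∈ Δ}), Fintype.card_coe] at this
  exact this

theorem bochert (P : Subgroup (Perm Ω)) (hprim : MulAction.IsPreprimitive P Ω)
    (hA : ¬ alternatingGroup Ω ≤ P) :
    Nat.card P * ((Fintype.card Ω + 1) / 2)! ≤ (Fintype.card Ω)! := by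
  classical
  let Q : Finset Ω → Prop := fun Δ => ∀ x ∈ P, (∀ a ∉ Δ, x a = a) → x = 1
  have hQ0 : Q ∅ := fun x _ hx => by ext a; exact hx a (Finset.notMem_empty a)
  obtain ⟨Δ, hΔ, hmax⟩ := Finset.exists_max_image (Finset.univ.filter Q) Finset.card
    ⟨∅, by simp [hQ0]⟩
  have hQΔ : Q Δ := (Finset.mem_filter.1 hΔ).2
  have hmax' : ∀ Δ', Q Δ' → Δ'.card ≤ Δ.card := fun Δ' h => hmax Δ' (by simp [h])
  have hQc : Q Δᶜ := by
    intro y hyP hy
    by_contra hy1
    obtain ⟨α, hα⟩ : ∃ α, y α ≠ α := by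
      by_contra h; push Not at h; exact hy1 (Perm.ext h)
    have hαΔ : α ∉ Δ := fun h => hα (hy α (by simpa using h))
    have hnQ : ¬ Q (insert α Δ) := fun h => by
      have := hmax' _ h
      rw [Finset.card_insert_of_notMem hαΔ] at this
      omega
    simp only [Q] at hnQ; push Not at hnQ
    obtain ⟨x, hxP, hx, hx1⟩ := hnQ
    have hxα : x α ≠ α := by
      intro hxα
      apply hx1
      apply hQΔ x hxP
      intro a ha
      by_cases haα : a = α
      · rw [haα]; exact hxα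
      · exact hx a (by simp [haα, ha])
    have h3 := isThreeCycle_commutator_of_inter_singleton hxα hα (fun γ hxγ hyγ => by
      by_contra hγ
      have h1 : γ ∈ Δ := by
        by_contra h1
        exact hxγ (hx γ (by simp [hγ, h1]))
      exact hyγ (hy γ (by simpa using h1)))
    exact hA (alternatingGroup_le_of_isPreprimitive_of_isThreeCycle_mem hprim h3
      (P.mul_mem (P.mul_mem (P.mul_mem hxP hyP) (P.inv_mem hxP)) (P.inv_mem hyP)))
  have hcard : Δ.card + Δᶜ.card = Fintype.card Ω := Finset.card_add_card_compl Δ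
  rcases le_total Δ.card Δᶜ.card with h | h
  · have := card_mul_le hQc
    have h2 : (Fintype.card Ω + 1) / 2 ≤ Δᶜ.card := by omega
    calc _ ≤ Nat.card P * (Δᶜ.card)! := Nat.mul_le_mul_left _ (Nat.factorial_le h2)
       _ ≤ _ := this
  · have := card_mul_le hQΔ
    have h2 : (Fintype.card Ω + 1) / 2 ≤ Δ.card := by omega
    calc _ ≤ Nat.card P * (Δ.card)! := Nat.mul_le_mul_left _ (Nat.factorial_le h2)
       _ ≤ _ := this

end Cfsg.Agent.Lib.Helper19.Bochert
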