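import Mathlib

namespace Cfsg.Agent.Lib.Helper19.RegularNormal

open MulAction

variable {G X : Type*} [Group G] [MulAction G X] (N : Subgroup G)
  [hNt : IsPretransitive N X] (a : X)

/-- the element of `N` moving `a` to `y` -/
noncomputable def mover (y : X) : N := (exists_smul_eq N a y).choose

lemma mover_smul (y : X) : (mover N a y : G) • a = y :=
  (exists_smul_eq N a y).choose_spec

variable (hreg : ∀ x : X, stabilizer N x = ⊥)
include hreg

omit hNt in
lemma eq_of_smul_eq {n n' : N} (h : (n : G) • a = (n' : G) • a) : n = n' := by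
  have h1 : n'⁻¹ * n ∈ stabilizer N a := by
    rw [mem_stabilizer_iff]
    change ((n'⁻¹ * n : N) : G) • a = a
    rw [Subgroup.coe_mul, mul_smul, h, Subgroup.coe_inv, inv_smul_smul]
  rw [hreg a, Subgroup.mem_bot] at h1
  exact (inv_mul_eq_one.1 h1).symm

lemma mover_unique {n : N} {y : X} (h : (n : G) • a = y) : n = mover N a y :=
  eq_of_smul_eq N a hreg (h.trans (mover_smul N a y).symm)

lemma mover_self : mover N a a = 1 :=
  (mover_unique N a hreg (by simp)).symm

lemma mover_eq_one_iff {y : X} : mover N a y = 1 ↔ y = a := by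
  constructor
  · intro h
    have := mover_smul N a y
    rw [h] at this
    simpa using this.symm
  · intro h
    rw [h]
    exact mover_self N a hreg

lemma mover_conj [hN : N.Normal] {g : G} (hg : g ∈ stabilizer G a) (y : X) :
    (mover N a (g • y) : G) = g * mover N a y * g⁻¹ := by
  have h1 : ((⟨g * mover N a y * g⁻¹, hN.conj_mem _ (mover N a y).2 g⟩ : N) : G) • a = g • y := by
    change (g * mover N a y * g⁻¹) • a = g • y
    rw [mul_smul, mul_smul, inv_smul_eq_iff.2 (mem_stabilizer_iff.1 hg).symm, mover_smul]
  have := mover_unique N a hreg h1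
  rw [← this]

/-- the "inverse point" map -/
noncomputable def invPt (y : X) : X := ((mover N a y)⁻¹ : N) • a

omit hreg in
lemma invPt_def (y : X) : invPt N a y = ((mover N a y : G))⁻¹ • a := rfl

lemma mover_invPt (y : X) : mover N a (invPt N a y) = (mover N a y)⁻¹ :=
  (mover_unique N a hreg rfl).symm

lemma invPt_invPt (y : X) : invPt N a (invPt N a y) = y := by
  rw [invPt_def, mover_invPt N a hreg]
  simp [mover_smul]

lemma invPt_smul [hN : N.Normal] {g : G} (hg : g ∈ stabilizer G a) (y : X) :
    invPt N a (g • y) = g • invPt N a y := by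
  rw [invPt_def, invPt_def, mover_conj N a hreg hg]
  rw [mul_inv_rev, mul_inv_rev, inv_inv, mul_smul, mul_smul,
    inv_smul_eq_iff.2 (mem_stabilizer_iff.1 hg).symm]

lemma invPt_eq_self_iff (y : X) : invPt N a y = y ↔ (mover N a y) ^ 2 = 1 := by
  constructor
  · intro h
    have h1 := mover_invPt N a hreg y
    rw [h] at h1
    rw [pow_two]
    nth_rewrite 1 [h1]
    exact inv_mul_cancel _
  · intro h
    have h1 : (mover N a y)⁻¹ = mover N a y := by
      rw [inv_eq_iff_mul_eq_one, ← pow_two, h]
    rw [invPt_def, ← Subgroup.coe_inv, h1, mover_smul]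

lemma invPt_ne {y : X} (hy : y ≠ a) : invPt N a y ≠ a := by
  intro h
  have h1 := mover_invPt N a hreg y
  rw [h, mover_self N a hreg] at h1
  have : mover N a y = 1 := by rw [← inv_inv (mover N a y), ← h1, inv_one]
  exact hy ((mover_eq_one_iff N a hreg).1 this)

open Pointwise in
lemma smul_pair_eq [hN : N.Normal] {g : G} (hg : g ∈ stabilizer G a) (y : X)
    (h : g • y = y ∨ g • y = invPt N a y) :
    g • ({y, invPt N a y} : Set X) = {y, invPt N a y} := by
  have h2 := invPt_smul N a hreg hg y
  rcases h with h | h
  · rw [h] at h2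
    rw [Set.smul_set_insert, Set.smul_set_singleton, h, ← h2]
  · rw [h, invPt_invPt N a hreg] at h2
    rw [Set.smul_set_insert, Set.smul_set_singleton, h, ← h2, Set.pair_comm]

open Pointwise in
/-- the pair `{y, y⁻¹}` is a block for the point stabilizer -/
lemma isBlock_pair [hN : N.Normal] (y : X) :
    IsBlock (stabilizer G a) ({y, invPt N a y} : Set X) := by
  rw [isBlock_iff_smul_eq_of_mem]
  intro g z hz hgz
  have hg : (g : G) ∈ stabilizer G a := g.2
  change (g : G) • ({y, invPt N a y} : Set X) = {y, invPt N a y}
  have hgz' : (g : G) • z ∈ ({y, invPt N a y} : Set X) := hgz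
  rcases hz with rfl | hz
  · exact smul_pair_eq N a hreg hg z (by simpa using hgz')
  · rw [Set.mem_singleton_iff] at hz
    subst hz
    have := smul_pair_eq N a hreg hg (invPt N a y) (by
      rw [invPt_invPt N a hreg]
      rcases hgz' with h | h
      · exact Or.inr h
      · exact Or.inl h)
    rw [invPt_invPt N a hreg, Set.pair_comm] at this
    exact this

omit hNt hreg in
/-- a group of exponent `2` is commutative -/
lemma comm_of_sq_eq_one {H : Type*} [Group H] (h : ∀ x : H, x ^ 2 = 1) (x y : H) :
    x * y = y * x := by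
  have hinv : ∀ z : H, z⁻¹ = z := fun z => by
    rw [inv_eq_iff_mul_eq_one, ← pow_two, h]
  calc x * y = (x * y)⁻¹ := (hinv _).symm
    _ = y⁻¹ * x⁻¹ := mul_inv_rev _ _
    _ = y * x := by rw [hinv, hinv]

/-- `N ≃ X` for a regular subgroup -/
lemma card_eq [Finite X] (a : X) : Nat.card N = Nat.card X := by
  apply Nat.card_congr
  refine Equiv.ofBijective (fun n : N => (n : G) • a) ⟨?_, ?_⟩
  · intro n n' h
    exact eq_of_smul_eq N a hreg h
  · intro y
    exact ⟨mover N a y, mover_smul N a y⟩

omit hNt in
lemma finite_of_regular [Finite X] (a : X) : Finite N := by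
  apply Finite.of_injective (fun n : N => (n : G) • a)
  intro n n' h
  exact eq_of_smul_eq N a hreg h

omit hNt hreg in
lemma isPretransitive_of_subgroup (N : Subgroup G) [IsPretransitive N X] : IsPretransitive G X :=
  ⟨fun x y => by
    obtain ⟨n, hn⟩ := exists_smul_eq N x y
    exact ⟨(n : G), hn⟩⟩

/-- **2-primitive groups with a regular normal subgroup.** -/
theorem two_primitive [Fintype X] [hN : N.Normal] (a : X) (hX : 2 ≤ Fintype.card X)
    (h2 : IsMultiplyPreprimitive G X 2) :
    Fintype.card X = 3 ∨ ((∀ n ∈ N, n ^ 2 = 1) ∧ ∃ m : ℕ, Fintype.card X = 2 ^ m) := by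
  classical
  have : IsPretransitive G X := isPretransitive_of_subgroup N
  have hprim : IsPreprimitive (stabilizer G a) (SubMulAction.ofStabilizer G a) := by
    have h1 : IsMultiplyPreprimitive (stabilizer G a) (SubMulAction.ofStabilizer G a) 1 :=
      isMultiplyPreprimitive_ofStabilizer (M := G) (α := X) (n := 1) (a := a)
    exact (is_one_preprimitive_iff _ _).1 h1
  have hcard : Nat.card N = Fintype.card X := by
    rw [card_eq N hreg a, Nat.card_eq_fintype_card]
  have : Finite N := finite_of_regular N hreg a
  by_cases h3 : Fintype.card X = 3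
  · exact Or.inl h3
  right
  have hsq : ∀ n ∈ N, n ^ 2 = 1 := by
    intro n hn
    by_cases hn1 : n = 1
    · rw [hn1, one_pow]
    set y : X := n • a with hy
    have hmy : mover N a y = ⟨n, hn⟩ := (mover_unique N a hreg (n := ⟨n, hn⟩) rfl).symm
    have hya : y ≠ a := by
      intro h
      have := (mover_eq_one_iff N a hreg).2 h
      rw [hmy] at this
      exact hn1 (congrArg Subtype.val this)
    have hblock : IsBlock (stabilizer G a)
        (Subtype.val ⁻¹' ({y, invPt N a y} : Set X) :
          Set (SubMulAction.ofStabilizer G a)) :=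
      (isBlock_pair N a hreg y).subtype_val_preimage
    rcases hprim.isTrivialBlock_of_isBlock hblock with hs | hu
    · have h1 : (⟨y, hya⟩ : SubMulAction.ofStabilizer G a) ∈
          (Subtype.val ⁻¹' ({y, invPt N a y} : Set X)) := by simp
      have h2 : (⟨invPt N a y, invPt_ne N a hreg hya⟩ : SubMulAction.ofStabilizer G a) ∈
          (Subtype.val ⁻¹' ({y, invPt N a y} : Set X)) := by simp
      have h3 := congrArg Subtype.val (hs h1 h2)
      have h4 := (invPt_eq_self_iff N a hreg y).1 h3.symm
      rw [hmy] at h4
      exact congrArg Subtype.val h4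
    · have hsub : (Finset.univ : Finset X) ⊆ {a, y, invPt N a y} := by
        intro x _
        by_cases hxa : x = a
        · simp [hxa]
        · have : (⟨x, hxa⟩ : SubMulAction.ofStabilizer G a) ∈
              (Subtype.val ⁻¹' ({y, invPt N a y} : Set X)) := by rw [hu]; trivial
          have h5 : x = y ∨ x = invPt N a y := by simpa using this
          rcases h5 with h5 | h5 <;> simp [h5]
      have hle : Fintype.card X ≤ 3 :=
        (Finset.card_le_card hsub).trans Finset.card_le_three
      have hc2 : Fintype.card X = 2 := by omega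
      have h6 : (⟨n, hn⟩ : N) ^ 2 = 1 := by
        have := pow_card_eq_one' (G := N) (x := ⟨n, hn⟩)
        rwa [hcard, hc2] at this
      exact congrArg Subtype.val h6
  refine ⟨hsq, ?_⟩
  have hpg : IsPGroup 2 N := fun n => ⟨1, by
    rw [pow_one]; exact Subtype.ext (hsq n n.2)⟩
  have : Fact (Nat.Prime 2) := ⟨Nat.prime_two⟩
  obtain ⟨m, hm⟩ := IsPGroup.iff_card.1 hpg
  exact ⟨m, by rw [← hcard, hm]⟩

section Involution

omit hNt hreg in
open Pointwise in
/-- a pair `{y, τ y}` for an involutive map `τ` commuting with the action is a block -/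
lemma isBlock_pair_of_involution {H : Type*} [Group H] [MulAction H X] (τ : X → X)
    (hτ : ∀ w, τ (τ w) = w) (hcomm : ∀ (g : H) (w : X), τ (g • w) = g • τ w) (y : X) :
    IsBlock H ({y, τ y} : Set X) := by
  rw [isBlock_iff_smul_eq_of_mem]
  have key : ∀ (g : H) (w : X), (g • w = w ∨ g • w = τ w) →
      g • ({w, τ w} : Set X) = {w, τ w} := by
    intro g w h
    have h2 := hcomm g w
    rcases h with h | h
    · rw [h] at h2
      rw [Set.smul_set_insert, Set.smul_set_singleton, h, ← h2]
    · rw [h, hτ] at h2
      rw [Set.smul_set_insert, Set.smul_set_singleton, h, ← h2, Set.pair_comm]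
  intro g z hz hgz
  rcases hz with rfl | hz
  · exact key g z (by simpa using hgz)
  · rw [Set.mem_singleton_iff] at hz
    subst hz
    have := key g (τ y) (by
      rw [hτ]
      rcases hgz with h | h
      · exact Or.inr h
      · exact Or.inl h)
    rw [hτ, Set.pair_comm] at this
    exact this

end Involution

/-- translation by `u ∈ N` transported to `X` -/
noncomputable def transPt (u : N) (z : X) : X := ((u * mover N a z : N) : G) • a

lemma mover_transPt (u : N) (z : X) : mover N a (transPt N a u z) = u * mover N a z :=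
  (mover_unique N a hreg rfl).symm

lemma transPt_transPt {u : N} (hu : u ^ 2 = 1) (z : X) :
    transPt N a u (transPt N a u z) = z := by
  have h1 : transPt N a u (transPt N a u z)
      = ((u * mover N a (transPt N a u z) : N) : G) • a := rfl
  rw [h1, mover_transPt N a hreg, ← mul_assoc, ← pow_two, hu, one_mul, mover_smul]

lemma transPt_smul [hN : N.Normal] {g : G} (hg : g ∈ stabilizer G a) {u : N}
    (hgu : g * u * g⁻¹ = u) (z : X) :
    transPt N a u (g • z) = g • transPt N a u z := by
  have h1 : transPt N a u (g • z) = ((u : G) * (mover N a (g • z) : G)) • a := rfl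
  have h2 : transPt N a u z = ((u : G) * (mover N a z : G)) • a := rfl
  rw [h1, h2, mover_conj N a hreg hg]
  have h3 : (u : G) * (g * mover N a z * g⁻¹) = g * ((u : G) * mover N a z) * g⁻¹ := by
    nth_rewrite 1 [← hgu]; group
  rw [h3, mul_smul, mul_smul, inv_smul_eq_iff.2 (mem_stabilizer_iff.1 hg).symm]

/-- **3-primitive groups with a regular normal subgroup.** -/
theorem three_primitive [Fintype X] [hN : N.Normal] (a : X) (hX : 3 ≤ Fintype.card X)
    (h3 : IsMultiplyPreprimitive G X 3) :
    Fintype.card X = 3 ∨ Fintype.card X = 4 := by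
  classical
  have h2 : IsMultiplyPreprimitive G X 2 := by
    apply isMultiplyPreprimitive_of_le G X h3 (by norm_num)
    rw [ENat.card_eq_coe_fintype_card]
    exact_mod_cast hX
  rcases two_primitive N hreg a (by omega) h2 with h | ⟨hsq, -⟩
  · exact Or.inl h
  right
  -- a point `y ≠ a`
  obtain ⟨y, hya⟩ : ∃ y : X, y ≠ a := by
    by_contra hcon
    push Not at hcon
    have : Fintype.card X ≤ 1 := Fintype.card_le_one_iff.2 (fun x x' => by rw [hcon x, hcon x'])
    omega
  -- a point `z ∉ {a, y}`
  obtain ⟨z, hza, hzy⟩ : ∃ z : X, z ≠ a ∧ z ≠ y := by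
    by_contra hcon
    push Not at hcon
    have hsub : (Finset.univ : Finset X) ⊆ {a, y} := by
      intro x _
      by_cases hxa : x = a
      · simp [hxa]
      · simp [hcon x hxa]
    have := (Finset.card_le_card hsub).trans Finset.card_le_two
    have h' : Fintype.card X ≤ 2 := this
    omega
  set u : N := mover N a y with hu
  have hu2 : u ^ 2 = 1 := Subtype.ext (hsq u u.2)
  have hu1 : u ≠ 1 := fun h => hya ((mover_eq_one_iff N a hreg).1 h)
  have hprim : IsPreprimitive (fixingSubgroup G ({a, y} : Set X))
      (SubMulAction.ofFixingSubgroup G ({a, y} : Set X)) := by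
    apply IsMultiplyPreprimitive.isPreprimitive_ofFixingSubgroup G 3
    rw [Set.encard_pair hya.symm]
    norm_num
  -- the involution
  have hfix : ∀ g : fixingSubgroup G ({a, y} : Set X),
      (g : G) ∈ stabilizer G a ∧ (g : G) * u * (g : G)⁻¹ = u := by
    intro g
    have hg := (mem_fixingSubgroup_iff G).1 g.2
    have hga : (g : G) • a = a := hg a (by simp)
    have hgy : (g : G) • y = y := hg y (by simp)
    refine ⟨hga, ?_⟩
    have := mover_conj N a hreg (mem_stabilizer_iff.2 hga) y
    rw [hgy] at this
    exact this.symm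
  have hblock0 : IsBlock (fixingSubgroup G ({a, y} : Set X))
      ({z, transPt N a u z} : Set X) := by
    apply isBlock_pair_of_involution (transPt N a u) (transPt_transPt N a hreg hu2)
    intro g w
    exact transPt_smul N a hreg (hfix g).1 (hfix g).2 w
  have hblock : IsBlock (fixingSubgroup G ({a, y} : Set X))
      (Subtype.val ⁻¹' ({z, transPt N a u z} : Set X) :
        Set (SubMulAction.ofFixingSubgroup G ({a, y} : Set X))) :=
    hblock0.subtype_val_preimage
  -- `z* ∉ {a, y, z}`
  have hmz : mover N a (transPt N a u z) = u * mover N a z := mover_transPt N a hreg u z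
  have hz1 : mover N a z ≠ 1 := fun h => hza ((mover_eq_one_iff N a hreg).1 h)
  have hzu : mover N a z ≠ u := by
    intro h
    apply hzy
    rw [← mover_smul N a z, h, hu, mover_smul]
  have huinv : u⁻¹ = u := by rw [inv_eq_iff_mul_eq_one, ← pow_two, hu2]
  have hsa : transPt N a u z ≠ a := by
    intro h
    have h1 := (mover_eq_one_iff N a hreg).2 h
    rw [hmz] at h1
    apply hzu
    rw [eq_inv_of_mul_eq_one_right h1, huinv]
  have hsy : transPt N a u z ≠ y := by
    intro h
    have h1 : mover N a (transPt N a u z) = u := by rw [h]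
    rw [hmz] at h1
    exact hz1 (mul_left_cancel (h1.trans (mul_one u).symm))
  have hsz : transPt N a u z ≠ z := by
    intro h
    have h1 : mover N a (transPt N a u z) = mover N a z := by rw [h]
    rw [hmz] at h1
    exact hu1 (mul_right_cancel (h1.trans (one_mul _).symm))
  have hzmem : z ∈ SubMulAction.ofFixingSubgroup G ({a, y} : Set X) := by
    change z ∈ ({a, y} : Set X)ᶜ
    simp [hza, hzy]
  have hsmem : transPt N a u z ∈ SubMulAction.ofFixingSubgroup G ({a, y} : Set X) := by
    change transPt N a u z ∈ ({a, y} : Set X)ᶜ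
    simp [hsa, hsy]
  rcases hprim.isTrivialBlock_of_isBlock hblock with hs | hu'
  · exfalso
    have h1 : (⟨z, hzmem⟩ : SubMulAction.ofFixingSubgroup G ({a, y} : Set X)) ∈
        (Subtype.val ⁻¹' ({z, transPt N a u z} : Set X)) := by simp
    have h2 : (⟨transPt N a u z, hsmem⟩ : SubMulAction.ofFixingSubgroup G ({a, y} : Set X)) ∈
        (Subtype.val ⁻¹' ({z, transPt N a u z} : Set X)) := by simp
    exact hsz (congrArg Subtype.val (hs h2 h1))
  · have hsub : (Finset.univ : Finset X) ⊆ {a, y, z, transPt N a u z} := by
      intro x _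
      by_cases hxa : x = a
      · simp [hxa]
      by_cases hxy : x = y
      · simp [hxy]
      have hxmem : x ∈ SubMulAction.ofFixingSubgroup G ({a, y} : Set X) := by
        change x ∈ ({a, y} : Set X)ᶜ
        simp [hxa, hxy]
      have : (⟨x, hxmem⟩ : SubMulAction.ofFixingSubgroup G ({a, y} : Set X)) ∈
          (Subtype.val ⁻¹' ({z, transPt N a u z} : Set X)) := by rw [hu']; trivial
      have h5 : x = z ∨ x = transPt N a u z := by simpa using this
      rcases h5 with h5 | h5 <;> simp [h5]
    have hle : Fintype.card X ≤ 4 :=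
      (Finset.card_le_card hsub).trans Finset.card_le_four
    have hge : ({a, y, z, transPt N a u z} : Finset X).card = 4 := by
      rw [Finset.card_insert_of_notMem (by simp [hya.symm, hza.symm, hsa.symm]),
        Finset.card_insert_of_notMem (by simp [hzy.symm, hsy.symm]),
        Finset.card_pair hsz.symm]
    have hge' : 4 ≤ Fintype.card X := by
      rw [← hge]; exact Finset.card_le_univ _
    omega

end Cfsg.Agent.Lib.Helper19.RegularNormal
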