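import Mathlib
import Cfsg.Agent.Lib.Helper19.RegularNormal

namespace Cfsg.Agent.Lib.Helper19.Jordan

open MulAction

universe u v

section basics

variable {G : Type u} {X : Type v} [Group G] [MulAction G X]

/-- a nontrivial normal subgroup of a faithful 2-transitive group is transitive -/
lemma normal_transitive [FaithfulSMul G X] (h2 : IsMultiplyPretransitive G X 2)
    (N : Subgroup G) [N.Normal] (hN : N ≠ ⊥) : IsPretransitive N X := by
  have hprim : IsPreprimitive G X := isPreprimitive_of_is_two_pretransitive h2
  have hq : IsQuasiPreprimitive G X := inferInstance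
  apply IsQuasiPreprimitive.isPretransitive_of_normal (G := G)
  intro htop
  apply hN
  rw [Subgroup.eq_bot_iff_forall]
  intro n hn
  apply FaithfulSMul.eq_of_smul_eq_smul (α := X)
  intro x
  have hx : x ∈ fixedPoints N X := by rw [htop]; trivial
  rw [one_smul]
  exact hx ⟨n, hn⟩

/-- the point stabilizer acts faithfully on the complement of the point -/
instance faithful_ofStabilizer [FaithfulSMul G X] (b : X) :
    FaithfulSMul (stabilizer G b) (SubMulAction.ofStabilizer G b) := by
  refine ⟨fun {g h} H => ?_⟩
  apply Subtype.ext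
  apply FaithfulSMul.eq_of_smul_eq_smul (α := X)
  intro x
  by_cases hx : x = b
  · rw [hx, mem_stabilizer_iff.1 g.2, mem_stabilizer_iff.1 h.2]
  · have := congrArg Subtype.val (H ⟨x, hx⟩)
    exact this

/-- no sharply-2-transitive-like group with point stabilizers of exponent 2 on ≥ 4 points -/
lemma no_exceptional {N : Type*} [Group N] [MulAction N X]
    (hF : ∀ g : N, (∀ x : X, g • x = x) → g = 1)
    (hT : ∀ a y z : X, y ≠ a → z ≠ a → ∃ t : N, t • a = a ∧ t • y = z)
    (hE : ∀ (g : N) (x : X), g • x = x → g ^ 2 = 1)
    (c : X) (r : N) (hrc : r • c = c) (hr : r ≠ 1)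
    (h4 : ∀ a b c : X, ∃ x, x ≠ a ∧ x ≠ b ∧ x ≠ c) : False := by
  have hinv : ∀ (g : N) (x : X), g • x = x → g⁻¹ = g := by
    intro g x hx
    rw [inv_eq_iff_mul_eq_one, ← pow_two]
    exact hE g x hx
  -- an element fixing two points is trivial
  have star : ∀ (g : N) (x y : X), x ≠ y → g • x = x → g • y = y → g = 1 := by
    intro g x y hxy hx hy
    apply hF
    intro z
    by_cases hz : z = x
    · rw [hz, hx]
    obtain ⟨s, hsx, hsy⟩ := hT x y z (Ne.symm hxy) hz
    have hgs : (g * s) • x = x := by rw [mul_smul, hsx, hx]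
    have hcomm : g * s = s * g := by
      calc g * s = (g * s)⁻¹ := (hinv _ x hgs).symm
        _ = s⁻¹ * g⁻¹ := mul_inv_rev _ _
        _ = s * g := by rw [hinv s x hsx, hinv g x hx]
    rw [← hsy, ← mul_smul, hcomm, mul_smul, hy]
  obtain ⟨a, hac, -, -⟩ := h4 c c c
  set b := r • a with hb
  have hr2 : r * r = 1 := by rw [← pow_two]; exact hE r c hrc
  have hrr : ∀ w : X, r • r • w = w := fun w => by rw [← mul_smul, hr2, one_smul]
  have hba : b ≠ a := fun h => hr (star r a c hac h hrc)
  obtain ⟨x, hxa, hxb, hxc⟩ := h4 a b c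
  have hrx : r • x ≠ x := fun h => hr (star r x c hxc h hrc)
  have hrxa : r • x ≠ a := by
    intro h
    apply hxb
    rw [hb, ← h, hrr]
  obtain ⟨t, hta, htx⟩ := hT a x (r • x) hxa hrxa
  have hgx : (r * t) • x = x := by rw [mul_smul, htx, hrr]
  have hg2 : (r * t) * (r * t) = 1 := by rw [← pow_two]; exact hE _ x hgx
  have hga : (r * t) • a = b := by rw [mul_smul, hta]
  have hgb : (r * t) • b = a := by rw [← hga, ← mul_smul, hg2, one_smul]
  have htb : t • b = b := by
    have h1 : t = r * (r * t) := by rw [← mul_assoc, hr2, one_mul]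
    rw [h1, mul_smul, hgb]
  have ht1 : t = 1 := star t a b (Ne.symm hba) hta htb
  rw [ht1, one_smul] at htx
  exact hrx htx.symm

/-- comparison map of groups -/
def stabMap (N : Subgroup G) (b : X) :
    (N.subgroupOf (stabilizer G b)) → (stabilizer N b) := fun m =>
  ⟨⟨((m : stabilizer G b) : G), Subgroup.mem_subgroupOf.1 m.2⟩, by
    rw [mem_stabilizer_iff]; exact (m : stabilizer G b).2⟩

lemma stabMap_surjective (N : Subgroup G) (b : X) : Function.Surjective (stabMap N b) := by
  intro h
  refine ⟨⟨⟨((h : N) : G), ?_⟩, ?_⟩, ?_⟩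
  · rw [mem_stabilizer_iff]; exact h.2
  · rw [Subgroup.mem_subgroupOf]; exact (h : N).2
  · rfl

/-- comparison map of sets -/
def compMap (N : Subgroup G) (b : X) :
    (SubMulAction.ofStabilizer G b) →ₑ[stabMap N b] (SubMulAction.ofStabilizer N b) where
  toFun x := ⟨x.1, x.2⟩
  map_smul' _ _ := rfl

lemma compMap_bijective (N : Subgroup G) (b : X) : Function.Bijective (compMap N b) := by
  constructor
  · intro x y h
    apply Subtype.ext
    exact congrArg Subtype.val h
  · intro y
    exact ⟨⟨y.1, y.2⟩, rfl⟩

lemma multiply_of_stabilizer (N : Subgroup G) [IsPretransitive N X] (b : X) (m : ℕ)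
    (h : IsMultiplyPretransitive (N.subgroupOf (stabilizer G b))
      (SubMulAction.ofStabilizer G b) m) :
    IsMultiplyPretransitive N X (m + 1) := by
  rw [SubMulAction.ofStabilizer.isMultiplyPretransitive (G := N) (a := b)]
  exact (IsPretransitive.of_embedding_congr (stabMap_surjective N b) (compMap_bijective N b)).1 h

lemma exists_ne_three [Finite X] (h : 4 ≤ Nat.card X) (a b c : X) :
    ∃ x, x ≠ a ∧ x ≠ b ∧ x ≠ c := by
  classical
  have := Fintype.ofFinite X
  by_contra hcon
  push Not at hcon
  have hsub : (Finset.univ : Finset X) ⊆ {a, b, c} := by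
    intro x _
    by_cases hxa : x = a
    · simp [hxa]
    by_cases hxb : x = b
    · simp [hxb]
    simp [hcon x hxa hxb]
  have hle : Fintype.card X ≤ 3 :=
    (Finset.card_le_card hsub).trans Finset.card_le_three
  rw [Nat.card_eq_fintype_card] at h
  omega

lemma regular_of_subgroupOf_eq_bot (N : Subgroup G) [IsPretransitive N X] (b : X)
    (hb : N.subgroupOf (stabilizer G b) = ⊥) : ∀ x : X, stabilizer N x = ⊥ := by
  intro x
  obtain ⟨n0, hn0⟩ := exists_smul_eq N b x
  rw [Subgroup.eq_bot_iff_forall]
  intro m hm
  have h1 : (n0⁻¹ * m * n0) • b = b := by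
    rw [mul_smul, mul_smul, hn0, mem_stabilizer_iff.1 hm, ← hn0, inv_smul_smul]
  have h1' : ((n0⁻¹ * m * n0 : N) : G) ∈ stabilizer G b := h1
  have h2 : (⟨((n0⁻¹ * m * n0 : N) : G), h1'⟩ : stabilizer G b) ∈
      N.subgroupOf (stabilizer G b) := by
    rw [Subgroup.mem_subgroupOf]; exact (n0⁻¹ * m * n0).2
  rw [hb, Subgroup.mem_bot] at h2
  have h3 : n0⁻¹ * m * n0 = 1 := by
    apply Subtype.ext
    exact congrArg (fun z : stabilizer G b => (z : G)) h2
  calc m = n0 * (n0⁻¹ * m * n0) * n0⁻¹ := by group
    _ = 1 := by rw [h3]; group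

end basics

/-- **Jordan's theorem** on normal subgroups of multiply transitive groups (general form). -/
theorem jordan_aux (j : ℕ) : ∀ (G : Type u) (X : Type v) [Group G] [MulAction G X] [Finite X]
    [FaithfulSMul G X] (N : Subgroup G) [N.Normal], N ≠ ⊥ → j + 2 < Nat.card X →
    IsMultiplyPretransitive G X (j + 2) →
    (IsMultiplyPretransitive N X (j + 1) ∨ (j = 1 ∧ ∀ n ∈ N, n ^ 2 = 1)) := by
  induction j with
  | zero =>
    intro G X _ _ _ _ N _ hN hcard h2
    left
    have := normal_transitive h2 N hN
    exact is_one_pretransitive_iff.2 this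
  | succ j ih =>
    intro G X _ _ _ _ N _ hN hcard hk
    have h2 : IsMultiplyPretransitive G X 2 :=
      isMultiplyPretransitive_of_le (n := j + 1 + 2) (by omega) hcard.le
    have h3 : IsMultiplyPretransitive G X 3 :=
      isMultiplyPretransitive_of_le (n := j + 1 + 2) (by omega) hcard.le
    have hNt : IsPretransitive N X := normal_transitive h2 N hN
    have hGt : IsPretransitive G X := RegularNormal.isPretransitive_of_subgroup (X := X) N
    by_cases hA : ∃ b : X, N.subgroupOf (stabilizer G b) = ⊥
    · -- regular case
      obtain ⟨b, hb⟩ := hA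
      have hreg := regular_of_subgroupOf_eq_bot N b hb
      have := Fintype.ofFinite X
      have hc : Nat.card X = Fintype.card X := Nat.card_eq_fintype_card
      have hp2 : IsMultiplyPreprimitive G X 2 := by
        apply isMultiplyPreprimitive_of_isMultiplyPretransitive_succ
        rw [ENat.card_eq_coe_fintype_card]
        have : 3 ≤ Fintype.card X := by omega
        exact_mod_cast this
      rcases RegularNormal.two_primitive N hreg b (by omega) hp2 with h | ⟨hsq, -⟩
      · omega
      by_cases hj : j = 0
      · right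
        exact ⟨by omega, hsq⟩
      · exfalso
        have h4 : IsMultiplyPretransitive G X 4 :=
          isMultiplyPretransitive_of_le (n := j + 1 + 2) (by omega) hcard.le
        have hp3 : IsMultiplyPreprimitive G X 3 := by
          apply isMultiplyPreprimitive_of_isMultiplyPretransitive_succ
          rw [ENat.card_eq_coe_fintype_card]
          have : 4 ≤ Fintype.card X := by omega
          exact_mod_cast this
        rcases RegularNormal.three_primitive N hreg b (by omega) hp3 with h | h <;> omega
    · push Not at hA
      have hGb : ∀ b : X, IsMultiplyPretransitive (stabilizer G b)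
          (SubMulAction.ofStabilizer G b) (j + 2) := fun b =>
        SubMulAction.ofStabilizer.isMultiplyPretransitive.1 hk
      have hcb : ∀ b : X, j + 2 < Nat.card (SubMulAction.ofStabilizer G b) := fun b => by
        rw [SubMulAction.nat_card_ofStabilizer_eq]; omega
      have key := fun b : X => ih (stabilizer G b) (SubMulAction.ofStabilizer G b)
        (N.subgroupOf (stabilizer G b)) (hA b) (hcb b) (hGb b)
      by_cases hB : ∃ b : X, IsMultiplyPretransitive (N.subgroupOf (stabilizer G b))
          (SubMulAction.ofStabilizer G b) (j + 1)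
      · left
        obtain ⟨b, hb⟩ := hB
        exact multiply_of_stabilizer N b (j + 1) hb
      · exfalso
        push Not at hB
        have key' : ∀ b : X, j = 1 ∧ ∀ n ∈ N.subgroupOf (stabilizer G b), n ^ 2 = 1 := fun b =>
          (key b).resolve_left (hB b)
        obtain ⟨b0⟩ : Nonempty X := (Nat.card_pos_iff.1 (by omega)).1
        have hF : ∀ g : N, (∀ x : X, g • x = x) → g = 1 := by
          intro g hg
          apply Subtype.ext
          apply FaithfulSMul.eq_of_smul_eq_smul (α := X)
          intro x
          rw [Subgroup.coe_one, one_smul]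
          exact hg x
        have hT : ∀ a y z : X, y ≠ a → z ≠ a → ∃ t : N, t • a = a ∧ t • y = z := by
          intro a y z hy hz
          have h2' : IsMultiplyPretransitive (stabilizer G a)
              (SubMulAction.ofStabilizer G a) 2 := by
            have := hGb a
            exact isMultiplyPretransitive_of_le (n := j + 2) (by omega) (hcb a).le
          have htr : IsPretransitive (N.subgroupOf (stabilizer G a))
              (SubMulAction.ofStabilizer G a) :=
            normal_transitive h2' (N.subgroupOf (stabilizer G a)) (hA a)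
          obtain ⟨m, hm⟩ := exists_smul_eq (N.subgroupOf (stabilizer G a))
            (⟨y, hy⟩ : SubMulAction.ofStabilizer G a) ⟨z, hz⟩
          refine ⟨⟨((m : stabilizer G a) : G), Subgroup.mem_subgroupOf.1 m.2⟩, ?_, ?_⟩
          · exact (m : stabilizer G a).2
          · exact congrArg Subtype.val hm
        have hE : ∀ (g : N) (x : X), g • x = x → g ^ 2 = 1 := by
          intro g x hx
          have hx' : (g : G) ∈ stabilizer G x := hx
          have h1 := (key' x).2 ⟨(g : G), hx'⟩ (by
            rw [Subgroup.mem_subgroupOf]; exact g.2)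
          apply Subtype.ext
          exact congrArg (fun z : stabilizer G x => (z : G)) h1
        obtain ⟨m, hm⟩ := (Subgroup.ne_bot_iff_exists_ne_one).1 (hA b0)
        have h4 := exists_ne_three (X := X) (by have := (key' b0).1; omega)
        refine no_exceptional hF hT hE b0
          ⟨((m : stabilizer G b0) : G), Subgroup.mem_subgroupOf.1 m.2⟩ ?_ ?_ h4
        · exact (m : stabilizer G b0).2
        · intro h
          apply hm
          apply Subtype.ext
          apply Subtype.ext
          exact congrArg (fun z : N => (z : G)) h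

/-- **Jordan's theorem**: a nontrivial normal subgroup of a faithful `k`-transitive group
(`1 < k < |X|`) is `(k-1)`-transitive, or `k = 3` and it has exponent `2`. -/
theorem jordan {G : Type u} {X : Type v} [Group G] [MulAction G X] [Finite X]
    [FaithfulSMul G X] (N : Subgroup G) [N.Normal] (hN : N ≠ ⊥) {k : ℕ} (hk : 1 < k)
    (hcard : k < Nat.card X) (hG : IsMultiplyPretransitive G X k) :
    IsMultiplyPretransitive N X (k - 1) ∨ (k = 3 ∧ ∀ n ∈ N, n ^ 2 = 1) := by
  obtain ⟨j, rfl⟩ : ∃ j, k = j + 2 := ⟨k - 2, by omega⟩
  rcases jordan_aux j G X N hN hcard hG with h | ⟨h1, h2⟩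
  · exact Or.inl h
  · exact Or.inr ⟨by omega, h2⟩

end Cfsg.Agent.Lib.Helper19.Jordan
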