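import Mathlib
import Cfsg.Agent.Lib.Helper19.Jordan

namespace Cfsg.Agent.Lib.Helper19.JordanPrim

open MulAction

universe u v

section basics

variable {G : Type u} {X : Type v} [Group G] [MulAction G X]

/-- a nontrivial normal subgroup of a faithful primitive group is transitive -/
lemma normal_transitive' [FaithfulSMul G X] (hprim : IsPreprimitive G X)
    (N : Subgroup G) [N.Normal] (hN : N ≠ ⊥) : IsPretransitive N X := by
  have hq : IsQuasiPreprimitive G X := inferInstance
  apply IsQuasiPreprimitive.isPretransitive_of_normal (G := G)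
  intro htop
  apply hN
  rw [Subgroup.eq_bot_iff_forall]
  intro n hn
  apply FaithfulSMul.eq_of_smul_eq_smul (α := X)
  intro x
  have hx : x ∈ fixedPoints N X := by rw [htop]; trivial
  rw [one_smul]
  exact hx ⟨n, hn⟩

end basics

/-- general form of: in a `k`-primitive group which is not `(n-1)`-transitive, a non-regular
nontrivial normal subgroup is `k`-transitive -/
theorem prim_aux (j : ℕ) : ∀ (G : Type u) (X : Type v) [Group G] [MulAction G X] [Finite X]
    [FaithfulSMul G X] (H : Subgroup G) [H.Normal], j + 1 ≤ Nat.card X →
    IsMultiplyPreprimitive G X (j + 1) →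
    ¬ IsMultiplyPretransitive G X (Nat.card X - 1) →
    (∃ a : X, ∃ g ∈ H, g ≠ 1 ∧ g • a = a) →
    IsMultiplyPretransitive H X (j + 1) := by
  induction j with
  | zero =>
    intro G X _ _ _ _ H _ hcard hG hnot ⟨a, g, hgH, hg1, hga⟩
    have hprim : IsPreprimitive G X := (is_one_preprimitive_iff G X).1 hG
    have hH : H ≠ ⊥ := by
      intro h; rw [h, Subgroup.mem_bot] at hgH; exact hg1 hgH
    exact is_one_pretransitive_iff.2 (normal_transitive' hprim H hH)
  | succ j ih =>
    intro G X _ _ _ _ H _ hcard hG hnot ⟨a, g0, hgH, hg1, hga⟩
    have hH : H ≠ ⊥ := by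
      intro h; rw [h, Subgroup.mem_bot] at hgH; exact hg1 hgH
    have hcardE : ((j + 1 + 1 : ℕ) : ENat) ≤ ENat.card X := by
      have := Fintype.ofFinite X
      rw [ENat.card_eq_coe_fintype_card, ← Nat.card_eq_fintype_card]
      exact_mod_cast hcard
    have hG1 : IsMultiplyPreprimitive G X 1 :=
      isMultiplyPreprimitive_of_le G X hG (by omega) hcardE
    have hprim : IsPreprimitive G X := (is_one_preprimitive_iff G X).1 hG1
    have hGt : IsPretransitive G X := hprim.toIsPretransitive
    have hHt : IsPretransitive H X := normal_transitive' hprim H hH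
    have hGa : IsMultiplyPreprimitive (stabilizer G a) (SubMulAction.ofStabilizer G a) (j + 1) :=
      isMultiplyPreprimitive_ofStabilizer (M := G) (α := X) (n := j + 1) (a := a)
    have hca : Nat.card (SubMulAction.ofStabilizer G a) = Nat.card X - 1 :=
      SubMulAction.nat_card_ofStabilizer_eq G a
    have hnot' : ¬ IsMultiplyPretransitive (stabilizer G a) (SubMulAction.ofStabilizer G a)
        (Nat.card (SubMulAction.ofStabilizer G a) - 1) := by
      intro h
      apply hnot
      rw [hca] at h
      have h1 : Nat.card X - 1 = (Nat.card X - 1 - 1) + 1 := by omega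
      rw [h1]
      exact SubMulAction.ofStabilizer.isMultiplyPretransitive.2 h
    have hga' : g0 ∈ stabilizer G a := hga
    have hg0' : (⟨g0, hga'⟩ : stabilizer G a) ∈ H.subgroupOf (stabilizer G a) := by
      rw [Subgroup.mem_subgroupOf]; exact hgH
    have hg0ne : (⟨g0, hga'⟩ : stabilizer G a) ≠ 1 := by
      intro h
      exact hg1 (congrArg Subtype.val h)
    by_cases hcase : ∃ c : SubMulAction.ofStabilizer G a,
        ∃ g' ∈ H.subgroupOf (stabilizer G a), g' ≠ 1 ∧ g' • c = c
    · exact Jordan.multiply_of_stabilizer H a (j + 1)
        (ih (stabilizer G a) _ (H.subgroupOf (stabilizer G a)) (by omega) hGa hnot' hcase)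
    · push Not at hcase
      have hH' : H.subgroupOf (stabilizer G a) ≠ ⊥ := by
        intro h; rw [h, Subgroup.mem_bot] at hg0'; exact hg0ne hg0'
      have hcardE' : ((j + 1 : ℕ) : ENat) ≤ ENat.card (SubMulAction.ofStabilizer G a) := by
        have := Fintype.ofFinite (SubMulAction.ofStabilizer G a)
        rw [ENat.card_eq_coe_fintype_card, ← Nat.card_eq_fintype_card, hca]
        have : j + 1 ≤ Nat.card X - 1 := by omega
        exact_mod_cast this
      have hprim' : IsPreprimitive (stabilizer G a) (SubMulAction.ofStabilizer G a) :=
        (is_one_preprimitive_iff _ _).1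
          (isMultiplyPreprimitive_of_le _ _ hGa (by omega) hcardE')
      have hHt' : IsPretransitive (H.subgroupOf (stabilizer G a))
          (SubMulAction.ofStabilizer G a) :=
        normal_transitive' hprim' _ hH'
      have hH2 : IsMultiplyPretransitive H X 2 :=
        Jordan.multiply_of_stabilizer H a 1 (is_one_pretransitive_iff.2 hHt')
      by_cases hj : j = 0
      · subst hj; exact hH2
      exfalso
      have := Fintype.ofFinite (SubMulAction.ofStabilizer G a)
      have hcY : Fintype.card (SubMulAction.ofStabilizer G a) = Nat.card X - 1 := by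
        rw [← Nat.card_eq_fintype_card, hca]
      have hreg : ∀ y : SubMulAction.ofStabilizer G a,
          stabilizer (H.subgroupOf (stabilizer G a)) y = ⊥ := by
        intro y
        rw [Subgroup.eq_bot_iff_forall]
        intro m hm
        by_contra hm1
        have h1 : (m : stabilizer G a) ≠ 1 := fun h => hm1 (Subtype.ext h)
        exact hcase y (m : stabilizer G a) m.2 h1 hm
      have h2' : IsMultiplyPreprimitive (stabilizer G a) (SubMulAction.ofStabilizer G a) 2 :=
        isMultiplyPreprimitive_of_le _ _ hGa (by omega) hcardE'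
      obtain ⟨y0⟩ : Nonempty (SubMulAction.ofStabilizer G a) := by
        rw [← Fintype.card_pos_iff]; omega
      rcases RegularNormal.two_primitive (H.subgroupOf (stabilizer G a)) hreg y0
        (by omega) h2' with h3 | ⟨hsq, -⟩
      · -- degree 4, G is 3-transitive
        have hn4 : Nat.card X = 4 := by omega
        apply hnot
        rw [hn4]
        have : IsMultiplyPretransitive G X (j + 1 + 1) := inferInstance
        exact isMultiplyPretransitive_of_le (n := j + 1 + 1) (by omega) hcard
      · have hn4 : 4 ≤ Nat.card X := by
          by_contra hlt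
          have hn3 : Nat.card X = 3 := by omega
          apply hnot
          rw [hn3]
          have : IsMultiplyPretransitive G X (j + 1 + 1) := inferInstance
          exact isMultiplyPretransitive_of_le (n := j + 1 + 1) (by omega) hcard
        have hF : ∀ g : H, (∀ x : X, g • x = x) → g = 1 := by
          intro g hg
          apply Subtype.ext
          apply FaithfulSMul.eq_of_smul_eq_smul (α := X)
          intro x
          rw [Subgroup.coe_one, one_smul]
          exact hg x
        have hT : ∀ b y z : X, y ≠ b → z ≠ b → ∃ t : H, t • b = b ∧ t • y = z := by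
          intro b y z hy hz
          exact (is_two_pretransitive_iff.1 hH2) (Ne.symm hy) (Ne.symm hz)
        have hEa : ∀ g : H, g • a = a → g ^ 2 = 1 := by
          intro g hx
          have hx' : (g : G) ∈ stabilizer G a := hx
          have h1 := hsq ⟨(g : G), hx'⟩ (by
            rw [Subgroup.mem_subgroupOf]; exact g.2)
          apply Subtype.ext
          exact congrArg (fun z : stabilizer G a => (z : G)) h1
        have hE : ∀ (g : H) (x : X), g • x = x → g ^ 2 = 1 := by
          intro g x hx
          obtain ⟨n0, hn0⟩ := exists_smul_eq H a x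
          have h1 : (n0⁻¹ * g * n0) • a = a := by
            rw [mul_smul, mul_smul, hn0, hx, ← hn0, inv_smul_smul]
          have h2 := hEa _ h1
          have h3 : (n0⁻¹ * g * n0) ^ 2 = n0⁻¹ * g ^ 2 * n0 := by
            rw [pow_two, pow_two]; group
          rw [h3] at h2
          calc g ^ 2 = n0 * (n0⁻¹ * g ^ 2 * n0) * n0⁻¹ := by
                rw [pow_two]; group
            _ = 1 := by rw [h2]; group
        refine Jordan.no_exceptional hF hT hE a ⟨g0, hgH⟩ hga ?_
          (Jordan.exists_ne_three hn4)
        intro h
        exact hg1 (congrArg Subtype.val h)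

/-- in a faithful `k`-primitive group (`1 ≤ k ≤ |X|`) which is not `(|X|-1)`-transitive, a normal
subgroup containing a nonidentity element with a fixed point is `k`-transitive -/
theorem prim {G : Type u} {X : Type v} [Group G] [MulAction G X] [Finite X]
    [FaithfulSMul G X] (H : Subgroup G) [H.Normal] {k : ℕ} (hk : 1 ≤ k)
    (hcard : k ≤ Nat.card X) (hG : IsMultiplyPreprimitive G X k)
    (hnot : ¬ IsMultiplyPretransitive G X (Nat.card X - 1))
    (hnr : ∃ a : X, ∃ g ∈ H, g ≠ 1 ∧ g • a = a) :
    IsMultiplyPretransitive H X k := by
  obtain ⟨j, rfl⟩ : ∃ j, k = j + 1 := ⟨k - 1, by omega⟩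
  exact prim_aux j G X H hcard hG hnot hnr

end Cfsg.Agent.Lib.Helper19.JordanPrim
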