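import Mathlib
import Cfsg.Agent.Lib.Helper19.JordanPrim
import Cfsg.Agent.Lib.Helper5.FrobAct
import Cfsg.Agent.Lib.Helper5.OrbitCount

namespace Cfsg.Agent.Lib.Helper19.Burnside2T

open MulAction
open scoped Pointwise

section regular

variable {G X : Type*} [Group G] [MulAction G X] [FaithfulSMul G X]

/-- regular normal subgroup of a 2-transitive group: elementary abelian -/
theorem regular_case [Finite X] (h2 : IsMultiplyPretransitive G X 2)
    (N : Subgroup G) [hN : N.Normal] (hNb : N ≠ ⊥) (hreg : ∀ x : X, stabilizer N x = ⊥) :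
    (∀ u ∈ N, ∀ v ∈ N, u * v = v * u) ∧ ∃ p : ℕ, p.Prime ∧ ∀ n ∈ N, n ^ p = 1 := by
  have hNt : IsPretransitive N X := Jordan.normal_transitive h2 N hNb
  -- a point
  obtain ⟨a⟩ : Nonempty X := by
    by_contra hne
    rw [not_nonempty_iff] at hne
    apply hNb
    rw [Subgroup.eq_bot_iff_forall]
    intro n _
    apply FaithfulSMul.eq_of_smul_eq_smul (α := X)
    intro x
    exact (hne.false x).elim
  have hfin : Finite N := RegularNormal.finite_of_regular N hreg a
  -- conjugacy of nonidentity elements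
  have hconj : ∀ u ∈ N, ∀ v ∈ N, u ≠ 1 → v ≠ 1 → ∃ g : G, g * u * g⁻¹ = v := by
    intro u hu v hv hu1 hv1
    have hya : u • a ≠ a := by
      intro h
      have : (⟨u, hu⟩ : N) ∈ stabilizer N a := h
      rw [hreg a, Subgroup.mem_bot] at this
      exact hu1 (congrArg Subtype.val this)
    have hza : v • a ≠ a := by
      intro h
      have : (⟨v, hv⟩ : N) ∈ stabilizer N a := h
      rw [hreg a, Subgroup.mem_bot] at this
      exact hv1 (congrArg Subtype.val this)
    obtain ⟨g, hga, hgy⟩ := (is_two_pretransitive_iff.1 h2) (Ne.symm hya) (Ne.symm hza)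
    refine ⟨g, ?_⟩
    have h1 : RegularNormal.mover N a (u • a) = ⟨u, hu⟩ :=
      (RegularNormal.mover_unique N a hreg (n := ⟨u, hu⟩) rfl).symm
    have h2' : RegularNormal.mover N a (v • a) = ⟨v, hv⟩ :=
      (RegularNormal.mover_unique N a hreg (n := ⟨v, hv⟩) rfl).symm
    have h3 := RegularNormal.mover_conj N a hreg (mem_stabilizer_iff.2 hga) (u • a)
    rw [hgy, h1, h2'] at h3
    exact h3.symm
  -- nontrivial
  have hnt : Nontrivial N := by
    rw [← Subgroup.nontrivial_iff_ne_bot] at hNb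
    exact hNb
  have hcard1 : Nat.card N ≠ 1 := by
    intro h
    have := (Nat.card_eq_one_iff_unique.1 h).1
    exact not_subsingleton N this
  obtain ⟨p, hp, hpd⟩ := Nat.exists_prime_and_dvd hcard1
  have : Fact p.Prime := ⟨hp⟩
  obtain ⟨x, hx⟩ := exists_prime_orderOf_dvd_card' p hpd
  have hx1 : (x : G) ≠ 1 := by
    intro h
    have : x = 1 := Subtype.ext h
    rw [this, orderOf_one] at hx
    exact hp.one_lt.ne hx
  have hxp : (x : G) ^ p = 1 := by
    have := pow_orderOf_eq_one x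
    rw [hx] at this
    exact congrArg Subtype.val this
  have hpow : ∀ n ∈ N, n ^ p = 1 := by
    intro n hn
    by_cases hn1 : n = 1
    · rw [hn1, one_pow]
    obtain ⟨g, hg⟩ := hconj x x.2 n hn hx1 hn1
    rw [← hg, conj_pow, hxp, mul_one, mul_inv_cancel]
  refine ⟨?_, p, hp, hpow⟩
  -- center
  have hpg : IsPGroup p N := fun n => ⟨1, by
    rw [pow_one]; exact Subtype.ext (hpow n n.2)⟩
  have hcen := hpg.center_nontrivial
  obtain ⟨z, hz1⟩ := exists_ne (1 : Subgroup.center N)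
  have hzc : ∀ w : N, w * (z : N) = (z : N) * w := fun w => Subgroup.mem_center_iff.1 z.2 w
  have hz1' : ((z : N) : G) ≠ 1 := by
    intro h
    apply hz1
    apply Subtype.ext
    apply Subtype.ext
    exact h
  have hcentral : ∀ u ∈ N, ∀ w ∈ N, u * w = w * u := by
    intro u hu w hw
    by_cases hu1 : u = 1
    · rw [hu1, one_mul, mul_one]
    obtain ⟨g, hg⟩ := hconj ((z : N) : G) (z : N).2 u hu hz1' hu1
    have hw' : g⁻¹ * w * g ∈ N := by
      have := hN.conj_mem w hw g⁻¹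
      rwa [inv_inv] at this
    have h4 := hzc ⟨g⁻¹ * w * g, hw'⟩
    have h5 : (g⁻¹ * w * g) * ((z : N) : G) = ((z : N) : G) * (g⁻¹ * w * g) :=
      congrArg Subtype.val h4
    rw [← hg]
    calc g * ((z : N) : G) * g⁻¹ * w = g * (((z : N) : G) * (g⁻¹ * w * g)) * g⁻¹ := by group
      _ = g * ((g⁻¹ * w * g) * ((z : N) : G)) * g⁻¹ := by rw [h5]
      _ = w * (g * ((z : N) : G) * g⁻¹) := by group
  exact hcentral

end regular

section blocks

variable {G X : Type*} [Group G] [MulAction G X]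

/-- translates of blocks of a normal subgroup are blocks -/
lemma isBlock_smul_of_normal (N : Subgroup G) [hN : N.Normal] {B : Set X} (hB : IsBlock N B)
    (g : G) : IsBlock N (g • B) := by
  rw [isBlock_iff_smul_eq_of_mem] at hB ⊢
  intro n x hx hnx
  have hx' : g⁻¹ • x ∈ B := Set.mem_smul_set_iff_inv_smul_mem.1 hx
  have hnx' : g⁻¹ • ((n : G) • x) ∈ B := Set.mem_smul_set_iff_inv_smul_mem.1 hnx
  have hmem : g⁻¹ * n * g ∈ N := by
    have := hN.conj_mem n n.2 g⁻¹
    rwa [inv_inv] at this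
  have h1 : (⟨g⁻¹ * n * g, hmem⟩ : N) • (g⁻¹ • x) ∈ B := by
    change (g⁻¹ * n * g) • (g⁻¹ • x) ∈ B
    rw [mul_smul, mul_smul, smul_inv_smul]
    exact hnx'
  have h2 := hB hx' h1
  have h3 : (g⁻¹ * (n : G) * g) • B = B := h2
  change (n : G) • g • B = g • B
  calc (n : G) • g • B = g • ((g⁻¹ * (n : G) * g) • B) := by
        rw [smul_smul, smul_smul]; congr 1; group
    _ = g • B := by rw [h3]

/-- in a 2-transitive group, if a normal subgroup `N` has a minimal nontrivial block then the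
two-point stabilizers of `N` are trivial -/
lemma two_point_stab_trivial [Finite X] [FaithfulSMul G X] (h2 : IsMultiplyPretransitive G X 2)
    (N : Subgroup G) [N.Normal] (B : Set X) (hB : IsBlock N B) (hBn : ¬ IsTrivialBlock B)
    (hBmin : ∀ C : Set X, IsBlock N C → ¬ IsTrivialBlock C → B.ncard ≤ C.ncard)
    (n : G) (hn : n ∈ N) (a x : X) (hax : a ≠ x) (hna : n • a = a) (hnx : n • x = x) :
    n = 1 := by
  have hP1 : ∀ g : G, IsBlock N (g • B) := fun g => isBlock_smul_of_normal N hB g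
  have hP2 : ∀ g : G, (g • B).ncard = B.ncard := fun g => Set.ncard_smul_set g B
  have hP3 : ∀ g : G, g • B ≠ Set.univ := by
    intro g h
    apply hBn
    right
    have := congrArg (fun S => g⁻¹ • S) h
    simpa using this
  obtain ⟨b₁, hb₁, b₂, hb₂, hb12⟩ : ∃ b₁ ∈ B, ∃ b₂ ∈ B, b₁ ≠ b₂ := by
    by_contra hcon
    push Not at hcon
    exact hBn (Or.inl fun p hp q hq => hcon p hp q hq)
  have hF3 : ∀ p q : X, p ≠ q → ∃ g : G, p ∈ g • B ∧ q ∈ g • B := by
    intro p q hpq
    obtain ⟨g, hg1, hg2⟩ := (is_two_pretransitive_iff.1 h2) hb12 hpq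
    exact ⟨g, ⟨b₁, hb₁, hg1⟩, ⟨b₂, hb₂, hg2⟩⟩
  have hF2 : ∀ g g' : G, ∀ p q : X, p ∈ g • B → p ∈ g' • B → q ∈ g • B → q ∈ g' • B →
      p ≠ q → g • B = g' • B := by
    intro g g' p q hp hp' hq hq' hpq
    by_contra hne
    have hC : IsBlock N (g • B ∩ g' • B) := (hP1 g).inter (hP1 g')
    have hCn : ¬ IsTrivialBlock (g • B ∩ g' • B) := by
      rintro (hs | hu)
      · exact hpq (hs ⟨hp, hp'⟩ ⟨hq, hq'⟩)
      · apply hP3 g
        rw [Set.eq_univ_iff_forall] at hu ⊢
        exact fun y => (hu y).1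
    have h1 := hBmin _ hC hCn
    have h2' : g • B ∩ g' • B ⊆ g • B := Set.inter_subset_left
    have h3 : g • B ∩ g' • B = g • B :=
      Set.eq_of_subset_of_ncard_le h2' (by rw [hP2]; exact h1)
    have h4 : g • B ⊆ g' • B := by
      rw [← h3]; exact Set.inter_subset_right
    exact hne (Set.eq_of_subset_of_ncard_le h4 (by rw [hP2, hP2]))
  have hF1 : ∀ g : G, ∀ p z : X, p ∈ g • B → z ∈ g • B → n • p = p → n • z ∈ g • B := by
    intro g p z hp hz hnp
    have hblk := hP1 g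
    rw [isBlock_iff_smul_eq_of_mem] at hblk
    have h1 : (⟨n, hn⟩ : N) • p ∈ g • B := by
      change n • p ∈ g • B
      rw [hnp]; exact hp
    have h2' : (⟨n, hn⟩ : N) • (g • B) = g • B := hblk hp h1
    rw [← h2']
    exact ⟨z, hz, rfl⟩
  -- the sub-lemma
  have hS : ∀ a x : X, a ≠ x → n • a = a → n • x = x → ∀ g₀ : G, a ∈ g₀ • B → x ∈ g₀ • B →
      ∀ z : X, z ∉ g₀ • B → n • z = z := by
    intro a x hax hna hnx g₀ ha0 hx0 z hz0
    have hza : a ≠ z := fun h => hz0 (h ▸ ha0)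
    have hzx : x ≠ z := fun h => hz0 (h ▸ hx0)
    obtain ⟨g₁, ha1, hz1⟩ := hF3 a z hza
    obtain ⟨g₂, hx2, hz2⟩ := hF3 x z hzx
    have hnz1 : n • z ∈ g₁ • B := hF1 g₁ a z ha1 hz1 hna
    have hnz2 : n • z ∈ g₂ • B := hF1 g₂ x z hx2 hz2 hnx
    have hne : g₁ • B ≠ g₂ • B := by
      intro h
      have hx1 : x ∈ g₁ • B := by rw [h]; exact hx2
      have := hF2 g₀ g₁ a x ha0 ha1 hx0 hx1 hax
      apply hz0
      rw [this]; exact hz1
    by_contra hnz
    exact hne (hF2 g₁ g₂ (n • z) z hnz1 hnz2 hz1 hz2 hnz)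
  obtain ⟨g₀, ha0, hx0⟩ := hF3 a x hax
  apply FaithfulSMul.eq_of_smul_eq_smul (α := X)
  intro z
  rw [one_smul]
  by_cases hz0 : z ∈ g₀ • B
  · by_cases hza : z = a
    · rw [hza, hna]
    obtain ⟨w, hw⟩ : ∃ w : X, w ∉ g₀ • B := by
      by_contra hcon
      push Not at hcon
      exact hP3 g₀ (Set.eq_univ_iff_forall.2 hcon)
    have hnw : n • w = w := hS a x hax hna hnx g₀ ha0 hx0 w hw
    have haw : a ≠ w := fun h => hw (h ▸ ha0)
    obtain ⟨g₀', ha0', hw0'⟩ := hF3 a w haw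
    apply hS a w haw hna hnw g₀' ha0' hw0' z
    intro hz0'
    have := hF2 g₀ g₀' a z ha0 ha0' hz0 hz0' (Ne.symm hza)
    apply hw
    rw [this]; exact hw0'
  · exact hS a x hax hna hnx g₀ ha0 hx0 z hz0

/-- a non-regular minimal normal subgroup of a finite 2-transitive group is primitive -/
theorem primitive_case [Finite X] [Finite G] [FaithfulSMul G X]
    (h2 : IsMultiplyPretransitive G X 2)
    (N : Subgroup G) [hN : N.Normal] (hNb : N ≠ ⊥)
    (hmin : ∀ M : Subgroup G, M.Normal → M ≤ N → M = ⊥ ∨ M = N)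
    (hnr : ∃ a : X, ∃ n ∈ N, n ≠ 1 ∧ n • a = a) : IsPreprimitive N X := by
  classical
  have hNt : IsPretransitive N X := Jordan.normal_transitive h2 N hNb
  by_contra hnp
  have hex : ∃ k : ℕ, ∃ B : Set X, IsBlock N B ∧ ¬ IsTrivialBlock B ∧ B.ncard = k := by
    by_contra hcon
    push Not at hcon
    apply hnp
    refine ⟨fun {B} hB => ?_⟩
    by_contra hBn
    exact hcon B.ncard B hB hBn rfl
  obtain ⟨B, hB, hBn, hBk⟩ := Nat.find_spec hex
  have hBmin : ∀ C : Set X, IsBlock N C → ¬ IsTrivialBlock C → B.ncard ≤ C.ncard := by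
    intro C hC hCn
    rw [hBk]
    exact Nat.find_min' hex ⟨C, hC, hCn, rfl⟩
  have hsemi : ∀ x : N, x ≠ 1 → ∀ c d : X, x • c = c → x • d = d → c = d := by
    intro x hx1 c d hc hd
    by_contra hcd
    apply hx1
    apply Subtype.ext
    exact two_point_stab_trivial h2 N B hB hBn hBmin (x : G) x.2 c d hcd hc hd
  obtain ⟨a, n₀, hn₀, hn₀1, hn₀a⟩ := hnr
  obtain ⟨b, hb⟩ : ∃ b : X, n₀ • b ≠ b := by
    by_contra hcon
    push Not at hcon
    apply hn₀1
    apply FaithfulSMul.eq_of_smul_eq_smul (α := X)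
    intro z
    rw [one_smul]; exact hcon z
  have hab : a ≠ b := by
    intro h
    rw [← h] at hb
    exact hb hn₀a
  have hne : stabilizer N a ≠ ⊥ := by
    intro h
    have h1 : (⟨n₀, hn₀⟩ : N) ∈ stabilizer N a := hn₀a
    rw [h, Subgroup.mem_bot] at h1
    exact hn₀1 (congrArg Subtype.val h1)
  obtain ⟨R, hRn, hRmem, -, -, hRt⟩ :=
    Cfsg.Agent.Lib.Helper5.FrobAct.frob_action (X := N) (Ω := X) hsemi a b hab hne
  have hR'n : (R.map N.subtype).Normal := by
    refine ⟨fun r hr g => ?_⟩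
    obtain ⟨x, hxR, rfl⟩ := hr
    have hy : g * (x : G) * g⁻¹ ∈ N := hN.conj_mem x x.2 g
    refine ⟨⟨g * (x : G) * g⁻¹, hy⟩, ?_, rfl⟩
    rw [SetLike.mem_coe, hRmem]
    rcases (hRmem x).1 hxR with h1 | hfpf
    · left
      apply Subtype.ext
      change g * (x : G) * g⁻¹ = 1
      rw [h1]; simp
    · right
      intro c hc
      apply hfpf (g⁻¹ • c)
      have hc' : (g * (x : G) * g⁻¹) • c = c := hc
      change (x : G) • g⁻¹ • c = g⁻¹ • c
      rw [mul_smul, mul_smul] at hc'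
      have := congrArg (fun y => g⁻¹ • y) hc'
      simpa using this
  have hR'le : R.map N.subtype ≤ N := by
    rintro _ ⟨x, -, rfl⟩
    exact x.2
  rcases hmin _ hR'n hR'le with hbot | htop
  · obtain ⟨k, hkR, hk⟩ := hRt a b
    have : (k : G) ∈ R.map N.subtype := ⟨k, hkR, rfl⟩
    rw [hbot, Subgroup.mem_bot] at this
    apply hab
    rw [← hk]
    change a = (k : G) • a
    rw [this, one_smul]
  · have : n₀ ∈ R.map N.subtype := by rw [htop]; exact hn₀
    obtain ⟨x, hxR, hx⟩ := this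
    have hx' : (x : G) = n₀ := hx
    rcases (hRmem x).1 hxR with h1 | hfpf
    · apply hn₀1
      rw [← hx', h1]; rfl
    · apply hfpf a
      change (x : G) • a = a
      rw [hx', hn₀a]

end blocks

section simple

variable {G X : Type*} [Group G] [MulAction G X]

/-- the centralizer of a transitive subgroup acts semiregularly -/
lemma eq_one_of_commute_of_fixed [FaithfulSMul G X] (A : Subgroup G)
    (hA : ∀ x y : X, ∃ k ∈ A, k • x = y) (c : G) (hc : ∀ k ∈ A, c * k = k * c) (a : X)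
    (hca : c • a = a) : c = 1 := by
  apply FaithfulSMul.eq_of_smul_eq_smul (α := X)
  intro y
  obtain ⟨k, hk, hka⟩ := hA a y
  rw [one_smul, ← hka, ← mul_smul, hc k hk, mul_smul, hca]

/-- conjugate subgroup -/
def conjS (g : G) (K : Subgroup G) : Subgroup G := K.map (MulAut.conj g).toMonoidHom

lemma mem_conjS {g : G} {K : Subgroup G} {x : G} : x ∈ conjS g K ↔ ∃ k ∈ K, g * k * g⁻¹ = x := by
  simp [conjS, Subgroup.mem_map]

lemma card_conjS (g : G) (K : Subgroup G) : Nat.card (conjS g K) = Nat.card K :=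
  Subgroup.card_map_of_injective (MulAut.conj g).injective

lemma conjS_conjS (g h : G) (K : Subgroup G) : conjS h (conjS g K) = conjS (h * g) K := by
  ext x
  simp only [mem_conjS]
  constructor
  · rintro ⟨y, ⟨k, hk, rfl⟩, rfl⟩
    exact ⟨k, hk, by group⟩
  · rintro ⟨k, hk, rfl⟩
    exact ⟨g * k * g⁻¹, ⟨k, hk, rfl⟩, by group⟩

/-- "normal in `N`, nontrivial" for subgroups of `G` inside `N` -/
def PN (N K : Subgroup G) : Prop :=
  K ≤ N ∧ (∀ n ∈ N, ∀ k ∈ K, n * k * n⁻¹ ∈ K) ∧ K ≠ ⊥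

lemma PN_conjS (N : Subgroup G) [hN : N.Normal] {K : Subgroup G} (hK : PN N K) (g : G) :
    PN N (conjS g K) := by
  refine ⟨?_, ?_, ?_⟩
  · intro x hx
    obtain ⟨k, hk, rfl⟩ := mem_conjS.1 hx
    exact hN.conj_mem k (hK.1 hk) g
  · intro n hn x hx
    obtain ⟨k, hk, rfl⟩ := mem_conjS.1 hx
    have hn' : g⁻¹ * n * g ∈ N := by
      have := hN.conj_mem n hn g⁻¹
      rwa [inv_inv] at this
    refine mem_conjS.2 ⟨(g⁻¹ * n * g) * k * (g⁻¹ * n * g)⁻¹, hK.2.1 _ hn' k hk, by group⟩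
  · intro h
    apply hK.2.2
    rw [Subgroup.eq_bot_iff_forall] at h ⊢
    intro k hk
    have := h (g * k * g⁻¹) (mem_conjS.2 ⟨k, hk, rfl⟩)
    have h2 : k = g⁻¹ * (g * k * g⁻¹) * g := by group
    rw [h2, this]; group

/-- a nontrivial subgroup of `G` normalized by the primitive normal subgroup `N` is transitive -/
lemma transitive_of_PN [FaithfulSMul G X] (N : Subgroup G) (hprim : IsPreprimitive N X)
    {K : Subgroup G} (hK : PN N K) : ∀ x y : X, ∃ k ∈ K, k • x = y := by
  have hnorm : (K.subgroupOf N).Normal := by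
    refine ⟨fun k hk n => ?_⟩
    rw [Subgroup.mem_subgroupOf] at hk ⊢
    exact hK.2.1 n n.2 k hk
  have hne : K.subgroupOf N ≠ ⊥ := by
    intro h
    apply hK.2.2
    rw [Subgroup.eq_bot_iff_forall] at h ⊢
    intro k hk
    have := h ⟨k, hK.1 hk⟩ (by rw [Subgroup.mem_subgroupOf]; exact hk)
    exact congrArg Subtype.val this
  have htr : IsPretransitive (K.subgroupOf N) X :=
    JordanPrim.normal_transitive' (G := N) (X := X) hprim (K.subgroupOf N) hne
  intro x y
  obtain ⟨k, hk⟩ := exists_smul_eq (K.subgroupOf N) x y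
  exact ⟨((k : N) : G), Subgroup.mem_subgroupOf.1 k.2, hk⟩

/-- two distinct minimal `N`-normal subgroups intersect trivially and commute -/
lemma disjoint_commute [Finite G] (N : Subgroup G) {K K' : Subgroup G} (hK : PN N K)
    (hK' : PN N K') (hcard : Nat.card K' = Nat.card K)
    (hKmin : ∀ L : Subgroup G, PN N L → Nat.card K ≤ Nat.card L) (hne : K' ≠ K) :
    K ⊓ K' = ⊥ ∧ ∀ k ∈ K, ∀ k' ∈ K', k * k' = k' * k := by
  have hinf : K ⊓ K' = ⊥ := by
    by_contra hnb
    have hP : PN N (K ⊓ K') := by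
      refine ⟨inf_le_left.trans hK.1, ?_, hnb⟩
      intro n hn k hk
      exact ⟨hK.2.1 n hn k hk.1, hK'.2.1 n hn k hk.2⟩
    have h1 := hKmin _ hP
    have h2 : K ⊓ K' = K := Subgroup.eq_of_le_of_card_ge inf_le_left h1
    have h3 : K ≤ K' := by rw [← h2]; exact inf_le_right
    exact hne (Subgroup.eq_of_le_of_card_ge h3 hcard.le).symm
  refine ⟨hinf, ?_⟩
  intro k hk k' hk'
  have h1 : k * k' * k⁻¹ * k'⁻¹ ∈ K := by
    have : k' * k⁻¹ * k'⁻¹ ∈ K := hK.2.1 k' (hK'.1 hk') k⁻¹ (K.inv_mem hk)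
    have h := K.mul_mem hk this
    have e : k * (k' * k⁻¹ * k'⁻¹) = k * k' * k⁻¹ * k'⁻¹ := by group
    rwa [e] at h
  have h2 : k * k' * k⁻¹ * k'⁻¹ ∈ K' := by
    have : k * k' * k⁻¹ ∈ K' := hK'.2.1 k (hK.1 hk) k' hk'
    exact K'.mul_mem this (K'.inv_mem hk')
  have h3 : k * k' * k⁻¹ * k'⁻¹ ∈ K ⊓ K' := ⟨h1, h2⟩
  rw [hinf, Subgroup.mem_bot] at h3
  calc k * k' = (k * k' * k⁻¹ * k'⁻¹) * (k' * k) := by group
    _ = k' * k := by rw [h3, one_mul]

/-- two commuting transitive subgroups are regular: cardinality -/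
lemma card_eq_of_commute_transitive [FaithfulSMul G X] (A B : Subgroup G)
    (hA : ∀ x y : X, ∃ k ∈ A, k • x = y) (hB : ∀ x y : X, ∃ k ∈ B, k • x = y)
    (hcomm : ∀ k ∈ A, ∀ k' ∈ B, k * k' = k' * k) (a : X) : Nat.card A = Nat.card X := by
  apply Nat.card_congr
  refine Equiv.ofBijective (fun k : A => (k : G) • a) ⟨?_, ?_⟩
  · intro k k' h
    have h1 : ((k' : G)⁻¹ * (k : G)) • a = a := by
      change (k : G) • a = (k' : G) • a at h
      rw [mul_smul, h, inv_smul_smul]
    have h2 : (k' : G)⁻¹ * (k : G) = 1 := by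
      apply eq_one_of_commute_of_fixed B hB _ _ a h1
      intro b hb
      have e1 := hcomm k k.2 b hb
      have e2 := hcomm k' k'.2 b hb
      have e3 : (k' : G)⁻¹ * b = b * (k' : G)⁻¹ := by
        calc (k' : G)⁻¹ * b = (k' : G)⁻¹ * (b * (k' : G)) * (k' : G)⁻¹ := by group
          _ = (k' : G)⁻¹ * ((k' : G) * b) * (k' : G)⁻¹ := by rw [e2]
          _ = b * (k' : G)⁻¹ := by group
      calc (k' : G)⁻¹ * (k : G) * b = (k' : G)⁻¹ * ((k : G) * b) := by group
        _ = (k' : G)⁻¹ * (b * (k : G)) := by rw [e1]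
        _ = ((k' : G)⁻¹ * b) * (k : G) := by group
        _ = (b * (k' : G)⁻¹) * (k : G) := by rw [e3]
        _ = b * ((k' : G)⁻¹ * (k : G)) := by group
    apply Subtype.ext
    exact (inv_mul_eq_one.1 h2).symm
  · intro y
    obtain ⟨k, hk, hka⟩ := hA a y
    exact ⟨⟨k, hk⟩, hka⟩

/-- point stabilizer orbits off the point all have the same size -/
lemma stab_orbit_ncard_le [Finite X] (N : Subgroup G) [hN : N.Normal] (a : X) (g : G)
    (hg : g • a = a) (s : X) :
    (orbit (stabilizer N a) s).ncard ≤ (orbit (stabilizer N a) (g • s)).ncard := by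
  have hsub : g • orbit (stabilizer N a) s ⊆ orbit (stabilizer N a) (g • s) := by
    rintro _ ⟨y, ⟨h, rfl⟩, rfl⟩
    have hmem : g * ((h : N) : G) * g⁻¹ ∈ N := hN.conj_mem _ (h : N).2 g
    have hfix : (⟨g * ((h : N) : G) * g⁻¹, hmem⟩ : N) ∈ stabilizer N a := by
      rw [mem_stabilizer_iff]
      change (g * ((h : N) : G) * g⁻¹) • a = a
      have h1 : ((h : N) : G) • a = a := h.2
      have h2 : g⁻¹ • a = a := by rw [inv_smul_eq_iff, hg]
      rw [mul_smul, mul_smul, h2, h1, hg]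
    refine ⟨⟨⟨g * ((h : N) : G) * g⁻¹, hmem⟩, hfix⟩, ?_⟩
    change (g * ((h : N) : G) * g⁻¹) • g • s = g • ((h : N) : G) • s
    rw [mul_smul, mul_smul, inv_smul_smul]
  calc (orbit (stabilizer N a) s).ncard = (g • orbit (stabilizer N a) s).ncard :=
        (Set.ncard_smul_set g _).symm
    _ ≤ _ := Set.ncard_le_ncard hsub (Set.toFinite _)

/-- the key contradiction: a minimal `N`-normal subgroup must be `N` itself -/
lemma no_proper_min [Finite X] [Finite G] [FaithfulSMul G X]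
    (h2 : IsMultiplyPretransitive G X 2) (N : Subgroup G) [hN : N.Normal]
    (hmin : ∀ M : Subgroup G, M.Normal → M ≤ N → M = ⊥ ∨ M = N)
    (hprim : IsPreprimitive N X) (a : X) (n₀ : G) (hn₀ : n₀ ∈ N) (hn₀1 : n₀ ≠ 1)
    (hn₀a : n₀ • a = a) (K : Subgroup G) (hK : PN N K)
    (hKmin : ∀ L : Subgroup G, PN N L → Nat.card K ≤ Nat.card L) (hKN : K ≠ N) : False := by
  classical
  -- step 1: a conjugate different from K
  obtain ⟨g, hg⟩ : ∃ g : G, conjS g K ≠ K := by
    by_contra hcon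
    push Not at hcon
    have hKn : K.Normal := by
      refine ⟨fun k hk g => ?_⟩
      rw [← hcon g]
      exact mem_conjS.2 ⟨k, hk, rfl⟩
    rcases hmin K hKn hK.1 with h | h
    · exact hK.2.2 h
    · exact hKN h
  set K' := conjS g K with hK'def
  have hK' : PN N K' := PN_conjS N hK g
  have hcard' : Nat.card K' = Nat.card K := card_conjS g K
  obtain ⟨hinf, hcomm⟩ := disjoint_commute N hK hK' hcard' hKmin hg
  have htrK := transitive_of_PN N hprim hK
  have htrK' := transitive_of_PN N hprim hK'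
  -- step 5: only two conjugates
  have htwo : ∀ g₂ : G, conjS g₂ K ≠ K → conjS g₂ K = K' := by
    intro g₂ hg₂
    have hK₂ : PN N (conjS g₂ K) := PN_conjS N hK g₂
    have hcard₂ : Nat.card (conjS g₂ K) = Nat.card K := card_conjS g₂ K
    obtain ⟨-, hcomm₂⟩ := disjoint_commute N hK hK₂ hcard₂ hKmin hg₂
    apply Subgroup.eq_of_le_of_card_ge
    · intro k₂ hk₂
      obtain ⟨k', hk', hka⟩ := htrK' a (k₂ • a)
      have hc : k'⁻¹ * k₂ = 1 := by
        apply eq_one_of_commute_of_fixed K htrK _ _ a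
        · rw [mul_smul, ← hka, inv_smul_smul]
        · intro k hk
          have e1 := hcomm k hk k' hk'
          have e2 := hcomm₂ k hk k₂ hk₂
          have e3 : k'⁻¹ * k = k * k'⁻¹ := by
            calc k'⁻¹ * k = k'⁻¹ * (k * k') * k'⁻¹ := by group
              _ = k'⁻¹ * (k' * k) * k'⁻¹ := by rw [e1]
              _ = k * k'⁻¹ := by group
          calc k'⁻¹ * k₂ * k = k'⁻¹ * (k₂ * k) := by group
            _ = k'⁻¹ * (k * k₂) := by rw [e2]
            _ = (k'⁻¹ * k) * k₂ := by group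
            _ = (k * k'⁻¹) * k₂ := by rw [e3]
            _ = k * (k'⁻¹ * k₂) := by group
      have : k₂ = k' := (inv_mul_eq_one.1 hc).symm
      rw [this]; exact hk'
    · rw [hcard', hcard₂]
  -- step 6: K ⊔ K' is normal
  have hconjle : ∀ h : G, conjS h K ≤ K ⊔ K' := by
    intro h
    by_cases hh : conjS h K = K
    · rw [hh]; exact le_sup_left
    · rw [htwo h hh]; exact le_sup_right
  have hMn : (K ⊔ K').Normal := by
    refine ⟨fun m hm h => ?_⟩
    have h1 : h * m * h⁻¹ ∈ conjS h (K ⊔ K') := mem_conjS.2 ⟨m, hm, rfl⟩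
    have h2' : conjS h (K ⊔ K') ≤ K ⊔ K' := by
      rw [conjS, Subgroup.map_sup]
      apply sup_le
      · exact hconjle h
      · have : Subgroup.map (MulAut.conj h).toMonoidHom K' = conjS (h * g) K := by
          rw [hK'def]; exact conjS_conjS g h K
        rw [this]
        exact hconjle (h * g)
    exact h2' h1
  have hMN : K ⊔ K' = N := by
    rcases hmin _ hMn (sup_le hK.1 hK'.1) with h | h
    · exfalso
      apply hK.2.2
      rw [eq_bot_iff, ← h]; exact le_sup_left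
    · exact h
  -- step 8: cardinality of N
  have hcX : Nat.card K = Nat.card X := card_eq_of_commute_transitive K K' htrK htrK' hcomm a
  have hcX' : Nat.card K' = Nat.card X := by rw [hcard', hcX]
  have hcN : Nat.card N = Nat.card X * Nat.card X := by
    have hcm : ∀ (k : K) (k' : K'), Commute (K.subtype k) (K'.subtype k') :=
      fun k k' => hcomm k k.2 k' k'.2
    have hrange : (MonoidHom.noncommCoprod K.subtype K'.subtype hcm).range = N := by
      rw [MonoidHom.noncommCoprod_range, Subgroup.range_subtype, Subgroup.range_subtype, hMN]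
    have hinj : Function.Injective (MonoidHom.noncommCoprod K.subtype K'.subtype hcm) := by
      rw [MonoidHom.noncommCoprod_injective]
      refine ⟨Subtype.val_injective, Subtype.val_injective, ?_⟩
      rw [Subgroup.range_subtype, Subgroup.range_subtype, disjoint_iff]
      exact hinf
    rw [← hrange, ← Nat.card_congr (MonoidHom.ofInjective hinj).toEquiv, Nat.card_prod, hcX, hcX']
  have hnpos : 0 < Nat.card X := Nat.card_pos_iff.2 ⟨⟨a⟩, inferInstance⟩
  have hNt : IsPretransitive N X := hprim.toIsPretransitive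
  have hcH : Nat.card (stabilizer N a) = Nat.card X := by
    have h1 := Subgroup.index_mul_card (stabilizer N a)
    rw [index_stabilizer_of_transitive, hcN] at h1
    exact Nat.eq_of_mul_eq_mul_left hnpos h1
  -- step 11: orbits of the stabilizer
  obtain ⟨b, hb⟩ : ∃ b : X, n₀ • b ≠ b := by
    by_contra hcon
    push Not at hcon
    apply hn₀1
    apply FaithfulSMul.eq_of_smul_eq_smul (α := X)
    intro z
    rw [one_smul]; exact hcon z
  have hba : b ≠ a := by
    intro h
    rw [h] at hb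
    exact hb hn₀a
  set d := (orbit (stabilizer N a) b).ncard with hd
  have hdeq : ∀ s ∈ ({a} : Set X)ᶜ, (orbit (stabilizer N a) s).ncard = d := by
    intro s hs
    have hsa : s ≠ a := hs
    obtain ⟨g₁, hg₁a, hg₁b⟩ := (is_two_pretransitive_iff.1 h2) (Ne.symm hba) (Ne.symm hsa)
    have h1 := stab_orbit_ncard_le N a g₁ hg₁a b
    rw [hg₁b] at h1
    have hg₁a' : g₁⁻¹ • a = a := by rw [inv_smul_eq_iff, hg₁a]
    have h3 := stab_orbit_ncard_le N a g₁⁻¹ hg₁a' s
    rw [← hg₁b, inv_smul_smul] at h3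
    rw [hg₁b] at h3
    exact le_antisymm h3 h1
  have hd1 : d ∣ Nat.card X := by
    rw [← hcH, hd, ← index_stabilizer]
    exact Subgroup.index_dvd_card _
  have hd2 : d ∣ Nat.card X - 1 := by
    have hS : ∀ h : stabilizer N a, ∀ s ∈ ({a} : Set X)ᶜ, h • s ∈ ({a} : Set X)ᶜ := by
      intro h s hs hhs
      apply hs
      have h1 : h • s = a := hhs
      have h2' : h • a = a := h.2
      have : h • s = h • a := by rw [h1, h2']
      exact smul_left_cancel h this
    have := Cfsg.Agent.Lib.Helper5.dvd_ncard_of_orbit_ncard_eq (H := stabilizer N a)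
      (({a} : Set X)ᶜ) hS d hdeq
    rwa [Set.ncard_compl, Set.ncard_singleton] at this
  have hd3 : d = 1 := by
    have h1 : d ∣ Nat.card X - (Nat.card X - 1) := Nat.dvd_sub hd1 hd2
    have h2' : Nat.card X - (Nat.card X - 1) = 1 := by omega
    rw [h2'] at h1
    exact Nat.dvd_one.1 h1
  rw [hd] at hd3
  obtain ⟨c, hc⟩ := Set.ncard_eq_one.1 hd3
  have hb1 : b ∈ orbit (stabilizer N a) b := mem_orbit_self b
  have hb2 : n₀ • b ∈ orbit (stabilizer N a) b :=
    ⟨⟨⟨n₀, hn₀⟩, hn₀a⟩, rfl⟩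
  rw [hc] at hb1 hb2
  exact hb (hb2.trans hb1.symm)

/-- a non-regular primitive minimal normal subgroup of a finite 2-transitive group is simple -/
theorem simple_case [Finite X] [Finite G] [FaithfulSMul G X]
    (h2 : IsMultiplyPretransitive G X 2) (N : Subgroup G) [hN : N.Normal] (hNb : N ≠ ⊥)
    (hmin : ∀ M : Subgroup G, M.Normal → M ≤ N → M = ⊥ ∨ M = N)
    (hnr : ∃ a : X, ∃ n ∈ N, n ≠ 1 ∧ n • a = a) (hprim : IsPreprimitive N X) :
    IsSimpleGroup N := by
  classical
  have hnt : Nontrivial N := (Subgroup.nontrivial_iff_ne_bot N).2 hNb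
  refine @IsSimpleGroup.mk _ _ hnt (fun H hH => ?_)
  by_contra hcon
  push Not at hcon
  have hP0 : PN N (H.map N.subtype) := by
    refine ⟨?_, ?_, ?_⟩
    · rintro _ ⟨x, -, rfl⟩
      exact x.2
    · rintro n hn _ ⟨x, hx, rfl⟩
      exact ⟨⟨n, hn⟩ * x * ⟨n, hn⟩⁻¹, hH.conj_mem x hx ⟨n, hn⟩, rfl⟩
    · intro h
      apply hcon.1
      rw [Subgroup.eq_bot_iff_forall] at h ⊢
      intro x hx
      apply Subtype.ext
      exact h (x : G) ⟨x, hx, rfl⟩
  have hex : ∃ k : ℕ, ∃ K : Subgroup G, PN N K ∧ Nat.card K = k := ⟨_, _, hP0, rfl⟩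
  obtain ⟨K, hK, hKk⟩ := Nat.find_spec hex
  have hKmin : ∀ L : Subgroup G, PN N L → Nat.card K ≤ Nat.card L := by
    intro L hL
    rw [hKk]
    exact Nat.find_min' hex ⟨L, hL, rfl⟩
  have hKN : K ≠ N := by
    intro h
    have h1 := hKmin _ hP0
    rw [h, Subgroup.card_map_of_injective N.subtype_injective] at h1
    exact hcon.2 (Subgroup.eq_top_of_le_card H h1)
  obtain ⟨a, n₀, hn₀, hn₀1, hn₀a⟩ := hnr
  exact no_proper_min h2 N hmin hprim a n₀ hn₀ hn₀1 hn₀a K hK hKmin hKN

/-- **Burnside's theorem** on minimal normal subgroups of finite doubly transitive groups. -/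
theorem burnside [Finite X] [Finite G] [FaithfulSMul G X]
    (h2 : IsMultiplyPretransitive G X 2) (N : Subgroup G) [hN : N.Normal] (hNb : N ≠ ⊥)
    (hmin : ∀ M : Subgroup G, M.Normal → M ≤ N → M = ⊥ ∨ M = N) :
    ((∀ u ∈ N, ∀ v ∈ N, u * v = v * u) ∧ (∃ p : ℕ, p.Prime ∧ ∀ n ∈ N, n ^ p = 1) ∧
      ∀ a : X, stabilizer N a = ⊥) ∨ (IsSimpleGroup N ∧ IsPreprimitive N X) := by
  by_cases hreg : ∀ a : X, stabilizer N a = ⊥
  · left
    obtain ⟨h1, h3⟩ := regular_case h2 N hNb hreg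
    exact ⟨h1, h3, hreg⟩
  · right
    push Not at hreg
    obtain ⟨a, ha⟩ := hreg
    obtain ⟨m, hm⟩ := (Subgroup.ne_bot_iff_exists_ne_one).1 ha
    have hnr : ∃ a : X, ∃ n ∈ N, n ≠ 1 ∧ n • a = a := by
      refine ⟨a, ((m : N) : G), (m : N).2, ?_, m.2⟩
      intro h
      apply hm
      apply Subtype.ext
      apply Subtype.ext
      exact h
    have hprim := primitive_case h2 N hNb hmin hnr
    exact ⟨simple_case h2 N hNb hmin hnr hprim, hprim⟩

end simple

end Cfsg.Agent.Lib.Helper19.Burnside2T
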