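import Mathlib
import Cfsg.Agent.Lib.Helper11.T23UDefs
import Cfsg.Agent.Lib.Helper1.U23Opp
import Cfsg.Agent.Lib.Helper23.UTNNG

/-!
S5801 conjunct (8), market C4U, sub-lemmas of leaf L1 (`Stab_M(R_x) ≤ KG`), at `(a, b) = (2, b)`:
* `exists_IsZA_of_fix` : an isometry of `hv q` fixing the fibre `x ⊗ B` pointwise (`x` isotropic) is some `u_x(Ξ)`;
* `det_of_IsZA`        : `u_x(Ξ)` has determinant one (`x` isotropic);
* `IsZA_eq_kA`         : `u_x(c • 1) = kA q x c`.
-/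

set_option autoImplicit false
set_option linter.unusedSectionVars false
set_option linter.unusedVariables false

namespace Cfsg.Agent.Lib.Helper19.C4UL1
open Matrix
open Cfsg.Agent.Lib.Helper25.Tens Cfsg.Agent.Lib.Helper25.TensLeaf Cfsg.Agent.Lib.Helper25.TensLeaves
open Cfsg.Agent.Lib.Helper20.UT Cfsg.Agent.Lib.Helper20.UTLeaf Cfsg.Agent.Lib.Helper11.T23U
open Cfsg.Agent.Lib.Helper23.UTNLeaf Cfsg.Agent.Lib.Helper1.U23Opp
open scoped Kronecker

variable {F : Type*} [Field F] [Fintype F] {q b : ℕ}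

omit [Fintype F] in
/-- nondegeneracy of `hv q` (right argument running over the standard basis) -/
lemma eq_of_hv_right {κ : Type} [Fintype κ] [DecidableEq κ] (hq : q ≠ 0) {r y : κ → F}
    (h : ∀ y' : κ → F, hv q r y' = hv q y y') : r = y := by
  funext i
  have := h (Pi.single i 1)
  simp only [hv, Pi.single_apply] at this
  simpa [ite_pow, zero_pow hq, Finset.sum_ite_eq', Finset.sum_ite_eq] using this

/-- an isometry fixing `x ⊗ B` pointwise (`x` isotropic) is some `u_x(Ξ)` -/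
theorem exists_IsZA_of_fix (hF : Fintype.card F = q ^ 2) {x : Fin 2 → F} (hx0 : x ≠ 0)
    (hx : hv q x x = 0) {g : GL (Idx 2 b) F} (hg : g ∈ GUI 2 b q F)
    (hfix : ∀ y : Fin b → F, mv g (pt x y) = pt x y) :
    ∃ Ξ : Matrix (Fin b) (Fin b) F, IsZA q x g Ξ := by
  have hq0 : q ≠ 0 := by
    rintro rfl
    have : 2 ≤ Fintype.card F := Fintype.one_lt_card
    rw [hF] at this; omega
  obtain ⟨xs, hss, h1', h1⟩ := exists_partner hF hx0 hx
  -- the linear map `y ↦ c^A_{xs} (g (xs ⊗ y))`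
  let pL : (Fin b → F) →ₗ[F] (Fin b → F) :=
    (ctAL (b := b) (cj q xs)).comp ((Matrix.toLin' (g : Matrix (Idx 2 b) (Idx 2 b) F)).comp
      (ptR (b := b) xs))
  have hpL : ∀ y, pL y = ctA (cj q xs) (mv g (pt xs y)) := fun y => rfl
  refine ⟨LinearMap.toMatrix' pL, ?_⟩
  -- the `xs`-component of `g (xs ⊗ y)` is `y`
  have hr : ∀ y : Fin b → F, ctA (cj q x) (mv g (pt xs y)) = y := by
    intro y
    apply eq_of_hv_right hq0
    intro y'
    rw [← hv_pt_right', ← hfix y', mem_GUI.mp hg, hv_pt, h1', one_mul]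
  have hact : ∀ y : Fin b → F, mv g (pt xs y) = pt xs y + pt x (pL y) := by
    intro y
    conv_lhs => rw [hyp_decompV hF hx hss h1 (mv g (pt xs y))]
    rw [hr y, hpL, add_comm]
  intro v
  conv_lhs => rw [hyp_decompV hF hx hss h1 v]
  rw [mv_add, hfix, hact, LinearMap.toMatrix'_mulVec]
  conv_rhs => rw [hyp_decompV hF hx hss h1 v]
  rw [ctA_add, ctA_cj_pt, ctA_cj_pt, hx, h1', zero_smul, one_smul, zero_add]
  abel

omit [Fintype F] in
/-- `u_x(Ξ)` has determinant one -/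
theorem det_of_IsZA {x : Fin 2 → F} (hx : hv q x x = 0) {g : GL (Idx 2 b) F}
    {Ξ : Matrix (Fin b) (Fin b) F} (h : IsZA q x g Ξ) :
    (g : Matrix (Idx 2 b) (Idx 2 b) F).det = 1 := by
  set A : Matrix (Idx 2 b) (Fin b) F := LinearMap.toMatrix' (ptR (b := b) x) with hA
  set B : Matrix (Fin b) (Idx 2 b) F := Ξ * LinearMap.toMatrix' (ctAL (b := b) (cj q x)) with hB
  have hval : (g : Matrix (Idx 2 b) (Idx 2 b) F) = 1 + A * B := by
    apply Matrix.toLin'.injective
    apply LinearMap.ext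
    intro v
    have hv' := h v
    unfold mv at hv'
    rw [Matrix.toLin'_apply, Matrix.toLin'_apply, hv', Matrix.add_mulVec, Matrix.one_mulVec,
      ← Matrix.mulVec_mulVec, hB, ← Matrix.mulVec_mulVec, LinearMap.toMatrix'_mulVec,
      LinearMap.toMatrix'_mulVec]
    rfl
  have hBA : B * A = 0 := by
    rw [hB, hA, Matrix.mul_assoc, ← LinearMap.toMatrix'_comp]
    have : (ctAL (b := b) (cj q x)).comp (ptR (b := b) x) = 0 := by
      apply LinearMap.ext
      intro z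
      change ctA (cj q x) (pt x z) = 0
      rw [ctA_cj_pt, hx, zero_smul]
    rw [this, map_zero, Matrix.mul_zero]
  rw [hval, Matrix.det_one_add_mul_comm, hBA, add_zero, Matrix.det_one]

/-- `u_x(c • 1) = kA q x c` -/
theorem IsZA_eq_kA {x : Fin 2 → F} (hx : hv q x x = 0) {g : GL (Idx 2 b) F} {c : F}
    (h : IsZA q x g (c • (1 : Matrix (Fin b) (Fin b) F))) : g = kA q x c hx := by
  apply ext_mv
  intro v
  rw [h v, mv_kA, Matrix.smul_mulVec, Matrix.one_mulVec, pt_smul_right]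

/-- an isometry fixing `x ⊗ B` pointwise whose `Ξ` is forced to be scalar (e.g. by R1) is `kA q x c` -/
theorem eq_kA_of_fix (hF : Fintype.card F = q ^ 2) {x : Fin 2 → F} (hx0 : x ≠ 0)
    (hx : hv q x x = 0) {g : GL (Idx 2 b) F} (hg : g ∈ GUI 2 b q F)
    (hfix : ∀ y : Fin b → F, mv g (pt x y) = pt x y)
    (hsc : ∀ Ξ : Matrix (Fin b) (Fin b) F, IsZA q x g Ξ → ∃ c : F, Ξ = c • 1) :
    ∃ c : F, g = kA q x c hx := by
  obtain ⟨Ξ, hΞ⟩ := exists_IsZA_of_fix hF hx0 hx hg hfix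
  obtain ⟨c, rfl⟩ := hsc Ξ hΞ
  exact ⟨c, IsZA_eq_kA hx hΞ⟩

end Cfsg.Agent.Lib.Helper19.C4UL1
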