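import Mathlib

/-!
# Camina–Herzog: all 2-elements 2-central implies abelian Sylow 2-subgroups (helper19)

Elementary proof (no `Z*`), strong induction on the order.
`Hyp G`: every 2-element has a centralizer of odd index.
* `even_index_of_swap`: if `y` swaps `x ≠ x'` by conjugation and `C(x)` fixes `x'`, `|G : C(x)|` is even.
* `eq_inv_of_inverted`: under `Hyp`, an inverted 2-element is an involution (or 1).
* `invol_comm`: involutions of a 2-subgroup commute.
* `sylow_le_centralizer_top`: for a 2-element `u₀` of order `2^a ≥ 4`, the involution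
  `u₀^(2^(a-1))` is central in every Sylow 2-subgroup containing it.
* `hyp_centralizer`, `hyp_quotient`: inheritance.
* `main_aux`: `Hyp G → Sylow 2-subgroups abelian`.
-/

set_option autoImplicit false

namespace Cfsg.Agent.Lib.Helper19.CH

open Subgroup

universe u

variable {G : Type*} [Group G]

/-- The stabiliser of the unordered pair `{x, x'}` under conjugation. -/
def pairStab (x x' : G) : Subgroup G where
  carrier := {g | (g * x * g⁻¹ = x ∧ g * x' * g⁻¹ = x') ∨ (g * x * g⁻¹ = x' ∧ g * x' * g⁻¹ = x)}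
  one_mem' := by left; simp
  mul_mem' := by
    intro a b ha hb
    have e1 : ∀ z : G, a * b * z * (a * b)⁻¹ = a * (b * z * b⁻¹) * a⁻¹ := by
      intro z; simp [mul_assoc]
    rcases ha with ⟨ha1, ha2⟩ | ⟨ha1, ha2⟩ <;> rcases hb with ⟨hb1, hb2⟩ | ⟨hb1, hb2⟩
    · left; exact ⟨by rw [e1, hb1, ha1], by rw [e1, hb2, ha2]⟩
    · right; exact ⟨by rw [e1, hb1, ha2], by rw [e1, hb2, ha1]⟩
    · right; exact ⟨by rw [e1, hb1, ha1], by rw [e1, hb2, ha2]⟩
    · left; exact ⟨by rw [e1, hb1, ha2], by rw [e1, hb2, ha1]⟩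
  inv_mem' := by
    intro a ha
    have e1 : ∀ z w : G, a * z * a⁻¹ = w → a⁻¹ * w * a⁻¹⁻¹ = z := by
      intro z w h; rw [← h]; simp [mul_assoc]
    rcases ha with ⟨ha1, ha2⟩ | ⟨ha1, ha2⟩
    · left; exact ⟨e1 _ _ ha1, e1 _ _ ha2⟩
    · right; exact ⟨e1 _ _ ha2, e1 _ _ ha1⟩

theorem mem_centralizer_singleton_iff' (x g : G) :
    g ∈ centralizer ({x} : Set G) ↔ g * x * g⁻¹ = x := by
  rw [mem_centralizer_singleton_iff, mul_inv_eq_iff_eq_mul]


/-- If `y` swaps `x ≠ x'` by conjugation and `C(x)` fixes `x'`, then `C(x)` has even index. -/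
theorem even_index_of_swap (x x' y : G) (hne : x ≠ x')
    (hcent : ∀ g : G, g * x * g⁻¹ = x → g * x' * g⁻¹ = x')
    (h1 : y * x * y⁻¹ = x') (h2 : y * x' * y⁻¹ = x) :
    2 ∣ (centralizer ({x} : Set G)).index := by
  have hKL : centralizer ({x} : Set G) ≤ pairStab x x' := by
    intro g hg
    rw [mem_centralizer_singleton_iff'] at hg
    exact Or.inl ⟨hg, hcent g hg⟩
  have h2' : (centralizer ({x} : Set G)).relIndex (pairStab x x') = 2 := by
    rw [relIndex_eq_two_iff]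
    refine ⟨y, Or.inr ⟨h1, h2⟩, ?_⟩
    intro b hb
    have e1 : ∀ z : G, b * y * z * (b * y)⁻¹ = b * (y * z * y⁻¹) * b⁻¹ := by
      intro z; simp [mul_assoc]
    rw [mem_centralizer_singleton_iff', mem_centralizer_singleton_iff', e1, h1]
    rcases hb with ⟨hb1, hb2⟩ | ⟨hb1, hb2⟩
    · refine Or.inr ⟨hb1, ?_⟩
      rw [hb2]; exact fun h => hne h.symm
    · refine Or.inl ⟨hb2, ?_⟩
      rw [hb1]; exact fun h => hne h.symm
  rw [← relIndex_mul_index hKL, h2']
  exact dvd_mul_right _ _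

/-- index-form hypothesis -/
def Hyp (G : Type*) [Group G] : Prop :=
  ∀ x : G, (∃ k : ℕ, orderOf x = 2 ^ k) → ¬ 2 ∣ (centralizer ({x} : Set G)).index

theorem eq_inv_of_inverted (hG : Hyp G) (b y : G) (hb : ∃ k : ℕ, orderOf b = 2 ^ k)
    (h : y * b * y⁻¹ = b⁻¹) : b = b⁻¹ := by
  by_contra hne
  apply hG b hb
  apply even_index_of_swap b b⁻¹ y hne
  · intro g hg
    calc g * b⁻¹ * g⁻¹ = (g * b * g⁻¹)⁻¹ := by simp [mul_assoc]
      _ = b⁻¹ := by rw [hg]
  · exact h
  · calc y * b⁻¹ * y⁻¹ = (y * b * y⁻¹)⁻¹ := by simp [mul_assoc]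
      _ = b := by rw [h, inv_inv]

theorem exists_orderOf_eq_of_mem {Q : Subgroup G} (hQ : IsPGroup 2 Q) {g : G} (hg : g ∈ Q) :
    ∃ k : ℕ, orderOf g = 2 ^ k := by
  have : Fact (Nat.Prime 2) := ⟨Nat.prime_two⟩
  obtain ⟨k, hk⟩ := (IsPGroup.iff_orderOf.mp hQ) ⟨g, hg⟩
  exact ⟨k, by rw [← hk, Subgroup.orderOf_mk]⟩

theorem invol_comm (hG : Hyp G) {Q : Subgroup G} (hQ : IsPGroup 2 Q) {s t : G} (hs : s ∈ Q)
    (ht : t ∈ Q) (hs2 : s * s = 1) (ht2 : t * t = 1) : s * t = t * s := by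
  have hsi : s⁻¹ = s := inv_eq_of_mul_eq_one_left hs2
  have hti : t⁻¹ = t := inv_eq_of_mul_eq_one_left ht2
  have h := eq_inv_of_inverted hG (s * t) s (exists_orderOf_eq_of_mem hQ (Q.mul_mem hs ht)) (by
    rw [mul_inv_rev, hsi, hti, ← mul_assoc, hs2, one_mul])
  rw [h, mul_inv_rev, hsi, hti]

theorem exists_sylow_le_centralizer [Finite G] (x : G)
    (hx : ¬ 2 ∣ (centralizer ({x} : Set G)).index)
    (D : Subgroup G) (hD : IsPGroup 2 D) (hDx : D ≤ centralizer ({x} : Set G)) :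
    ∃ Q : Sylow 2 G, D ≤ Q ∧ (Q : Subgroup G) ≤ centralizer ({x} : Set G) := by
  have : Fact (Nat.Prime 2) := ⟨Nat.prime_two⟩
  set K := centralizer ({x} : Set G) with hK
  have hDK : IsPGroup 2 (D.subgroupOf K) := hD.comap_subtype
  obtain ⟨S, hS⟩ := hDK.exists_le_sylow
  have hmapP : IsPGroup 2 ((S : Subgroup K).map K.subtype) := S.2.map _
  have hidx : ¬ 2 ∣ ((S : Subgroup K).map K.subtype).index := by
    rw [index_map_subtype]
    intro h
    rcases (Nat.Prime.dvd_mul Nat.prime_two).mp h with h | h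
    · exact S.not_dvd_index h
    · exact hx h
  refine ⟨hmapP.toSylow hidx, ?_, ?_⟩
  · intro d hd
    rw [IsPGroup.toSylow_coe, Subgroup.mem_map]
    exact ⟨⟨d, hDx hd⟩, hS (by rw [mem_subgroupOf]; exact hd), rfl⟩
  · rw [IsPGroup.toSylow_coe]
    exact map_subtype_le _

theorem mem_sylow_of_le_centralizer [Finite G] (Q : Sylow 2 G) (x : G)
    (hx : ∃ k : ℕ, orderOf x = 2 ^ k) (h : (Q : Subgroup G) ≤ centralizer ({x} : Set G)) :
    x ∈ Q := by
  have : Fact (Nat.Prime 2) := ⟨Nat.prime_two⟩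
  obtain ⟨k, hk⟩ := hx
  have hz : IsPGroup 2 (zpowers x) := by
    apply IsPGroup.of_card (n := k)
    rw [Nat.card_zpowers, hk]
  have hn : (Q : Subgroup G) ≤ normalizer ((zpowers x : Subgroup G) : Set G) := by
    refine le_trans ?_ (centralizer_le_normalizer _)
    rw [zpowers_eq_closure, centralizer_closure]
    exact h
  have hsup : IsPGroup 2 ((Q : Subgroup G) ⊔ zpowers x : Subgroup G) :=
    Q.2.to_sup_of_normal_right' hz hn
  have := Q.is_maximal' hsup le_sup_left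
  have hx' : x ∈ ((Q : Subgroup G) ⊔ zpowers x : Subgroup G) :=
    (le_sup_right : zpowers x ≤ _) (mem_zpowers x)
  rw [this] at hx'
  exact hx'

/-- elements of `Q` of order at most 2 -/
def Inv (Q : Subgroup G) : Set G := {x | x ∈ Q ∧ x * x = 1}

/-- `C_Q(Ω₁(Q))` -/
def TT (Q : Subgroup G) : Subgroup G := Q ⊓ centralizer (Inv Q)

theorem Inv_map (Q : Subgroup G) (e : G ≃* G) :
    Inv (Q.map e.toMonoidHom) = e '' Inv Q := by
  ext x
  simp only [Inv, Set.mem_ofPred_eq, Subgroup.mem_map, Set.mem_image, MulEquiv.coe_toMonoidHom]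
  constructor
  · rintro ⟨⟨y, hy, rfl⟩, h2⟩
    refine ⟨y, ⟨hy, ?_⟩, rfl⟩
    apply e.injective
    rw [map_mul, h2, map_one]
  · rintro ⟨y, ⟨hy, h2⟩, rfl⟩
    exact ⟨⟨y, hy, rfl⟩, by rw [← map_mul, h2, map_one]⟩

theorem TT_map (Q : Subgroup G) (e : G ≃* G) :
    TT (Q.map e.toMonoidHom) = (TT Q).map e.toMonoidHom := by
  ext x
  simp only [TT, Subgroup.mem_inf, Subgroup.mem_map, MulEquiv.coe_toMonoidHom, Inv_map,
    mem_centralizer_iff]
  constructor
  · rintro ⟨⟨y, hy, rfl⟩, hc⟩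
    refine ⟨y, ⟨hy, ?_⟩, rfl⟩
    intro h hh
    apply e.injective
    rw [map_mul, map_mul]
    exact hc (e h) ⟨h, hh, rfl⟩
  · rintro ⟨y, ⟨hy, hc⟩, rfl⟩
    refine ⟨⟨y, hy, rfl⟩, ?_⟩
    rintro _ ⟨h, hh, rfl⟩
    rw [← map_mul, ← map_mul, hc h hh]

theorem sylow_conj [Finite G] (Q₁ Q₂ : Sylow 2 G) :
    ∃ g : G, (Q₂ : Subgroup G) = (Q₁ : Subgroup G).map (MulAut.conj g).toMonoidHom := by
  have : Fact (Nat.Prime 2) := ⟨Nat.prime_two⟩
  obtain ⟨g, hg⟩ := MulAction.exists_smul_eq G Q₁ Q₂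
  refine ⟨g, ?_⟩
  rw [← hg, Sylow.coe_subgroup_smul]
  rfl

theorem ncard_Inv_sylow [Finite G] (Q₁ Q₂ : Sylow 2 G) :
    (Inv (Q₂ : Subgroup G)).ncard = (Inv (Q₁ : Subgroup G)).ncard := by
  obtain ⟨g, hg⟩ := sylow_conj Q₁ Q₂
  rw [hg, Inv_map]
  exact Set.ncard_image_of_injective _ (MulAut.conj g).injective

theorem card_TT_sylow [Finite G] (Q₁ Q₂ : Sylow 2 G) :
    Nat.card (TT (Q₂ : Subgroup G)) = Nat.card (TT (Q₁ : Subgroup G)) := by
  obtain ⟨g, hg⟩ := sylow_conj Q₁ Q₂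
  rw [hg, TT_map]
  exact Subgroup.card_map_of_injective (MulAut.conj g).injective

/-- Key step: the involution at the top of a 2-central element of order at least 4 is central in
every Sylow 2-subgroup containing it. -/
theorem sylow_le_centralizer_aux [Finite G] (hG : Hyp G)
    (Q₁ Q₂ : Sylow 2 G) (u t : G) (a : ℕ) (ha : 2 ≤ a)
    (hu : u ∈ Q₁) (hQu : (Q₁ : Subgroup G) ≤ centralizer ({u} : Set G))
    (hut : u ^ (2 ^ (a - 1)) = t) (ht2 : t * t = 1) (htQ : t ∈ Q₂)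
    (hD : (Q₂ : Subgroup G) ⊓ centralizer ({t} : Set G) ≤ Q₁) :
    (Q₂ : Subgroup G) ≤ centralizer ({t} : Set G) := by
  have hI21 : Inv (Q₂ : Subgroup G) ⊆ Inv (Q₁ : Subgroup G) := by
    rintro e ⟨he, he2⟩
    exact ⟨hD (Subgroup.mem_inf.mpr ⟨he, mem_centralizer_singleton_iff.mpr
      (invol_comm hG Q₂.2 he htQ he2 ht2)⟩), he2⟩
  have hIeq : Inv (Q₂ : Subgroup G) = Inv (Q₁ : Subgroup G) :=
    Set.eq_of_subset_of_ncard_le hI21 (ncard_Inv_sylow Q₂ Q₁).le (Set.toFinite _)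
  have htI : t ∈ Inv (Q₂ : Subgroup G) := ⟨htQ, ht2⟩
  have hT21 : TT (Q₂ : Subgroup G) ≤ TT (Q₁ : Subgroup G) := by
    intro v hv'
    obtain ⟨hv, hvc⟩ := Subgroup.mem_inf.mp hv'
    refine Subgroup.mem_inf.mpr ⟨hD (Subgroup.mem_inf.mpr ⟨hv, ?_⟩), ?_⟩
    · rw [mem_centralizer_singleton_iff]
      exact ((mem_centralizer_iff.mp hvc) t htI).symm
    · rw [← hIeq]; exact hvc
  have hTeq : TT (Q₂ : Subgroup G) = TT (Q₁ : Subgroup G) :=
    Subgroup.eq_of_le_of_card_ge hT21 (card_TT_sylow Q₂ Q₁).le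
  have huT1 : u ∈ TT (Q₁ : Subgroup G) := by
    refine ⟨hu, ?_⟩
    intro e he
    have := hQu he.1
    rw [mem_centralizer_singleton_iff] at this
    exact this
  have huT2 : u ∈ TT (Q₂ : Subgroup G) := hTeq ▸ huT1
  by_contra hcon
  obtain ⟨y₀, hy₀, hy₀c⟩ := SetLike.not_le_iff_exists.mp hcon
  -- choose a power `y` of `y₀` outside `C(t)` with square inside
  obtain ⟨k, hk⟩ := Q₂.2 ⟨y₀, hy₀⟩
  have hk' : y₀ ^ (2 ^ k) = 1 := by
    have := congrArg Subtype.val hk
    simpa using this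
  have hex : ∃ j : ℕ, y₀ ^ (2 ^ j) ∈ centralizer ({t} : Set G) := ⟨k, by rw [hk']; exact one_mem _⟩
  classical
  have hj0 : Nat.find hex ≠ 0 := by
    intro h0
    have := Nat.find_spec hex
    rw [h0] at this
    simp only [pow_zero, pow_one] at this
    exact hy₀c this
  obtain ⟨j', hj'⟩ := Nat.exists_eq_succ_of_ne_zero hj0
  set y := y₀ ^ (2 ^ j') with hy
  have hyQ : y ∈ (Q₂ : Subgroup G) := Subgroup.pow_mem _ hy₀ _
  have hyc : y ∉ centralizer ({t} : Set G) := Nat.find_min hex (by omega)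
  have hyy : y * y ∈ centralizer ({t} : Set G) := by
    have := Nat.find_spec hex
    rw [hj', Nat.succ_eq_add_one, pow_succ, pow_mul] at this
    rw [← pow_two]; exact this
  -- v = y u y⁻¹
  have hvT : y * u * y⁻¹ ∈ TT (Q₂ : Subgroup G) := by
    refine ⟨Subgroup.mul_mem _ (Subgroup.mul_mem _ hyQ huT2.1) (Subgroup.inv_mem _ hyQ), ?_⟩
    intro e he
    have he' : y⁻¹ * e * y ∈ Inv (Q₂ : Subgroup G) := by
      refine ⟨Subgroup.mul_mem _ (Subgroup.mul_mem _ (Subgroup.inv_mem _ hyQ) he.1) hyQ, ?_⟩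
      calc y⁻¹ * e * y * (y⁻¹ * e * y) = y⁻¹ * (e * e) * y := by group
        _ = 1 := by rw [he.2]; group
    have h1 := huT2.2 _ he'
    -- h1 : y⁻¹ * e * y * u = u * (y⁻¹ * e * y)
    calc e * (y * u * y⁻¹) = y * ((y⁻¹ * e * y) * u) * y⁻¹ := by group
      _ = y * (u * (y⁻¹ * e * y)) * y⁻¹ := by rw [h1]
      _ = y * u * y⁻¹ * e := by group
  have hvQ1 : y * u * y⁻¹ ∈ (Q₁ : Subgroup G) := (hTeq ▸ hvT : _ ∈ TT (Q₁ : Subgroup G)).1
  have huv : (y * u * y⁻¹) * u = u * (y * u * y⁻¹) := by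
    have := hQu hvQ1
    rw [mem_centralizer_singleton_iff] at this
    exact this
  have hyyu : (y * y) * u = u * (y * y) := by
    have := hQu (hD ⟨Subgroup.mul_mem _ hyQ hyQ, hyy⟩)
    rw [mem_centralizer_singleton_iff] at this
    exact this
  obtain ⟨v, hv⟩ : ∃ v, v = y * u * y⁻¹ := ⟨_, rfl⟩
  rw [← hv] at hvT hvQ1 huv
  obtain ⟨b, hb⟩ : ∃ b, b = u⁻¹ * v := ⟨_, rfl⟩
  have hbQ1 : b ∈ (Q₁ : Subgroup G) := by
    rw [hb]; exact Subgroup.mul_mem _ (Subgroup.inv_mem _ hu) hvQ1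
  have hyvy : y * v * y⁻¹ = u := by
    calc y * v * y⁻¹ = (y * y) * u * (y * y)⁻¹ := by rw [hv]; group
      _ = u * (y * y) * (y * y)⁻¹ := by rw [hyyu]
      _ = u := by group
  have hinv : y * b * y⁻¹ = b⁻¹ := by
    calc y * b * y⁻¹ = (y * u * y⁻¹)⁻¹ * (y * v * y⁻¹) := by rw [hb]; group
      _ = v⁻¹ * u := by rw [hyvy, ← hv]
      _ = b⁻¹ := by rw [hb, mul_inv_rev, inv_inv]
  have hbb : b = b⁻¹ := eq_inv_of_inverted hG b y (exists_orderOf_eq_of_mem Q₁.2 hbQ1) hinv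
  have hbb1 : b * b = 1 := by
    nth_rewrite 2 [hbb]; exact mul_inv_cancel b
  have hub : b * u = u * b := by
    have := hQu hbQ1
    rw [mem_centralizer_singleton_iff] at this
    exact this
  have hvub : v = u * b := by rw [hb]; group
  have hvv : v * v = u * u := by
    calc v * v = u * b * (u * b) := by rw [← hvub]
      _ = u * (b * u) * b := by group
      _ = u * (u * b) * b := by rw [hub]
      _ = u * u * (b * b) := by group
      _ = u * u := by rw [hbb1, mul_one]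
  have hpow : v ^ (2 ^ (a - 1)) = u ^ (2 ^ (a - 1)) := by
    have h2 : 2 ^ (a - 1) = 2 * 2 ^ (a - 2) := by
      rw [← pow_succ']; congr 1; omega
    rw [h2, pow_mul, pow_mul, pow_two, pow_two, hvv]
  apply hyc
  rw [mem_centralizer_singleton_iff]
  have : y * t * y⁻¹ = t := by
    calc y * t * y⁻¹ = (y * u * y⁻¹) ^ (2 ^ (a - 1)) := by
          rw [← hut]; exact (conj_pow (a := y) (b := u) (i := 2 ^ (a - 1))).symm
      _ = t := by rw [← hv, hpow, hut]
  calc y * t = y * t * y⁻¹ * y := by group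
    _ = t * y := by rw [this]

theorem exists_conj_sylow [Finite G] (K : Subgroup G) (Q : Sylow 2 G) (hQK : (Q : Subgroup G) ≤ K)
    (D : Subgroup G) (hD : IsPGroup 2 D) (hDK : D ≤ K) :
    ∃ c ∈ K, ∃ Q₁ : Sylow 2 G,
      (Q₁ : Subgroup G) = (Q : Subgroup G).map (MulAut.conj c).toMonoidHom ∧ D ≤ Q₁ := by
  have : Fact (Nat.Prime 2) := ⟨Nat.prime_two⟩
  have hDK' : IsPGroup 2 (D.subgroupOf K) := hD.comap_subtype
  obtain ⟨S, hS⟩ := hDK'.exists_le_sylow
  obtain ⟨c, hc⟩ := MulAction.exists_smul_eq K (Q.subtype hQK) S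
  refine ⟨c, c.2, (c : G) • Q, ?_, ?_⟩
  · rw [Sylow.coe_subgroup_smul]; rfl
  · intro d hd
    have h1 : (⟨d, hDK hd⟩ : K) ∈ S := hS (by rw [mem_subgroupOf]; exact hd)
    rw [← hc, Sylow.smul_subtype] at h1
    exact h1

/-- The involution at the top of a 2-element of order at least 4 is central in every Sylow
2-subgroup containing it. -/
theorem sylow_le_centralizer_top [Finite G] (hG : Hyp G) (u₀ : G) (a : ℕ) (ha : 2 ≤ a)
    (hu₀ : orderOf u₀ = 2 ^ a) (Q₂ : Sylow 2 G) (ht : u₀ ^ (2 ^ (a - 1)) ∈ Q₂) :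
    (Q₂ : Subgroup G) ≤ centralizer ({u₀ ^ (2 ^ (a - 1))} : Set G) := by
  obtain ⟨t, htdef⟩ : ∃ t, t = u₀ ^ (2 ^ (a - 1)) := ⟨_, rfl⟩
  rw [← htdef] at ht ⊢
  have ht2 : t * t = 1 := by
    rw [htdef, ← pow_add, ← two_mul, ← pow_succ', show a - 1 + 1 = a by omega, ← hu₀]
    exact pow_orderOf_eq_one u₀
  have hCC : centralizer ({u₀} : Set G) ≤ centralizer ({t} : Set G) := by
    intro g hg
    rw [mem_centralizer_singleton_iff] at hg ⊢
    rw [htdef]
    exact (Commute.pow_right hg _).eq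
  obtain ⟨Q, -, hQu⟩ := exists_sylow_le_centralizer u₀ (hG u₀ ⟨a, hu₀⟩) ⊥
    IsPGroup.of_bot bot_le
  have hu₀Q : u₀ ∈ Q := mem_sylow_of_le_centralizer Q u₀ ⟨a, hu₀⟩ hQu
  have hDP : IsPGroup 2 ((Q₂ : Subgroup G) ⊓ centralizer ({t} : Set G) : Subgroup G) :=
    Q₂.2.to_le inf_le_left
  obtain ⟨c, hcK, Q₁, hQ₁, hDQ₁⟩ := exists_conj_sylow (centralizer ({t} : Set G)) Q
    (hQu.trans hCC) _ hDP inf_le_right
  rw [mem_centralizer_singleton_iff] at hcK
  have hct : c * t * c⁻¹ = t := by rw [hcK]; group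
  refine sylow_le_centralizer_aux hG Q₁ Q₂ (c * u₀ * c⁻¹) t a ha ?_ ?_ ?_ ht2 ht hDQ₁
  · rw [← SetLike.mem_coe, ← Sylow.coe_coe, hQ₁]
    exact ⟨u₀, hu₀Q, rfl⟩
  · rw [hQ₁]
    rintro _ ⟨q, hq, rfl⟩
    have := hQu hq
    rw [mem_centralizer_singleton_iff] at this ⊢
    simp only [MulEquiv.coe_toMonoidHom, MulAut.conj_apply]
    calc c * q * c⁻¹ * (c * u₀ * c⁻¹) = c * (q * u₀) * c⁻¹ := by group
      _ = c * (u₀ * q) * c⁻¹ := by rw [this]
      _ = c * u₀ * c⁻¹ * (c * q * c⁻¹) := by group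
  · rw [conj_pow, ← htdef, hct]

theorem isPGroup_zpowers_of_sq (t : G) (ht2 : t * t = 1) : IsPGroup 2 (zpowers t) := by
  rintro ⟨g, hg⟩
  obtain ⟨i, rfl⟩ := mem_zpowers_iff.mp hg
  refine ⟨1, ?_⟩
  apply Subtype.ext
  simp only [pow_one, SubmonoidClass.mk_pow, OneMemClass.coe_one]
  rw [← zpow_natCast, ← zpow_mul, mul_comm, zpow_mul, zpow_natCast, pow_two, ht2, one_zpow]

theorem hyp_centralizer [Finite G] (hG : Hyp G) (t : G) (ht2 : t * t = 1)
    (habs : ∀ Q : Sylow 2 G, t ∈ Q → (Q : Subgroup G) ≤ centralizer ({t} : Set G)) :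
    Hyp (centralizer ({t} : Set G)) := by
  have : Fact (Nat.Prime 2) := ⟨Nat.prime_two⟩
  rintro x ⟨k, hk⟩
  have hxG : ∃ k : ℕ, orderOf (x : G) = 2 ^ k := ⟨k, by rw [Subgroup.orderOf_coe, hk]⟩
  have hDx : zpowers t ≤ centralizer ({(x : G)} : Set G) := by
    rw [zpowers_le, mem_centralizer_singleton_iff]
    have := x.2
    rw [mem_centralizer_singleton_iff] at this
    exact this.symm
  obtain ⟨Q, hDQ, hQx⟩ := exists_sylow_le_centralizer (x : G) (hG _ hxG) (zpowers t)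
    (isPGroup_zpowers_of_sq t ht2) hDx
  have hQH : (Q : Subgroup G) ≤ centralizer ({t} : Set G) := habs Q (hDQ (mem_zpowers t))
  have hle : (Q : Subgroup G).subgroupOf (centralizer ({t} : Set G)) ≤
      centralizer ({x} : Set (centralizer ({t} : Set G))) := by
    intro h hh
    rw [mem_subgroupOf] at hh
    have := hQx hh
    rw [mem_centralizer_singleton_iff] at this ⊢
    exact Subtype.ext this
  intro h2
  have h3 : 2 ∣ ((Q : Subgroup G).subgroupOf (centralizer ({t} : Set G))).index :=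
    dvd_trans h2 (index_dvd_of_le hle)
  exact Q.not_dvd_index (dvd_trans h3 (relIndex_dvd_index_of_le hQH))

theorem hyp_quotient [Finite G] (hG : Hyp G) (N : Subgroup G) [N.Normal]
    (hN : ∀ n ∈ N, n * n = 1) : Hyp (G ⧸ N) := by
  rintro xbar ⟨k, hk⟩
  obtain ⟨x, rfl⟩ := QuotientGroup.mk_surjective xbar
  have h1 : x ^ (2 ^ k) ∈ N := by
    rw [← QuotientGroup.eq_one_iff, QuotientGroup.mk_pow, ← hk]
    exact pow_orderOf_eq_one _
  have h2 : x ^ (2 ^ (k + 1)) = 1 := by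
    rw [pow_succ, pow_mul, pow_two]
    exact hN _ h1
  obtain ⟨j, -, hj⟩ := (Nat.dvd_prime_pow Nat.prime_two).mp (orderOf_dvd_of_pow_eq_one h2)
  have hx := hG x ⟨j, hj⟩
  have hle : (centralizer ({x} : Set G)).map (QuotientGroup.mk' N) ≤
      centralizer ({(QuotientGroup.mk x : G ⧸ N)} : Set (G ⧸ N)) := by
    rintro _ ⟨g, hg, rfl⟩
    rw [SetLike.mem_coe, mem_centralizer_singleton_iff] at hg
    rw [mem_centralizer_singleton_iff]
    show (QuotientGroup.mk g : G ⧸ N) * QuotientGroup.mk x = QuotientGroup.mk x * QuotientGroup.mk g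
    rw [← QuotientGroup.mk_mul, ← QuotientGroup.mk_mul, hg]
  intro h
  exact hx (dvd_trans (dvd_trans h (index_dvd_of_le hle))
    (index_map_dvd _ (QuotientGroup.mk'_surjective N)))

theorem comm_of_sq_eq_one {a b : G} (ha : a * a = 1) (hb : b * b = 1) (hab : (a * b) * (a * b) = 1) :
    a * b = b * a := by
  have h1 : a⁻¹ = a := inv_eq_of_mul_eq_one_left ha
  have h2 : b⁻¹ = b := inv_eq_of_mul_eq_one_left hb
  have h3 : (a * b)⁻¹ = a * b := inv_eq_of_mul_eq_one_left hab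
  rw [← h3, mul_inv_rev, h1, h2]

theorem main_aux : ∀ (n : ℕ) (G : Type u) [Group G] [Finite G], Nat.card G = n → Hyp G →
    ∀ P : Sylow 2 G, ∀ a ∈ P, ∀ b ∈ P, a * b = b * a := by
  intro n
  induction n using Nat.strong_induction_on with
  | _ n ih =>
  intro G _ _ hcard hG P a ha b hb
  have : Fact (Nat.Prime 2) := ⟨Nat.prime_two⟩
  by_cases hex : ∃ u₀ ∈ P, ∃ k : ℕ, 2 ≤ k ∧ orderOf u₀ = 2 ^ k
  · obtain ⟨u₀, hu₀P, k, hk2, hk⟩ := hex
    obtain ⟨t, htdef⟩ : ∃ t, t = u₀ ^ (2 ^ (k - 1)) := ⟨_, rfl⟩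
    have habs : ∀ Q : Sylow 2 G, t ∈ Q → (Q : Subgroup G) ≤ centralizer ({t} : Set G) := by
      intro Q hQ
      rw [htdef] at hQ ⊢
      exact sylow_le_centralizer_top hG u₀ k hk2 hk Q hQ
    have htP : t ∈ P := by rw [htdef]; exact Subgroup.pow_mem _ hu₀P _
    have ht2 : t * t = 1 := by
      rw [htdef, ← pow_add, ← two_mul, ← pow_succ', show k - 1 + 1 = k by omega, ← hk]
      exact pow_orderOf_eq_one u₀
    have ht1 : t ≠ 1 := by
      rw [htdef]
      apply pow_ne_one_of_lt_orderOf (by positivity)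
      rw [hk]
      exact Nat.pow_lt_pow_right (by norm_num) (by omega)
    have hPH : (P : Subgroup G) ≤ centralizer ({t} : Set G) := habs P htP
    by_cases hc : centralizer ({t} : Set G) = ⊤
    · -- central involution: pass to the quotient
      have htc : ∀ g : G, g * t = t * g := by
        intro g
        have : g ∈ centralizer ({t} : Set G) := by rw [hc]; exact mem_top g
        rwa [mem_centralizer_singleton_iff] at this
      have hNc : ∀ n ∈ zpowers t, ∀ g : G, g * n = n * g := by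
        intro n hn g
        obtain ⟨i, rfl⟩ := mem_zpowers_iff.mp hn
        exact (Commute.zpow_right (htc g) i).eq
      have hNn : (zpowers t).Normal := ⟨fun n hn g => by
        rw [hNc n hn g, mul_inv_cancel_right]; exact hn⟩
      have hN2 : ∀ n ∈ zpowers t, n * n = 1 := by
        intro n hn
        obtain ⟨i, rfl⟩ := mem_zpowers_iff.mp hn
        rw [← zpow_add, ← two_mul, zpow_mul, zpow_ofNat, pow_two, ht2, one_zpow]
      have hcardlt : Nat.card (G ⧸ zpowers t) < n := by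
        have h1 := Subgroup.card_eq_card_quotient_mul_card_subgroup (zpowers t)
        have h2 : 2 ≤ Nat.card (zpowers t) := by
          rw [Nat.card_zpowers]
          have h0 : orderOf t ≠ 0 := (orderOf_pos t).ne'
          have h1' : orderOf t ≠ 1 := fun h => ht1 (orderOf_eq_one_iff.mp h)
          omega
        have h3 : 0 < Nat.card (G ⧸ zpowers t) := Nat.card_pos
        rw [← hcard, h1]
        nlinarith
      have hq := ih _ hcardlt (G ⧸ zpowers t) rfl (hyp_quotient hG (zpowers t) hN2)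
      have hmapP : IsPGroup 2 ((P : Subgroup G).map (QuotientGroup.mk' (zpowers t))) := P.2.map _
      obtain ⟨Pbar, hPbar⟩ := hmapP.exists_le_sylow
      have hcomm := hq Pbar _ (hPbar ⟨a, ha, rfl⟩) _ (hPbar ⟨b, hb, rfl⟩)
      obtain ⟨z, hz⟩ : ∃ z, z = (b * a)⁻¹ * (a * b) := ⟨_, rfl⟩
      have hzN : z ∈ zpowers t := by
        rw [hz, ← QuotientGroup.eq]
        exact hcomm.symm
      have hab : a * b = b * a * z := by rw [hz]; group
      by_cases hz1 : z = 1
      · rw [hab, hz1, mul_one]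
      · exfalso
        apply hG b (exists_orderOf_eq_of_mem P.2 hb)
        have hzc := hNc z hzN
        have e1 : a * b * a⁻¹ = b * z := by
          rw [hab, mul_assoc b a z, hzc a, mul_assoc, mul_assoc, mul_inv_cancel, mul_one]
        apply even_index_of_swap b (b * z) a
        · intro h
          apply hz1
          have : b * 1 = b * z := by rw [mul_one]; exact h
          exact (mul_left_cancel this).symm
        · intro g hg
          calc g * (b * z) * g⁻¹ = g * b * g⁻¹ * (g * z * g⁻¹) := by group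
            _ = b * z := by rw [hg, hzc g, mul_inv_cancel_right]
        · exact e1
        · calc a * (b * z) * a⁻¹ = a * b * a⁻¹ * (a * z * a⁻¹) := by group
            _ = b * z * z := by rw [e1, hzc a, mul_inv_cancel_right]
            _ = b := by rw [mul_assoc, hN2 z hzN, mul_one]
    · -- proper centralizer inherits the hypothesis
      have hcardlt : Nat.card (centralizer ({t} : Set G)) < n := by
        rw [← hcard]
        apply lt_of_le_of_ne (Subgroup.card_le_card_group _)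
        intro h
        exact hc (Subgroup.eq_top_of_card_eq _ h)
      have hq := ih _ hcardlt (centralizer ({t} : Set G)) rfl (hyp_centralizer hG t ht2 habs)
      have hPK : IsPGroup 2 ((P : Subgroup G).subgroupOf (centralizer ({t} : Set G))) :=
        P.2.comap_subtype
      obtain ⟨S, hS⟩ := hPK.exists_le_sylow
      have := hq S ⟨a, hPH ha⟩ (hS (by rw [mem_subgroupOf]; exact ha)) ⟨b, hPH hb⟩
        (hS (by rw [mem_subgroupOf]; exact hb))
      exact congrArg Subtype.val this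
  · -- exponent at most 2
    have hsq : ∀ g ∈ (P : Subgroup G), g * g = 1 := by
      intro g hg
      obtain ⟨k, hk⟩ := exists_orderOf_eq_of_mem P.2 hg
      have hk1 : k < 2 := by
        by_contra hk2
        exact hex ⟨g, hg, k, by omega, hk⟩
      have : orderOf g ∣ 2 := by
        rw [hk]
        interval_cases k <;> norm_num
      rw [← pow_two]
      exact orderOf_dvd_iff_pow_eq_one.mp this
    exact comm_of_sq_eq_one (hsq a ha) (hsq b hb) (hsq _ (Subgroup.mul_mem _ ha hb))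

end Cfsg.Agent.Lib.Helper19.CH
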