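import Mathlib

open Finset Polynomial

namespace Cfsg.Agent.Lib.Helper19.Carlitz

variable {p : ℕ} [Fact p.Prime]

theorem sum_pow_zmod (n : ℕ) (hn : n ≠ 0) :
    ∑ x : ZMod p, x ^ n = if p - 1 ∣ n then -1 else 0 := by
  classical
  let φ : (ZMod p)ˣ ↪ ZMod p := ⟨fun x ↦ x, Units.val_injective⟩
  have : univ.map φ = univ \ {0} := by
    ext x
    simpa only [mem_map, mem_univ, Function.Embedding.coeFn_mk, true_and, mem_sdiff,
      mem_singleton, φ] using! isUnit_iff_ne_zero
  calc ∑ x : ZMod p, x ^ n = ∑ x ∈ univ \ {(0 : ZMod p)}, x ^ n := by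
        rw [← sum_sdiff ({0} : Finset (ZMod p)).subset_univ, sum_singleton, zero_pow hn, add_zero]
    _ = ∑ x : (ZMod p)ˣ, (x ^ n : ZMod p) := by simp [φ, ← this, univ.sum_map φ]
    _ = _ := by rw [FiniteField.sum_pow_units (ZMod p) n, ZMod.card]

theorem choose_ne_zero {d k : ℕ} (hd : d < p) (hk : k ≤ d) : ((d.choose k : ℕ) : ZMod p) ≠ 0 := by
  intro h
  rw [ZMod.natCast_eq_zero_iff] at h
  have h1 : d.choose k ∣ d.factorial := by
    rw [← Nat.choose_mul_factorial_mul_factorial hk, mul_assoc]
    exact dvd_mul_right _ _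
  have h2 := (Nat.Prime.dvd_factorial (Fact.out : p.Prime)).1 (h.trans h1)
  omega

theorem exists_poly_pow (f : ZMod p → ZMod p) (hf : Function.Bijective f) (d : ℕ)
    (hd2 : 2 * d ≤ p - 1) (h : ∀ u v, (f u - f v) ^ d = (u - v) ^ d) (k : ℕ) (hk : k ≤ d) :
    ∃ g : (ZMod p)[X], g.natDegree ≤ d ∧ ∀ u, (f u) ^ k = g.eval u := by
  classical
  have hp : 2 ≤ p := (Fact.out : p.Prime).two_le
  have hdp : d < p := by omega
  set m := p - 1 - d + k with hm
  -- the two evaluations
  have hbij : Function.Bijective (fun v => - f v) := neg_involutive.bijective.comp hf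
  have hS : ∀ j, j ≤ d → ∑ v, (- f v) ^ (m + (d - j)) = if j = k then -1 else 0 := by
    intro j hj
    have h1 : ∑ v, (- f v) ^ (m + (d - j)) = ∑ w : ZMod p, w ^ (m + (d - j)) :=
      hbij.sum_comp (fun w => w ^ (m + (d - j)))
    rw [h1, sum_pow_zmod _ (by omega)]
    have h2 : m + (d - j) = p - 1 + k - j := by omega
    by_cases hjk : j = k
    · subst hjk
      rw [if_pos rfl, if_pos]
      rw [h2]; simp
    · rw [if_neg hjk, if_neg]
      rw [h2]
      intro hdvd
      rcases lt_or_gt_of_ne hjk with hlt | hgt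
      · have h3 : p - 1 + k - j = (p - 1) + (k - j) := by omega
        rw [h3, Nat.dvd_add_right (dvd_refl _)] at hdvd
        have := Nat.le_of_dvd (by omega) hdvd
        omega
      · have h3 : p - 1 + k - j = (p - 1) - (j - k) := by omega
        rw [h3] at hdvd
        have := Nat.le_of_dvd (by omega) hdvd
        omega
  let μ : ℕ → ZMod p := fun j => ∑ v, (- f v) ^ m * (- v) ^ (d - j)
  let G : (ZMod p)[X] := ∑ j ∈ range (d + 1), C ((d.choose j : ZMod p) * μ j) * X ^ j
  have hGdeg : G.natDegree ≤ d := by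
    apply natDegree_sum_le_of_forall_le
    intro j hj
    exact (natDegree_C_mul_X_pow_le _ _).trans (by rw [mem_range] at hj; omega)
  have hA : ∀ u, - (d.choose k : ZMod p) * (f u) ^ k = G.eval u := by
    intro u
    have e1 : ∑ v, (- f v) ^ m * (f u - f v) ^ d = - (d.choose k : ZMod p) * (f u) ^ k := by
      calc ∑ v, (- f v) ^ m * (f u - f v) ^ d
          = ∑ v, (- f v) ^ m * ∑ j ∈ range (d + 1), (f u) ^ j * (- f v) ^ (d - j) * (d.choose j) := by
            apply sum_congr rfl; intro v _
            rw [sub_eq_add_neg, add_pow]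
        _ = ∑ j ∈ range (d + 1), (f u) ^ j * (d.choose j) * ∑ v, (- f v) ^ (m + (d - j)) := by
            simp_rw [mul_sum]
            rw [sum_comm]
            apply sum_congr rfl; intro j _
            apply sum_congr rfl; intro v _
            rw [pow_add]; ring
        _ = ∑ j ∈ range (d + 1), (f u) ^ j * (d.choose j) * (if j = k then -1 else 0) := by
            apply sum_congr rfl; intro j hj
            rw [hS j (by rw [mem_range] at hj; omega)]
        _ = - (d.choose k : ZMod p) * (f u) ^ k := by
            rw [sum_eq_single k]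
            · rw [if_pos rfl]; ring
            · intro j _ hjk; rw [if_neg hjk, mul_zero]
            · intro hk'; exact absurd (mem_range.2 (by omega)) hk'
    have e2 : ∑ v, (- f v) ^ m * (f u - f v) ^ d = G.eval u := by
      calc ∑ v, (- f v) ^ m * (f u - f v) ^ d
          = ∑ v, (- f v) ^ m * ∑ j ∈ range (d + 1), u ^ j * (- v) ^ (d - j) * (d.choose j) := by
            apply sum_congr rfl; intro v _
            rw [h u v, sub_eq_add_neg, add_pow]
        _ = ∑ j ∈ range (d + 1), ((d.choose j : ZMod p) * μ j) * u ^ j := by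
            simp_rw [mul_sum, μ]
            rw [sum_comm]
            apply sum_congr rfl; intro j _
            rw [mul_sum, sum_mul]
            apply sum_congr rfl; intro v _
            ring
        _ = G.eval u := by
            simp only [G, eval_finsetSum, eval_mul, eval_C, eval_pow, eval_X]
    rw [← e1, e2]
  have hc := choose_ne_zero (p := p) hdp hk
  refine ⟨C (-(d.choose k : ZMod p))⁻¹ * G, (natDegree_C_mul_le _ _).trans hGdeg, fun u => ?_⟩
  rw [eval_mul, eval_C, ← hA u, ← mul_assoc, inv_mul_cancel₀ (neg_ne_zero.2 hc), one_mul]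

theorem affine_of_pow_diff (f : ZMod p → ZMod p) (hf : Function.Injective f) (d : ℕ)
    (hd : 1 ≤ d) (hd2 : 2 * d ≤ p - 1) (h : ∀ u v, (f u - f v) ^ d = (u - v) ^ d) :
    ∃ a b : ZMod p, ∀ x, f x = a * x + b := by
  classical
  have hp : 2 ≤ p := (Fact.out : p.Prime).two_le
  have hbij : Function.Bijective f := Finite.injective_iff_bijective.1 hf
  obtain ⟨F, hFd, hF⟩ := exists_poly_pow f hbij d hd2 h 1 hd
  simp only [pow_one] at hF
  have he_pos : 1 ≤ F.natDegree := by
    by_contra hlt
    have h0 : F.natDegree = 0 := by omega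
    obtain ⟨c, hc⟩ := natDegree_eq_zero.1 h0
    have h01 : f 0 = f 1 := by rw [hF, hF, ← hc, eval_C, eval_C]
    have := hf h01
    exact zero_ne_one this
  have key : ∀ k, k ≤ d → k * F.natDegree ≤ p - 1 → k * F.natDegree ≤ d := by
    intro k hk hke
    obtain ⟨g, hgd, hg⟩ := exists_poly_pow f hbij d hd2 h k hk
    have hFk : (F ^ k).natDegree = k * F.natDegree := natDegree_pow F k
    have heq : F ^ k = g := by
      apply eq_of_degrees_lt_of_eval_finset_eq (univ : Finset (ZMod p))
      · rw [card_univ, ZMod.card]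
        apply lt_of_le_of_lt degree_le_natDegree
        rw [hFk]; exact_mod_cast (by omega : k * F.natDegree < p)
      · rw [card_univ, ZMod.card]
        apply lt_of_le_of_lt degree_le_natDegree
        exact_mod_cast (by omega : g.natDegree < p)
      · intro x _
        rw [eval_pow, ← hF, hg]
    rw [← hFk, heq]; exact hgd
  have he1 : F.natDegree = 1 := by
    by_contra hne
    have he2 : 2 ≤ F.natDegree := by omega
    set e := F.natDegree with he
    have hdiv : e * (d / e) + d % e = d := Nat.div_add_mod d e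
    have hmod : d % e < e := Nat.mod_lt _ (by omega)
    generalize d / e = q at hdiv key
    generalize d % e = r at hdiv hmod
    have hq : 2 * q ≤ e * q := Nat.mul_le_mul_right q he2
    have hk1 : q + 1 ≤ d := by
      rcases Nat.eq_zero_or_pos q with h0 | h0
      · omega
      · omega
    have hexp : (q + 1) * e = e * q + e := by ring
    have hk2 : (q + 1) * e ≤ p - 1 := by rw [hexp]; omega
    have := key (q + 1) hk1 hk2
    rw [hexp] at this
    omega
  have hFeq := eq_X_add_C_of_natDegree_le_one (le_of_eq he1)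
  refine ⟨F.coeff 1, F.coeff 0, fun x => ?_⟩
  rw [hF, hFeq]
  simp

end Cfsg.Agent.Lib.Helper19.Carlitz
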