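import Mathlib
import Cfsg.Prelude.Def_Characters
import Cfsg.Agent.Lib.Lead.CharComplete
import Cfsg.Agent.Lib.Lead.CharEquiv

set_option autoImplicit false

namespace Cfsg.Agent.Lib.Helper19.CentAlg

open Cfsg Cfsg.Agent.CharLib Representation Module LinearMap
open scoped ComplexConjugate

section general

variable {V : Type*} [AddCommGroup V] [Module ℂ V] [FiniteDimensional ℂ V]

/-- trace of `g ∘ f` for commuting `f`, `g` via the generalized eigenspaces of `f`. -/
lemma trace_comp_eq_sum {f g : Module.End ℂ V} (h_comm : Commute f g) :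
    ∃ s : Finset ℂ, (∀ μ ∈ s, f.maxGenEigenspace μ ≠ ⊥) ∧
      trace ℂ _ (g ∘ₗ f) = ∑ μ ∈ s,
        μ * trace ℂ _ (g.restrict (f.mapsTo_maxGenEigenspace_of_comm h_comm μ)) := by
  classical
  have hf : ⨆ μ, f.maxGenEigenspace μ = ⊤ := Module.End.iSup_maxGenEigenspace_eq_top f
  have hfg : ∀ μ, Set.MapsTo (g ∘ₗ f) ↑(f.maxGenEigenspace μ) ↑(f.maxGenEigenspace μ) :=
    fun μ ↦ (f.mapsTo_maxGenEigenspace_of_comm h_comm μ).comp
      (f.mapsTo_maxGenEigenspace_of_comm rfl μ)
  have hds := DirectSum.isInternal_submodule_of_iSupIndep_of_iSup_eq_top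
    f.independent_maxGenEigenspace hf
  have h_fin : {μ | f.maxGenEigenspace μ ≠ ⊥}.Finite :=
    WellFoundedGT.finite_ne_bot_of_iSupIndep f.independent_maxGenEigenspace
  refine ⟨h_fin.toFinset, fun μ hμ => by simpa using hμ, ?_⟩
  rw [trace_eq_sum_trace_restrict' hds h_fin hfg]
  apply Finset.sum_congr rfl
  intro μ _
  have hf' := f.mapsTo_maxGenEigenspace_of_comm (Commute.refl _) μ
  have hg' := f.mapsTo_maxGenEigenspace_of_comm h_comm μ
  have h_comm' : Commute (g.restrict (f.mapsTo_maxGenEigenspace_of_comm h_comm μ))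
      (f.restrict (f.mapsTo_maxGenEigenspace_of_comm rfl μ)) :=
    restrict_commute h_comm.symm _ _
  have := f.isNilpotent_restrict_maxGenEigenspace_sub_algebraMap μ
  rw [restrict_comp hf' hg', trace_comp_eq_mul_of_commute_of_isNilpotent μ h_comm' this]

/-- eigenvalues of an integral endomorphism are integral -/
lemma isIntegral_of_maxGenEigenspace_ne_bot {f : Module.End ℂ V} (hf : IsIntegral ℤ f) {μ : ℂ}
    (hμ : f.maxGenEigenspace μ ≠ ⊥) : IsIntegral ℤ μ := by
  have hev : f.HasEigenvalue μ := by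
    rw [Module.End.maxGenEigenspace_eq_genEigenspace_finrank] at hμ
    exact Module.End.hasEigenvalue_of_hasGenEigenvalue (k := finrank ℂ V) hμ
  obtain ⟨p, hp, hp0⟩ := hf
  obtain ⟨v, hv⟩ := hev.exists_hasEigenvector
  refine ⟨p, hp, ?_⟩
  have h1 := Module.End.aeval_apply_of_hasEigenvector (p := p.map (algebraMap ℤ ℂ)) hv
  have h2 : Polynomial.aeval f (p.map (algebraMap ℤ ℂ)) = 0 := by
    rw [Polynomial.aeval_map_algebraMap]
    exact hp0
  rw [h2, LinearMap.zero_apply] at h1
  have h3 : Polynomial.eval μ (p.map (algebraMap ℤ ℂ)) = 0 := by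
    rcases smul_eq_zero.1 h1.symm with h | h
    · exact h
    · exact absurd h hv.2
  rw [Polynomial.eval_map] at h3
  exact h3

end general


section rep

set_option linter.unusedSectionVars false

variable {G : Type*} [Group G] [Fintype G] {V : Type*} [AddCommGroup V] [Module ℂ V]
  [FiniteDimensional ℂ V]

/-- the class function of the central idempotent attached to `χ` -/
noncomputable def eFun (χ : G → ℂ) : G → ℂ := fun g => χ 1 / (Nat.card G : ℂ) * conj (χ g)

theorem eFun_isClassFunction {χ : G → ℂ} (hχ : IsCharacter G χ) : IsClassFunction G (eFun χ) := by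
  intro g h
  simp only [eFun]
  rw [IsCharacter.isClassFunction hχ g h]

theorem trace_opT_eFun (ρ : Representation ℂ G V) {χ : G → ℂ} (hχ : IsIrrCharacter G χ) :
    ∃ m : ℕ, classInner ρ.character χ = m ∧ trace ℂ V (opT (eFun χ) ρ) = χ 1 * m := by
  obtain ⟨m, hm⟩ := IsCharacter.classInner_nat (isCharacter_of_rep ρ)
    (IsIrrCharacter.isCharacter hχ)
  refine ⟨m, hm, ?_⟩
  rw [trace_opT, ← hm, classInner]
  simp only [eFun]
  rw [Finset.mul_sum, Finset.mul_sum]
  apply Finset.sum_congr rfl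
  intro g _
  ring

theorem commute_opT {f : G → ℂ} (ρ : Representation ℂ G V) (A : Module.End ℂ V)
    (hA : ∀ g, Commute A (ρ g)) : Commute A (opT f ρ) := by
  unfold opT
  apply Commute.sum_right
  intro g _
  exact (hA g).smul_right _

theorem restrict_opT (f : G → ℂ) (ρ : Representation ℂ G V) (W : Subrepresentation ρ)
    (h : Set.MapsTo (opT f ρ) W.toSubmodule W.toSubmodule) :
    (opT f ρ).restrict h = opT f W.toRepresentation := by
  ext w
  change (opT f ρ) (w : V) = ((opT f W.toRepresentation w : W.toSubmodule) : V)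
  simp only [opT_apply, Submodule.coe_sum, Submodule.coe_smul]
  rfl

/-- **Key lemma**: for an integral `G`-endomorphism `A`, `tr(e_χ A) / χ(1)` is an algebraic
integer. -/
theorem trace_comp_opT_eFun (ρ : Representation ℂ G V) (A : Module.End ℂ V)
    (hA : ∀ g, Commute A (ρ g)) (hint : IsIntegral ℤ A) {χ : G → ℂ} (hχ : IsIrrCharacter G χ) :
    ∃ z : ℂ, IsIntegral ℤ z ∧ trace ℂ V (opT (eFun χ) ρ ∘ₗ A) = χ 1 * z := by
  have hcomm := commute_opT (f := eFun χ) ρ A hA
  obtain ⟨s, hs, htr⟩ := trace_comp_eq_sum hcomm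
  have hex : ∀ μ : ℂ, ∃ m : ℕ, trace ℂ _ ((opT (eFun χ) ρ).restrict
      (A.mapsTo_maxGenEigenspace_of_comm hcomm μ)) = χ 1 * m := by
    intro μ
    let W : Subrepresentation ρ := ⟨A.maxGenEigenspace μ, fun g v hv =>
      A.mapsTo_maxGenEigenspace_of_comm (hA g) μ hv⟩
    have h1 := restrict_opT (eFun χ) ρ W (A.mapsTo_maxGenEigenspace_of_comm hcomm μ)
    obtain ⟨m, _, hm⟩ := trace_opT_eFun W.toRepresentation hχ
    exact ⟨m, by rw [← hm]; exact congrArg _ h1⟩
  choose m hm using hex
  refine ⟨∑ μ ∈ s, μ * (m μ : ℂ), ?_, ?_⟩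
  · apply IsIntegral.sum
    intro μ hμ
    apply IsIntegral.mul
    · exact isIntegral_of_maxGenEigenspace_ne_bot hint (hs μ hμ)
    · have : IsIntegral ℤ (algebraMap ℤ ℂ (m μ : ℤ)) := isIntegral_algebraMap
      simpa using this
  · rw [htr, Finset.mul_sum]
    apply Finset.sum_congr rfl
    intro μ _
    rw [hm μ]
    ring

end rep

end Cfsg.Agent.Lib.Helper19.CentAlg
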