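import Mathlib
import Cfsg.Agent.Lib.Helper19.MinNormalPower
/-! Characteristically simple finite groups are the direct powers of simple groups. -/
set_option autoImplicit false

namespace Cfsg.Agent.Lib.Helper19

open Subgroup

/-- A characteristically simple finite group is a direct power of a simple group
(it is a minimal normal subgroup of its holomorph). -/
theorem exists_pi_equiv_of_charSimple {G : Type*} [Group G] [Finite G] [Nontrivial G]
    (h : ∀ H : Subgroup G, H.Characteristic → H = ⊥ ∨ H = ⊤) :
    ∃ (S : Type) (_ : Group S) (m : ℕ), IsSimpleGroup S ∧ 0 < m ∧ Nonempty (G ≃* (Fin m → S)) := by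
  let φ : MulAut G →* MulAut G := MonoidHom.id _
  haveI : Finite (G ⋊[φ] MulAut G) := Finite.of_equiv _ SemidirectProduct.equivProd.symm
  let N : Subgroup (G ⋊[φ] MulAut G) := (SemidirectProduct.inl : G →* G ⋊[φ] MulAut G).range
  haveI hNn : N.Normal := by
    show ((SemidirectProduct.inl : G →* G ⋊[φ] MulAut G).range).Normal
    rw [SemidirectProduct.range_inl_eq_ker_rightHom]
    infer_instance
  have hN : N ≠ ⊥ := by
    intro hbot
    obtain ⟨g, hg⟩ := exists_ne (1 : G)
    apply hg
    have h1 : (SemidirectProduct.inl g : G ⋊[φ] MulAut G) ∈ N := ⟨g, rfl⟩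
    rw [hbot, mem_bot] at h1
    apply SemidirectProduct.inl_injective (φ := φ)
    rw [h1, map_one]
  have hmin : ∀ M : Subgroup (G ⋊[φ] MulAut G), M.Normal → M ≤ N → M = ⊥ ∨ M = N := by
    intro M hM hMN
    have hchar : (M.comap (SemidirectProduct.inl : G →* G ⋊[φ] MulAut G)).Characteristic := by
      rw [characteristic_iff_le_comap]
      intro ϕ g hg
      rw [mem_comap] at hg
      rw [mem_comap, mem_comap]
      have h1 := SemidirectProduct.inl_aut (φ := φ) ϕ g
      have h2 : (SemidirectProduct.inl (ϕ g) : G ⋊[φ] MulAut G)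
          = SemidirectProduct.inr ϕ * SemidirectProduct.inl g * SemidirectProduct.inr ϕ⁻¹ := h1
      show (SemidirectProduct.inl (ϕ g) : G ⋊[φ] MulAut G) ∈ M
      rw [h2]
      have := hM.conj_mem _ hg (SemidirectProduct.inr ϕ)
      simpa using this
    rcases h _ hchar with h1 | h1
    · left
      rw [eq_bot_iff]
      intro x hx
      obtain ⟨g, rfl⟩ := hMN hx
      have : g ∈ M.comap (SemidirectProduct.inl : G →* G ⋊[φ] MulAut G) := hx
      rw [h1, mem_bot] at this
      rw [this, map_one]
      exact Subgroup.one_mem _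
    · right
      apply le_antisymm hMN
      rintro x ⟨g, rfl⟩
      have : g ∈ M.comap (SemidirectProduct.inl : G →* G ⋊[φ] MulAut G) := by
        rw [h1]; exact mem_top g
      exact this
  obtain ⟨T, inst, m, hs, hm, ⟨e⟩⟩ := exists_simple_type0_pi_equiv_of_minNormal N hN hmin
  exact ⟨T, inst, m, hs, hm,
    ⟨(MonoidHom.ofInjective (SemidirectProduct.inl_injective (φ := φ))).trans e⟩⟩

section
variable {ι : Type*} {S : Type*} [Group S]

/-- permuting coordinates -/
def permAut (σ : Equiv.Perm ι) : (ι → S) ≃* (ι → S) where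
  toFun f := f ∘ σ
  invFun f := f ∘ σ.symm
  left_inv f := by ext k; simp
  right_inv f := by ext k; simp
  map_mul' f g := rfl

theorem permAut_swap_mulSingle [DecidableEq ι] (i j : ι) (s : S) :
    permAut (Equiv.swap i j) (Pi.mulSingle i s : ι → S) = Pi.mulSingle j s := by
  funext k
  show (Pi.mulSingle i s : ι → S) (Equiv.swap i j k) = _
  by_cases hkj : k = j
  · subst hkj
    rw [Equiv.swap_apply_right, Pi.mulSingle_eq_same, Pi.mulSingle_eq_same]
  · rw [Pi.mulSingle_eq_of_ne hkj]
    by_cases hki : k = i
    · subst hki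
      rw [Equiv.swap_apply_left]
      exact Pi.mulSingle_eq_of_ne (Ne.symm hkj) _
    · rw [Equiv.swap_apply_of_ne_of_ne hki hkj]
      exact Pi.mulSingle_eq_of_ne hki _

/-- shear automorphism `f ↦ f * mulSingle j (f i)` of a power of a commutative group -/
def shearAut [DecidableEq ι] (hc : ∀ a b : S, a * b = b * a) (i j : ι) (hij : i ≠ j) :
    (ι → S) ≃* (ι → S) where
  toFun f := f * Pi.mulSingle j (f i)
  invFun f := f * Pi.mulSingle j (f i)⁻¹
  left_inv f := by
    funext k
    simp only [Pi.mul_apply, Pi.mulSingle_eq_of_ne hij, mul_one]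
    by_cases hk : k = j
    · subst hk; simp
    · simp [Pi.mulSingle_eq_of_ne hk]
  right_inv f := by
    funext k
    simp only [Pi.mul_apply, Pi.mulSingle_eq_of_ne hij, mul_one]
    by_cases hk : k = j
    · subst hk; simp
    · simp [Pi.mulSingle_eq_of_ne hk]
  map_mul' f g := by
    funext k
    simp only [Pi.mul_apply]
    by_cases hk : k = j
    · subst hk
      simp only [Pi.mulSingle_eq_same]
      rw [mul_assoc, mul_assoc, ← mul_assoc (g k), hc (g k) (f i), mul_assoc]
    · simp [Pi.mulSingle_eq_of_ne hk]

/-- a nontrivial characteristic subgroup of a power of a simple group contains a nontrivial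
element supported on one coordinate -/
theorem exists_mulSingle_mem_of_characteristic [IsSimpleGroup S] [DecidableEq ι]
    (K : Subgroup (ι → S)) [hK : K.Characteristic] (hne : K ≠ ⊥) :
    ∃ (j : ι) (s : S), s ≠ 1 ∧ (Pi.mulSingle j s : ι → S) ∈ K := by
  obtain ⟨x, hxK, hx1⟩ := (Subgroup.ne_bot_iff_exists_ne_one).mp hne |> fun ⟨x, hx⟩ =>
    (⟨x.1, x.2, fun h => hx (Subtype.ext h)⟩ : ∃ x : ι → S, x ∈ K ∧ x ≠ 1)
  obtain ⟨i, hi⟩ : ∃ i, x i ≠ 1 := by
    by_contra hcon
    push Not at hcon
    exact hx1 (funext hcon)
  by_cases hc : ∀ a b : S, a * b = b * a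
  · by_cases hj : ∃ j, i ≠ j
    · obtain ⟨j, hij⟩ := hj
      refine ⟨j, x i, hi, ?_⟩
      have h1 : shearAut hc i j hij x ∈ K := by
        have := (characteristic_iff_le_comap.mp hK) (shearAut hc i j hij) hxK
        exact this
      have h2 : x⁻¹ * shearAut hc i j hij x ∈ K := K.mul_mem (K.inv_mem hxK) h1
      have h3 : x⁻¹ * shearAut hc i j hij x = Pi.mulSingle j (x i) := by
        show x⁻¹ * (x * Pi.mulSingle j (x i)) = _
        rw [inv_mul_cancel_left]
      rwa [h3] at h2
    · push Not at hj
      refine ⟨i, x i, hi, ?_⟩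
      have : (Pi.mulSingle i (x i) : ι → S) = x := by
        funext k
        rw [← hj k, Pi.mulSingle_eq_same]
      rwa [this]
  · -- noncommutative: the center is trivial
    have hcen : Subgroup.center S = ⊥ := by
      rcases (inferInstance : (Subgroup.center S).Normal).eq_bot_or_eq_top with h | h
      · exact h
      · exfalso
        apply hc
        intro a b
        have : a ∈ Subgroup.center S := by rw [h]; exact mem_top a
        exact ((Subgroup.mem_center_iff.mp this) b).symm
    have hxi : x i ∉ Subgroup.center S := by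
      rw [hcen, mem_bot]; exact hi
    rw [Subgroup.mem_center_iff] at hxi
    push Not at hxi
    obtain ⟨t, ht⟩ := hxi
    refine ⟨i, x i * (t * (x i)⁻¹ * t⁻¹), ?_, ?_⟩
    · intro h
      apply ht
      have : x i * t * (x i)⁻¹ * t⁻¹ = 1 := by rw [← h]; group
      have h2 : x i * t = t * x i := by
        have := congrArg (fun z => z * (t * x i)) this
        simpa [mul_assoc] using this
      exact h2.symm
    · have hn : K.Normal := inferInstance
      have h1 : (Pi.mulSingle i t : ι → S) * x⁻¹ * (Pi.mulSingle i t : ι → S)⁻¹ ∈ K :=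
        hn.conj_mem _ (K.inv_mem hxK) _
      have h2 := K.mul_mem hxK h1
      have h3 : x * ((Pi.mulSingle i t : ι → S) * x⁻¹ * (Pi.mulSingle i t : ι → S)⁻¹)
          = Pi.mulSingle i (x i * (t * (x i)⁻¹ * t⁻¹)) := by
        funext k
        by_cases hk : k = i
        · subst hk
          simp
        · simp [Pi.mulSingle_eq_of_ne hk]
      rwa [h3] at h2

/-- **A direct power of a simple group is characteristically simple.** -/
theorem characteristic_pi_eq_bot_or_top [IsSimpleGroup S] [Finite ι]
    (K : Subgroup (ι → S)) [hK : K.Characteristic] : K = ⊥ ∨ K = ⊤ := by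
  classical
  by_cases hne : K = ⊥
  · exact Or.inl hne
  · right
    obtain ⟨j, s, hs, hsK⟩ := exists_mulSingle_mem_of_characteristic K hne
    have hKn : K.Normal := inferInstance
    -- the `j`-th coordinate subgroup lies in `K`
    have hj : ∀ t : S, (Pi.mulSingle j t : ι → S) ∈ K := by
      have hcomap : (K.comap (MonoidHom.mulSingle (fun _ : ι => S) j)).Normal := inferInstance
      rcases hcomap.eq_bot_or_eq_top with h | h
      · exfalso
        apply hs
        have : s ∈ K.comap (MonoidHom.mulSingle (fun _ : ι => S) j) := hsK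
        rwa [h, mem_bot] at this
      · intro t
        have : t ∈ K.comap (MonoidHom.mulSingle (fun _ : ι => S) j) := by rw [h]; exact mem_top t
        exact this
    have hall : ∀ (k : ι) (t : S), (Pi.mulSingle k t : ι → S) ∈ K := by
      intro k t
      have := (characteristic_iff_le_comap.mp hK) (permAut (Equiv.swap j k)) (hj t)
      rw [mem_comap] at this
      have h2 : (permAut (Equiv.swap j k)).toMonoidHom (Pi.mulSingle j t : ι → S)
          = Pi.mulSingle k t := permAut_swap_mulSingle j k t
      rwa [h2] at this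
    rw [eq_top_iff]
    intro f _
    exact Subgroup.pi_mem_of_mulSingle_mem f (fun k => hall k (f k))

end

/-- transport of the characteristically simple property along an isomorphism -/
theorem charSimple_of_mulEquiv {G P : Type*} [Group G] [Group P] (e : G ≃* P)
    (hP : ∀ K : Subgroup P, K.Characteristic → K = ⊥ ∨ K = ⊤) :
    ∀ K : Subgroup G, K.Characteristic → K = ⊥ ∨ K = ⊤ := by
  intro K hK
  have hchar : (K.map e.toMonoidHom).Characteristic := by
    rw [characteristic_iff_map_le]
    rintro ψ x ⟨y, ⟨k, hk, rfl⟩, rfl⟩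
    have h1 := (characteristic_iff_le_comap.mp hK) (e.trans (ψ.trans e.symm)) hk
    rw [mem_comap] at h1
    refine ⟨_, h1, ?_⟩
    simp
  rcases hP _ hchar with h | h
  · left
    exact (Subgroup.map_eq_bot_iff_of_injective K e.injective).mp h
  · right
    rw [eq_top_iff]
    intro g _
    have : e g ∈ K.map e.toMonoidHom := by rw [h]; exact mem_top _
    obtain ⟨k, hk, hkg⟩ := this
    have : k = g := e.injective hkg
    rwa [← this]

end Cfsg.Agent.Lib.Helper19
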