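import Mathlib
import Cfsg.Agent.Lib.Helper19.Derangement

set_option autoImplicit false
set_option linter.unusedSectionVars false

namespace Cfsg.Agent.Lib.Helper19.DerInv

open MulAction Finset

variable {G Ω : Type*} [Group G] [Fintype G] [Fintype Ω] [DecidableEq Ω] [DecidableEq G]
  [MulAction G Ω]

/-- fixed point finset -/
def Fix (g : G) : Finset Ω := univ.filter (fun ω => g • ω = ω)

theorem mem_Fix {g : G} {ω : Ω} : ω ∈ Fix g ↔ g • ω = ω := by
  simp [Fix]

/-- derangements -/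
def Der (G Ω : Type*) [Group G] [Fintype G] [Fintype Ω] [DecidableEq Ω] [MulAction G Ω] : Finset G :=
  univ.filter (fun g : G => ∀ ω : Ω, g • ω ≠ ω)

theorem mem_Der {g : G} : g ∈ Der G Ω ↔ ∀ ω : Ω, g • ω ≠ ω := by
  simp [Der]

theorem sum_card_Fix [IsPretransitive G Ω] [Nonempty Ω] :
    ∑ g : G, (Fix (Ω := Ω) g).card = Fintype.card G := by
  have h := Cfsg.Agent.Lib.Helper19.burnside_natCard (G := G) (Ω := Ω)
  rw [Cfsg.Agent.Lib.Helper19.card_orbits_eq_one, one_mul, Nat.card_eq_fintype_card] at h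
  rw [← h]
  apply Finset.sum_congr rfl
  intro g _
  rw [Nat.card_eq_fintype_card]
  unfold Fix
  rw [← Fintype.card_subtype]
  rfl

theorem card_Der_mul_le (hinv : ∀ g : G, (∀ ω : Ω, g • ω ≠ ω) → g * g = 1) :
    (Der G Ω).card * Fintype.card Ω ≤ ∑ g : G, (Fix (Ω := Ω) g).offDiag.card := by
  classical
  have hswap : ∀ x ∈ Der G Ω, ∀ b : Ω, x • (x • b) = b := by
    intro x hx b
    rw [← mul_smul, hinv x (mem_Der.1 hx), one_smul]
  -- choice of representative
  let x₀ : Ω → Ω → G := fun b c =>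
    if h : ∃ x ∈ Der G Ω, x • b = c then h.choose else 1
  have hx₀ : ∀ b c, (∃ x ∈ Der G Ω, x • b = c) → x₀ b c ∈ Der G Ω ∧ x₀ b c • b = c := by
    intro b c h
    simp only [x₀, dif_pos h]
    exact h.choose_spec
  let T : Finset (Σ _ : G, Ω × Ω) := univ.sigma (fun g => (Fix (Ω := Ω) g).offDiag)
  have hT : T.card = ∑ g : G, (Fix (Ω := Ω) g).offDiag.card := by
    simp [T, Finset.card_sigma]
  rw [← hT, ← Finset.card_univ (α := Ω), ← Finset.card_product]
  apply Finset.card_le_card_of_injOn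
    (fun xb : G × Ω => (⟨(x₀ xb.2 (xb.1 • xb.2))⁻¹ * xb.1, (xb.2, xb.1 • xb.2)⟩ : Σ _ : G, Ω × Ω))
  · rintro ⟨x, b⟩ hxb
    rw [Finset.coe_product, Set.mem_prod] at hxb
    have hx : x ∈ Der G Ω := hxb.1
    obtain ⟨h1, h2⟩ := hx₀ b (x • b) ⟨x, hx, rfl⟩
    simp only [T, Finset.coe_sigma, Set.mem_sigma_iff, Finset.coe_univ, Set.mem_univ, true_and,
      Finset.mem_coe, Finset.mem_offDiag, mem_Fix]
    set y := x₀ b (x • b) with hy
    have hyb : y • (x • b) = b := by
      rw [← h2, hswap y h1 b]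
    have hyinv : ∀ u v : Ω, y • u = v → y⁻¹ • v = u := by
      intro u v huv
      rw [← huv, inv_smul_smul]
    refine ⟨?_, ?_, ?_⟩
    · rw [mul_smul]
      exact hyinv _ _ h2
    · rw [mul_smul, hswap x hx b]
      exact hyinv _ _ hyb
    · exact fun h => (mem_Der.1 hx b) h.symm
  · rintro ⟨x, b⟩ _ ⟨y, c⟩ _ h
    simp only [Sigma.mk.injEq, heq_eq_eq, Prod.mk.injEq] at h
    obtain ⟨h1, h2, h3⟩ := h
    subst h2
    rw [h3] at h1
    have := mul_left_cancel h1
    rw [this]

theorem card_Fix_eq_one_or [IsPretransitive G Ω] [Nonempty Ω]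
    (hinv : ∀ g : G, (∀ ω : Ω, g • ω ≠ ω) → g * g = 1) (g : G) (hg : g ∉ Der G Ω) :
    (Fix (Ω := Ω) g).card = 1 ∨ (Fix (Ω := Ω) g).card = Fintype.card Ω := by
  classical
  set n : ℤ := (Fintype.card Ω : ℤ) with hn
  let f : G → ℤ := fun g => ((Fix (Ω := Ω) g).card : ℤ)
  have h1 : ∑ g : G, f g = (Fintype.card G : ℤ) := by
    have := sum_card_Fix (G := G) (Ω := Ω)
    simp only [f]
    rw [← this]; push_cast; rfl
  have h2 : ((Der G Ω).card : ℤ) * n ≤ ∑ g : G, (f g * f g - f g) := by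
    have := card_Der_mul_le (G := G) (Ω := Ω) hinv
    have h' : ∀ g : G, (((Fix (Ω := Ω) g).offDiag.card : ℕ) : ℤ) = f g * f g - f g := by
      intro g
      rw [Finset.offDiag_card, Nat.cast_sub (Nat.le_mul_self _)]
      push_cast; rfl
    calc ((Der G Ω).card : ℤ) * n = (((Der G Ω).card * Fintype.card Ω : ℕ) : ℤ) := by
          push_cast; rfl
      _ ≤ ((∑ g : G, (Fix (Ω := Ω) g).offDiag.card : ℕ) : ℤ) := by exact_mod_cast this
      _ = ∑ g : G, (f g * f g - f g) := by
          push_cast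
          exact Finset.sum_congr rfl (fun g _ => h' g)
  have h3 : ∀ g ∈ Der G Ω, f g = 0 := by
    intro g hg
    simp only [f]
    rw [Nat.cast_eq_zero, Finset.card_eq_zero, Finset.eq_empty_iff_forall_notMem]
    intro ω hω
    exact mem_Der.1 hg ω (mem_Fix.1 hω)
  have h4 : ∀ g, g ∉ Der G Ω → 1 ≤ f g ∧ f g ≤ n := by
    intro g hg
    constructor
    · rw [mem_Der] at hg
      push Not at hg
      obtain ⟨ω, hω⟩ := hg
      have : 0 < (Fix (Ω := Ω) g).card := Finset.card_pos.2 ⟨ω, mem_Fix.2 hω⟩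
      simp only [f]
      exact_mod_cast this
    · simp only [f, hn]
      exact_mod_cast Finset.card_le_univ _
  let T : G → ℤ := fun g => (f g - 1) * (n - f g)
  have hTsum : ∑ g : G, T g = - ∑ g : G, (f g * f g - f g) := by
    have e : ∀ g : G, T g = (n + 1) * f g - n * 1 - (f g * f g - f g) - f g := by
      intro g; simp only [T]; ring
    rw [Finset.sum_congr rfl (fun g _ => e g), Finset.sum_sub_distrib, Finset.sum_sub_distrib,
      Finset.sum_sub_distrib, ← Finset.mul_sum, ← Finset.mul_sum, h1]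
    simp only [Finset.sum_const, Finset.card_univ, nsmul_eq_mul, mul_one]
    ring
  have hsplit : ∑ g : G, T g = ∑ g ∈ Der G Ω, T g + ∑ g ∈ univ.filter (fun g => g ∉ Der G Ω), T g := by
    have := Finset.sum_filter_add_sum_filter_not (univ : Finset G) (fun g => g ∈ Der G Ω) T
    rw [← this]
    congr 1
    apply Finset.sum_congr _ (fun _ _ => rfl)
    ext g; simp
  have hD : ∑ g ∈ Der G Ω, T g = - (((Der G Ω).card : ℤ) * n) := by
    rw [Finset.sum_congr rfl (fun g hg => by simp only [T]; rw [h3 g hg])]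
    simp only [Finset.sum_const, nsmul_eq_mul]
    ring
  have hnonneg : ∀ g ∈ univ.filter (fun g : G => g ∉ Der G Ω), 0 ≤ T g := by
    intro g hg
    rw [Finset.mem_filter] at hg
    obtain ⟨ha, hb⟩ := h4 g hg.2
    exact mul_nonneg (by linarith) (by linarith)
  have hle : ∑ g ∈ univ.filter (fun g : G => g ∉ Der G Ω), T g ≤ 0 := by linarith
  have hzero : ∑ g ∈ univ.filter (fun g : G => g ∉ Der G Ω), T g = 0 :=
    le_antisymm hle (Finset.sum_nonneg hnonneg)
  have := (Finset.sum_eq_zero_iff_of_nonneg hnonneg).1 hzero g (by simp [hg])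
  simp only [T] at this
  rcases mul_eq_zero.1 this with h | h
  · left
    have : f g = 1 := by linarith
    simp only [f] at this
    exact_mod_cast this
  · right
    have : f g = n := by linarith
    simp only [f, hn] at this
    exact_mod_cast this

end Cfsg.Agent.Lib.Helper19.DerInv
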