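import Mathlib
import Cfsg.Agent.Lib.Helper19.Derangement
import Cfsg.Agent.Lib.Helper19.Index

set_option autoImplicit false

namespace Cfsg.Agent.Lib.Helper19

open MulAction Subgroup

/-- if a group fixes `a` and all other orbits have size divisible by `m`, then
`m ∣ |Ω| - 1`. -/
theorem dvd_card_sub_one_of_orbits {H Ω : Type*} [Group H] [MulAction H Ω] [Finite Ω] (a : Ω)
    (ha : ∀ h : H, h • a = a) (m : ℕ)
    (hm : ∀ ω : Ω, ω ≠ a → m ∣ Nat.card (orbit H ω)) : m ∣ Nat.card Ω - 1 := by
  classical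
  haveI := Fintype.ofFinite Ω
  haveI : Fintype (orbitRel.Quotient H Ω) := Fintype.ofFinite _
  let f : Ω → orbitRel.Quotient H Ω := fun ω => Quotient.mk'' ω
  have hcard : Nat.card Ω - 1 = (Finset.univ.erase a).card := by
    rw [Finset.card_erase_of_mem (Finset.mem_univ a), Finset.card_univ, Nat.card_eq_fintype_card]
  rw [hcard, Finset.card_eq_sum_card_fiberwise (f := f) (t := Finset.univ)
    (fun x _ => Finset.mem_univ _)]
  apply Finset.dvd_sum
  intro q _
  by_cases hq : q = f a
  · have : (Finset.univ.erase a).filter (fun ω => f ω = q) = ∅ := by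
      rw [Finset.eq_empty_iff_forall_notMem]
      intro ω hω
      rw [Finset.mem_filter, Finset.mem_erase] at hω
      obtain ⟨⟨hne, _⟩, hfq⟩ := hω
      rw [hq] at hfq
      have : ω ∈ orbit H a := by
        have := Quotient.exact' hfq
        exact this
      obtain ⟨h, rfl⟩ := this
      exact hne (ha h)
    rw [this, Finset.card_empty]
    exact dvd_zero _
  · obtain ⟨ω₀, rfl⟩ : ∃ ω₀, f ω₀ = q := Quotient.exists_rep q
    have hω₀ : ω₀ ≠ a := fun h => hq (by rw [h])
    have hset : ((Finset.univ.erase a).filter (fun ω => f ω = f ω₀) : Finset Ω) =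
        (orbit H ω₀).toFinset := by
      ext ω
      simp only [Finset.mem_filter, Finset.mem_erase, Finset.mem_univ, and_true, Set.mem_toFinset]
      constructor
      · rintro ⟨_, h⟩
        exact Quotient.exact' h
      · intro h
        refine ⟨?_, Quotient.sound' h⟩
        rintro rfl
        obtain ⟨h', hh'⟩ := h
        apply hω₀
        have : h'⁻¹ • ω = ω₀ := by rw [← hh', inv_smul_smul]
        rw [← this, ha]
    rw [hset, Set.toFinset_card, ← Nat.card_eq_fintype_card]
    exact hm ω₀ hω₀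

section
variable {G Ω : Type*} [Group G] [MulAction G Ω]

/-- the set of derangements -/
def derangements (G Ω : Type*) [Group G] [MulAction G Ω] : Set G := {g : G | ∀ ω : Ω, g • ω ≠ ω}

theorem derangements_conj (g s : G) (hs : s ∈ derangements G Ω) :
    g * s * g⁻¹ ∈ derangements G Ω := by
  intro ω h
  apply hs (g⁻¹ • ω)
  have : g⁻¹ • ((g * s * g⁻¹) • ω) = g⁻¹ • ω := by rw [h]
  rw [mul_smul, mul_smul, inv_smul_smul] at this
  exact this

theorem closure_normal_of_conj {S : Set G} (hS : ∀ g : G, ∀ s ∈ S, g * s * g⁻¹ ∈ S) :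
    (Subgroup.closure S).Normal := by
  constructor
  intro n hn g
  induction hn using Subgroup.closure_induction with
  | mem x hx => exact Subgroup.subset_closure (hS g x hx)
  | one => simp
  | mul x y _ _ hx hy =>
    have : g * (x * y) * g⁻¹ = (g * x * g⁻¹) * (g * y * g⁻¹) := by group
    rw [this]; exact Subgroup.mul_mem _ hx hy
  | inv x _ hx =>
    have : g * x⁻¹ * g⁻¹ = (g * x * g⁻¹)⁻¹ := by group
    rw [this]; exact Subgroup.inv_mem _ hx

instance derangements_closure_normal : (Subgroup.closure (derangements G Ω)).Normal :=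
  closure_normal_of_conj (fun g s hs => derangements_conj g s hs)

/-- a transitive subgroup together with a point stabilizer generates -/
theorem sup_stabilizer_eq_top (D : Subgroup G) (hD : IsPretransitive D Ω) (a : Ω) :
    stabilizer G a ⊔ D = ⊤ := by
  rw [eq_top_iff]
  intro g _
  obtain ⟨d, hd⟩ := hD.exists_smul_eq a (g • a)
  have h1 : d.1⁻¹ * g ∈ stabilizer G a := by
    rw [mem_stabilizer_iff, mul_smul, ← hd]
    show d.1⁻¹ • (d.1 • a) = a
    rw [inv_smul_smul]
  have : g = d.1 * (d.1⁻¹ * g) := by group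
  rw [this]
  exact Subgroup.mul_mem _ (Subgroup.mem_sup_right d.2) (Subgroup.mem_sup_left h1)

end

section
variable {G Ω : Type*} [Group G] [MulAction G Ω]

theorem two_point_stabilizer_le [Fintype G] [Finite Ω] [Nonempty Ω] [IsPretransitive G Ω]
    (D : Subgroup G) [Fintype D]
    (hD : ∀ g : G, (∀ ω : Ω, g • ω ≠ ω) → g ∈ D) (a ω : Ω) (hne : ω ≠ a) :
    stabilizer G ω ⊓ stabilizer G a ≤ D := by
  intro g hg
  obtain ⟨h1, h2⟩ := hg
  by_contra hgD
  have hcard := (derangement_subgroup_key (Ω := Ω) D hD).2.1 g hgD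
  obtain ⟨hsub, _⟩ := Nat.card_eq_one_iff_unique.mp hcard
  have : (⟨ω, h1⟩ : fixedBy Ω g) = ⟨a, h2⟩ := Subsingleton.elim _ _
  exact hne (congrArg Subtype.val this)

theorem index_dvd_card_orbit [Fintype G] [Finite Ω] [Nonempty Ω] [IsPretransitive G Ω]
    (D : Subgroup G) [D.Normal] [Fintype D]
    (hD : ∀ g : G, (∀ ω : Ω, g • ω ≠ ω) → g ∈ D) (a ω : Ω) (hne : ω ≠ a) :
    Nat.card (orbit (stabilizer G a) ω) =
      (stabilizer G ω ⊓ stabilizer G a).relIndex (D ⊓ stabilizer G a) * D.index := by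
  have htr := (derangement_subgroup_key (Ω := Ω) D hD).1
  have hDH : D.relIndex (stabilizer G a) = D.index := by
    rw [← relIndex_sup_of_le_normalizer (stabilizer G a) D
      (by rw [Subgroup.normalizer_eq_top]; exact le_top), sup_stabilizer_eq_top D htr a,
      relIndex_top_right]
  rw [card_orbit_subgroup, ← inf_relIndex_right, ← hDH, ← inf_relIndex_right D]
  exact (relIndex_mul_relIndex _ _ _
    (le_inf (two_point_stabilizer_le D hD a ω hne) inf_le_right) inf_le_right).symm

theorem index_dvd_card_sub_one [Fintype G] [Finite Ω] [Nonempty Ω] [IsPretransitive G Ω]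
    (D : Subgroup G) [D.Normal] [Fintype D]
    (hD : ∀ g : G, (∀ ω : Ω, g • ω ≠ ω) → g ∈ D) : D.index ∣ Nat.card Ω - 1 := by
  obtain ⟨a⟩ := ‹Nonempty Ω›
  apply dvd_card_sub_one_of_orbits (H := stabilizer G a) a (fun h => h.2)
  intro ω hne
  rw [index_dvd_card_orbit D hD a ω hne]
  exact Dvd.intro_left _ rfl

theorem not_mem_orbit_stabilizer (a ω : Ω) (hne : ω ≠ a) :
    a ∉ orbit (stabilizer G a) ω := by
  rintro ⟨h, hh⟩
  apply hne
  have h1 : h⁻¹ • (h • ω) = h⁻¹ • a := congrArg _ hh
  rw [inv_smul_smul] at h1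
  rw [h1]
  exact (h⁻¹).2

theorem card_orbit_le [Finite Ω] (a ω : Ω) (hne : ω ≠ a) :
    Nat.card (orbit (stabilizer G a) ω) ≤ Nat.card Ω - 1 := by
  classical
  haveI := Fintype.ofFinite Ω
  have hsub : (orbit (stabilizer G a) ω).toFinset ⊆ Finset.univ.erase a := by
    intro x hx
    rw [Set.mem_toFinset] at hx
    rw [Finset.mem_erase]
    refine ⟨?_, Finset.mem_univ _⟩
    intro hxa
    rw [hxa] at hx
    exact not_mem_orbit_stabilizer a ω hne hx
  have := Finset.card_le_card hsub
  rw [Set.toFinset_card, Finset.card_erase_of_mem (Finset.mem_univ a), Finset.card_univ] at this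
  rw [Nat.card_eq_fintype_card, Nat.card_eq_fintype_card]
  exact this

theorem orbit_eq_compl [Finite Ω] (a ω : Ω) (hne : ω ≠ a)
    (hcard : Nat.card (orbit (stabilizer G a) ω) = Nat.card Ω - 1) (x : Ω) (hx : x ≠ a) :
    x ∈ orbit (stabilizer G a) ω := by
  classical
  haveI := Fintype.ofFinite Ω
  have hsub : (orbit (stabilizer G a) ω).toFinset ⊆ Finset.univ.erase a := by
    intro x hx
    rw [Set.mem_toFinset] at hx
    rw [Finset.mem_erase]
    refine ⟨?_, Finset.mem_univ _⟩
    intro hxa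
    rw [hxa] at hx
    exact not_mem_orbit_stabilizer a ω hne hx
  have hle : (Finset.univ.erase a).card ≤ (orbit (stabilizer G a) ω).toFinset.card := by
    rw [Set.toFinset_card, Finset.card_erase_of_mem (Finset.mem_univ a), Finset.card_univ,
      ← Nat.card_eq_fintype_card, ← Nat.card_eq_fintype_card, hcard]
  have heq := Finset.eq_of_subset_of_card_le hsub hle
  have : x ∈ (orbit (stabilizer G a) ω).toFinset := by
    rw [heq, Finset.mem_erase]
    exact ⟨hx, Finset.mem_univ _⟩
  exact Set.mem_toFinset.mp this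

end

section
variable {G Ω : Type*} [Group G] [MulAction G Ω]

theorem isPrimePow_of_index_eq [Fintype G] [Finite Ω] [Nonempty Ω] [IsPretransitive G Ω]
    [FaithfulSMul G Ω]
    (D : Subgroup G) [D.Normal] [Fintype D]
    (hD : ∀ g : G, (∀ ω : Ω, g • ω ≠ ω) → g ∈ D) (hΩ : 2 ≤ Nat.card Ω)
    (hidx : D.index = Nat.card Ω - 1) : IsPrimePow (Nat.card Ω) := by
  classical
  obtain ⟨a⟩ := ‹Nonempty Ω›
  have htr := (derangement_subgroup_key (Ω := Ω) D hD).1
  -- orbits of the stabilizer
  have horb : ∀ ω : Ω, ω ≠ a → Nat.card (orbit (stabilizer G a) ω) = Nat.card Ω - 1 ∧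
      (stabilizer G ω ⊓ stabilizer G a).relIndex (D ⊓ stabilizer G a) = 1 := by
    intro ω hne
    have h1 := index_dvd_card_orbit D hD a ω hne
    have h2 := card_orbit_le (G := G) a ω hne
    have h3 : 0 < Nat.card (orbit (stabilizer G a) ω) := by
      haveI : Nonempty (orbit (stabilizer G a) ω) := ⟨⟨ω, mem_orbit_self ω⟩⟩
      exact Nat.card_pos
    rw [hidx] at h1
    set r := (stabilizer G ω ⊓ stabilizer G a).relIndex (D ⊓ stabilizer G a) with hr
    have hr1 : r = 1 := by
      rcases Nat.lt_or_ge r 2 with h | h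
      · interval_cases r
        · rw [zero_mul] at h1; omega
        · rfl
      · have : 2 * (Nat.card Ω - 1) ≤ r * (Nat.card Ω - 1) := Nat.mul_le_mul_right _ h
        omega
    rw [hr1, one_mul] at h1
    exact ⟨h1, hr1⟩
  -- the stabilizer in D is trivial
  have hbot : D ⊓ stabilizer G a = ⊥ := by
    rw [eq_bot_iff]
    intro g hg
    rw [Subgroup.mem_bot]
    apply FaithfulSMul.eq_of_smul_eq_smul (α := Ω)
    intro ω
    rw [one_smul]
    by_cases hne : ω = a
    · rw [hne]; exact hg.2
    · have := (relIndex_eq_one.mp (horb ω hne).2) hg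
      exact this.1
  -- D is regular
  have hinj : ∀ d₁ d₂ : G, d₁ ∈ D → d₂ ∈ D → d₁ • a = d₂ • a → d₁ = d₂ := by
    intro d₁ d₂ h1 h2 h
    have hmem : d₂⁻¹ * d₁ ∈ D ⊓ stabilizer G a := by
      refine Subgroup.mem_inf.mpr ⟨D.mul_mem (D.inv_mem h2) h1, mem_stabilizer_iff.mpr ?_⟩
      rw [mul_smul, h, inv_smul_smul]
    rw [hbot, Subgroup.mem_bot] at hmem
    exact (inv_mul_eq_one.mp hmem).symm
  have hcardD : Nat.card D = Nat.card Ω := by
    apply Nat.card_eq_of_bijective (fun d : D => (d : G) • a)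
    constructor
    · intro d₁ d₂ h
      exact Subtype.ext (hinj _ _ d₁.2 d₂.2 h)
    · intro ω
      obtain ⟨d, hd⟩ := htr.exists_smul_eq a ω
      exact ⟨d, hd⟩
  -- all nonidentity elements of D are conjugate
  have hord : ∀ d d' : G, d ∈ D → d' ∈ D → d ≠ 1 → d' ≠ 1 → orderOf d = orderOf d' := by
    intro d d' hd hd' h1 h1'
    have hda : d • a ≠ a := by
      intro h
      exact h1 (hinj d 1 hd D.one_mem (by rw [h, one_smul]))
    have hda' : d' • a ≠ a := by
      intro h
      exact h1' (hinj d' 1 hd' D.one_mem (by rw [h, one_smul]))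
    obtain ⟨h, hh⟩ := orbit_eq_compl (G := G) a (d • a) hda (horb _ hda).1 (d' • a) hda'
    have hconj : (h : G) * d * (h : G)⁻¹ = d' := by
      apply hinj _ _ (‹D.Normal›.conj_mem d hd h) hd'
      rw [mul_smul, mul_smul]
      have : (h : G)⁻¹ • a = a := (h⁻¹).2
      rw [this]
      exact hh
    rw [← hconj]
    have := (MulAut.conj (h : G)).orderOf_eq d
    rw [MulAut.conj_apply] at this
    exact this.symm
  -- D is a p-group
  have hD2 : 2 ≤ Nat.card D := by rw [hcardD]; exact hΩ
  set p := (Nat.card D).minFac with hp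
  have hpp : p.Prime := Nat.minFac_prime (by omega)
  haveI : Fact p.Prime := ⟨hpp⟩
  obtain ⟨x, hx⟩ := exists_prime_orderOf_dvd_card' (G := D) p (Nat.minFac_dvd _)
  have hx1 : (x : G) ≠ 1 := by
    intro h
    have : x = 1 := Subtype.ext h
    rw [this, orderOf_one] at hx
    exact hpp.one_lt.ne hx
  have hpg : IsPGroup p D := by
    intro d
    refine ⟨1, ?_⟩
    rw [pow_one]
    by_cases hd1 : (d : G) = 1
    · have : d = 1 := Subtype.ext hd1
      rw [this, one_pow]
    · have := hord d x d.2 x.2 hd1 hx1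
      rw [Subgroup.orderOf_coe, Subgroup.orderOf_coe, hx] at this
      rw [← this]
      exact pow_orderOf_eq_one d
  obtain ⟨e, he⟩ := IsPGroup.iff_card.mp hpg
  rw [← hcardD, he]
  rw [isPrimePow_nat_iff]
  refine ⟨p, e, hpp, ?_, rfl⟩
  rcases Nat.eq_zero_or_pos e with h0 | h0
  · rw [h0, pow_zero] at he
    omega
  · exact h0

end

end Cfsg.Agent.Lib.Helper19
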