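import Mathlib
import Cfsg.Agent.Lib.Helper19.DerangementIndex

set_option autoImplicit false

namespace Cfsg.Agent.Lib.Helper19

open MulAction Subgroup

/-- if a group fixes `a ∈ S`, `S` is invariant and all other orbits in `S` have size divisible
by `m`, then `m ∣ |S| - 1`. -/
theorem dvd_ncard_sub_one_of_orbits {H Ω : Type*} [Group H] [MulAction H Ω] [Finite Ω]
    (S : Set Ω) (hS : ∀ h : H, ∀ x ∈ S, h • x ∈ S) (a : Ω) (haS : a ∈ S)
    (ha : ∀ h : H, h • a = a) (m : ℕ)
    (hm : ∀ ω ∈ S, ω ≠ a → m ∣ Nat.card (orbit H ω)) : m ∣ S.ncard - 1 := by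
  classical
  haveI := Fintype.ofFinite Ω
  haveI : Fintype (orbitRel.Quotient H Ω) := Fintype.ofFinite _
  let f : Ω → orbitRel.Quotient H Ω := fun ω => Quotient.mk'' ω
  have hcard : S.ncard - 1 = (S.toFinset.erase a).card := by
    rw [Finset.card_erase_of_mem (Set.mem_toFinset.mpr haS), Set.ncard_eq_toFinset_card']
  rw [hcard, Finset.card_eq_sum_card_fiberwise (f := f) (t := Finset.univ)
    (fun x _ => Finset.mem_univ _)]
  apply Finset.dvd_sum
  intro q _
  by_cases hq : q = f a
  · have : (S.toFinset.erase a).filter (fun ω => f ω = q) = ∅ := by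
      rw [Finset.eq_empty_iff_forall_notMem]
      intro ω hω
      rw [Finset.mem_filter, Finset.mem_erase] at hω
      obtain ⟨⟨hne, _⟩, hfq⟩ := hω
      rw [hq] at hfq
      have : ω ∈ orbit H a := by
        have := Quotient.exact' hfq
        exact this
      obtain ⟨h, rfl⟩ := this
      exact hne (ha h)
    rw [this, Finset.card_empty]
    exact dvd_zero _
  · obtain ⟨ω₀, rfl⟩ : ∃ ω₀, f ω₀ = q := Quotient.exists_rep q
    have hω₀ : ω₀ ≠ a := fun h => hq (by rw [h])
    by_cases hω₀S : ω₀ ∈ S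
    · have hset : ((S.toFinset.erase a).filter (fun ω => f ω = f ω₀) : Finset Ω) =
          (orbit H ω₀).toFinset := by
        ext ω
        simp only [Finset.mem_filter, Finset.mem_erase, Set.mem_toFinset]
        constructor
        · rintro ⟨_, h⟩
          exact Quotient.exact' h
        · intro h
          refine ⟨⟨?_, ?_⟩, Quotient.sound' h⟩
          · rintro rfl
            obtain ⟨h', hh'⟩ := h
            apply hω₀
            have : h'⁻¹ • ω = ω₀ := by rw [← hh', inv_smul_smul]
            rw [← this, ha]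
          · obtain ⟨h', rfl⟩ := h
            exact hS h' ω₀ hω₀S
      rw [hset, Set.toFinset_card, ← Nat.card_eq_fintype_card]
      exact hm ω₀ hω₀S hω₀
    · have : (S.toFinset.erase a).filter (fun ω => f ω = f ω₀) = ∅ := by
        rw [Finset.eq_empty_iff_forall_notMem]
        intro ω hω
        rw [Finset.mem_filter, Finset.mem_erase, Set.mem_toFinset] at hω
        obtain ⟨⟨_, hωS⟩, hfq⟩ := hω
        have : ω₀ ∈ orbit H ω := Quotient.exact' hfq.symm
        obtain ⟨h, rfl⟩ := this
        exact hω₀S (hS h ω hωS)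
      rw [this, Finset.card_empty]
      exact dvd_zero _

section
variable {G Ω : Type*} [Group G] [MulAction G Ω]

open scoped Pointwise in
theorem index_le_sqrt_sub_one [Fintype G] [Finite Ω] [IsPretransitive G Ω]
    (himp : ¬ IsPreprimitive G Ω)
    (D : Subgroup G) [D.Normal] [Fintype D]
    (hD : ∀ g : G, (∀ ω : Ω, g • ω ≠ ω) → g ∈ D) :
    (D.index : ℝ) ≤ Real.sqrt (Nat.card Ω) - 1 := by
  classical
  obtain ⟨B, hB, hBt⟩ : ∃ B : Set Ω, IsBlock G B ∧ ¬ IsTrivialBlock B := by
    by_contra h
    push Not at h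
    exact himp { isTrivialBlock_of_isBlock := fun {B} hB => h B hB }
  have hBs : ¬ B.Subsingleton := fun h => hBt (Or.inl h)
  have hBu : B ≠ Set.univ := fun h => hBt (Or.inr h)
  rw [Set.not_subsingleton_iff] at hBs
  obtain ⟨a, haB, b, hbB, hab⟩ := hBs
  haveI : Nonempty Ω := ⟨a⟩
  set m := D.index with hm
  have hmpos : 0 < m := by
    rw [hm]
    exact Nat.pos_of_ne_zero Subgroup.index_ne_zero_of_finite
  -- m ∣ n - 1
  have h1 : m ∣ Nat.card Ω - 1 := index_dvd_card_sub_one D hD
  -- m ∣ k - 1
  have h2 : m ∣ B.ncard - 1 := by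
    apply dvd_ncard_sub_one_of_orbits (H := stabilizer G a) B ?_ a haB (fun h => h.2)
    · intro ω _ hne
      rw [index_dvd_card_orbit D hD a ω hne]
      exact Dvd.intro_left _ rfl
    · intro h x hx
      have hle := hB.stabilizer_le haB h.2
      rw [mem_stabilizer_iff] at hle
      rw [← hle]
      exact Set.smul_mem_smul_set hx
  have hkl := hB.ncard_block_mul_ncard_orbit_eq ⟨a, haB⟩
  set k := B.ncard with hk
  set l := (orbit G B).ncard with hl
  have hk2 : 2 ≤ k := by
    rw [hk]
    exact (Set.one_lt_ncard (Set.toFinite B)).mpr ⟨a, haB, b, hbB, hab⟩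
  have hl2 : 2 ≤ l := by
    by_contra hlt
    push Not at hlt
    have hn0 : 0 < Nat.card Ω := Nat.card_pos
    have hl1 : l = 1 := by
      rcases Nat.eq_zero_or_pos l with h0 | h0
      · rw [h0, mul_zero] at hkl; omega
      · omega
    rw [hl1, mul_one] at hkl
    apply hBu
    rw [← Set.ncard_univ] at hkl
    exact Set.eq_of_subset_of_ncard_le (Set.subset_univ B) hkl.ge
  -- m ∣ l - 1
  have h3 : m ∣ l - 1 := by
    have e : Nat.card Ω - 1 = l * (k - 1) + (l - 1) := by
      rw [← hkl]
      have : k * l = l * (k - 1) + l := by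
        have : k = (k - 1) + 1 := by omega
        conv_lhs => rw [this]
        ring
      omega
    rw [e] at h1
    exact (Nat.dvd_add_right (Dvd.dvd.mul_left h2 l)).mp h1
  have h4 : m ≤ k - 1 := Nat.le_of_dvd (by omega) h2
  have h5 : m ≤ l - 1 := Nat.le_of_dvd (by omega) h3
  have h6 : (m + 1) * (m + 1) ≤ Nat.card Ω := by
    rw [← hkl]
    exact Nat.mul_le_mul (by omega) (by omega)
  have h7 : ((m : ℝ) + 1) ≤ Real.sqrt (Nat.card Ω) := by
    apply Real.le_sqrt_of_sq_le
    have : (((m + 1) * (m + 1) : ℕ) : ℝ) ≤ (Nat.card Ω : ℝ) := by exact_mod_cast h6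
    push_cast at this
    nlinarith
  linarith

end

end Cfsg.Agent.Lib.Helper19
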