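import Mathlib
import Cfsg.Agent.Lib.Helper4.Basic

/-!
# Thompson's dihedral lemma: core (helper19)

An elementary abelian 2-group `A` acting on a nilpotent group `F` of odd order (`nilpotent_core`):
for `B ≤ A` of order `2 ^ k` acting faithfully there are generators `b i` of `B` and `A`-invariant
subgroups `Q i ≤ F` of prime order, pairwise commuting, with `b i` inverting `Q i` and `b j`
centralizing `Q i` for `j ≠ i`.  Main steps: `exists_min_inverted`, `abelian_core`,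
`exists_comm_mem_of_nilpotent`, `exists_eigen_mod`, `exists_selfcentralizing_abelian`,
`cen_of_cen_selfcentralizing`.
-/

set_option autoImplicit false
open Pointwise
open scoped commutatorElement

namespace Cfsg.Agent.Lib.Helper19.DihedralLemma
universe u
variable {G : Type u} [Group G]

open Cfsg.Agent.Lib.Helper4

/-- `c` centralizes `Q` (conjugation form). -/
def Cen (c : G) (Q : Subgroup G) : Prop := ∀ x ∈ Q, c * x * c⁻¹ = x

/-- `c` inverts `Q`. -/
def Inv (c : G) (Q : Subgroup G) : Prop := ∀ x ∈ Q, c * x * c⁻¹ = x⁻¹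

theorem cen_one (Q : Subgroup G) : Cen 1 Q := fun x _ => by simp

theorem Cen.mul {c d : G} {Q : Subgroup G} (hc : Cen c Q) (hd : Cen d Q) : Cen (c * d) Q := by
  intro x hx
  have : c * d * x * (c * d)⁻¹ = c * (d * x * d⁻¹) * c⁻¹ := by group
  rw [this, hd x hx, hc x hx]

theorem Inv.mul_cen {c d : G} {Q : Subgroup G} (hc : Inv c Q) (hd : Cen d Q) : Inv (c * d) Q := by
  intro x hx
  have : c * d * x * (c * d)⁻¹ = c * (d * x * d⁻¹) * c⁻¹ := by group
  rw [this, hd x hx, hc x hx]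

theorem Cen.mul_inv {c d : G} {Q : Subgroup G} (hc : Cen c Q) (hd : Inv d Q) : Inv (c * d) Q := by
  intro x hx
  have : c * d * x * (c * d)⁻¹ = c * (d * x * d⁻¹) * c⁻¹ := by group
  rw [this, hd x hx, hc x⁻¹ (Q.inv_mem hx)]

theorem Inv.mul_inv {c d : G} {Q : Subgroup G} (hc : Inv c Q) (hd : Inv d Q) : Cen (c * d) Q := by
  intro x hx
  have : c * d * x * (c * d)⁻¹ = c * (d * x * d⁻¹) * c⁻¹ := by group
  rw [this, hd x hx, hc x⁻¹ (Q.inv_mem hx), inv_inv]

theorem eq_one_of_sq_of_odd {M : Subgroup G} [Finite M] (hodd : Odd (Nat.card M)) {x : G}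
    (hx : x ∈ M) (h2 : x * x = 1) : x = 1 := by
  have h1 : orderOf x ∣ 2 := orderOf_dvd_of_pow_eq_one (by rw [pow_two]; exact h2)
  have h3 : orderOf x ∣ Nat.card M := by
    have := orderOf_dvd_natCard (⟨x, hx⟩ : M)
    rwa [Subgroup.orderOf_mk] at this
  have h4 : orderOf x = 1 := by
    rcases (Nat.dvd_prime Nat.prime_two).mp h1 with h | h
    · exact h
    · exfalso
      rw [h] at h3
      exact (Nat.not_even_iff_odd.mpr hodd) (even_iff_two_dvd.mpr h3)
  exact orderOf_eq_one_iff.mp h4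

/-- Centralizing and inverting a subgroup of odd order with a nontrivial element is impossible. -/
theorem not_cen_and_inv {Q : Subgroup G} [Finite Q] (hodd : Odd (Nat.card Q)) (hne : Q ≠ ⊥) {c : G}
    (h1 : Cen c Q) (h2 : Inv c Q) : False := by
  obtain ⟨⟨x, hx⟩, hx1⟩ := (Subgroup.ne_bot_iff_exists_ne_one).mp hne
  apply hx1
  have h3 : x = x⁻¹ := (h1 x hx).symm.trans (h2 x hx)
  have h4 : x * x = 1 := by
    nth_rewrite 2 [h3]
    exact mul_inv_cancel x
  exact Subtype.ext (eq_one_of_sq_of_odd hodd hx h4)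

/-- A subgroup all of whose subgroups are trivial or everything, abelian, nontrivial, finite: prime
order. -/
theorem prime_card_of_min {Q : Subgroup G} [Finite Q] (hne : Q ≠ ⊥)
    (hmin : ∀ K : Subgroup G, K ≤ Q → K = ⊥ ∨ K = Q) : (Nat.card Q).Prime := by
  obtain ⟨⟨x, hx⟩, hx1⟩ := (Subgroup.ne_bot_iff_exists_ne_one).mp hne
  have hx1' : x ≠ 1 := fun h => hx1 (Subtype.ext h)
  have hz : Subgroup.zpowers x = Q := by
    rcases hmin (Subgroup.zpowers x) (by rw [Subgroup.zpowers_le]; exact hx) with h | h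
    · exfalso; apply hx1'
      have : x ∈ Subgroup.zpowers x := Subgroup.mem_zpowers x
      rw [h, Subgroup.mem_bot] at this; exact this
    · exact h
  have hcard : Nat.card Q = orderOf x := by rw [← hz, Nat.card_zpowers]
  rw [hcard]
  have hpos : 0 < orderOf x := by rw [← hcard]; exact Nat.card_pos
  rw [Nat.prime_def]
  refine ⟨?_, ?_⟩
  · rcases Nat.lt_or_ge 1 (orderOf x) with h | h
    · exact h
    · exfalso; apply hx1'
      have : orderOf x = 1 := by omega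
      exact orderOf_eq_one_iff.mp this
  · intro m hm
    obtain ⟨k, hk⟩ := hm
    have hkpos : 0 < k := by
      rcases Nat.eq_zero_or_pos k with rfl | h
      · rw [Nat.mul_zero] at hk; omega
      · exact h
    have hk' : k ∣ orderOf x := ⟨m, by rw [hk]; ring⟩
    have hord : orderOf (x ^ k) = m := by
      rw [orderOf_pow_of_dvd hkpos.ne' hk', hk]
      exact Nat.mul_div_cancel _ hkpos
    rcases hmin (Subgroup.zpowers (x ^ k))
      (by rw [Subgroup.zpowers_le]; exact Q.pow_mem hx k) with h | h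
    · left
      have : x ^ k = 1 := by
        have h2 : x ^ k ∈ Subgroup.zpowers (x ^ k) := Subgroup.mem_zpowers _
        rw [h, Subgroup.mem_bot] at h2; exact h2
      rw [← hord, this, orderOf_one]
    · right
      have : Nat.card (Subgroup.zpowers (x ^ k)) = Nat.card Q := by rw [h]
      rw [Nat.card_zpowers, hord, hcard] at this
      exact this

theorem le_normalizer_of_conj_mem {A K : Subgroup G}
    (key : ∀ c ∈ A, ∀ x ∈ K, c * x * c⁻¹ ∈ K) : A ≤ Subgroup.normalizer (K : Set G) := by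
  intro c hc
  rw [Subgroup.mem_normalizer_iff]
  intro x
  refine ⟨key c hc x, fun h => ?_⟩
  have := key c⁻¹ (A.inv_mem hc) _ h
  simpa [mul_assoc] using this

/-- Key lemma: an elementary abelian 2-group `A` acting on an abelian group `M` of odd order, `a ∈ A`
acting nontrivially: there is an `A`-invariant subgroup `Q ≤ M` of prime order inverted by `a`,
and every element of `A` centralizes or inverts `Q`. -/
theorem exists_min_inverted (A M : Subgroup G) [Finite M]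
    (hAc : ∀ a ∈ A, ∀ b ∈ A, a * b = b * a) (hA2 : ∀ a ∈ A, a * a = 1)
    (hAM : A ≤ Subgroup.normalizer (M : Set G)) (hMc : ∀ x ∈ M, ∀ y ∈ M, x * y = y * x)
    (a : G) (ha : a ∈ A) (hna : ¬ Cen a M) :
    ∃ Q : Subgroup G, Q ≤ M ∧ (Nat.card Q).Prime ∧ A ≤ Subgroup.normalizer (Q : Set G) ∧ Inv a Q ∧
      ∀ b ∈ A, Cen b Q ∨ Inv b Q := by
  classical
  have hconjM : ∀ b ∈ A, ∀ x ∈ M, b * x * b⁻¹ ∈ M := fun b hb x hx =>
    (Subgroup.mem_normalizer_iff.mp (hAM hb) x).mp hx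
  have hinv : ∀ b ∈ A, b⁻¹ = b := fun b hb => inv_eq_of_mul_eq_one_left (hA2 b hb)
  -- the subgroup of inverted elements
  let R : Subgroup G :=
    { carrier := {x | x ∈ M ∧ a * x * a⁻¹ = x⁻¹}
      one_mem' := ⟨M.one_mem, by simp⟩
      mul_mem' := by
        rintro x y ⟨hx, hx'⟩ ⟨hy, hy'⟩
        refine ⟨M.mul_mem hx hy, ?_⟩
        have : a * (x * y) * a⁻¹ = (a * x * a⁻¹) * (a * y * a⁻¹) := by group
        rw [this, hx', hy', mul_inv_rev, hMc _ (M.inv_mem hx) _ (M.inv_mem hy)]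
      inv_mem' := by
        rintro x ⟨hx, hx'⟩
        refine ⟨M.inv_mem hx, ?_⟩
        have : a * x⁻¹ * a⁻¹ = (a * x * a⁻¹)⁻¹ := by group
        rw [this, hx'] }
  have hRM : R ≤ M := fun x hx => hx.1
  have hRne : R ≠ ⊥ := by
    unfold Cen at hna
    push Not at hna
    obtain ⟨y, hy, hya⟩ := hna
    intro hbot
    have hx : y⁻¹ * (a * y * a⁻¹) ∈ R := by
      refine ⟨M.mul_mem (M.inv_mem hy) (hconjM a ha y hy), ?_⟩
      have : a * (y⁻¹ * (a * y * a⁻¹)) * a⁻¹ = (a * y * a⁻¹)⁻¹ * ((a * a) * y * (a * a)⁻¹) := by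
        group
      rw [this, hA2 a ha]
      group
    rw [hbot, Subgroup.mem_bot] at hx
    apply hya
    have : a * y * a⁻¹ = y * (y⁻¹ * (a * y * a⁻¹)) := by group
    rw [this, hx, mul_one]
  have hRA : A ≤ Subgroup.normalizer (R : Set G) := by
    apply le_normalizer_of_conj_mem
    · rintro b hb x ⟨hx, hx'⟩
      refine ⟨hconjM b hb x hx, ?_⟩
      have hab : a * b = b * a := hAc a ha b hb
      have : a * (b * x * b⁻¹) * a⁻¹ = b * (a * x * a⁻¹) * b⁻¹ := by
        have h1 : a * (b * x * b⁻¹) * a⁻¹ = (a * b) * x * (a * b)⁻¹ := by group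
        have h2 : b * (a * x * a⁻¹) * b⁻¹ = (b * a) * x * (b * a)⁻¹ := by group
        rw [h1, h2, hab]
      rw [this, hx']
      group
  -- minimal A-invariant subgroup
  let 𝒮 : Set (Subgroup G) := {K | K ≠ ⊥ ∧ K ≤ R ∧ A ≤ Subgroup.normalizer (K : Set G)}
  have hne : 𝒮.Nonempty := ⟨R, hRne, le_rfl, hRA⟩
  obtain ⟨Q, ⟨hQne, hQR, hQA⟩, hQmin⟩ :=
    (measure (fun K : Subgroup G => Nat.card K)).wf.has_min 𝒮 hne
  have hQM : Q ≤ M := hQR.trans hRM
  haveI : Finite Q := Finite.of_injective (Subgroup.inclusion hQM) (Subgroup.inclusion_injective hQM)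
  have hmin' : ∀ K : Subgroup G, K ≤ Q → A ≤ Subgroup.normalizer (K : Set G) → K = ⊥ ∨ K = Q := by
    intro K hK hKA
    by_cases hKb : K = ⊥
    · exact Or.inl hKb
    · right
      have h1 := hQmin K ⟨hKb, hK.trans hQR, hKA⟩
      exact Subgroup.eq_of_le_of_card_ge hK (not_lt.mp h1)
  have hconjQ : ∀ b ∈ A, ∀ x ∈ Q, b * x * b⁻¹ ∈ Q := fun b hb x hx =>
    (Subgroup.mem_normalizer_iff.mp (hQA hb) x).mp hx
  -- dichotomy
  have hdich : ∀ b ∈ A, Cen b Q ∨ Inv b Q := by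
    intro b hb
    let Qp : Subgroup G :=
      { carrier := {x | x ∈ Q ∧ b * x * b⁻¹ = x}
        one_mem' := ⟨Q.one_mem, by simp⟩
        mul_mem' := by
          rintro x y ⟨hx, hx'⟩ ⟨hy, hy'⟩
          refine ⟨Q.mul_mem hx hy, ?_⟩
          have : b * (x * y) * b⁻¹ = (b * x * b⁻¹) * (b * y * b⁻¹) := by group
          rw [this, hx', hy']
        inv_mem' := by
          rintro x ⟨hx, hx'⟩
          refine ⟨Q.inv_mem hx, ?_⟩
          have : b * x⁻¹ * b⁻¹ = (b * x * b⁻¹)⁻¹ := by group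
          rw [this, hx'] }
    have hQpQ : Qp ≤ Q := fun x hx => hx.1
    have hQpA : A ≤ Subgroup.normalizer (Qp : Set G) := by
      apply le_normalizer_of_conj_mem
      rintro c hc x ⟨hx, hx'⟩
      refine ⟨hconjQ c hc x hx, ?_⟩
      have hcb : b * c = c * b := hAc b hb c hc
      have h1 : b * (c * x * c⁻¹) * b⁻¹ = (b * c) * x * (b * c)⁻¹ := by group
      have h2 : c * (b * x * b⁻¹) * c⁻¹ = (c * b) * x * (c * b)⁻¹ := by group
      rw [h1, hcb, ← h2, hx']
    rcases hmin' Qp hQpQ hQpA with h | h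
    · right
      intro x hx
      have hu : x * (b * x * b⁻¹) ∈ Qp := by
        refine ⟨Q.mul_mem hx (hconjQ b hb x hx), ?_⟩
        have h1 : x * (b * x * b⁻¹) = (b * x * b⁻¹) * x :=
          hMc x (hQM hx) _ (hQM (hconjQ b hb x hx))
        have h2 : b * (x * (b * x * b⁻¹)) * b⁻¹ = (b * x * b⁻¹) * ((b * b) * x * (b * b)⁻¹) := by
          group
        rw [h2, hA2 b hb, h1]
        group
      rw [h, Subgroup.mem_bot] at hu
      exact eq_inv_of_mul_eq_one_right hu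
    · left
      intro x hx
      have hx' : x ∈ Qp := h ▸ hx
      exact hx'.2
  refine ⟨Q, hQM, ?_, hQA, ?_, hdich⟩
  · apply prime_card_of_min hQne
    intro K hK
    apply hmin' K hK
    apply le_normalizer_of_conj_mem
    intro c hc x hx
    rcases hdich c hc with h | h
    · rw [h x (hK hx)]; exact hx
    · rw [h x (hK hx)]; exact K.inv_mem hx
  · intro x hx
    exact (hQR hx).2

theorem cen_iff_mem_centralizer {c : G} {Q : Subgroup G} :
    Cen c Q ↔ c ∈ Subgroup.centralizer (Q : Set G) := by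
  rw [Subgroup.mem_centralizer_iff]
  constructor
  · intro h x hx
    exact (mul_inv_eq_iff_eq_mul.mp (h x hx)).symm
  · intro h x hx
    exact mul_inv_eq_iff_eq_mul.mpr (h x hx).symm

/-- `{x | c x c⁻¹ = x}` is a subgroup: if `c` centralizes each `Q i` it centralizes the join. -/
theorem cen_iSup {ι : Type*} {c : G} {Q : ι → Subgroup G} (h : ∀ i, Cen c (Q i)) :
    Cen c (⨆ i, Q i) := by
  have h1 : (⨆ i, Q i) ≤ Subgroup.centralizer {c} := by
    apply iSup_le
    intro i x hx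
    rw [Subgroup.mem_centralizer_singleton_iff]
    exact (mul_inv_eq_iff_eq_mul.mp (h i x hx)).symm
  intro x hx
  have := Subgroup.mem_centralizer_singleton_iff.mp (h1 hx)
  exact mul_inv_eq_iff_eq_mul.mpr this.symm

theorem iSup_cons {k : ℕ} (Q0 : Subgroup G) (Q : Fin k → Subgroup G) :
    (⨆ i, (Fin.cons Q0 Q : Fin (k + 1) → Subgroup G) i) = Q0 ⊔ ⨆ i, Q i := by
  apply le_antisymm
  · apply iSup_le
    intro i
    refine Fin.cases ?_ (fun j => ?_) i
    · simp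
    · simp only [Fin.cons_succ]
      exact (le_iSup Q j).trans le_sup_right
  · apply sup_le
    · exact le_iSup_of_le 0 (by simp)
    · apply iSup_le
      intro j
      exact le_iSup_of_le j.succ (by simp)

/-- The abelian core of the Thompson dihedral lemma. -/
theorem abelian_core (A M : Subgroup G) [Finite M] (hodd : Odd (Nat.card M))
    (hAc : ∀ a ∈ A, ∀ b ∈ A, a * b = b * a) (hA2 : ∀ a ∈ A, a * a = 1)
    (hAM : A ≤ Subgroup.normalizer (M : Set G)) (hMc : ∀ x ∈ M, ∀ y ∈ M, x * y = y * x) :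
    ∀ (k : ℕ) (B : Subgroup G), B ≤ A → Nat.card B = 2 ^ k → (∀ b ∈ B, Cen b M → b = 1) →
    ∃ (b : Fin k → G) (Q : Fin k → Subgroup G),
      (∀ i, b i ∈ B) ∧ Subgroup.closure (Set.range b) = B ∧
      (∀ i, Q i ≤ M ∧ (Nat.card (Q i)).Prime ∧ A ≤ Subgroup.normalizer (Q i : Set G)) ∧
      (∀ i, Inv (b i) (Q i)) ∧ (∀ i j, i ≠ j → Cen (b j) (Q i)) ∧
      (∀ i, ∀ c ∈ A, Cen c (Q i) ∨ Inv c (Q i)) ∧
      (∀ c ∈ B, (∀ i, Cen c (Q i)) → c = 1) ∧
      (∀ ε : Fin k → Bool, ∃ c ∈ B, ∀ i, (ε i = true → Inv c (Q i)) ∧ (ε i = false → Cen c (Q i))) ∧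
      Nat.card (⨆ i, Q i : Subgroup G) = ∏ i, Nat.card (Q i) := by
  classical
  intro k
  induction k with
  | zero =>
    intro B _ hcard _
    have hB : B = ⊥ := Subgroup.card_eq_one.mp (by simpa using hcard)
    refine ⟨Fin.elim0, Fin.elim0, fun i => i.elim0, ?_, fun i => i.elim0, fun i => i.elim0,
      fun i => i.elim0, fun i => i.elim0, ?_, ?_, ?_⟩
    · rw [hB, Set.range_eq_empty, Subgroup.closure_empty]
    · intro c hc _
      rw [hB, Subgroup.mem_bot] at hc; exact hc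
    · intro ε
      exact ⟨1, B.one_mem, fun i => i.elim0⟩
    · simp
  | succ k ih =>
    intro B hBA hcard hfaith
    haveI : Finite B := Nat.finite_of_card_ne_zero (by rw [hcard]; positivity)
    have hBne : B ≠ ⊥ := by
      intro h
      rw [h, Subgroup.card_bot] at hcard
      have : 2 ≤ 2 ^ (k + 1) := by
        calc 2 = 2 ^ 1 := by norm_num
          _ ≤ 2 ^ (k + 1) := Nat.pow_le_pow_right (by norm_num) (by omega)
      omega
    obtain ⟨⟨a, haB⟩, ha1⟩ := (Subgroup.ne_bot_iff_exists_ne_one).mp hBne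
    have ha1' : a ≠ 1 := fun h => ha1 (Subtype.ext h)
    have hna : ¬ Cen a M := fun h => ha1' (hfaith a haB h)
    obtain ⟨Q0, hQ0M, hQ0p, hQ0A, hQ0inv, hQ0d⟩ :=
      exists_min_inverted A M hAc hA2 hAM hMc a (hBA haB) hna
    haveI : Finite Q0 := Finite.of_injective (Subgroup.inclusion hQ0M)
      (Subgroup.inclusion_injective hQ0M)
    have hQ0odd : Odd (Nat.card Q0) := by
      have hdvd : Nat.card Q0 ∣ Nat.card M := Subgroup.card_dvd_of_le hQ0M
      rcases Nat.even_or_odd (Nat.card Q0) with h | h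
      · exfalso
        exact (Nat.not_even_iff_odd.mpr hodd) (h.trans_dvd hdvd)
      · exact h
    have hQ0ne : Q0 ≠ ⊥ := by
      intro h
      rw [h, Subgroup.card_bot] at hQ0p
      exact Nat.not_prime_one hQ0p
    set B0 : Subgroup G := B ⊓ Subgroup.centralizer (Q0 : Set G) with hB0
    have hB0B : B0 ≤ B := inf_le_left
    have hmemB0 : ∀ c, c ∈ B0 ↔ c ∈ B ∧ Cen c Q0 := by
      intro c
      rw [hB0, Subgroup.mem_inf, cen_iff_mem_centralizer]
    have hidx : B0.relIndex B = 2 := by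
      rw [Subgroup.relIndex_eq_two_iff_exists_notMem_and]
      refine ⟨a, haB, ?_, ?_⟩
      · intro h
        exact not_cen_and_inv hQ0odd hQ0ne ((hmemB0 a).mp h).2 hQ0inv
      · intro c hc
        rcases hQ0d c (hBA hc) with h | h
        · exact Or.inr ((hmemB0 c).mpr ⟨hc, h⟩)
        · exact Or.inl ((hmemB0 _).mpr ⟨B.mul_mem hc haB, h.mul_inv hQ0inv⟩)
    have hcard0 : Nat.card B0 = 2 ^ k := by
      have := card_mul_relIndex hB0B
      rw [hidx, hcard, pow_succ] at this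
      exact Nat.eq_of_mul_eq_mul_right (by norm_num) this
    obtain ⟨b, Q, hbB, hcl, hQ, hinv, hcen, hdich, hfaith0, hsurj, hprod⟩ :=
      ih B0 (hB0B.trans hBA) hcard0 (fun c hc h => hfaith c (hB0B hc) h)
    -- the new element
    obtain ⟨c0, hc0, hc0p⟩ := hsurj (fun i => decide (Inv a (Q i)))
    have hc0Q0 : Cen c0 Q0 := ((hmemB0 c0).mp hc0).2
    set bn : G := a * c0 with hbn
    have hbnB : bn ∈ B := B.mul_mem haB (hB0B hc0)
    have hbnQ0 : Inv bn Q0 := hQ0inv.mul_cen hc0Q0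
    have hbnQ : ∀ i, Cen bn (Q i) := by
      intro i
      by_cases h : Inv a (Q i)
      · exact h.mul_inv ((hc0p i).1 (by simpa using h))
      · have h1 : Cen a (Q i) := (hdich i a (hBA haB)).resolve_right h
        exact h1.mul ((hc0p i).2 (by simpa using h))
    refine ⟨Fin.cons bn b, Fin.cons Q0 Q, ?_, ?_, ?_, ?_, ?_, ?_, ?_, ?_, ?_⟩
    · intro i
      refine Fin.cases ?_ (fun j => ?_) i
      · simpa using hbnB
      · simpa using hB0B (hbB j)
    · apply le_antisymm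
      · rw [Subgroup.closure_le]
        rintro _ ⟨i, rfl⟩
        refine Fin.cases ?_ (fun j => ?_) i
        · simpa using hbnB
        · simpa using hB0B (hbB j)
      · have h0 : B0 ≤ Subgroup.closure (Set.range (Fin.cons bn b : Fin (k + 1) → G)) := by
          rw [← hcl]
          apply Subgroup.closure_mono
          rintro _ ⟨j, rfl⟩
          exact ⟨j.succ, by simp⟩
        have h1 : bn ∈ Subgroup.closure (Set.range (Fin.cons bn b : Fin (k + 1) → G)) :=
          Subgroup.subset_closure ⟨0, by simp⟩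
        intro c hc
        rcases hQ0d c (hBA hc) with h | h
        · exact h0 ((hmemB0 c).mpr ⟨hc, h⟩)
        · have h2 : c * bn ∈ B0 := (hmemB0 _).mpr ⟨B.mul_mem hc hbnB, h.mul_inv hbnQ0⟩
          have : c = (c * bn) * bn⁻¹ := by group
          rw [this]
          exact Subgroup.mul_mem _ (h0 h2) (Subgroup.inv_mem _ h1)
    · intro i
      refine Fin.cases ?_ (fun j => ?_) i
      · simpa using ⟨hQ0M, hQ0p, hQ0A⟩
      · simpa using hQ j
    · intro i
      refine Fin.cases ?_ (fun j => ?_) i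
      · simpa using hbnQ0
      · simpa using hinv j
    · intro i j
      refine Fin.cases ?_ (fun i' => ?_) i <;> refine Fin.cases ?_ (fun j' => ?_) j
      · intro h; exact absurd rfl h
      · intro _
        simpa using ((hmemB0 _).mp (hbB j')).2
      · intro _
        simpa using hbnQ i'
      · intro h
        have : i' ≠ j' := fun h' => h (by rw [h'])
        simpa using hcen i' j' this
    · intro i
      refine Fin.cases ?_ (fun j => ?_) i
      · simpa using hQ0d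
      · simpa using hdich j
    · intro c hc h
      have h0 : Cen c Q0 := by simpa using h 0
      apply hfaith0 c ((hmemB0 c).mpr ⟨hc, h0⟩)
      intro i
      simpa using h i.succ
    · intro ε
      obtain ⟨c1, hc1, hc1p⟩ := hsurj (fun i => ε i.succ)
      have hc1Q0 : Cen c1 Q0 := ((hmemB0 c1).mp hc1).2
      by_cases h0 : ε 0 = true
      · refine ⟨bn * c1, B.mul_mem hbnB (hB0B hc1), ?_⟩
        intro i
        refine Fin.cases ?_ (fun j => ?_) i
        · simp only [Fin.cons_zero]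
          exact ⟨fun _ => hbnQ0.mul_cen hc1Q0, fun h => absurd h0 (by simp [h])⟩
        · simp only [Fin.cons_succ]
          exact ⟨fun h => (hbnQ j).mul_inv ((hc1p j).1 h), fun h => (hbnQ j).mul ((hc1p j).2 h)⟩
      · refine ⟨c1, hB0B hc1, ?_⟩
        intro i
        refine Fin.cases ?_ (fun j => ?_) i
        · simp only [Fin.cons_zero]
          exact ⟨fun h => absurd h h0, fun _ => hc1Q0⟩
        · simp only [Fin.cons_succ]
          exact hc1p j
    · rw [iSup_cons, Fin.prod_univ_succ]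
      simp only [Fin.cons_zero, Fin.cons_succ]
      rw [← hprod]
      have hPM : (⨆ i, Q i) ≤ M := iSup_le (fun i => (hQ i).1)
      have hnorm : Q0 ≤ Subgroup.normalizer ((⨆ i, Q i : Subgroup G) : Set G) := by
        refine le_trans ?_ (Subgroup.centralizer_le_normalizer _)
        intro x hx
        rw [Subgroup.mem_centralizer_iff]
        intro y hy
        exact hMc y (hPM hy) x (hQ0M hx)
      have hinf : Q0 ⊓ (⨆ i, Q i) = ⊥ := by
        rw [eq_bot_iff]
        rintro x ⟨hx0, hxP⟩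
        rw [Subgroup.mem_bot]
        have h1 := hbnQ0 x hx0
        have h2 := cen_iSup hbnQ x hxP
        have h3 : x = x⁻¹ := h2.symm.trans h1
        have h4 : x * x = 1 := by
          nth_rewrite 2 [h3]
          exact mul_inv_cancel x
        exact eq_one_of_sq_of_odd hQ0odd hx0 h4
      have := card_sup_mul_card_inf Q0 (⨆ i, Q i) hnorm
      rw [hinf, Subgroup.card_bot, mul_one] at this
      exact this

/-- Nilpotent step: in a nilpotent group `F`, a normal subgroup `C` not contained in `M` has an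
element outside `M` whose commutators with `F` lie in `M` (when `C ∩ Z_i(F) ≤ M` first fails). -/
theorem exists_comm_mem_of_nilpotent (F M C : Subgroup G) (hF : Group.IsNilpotent ↥F)
    (hCF : C ≤ F) (hCn : ∀ f ∈ F, ∀ x ∈ C, f * x * f⁻¹ ∈ C) (hnot : ¬ C ≤ M) :
    ∃ x ∈ C, x ∉ M ∧ ∀ f ∈ F, x * f * x⁻¹ * f⁻¹ ∈ M := by
  classical
  obtain ⟨n, hn⟩ := hF.nilpotent'
  let Z : ℕ → Subgroup G := fun i => (Subgroup.upperCentralSeries ↥F i).map F.subtype
  have hP : ∃ i, ¬ (C ⊓ Z i ≤ M) := by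
    refine ⟨n, fun h => hnot ?_⟩
    intro x hx
    apply h
    refine ⟨hx, ⟨⟨x, hCF hx⟩, ?_, rfl⟩⟩
    rw [hn]; exact Subgroup.mem_top _
  let i := Nat.find hP
  have hi : ¬ (C ⊓ Z i ≤ M) := Nat.find_spec hP
  have hi0 : i ≠ 0 := by
    intro h0
    apply hi
    rw [h0]
    rintro x ⟨_, ⟨y, hy, rfl⟩⟩
    simp only [Subgroup.upperCentralSeries_zero] at hy
    rw [hy]; simp
  obtain ⟨j, hj⟩ := Nat.exists_eq_succ_of_ne_zero hi0
  have hjM : C ⊓ Z j ≤ M := by
    by_contra h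
    have := Nat.find_min' hP h
    omega
  rw [SetLike.not_le_iff_exists] at hi
  obtain ⟨x, ⟨hxC, ⟨y, hy, hyx⟩⟩, hxM⟩ := hi
  refine ⟨x, hxC, hxM, fun f hf => hjM ⟨?_, ?_⟩⟩
  · have : x * f * x⁻¹ * f⁻¹ = x * (f * x⁻¹ * f⁻¹) := by group
    rw [this]
    exact C.mul_mem hxC (hCn f hf _ (C.inv_mem hxC))
  · rw [hj] at hy
    have := (Subgroup.mem_upperCentralSeries_succ_iff.mp hy) ⟨f, hf⟩
    refine ⟨_, this, ?_⟩
    rw [commutatorElement_def]
    simp only [Subgroup.subtype_apply, Subgroup.coe_mul, Subgroup.coe_inv]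
    rw [← hyx]; rfl

/-- Relative eigenvector: `A` (elementary abelian 2-group) acting on `U/M` abelian, `M < U`:
there is `w ∈ U ∖ M` such that every `a ∈ A` fixes or inverts `w` modulo `M`. -/
theorem exists_eigen_mod (A M U : Subgroup G) [Finite U]
    (hAc : ∀ a ∈ A, ∀ b ∈ A, a * b = b * a) (hA2 : ∀ a ∈ A, a * a = 1)
    (hMU : M ≤ U) (hne : ¬ U ≤ M)
    (hMn : ∀ u ∈ U, ∀ m ∈ M, u * m * u⁻¹ ∈ M)
    (hcomm : ∀ x ∈ U, ∀ y ∈ U, x * y * x⁻¹ * y⁻¹ ∈ M)
    (hAMn : ∀ a ∈ A, ∀ m ∈ M, a * m * a⁻¹ ∈ M) (hAU : ∀ a ∈ A, ∀ u ∈ U, a * u * a⁻¹ ∈ U) :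
    ∃ w ∈ U, w ∉ M ∧ ∀ a ∈ A, (a * w * a⁻¹ * w⁻¹ ∈ M ∨ w * (a * w * a⁻¹) ∈ M) := by
  classical
  let 𝒮 : Set (Subgroup G) := {W | M ≤ W ∧ W ≤ U ∧ ¬ W ≤ M ∧ ∀ a ∈ A, ∀ x ∈ W, a * x * a⁻¹ ∈ W}
  have hne' : 𝒮.Nonempty := ⟨U, hMU, le_rfl, hne, hAU⟩
  obtain ⟨W, ⟨hMW, hWU, hWM, hWA⟩, hWmin⟩ :=
    (measure (fun K : Subgroup G => Nat.card K)).wf.has_min 𝒮 hne'
  haveI : Finite W := Finite.of_injective (Subgroup.inclusion hWU) (Subgroup.inclusion_injective hWU)
  rw [SetLike.not_le_iff_exists] at hWM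
  obtain ⟨w, hwW, hwM⟩ := hWM
  refine ⟨w, hWU hwW, hwM, fun a ha => ?_⟩
  let Wp : Subgroup G :=
    { carrier := {x | x ∈ W ∧ a * x * a⁻¹ * x⁻¹ ∈ M}
      one_mem' := ⟨W.one_mem, by simp⟩
      mul_mem' := by
        rintro x y ⟨hx, hx'⟩ ⟨hy, hy'⟩
        refine ⟨W.mul_mem hx hy, ?_⟩
        have : a * (x * y) * a⁻¹ * (x * y)⁻¹ =
            (a * x * a⁻¹ * x⁻¹) * (x * (a * y * a⁻¹ * y⁻¹) * x⁻¹) := by group
        rw [this]
        exact M.mul_mem hx' (hMn x (hWU hx) _ hy')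
      inv_mem' := by
        rintro x ⟨hx, hx'⟩
        refine ⟨W.inv_mem hx, ?_⟩
        have : a * x⁻¹ * a⁻¹ * x⁻¹⁻¹ = x⁻¹ * (a * x * a⁻¹ * x⁻¹)⁻¹ * x⁻¹⁻¹ := by group
        rw [this]
        exact hMn x⁻¹ (U.inv_mem (hWU hx)) _ (M.inv_mem hx') }
  have hWpW : Wp ≤ W := fun x hx => hx.1
  have hMWp : M ≤ Wp := fun x hx =>
    ⟨hMW hx, M.mul_mem (hAMn a ha x hx) (M.inv_mem hx)⟩
  have hWpA : ∀ c ∈ A, ∀ x ∈ Wp, c * x * c⁻¹ ∈ Wp := by
    rintro c hc x ⟨hx, hx'⟩
    refine ⟨hWA c hc x hx, ?_⟩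
    have hac : a * c = c * a := hAc a ha c hc
    have h1 : a * (c * x * c⁻¹) * a⁻¹ * (c * x * c⁻¹)⁻¹ =
        (a * c) * x * (a * c)⁻¹ * c * x⁻¹ * c⁻¹ := by group
    have h2 : c * (a * x * a⁻¹ * x⁻¹) * c⁻¹ = (c * a) * x * (c * a)⁻¹ * c * x⁻¹ * c⁻¹ := by group
    rw [h1, hac, ← h2]
    exact hAMn c hc _ hx'
  by_cases hWpM : Wp ≤ M
  · right
    have hy : a * w * a⁻¹ ∈ W := hWA a ha w hwW
    have hmem : w * (a * w * a⁻¹) ∈ Wp := by
      refine ⟨W.mul_mem hwW hy, ?_⟩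
      have h1 : a * (w * (a * w * a⁻¹)) * a⁻¹ * (w * (a * w * a⁻¹))⁻¹ =
          (a * w * a⁻¹) * ((a * a) * w * (a * a)⁻¹) * (a * w * a⁻¹)⁻¹ * w⁻¹ := by group
      rw [h1, hA2 a ha]
      simp only [one_mul, inv_one, mul_one]
      exact hcomm _ (hWU hy) _ (hWU hwW)
    exact hWpM hmem
  · left
    have h1 := hWmin Wp ⟨hMWp, hWpW.trans hWU, hWpM, hWpA⟩
    have h2 : Wp = W := Subgroup.eq_of_le_of_card_ge hWpW (not_lt.mp h1)
    have : w ∈ Wp := h2 ▸ hwW
    exact this.2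

theorem conj_mem_sup_zpowers {M : Subgroup G} {w c : G}
    (hM : ∀ m ∈ M, c * m * c⁻¹ ∈ M ⊔ Subgroup.zpowers w)
    (hw : c * w * c⁻¹ ∈ M ⊔ Subgroup.zpowers w) :
    ∀ x ∈ M ⊔ Subgroup.zpowers w, c * x * c⁻¹ ∈ M ⊔ Subgroup.zpowers w := by
  intro x hx
  rw [Subgroup.sup_eq_closure] at hx
  induction hx using Subgroup.closure_induction with
  | mem x hx =>
    rcases hx with hx | hx
    · exact hM x hx
    · obtain ⟨n, rfl⟩ := Subgroup.mem_zpowers_iff.mp hx
      have : c * w ^ n * c⁻¹ = (c * w * c⁻¹) ^ n := (conj_zpow).symm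
      rw [this]
      exact Subgroup.zpow_mem _ hw n
  | one => simp
  | mul a b _ _ iha ihb =>
    have : c * (a * b) * c⁻¹ = (c * a * c⁻¹) * (c * b * c⁻¹) := by group
    rw [this]; exact Subgroup.mul_mem _ iha ihb
  | inv a _ iha =>
    have : c * a⁻¹ * c⁻¹ = (c * a * c⁻¹)⁻¹ := by group
    rw [this]; exact Subgroup.inv_mem _ iha

/-- If `M` is abelian and `w` centralizes `M`, then `M ⊔ ⟨w⟩` is abelian. -/
theorem comm_sup_zpowers {M : Subgroup G} {w : G} (hMc : ∀ x ∈ M, ∀ y ∈ M, x * y = y * x)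
    (hw : ∀ m ∈ M, m * w = w * m) :
    ∀ x ∈ M ⊔ Subgroup.zpowers w, ∀ y ∈ M ⊔ Subgroup.zpowers w, x * y = y * x := by
  have h1 : M ⊔ Subgroup.zpowers w ≤ Subgroup.centralizer (M : Set G) := by
    apply sup_le
    · intro x hx
      rw [Subgroup.mem_centralizer_iff]
      intro m hm
      exact hMc m hm x hx
    · rw [Subgroup.zpowers_le, Subgroup.mem_centralizer_iff]
      exact hw
  have h2 : M ⊔ Subgroup.zpowers w ≤ Subgroup.centralizer {w} := by
    apply sup_le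
    · intro x hx
      rw [Subgroup.mem_centralizer_singleton_iff]
      exact hw x hx
    · rw [Subgroup.zpowers_le, Subgroup.mem_centralizer_singleton_iff]
  intro x hx
  have h3 : M ⊔ Subgroup.zpowers w ≤ Subgroup.centralizer {x} := by
    apply sup_le
    · intro m hm
      rw [Subgroup.mem_centralizer_singleton_iff]
      exact (Subgroup.mem_centralizer_iff.mp (h1 hx)) m hm
    · rw [Subgroup.zpowers_le, Subgroup.mem_centralizer_singleton_iff]
      exact (Subgroup.mem_centralizer_singleton_iff.mp (h2 hx)).symm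
  intro y hy
  exact (Subgroup.mem_centralizer_singleton_iff.mp (h3 hy)).symm

/-- An involution centralizing a self-centralizing normal subgroup `M` of the odd-order group `F`
centralizes `F`. -/
theorem cen_of_cen_selfcentralizing (F M : Subgroup G) [Finite F] (hodd : Odd (Nat.card F))
    (hFM : ∀ f ∈ F, ∀ m ∈ M, f * m * f⁻¹ ∈ M)
    (hC : F ⊓ Subgroup.centralizer (M : Set G) ≤ M) (b : G) (hb2 : b * b = 1)
    (hbF : ∀ f ∈ F, b * f * b⁻¹ ∈ F) (hbM : Cen b M) : Cen b F := by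
  intro f hf
  set m : G := f⁻¹ * (b * f * b⁻¹) with hm
  have hmF : m ∈ F := F.mul_mem (F.inv_mem hf) (hbF f hf)
  have hbf : b * f * b⁻¹ = f * m := by rw [hm]; group
  have hmC : m ∈ Subgroup.centralizer (M : Set G) := by
    rw [Subgroup.mem_centralizer_iff]
    intro x hx
    have hy : f * x * f⁻¹ ∈ M := hFM f hf x hx
    have h1 : b * (f * x * f⁻¹) * b⁻¹ = f * x * f⁻¹ := hbM _ hy
    have h2 : b * (f * x * f⁻¹) * b⁻¹ = (b * f * b⁻¹) * (b * x * b⁻¹) * (b * f * b⁻¹)⁻¹ := by group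
    rw [h2, hbf, hbM x hx] at h1
    have h3 : x = m * x * m⁻¹ := by
      have : m * x * m⁻¹ = f⁻¹ * (f * m * x * (f * m)⁻¹) * f := by group
      rw [this, h1]; group
    calc x * m = (m * x * m⁻¹) * m := by rw [← h3]
      _ = m * x := by group
  have hmM : m ∈ M := hC ⟨hmF, hmC⟩
  have hbm : b * m * b⁻¹ = m := hbM m hmM
  have h4 : f = f * m * m := by
    have h5 : b * (b * f * b⁻¹) * b⁻¹ = f := by
      have : b * (b * f * b⁻¹) * b⁻¹ = (b * b) * f * (b * b)⁻¹ := by group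
      rw [this, hb2]; simp
    have h6 : b * (f * m) * b⁻¹ = (b * f * b⁻¹) * (b * m * b⁻¹) := by group
    rw [hbf, h6, hbf, hbm] at h5
    exact h5.symm
  have h7 : m * m = 1 := by
    have : f * (m * m) = f * 1 := by rw [mul_one, ← mul_assoc]; exact h4.symm
    exact mul_left_cancel this
  have h8 : m = 1 := eq_one_of_sq_of_odd hodd hmF h7
  rw [hbf, h8, mul_one]

/-- In a nilpotent group `F` of odd order acted on by an elementary abelian 2-group `A`, there is an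
`A`-invariant abelian normal subgroup `M` of `F` with `C_F(M) ≤ M`. -/
theorem exists_selfcentralizing_abelian (A F : Subgroup G) [Finite F]
    (hF : Group.IsNilpotent ↥F)
    (hAc : ∀ a ∈ A, ∀ b ∈ A, a * b = b * a) (hA2 : ∀ a ∈ A, a * a = 1)
    (hAF : ∀ a ∈ A, ∀ f ∈ F, a * f * a⁻¹ ∈ F) :
    ∃ M : Subgroup G, M ≤ F ∧ (∀ x ∈ M, ∀ y ∈ M, x * y = y * x) ∧
      (∀ f ∈ F, ∀ m ∈ M, f * m * f⁻¹ ∈ M) ∧ (∀ a ∈ A, ∀ m ∈ M, a * m * a⁻¹ ∈ M) ∧
      F ⊓ Subgroup.centralizer (M : Set G) ≤ M := by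
  classical
  let 𝓜 : Set (Subgroup G) := {M | M ≤ F ∧ (∀ x ∈ M, ∀ y ∈ M, x * y = y * x) ∧
      (∀ f ∈ F, ∀ m ∈ M, f * m * f⁻¹ ∈ M) ∧ (∀ a ∈ A, ∀ m ∈ M, a * m * a⁻¹ ∈ M)}
  have hne : 𝓜.Nonempty := by
    refine ⟨⊥, bot_le, ?_, ?_, ?_⟩
    · intro x hx y hy
      rw [Subgroup.mem_bot] at hx hy; rw [hx, hy]
    · intro f _ m hm
      rw [Subgroup.mem_bot] at hm ⊢; rw [hm]; group
    · intro a _ m hm
      rw [Subgroup.mem_bot] at hm ⊢; rw [hm]; group
  obtain ⟨M, ⟨hMF, hMc, hMFn, hMA⟩, hMmax⟩ :=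
    (measure (fun K : Subgroup G => Nat.card F - Nat.card K)).wf.has_min 𝓜 hne
  refine ⟨M, hMF, hMc, hMFn, hMA, ?_⟩
  by_contra hnot
  set C : Subgroup G := F ⊓ Subgroup.centralizer (M : Set G) with hC
  have hCF : C ≤ F := inf_le_left
  have hMC : M ≤ C := by
    intro x hx
    refine Subgroup.mem_inf.mpr ⟨hMF hx, ?_⟩
    rw [Subgroup.mem_centralizer_iff]
    intro m hm
    exact hMc m hm x hx
  -- C is invariant under any `c` normalizing both `F` and `M`
  have hCinv : ∀ c : G, (∀ f ∈ F, c * f * c⁻¹ ∈ F) → (∀ m ∈ M, c⁻¹ * m * c⁻¹⁻¹ ∈ M) →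
      ∀ x ∈ C, c * x * c⁻¹ ∈ C := by
    intro c hcF hcM x hx
    refine Subgroup.mem_inf.mpr ⟨hcF x (Subgroup.mem_inf.mp hx).1, ?_⟩
    rw [Subgroup.mem_centralizer_iff]
    intro m hm
    have h1 := (Subgroup.mem_centralizer_iff.mp (Subgroup.mem_inf.mp hx).2) _ (hcM m hm)
    have h2 : m * (c * x * c⁻¹) = c * ((c⁻¹ * m * c⁻¹⁻¹) * x) * c⁻¹ := by group
    have h3 : c * x * c⁻¹ * m = c * (x * (c⁻¹ * m * c⁻¹⁻¹)) * c⁻¹ := by group
    rw [h2, h3, h1]
  have hCn : ∀ f ∈ F, ∀ x ∈ C, f * x * f⁻¹ ∈ C := fun f hf =>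
    hCinv f (fun g hg => F.mul_mem (F.mul_mem hf hg) (F.inv_mem hf))
      (fun m hm => hMFn f⁻¹ (F.inv_mem hf) m hm)
  have hCA : ∀ a ∈ A, ∀ x ∈ C, a * x * a⁻¹ ∈ C := fun a ha =>
    hCinv a (hAF a ha) (fun m hm => hMA a⁻¹ (A.inv_mem ha) m hm)
  obtain ⟨x0, hx0C, hx0M, hx0⟩ := exists_comm_mem_of_nilpotent F M C hF hCF hCn hnot
  -- the subgroup U of elements of C central modulo M
  let U : Subgroup G :=
    { carrier := {x | x ∈ C ∧ ∀ f ∈ F, x * f * x⁻¹ * f⁻¹ ∈ M}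
      one_mem' := ⟨C.one_mem, fun f _ => by simp⟩
      mul_mem' := by
        rintro x y ⟨hx, hx'⟩ ⟨hy, hy'⟩
        refine ⟨C.mul_mem hx hy, fun f hf => ?_⟩
        have : x * y * f * (x * y)⁻¹ * f⁻¹ = x * (y * f * y⁻¹ * f⁻¹) * x⁻¹ * (x * f * x⁻¹ * f⁻¹) := by
          group
        rw [this]
        exact M.mul_mem (hMFn x (hCF hx) _ (hy' f hf)) (hx' f hf)
      inv_mem' := by
        rintro x ⟨hx, hx'⟩
        refine ⟨C.inv_mem hx, fun f hf => ?_⟩
        have : x⁻¹ * f * x⁻¹⁻¹ * f⁻¹ = x⁻¹ * (x * f * x⁻¹ * f⁻¹)⁻¹ * x⁻¹⁻¹ := by group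
        rw [this]
        exact hMFn x⁻¹ (F.inv_mem (hCF hx)) _ (M.inv_mem (hx' f hf)) }
  have hUC : U ≤ C := fun x hx => hx.1
  have hUF : U ≤ F := hUC.trans hCF
  have hMU : M ≤ U := by
    intro x hx
    refine ⟨hMC hx, fun f hf => ?_⟩
    have : x * f * x⁻¹ * f⁻¹ = x * (f * x⁻¹ * f⁻¹) := by group
    rw [this]
    exact M.mul_mem hx (hMFn f hf _ (M.inv_mem hx))
  have hUM : ¬ U ≤ M := fun h => hx0M (h ⟨hx0C, hx0⟩)
  haveI : Finite U := Finite.of_injective (Subgroup.inclusion hUF) (Subgroup.inclusion_injective hUF)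
  have hAU : ∀ a ∈ A, ∀ u ∈ U, a * u * a⁻¹ ∈ U := by
    rintro a ha u ⟨hu, hu'⟩
    refine ⟨hCA a ha u hu, fun f hf => ?_⟩
    have hf' : a⁻¹ * f * a⁻¹⁻¹ ∈ F := hAF a⁻¹ (A.inv_mem ha) f hf
    have : a * u * a⁻¹ * f * (a * u * a⁻¹)⁻¹ * f⁻¹ =
        a * (u * (a⁻¹ * f * a⁻¹⁻¹) * u⁻¹ * (a⁻¹ * f * a⁻¹⁻¹)⁻¹) * a⁻¹ := by group
    rw [this]
    exact hMA a ha _ (hu' _ hf')
  obtain ⟨w, hwU, hwM, hwA⟩ := exists_eigen_mod A M U hAc hA2 hMU hUM
    (fun u hu m hm => hMFn u (hUF hu) m hm)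
    (fun x hx y hy => hx.2 y (hUF hy)) hMA hAU
  -- the bigger subgroup
  set W : Subgroup G := M ⊔ Subgroup.zpowers w with hW
  have hwW : w ∈ W := (le_sup_right : Subgroup.zpowers w ≤ W) (Subgroup.mem_zpowers w)
  have hWF : W ≤ F := sup_le hMF (by rw [Subgroup.zpowers_le]; exact hUF hwU)
  have hWmem : W ∈ 𝓜 := by
    refine ⟨hWF, ?_, ?_, ?_⟩
    · apply comm_sup_zpowers hMc
      intro m hm
      exact (Subgroup.mem_centralizer_iff.mp (Subgroup.mem_inf.mp (hUC hwU)).2) m hm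
    · intro f hf
      apply conj_mem_sup_zpowers
      · intro m hm
        exact (le_sup_left : M ≤ W) (hMFn f hf m hm)
      · have h1 : w * f⁻¹ * w⁻¹ * f⁻¹⁻¹ ∈ M := hwU.2 f⁻¹ (F.inv_mem hf)
        have h2 : f * w * f⁻¹ = f * (w * f⁻¹ * w⁻¹ * f⁻¹⁻¹) * f⁻¹ * w := by group
        rw [h2]
        exact W.mul_mem ((le_sup_left : M ≤ W) (hMFn f hf _ h1)) hwW
    · intro a ha
      apply conj_mem_sup_zpowers
      · intro m hm
        exact (le_sup_left : M ≤ W) (hMA a ha m hm)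
      · rcases hwA a ha with h | h
        · have h2 : a * w * a⁻¹ = (a * w * a⁻¹ * w⁻¹) * w := by group
          rw [h2]
          exact W.mul_mem ((le_sup_left : M ≤ W) h) hwW
        · have h2 : a * w * a⁻¹ = w⁻¹ * (w * (a * w * a⁻¹)) := by group
          rw [h2]
          exact W.mul_mem (W.inv_mem hwW) ((le_sup_left : M ≤ W) h)
  have h1 := hMmax W hWmem
  have hle : Nat.card W ≤ Nat.card F := Subgroup.card_le_of_le hWF
  have hle' : Nat.card M ≤ Nat.card F := Subgroup.card_le_of_le hMF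
  have h2 : Nat.card W ≤ Nat.card M := by
    by_contra h
    apply h1
    show Nat.card F - Nat.card W < Nat.card F - Nat.card M
    omega
  haveI : Finite W := Finite.of_injective (Subgroup.inclusion hWF) (Subgroup.inclusion_injective hWF)
  have h3 : M = W := Subgroup.eq_of_le_of_card_ge le_sup_left h2
  exact hwM (h3 ▸ hwW)

/-- **Thompson dihedral lemma**, nilpotent core: an elementary abelian 2-group `A` normalizing a
nilpotent group `F` of odd order; `B ≤ A` of order `2 ^ k` acting faithfully on `F`. -/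
theorem nilpotent_core (A F : Subgroup G) [Finite F] (hodd : Odd (Nat.card F))
    (hF : Group.IsNilpotent ↥F)
    (hAc : ∀ a ∈ A, ∀ b ∈ A, a * b = b * a) (hA2 : ∀ a ∈ A, a * a = 1)
    (hAF : A ≤ Subgroup.normalizer (F : Set G)) :
    ∀ (k : ℕ) (B : Subgroup G), B ≤ A → Nat.card B = 2 ^ k → (∀ b ∈ B, Cen b F → b = 1) →
    ∃ (b : Fin k → G) (Q : Fin k → Subgroup G),
      (∀ i, b i ∈ B) ∧ Subgroup.closure (Set.range b) = B ∧
      (∀ i, Q i ≤ F ∧ (Nat.card (Q i)).Prime ∧ A ≤ Subgroup.normalizer (Q i : Set G)) ∧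
      (∀ i, Inv (b i) (Q i)) ∧ (∀ i j, i ≠ j → Cen (b j) (Q i)) ∧
      (∀ i, ∀ c ∈ A, Cen c (Q i) ∨ Inv c (Q i)) ∧
      (∀ c ∈ B, (∀ i, Cen c (Q i)) → c = 1) ∧
      (∀ i j, i ≠ j → ∀ x ∈ Q i, ∀ y ∈ Q j, x * y = y * x) ∧
      Nat.card (⨆ i, Q i : Subgroup G) = ∏ i, Nat.card (Q i) := by
  have hAF' : ∀ a ∈ A, ∀ f ∈ F, a * f * a⁻¹ ∈ F := fun a ha f hf =>
    (Subgroup.mem_normalizer_iff.mp (hAF ha) f).mp hf
  obtain ⟨M, hMF, hMc, hMFn, hMA, hMC⟩ := exists_selfcentralizing_abelian A F hF hAc hA2 hAF'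
  haveI : Finite M := Finite.of_injective (Subgroup.inclusion hMF) (Subgroup.inclusion_injective hMF)
  have hMo : Odd (Nat.card M) := by
    have hdvd : Nat.card M ∣ Nat.card F := Subgroup.card_dvd_of_le hMF
    rcases Nat.even_or_odd (Nat.card M) with h | h
    · exact absurd (h.trans_dvd hdvd) (Nat.not_even_iff_odd.mpr hodd)
    · exact h
  intro k B hBA hcard hfaith
  obtain ⟨b, Q, h1, h2, h3, h4, h5, h6, h7, _, h9⟩ :=
    abelian_core A M hMo hAc hA2 (le_normalizer_of_conj_mem hMA) hMc k B hBA hcard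
      (fun c hc hcM => hfaith c hc
        (cen_of_cen_selfcentralizing F M hodd hMFn hMC c (hA2 c (hBA hc)) (hAF' c (hBA hc)) hcM))
  refine ⟨b, Q, h1, h2, fun i => ⟨(h3 i).1.trans hMF, (h3 i).2⟩, h4, h5, h6, h7, ?_, h9⟩
  intro i j _ x hx y hy
  exact hMc x ((h3 i).1 hx) y ((h3 j).1 hy)

end Cfsg.Agent.Lib.Helper19.DihedralLemma
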