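import Mathlib
import Cfsg.Agent.Lib.Helper19.DihedralLemma
import Cfsg.Agent.S0044
import Cfsg.Agent.Lib.Helper1.Fitting
import Cfsg.Agent.Lib.Helper8.FittingSub
import Cfsg.Agent.Lib.Helper14.DihedralCrit

set_option autoImplicit false
open Pointwise

namespace Cfsg.Agent.Lib.Helper19.DihedralLemma
universe u
variable {G : Type u} [Group G]

open Cfsg.Agent.Lib.Helper4

/-- Conjugation by a normalizing element as an automorphism of the subgroup. -/
def conjEquiv (L : Subgroup G) (a : G) (ha : a ∈ Subgroup.normalizer (L : Set G)) : ↥L ≃* ↥L where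
  toFun x := ⟨a * x * a⁻¹, (Subgroup.mem_normalizer_iff.mp ha x).mp x.2⟩
  invFun x := ⟨a⁻¹ * x * a, by
    have := (Subgroup.mem_normalizer_iff.mp ha (a⁻¹ * x * a)).mpr (by
      have : a * (a⁻¹ * ↑x * a) * a⁻¹ = x := by group
      rw [this]; exact x.2)
    exact this⟩
  left_inv x := by
    apply Subtype.ext
    show a⁻¹ * (a * (x : G) * a⁻¹) * a = x
    group
  right_inv x := by
    apply Subtype.ext
    show a * (a⁻¹ * (x : G) * a) * a⁻¹ = x
    group
  map_mul' x y := by
    apply Subtype.ext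
    show a * ((x : G) * y) * a⁻¹ = (a * x * a⁻¹) * (a * y * a⁻¹)
    group

/-- The Fitting subgroup of `L`, viewed in `G`, is invariant under the normalizer of `L`. -/
theorem conj_mem_fitting_map (L : Subgroup G) (a : G) (ha : a ∈ Subgroup.normalizer (L : Set G))
    (f : G) (hf : f ∈ (Cfsg.fittingSubgroup ↥L).map L.subtype) :
    a * f * a⁻¹ ∈ (Cfsg.fittingSubgroup ↥L).map L.subtype := by
  obtain ⟨y, hy, rfl⟩ := hf
  have h1 := Cfsg.Agent.Lib.Helper8.fittingSubgroup_map_equiv (conjEquiv L a ha)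
  have h2 : (conjEquiv L a ha) y ∈ Cfsg.fittingSubgroup ↥L := by
    rw [← h1]; exact Subgroup.mem_map_of_mem _ hy
  exact ⟨_, h2, rfl⟩


/-- **Thompson dihedral lemma** (statement form of S1349). -/
theorem thompson_dihedral [Finite G] (L A : Subgroup G) (hLs : Group.IsSolvable ↥L)
    (hLodd : Odd (Nat.card ↥L)) (hA : Cfsg.IsElementaryAbelian 2 A) (d : ℕ)
    (hAd : Nat.card ↥A = 2 ^ d) (hAL : A ≤ Subgroup.normalizer (L : Set G))
    (hfaith : A ⊓ Subgroup.centralizer (L : Set G) = ⊥) :
    ∃ (Ai : Fin d → Subgroup G) (Li : Fin d → Subgroup G) (n : Fin d → ℕ),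
      (∀ i, Ai i ≤ A ∧ Nat.card ↥(Ai i) = 2 ∧ Li i ≤ L ∧ Odd (n i) ∧ 3 ≤ n i ∧
        Nonempty (↥(Ai i ⊔ Li i) ≃* DihedralGroup (n i))) ∧
      (⨆ i, Ai i) = A ∧
      ∀ i j, i ≠ j → ∀ x ∈ Ai i ⊔ Li i, ∀ y ∈ Ai j ⊔ Li j, x * y = y * x := by
  classical
  set F : Subgroup G := (Cfsg.fittingSubgroup ↥L).map L.subtype with hFdef
  have hFL : F ≤ L := Subgroup.map_subtype_le _
  have hFodd : Odd (Nat.card F) := by
    have hdvd : Nat.card F ∣ Nat.card L := Subgroup.card_dvd_of_le hFL
    rcases Nat.even_or_odd (Nat.card F) with h | h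
    · exact absurd (h.trans_dvd hdvd) (Nat.not_even_iff_odd.mpr hLodd)
    · exact h
  have hFnil : Group.IsNilpotent ↥F := by
    haveI := Cfsg.Agent.Lib.Helper1.fittingSubgroup_isNilpotent ↥L
    exact Group.nilpotent_of_mulEquiv
      ((Cfsg.fittingSubgroup ↥L).equivMapOfInjective L.subtype (Subgroup.subtype_injective L))
  have hAc : ∀ a ∈ A, ∀ b ∈ A, a * b = b * a := by
    intro a ha b hb
    have := hA.1.is_comm.comm (⟨a, ha⟩ : ↥A) ⟨b, hb⟩
    exact congrArg Subtype.val this
  have hA2 : ∀ a ∈ A, a * a = 1 := fun a ha => by rw [← pow_two]; exact hA.2 a ha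
  have hAF : A ≤ Subgroup.normalizer (F : Set G) :=
    le_normalizer_of_conj_mem (fun a ha f hf => conj_mem_fitting_map L a (hAL ha) f hf)
  -- F is normal in L and self-centralizing in L
  have hFn : ∀ l ∈ L, ∀ m ∈ F, l * m * l⁻¹ ∈ F := fun l hl m hm =>
    conj_mem_fitting_map L l (Subgroup.le_normalizer hl) m hm
  have hCF : L ⊓ Subgroup.centralizer (F : Set G) ≤ F := by
    intro x hx
    have hxL : x ∈ L := (Subgroup.mem_inf.mp hx).1
    have hxC := Subgroup.mem_centralizer_iff.mp (Subgroup.mem_inf.mp hx).2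
    have h1 : (⟨x, hxL⟩ : ↥L) ∈ Subgroup.centralizer (Cfsg.fittingSubgroup ↥L : Set ↥L) := by
      rw [Subgroup.mem_centralizer_iff]
      intro y hy
      apply Subtype.ext
      exact hxC (y : G) ⟨y, hy, rfl⟩
    exact ⟨⟨x, hxL⟩, Cfsg.Agent.S0044.result h1, rfl⟩
  have hfaith' : ∀ b ∈ A, Cen b F → b = 1 := by
    intro b hb hcen
    have h1 : Cen b L := cen_of_cen_selfcentralizing L F hLodd hFn hCF b (hA2 b hb)
      (fun f hf => (Subgroup.mem_normalizer_iff.mp (hAL hb) f).mp hf) hcen
    have h2 : b ∈ A ⊓ Subgroup.centralizer (L : Set G) :=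
      Subgroup.mem_inf.mpr ⟨hb, cen_iff_mem_centralizer.mp h1⟩
    rw [hfaith, Subgroup.mem_bot] at h2
    exact h2
  obtain ⟨b, Q, hbA, hcl, hQ, hinv, hcen, _, _, hQcomm, _⟩ :=
    nilpotent_core A F hFodd hFnil hAc hA2 hAF d A le_rfl hAd hfaith'
  have hQfin : ∀ i, Finite (Q i) := fun i => inferInstance
  have hQodd : ∀ i, Odd (Nat.card (Q i)) := by
    intro i
    have hdvd : Nat.card (Q i) ∣ Nat.card L := Subgroup.card_dvd_of_le ((hQ i).1.trans hFL)
    rcases Nat.even_or_odd (Nat.card (Q i)) with h | h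
    · exact absurd (h.trans_dvd hdvd) (Nat.not_even_iff_odd.mpr hLodd)
    · exact h
  have hQne : ∀ i, Q i ≠ ⊥ := by
    intro i h
    have := (hQ i).2.1
    rw [h, Subgroup.card_bot] at this
    exact Nat.not_prime_one this
  have hb1 : ∀ i, b i ≠ 1 := by
    intro i h
    exact not_cen_and_inv (hQodd i) (hQne i) (h ▸ cen_one (Q i)) (hinv i)
  have hbord : ∀ i, orderOf (b i) = 2 := by
    intro i
    apply orderOf_eq_prime
    · rw [pow_two]; exact hA2 _ (hbA i)
    · exact hb1 i
  have hbinv : ∀ i, (b i)⁻¹ = b i := fun i => inv_eq_of_mul_eq_one_left (hA2 _ (hbA i))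
  have hbQ : ∀ i, b i ∉ Q i := by
    intro i h
    exact hb1 i (eq_one_of_sq_of_odd (hQodd i) h (hA2 _ (hbA i)))
  refine ⟨fun i => Subgroup.zpowers (b i), Q, fun i => Nat.card (Q i), ?_, ?_, ?_⟩
  · intro i
    have hp : (Nat.card (Q i)).Prime := (hQ i).2.1
    refine ⟨by rw [Subgroup.zpowers_le]; exact hbA i, by rw [Nat.card_zpowers, hbord i],
      (hQ i).1.trans hFL, hQodd i, ?_, ?_⟩
    · rcases Nat.lt_or_ge (Nat.card (Q i)) 3 with h | h
      · exfalso
        have h2 := hp.two_le
        have h3 : Nat.card (Q i) = 2 := by omega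
        have := hQodd i
        rw [h3] at this
        exact absurd this (by decide)
      · exact h
    · -- the dihedral isomorphism
      obtain ⟨⟨x, hx⟩, hx1⟩ := (Subgroup.ne_bot_iff_exists_ne_one).mp (hQne i)
      have hx1' : x ≠ 1 := fun h => hx1 (Subtype.ext h)
      have hxord : orderOf x = Nat.card (Q i) := by
        have h1 : orderOf x ∣ Nat.card (Q i) := by
          have := orderOf_dvd_natCard (⟨x, hx⟩ : Q i)
          rwa [Subgroup.orderOf_mk] at this
        rcases (Nat.dvd_prime hp).mp h1 with h | h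
        · exact absurd (orderOf_eq_one_iff.mp h) hx1'
        · exact h
      set D : Subgroup G := Subgroup.zpowers (b i) ⊔ Q i with hD
      have hbD : b i ∈ D := (le_sup_left : Subgroup.zpowers (b i) ≤ D) (Subgroup.mem_zpowers _)
      have hxD : x ∈ D := (le_sup_right : Q i ≤ D) hx
      have hnorm : Subgroup.zpowers (b i) ≤ Subgroup.normalizer ((Q i : Subgroup G) : Set G) := by
        rw [Subgroup.zpowers_le]; exact (hQ i).2.2 (hbA i)
      have hinf : Subgroup.zpowers (b i) ⊓ Q i = ⊥ := by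
        apply Disjoint.eq_bot
        apply Subgroup.disjoint_of_coprime_natCard
        rw [Nat.card_zpowers, hbord i]
        exact (Nat.coprime_two_left).mpr (hQodd i)
      have hcardD : Nat.card D = 2 * Nat.card (Q i) := by
        have := card_sup_mul_card_inf (Subgroup.zpowers (b i)) (Q i) hnorm
        rw [hinf, Subgroup.card_bot, mul_one, Nat.card_zpowers, hbord i] at this
        exact this
      apply Cfsg.Agent.Lib.Helper14.nonempty_mulEquiv_dihedral (Nat.card (Q i)) hcardD
        (⟨x, hxD⟩ : ↥D) ⟨b i, hbD⟩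
      · apply Subtype.ext
        rw [Subgroup.coe_pow, Subgroup.coe_one, ← hxord]
        exact pow_orderOf_eq_one x
      · apply Subtype.ext
        exact hA2 _ (hbA i)
      · apply Subtype.ext
        show b i * x * b i = x⁻¹
        have := hinv i x hx
        rw [hbinv i] at this
        exact this
      · rw [Subgroup.orderOf_mk]; exact hxord
      · intro h
        obtain ⟨m, hm⟩ := Subgroup.mem_zpowers_iff.mp h
        have h2 : x ^ m = b i := by
          have := congrArg Subtype.val hm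
          simpa using this
        exact hbQ i (h2 ▸ (Q i).zpow_mem hx m)
  · rw [← hcl]
    apply le_antisymm
    · apply iSup_le
      intro i
      rw [Subgroup.zpowers_le]
      exact Subgroup.subset_closure ⟨i, rfl⟩
    · rw [Subgroup.closure_le]
      rintro _ ⟨i, rfl⟩
      exact (le_iSup (fun i => Subgroup.zpowers (b i)) i) (Subgroup.mem_zpowers _)
  · intro i j hij
    -- K = centralizer of {b i} ∪ Q i contains zpowers (b j) ⊔ Q j
    have hK : Subgroup.zpowers (b j) ⊔ Q j ≤
        Subgroup.centralizer ({b i} : Set G) ⊓ Subgroup.centralizer (Q i : Set G) := by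
      apply sup_le
      · rw [Subgroup.zpowers_le]
        refine Subgroup.mem_inf.mpr ⟨?_, ?_⟩
        · rw [Subgroup.mem_centralizer_singleton_iff]
          exact hAc _ (hbA j) _ (hbA i)
        · exact cen_iff_mem_centralizer.mp (hcen i j hij)
      · intro y hy
        refine Subgroup.mem_inf.mpr ⟨?_, ?_⟩
        · rw [Subgroup.mem_centralizer_singleton_iff]
          have := cen_iff_mem_centralizer.mp (hcen j i (Ne.symm hij))
          exact ((Subgroup.mem_centralizer_iff.mp this) y hy)
        · rw [Subgroup.mem_centralizer_iff]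
          intro x hx
          exact hQcomm i j hij x hx y hy
    intro x hx y hy
    have hy' := Subgroup.mem_inf.mp (hK hy)
    have h1 : Subgroup.zpowers (b i) ⊔ Q i ≤ Subgroup.centralizer ({y} : Set G) := by
      apply sup_le
      · rw [Subgroup.zpowers_le, Subgroup.mem_centralizer_singleton_iff]
        exact (Subgroup.mem_centralizer_singleton_iff.mp hy'.1).symm
      · intro z hz
        rw [Subgroup.mem_centralizer_singleton_iff]
        exact (Subgroup.mem_centralizer_iff.mp hy'.2) z hz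
    exact Subgroup.mem_centralizer_singleton_iff.mp (h1 hx)

end Cfsg.Agent.Lib.Helper19.DihedralLemma
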