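import Mathlib

namespace Cfsg.Agent.Lib.Helper19.ExtPrim

open MulAction

variable {G : Type*} [Group G] {Ω : Type*} [MulAction G Ω]

/-- kernel of the action of `G_α` on its orbit through `ω` (as a subgroup of `G`) -/
def sker (α ω : Ω) : Subgroup G :=
  stabilizer G α ⊓ fixingSubgroup G (orbit (stabilizer G α) ω)

lemma mem_sker {α ω : Ω} {g : G} :
    g ∈ sker α ω ↔ g • α = α ∧ ∀ k : G, k • α = α → g • (k • ω) = k • ω := by
  unfold sker
  rw [Subgroup.mem_inf, mem_stabilizer_iff, mem_fixingSubgroup_iff]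
  constructor
  · rintro ⟨h1, h2⟩
    refine ⟨h1, fun k hk => ?_⟩
    apply h2
    exact ⟨⟨k, hk⟩, rfl⟩
  · rintro ⟨h1, h2⟩
    refine ⟨h1, ?_⟩
    rintro _ ⟨⟨k, hk⟩, rfl⟩
    exact h2 k hk

lemma sker_le_stabilizer (α ω : Ω) : (sker α ω : Subgroup G) ≤ stabilizer G α := inf_le_left

lemma sker_conj_mem {α ω : Ω} {g k : G} (hg : g • α = α) (hk : k ∈ sker α ω) :
    g * k * g⁻¹ ∈ sker α ω := by
  rw [mem_sker] at hk ⊢
  have hgi : g⁻¹ • α = α := by rw [inv_smul_eq_iff, hg]
  refine ⟨by rw [mul_smul, mul_smul, hgi, hk.1, hg], fun m hm => ?_⟩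
  have h1 : (g⁻¹ * m) • α = α := by rw [mul_smul, hm, hgi]
  have := hk.2 (g⁻¹ * m) h1
  rw [mul_smul, mul_smul, ← mul_smul g⁻¹ m, this, mul_smul, smul_inv_smul]

lemma mem_sker_smul {α ω : Ω} {t g : G} :
    g ∈ sker (t • α) (t • ω) ↔ t⁻¹ * g * t ∈ sker α ω := by
  rw [mem_sker, mem_sker]
  constructor
  · rintro ⟨h1, h2⟩
    refine ⟨by rw [mul_smul, mul_smul, h1, inv_smul_smul], fun k hk => ?_⟩
    have h3 : (t * k * t⁻¹) • t • α = t • α := by
      rw [mul_smul, mul_smul, inv_smul_smul, hk]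
    have := h2 _ h3
    rw [mul_smul, mul_smul, inv_smul_smul] at this
    rw [mul_smul, mul_smul, this, inv_smul_smul]
  · rintro ⟨h1, h2⟩
    refine ⟨?_, fun k hk => ?_⟩
    · rw [mul_smul, mul_smul, inv_smul_eq_iff] at h1
      exact h1
    · have h3 : (t⁻¹ * k * t) • α = α := by
        rw [mul_smul, mul_smul, hk, inv_smul_smul]
      have := h2 _ h3
      rw [mul_smul, mul_smul, mul_smul, mul_smul, inv_smul_eq_iff, smul_inv_smul] at this
      exact this

lemma card_sker_smul (α ω : Ω) (t : G) :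
    Nat.card (sker (G := G) (t • α) (t • ω)) = Nat.card (sker (G := G) α ω) := by
  apply Nat.card_congr
  refine ⟨fun x => ⟨t⁻¹ * x.1 * t, mem_sker_smul.1 x.2⟩,
    fun x => ⟨t * x.1 * t⁻¹, mem_sker_smul.2 (by
      have : t⁻¹ * (t * x.1 * t⁻¹) * t = x.1 := by group
      rw [this]; exact x.2)⟩, ?_, ?_⟩
  · intro x; apply Subtype.ext; show t * (t⁻¹ * x.1 * t) * t⁻¹ = x.1; group
  · intro x; apply Subtype.ext; show t⁻¹ * (t * x.1 * t⁻¹) * t = x.1; group


section main

variable [FaithfulSMul G Ω]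

omit [FaithfulSMul G Ω] in
lemma sker_le_stabilizer_pt (α ω : Ω) : (sker α ω : Subgroup G) ≤ stabilizer G ω := by
  intro g hg
  rw [mem_sker] at hg
  have := hg.2 1 (one_smul _ _)
  rw [one_smul] at this
  exact this

/-- a subgroup of a point stabilizer that is normal in a transitive faithful group is trivial -/
lemma eq_bot_of_normal [IsPretransitive G Ω] {K : Subgroup G}
    (hn : ∀ g : G, ∀ k ∈ K, g * k * g⁻¹ ∈ K) {α : Ω} (hK : K ≤ stabilizer G α) : K = ⊥ := by
  rw [Subgroup.eq_bot_iff_forall]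
  intro k hk
  apply FaithfulSMul.eq_of_smul_eq_smul (α := Ω)
  intro x
  obtain ⟨g, rfl⟩ := exists_smul_eq G α x
  have h1 := hK (hn g⁻¹ k hk)
  rw [mem_stabilizer_iff, inv_inv, mul_smul, mul_smul, inv_smul_eq_iff] at h1
  rw [one_smul, h1]

lemma stabilizer_ne [Nontrivial Ω] (hprim : IsPreprimitive G Ω) (hH : ∀ α : Ω, stabilizer G α ≠ ⊥)
    {α β : Ω} (h : α ≠ β) : stabilizer G α ≠ stabilizer G β := by
  intro heq
  have := hprim.toIsPretransitive
  have hco : IsCoatom (stabilizer G α) := IsPreprimitive.isCoatom_stabilizer_of_isPreprimitive (G := G) α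
  obtain ⟨t, rfl⟩ := exists_smul_eq G α β
  have ht : t ∈ Subgroup.normalizer (stabilizer G α : Set G) := by
    rw [Subgroup.mem_normalizer_iff]
    intro x
    have : t * x * t⁻¹ ∈ stabilizer G (t • α) ↔ x ∈ stabilizer G α := by
      rw [mem_stabilizer_iff, mem_stabilizer_iff, mul_smul, mul_smul, inv_smul_smul]
      exact smul_left_cancel_iff t
    rw [← heq] at this
    exact this.symm
  rcases hco.le_iff.1 (Subgroup.le_normalizer (H := stabilizer G α)) with h1 | h1
  · apply hH α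
    apply eq_bot_of_normal (α := α) _ le_rfl
    intro g k hk
    have hg : g ∈ Subgroup.normalizer (stabilizer G α : Set G) := by rw [h1]; trivial
    exact (Subgroup.mem_normalizer_iff.1 hg k).1 hk
  · rw [h1] at ht
    exact h ht.symm

lemma eq_bot_of_two_normalizers [Nontrivial Ω] (hprim : IsPreprimitive G Ω)
    (hH : ∀ α : Ω, stabilizer G α ≠ ⊥) {a b : Ω} (hab : a ≠ b) (K : Subgroup G)
    (hKa : K ≤ stabilizer G a)
    (h1 : ∀ g : G, g • a = a → ∀ k ∈ K, g * k * g⁻¹ ∈ K)
    (h2 : ∀ g : G, g • b = b → ∀ k ∈ K, g * k * g⁻¹ ∈ K) : K = ⊥ := by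
  have := hprim.toIsPretransitive
  have hcoa : IsCoatom (stabilizer G a) := IsPreprimitive.isCoatom_stabilizer_of_isPreprimitive (G := G) a
  have hcob : IsCoatom (stabilizer G b) := IsPreprimitive.isCoatom_stabilizer_of_isPreprimitive (G := G) b
  have hNa : stabilizer G a ≤ Subgroup.normalizer (K : Set G) := by
    intro g hg
    rw [Subgroup.mem_normalizer_iff]
    intro x
    refine ⟨h1 g hg x, fun h => ?_⟩
    have hgi : g⁻¹ • a = a := by rw [inv_smul_eq_iff]; exact (mem_stabilizer_iff.1 hg).symm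
    have := h1 g⁻¹ hgi _ h
    simpa [mul_assoc] using this
  have hNb : stabilizer G b ≤ Subgroup.normalizer (K : Set G) := by
    intro g hg
    rw [Subgroup.mem_normalizer_iff]
    intro x
    refine ⟨h2 g hg x, fun h => ?_⟩
    have hgi : g⁻¹ • b = b := by rw [inv_smul_eq_iff]; exact (mem_stabilizer_iff.1 hg).symm
    have := h2 g⁻¹ hgi _ h
    simpa [mul_assoc] using this
  rcases hcoa.le_iff.1 hNa with h | h
  · apply eq_bot_of_normal (α := a) _ hKa
    intro g k hk
    have hg : g ∈ Subgroup.normalizer (K : Set G) := by rw [h]; trivial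
    exact (Subgroup.mem_normalizer_iff.1 hg k).1 hk
  · exfalso
    rw [h] at hNb
    rcases hcob.le_iff.1 hNb with h' | h'
    · exact hcoa.1 h'
    · exact stabilizer_ne hprim hH hab h'

omit [FaithfulSMul G Ω] in
/-- quasiprimitivity of `G_a` on a suborbit: a normal subgroup of `G_a` moving `θ` is transitive
on the `G_a`-orbit of `θ` -/
lemma exists_mem_smul_eq_of_moved {a θ : Ω}
    (hep : IsPreprimitive (stabilizer G a) (orbit (stabilizer G a) θ))
    (K : Subgroup G) (hKa : K ≤ stabilizer G a)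
    (hKn : ∀ g : G, g • a = a → ∀ k ∈ K, g * k * g⁻¹ ∈ K)
    (hmove : ∃ h ∈ K, h • θ ≠ θ) :
    ∀ θ' ∈ orbit (stabilizer G a) θ, ∃ h ∈ K, h • θ = θ' := by
  let N : Subgroup (stabilizer G a) := K.subgroupOf (stabilizer G a)
  have : N.Normal := by
    refine ⟨fun n hn g => ?_⟩
    rw [Subgroup.mem_subgroupOf] at hn ⊢
    exact hKn g.1 g.2 _ hn
  have : IsPretransitive N (orbit (stabilizer G a) θ) := by
    apply IsQuasiPreprimitive.isPretransitive_of_normal (G := stabilizer G a)
    intro htop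
    obtain ⟨h, hh, hne⟩ := hmove
    apply hne
    have h1 : (⟨θ, mem_orbit_self θ⟩ : orbit (stabilizer G a) θ) ∈
        fixedPoints N (orbit (stabilizer G a) θ) := by rw [htop]; trivial
    have h2 := h1 ⟨⟨h, hKa hh⟩, Subgroup.mem_subgroupOf.2 hh⟩
    exact congrArg Subtype.val h2
  intro θ' hθ'
  obtain ⟨n, hn⟩ := exists_smul_eq N (⟨θ, mem_orbit_self θ⟩ : orbit (stabilizer G a) θ) ⟨θ', hθ'⟩
  exact ⟨n.1.1, Subgroup.mem_subgroupOf.1 n.2, congrArg Subtype.val hn⟩


open Pointwise in
/-- Mann–Praeger–Seress: in an extremely primitive group the point stabilizer is faithful on each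
nontrivial suborbit. -/
theorem sker_eq_bot [Finite G] [Finite Ω] (hprim : IsPreprimitive G Ω)
    (hH : ∀ α : Ω, stabilizer G α ≠ ⊥)
    (hep : ∀ (α ω : Ω), IsPreprimitive (stabilizer G α) (orbit (stabilizer G α) ω))
    (α ω : Ω) (hω : ω ≠ α) : (sker α ω : Subgroup G) = ⊥ := by
  have hnt : Nontrivial Ω := ⟨⟨ω, α, hω⟩⟩
  have htr := hprim.toIsPretransitive
  -- a pair with kernel of maximal order
  let S := {p : Ω × Ω // p.2 ≠ p.1}
  have hSne : Nonempty S := ⟨⟨(α, ω), hω⟩⟩
  obtain ⟨⟨⟨a, b⟩, hab⟩, hmax⟩ :=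
    Finite.exists_max (fun p : S => Nat.card (sker (G := G) p.1.1 p.1.2))
  have hab' : b ≠ a := hab
  have hmax' : ∀ x y : Ω, y ≠ x → Nat.card (sker (G := G) x y) ≤ Nat.card (sker (G := G) a b) :=
    fun x y hxy => hmax ⟨(x, y), hxy⟩
  suffices hK : (sker a b : Subgroup G) = ⊥ by
    have h1 := hmax' α ω hω
    rw [hK, Subgroup.card_bot] at h1
    exact (Subgroup.card_le_one_iff_eq_bot _).1 h1
  by_contra hKne
  set K : Subgroup G := sker a b with hKdef
  obtain ⟨t, ht⟩ := exists_smul_eq G a b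
  set K' : Subgroup G := sker (t • a) (t • b) with hK'def
  have hcard : Nat.card K' = Nat.card K := card_sker_smul a b t
  have hKa : K ≤ stabilizer G a := sker_le_stabilizer a b
  have hKb : K ≤ stabilizer G b := sker_le_stabilizer_pt a b
  have hK'b : K' ≤ stabilizer G b := by
    rw [hK'def, ht]; exact sker_le_stabilizer _ _
  have hKn : ∀ g : G, g • a = a → ∀ k ∈ K, g * k * g⁻¹ ∈ K := fun g hg k hk => sker_conj_mem hg hk
  have hK'n : ∀ g : G, g • b = b → ∀ k ∈ K', g * k * g⁻¹ ∈ K' := by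
    intro g hg k hk
    rw [← ht] at hg
    exact sker_conj_mem hg hk
  have hK'ne : K' ≠ ⊥ := by
    intro h
    apply hKne
    rw [h, Subgroup.card_bot] at hcard
    exact (Subgroup.card_le_one_iff_eq_bot _).1 hcard.symm.le
  -- K preserves the fixed points of K'
  have hpres : ∀ h ∈ K, ∀ x : Ω, (∀ k ∈ K', k • x = x) → ∀ k ∈ K', k • h • x = h • x := by
    intro h hh x hx k hk
    have hhb : h⁻¹ • b = b := by
      rw [inv_smul_eq_iff]; exact (mem_stabilizer_iff.1 (hKb hh)).symm
    have h1 := hK'n h⁻¹ hhb k hk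
    have h2 := hx _ h1
    rw [inv_inv, mul_smul, mul_smul, inv_smul_eq_iff] at h2
    exact h2
  by_cases hsub : ∀ x : Ω, (∀ k ∈ K', k • x = x) → ∀ k ∈ K, k • x = x
  · -- then K ≤ K', so K = K' is normalized by G_a and G_b
    have hle : K ≤ K' := by
      intro h hh
      rw [hK'def, mem_sker, ht]
      refine ⟨hKb hh, fun m hm => ?_⟩
      apply hsub _ _ h hh
      intro k hk
      rw [hK'def, mem_sker, ht] at hk
      exact hk.2 m hm
    have heq : K = K' := Subgroup.eq_of_le_of_card_ge hle hcard.le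
    apply hKne
    apply eq_bot_of_two_normalizers hprim hH hab'.symm K hKa hKn
    rw [heq]
    exact hK'n
  · push Not at hsub
    obtain ⟨θ, hθ', k0, hk0, hk0θ⟩ := hsub
    have hθa : θ ≠ a := by
      rintro rfl
      exact hk0θ (hKa hk0)
    -- K is transitive on the G_a-orbit of θ, which therefore lies in the fixed points of K'
    have htrans := exists_mem_smul_eq_of_moved (hep a θ) K hKa hKn ⟨k0, hk0, hk0θ⟩
    have hfix : ∀ θ' ∈ orbit (stabilizer G a) θ, ∀ k ∈ K', k • θ' = θ' := by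
      intro θ' hθ'' k hk
      obtain ⟨h, hh, rfl⟩ := htrans θ' hθ''
      exact hpres h hh θ hθ' k hk
    -- the setwise stabilizer of the orbit is G_a
    have hco : IsCoatom (stabilizer G a) :=
      IsPreprimitive.isCoatom_stabilizer_of_isPreprimitive (G := G) a
    have hle : stabilizer G a ≤ stabilizer G (orbit (stabilizer G a) θ : Set Ω) := by
      intro g hg
      rw [mem_stabilizer_set]
      intro x
      constructor
      · rintro ⟨m, hm⟩
        refine ⟨(⟨g, hg⟩ : stabilizer G a)⁻¹ * m, ?_⟩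
        show ((⟨g, hg⟩ : stabilizer G a)⁻¹ * m) • θ = x
        have hm' : m • θ = g • x := hm
        rw [mul_smul, hm']
        exact inv_smul_smul g x
      · rintro ⟨m, rfl⟩
        exact ⟨(⟨g, hg⟩ : stabilizer G a) * m, mul_smul _ _ _⟩
    have hS : stabilizer G (orbit (stabilizer G a) θ : Set Ω) = stabilizer G a := by
      rcases hco.le_iff.1 hle with h | h
      · exfalso
        obtain ⟨g, hg⟩ := exists_smul_eq G θ a
        have hgS : g ∈ stabilizer G (orbit (stabilizer G a) θ : Set Ω) := by rw [h]; trivial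
        rw [mem_stabilizer_set] at hgS
        have h1 := (hgS θ).2 (mem_orbit_self θ)
        rw [hg] at h1
        obtain ⟨m, hm⟩ := h1
        apply hθa
        have h2 : (m : G) • θ = a := hm
        have h3 : (m : G) • a = a := m.2
        exact smul_left_cancel (m : G) (h2.trans h3.symm)
      · exact h
    have hK'S : K' ≤ stabilizer G a := by
      rw [← hS]
      intro k hk
      rw [mem_stabilizer_set]
      intro x
      constructor
      · intro hx
        have h1 := hfix _ hx k hk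
        have h2 : k • x = x := smul_left_cancel _ h1
        rw [← h2]; exact hx
      · intro hx
        rw [hfix x hx k hk]; exact hx
    have hK'le : K' ≤ sker a θ := by
      intro k hk
      rw [mem_sker]
      refine ⟨hK'S hk, fun m hm => ?_⟩
      exact hfix _ ⟨⟨m, hm⟩, rfl⟩ k hk
    have hK'eq : K' = sker a θ := by
      apply Subgroup.eq_of_le_of_card_ge hK'le
      rw [hcard]
      exact hmax' a θ hθa
    apply hK'ne
    apply eq_bot_of_two_normalizers hprim hH hab' K' hK'b hK'n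
    rw [hK'eq]
    exact fun g hg k hk => sker_conj_mem hg hk

/-- in an extremely primitive group a nontrivial normal subgroup `M` of `G_α` is transitive on
every `G_α`-orbit -/
theorem normal_transitive_on_suborbit [Finite G] [Finite Ω] (hprim : IsPreprimitive G Ω)
    (hH : ∀ α : Ω, stabilizer G α ≠ ⊥)
    (hep : ∀ (α ω : Ω), IsPreprimitive (stabilizer G α) (orbit (stabilizer G α) ω))
    {α : Ω} (M : Subgroup G) (hM : M ≠ ⊥) (hMle : M ≤ stabilizer G α)
    (hMn : ∀ g : G, g • α = α → ∀ k ∈ M, g * k * g⁻¹ ∈ M) (ω : Ω) (hω : ω ≠ α) :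
    ∀ θ' ∈ orbit (stabilizer G α) ω, ∃ m ∈ M, m • ω = θ' := by
  by_cases hmove : ∃ h ∈ M, h • ω ≠ ω
  · exact exists_mem_smul_eq_of_moved (hep α ω) M hMle hMn hmove
  · exfalso
    push Not at hmove
    apply hM
    rw [eq_bot_iff, ← sker_eq_bot hprim hH hep α ω hω]
    intro m hm
    rw [mem_sker]
    refine ⟨hMle hm, fun k hk => ?_⟩
    have hki : k⁻¹ • α = α := by rw [inv_smul_eq_iff, hk]
    have h1 := hmove _ (hMn k⁻¹ hki m hm)
    rw [inv_inv, mul_smul, mul_smul, inv_smul_eq_iff] at h1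
    exact h1

end main

end Cfsg.Agent.Lib.Helper19.ExtPrim
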