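import Mathlib
import Cfsg.Prelude.Def_Solvable
import Cfsg.Agent.Lib.Helper19.ExtPrim
import Cfsg.Agent.Lib.Helper19.Derangement
import Cfsg.Agent.Lib.Helper1.Fitting
import Cfsg.Agent.Lib.Helper26.ElemAbAut

set_option autoImplicit false

namespace Cfsg.Agent.Lib.Helper19.ExtPrim

open MulAction

section stab

variable {G : Type*} [Group G] {Ω : Type*} [MulAction G Ω] [FaithfulSMul G Ω] [Finite G] [Finite Ω]

/-- hypotheses of extreme primitivity, bundled -/
structure EP (G : Type*) [Group G] (Ω : Type*) [MulAction G Ω] : Prop where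
  prim : IsPreprimitive G Ω
  nonreg : ∀ α : Ω, stabilizer G α ≠ ⊥
  ep : ∀ (α ω : Ω), IsPreprimitive (stabilizer G α) (orbit (stabilizer G α) ω)

omit [Finite G] [Finite Ω] in
lemma exists_ne (α : Ω) (hH : stabilizer G α ≠ ⊥) : ∃ ω : Ω, ω ≠ α := by
  by_contra hcon
  push Not at hcon
  apply hH
  rw [Subgroup.eq_bot_iff_forall]
  intro h _
  apply FaithfulSMul.eq_of_smul_eq_smul (α := Ω)
  intro x
  rw [one_smul, hcon x, hcon (h • α)]

/-- a nontrivial normal subgroup of `G_α` is transitive on every nontrivial suborbit -/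
lemma EP.trans (h : EP G Ω) {α : Ω} (X : Subgroup (stabilizer G α)) [X.Normal] (hX : X ≠ ⊥)
    (ω : Ω) (hω : ω ≠ α) :
    ∀ θ' ∈ orbit (stabilizer G α) ω, ∃ x ∈ X, (x : G) • ω = θ' := by
  have hM : X.map (stabilizer G α).subtype ≠ ⊥ := by
    intro hbot
    apply hX
    rw [Subgroup.eq_bot_iff_forall]
    intro x hx
    have : (x : G) ∈ X.map (stabilizer G α).subtype := ⟨x, hx, rfl⟩
    rw [hbot, Subgroup.mem_bot] at this
    exact Subtype.ext this
  have hle : X.map (stabilizer G α).subtype ≤ stabilizer G α := by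
    rintro _ ⟨x, _, rfl⟩
    exact x.2
  have hn : ∀ g : G, g • α = α → ∀ k ∈ X.map (stabilizer G α).subtype,
      g * k * g⁻¹ ∈ X.map (stabilizer G α).subtype := by
    rintro g hg _ ⟨x, hx, rfl⟩
    refine ⟨(⟨g, hg⟩ : stabilizer G α) * x * (⟨g, hg⟩ : stabilizer G α)⁻¹, ?_, rfl⟩
    exact Subgroup.Normal.conj_mem inferInstance x hx _
  intro θ' hθ'
  obtain ⟨m, ⟨x, hx, rfl⟩, hm⟩ :=
    normal_transitive_on_suborbit h.prim h.nonreg h.ep _ hM hle hn ω hω θ' hθ'
  exact ⟨x, hx, hm⟩

/-- an element of `G_α` centralizing a nontrivial normal subgroup and fixing a further point is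
trivial -/
lemma EP.eq_one_of_centralizes (h : EP G Ω) {α : Ω} (X : Subgroup (stabilizer G α)) [X.Normal]
    (hX : X ≠ ⊥) (g : stabilizer G α) (hcomm : ∀ x ∈ X, g * x = x * g) (ω : Ω) (hω : ω ≠ α)
    (hfix : (g : G) • ω = ω) : g = 1 := by
  have hmem : (g : G) ∈ (sker α ω : Subgroup G) := by
    rw [mem_sker]
    refine ⟨g.2, fun k hk => ?_⟩
    obtain ⟨x, hx, hxω⟩ := h.trans X hX ω hω (k • ω) ⟨⟨k, hk⟩, rfl⟩
    rw [← hxω, ← mul_smul]
    have h1 : (g : G) * (x : G) = (x : G) * (g : G) := congrArg Subtype.val (hcomm x hx)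
    rw [h1, mul_smul, hfix]
  rw [sker_eq_bot h.prim h.nonreg h.ep α ω hω, Subgroup.mem_bot] at hmem
  exact Subtype.ext hmem

/-- an abelian nontrivial normal subgroup of `G_α` is self-centralizing -/
lemma EP.mem_of_centralizes (h : EP G Ω) {α : Ω} (X : Subgroup (stabilizer G α)) [X.Normal]
    (hX : X ≠ ⊥) (hab : ∀ x ∈ X, ∀ y ∈ X, x * y = y * x)
    (g : stabilizer G α) (hcomm : ∀ x ∈ X, g * x = x * g) : g ∈ X := by
  obtain ⟨ω, hω⟩ := exists_ne α (h.nonreg α)
  obtain ⟨x, hx, hxω⟩ := h.trans X hX ω hω ((g : G) • ω) ⟨g, rfl⟩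
  have h1 : x⁻¹ * g = 1 := by
    apply h.eq_one_of_centralizes X hX _ _ ω hω
    · show ((x⁻¹ * g : stabilizer G α) : G) • ω = ω
      rw [Subgroup.coe_mul, mul_smul, ← hxω, Subgroup.coe_inv, inv_smul_smul]
    · intro y hy
      have h2 := hcomm y hy
      have h3 := hab x hx y hy
      calc x⁻¹ * g * y = x⁻¹ * (y * g) := by rw [mul_assoc, h2]
        _ = x⁻¹ * y * x * (x⁻¹ * g) := by group
        _ = x⁻¹ * (x * y) * (x⁻¹ * g) := by rw [mul_assoc x⁻¹ y x, h3]
        _ = y * (x⁻¹ * g) := by group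
  have : g = x := by
    have := congrArg (fun t => x * t) h1
    simpa using this
  rw [this]; exact hx

/-- an abelian nontrivial normal subgroup of `G_α` is regular on every nontrivial suborbit -/
lemma EP.card_orbit (h : EP G Ω) {α : Ω} (X : Subgroup (stabilizer G α)) [X.Normal]
    (hX : X ≠ ⊥) (hab : ∀ x ∈ X, ∀ y ∈ X, x * y = y * x) (ω : Ω) (hω : ω ≠ α) :
    Nat.card (orbit (stabilizer G α) ω) = Nat.card X := by
  symm
  apply Nat.card_congr
  refine Equiv.ofBijective (fun x => ⟨(x.1 : G) • ω, ⟨x.1, rfl⟩⟩) ⟨?_, ?_⟩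
  · intro x y hxy
    have h1 : (x.1 : G) • ω = (y.1 : G) • ω := congrArg Subtype.val hxy
    have h2 : y.1⁻¹ * x.1 = 1 := by
      apply h.eq_one_of_centralizes X hX _ _ ω hω
      · show ((y.1⁻¹ * x.1 : stabilizer G α) : G) • ω = ω
        rw [Subgroup.coe_mul, mul_smul, h1, Subgroup.coe_inv, inv_smul_smul]
      · intro z hz
        have hyx : y.1⁻¹ * x.1 ∈ X := X.mul_mem (X.inv_mem y.2) x.2
        exact hab _ hyx z hz
    apply Subtype.ext
    exact (inv_mul_eq_one.1 h2).symm
  · rintro ⟨θ', hθ'⟩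
    obtain ⟨x, hx, hxω⟩ := h.trans X hX ω hω θ' hθ'
    exact ⟨⟨x, hx⟩, Subtype.ext hxω⟩


omit [FaithfulSMul G Ω] [Finite Ω] in
lemma prime_card_of_isCoatom_bot {H : Type*} [Group H] [Finite H]
    (hco : IsCoatom (⊥ : Subgroup H)) : (Nat.card H).Prime := by
  have hnt : Nontrivial H := by
    by_contra hs
    rw [not_nontrivial_iff_subsingleton] at hs
    exact hco.1 (Subsingleton.elim _ _)
  have h1 : Nat.card H ≠ 1 := (Finite.one_lt_card (α := H)).ne'
  obtain ⟨q, hq, hqd⟩ := Nat.exists_prime_and_dvd h1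
  have := Fact.mk hq
  obtain ⟨x, hx⟩ := exists_prime_orderOf_dvd_card' q hqd
  have hx1 : Subgroup.zpowers x ≠ ⊥ := by
    intro hb
    rw [Subgroup.zpowers_eq_bot] at hb
    rw [hb, orderOf_one] at hx
    exact hq.one_lt.ne hx
  have htop := hco.2 (Subgroup.zpowers x) (bot_lt_iff_ne_bot.2 hx1)
  have : Nat.card H = q := by
    rw [← Subgroup.card_top (G := H), ← htop, Nat.card_zpowers, hx]
  rw [this]; exact hq

/-- the point stabilizer of an extremely primitive group has trivial centre unless it has prime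
order -/
lemma EP.center_eq_bot (h : EP G Ω) (α : Ω) (hHp : ¬ (Nat.card (stabilizer G α)).Prime) :
    Subgroup.center (stabilizer G α) = ⊥ := by
  by_contra hZ
  apply hHp
  obtain ⟨ω, hω⟩ := exists_ne α (h.nonreg α)
  have hfree : ∀ g : stabilizer G α, (g : G) • ω = ω → g = 1 := fun g hg =>
    h.eq_one_of_centralizes (Subgroup.center _) hZ g
      (fun x hx => Subgroup.mem_center_iff.1 hx g) ω hω hg
  obtain ⟨g, hg1⟩ : ∃ g : stabilizer G α, g ≠ 1 := by
    by_contra hcon
    push Not at hcon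
    exact h.nonreg α ((Subgroup.eq_bot_iff_forall _).2 fun x hx => by
      have := hcon ⟨x, hx⟩
      exact congrArg Subtype.val this)
  have hgω : (g : G) • ω ≠ ω := fun hfix => hg1 (hfree g hfix)
  have hnt : Nontrivial (orbit (stabilizer G α) ω) :=
    ⟨⟨⟨(g : G) • ω, ⟨g, rfl⟩⟩, ⟨ω, mem_orbit_self ω⟩, fun heq => hgω (congrArg Subtype.val heq)⟩⟩
  have hpp := h.ep α ω
  have hco : IsCoatom (stabilizer (stabilizer G α)
      (⟨ω, mem_orbit_self ω⟩ : orbit (stabilizer G α) ω)) :=
    IsPreprimitive.isCoatom_stabilizer_of_isPreprimitive (G := stabilizer G α) _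
  have hbot : stabilizer (stabilizer G α)
      (⟨ω, mem_orbit_self ω⟩ : orbit (stabilizer G α) ω) = ⊥ := by
    rw [Subgroup.eq_bot_iff_forall]
    intro k hk
    apply hfree
    rw [mem_stabilizer_iff] at hk
    exact congrArg Subtype.val hk
  rw [hbot] at hco
  exact prime_card_of_isCoatom_bot hco

/-- structure of the Fitting subgroup of the point stabilizer of an extremely primitive group -/
lemma EP.fitting (h : EP G Ω) (α : Ω)
    (hF : Cfsg.fittingSubgroup (stabilizer G α) ≠ ⊥) :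
    (∀ x ∈ Cfsg.fittingSubgroup (stabilizer G α), ∀ y ∈ Cfsg.fittingSubgroup (stabilizer G α),
      x * y = y * x) ∧
    (∀ g : stabilizer G α, (∀ x ∈ Cfsg.fittingSubgroup (stabilizer G α), g * x = x * g) →
      g ∈ Cfsg.fittingSubgroup (stabilizer G α)) ∧
    (∀ x ∈ Cfsg.fittingSubgroup (stabilizer G α), ∀ ω : Ω, ω ≠ α → (x : G) • ω = ω → x = 1) ∧
    ∃ p e : ℕ, p.Prime ∧ Nat.card (Cfsg.fittingSubgroup (stabilizer G α)) = p ^ e ∧
      (∀ x ∈ Cfsg.fittingSubgroup (stabilizer G α), x ^ p = 1) := by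
  set F := Cfsg.fittingSubgroup (stabilizer G α) with hFdef
  have hFn : F.Normal := Cfsg.Agent.Lib.Helper1.fittingSubgroup_normal _
  have hnil : Group.IsNilpotent F := Cfsg.Agent.Lib.Helper1.fittingSubgroup_isNilpotent _
  have hFnt : Nontrivial F := (Subgroup.nontrivial_iff_ne_bot F).2 hF
  -- the centre of F, as a subgroup of H
  set A : Subgroup (stabilizer G α) := F ⊓ Subgroup.centralizer (F : Set (stabilizer G α)) with hA
  have hAne : A ≠ ⊥ := by
    have hc := Group.IsNilpotent.center_ne_bot (G := F)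
    intro hb
    apply hc
    rw [Subgroup.eq_bot_iff_forall]
    intro z hz
    have hzA : (z : stabilizer G α) ∈ A := by
      rw [hA, Subgroup.mem_inf]
      refine ⟨z.2, ?_⟩
      rw [Subgroup.mem_centralizer_iff]
      intro f hf
      have := Subgroup.mem_center_iff.1 hz ⟨f, hf⟩
      exact congrArg Subtype.val this
    rw [hb, Subgroup.mem_bot] at hzA
    exact Subtype.ext hzA
  have hAab : ∀ x ∈ A, ∀ y ∈ A, x * y = y * x := by
    intro x hx y hy
    rw [hA, Subgroup.mem_inf] at hx hy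
    exact Subgroup.mem_centralizer_iff.1 hy.2 x hx.1
  have hFA : F ≤ A := by
    intro g hg
    apply h.mem_of_centralizes A hAne hAab
    intro x hx
    rw [hA, Subgroup.mem_inf] at hx
    exact Subgroup.mem_centralizer_iff.1 hx.2 g hg
  have hFab : ∀ x ∈ F, ∀ y ∈ F, x * y = y * x := fun x hx y hy => hAab x (hFA hx) y (hFA hy)
  have hreg : ∀ x ∈ F, ∀ ω : Ω, ω ≠ α → (x : G) • ω = ω → x = 1 := fun x hx ω hω hfix =>
    h.eq_one_of_centralizes F hF x (fun y hy => hFab x hx y hy) ω hω hfix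
  refine ⟨hFab, fun g hg => h.mem_of_centralizes F hF hFab g hg, hreg, ?_⟩
  -- a prime dividing |F|
  have h1 : Nat.card F ≠ 1 := (Finite.one_lt_card (α := F)).ne'
  obtain ⟨p, hp, hpd⟩ := Nat.exists_prime_and_dvd h1
  have := Fact.mk hp
  obtain ⟨z, hz⟩ := exists_prime_orderOf_dvd_card' p hpd
  -- Ω_1 of F
  let Fp : Subgroup (stabilizer G α) :=
    { carrier := {x | x ∈ F ∧ x ^ p = 1}
      one_mem' := ⟨F.one_mem, one_pow _⟩
      mul_mem' := by
        rintro x y ⟨hx, hx'⟩ ⟨hy, hy'⟩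
        refine ⟨F.mul_mem hx hy, ?_⟩
        have hc : Commute x y := hFab x hx y hy
        rw [hc.mul_pow, hx', hy', one_mul]
      inv_mem' := by
        rintro x ⟨hx, hx'⟩
        exact ⟨F.inv_mem hx, by rw [inv_pow, hx', inv_one]⟩ }
  have hFpn : Fp.Normal := by
    refine ⟨fun x hx g => ?_⟩
    obtain ⟨hx, hx'⟩ := hx
    refine ⟨hFn.conj_mem x hx g, ?_⟩
    rw [conj_pow, hx', mul_one, mul_inv_cancel]
  have hFpne : Fp ≠ ⊥ := by
    intro hb
    have hzFp : (z : stabilizer G α) ∈ Fp := by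
      refine ⟨z.2, ?_⟩
      have : z ^ p = 1 := by rw [← hz]; exact pow_orderOf_eq_one z
      exact_mod_cast congrArg Subtype.val this
    rw [hb, Subgroup.mem_bot] at hzFp
    have hz1 : z = 1 := Subtype.ext hzFp
    rw [hz1, orderOf_one] at hz
    exact hp.one_lt.ne hz
  have hFple : Fp ≤ F := fun x hx => hx.1
  have hFpab : ∀ x ∈ Fp, ∀ y ∈ Fp, x * y = y * x := fun x hx y hy => hFab x hx.1 y hy.1
  obtain ⟨ω, hω⟩ := exists_ne α (h.nonreg α)
  have hc1 := h.card_orbit F hF hFab ω hω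
  have hc2 := h.card_orbit Fp hFpne hFpab ω hω
  have hFpeq : Fp = F := Subgroup.eq_of_le_of_card_ge hFple (by rw [← hc1, ← hc2])
  have hexp : ∀ x ∈ F, x ^ p = 1 := by
    intro x hx
    rw [← hFpeq] at hx
    exact hx.2
  have hpg : IsPGroup p F := by
    intro x
    refine ⟨1, ?_⟩
    rw [pow_one]
    have := hexp x x.2
    exact Subtype.ext (by exact_mod_cast this)
  obtain ⟨e, he⟩ := IsPGroup.iff_card.1 hpg
  exact ⟨p, e, hp, he, hexp⟩


omit [FaithfulSMul G Ω] [Finite G] in
/-- a finite subgroup of `G_α` all of whose nonidentity elements fix only `α`: order divides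
`|Ω| - 1` -/
lemma card_dvd_card_sub_one {α : Ω} (F : Subgroup (stabilizer G α)) [Finite F]
    (hreg : ∀ x ∈ F, ∀ ω : Ω, ω ≠ α → (x : G) • ω = ω → x = 1) :
    Nat.card F ∣ Nat.card Ω - 1 := by
  classical
  have := Fintype.ofFinite F
  have hB := Cfsg.Agent.Lib.Helper19.burnside_natCard (G := F) (Ω := Ω)
  have hsum : ∑ x : F, Nat.card (fixedBy Ω x) = Nat.card Ω + (Nat.card F - 1) := by
    rw [← Finset.add_sum_erase Finset.univ _ (Finset.mem_univ (1 : F))]
    congr 1
    · have : fixedBy Ω (1 : F) = Set.univ := by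
        ext ω; simp
      rw [this, Nat.card_coe_set_eq, Set.ncard_univ]
    · rw [Finset.sum_eq_card_nsmul (b := 1)]
      · rw [Finset.card_erase_of_mem (Finset.mem_univ _), Finset.card_univ,
          Nat.card_eq_fintype_card, smul_eq_mul, mul_one]
      · intro x hx
        have hx1 : x ≠ 1 := (Finset.mem_erase.1 hx).1
        have : fixedBy Ω x = {α} := by
          ext ω
          rw [mem_fixedBy, Set.mem_singleton_iff]
          constructor
          · intro hfix
            by_contra hω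
            apply hx1
            have := hreg x.1 x.2 ω hω hfix
            exact Subtype.ext this
          · rintro rfl
            exact x.1.2
        rw [this, Nat.card_coe_set_eq, Set.ncard_singleton]
  rw [hsum] at hB
  have hF1 : 1 ≤ Nat.card F := Nat.card_pos
  have hΩ1 : 1 ≤ Nat.card Ω := by
    have : Nonempty Ω := ⟨α⟩
    exact Nat.card_pos
  set m := Nat.card (orbitRel.Quotient F Ω) with hm
  have hm1 : 1 ≤ m := by
    rcases Nat.eq_zero_or_pos m with h0 | h0
    · rw [h0, zero_mul] at hB; omega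
    · exact h0
  obtain ⟨m', hm'⟩ : ∃ m', m = m' + 1 := ⟨m - 1, by omega⟩
  refine ⟨m', ?_⟩
  rw [hm', add_mul, one_mul] at hB
  rw [mul_comm]
  set t := m' * Nat.card F
  omega

end stab

section gl

theorem exists_addEquiv_pi (p e : ℕ) [Fact p.Prime] (W : Type*) [AddCommGroup W]
    [Module (ZMod p) W] [Finite W] (hcard : Nat.card W = p ^ e) :
    Nonempty (W ≃+ (Fin e → ZMod p)) := by
  have hfin : Module.Finite (ZMod p) W := Module.Finite.of_finite
  have hfree : Module.Free (ZMod p) W := Module.Free.of_divisionRing _ _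
  have hfr : Module.finrank (ZMod p) W = e := by
    have h : Nat.card W = Nat.card (ZMod p) ^ Module.finrank (ZMod p) W :=
      Module.natCard_eq_pow_finrank
    rw [hcard, Nat.card_eq_fintype_card, ZMod.card] at h
    exact (Nat.pow_right_injective (Fact.out : p.Prime).two_le h).symm
  exact ⟨(Module.finBasisOfFinrankEq (ZMod p) W hfr).equivFun.toAddEquiv⟩

/-- elementary abelian group of order `p^e` is `(ZMod p)^e` -/
theorem exists_mulEquiv_pi (p e : ℕ) [Fact p.Prime] {V : Type*} [Group V] [Finite V]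
    (hcomm : ∀ a b : V, a * b = b * a) (hexp : ∀ a : V, a ^ p = 1) (hcard : Nat.card V = p ^ e) :
    Nonempty (V ≃* Multiplicative (Fin e → ZMod p)) := by
  let _i1 : CommGroup V := { (inferInstance : Group V) with mul_comm := hcomm }
  let _i2 : Module (ZMod p) (Additive V) := AddCommGroup.zmodModule (n := p) (fun x => by
    show Additive.ofMul ((Additive.toMul x) ^ p) = 0
    rw [hexp]
    rfl)
  have hcard' : Nat.card (Additive V) = p ^ e := hcard
  obtain ⟨f⟩ := exists_addEquiv_pi p e (Additive V) hcard'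
  exact ⟨AddEquiv.toMultiplicativeRight f⟩

/-- conjugation action on a normal elementary abelian subgroup of order `p^e`, as a homomorphism to
`GL_e(p)` whose kernel is the centralizer -/
theorem exists_hom_GL {H : Type*} [Group H] (F : Subgroup H) [F.Normal] [Finite F] (p e : ℕ)
    [Fact p.Prime] (hab : ∀ x ∈ F, ∀ y ∈ F, x * y = y * x) (hexp : ∀ x ∈ F, x ^ p = 1)
    (hcard : Nat.card F = p ^ e) :
    ∃ φ : H →* Matrix.GeneralLinearGroup (Fin e) (ZMod p),
      ∀ g : H, g ∈ φ.ker ↔ ∀ x ∈ F, g * x = x * g := by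
  obtain ⟨ι⟩ := exists_mulEquiv_pi p e (V := F)
    (fun a b => Subtype.ext (hab a a.2 b b.2))
    (fun a => Subtype.ext (by
      have := hexp a a.2
      exact_mod_cast this)) hcard
  let Ψ : MulAut F ≃* Matrix.GeneralLinearGroup (Fin e) (ZMod p) :=
    (MulAut.congr ι).trans ((Cfsg.Agent.Lib.Helper26.autEquivUnits p).trans
      (Units.mapEquiv (LinearMap.toMatrixAlgEquiv' (R := ZMod p) (n := Fin e)).toRingEquiv.toMulEquiv))
  refine ⟨Ψ.toMonoidHom.comp (MulAut.conjNormal : H →* MulAut F), fun g => ?_⟩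
  rw [MonoidHom.mem_ker, MonoidHom.comp_apply]
  show Ψ (MulAut.conjNormal g) = 1 ↔ _
  rw [MulEquiv.map_eq_one_iff]
  constructor
  · intro hg x hx
    have h1 : (MulAut.conjNormal g : MulAut F) ⟨x, hx⟩ = ⟨x, hx⟩ := by rw [hg]; rfl
    have h2 := congrArg Subtype.val h1
    rw [MulAut.conjNormal_apply] at h2
    have : g * x * g⁻¹ = x := h2
    calc g * x = g * x * g⁻¹ * g := by group
      _ = x * g := by rw [this]
  · intro hg
    ext x
    rw [MulAut.conjNormal_apply]
    show g * (x : H) * g⁻¹ = x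
    rw [hg x x.2, mul_inv_cancel_right]

end gl

end Cfsg.Agent.Lib.Helper19.ExtPrim
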