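import Mathlib
import Cfsg.Agent.Lib.Helper19.ExtPrimFit
import Cfsg.Agent.Lib.Helper19.IrredCyclic
import Cfsg.Agent.Lib.Helper1.MinNormal
import Cfsg.Agent.Lib.Helper1.TraceIdentity
import Cfsg.Agent.Lib.Helper1.Noncyclic
import Cfsg.Agent.S3495

set_option autoImplicit false

namespace Cfsg.Agent.Lib.Helper19.ExtPrim

open MulAction
open Cfsg.Agent.Lib.Helper19.IrredCyclic
open scoped IsMulCommutative

section field

/-- every ring endomorphism of a finite field of characteristic `p` is a power of Frobenius -/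
lemma ringHom_eq_frobenius_pow (L : Type*) [Field L] [Finite L] (p : ℕ) [Fact p.Prime] [CharP L p]
    (σ : L →+* L) : ∃ n : ℕ, ∀ y : L, σ y = y ^ (p ^ n) := by
  let _ : Algebra (ZMod p) L := ZMod.algebra L p
  let σ' : L →ₐ[ZMod p] L :=
    { σ with
      commutes' := fun c => by
        have : σ.comp (algebraMap (ZMod p) L) = algebraMap (ZMod p) L := Subsingleton.elim _ _
        exact RingHom.congr_fun this c }
  obtain ⟨n, hn⟩ := (FiniteField.bijective_frobeniusAlgHom_pow (ZMod p) L).2 σ'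
  refine ⟨n.1, fun y => ?_⟩
  have h1 : (FiniteField.frobeniusAlgHom (ZMod p) L ^ n.1) y = σ' y := DFunLike.congr_fun hn y
  have h2 : σ' y = σ y := rfl
  rw [← h2, ← h1, AlgHom.coe_pow, FiniteField.coe_frobeniusAlgHom, pow_iterate, ZMod.card]

/-- conjugating an irreducible additive endomorphism `T` of an elementary abelian `p`-group into its
own generated ring yields a Frobenius power of `T` -/
theorem conj_eq_frobenius_pow {V : Type*} [AddCommGroup V] [Finite V] [Nontrivial V]
    (T : AddMonoid.End V)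
    (hirr : ∀ W : AddSubgroup V, (∀ w ∈ W, T w ∈ W) → W = ⊥ ∨ W = ⊤)
    (p : ℕ) [hp : Fact p.Prime] (hpV : ∀ v : V, p • v = 0)
    (S S' : AddMonoid.End V) (h1 : S * S' = 1) (h2 : S' * S = 1) (hmem : S * T * S' ∈ genRing T) :
    ∃ n : ℕ, S * T * S' = T ^ (p ^ n) := by
  classical
  have hfin : Finite (AddMonoid.End V) :=
    Finite.of_injective (fun f : AddMonoid.End V => (f : V → V)) DFunLike.coe_injective
  have hnzd := genRing_noZeroDivisors T hirr
  have hnt := genRing_nontrivial T
  have hdom : IsDomain (genRing T) := NoZeroDivisors.to_isDomain _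
  have hft := Fintype.ofFinite (genRing T)
  let _ : Field (genRing T) := Fintype.fieldOfDomain (genRing T)
  have hchar : CharP (genRing T) p := genRing_charP T hp.out hpV
  -- conjugation as a ring endomorphism of `End V`
  let c : AddMonoid.End V →+* AddMonoid.End V :=
    { toFun := fun f => S * f * S'
      map_one' := by rw [mul_one, h1]
      map_mul' := fun f g => by
        calc S * (f * g) * S' = S * f * (1 * g) * S' := by rw [one_mul, mul_assoc S f g]
          _ = S * f * (S' * S * g) * S' := by rw [h2]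
          _ = S * f * S' * (S * g * S') := by simp only [mul_assoc]
      map_zero' := by rw [mul_zero, zero_mul]
      map_add' := fun f g => by rw [mul_add, add_mul] }
  have hmap : ∀ f ∈ genRing T, c f ∈ genRing T := by
    intro f hf
    have hle : (genRing T).map c ≤ genRing T := by
      rw [RingHom.map_closure, Subring.closure_le]
      rintro _ ⟨t, ht, rfl⟩
      rw [Set.mem_singleton_iff.1 ht]
      exact hmem
    exact hle ⟨f, hf, rfl⟩
  let σ : genRing T →+* genRing T :=
    (c.comp (genRing T).subtype).codRestrict (genRing T) (fun f => hmap f f.2)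
  obtain ⟨n, hn⟩ := ringHom_eq_frobenius_pow (genRing T) p σ
  have h3 := congrArg Subtype.val (hn ⟨T, T_mem T⟩)
  refine ⟨n, ?_⟩
  have h4 : ((σ ⟨T, T_mem T⟩ : genRing T) : AddMonoid.End V) = S * T * S' := rfl
  rw [h4] at h3
  rw [h3]
  rfl

end field

section grp

variable {G : Type*} [Group G]

/-- group form: `N` normal elementary abelian `p`-group on which `x` acts irreducibly; if `h` conjugates
`x` to a power of `x`, then `h x h⁻¹` acts on `N` like `x ^ (p ^ n)` for some `n` -/
theorem conj_acts_like_frobenius_pow (N : Subgroup G) [N.Normal] [Finite N] (hN1 : N ≠ ⊥)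
    (hNc : ∀ a ∈ N, ∀ b ∈ N, a * b = b * a) (p : ℕ) [hp : Fact p.Prime] (hNp : ∀ a ∈ N, a ^ p = 1)
    (x : G) (hirr : ∀ L : Subgroup G, L ≤ N → (∀ l ∈ L, x * l * x⁻¹ ∈ L) → L = ⊥ ∨ L = N)
    (h : G) (k : ℕ) (hk : h * x * h⁻¹ = x ^ k) :
    ∃ n : ℕ, ∀ v ∈ N, (h * x * h⁻¹) * v * (h * x * h⁻¹)⁻¹ = x ^ (p ^ n) * v * (x ^ (p ^ n))⁻¹ := by
  let _ : CommGroup N :=
    { (inferInstance : Group N) with
      mul_comm := fun a b => Subtype.ext (hNc a a.2 b b.2) }
  have hnt : Nontrivial (Additive N) := by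
    have : Nontrivial N := (Subgroup.nontrivial_iff_ne_bot N).2 hN1
    exact (inferInstance : Nontrivial N)
  have hfin : Finite (Additive N) := (inferInstance : Finite N)
  set T : AddMonoid.End (Additive N) := toEndAdd N (MulAut.conjNormal x) with hT
  set S : AddMonoid.End (Additive N) := toEndAdd N (MulAut.conjNormal h) with hS
  set S' : AddMonoid.End (Additive N) := toEndAdd N (MulAut.conjNormal h⁻¹) with hS'
  have h1 : S * S' = 1 := by
    rw [hS, hS', ← map_mul, ← map_mul, mul_inv_cancel, map_one, map_one]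
  have h2 : S' * S = 1 := by
    rw [hS, hS', ← map_mul, ← map_mul, inv_mul_cancel, map_one, map_one]
  have h3 : S * T * S' = T ^ k := by
    rw [hS, hT, hS', ← map_mul, ← map_mul, ← map_mul, ← map_mul, hk, map_pow, map_pow]
  have hmem : S * T * S' ∈ genRing T := by
    rw [h3]; exact pow_mem (T_mem T) k
  have hirr' : ∀ W : AddSubgroup (Additive N), (∀ w ∈ W, T w ∈ W) → W = ⊥ ∨ W = ⊤ := by
    intro W hW
    let L : Subgroup G := (AddSubgroup.toSubgroup W).map N.subtype
    have hLN : L ≤ N := by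
      rintro _ ⟨a, _, rfl⟩
      exact a.2
    have hLx : ∀ l ∈ L, x * l * x⁻¹ ∈ L := by
      rintro _ ⟨a, ha, rfl⟩
      refine ⟨MulAut.conjNormal x a, ?_, ?_⟩
      · exact hW (Additive.ofMul a) ha
      · rw [Subgroup.coe_subtype, MulAut.conjNormal_apply]
    rcases hirr L hLN hLx with hL | hL
    · left
      rw [AddSubgroup.eq_bot_iff_forall]
      intro w hw
      have : ((Additive.toMul w : N) : G) ∈ L := ⟨Additive.toMul w, hw, rfl⟩
      rw [hL, Subgroup.mem_bot] at this
      have h5 : Additive.toMul w = (1 : N) := Subtype.ext this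
      exact h5
    · right
      rw [eq_top_iff]
      intro w _
      have : ((Additive.toMul w : N) : G) ∈ L := by rw [hL]; exact (Additive.toMul w).2
      obtain ⟨a, ha, hae⟩ := this
      have h5 : a = Additive.toMul w := Subtype.ext hae
      have h6 : Additive.ofMul a ∈ W := ha
      rw [h5] at h6
      exact h6
  have hpV : ∀ v : Additive N, p • v = 0 := by
    intro v
    have := hNp (Additive.toMul v : N) (Additive.toMul v).2
    show Additive.ofMul ((Additive.toMul v) ^ p) = 0
    have h5 : (Additive.toMul v) ^ p = (1 : N) := Subtype.ext (by exact_mod_cast this)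
    rw [h5]; rfl
  obtain ⟨n, hn⟩ := conj_eq_frobenius_pow T hirr' p hpV S S' h1 h2 hmem
  refine ⟨n, fun v hv => ?_⟩
  have h6 : S * T * S' = toEndAdd N (MulAut.conjNormal (h * x * h⁻¹)) := by
    rw [hS, hT, hS', ← map_mul, ← map_mul, ← map_mul, ← map_mul]
  have h7 : T ^ (p ^ n) = toEndAdd N (MulAut.conjNormal (x ^ (p ^ n))) := by
    rw [hT, ← map_pow, ← map_pow]
  rw [h6, h7] at hn
  have h8 := DFunLike.congr_fun hn (Additive.ofMul (⟨v, hv⟩ : N))
  rw [toEndAdd_apply, toEndAdd_apply] at h8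
  have h9 : MulAut.conjNormal (h * x * h⁻¹) (⟨v, hv⟩ : N) =
      MulAut.conjNormal (x ^ (p ^ n)) (⟨v, hv⟩ : N) := Additive.ofMul.injective h8
  have h10 := congrArg Subtype.val h9
  rw [MulAut.conjNormal_apply, MulAut.conjNormal_apply] at h10
  exact h10


/-- `x` of prime order `q ≠ p` acting irreducibly and nontrivially on the normal elementary abelian
`p`-group `N`: `|N| = p ^ ord_q(p)` -/
theorem card_eq_pow_orderOf (N : Subgroup G) [N.Normal] [Finite N] (hN1 : N ≠ ⊥)
    (hNc : ∀ a ∈ N, ∀ b ∈ N, a * b = b * a) (p : ℕ) [hp : Fact p.Prime] (hNp : ∀ a ∈ N, a ^ p = 1)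
    (x : G) (hirr : ∀ L : Subgroup G, L ≤ N → (∀ l ∈ L, x * l * x⁻¹ ∈ L) → L = ⊥ ∨ L = N)
    (q : ℕ) [hq : Fact q.Prime] (hpq : p ≠ q) (hxq : x ^ q = 1)
    (hact : ∃ v ∈ N, x * v * x⁻¹ ≠ v) : Nat.card N = p ^ orderOf (p : ZMod q) := by
  let _ : CommGroup N :=
    { (inferInstance : Group N) with
      mul_comm := fun a b => Subtype.ext (hNc a a.2 b b.2) }
  have hnt : Nontrivial (Additive N) := by
    have : Nontrivial N := (Subgroup.nontrivial_iff_ne_bot N).2 hN1
    exact (inferInstance : Nontrivial N)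
  have hfin : Finite (Additive N) := (inferInstance : Finite N)
  set T : AddMonoid.End (Additive N) := toEndAdd N (MulAut.conjNormal x) with hT
  have hirr' : ∀ W : AddSubgroup (Additive N), (∀ w ∈ W, T w ∈ W) → W = ⊥ ∨ W = ⊤ := by
    intro W hW
    let L : Subgroup G := (AddSubgroup.toSubgroup W).map N.subtype
    have hLN : L ≤ N := by
      rintro _ ⟨a, _, rfl⟩
      exact a.2
    have hLx : ∀ l ∈ L, x * l * x⁻¹ ∈ L := by
      rintro _ ⟨a, ha, rfl⟩
      refine ⟨MulAut.conjNormal x a, ?_, ?_⟩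
      · exact hW (Additive.ofMul a) ha
      · rw [Subgroup.coe_subtype, MulAut.conjNormal_apply]
    rcases hirr L hLN hLx with hL | hL
    · left
      rw [AddSubgroup.eq_bot_iff_forall]
      intro w hw
      have : ((Additive.toMul w : N) : G) ∈ L := ⟨Additive.toMul w, hw, rfl⟩
      rw [hL, Subgroup.mem_bot] at this
      have h5 : Additive.toMul w = (1 : N) := Subtype.ext this
      exact h5
    · right
      rw [eq_top_iff]
      intro w _
      have : ((Additive.toMul w : N) : G) ∈ L := by rw [hL]; exact (Additive.toMul w).2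
      obtain ⟨a, ha, hae⟩ := this
      have h5 : a = Additive.toMul w := Subtype.ext hae
      have h6 : Additive.ofMul a ∈ W := ha
      rw [h5] at h6
      exact h6
  have hpV : ∀ v : Additive N, p • v = 0 := by
    intro v
    have := hNp (Additive.toMul v : N) (Additive.toMul v).2
    show Additive.ofMul ((Additive.toMul v) ^ p) = 0
    have h5 : (Additive.toMul v) ^ p = (1 : N) := Subtype.ext (by exact_mod_cast this)
    rw [h5]; rfl
  have hTq : T ^ q = 1 := by
    rw [hT, ← map_pow, ← map_pow, hxq, map_one, map_one]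
  have hT1 : T ≠ 1 := by
    intro h1
    obtain ⟨v, hv, hne⟩ := hact
    apply hne
    have h8 := DFunLike.congr_fun h1 (Additive.ofMul (⟨v, hv⟩ : N))
    rw [hT, toEndAdd_apply] at h8
    have h9 : MulAut.conjNormal x (⟨v, hv⟩ : N) = ⟨v, hv⟩ := Additive.ofMul.injective h8
    have h10 := congrArg Subtype.val h9
    rw [MulAut.conjNormal_apply] at h10
    exact h10
  exact card_eq_of_irreducible (p := q) (q := p) T hirr' hpq hpV hTq hT1

theorem cyclic_quotient_of_frobenius_conj {H : Type*} [Group H] [Finite H] (M : Subgroup H)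
    [M.Normal] (q p d : ℕ) (hq : q.Prime) (hMq : Nat.card M = q) (hd : q ∣ p ^ d - 1)
    (hd0 : 0 < d) (hp0 : 0 < p)
    (hself : ∀ g : H, (∀ m ∈ M, g * m = m * g) → g ∈ M)
    (hfrob : ∀ g : H, ∃ n : ℕ, ∀ m ∈ M, g * m * g⁻¹ = m ^ (p ^ n)) :
    (∃ h : H, (⊤ : Subgroup H) = M ⊔ Subgroup.zpowers h) ∧ Nat.card H ∣ q * d := by
  classical
  have hqf : Fact q.Prime := ⟨hq⟩
  have hcyc : IsCyclic M := isCyclic_of_prime_card hMq
  have hMc : ∀ a b : M, a * b = b * a := fun a b => by
    let _ := IsCyclic.commGroup (α := M)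
    exact mul_comm a b
  have hMexp : ∀ m : M, m ^ q = 1 := fun m => by rw [← hMq]; exact pow_card_eq_one'
  have hpd1 : 1 ≤ p ^ d := Nat.one_le_pow _ _ hp0
  have hcop : Nat.Coprime p q := by
    rw [Nat.coprime_comm, Nat.Prime.coprime_iff_not_dvd hq]
    intro hqp
    have h1 : q ∣ p ^ d := dvd_pow hqp hd0.ne'
    have h2 : q ∣ p ^ d - (p ^ d - 1) := Nat.dvd_sub h1 hd
    have h3 : p ^ d - (p ^ d - 1) = 1 := by omega
    rw [h3] at h2
    exact hq.one_lt.ne' (Nat.dvd_one.1 h2)
  obtain ⟨u, -, hu⟩ := Nat.exists_mul_mod_eq_one_of_coprime hcop hq.one_lt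
  -- the `p`-th power automorphism of `M`
  let π : MulAut M :=
    { toFun := fun a => a ^ p
      invFun := fun a => a ^ u
      left_inv := fun a => by
        show (a ^ p) ^ u = a
        rw [← pow_mul, pow_eq_pow_mod _ (hMexp a), hu, pow_one]
      right_inv := fun a => by
        show (a ^ u) ^ p = a
        rw [← pow_mul, mul_comm, pow_eq_pow_mod _ (hMexp a), hu, pow_one]
      map_mul' := fun a b => (Commute.mul_pow (hMc a b) p) }
  have hπpow : ∀ (n : ℕ) (a : M), (π ^ n) a = a ^ (p ^ n) := by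
    intro n
    induction n with
    | zero => intro a; simp
    | succ n ih =>
      intro a
      rw [pow_succ, MulAut.mul_apply, ih]
      show (a ^ p) ^ (p ^ n) = a ^ (p ^ (n + 1))
      rw [← pow_mul, pow_succ, mul_comm]
  have hπd : π ^ d = 1 := by
    ext a
    rw [hπpow, MulAut.one_apply]
    obtain ⟨t, ht⟩ := hd
    have : p ^ d = 1 + q * t := by omega
    rw [this, pow_add, pow_one, pow_mul, hMexp, one_pow, mul_one]
  let ψ : H →* MulAut M := MulAut.conjNormal
  have hrange : ψ.range ≤ Subgroup.zpowers π := by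
    rintro _ ⟨g, rfl⟩
    obtain ⟨n, hn⟩ := hfrob g
    rw [Subgroup.mem_zpowers_iff]
    refine ⟨n, ?_⟩
    ext a
    rw [zpow_natCast, hπpow]
    show ((a ^ (p ^ n) : M) : H) = ((MulAut.conjNormal g a : M) : H)
    rw [MulAut.conjNormal_apply, hn a a.2]
    rfl
  have hker : ψ.ker = M := by
    ext g
    rw [MonoidHom.mem_ker]
    constructor
    · intro hg
      apply hself
      intro m hm
      have h1 : (ψ g) ⟨m, hm⟩ = ⟨m, hm⟩ := by rw [hg]; rfl
      have h2 := congrArg Subtype.val h1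
      have h3 : g * m * g⁻¹ = m :=
        (MulAut.conjNormal_apply g ⟨m, hm⟩).symm.trans h2
      calc g * m = g * m * g⁻¹ * g := by group
        _ = m * g := by rw [h3]
    · intro hg
      ext a
      show ((MulAut.conjNormal g a : M) : H) = a
      rw [MulAut.conjNormal_apply]
      have := hMc ⟨g, hg⟩ a
      have h4 : g * (a : H) = a * g := congrArg Subtype.val this
      rw [h4, mul_inv_cancel_right]
  have hcard : Nat.card H = q * Nat.card ψ.range := by
    rw [← Subgroup.index_ker, hker, ← hMq]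
    exact (Subgroup.card_mul_index M).symm
  have hdvd : Nat.card ψ.range ∣ d := by
    have h1 := Subgroup.card_dvd_of_le hrange
    rw [Nat.card_zpowers] at h1
    exact h1.trans (orderOf_dvd_of_pow_eq_one hπd)
  refine ⟨?_, by rw [hcard]; exact Nat.mul_dvd_mul_left q hdvd⟩
  have hcycr : IsCyclic ψ.range := Subgroup.isCyclic_of_le hrange
  obtain ⟨⟨y, ⟨h, rfl⟩⟩, hy⟩ := hcycr.exists_generator
  refine ⟨h, ?_⟩
  symm
  rw [eq_top_iff]
  intro g _
  have h1 := hy ⟨ψ g, ⟨g, rfl⟩⟩
  rw [Subgroup.mem_zpowers_iff] at h1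
  obtain ⟨j, hj⟩ := h1
  have h2 : ψ h ^ j = ψ g := congrArg Subtype.val hj
  have h3 : g * (h ^ j)⁻¹ ∈ M := by
    rw [← hker, MonoidHom.mem_ker, map_mul, map_inv, map_zpow, h2, mul_inv_cancel]
  have h4 : g = (g * (h ^ j)⁻¹) * h ^ j := by group
  rw [h4]
  exact Subgroup.mul_mem_sup h3 (Subgroup.zpow_mem_zpowers h j)


/-- an abelian subgroup acting fixed-point-freely (by conjugation) on a nontrivial normal abelian
subgroup of coprime prime exponent is cyclic -/
theorem isCyclic_of_fpf (N : Subgroup G) [N.Normal] (hN1 : N ≠ ⊥)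
    (hNc : ∀ a ∈ N, ∀ b ∈ N, a * b = b * a) (p : ℕ) (hp : p.Prime) (hNp : ∀ a ∈ N, a ^ p = 1)
    (M : Subgroup G) [Finite M] (hMc : ∀ a ∈ M, ∀ b ∈ M, a * b = b * a)
    (hcop : (Nat.card M).Coprime p)
    (hfpf : ∀ m ∈ M, m ≠ 1 → ∀ v ∈ N, m * v * m⁻¹ = v → v = 1) : IsCyclic M := by
  by_contra hnc
  let _ : CommGroup M :=
    { (inferInstance : Group M) with
      mul_comm := fun a b => Subtype.ext (hMc a a.2 b b.2) }
  let _ : CommGroup N :=
    { (inferInstance : Group N) with
      mul_comm := fun a b => Subtype.ext (hNc a a.2 b b.2) }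
  obtain ⟨q', hq', a, b, haq, hbq, hb1, hab⟩ := Cfsg.Agent.Lib.Helper1.exists_noncyclic_pair hnc
  have hq'f : Fact q'.Prime := ⟨hq'⟩
  -- q' divides |M|
  have hq'M : q' ∣ Nat.card M := by
    have h1 : orderOf b = q' := by
      rcases (Nat.dvd_prime hq').1 (orderOf_dvd_of_pow_eq_one hbq) with h | h
      · exact absurd (orderOf_eq_one_iff.1 h) hb1
      · exact h
    rw [← h1]; exact orderOf_dvd_natCard b
  have hq'p : Nat.Coprime q' p := Nat.Coprime.coprime_dvd_left hq'M hcop
  set α' : MulAut N := MulAut.conjNormal (a : G) with hα'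
  set β' : MulAut N := MulAut.conjNormal (b : G) with hβ'
  have hαβ : α' * β' = β' * α' := by
    rw [hα', hβ', ← map_mul, ← map_mul]
    congr 1
    exact hMc a a.2 b b.2
  have hα : α' ^ q' = 1 := by
    rw [hα', ← map_pow]
    have : (a : G) ^ q' = 1 := by exact_mod_cast congrArg Subtype.val haq
    rw [this, map_one]
  have hβ : β' ^ q' = 1 := by
    rw [hβ', ← map_pow]
    have : (b : G) ^ q' = 1 := by exact_mod_cast congrArg Subtype.val hbq
    rw [this, map_one]
  have hfix : ∀ m : M, m ≠ 1 → Cfsg.Agent.Lib.Helper1.fixSub (MulAut.conjNormal (m : G) : MulAut N) = ⊥ := by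
    intro m hm
    rw [Subgroup.eq_bot_iff_forall]
    intro v hv
    rw [Cfsg.Agent.Lib.Helper1.mem_fixSub] at hv
    have h1 := congrArg Subtype.val hv
    rw [MulAut.conjNormal_apply] at h1
    have hm' : (m : G) ≠ 1 := fun h => hm (Subtype.ext h)
    exact Subtype.ext (hfpf m m.2 hm' v v.2 h1)
  have hsup : (⨆ j : ℕ, Cfsg.Agent.Lib.Helper1.fixSub (α' * β' ^ j)) ⊔
      Cfsg.Agent.Lib.Helper1.fixSub β' = ⊥ := by
    rw [sup_eq_bot_iff, iSup_eq_bot]
    refine ⟨fun j => ?_, ?_⟩
    · have h1 : α' * β' ^ j = MulAut.conjNormal (((a * b ^ j : M) : M) : G) := by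
        rw [hα', hβ', ← map_pow, ← map_mul]
        rfl
      rw [h1]
      exact hfix _ (hab j)
    · exact hfix b hb1
  apply hN1
  rw [Subgroup.eq_bot_iff_forall]
  intro v hv
  have h1 := Cfsg.Agent.Lib.Helper1.trace_identity α' β' hαβ hα hβ (⟨v, hv⟩ : N)
  rw [hsup, Subgroup.mem_bot] at h1
  have h2 : v ^ q' = 1 := by
    have := congrArg Subtype.val h1
    rwa [Subgroup.coe_pow] at this
  have h3 : v ^ p = 1 := hNp v hv
  have h4 : orderOf v ∣ Nat.gcd q' p :=
    Nat.dvd_gcd (orderOf_dvd_of_pow_eq_one h2) (orderOf_dvd_of_pow_eq_one h3)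
  rw [hq'p.gcd_eq_one, Nat.dvd_one, orderOf_eq_one_iff] at h4
  exact h4

end grp

section reg

variable {G : Type*} [Group G] {Ω : Type*} [MulAction G Ω]

/-- a finite solvable primitive group has a regular normal elementary abelian subgroup -/
theorem exists_regular_normal [Finite G] [Finite Ω] [FaithfulSMul G Ω] [Group.IsSolvable G]
    [Nontrivial Ω] (hprim : IsPreprimitive G Ω) :
    ∃ (N : Subgroup G) (r : ℕ), N.Normal ∧ N ≠ ⊥ ∧ r.Prime ∧ IsMulCommutative N ∧
      (∀ n ∈ N, n ^ r = 1) ∧ IsPretransitive N Ω ∧ (∀ ω : Ω, stabilizer N ω = ⊥) := by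
  have htr := hprim.toIsPretransitive
  have hGnt : Nontrivial G := by
    obtain ⟨a, b, hab⟩ := exists_pair_ne Ω
    obtain ⟨g, hg⟩ := exists_smul_eq G a b
    refine ⟨⟨g, 1, fun h => hab ?_⟩⟩
    rw [← hg, h, one_smul]
  obtain ⟨N, hN⟩ := Cfsg.Agent.Lib.Helper1.exists_isMinNormal (G := G)
  have hNn : N.Normal := hN.1
  have hNc : IsMulCommutative N := hN.isMulCommutative
  obtain ⟨r, hr, hexp⟩ := hN.exists_prime_pow_eq_one
  have hNtr : IsPretransitive N Ω := by
    apply IsQuasiPreprimitive.isPretransitive_of_normal (G := G)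
    intro htop
    apply hN.2.1
    rw [Subgroup.eq_bot_iff_forall]
    intro n hn
    apply FaithfulSMul.eq_of_smul_eq_smul (α := Ω)
    intro x
    have hx : x ∈ fixedPoints N Ω := by rw [htop]; trivial
    rw [one_smul]
    exact hx ⟨n, hn⟩
  refine ⟨N, r, hNn, hN.2.1, hr, hNc, hexp, hNtr, fun ω => ?_⟩
  rw [Subgroup.eq_bot_iff_forall]
  intro n hn
  rw [mem_stabilizer_iff] at hn
  apply Subtype.ext
  apply FaithfulSMul.eq_of_smul_eq_smul (α := Ω)
  intro x
  obtain ⟨m, rfl⟩ := exists_smul_eq N ω x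
  have hcomm : n * m = m * n := hNc.is_comm.comm n m
  show ((n : N) : G) • (m • ω) = (1 : G) • (m • ω)
  rw [one_smul]
  calc ((n : N) : G) • (m • ω) = (n * m) • ω := (mul_smul n m ω).symm
    _ = (m * n) • ω := by rw [hcomm]
    _ = m • ω := by rw [mul_smul, hn]

end reg

end Cfsg.Agent.Lib.Helper19.ExtPrim
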