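import Mathlib
import Cfsg.Prelude.Def_ClassicalGeometry
import Cfsg.Prelude.Def_GeometricClasses
import Cfsg.Agent.Lib.Helper5.SpMax
import Cfsg.Agent.Lib.Helper22.C3Defs
import Cfsg.Agent.Lib.Helper22.C3Tool
import Cfsg.Agent.Lib.Helper23.C3E
import Cfsg.Agent.Lib.Helper26.C3Gcore

/-!
S5804 conjunct (6) (GU_3(q).2 < Sp_6(q), q odd; helper22's market, `notes/S5804_GU3_leaves.lean`): leaf **G**
`nonsing_mem_Sset_of3` (exact signature): non-singular vectors are in `Sset M`, with the new case (B) (`u` singular).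
-/

set_option autoImplicit false

namespace Cfsg.Agent.Lib.Helper19.GU3Leaf
open Cfsg Matrix Cfsg.Agent.Lib.Helper5 Cfsg.Agent.Lib.Helper5.SpMax Cfsg.Agent.Lib.Helper22.C3
  Cfsg.Agent.Lib.Helper22.C3Leaf Cfsg.Agent.Lib.Helper23.C3Leaf Cfsg.Agent.Lib.Helper26.C3Leaf

variable {F : Type*} [Field F] {m : ℕ}

local notation "𝕍" => (Fin m ⊕ Fin m → F)
local notation "𝕄" => Matrix (Fin m ⊕ Fin m) (Fin m ⊕ Fin m) F

/-- `f(p, J q) = f(q, J p)` -/
lemma gu3_form_J_comm (S : CS m F) (p r : 𝕍) :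
    sympForm m F p (S.J *ᵥ r) = sympForm m F r (S.J *ᵥ p) := by
  have h1 := S.skew r p
  rw [sympForm_swap m p (S.J *ᵥ r), h1, neg_neg]

/-- case (A): `v = (s + t J) x + u` with `u` non-singular, perpendicular to `K x` -/
theorem gu3_caseA (S : CS m F) (h2 : (2 : F) ≠ 0)
    (hE1p : ∀ x u : 𝕍, S.N x ≠ 0 → S.N u ≠ 0 → sympForm m F u x = 0 →
      sympForm m F u (S.J *ᵥ x) = 0 →
      ∃ y : 𝕍, S.N y ≠ 0 ∧ sympForm m F y x = 0 ∧ sympForm m F y (S.J *ᵥ x) = 0 ∧
        sympForm m F y u = 0 ∧ sympForm m F y (S.J *ᵥ u) = 0)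
    (hE2 : ∀ n : F, ∃ s t : F, s * s - S.δ * (t * t) = n)
    (M : Subgroup (GL (Fin m ⊕ Fin m) F)) (hMS : M ≤ spGL m F)
    (hM : ∀ g ∈ spGL m F, (g : 𝕄) * S.J = S.J * (g : 𝕄) → g ∈ M)
    (x : 𝕍) (hx : S.N x ≠ 0) (hxS : x ∈ Sset M) (α β : F) (u : 𝕍) (hu : S.N u ≠ 0)
    (hux : sympForm m F u x = 0) (huJx : sympForm m F u (S.J *ᵥ x) = 0)
    (hv : S.N (S.act α β x + u) ≠ 0) : S.act α β x + u ∈ Sset M := by
  obtain ⟨y, hy, hyx, hyJx, hyu, hyJu⟩ := hE1p x u hx hu hux huJx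
  have hyS : y ∈ Sset M :=
    perp_mem_Sset_of S h2 hE2 M hMS hM x hx (act_mem_Sset S h2 M hMS hM x hx hxS) y hy hyx hyJx
  have hxy : sympForm m F x y = 0 := by rw [sympForm_swap, hyx, neg_zero]
  have huy : sympForm m F u y = 0 := by rw [sympForm_swap, hyu, neg_zero]
  have hJxy : sympForm m F (S.J *ᵥ x) y = 0 := by rw [sympForm_swap, hyJx, neg_zero]
  have hxJy : sympForm m F x (S.J *ᵥ y) = 0 := by rw [gu3_form_J_comm, hyJx]
  have huJy : sympForm m F u (S.J *ᵥ y) = 0 := by rw [gu3_form_J_comm, hyJu]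
  have hJxJy : sympForm m F (S.J *ᵥ x) (S.J *ᵥ y) = 0 := by rw [S.form_JJ, hxy, mul_zero]
  have hvy : sympForm m F (S.act α β x + u) y = 0 := by
    unfold CS.act
    simp only [sympForm_add_left, sympForm_smul_left, hxy, hJxy, huy]
    ring
  have hvJy : sympForm m F (S.act α β x + u) (S.J *ᵥ y) = 0 := by
    unfold CS.act
    simp only [sympForm_add_left, sympForm_smul_left, hxJy, hJxJy, huJy]
    ring
  exact perp_mem_Sset_of S h2 hE2 M hMS hM y hy (act_mem_Sset S h2 M hMS hM y hy hyS) _ hv hvy hvJy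

/-- **G** -/
theorem nonsing_mem_Sset_of3 (S : CS m F) (h2 : (2 : F) ≠ 0)
    (hE1p : ∀ x u : 𝕍, S.N x ≠ 0 → S.N u ≠ 0 → sympForm m F u x = 0 →
      sympForm m F u (S.J *ᵥ x) = 0 →
      ∃ y : 𝕍, S.N y ≠ 0 ∧ sympForm m F y x = 0 ∧ sympForm m F y (S.J *ᵥ x) = 0 ∧
        sympForm m F y u = 0 ∧ sympForm m F y (S.J *ᵥ u) = 0)
    (hE2 : ∀ n : F, ∃ s t : F, s * s - S.δ * (t * t) = n)
    (hE3 : ∀ (x w : 𝕍), S.N x ≠ 0 → w ≠ 0 → sympForm m F w x = 0 →
      sympForm m F w (S.J *ᵥ x) = 0 →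
      ∃ a : 𝕍, S.N a = 0 ∧ sympForm m F a x = 0 ∧ sympForm m F a (S.J *ᵥ x) = 0 ∧
        sympForm m F w a ≠ 0)
    (M : Subgroup (GL (Fin m ⊕ Fin m) F)) (hMS : M ≤ spGL m F)
    (hM : ∀ g ∈ spGL m F, (g : 𝕄) * S.J = S.J * (g : 𝕄) → g ∈ M)
    (x : 𝕍) (hx : S.N x ≠ 0) (hxS : x ∈ Sset M) (v : 𝕍) (hv : S.N v ≠ 0) : v ∈ Sset M := by
  classical
  have hNx : sympForm m F x (S.J *ᵥ x) = S.N x := rfl
  have hJxx : sympForm m F (S.J *ᵥ x) x = - S.N x := S.form_J_self x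
  have hJxJx : sympForm m F (S.J *ᵥ x) (S.J *ᵥ x) = 0 := sympForm_self m _
  set α : F := sympForm m F v (S.J *ᵥ x) / S.N x with hα
  set β : F := - sympForm m F v x / S.N x with hβ
  set x' : 𝕍 := S.act α β x with hx'
  set u : 𝕍 := v - x' with hu
  have hvxu : v = x' + u := by rw [hu]; abel
  have hux : sympForm m F u x = 0 := by
    rw [hu, hx']
    unfold CS.act
    simp only [sympForm_sub_left, sympForm_add_left, sympForm_smul_left, sympForm_self, hJxx]
    rw [hβ]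
    field_simp
    ring
  have huJx : sympForm m F u (S.J *ᵥ x) = 0 := by
    rw [hu, hx']
    unfold CS.act
    simp only [sympForm_sub_left, sympForm_add_left, sympForm_smul_left, hNx, hJxJx]
    rw [hα]
    field_simp
    ring
  by_cases hNu : S.N u ≠ 0
  · rw [hvxu]
    exact gu3_caseA S h2 hE1p hE2 M hMS hM x hx hxS α β u hNu hux huJx (by rw [← hvxu]; exact hv)
  rw [not_not] at hNu
  have hx'S : x' ∈ Sset M := act_mem_Sset S h2 M hMS hM x hx hxS α β
  by_cases hu0 : u = 0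
  · rw [hvxu, hu0, add_zero]
    exact hx'S
  -- case (B)
  have hJx' : S.J *ᵥ x' = α • (S.J *ᵥ x) + (β * S.δ) • x := by
    rw [hx']
    unfold CS.act
    rw [Matrix.mulVec_add, Matrix.mulVec_smul, Matrix.mulVec_smul, S.JJ, smul_smul]
  have hux' : sympForm m F u x' = 0 := by
    rw [hx']
    unfold CS.act
    rw [sympForm_add_right, sympForm_smul_right, sympForm_smul_right, hux, huJx, mul_zero, mul_zero, add_zero]
  have huJx' : sympForm m F u (S.J *ᵥ x') = 0 := by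
    rw [hJx', sympForm_add_right, sympForm_smul_right, sympForm_smul_right, hux, huJx, mul_zero, mul_zero,
      add_zero]
  have hx'Ju : sympForm m F x' (S.J *ᵥ u) = 0 := by rw [gu3_form_J_comm, huJx']
  have hNuf : sympForm m F u (S.J *ᵥ u) = 0 := hNu
  have hNx' : S.N x' ≠ 0 := by
    have e : S.N v = S.N x' := by
      rw [hvxu]
      unfold CS.N
      rw [Matrix.mulVec_add, sympForm_add_left, sympForm_add_right, sympForm_add_right, hx'Ju, huJx', hNuf]
      ring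
    rw [← e]
    exact hv
  obtain ⟨a0, ha0N, ha0x, ha0Jx, hφ0⟩ := hE3 x' u hNx' hu0 hux' huJx'
  -- WLOG `f(u, J a) ≠ 0`
  obtain ⟨a, haN, hax, haJx, hφ, hψ⟩ : ∃ a : 𝕍, S.N a = 0 ∧ sympForm m F a x' = 0 ∧
      sympForm m F a (S.J *ᵥ x') = 0 ∧ sympForm m F u a ≠ 0 ∧ sympForm m F u (S.J *ᵥ a) ≠ 0 := by
    by_cases hψ0 : sympForm m F u (S.J *ᵥ a0) ≠ 0
    · exact ⟨a0, ha0N, ha0x, ha0Jx, hφ0, hψ0⟩
    · rw [not_not] at hψ0
      have ha0Nf : sympForm m F a0 (S.J *ᵥ a0) = 0 := ha0N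
      have hJa0x : sympForm m F (S.J *ᵥ a0) x' = 0 := by rw [S.skew, ha0Jx, neg_zero]
      have hJa0Jx : sympForm m F (S.J *ᵥ a0) (S.J *ᵥ x') = 0 := by rw [S.form_JJ, ha0x, mul_zero]
      refine ⟨a0 + S.J *ᵥ a0, ?_, ?_, ?_, ?_, ?_⟩
      · unfold CS.N
        rw [Matrix.mulVec_add, S.JJ]
        simp only [sympForm_add_left, sympForm_add_right, sympForm_smul_right, sympForm_self, ha0Nf,
          S.form_J_self]
        rw [ha0N]
        ring
      · rw [sympForm_add_left, ha0x, hJa0x, add_zero]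
      · rw [sympForm_add_left, ha0Jx, hJa0Jx, add_zero]
      · rw [sympForm_add_right, hψ0, add_zero]
        exact hφ0
      · rw [Matrix.mulVec_add, S.JJ, sympForm_add_right, sympForm_smul_right, hψ0, zero_add]
        exact mul_ne_zero S.δ_ne_zero hφ0
  set φ := sympForm m F u a with hφd
  set ψ := sympForm m F u (S.J *ᵥ a) with hψd
  -- the sign
  obtain ⟨s, hs2, hs⟩ : ∃ s : F, s * s = 1 ∧ S.N x' + 4 * s * ψ ≠ 0 := by
    by_cases h : S.N x' + 4 * ψ ≠ 0
    · exact ⟨1, one_mul 1, by rw [mul_one]; exact h⟩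
    · rw [not_not] at h
      refine ⟨-1, by ring, ?_⟩
      have e : S.N x' + 4 * (-1) * ψ = 2 * S.N x' := by linear_combination -h
      rw [e]
      exact mul_ne_zero h2 hNx'
  have hs0 : s ≠ 0 := by
    rintro rfl
    rw [mul_zero] at hs2
    exact zero_ne_one hs2
  -- base values
  have hNa : sympForm m F a (S.J *ᵥ a) = 0 := haN
  have haJu : sympForm m F a (S.J *ᵥ u) = ψ := by rw [gu3_form_J_comm]
  have hau : sympForm m F a u = -φ := by rw [sympForm_swap]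
  have hx'Ja : sympForm m F x' (S.J *ᵥ a) = 0 := by rw [gu3_form_J_comm, haJx]
  have hx'u : sympForm m F x' u = 0 := by rw [sympForm_swap, hux', neg_zero]
  have hx'a : sympForm m F x' a = 0 := by rw [sympForm_swap, hax, neg_zero]
  have hNx'f : sympForm m F x' (S.J *ᵥ x') = S.N x' := rfl
  set b1 : 𝕍 := (2 : F) • u + s • a with hb1
  set b2 : 𝕍 := -u - s • a with hb2
  have hNb1 : S.N b1 = 4 * s * ψ := by
    unfold CS.N
    rw [hb1, Matrix.mulVec_add, Matrix.mulVec_smul, Matrix.mulVec_smul]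
    simp only [sympForm_add_left, sympForm_add_right, sympForm_smul_left, sympForm_smul_right, hNuf, hNa, haJu]
    rw [← hψd]
    ring
  have hNb2 : S.N b2 = 2 * s * ψ := by
    unfold CS.N
    rw [hb2, Matrix.mulVec_sub, Matrix.mulVec_neg, Matrix.mulVec_smul]
    simp only [sympForm_sub_left, sympForm_sub_right, sympForm_neg_left, sympForm_neg_right, sympForm_smul_left,
      sympForm_smul_right, hNuf, hNa, haJu]
    rw [← hψd]
    ring
  have hb1x : sympForm m F b1 x' = 0 := by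
    rw [hb1, sympForm_add_left, sympForm_smul_left, sympForm_smul_left, hux', hax, mul_zero, mul_zero, add_zero]
  have hb1Jx : sympForm m F b1 (S.J *ᵥ x') = 0 := by
    rw [hb1, sympForm_add_left, sympForm_smul_left, sympForm_smul_left, huJx', haJx, mul_zero, mul_zero, add_zero]
  have hb2x : sympForm m F b2 x' = 0 := by
    rw [hb2, sympForm_sub_left, sympForm_neg_left, sympForm_smul_left, hux', hax, mul_zero, neg_zero, sub_zero]
  have hb2Jx : sympForm m F b2 (S.J *ᵥ x') = 0 := by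
    rw [hb2, sympForm_sub_left, sympForm_neg_left, sympForm_smul_left, huJx', haJx, mul_zero, neg_zero, sub_zero]
  have hNb1' : S.N b1 ≠ 0 := by
    rw [hNb1]
    exact mul_ne_zero (mul_ne_zero (by
      have : (4 : F) = 2 * 2 := by norm_num
      rw [this]; exact mul_ne_zero h2 h2) hs0) hψ
  have hNb2' : S.N b2 ≠ 0 := by
    rw [hNb2]
    exact mul_ne_zero (mul_ne_zero h2 hs0) hψ
  have hNxb1 : S.N (S.act 1 0 x' + b1) ≠ 0 := by
    have e : S.N (S.act 1 0 x' + b1) = S.N x' + 4 * s * ψ := by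
      have e1 : S.act 1 0 x' = x' := by unfold CS.act; rw [one_smul, zero_smul, add_zero]
      rw [e1, ← hNb1]
      unfold CS.N
      rw [Matrix.mulVec_add, sympForm_add_left, sympForm_add_right, sympForm_add_right, hb1Jx,
        gu3_form_J_comm S x' b1, hb1Jx]
      ring
    rw [e]
    exact hs
  have h1 : S.act 1 0 x' + b1 ∈ Sset M :=
    gu3_caseA S h2 hE1p hE2 M hMS hM x' hNx' hx'S 1 0 b1 hNb1' hb1x hb1Jx hNxb1
  have e1 : S.act 1 0 x' = x' := by unfold CS.act; rw [one_smul, zero_smul, add_zero]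
  rw [e1] at h1
  have h2' : b2 ∈ Sset M :=
    perp_mem_Sset_of S h2 hE2 M hMS hM x' hNx' (act_mem_Sset S h2 M hMS hM x' hNx' hx'S) b2 hNb2' hb2x hb2Jx
  have h3 : sympForm m F (x' + b1) b2 ≠ 0 := by
    have e : sympForm m F (x' + b1) b2 = -(s * φ) := by
      rw [hb1, hb2]
      simp only [sympForm_add_left, sympForm_sub_right, sympForm_neg_right, sympForm_smul_left,
        sympForm_smul_right, sympForm_self, hx'u, hx'a, hau]
      rw [← hφd]
      ring
    rw [e]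
    exact neg_ne_zero.mpr (mul_ne_zero hs0 hφ)
  have := g_Sset_add hMS h1 h2' h3 1
  have e2 : x' + b1 + (1 : F) • b2 = v := by
    rw [hvxu, hb1, hb2, one_smul, two_smul]
    abel
  rwa [e2] at this

end Cfsg.Agent.Lib.Helper19.GU3Leaf
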