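import Mathlib
import Cfsg.Prelude.Def_ClassicalGeometry
import Cfsg.Prelude.Def_GeometricClasses
import Cfsg.Agent.Lib.Helper5.SpMax
import Cfsg.Agent.Lib.Helper22.C3Defs
import Cfsg.Agent.Lib.Helper22.C3Tool
import Cfsg.Agent.Lib.Helper23.C3E
import Cfsg.Agent.Lib.Helper26.C3Gcore

/-!
S5804 conjunct (6) (GU_3(q).2 < Sp_6(q), q odd; helper22's market, `notes/S5804_GU3_leaves.lean`): leaf **G2**
`le_of_nonsing_mem_Sset` (exact signature) = second half of helper13's `le_of_mem_Sset_of5`.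
-/

set_option autoImplicit false

namespace Cfsg.Agent.Lib.Helper19.GU3Leaf
open Cfsg Matrix Cfsg.Agent.Lib.Helper5 Cfsg.Agent.Lib.Helper5.SpMax Cfsg.Agent.Lib.Helper22.C3
  Cfsg.Agent.Lib.Helper22.C3Leaf Cfsg.Agent.Lib.Helper23.C3Leaf Cfsg.Agent.Lib.Helper26.C3Leaf

variable {F : Type*} [Field F] {m : ℕ}

local notation "𝕍" => (Fin m ⊕ Fin m → F)
local notation "𝕄" => Matrix (Fin m ⊕ Fin m) (Fin m ⊕ Fin m) F

/-- **G2** -/
theorem le_of_nonsing_mem_Sset (S : CS m F) (h2 : (2 : F) ≠ 0)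
    (M : Subgroup (GL (Fin m ⊕ Fin m) F)) (hMS : M ≤ spGL m F)
    (hns : ∀ v : 𝕍, S.N v ≠ 0 → v ∈ Sset M) : spGL m F ≤ M := by
  apply le_of_forall_mem_Sset
  intro a
  by_cases ha0 : a = 0
  · intro c
    have : tvc (0 : 𝕍) c = 1 := by
      apply Units.ext
      apply mat_eq_of_mulVec
      intro u
      rw [tvc_mulVec, smul_zero, add_zero, Units.val_one, Matrix.one_mulVec]
    rw [ha0, this]
    exact M.one_mem
  by_cases haN : S.N a ≠ 0
  · exact hns a haN
  rw [not_not] at haN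
  obtain ⟨b, hb⟩ := sympForm_nondeg a ha0
  -- notation
  have hδ := S.δ_ne_zero
  set φ := sympForm m F a b with hφ
  set β₀ := sympForm m F a (S.J *ᵥ b) with hβ
  -- the target norm
  obtain ⟨τ, hτ0, hτ1⟩ : ∃ τ : F, τ ≠ 0 ∧ τ ≠ 2 * β₀ := by
    by_cases h : 2 * β₀ = 1
    · refine ⟨-1, neg_ne_zero.mpr one_ne_zero, ?_⟩
      rw [h]
      intro h'
      apply h2
      have : (2 : F) = 1 - (-1) := by ring
      rw [this, h', sub_self]
    · exact ⟨1, one_ne_zero, fun h' => h h'.symm⟩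
  set μ := (S.N b - τ) / (2 * S.δ * φ) with hμ
  set w := b + μ • (S.J *ᵥ a) with hw
  have hJw : S.J *ᵥ w = S.J *ᵥ b + (μ * S.δ) • a := by
    rw [hw, Matrix.mulVec_add, Matrix.mulVec_smul, S.JJ, smul_smul]
  have haJa : sympForm m F a (S.J *ᵥ a) = 0 := haN
  have hJaa : sympForm m F (S.J *ᵥ a) a = 0 := by rw [S.form_J_self, haN, neg_zero]
  have hfaw : sympForm m F a w = φ := by
    rw [hw, sympForm_add_right, sympForm_smul_right, haJa, mul_zero, add_zero]
  have hbaw : sympForm m F a (S.J *ᵥ w) = β₀ := by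
    rw [hJw, sympForm_add_right, sympForm_smul_right, sympForm_self, mul_zero, add_zero]
  have hJab : sympForm m F (S.J *ᵥ a) (S.J *ᵥ b) = - S.δ * φ := S.form_JJ a b
  have hba : sympForm m F b a = - φ := by rw [sympForm_swap]
  have hNw : S.N w = τ := by
    unfold CS.N
    rw [hJw, hw]
    simp only [sympForm_add_left, sympForm_add_right, sympForm_smul_left, sympForm_smul_right,
      hJab, hJaa, hba]
    have : sympForm m F b (S.J *ᵥ b) = S.N b := rfl
    rw [this, hμ]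
    field_simp
    ring
  have hwJa : sympForm m F w (S.J *ᵥ a) = β₀ := by
    have := S.skew w a
    rw [← neg_eq_iff_eq_neg] at this
    rw [← this, sympForm_swap, neg_neg, hbaw]
  have hNaw : S.N (a - w) = τ - 2 * β₀ := by
    unfold CS.N
    rw [Matrix.mulVec_sub, sympForm_sub_left, sympForm_sub_right, sympForm_sub_right, haJa,
      hbaw, hwJa]
    have : sympForm m F w (S.J *ᵥ w) = τ := hNw
    rw [this]
    ring
  have h1 : a - w ∈ Sset M := hns _ (by rw [hNaw]; exact sub_ne_zero.mpr hτ1)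
  have h2' : w ∈ Sset M := hns _ (by rw [hNw]; exact hτ0)
  have h3 : sympForm m F (a - w) w ≠ 0 := by
    rw [sympForm_sub_left, sympForm_self, sub_zero, hfaw]
    exact hb
  have := g_Sset_add hMS h1 h2' h3 1
  rwa [one_smul, sub_add_cancel] at this

end Cfsg.Agent.Lib.Helper19.GU3Leaf
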