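import Mathlib
/-! Transport of a permutation group `H ≤ Perm X` along a bijection `f : X ≃ Y`. -/
set_option autoImplicit false

namespace Cfsg.Agent.Lib.Helper19

open MulAction

section
variable {X Y : Type*} (f : X ≃ Y) (H : Subgroup (Equiv.Perm X))

/-- the transported subgroup -/
def transportSubgroup : Subgroup (Equiv.Perm Y) := H.map f.permCongrHom.toMonoidHom

/-- the isomorphism onto the transported subgroup -/
noncomputable def transportEquiv : ↥H ≃* ↥(transportSubgroup f H) :=
  H.equivMapOfInjective f.permCongrHom.toMonoidHom f.permCongrHom.injective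

theorem transportEquiv_smul (h : ↥H) (x : X) : (transportEquiv f H h) • f x = f (h • x) := by
  show ((transportEquiv f H h : ↥(transportSubgroup f H)) : Equiv.Perm Y) (f x) = f ((h : Equiv.Perm X) x)
  have : ((transportEquiv f H h : ↥(transportSubgroup f H)) : Equiv.Perm Y) = f.permCongrHom (h : Equiv.Perm X) := rfl
  rw [this]
  simp [Equiv.permCongrHom, Equiv.permCongr_apply]

/-- the equivariant map -/
noncomputable def transportMap : X →ₑ[⇑(transportEquiv f H)] Y where
  toFun := f
  map_smul' h x := (transportEquiv_smul f H h x).symm

theorem transportMap_bijective : Function.Bijective (transportMap f H) := f.bijective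

theorem transport_mono {H K : Subgroup (Equiv.Perm X)} (h : H ≤ K) :
    transportSubgroup f H ≤ transportSubgroup f K := Subgroup.map_mono h

theorem transport_isPretransitive :
    IsPretransitive ↥H X ↔ IsPretransitive ↥(transportSubgroup f H) Y :=
  isPretransitive_congr (transportEquiv f H).surjective (transportMap_bijective f H)

theorem transport_isPreprimitive :
    IsPreprimitive ↥H X ↔ IsPreprimitive ↥(transportSubgroup f H) Y :=
  isPreprimitive_congr (transportEquiv f H).surjective (transportMap_bijective f H)

theorem transport_isMultiplyPretransitive (n : ℕ) :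
    IsMultiplyPretransitive ↥H X n ↔ IsMultiplyPretransitive ↥(transportSubgroup f H) Y n :=
  IsPretransitive.of_embedding_congr (transportEquiv f H).surjective (transportMap_bijective f H)

theorem transport_stabilizer_eq_bot (hst : ∀ a : X, stabilizer ↥H a = ⊥) :
    ∀ b : Y, stabilizer ↥(transportSubgroup f H) b = ⊥ := by
  intro b
  rw [eq_bot_iff]
  intro g hg
  rw [Subgroup.mem_bot]
  obtain ⟨h, rfl⟩ := (transportEquiv f H).surjective g
  obtain ⟨a, rfl⟩ := f.surjective b
  rw [mem_stabilizer_iff, transportEquiv_smul] at hg
  have h1 : h ∈ stabilizer ↥H a := by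
    rw [mem_stabilizer_iff]
    exact f.injective hg
  rw [hst a, Subgroup.mem_bot] at h1
  rw [h1, map_one]

end

end Cfsg.Agent.Lib.Helper19
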