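import Mathlib
import Cfsg.Agent.Lib.Helper19.PermTransport
/-! The automorphism group of the Hamming graph on `ι → Fin m` is primitive (for `m ≥ 3`),
not 2-transitive (for `|ι| ≥ 2`), and contains regular subgroups isomorphic to any product of
groups of order `m`. -/
set_option autoImplicit false

namespace Cfsg.Agent.Lib.Helper19

open MulAction
open scoped Pointwise

section
set_option linter.unusedSectionVars false
variable {ι : Type*} [Fintype ι] [DecidableEq ι] {m : ℕ}

/-- adjacency in the Hamming graph: the points differ in exactly one coordinate -/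
def HAdj (x y : ι → Fin m) : Prop := (Finset.univ.filter (fun i => x i ≠ y i)).card = 1

/-- automorphism group of the Hamming graph -/
def hammingAut (ι : Type*) [Fintype ι] [DecidableEq ι] (m : ℕ) :
    Subgroup (Equiv.Perm (ι → Fin m)) where
  carrier := {τ | ∀ x y, HAdj (τ x) (τ y) ↔ HAdj x y}
  mul_mem' := by
    intro a b ha hb x y
    rw [Equiv.Perm.mul_apply, Equiv.Perm.mul_apply, ha, hb]
  one_mem' := fun x y => Iff.rfl
  inv_mem' := by
    intro a ha x y
    have := ha (a⁻¹ x) (a⁻¹ y)
    simp only [Equiv.Perm.coe_inv, Equiv.apply_symm_apply] at this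
    simp only [Equiv.Perm.coe_inv]
    exact this.symm

theorem mem_hammingAut {τ : Equiv.Perm (ι → Fin m)} :
    τ ∈ hammingAut ι m ↔ ∀ x y, HAdj (τ x) (τ y) ↔ HAdj x y := Iff.rfl

/-- coordinatewise permutations -/
def coordPermHom (ι : Type*) (m : ℕ) : (ι → Equiv.Perm (Fin m)) →* Equiv.Perm (ι → Fin m) where
  toFun π := Equiv.piCongrRight π
  map_one' := by ext x i; rfl
  map_mul' π ρ := by ext x i; rfl

theorem coordPermHom_apply (π : ι → Equiv.Perm (Fin m)) (x : ι → Fin m) (i : ι) :
    coordPermHom ι m π x i = π i (x i) := rfl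

theorem coordPermHom_mem (π : ι → Equiv.Perm (Fin m)) : coordPermHom ι m π ∈ hammingAut ι m := by
  intro x y
  unfold HAdj
  have : (Finset.univ.filter (fun i => coordPermHom ι m π x i ≠ coordPermHom ι m π y i))
      = Finset.univ.filter (fun i => x i ≠ y i) := by
    apply Finset.filter_congr
    intro i _
    rw [coordPermHom_apply, coordPermHom_apply]
    exact (π i).injective.ne_iff
  rw [this]

/-- swapping two coordinates -/
def swapCoord (m : ℕ) (i j : ι) : Equiv.Perm (ι → Fin m) :=
  Function.Involutive.toPerm (fun x => x ∘ Equiv.swap i j) (by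
    intro x
    funext l
    simp)

theorem swapCoord_apply (i j : ι) (x : ι → Fin m) (l : ι) :
    swapCoord m i j x l = x (Equiv.swap i j l) := rfl

theorem swapCoord_mem (i j : ι) : swapCoord m i j ∈ hammingAut ι m := by
  intro x y
  unfold HAdj
  have : (Finset.univ.filter (fun l => swapCoord m i j x l ≠ swapCoord m i j y l)).card
      = (Finset.univ.filter (fun l => x l ≠ y l)).card := by
    apply Finset.card_equiv (Equiv.swap i j)
    intro l
    rw [Finset.mem_filter, Finset.mem_filter]
    simp only [Finset.mem_univ, true_and, swapCoord_apply]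
  rw [this]

end

section
set_option linter.unusedSectionVars false
variable {ι : Type*} [Fintype ι] [DecidableEq ι] {m : ℕ} (F : ι → Type*) [∀ i, Group (F i)]
  (θ : ∀ i, F i ≃ Fin m)

/-- translations by elements of the product group, transported to `ι → Fin m` -/
def translHom : (∀ i, F i) →* Equiv.Perm (ι → Fin m) :=
  (coordPermHom ι m).comp (Pi.monoidHom (fun i =>
    ((θ i).permCongrHom.toMonoidHom.comp (MulAction.toPermHom (F i) (F i))).comp
      (Pi.evalMonoidHom F i)))

theorem translHom_apply (k : ∀ i, F i) (x : ι → Fin m) (i : ι) :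
    translHom F θ k x i = θ i (k i * (θ i).symm (x i)) := rfl

/-- the point corresponding to a group element -/
def pt (k : ∀ i, F i) : ι → Fin m := fun i => θ i (k i)

theorem translHom_pt (k k' : ∀ i, F i) : translHom F θ k (pt F θ k') = pt F θ (k * k') := by
  funext i
  rw [translHom_apply]
  simp [pt]

theorem pt_surjective : Function.Surjective (pt F θ) := by
  intro x
  refine ⟨fun i => (θ i).symm (x i), ?_⟩
  funext i
  simp [pt]

theorem pt_injective : Function.Injective (pt F θ) := by
  intro k k' h
  funext i
  have := congrFun h i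
  exact (θ i).injective this

theorem translHom_injective : Function.Injective (translHom F θ) := by
  rw [injective_iff_map_eq_one]
  intro k hk
  have h1 := translHom_pt F θ k 1
  rw [hk, mul_one] at h1
  exact (pt_injective F θ h1).symm

theorem translHom_mem (k : ∀ i, F i) : translHom F θ k ∈ hammingAut ι m :=
  coordPermHom_mem _

/-- the regular subgroup of translations -/
def translSubgroup : Subgroup (Equiv.Perm (ι → Fin m)) := (translHom F θ).range

theorem translSubgroup_le : translSubgroup F θ ≤ hammingAut ι m := by
  rintro _ ⟨k, rfl⟩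
  exact translHom_mem F θ k

noncomputable def translEquiv : (∀ i, F i) ≃* ↥(translSubgroup F θ) :=
  MonoidHom.ofInjective (translHom_injective F θ)

theorem translSubgroup_isPretransitive : IsPretransitive ↥(translSubgroup F θ) (ι → Fin m) := by
  constructor
  intro x y
  obtain ⟨k, rfl⟩ := pt_surjective F θ x
  obtain ⟨k', rfl⟩ := pt_surjective F θ y
  refine ⟨⟨translHom F θ (k' * k⁻¹), ⟨_, rfl⟩⟩, ?_⟩
  show translHom F θ (k' * k⁻¹) (pt F θ k) = pt F θ k'
  rw [translHom_pt, inv_mul_cancel_right]

theorem translSubgroup_stabilizer (x : ι → Fin m) :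
    stabilizer ↥(translSubgroup F θ) x = ⊥ := by
  rw [eq_bot_iff]
  rintro ⟨_, ⟨k, rfl⟩⟩ hk
  rw [Subgroup.mem_bot]
  rw [mem_stabilizer_iff] at hk
  obtain ⟨k', rfl⟩ := pt_surjective F θ x
  have h1 : translHom F θ k (pt F θ k') = pt F θ k' := hk
  rw [translHom_pt] at h1
  have h2 := pt_injective F θ h1
  have h3 : k = 1 := by
    have := congrArg (fun z => z * k'⁻¹) h2
    simpa using this
  subst h3
  apply Subtype.ext
  simp

/-- an automorphism mapping one point of a block into the block maps the whole block into it -/
theorem block_maps_to {B : Set (ι → Fin m)} (hB : IsBlock ↥(hammingAut ι m) B)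
    {τ : Equiv.Perm (ι → Fin m)} (hτ : τ ∈ hammingAut ι m) {a : ι → Fin m} (ha : a ∈ B)
    (hτa : τ a ∈ B) {y : ι → Fin m} (hy : y ∈ B) : τ y ∈ B := by
  have h1 := (isBlock_iff_smul_eq_of_mem.mp hB) (g := ⟨τ, hτ⟩) (a := a) ha hτa
  have h2 : (⟨τ, hτ⟩ : ↥(hammingAut ι m)) • y ∈ (⟨τ, hτ⟩ : ↥(hammingAut ι m)) • B :=
    Set.smul_mem_smul_set hy
  rw [h1] at h2
  exact h2

/-- a coordinatewise permutation which is the identity outside coordinate `i` -/
def onCoord (i : ι) (σ : Equiv.Perm (Fin m)) : Equiv.Perm (ι → Fin m) :=
  coordPermHom ι m (Function.update (1 : ι → Equiv.Perm (Fin m)) i σ)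

theorem onCoord_mem (i : ι) (σ : Equiv.Perm (Fin m)) : onCoord i σ ∈ hammingAut ι m :=
  coordPermHom_mem _

theorem onCoord_apply_same (i : ι) (σ : Equiv.Perm (Fin m)) (x : ι → Fin m) :
    onCoord i σ x i = σ (x i) := by
  show (Function.update (1 : ι → Equiv.Perm (Fin m)) i σ) i (x i) = _
  rw [Function.update_self]

theorem onCoord_apply_ne (i : ι) (σ : Equiv.Perm (Fin m)) (x : ι → Fin m) {l : ι} (hl : l ≠ i) :
    onCoord i σ x l = x l := by
  show (Function.update (1 : ι → Equiv.Perm (Fin m)) i σ) l (x l) = _
  rw [Function.update_of_ne hl]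
  rfl

theorem exists_third (hm : 3 ≤ m) (a b : Fin m) : ∃ c : Fin m, c ≠ a ∧ c ≠ b := by
  by_contra hcon
  push Not at hcon
  have hsub : (Finset.univ : Finset (Fin m)) ⊆ {a, b} := by
    intro c _
    by_cases hca : c = a
    · simp [hca]
    · simp [hcon c hca]
  have h1 := Finset.card_le_card hsub
  have h2 : ({a, b} : Finset (Fin m)).card ≤ 2 := Finset.card_le_two
  rw [Finset.card_univ, Fintype.card_fin] at h1
  omega

/-- a nontrivial block containing the base point is everything -/
theorem block_eq_univ (hm : 3 ≤ m) (o₀ : Fin m) (hθ : ∀ i, θ i 1 = o₀)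
    (B : Set (ι → Fin m)) (hB : IsBlock ↥(hammingAut ι m) B)
    (ho : pt F θ 1 ∈ B) (x : ι → Fin m) (hx : x ∈ B) (hxo : x ≠ pt F θ 1) : B = Set.univ := by
  have ho' : ∀ l, pt F θ 1 l = o₀ := fun l => hθ l
  -- Step A: a point of `B` with exactly one coordinate different from the base point
  obtain ⟨i, hi⟩ : ∃ i, x i ≠ o₀ := by
    by_contra hcon
    push Not at hcon
    apply hxo
    funext l
    rw [ho', hcon l]
  obtain ⟨b, hbo, hbx⟩ := exists_third hm o₀ (x i)
  have hτ1o : onCoord i (Equiv.swap (x i) b) (pt F θ 1) = pt F θ 1 := by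
    funext l
    by_cases hl : l = i
    · subst hl
      rw [onCoord_apply_same, ho']
      exact Equiv.swap_apply_of_ne_of_ne (Ne.symm hi) (Ne.symm hbo)
    · rw [onCoord_apply_ne _ _ _ hl]
  have hy : onCoord i (Equiv.swap (x i) b) x ∈ B :=
    block_maps_to hB (onCoord_mem _ _) ho (by rw [hτ1o]; exact ho) hx
  set y := onCoord i (Equiv.swap (x i) b) x with hydef
  have hyi : y i = b := by
    rw [hydef, onCoord_apply_same, Equiv.swap_apply_left]
  have hyl : ∀ l, l ≠ i → y l = x l := fun l hl => onCoord_apply_ne _ _ _ hl
  obtain ⟨kx, rfl⟩ := pt_surjective F θ x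
  have hz : translHom F θ kx⁻¹ y ∈ B := by
    apply block_maps_to hB (translHom_mem F θ _) hx _ hy
    rw [translHom_pt, inv_mul_cancel]
    exact ho
  set z := translHom F θ kx⁻¹ y with hzdef
  have hzl : ∀ l, l ≠ i → z l = o₀ := by
    intro l hl
    rw [hzdef, translHom_apply, hyl l hl]
    simp [pt, hθ]
  have hzi : z i ≠ o₀ := by
    rw [hzdef, translHom_apply, hyi]
    intro h
    rw [← hθ i] at h
    have h2 := (θ i).injective h
    apply hbx
    have h3 : (θ i).symm b = kx i := by
      have := congrArg (fun w => kx i * w) h2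
      simpa using this
    show b = θ i (kx i)
    rw [← h3]
    simp
  -- Step B: all points with one non-base coordinate are in `B`
  have hsingle : ∀ (j : ι) (v : Fin m), v ≠ o₀ → Function.update (pt F θ 1) j v ∈ B := by
    intro j v hv
    -- first change the value at coordinate i
    have hτ3o : onCoord i (Equiv.swap (z i) v) (pt F θ 1) = pt F θ 1 := by
      funext l
      by_cases hl : l = i
      · subst hl
        rw [onCoord_apply_same, ho']
        exact Equiv.swap_apply_of_ne_of_ne (Ne.symm hzi) (Ne.symm hv)
      · rw [onCoord_apply_ne _ _ _ hl]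
    have hz' : onCoord i (Equiv.swap (z i) v) z ∈ B :=
      block_maps_to hB (onCoord_mem _ _) ho (by rw [hτ3o]; exact ho) hz
    have hz'eq : onCoord i (Equiv.swap (z i) v) z = Function.update (pt F θ 1) i v := by
      funext l
      by_cases hl : l = i
      · subst hl
        rw [onCoord_apply_same, Equiv.swap_apply_left, Function.update_self]
      · rw [onCoord_apply_ne _ _ _ hl, Function.update_of_ne hl, hzl l hl, ho']
    rw [hz'eq] at hz'
    -- then swap the coordinates i and j
    have hτ4o : swapCoord m i j (pt F θ 1) = pt F θ 1 := by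
      funext l
      rw [swapCoord_apply, ho', ho']
    have hfin : swapCoord m i j (Function.update (pt F θ 1) i v) ∈ B :=
      block_maps_to hB (swapCoord_mem i j) ho (by rw [hτ4o]; exact ho) hz'
    have hfineq : swapCoord m i j (Function.update (pt F θ 1) i v)
        = Function.update (pt F θ 1) j v := by
      funext l
      rw [swapCoord_apply]
      by_cases hl : l = j
      · subst hl
        rw [Equiv.swap_apply_right, Function.update_self, Function.update_self]
      · rw [Function.update_of_ne hl]
        by_cases hli : l = i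
        · subst hli
          rw [Equiv.swap_apply_left, Function.update_of_ne (Ne.symm hl), ho', ho']
        · rw [Equiv.swap_apply_of_ne_of_ne hli hl, Function.update_of_ne hli]
    rw [hfineq] at hfin
    exact hfin
  -- Step C: the set of group elements whose point lies in `B` is a submonoid containing the factors
  let B' : Submonoid (∀ i, F i) :=
    { carrier := {k | pt F θ k ∈ B}
      one_mem' := ho
      mul_mem' := by
        intro k k' hk hk'
        show pt F θ (k * k') ∈ B
        rw [← translHom_pt]
        apply block_maps_to hB (translHom_mem F θ k) ho _ hk'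
        rw [translHom_pt, mul_one]
        exact hk }
  have hall : ∀ k : ∀ i, F i, k ∈ B' := by
    intro k
    apply Submonoid.pi_mem_of_mulSingle_mem
    intro j
    show pt F θ (Pi.mulSingle j (k j)) ∈ B
    by_cases hkj : k j = 1
    · rw [hkj, Pi.mulSingle_one]
      exact ho
    · have : pt F θ (Pi.mulSingle j (k j)) = Function.update (pt F θ 1) j (θ j (k j)) := by
        funext l
        by_cases hl : l = j
        · subst hl
          rw [Function.update_self]
          simp [pt]
        · rw [Function.update_of_ne hl]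
          simp [pt, Pi.mulSingle_eq_of_ne hl]
      rw [this]
      apply hsingle
      intro h
      rw [← hθ j] at h
      exact hkj ((θ j).injective h)
  rw [Set.eq_univ_iff_forall]
  intro w
  obtain ⟨k, rfl⟩ := pt_surjective F θ w
  exact hall k

include F θ in
theorem hammingAut_isPretransitive : IsPretransitive ↥(hammingAut ι m) (ι → Fin m) := by
  constructor
  intro x y
  obtain ⟨g, hg⟩ := (translSubgroup_isPretransitive F θ).exists_smul_eq x y
  exact ⟨⟨g.1, translSubgroup_le F θ g.2⟩, hg⟩

theorem hammingAut_isPreprimitive (hm : 3 ≤ m) (o₀ : Fin m) (hθ : ∀ i, θ i 1 = o₀) :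
    IsPreprimitive ↥(hammingAut ι m) (ι → Fin m) := by
  haveI := hammingAut_isPretransitive F θ
  apply IsPreprimitive.of_isTrivialBlock_base (pt F θ 1)
  intro B ho hB
  by_cases hsub : B.Subsingleton
  · exact Or.inl hsub
  · right
    rw [Set.not_subsingleton_iff] at hsub
    obtain ⟨x, hx, hxo⟩ := hsub.exists_ne (pt F θ 1)
    exact block_eq_univ F θ hm o₀ hθ B hB ho x hx hxo

omit F θ in
theorem hammingAut_not_two_transitive (hr : 2 ≤ Fintype.card ι) (hm : 2 ≤ m) :
    ¬ IsMultiplyPretransitive ↥(hammingAut ι m) (ι → Fin m) 2 := by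
  intro h
  rw [is_two_pretransitive_iff] at h
  obtain ⟨i, j, hij⟩ := Fintype.exists_pair_of_one_lt_card (α := ι) (by omega)
  let a : Fin m := ⟨0, by omega⟩
  let b : Fin m := ⟨1, by omega⟩
  have hab : a ≠ b := by
    intro h; have := congrArg Fin.val h; simp [a, b] at this
  let x : ι → Fin m := fun _ => a
  let y : ι → Fin m := Function.update x i b
  let z : ι → Fin m := Function.update y j b
  have hxyf : (Finset.univ.filter (fun l => x l ≠ y l)) = {i} := by
    ext l
    simp only [Finset.mem_filter, Finset.mem_univ, true_and, Finset.mem_singleton]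
    by_cases hl : l = i
    · subst hl; simp [x, y, hab]
    · simp [x, y, Function.update_of_ne hl, hl]
  have hxzf : (Finset.univ.filter (fun l => x l ≠ z l)) = {i, j} := by
    ext l
    simp only [Finset.mem_filter, Finset.mem_univ, true_and, Finset.mem_insert,
      Finset.mem_singleton]
    by_cases hlj : l = j
    · subst hlj; simp [x, z, hab]
    · by_cases hli : l = i
      · subst hli; simp [x, y, z, Function.update_of_ne hlj, hab]
      · simp [x, y, z, Function.update_of_ne hlj, Function.update_of_ne hli, hli, hlj]
  have hxy : HAdj x y := by unfold HAdj; rw [hxyf]; simp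
  have hxz : ¬ HAdj x z := by
    unfold HAdj; rw [hxzf, Finset.card_pair hij]; omega
  have hxney : x ≠ y := by
    intro h
    have := congrFun h i
    simp [x, y] at this
    exact hab this
  have hxnez : x ≠ z := by
    intro h
    have := congrFun h j
    simp [x, z] at this
    exact hab this
  obtain ⟨g, hgx, hgy⟩ := h hxney hxnez
  have hg := g.2 x y
  have hgx' : (g : Equiv.Perm (ι → Fin m)) x = x := hgx
  have hgy' : (g : Equiv.Perm (ι → Fin m)) y = z := hgy
  rw [hgx', hgy'] at hg
  exact hxz (hg.mpr hxy)

end

end Cfsg.Agent.Lib.Helper19
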