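/-
helper19: S3928 leaf A: a finite group `H` generated by the conjugates of `a`, `a * a = 1`, is
generated by `a` and the odd-order elements inverted by `a` (from helper8's generalized Baer theorem:
the periodic points of `b ↦ b a b⁻¹` generate).
-/
import Mathlib
import Cfsg.Agent.Lib.Helper25.InvAutDefs
import Cfsg.Agent.Lib.Helper8.BaerGen

set_option autoImplicit false

universe u

namespace Cfsg.Agent.Lib.Helper19.IAA

open Cfsg.Agent.Lib.Helper25.InvAut

/-- `ψ (s a) = s² a` for `s` inverted by `a`, iterated. -/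
theorem iterate_conj_mul {H : Type*} [Group H] {a : H} (ha : a * a = 1) :
    ∀ (n : ℕ) (s : H), a * s * a⁻¹ = s⁻¹ →
      (fun b : H => b * a * b⁻¹)^[n] (s * a) = s ^ (2 ^ n) * a := by
  have hainv : a⁻¹ = a := inv_eq_of_mul_eq_one_left ha
  intro n
  induction n with
  | zero => intro s _; simp
  | succ n ih =>
    intro s hs
    rw [Function.iterate_succ_apply]
    have h1 : a * s⁻¹ = s * a := by
      have h2 : a * s⁻¹ * a⁻¹ = s := by
        have := congrArg (fun z => z⁻¹) hs
        simp only [mul_inv_rev, inv_inv] at this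
        rw [mul_assoc]; exact this
      calc a * s⁻¹ = a * s⁻¹ * a⁻¹ * a := by group
        _ = s * a := by rw [h2]
    have h3 : (s * a) * a * (s * a)⁻¹ = s ^ 2 * a := by
      calc (s * a) * a * (s * a)⁻¹ = s * (a * s⁻¹) := by
            rw [mul_inv_rev, hainv]
            calc s * a * a * (a * s⁻¹) = s * (a * a) * (a * s⁻¹) := by group
              _ = s * (a * s⁻¹) := by rw [ha, mul_one]
        _ = s ^ 2 * a := by rw [h1, pow_two, mul_assoc]
    have h4 : a * s ^ 2 * a⁻¹ = (s ^ 2)⁻¹ := by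
      rw [← conj_pow, hs, inv_pow]
    show (fun b : H => b * a * b⁻¹)^[n] ((s * a) * a * (s * a)⁻¹) = _
    rw [h3, ih (s ^ 2) h4, ← pow_mul, pow_succ, mul_comm 2]

/-- LEAF A (generation).  `H = ⟨a, J⟩`. -/
theorem closure_insert_JJ {H : Type u} [Group H] [Finite H] {a : H} (h : IsPair a) :
    Subgroup.closure (insert a (JJ a)) = ⊤ := by
  have ha := h.sq
  have hainv : a⁻¹ = a := inv_eq_of_mul_eq_one_left ha
  have hper := Cfsg.Agent.Lib.Helper8.BaerGen.closure_periodicPts_conj a h.gen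
  rw [eq_top_iff, ← hper, Subgroup.closure_le]
  intro b hb
  obtain ⟨n, hn, hfix⟩ := Function.mem_periodicPts.mp hb
  have hfix' : (fun b : H => b * a * b⁻¹)^[n] b = b := hfix
  -- `b` is a conjugate of `a`
  obtain ⟨m, rfl⟩ : ∃ m, n = m + 1 := ⟨n - 1, by omega⟩
  have hbconj : b = ((fun b : H => b * a * b⁻¹)^[m] b) * a * ((fun b : H => b * a * b⁻¹)^[m] b)⁻¹ := by
    conv_lhs => rw [← hfix', Function.iterate_succ_apply']
  set c := (fun b : H => b * a * b⁻¹)^[m] b with hc
  have hbb : b * b = 1 := by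
    rw [hbconj]
    calc c * a * c⁻¹ * (c * a * c⁻¹) = c * (a * a) * c⁻¹ := by group
      _ = 1 := by rw [ha]; group
  have hbinv : b⁻¹ = b := inv_eq_of_mul_eq_one_left hbb
  set r := b * a with hr
  have hrinv : a * r * a⁻¹ = r⁻¹ := by
    rw [hr, mul_inv_rev, hainv, hbinv]
    calc a * (b * a) * a = a * b * (a * a) := by group
      _ = a * b := by rw [ha, mul_one]
  have hb_eq : b = r * a := by
    rw [hr, mul_assoc, ha, mul_one]
  have hiter := iterate_conj_mul ha (m + 1) r hrinv
  rw [← hb_eq, hfix'] at hiter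
  -- `r ^ (2 ^ (m + 1)) = r`
  have hpow : r ^ (2 ^ (m + 1)) = r := by
    have : r ^ (2 ^ (m + 1)) * a = r * a := by rw [← hiter, ← hb_eq]
    exact mul_right_cancel this
  have hpow1 : r ^ (2 ^ (m + 1) - 1) = 1 := by
    have h2 : 2 ^ (m + 1) = (2 ^ (m + 1) - 1) + 1 := by
      have : 0 < 2 ^ (m + 1) := by positivity
      omega
    rw [h2, pow_succ] at hpow
    exact mul_right_cancel (b := r) (by rw [hpow, one_mul])
  have hodd : Odd (orderOf r) := by
    apply Odd.of_dvd_nat _ (orderOf_dvd_of_pow_eq_one hpow1)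
    have : 2 ^ (m + 1) = 2 * 2 ^ m := by rw [pow_succ, mul_comm]
    refine ⟨2 ^ m - 1, ?_⟩
    have : 0 < 2 ^ m := by positivity
    omega
  have hrJ : r ∈ JJ a := ⟨hodd, hrinv⟩
  show b ∈ (Subgroup.closure (insert a (JJ a)) : Set H)
  rw [hb_eq]
  exact Subgroup.mul_mem _ (Subgroup.subset_closure (Set.mem_insert_of_mem _ hrJ))
    (Subgroup.subset_closure (Set.mem_insert _ _))

end Cfsg.Agent.Lib.Helper19.IAA
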