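/-
helper19: S3928 leaf B: the odd-order elements of `H ⧸ N` inverted by `ā` lift to odd-order
elements of `H` inverted by `a` (`a * a = 1`); consequences for the counts.
-/
import Mathlib
import Cfsg.Agent.Lib.Helper25.InvAutDefs

set_option autoImplicit false

namespace Cfsg.Agent.Lib.Helper19.IAB

open Cfsg.Agent.Lib.Helper25.InvAut

/-- an element inverted by `a` has its powers inverted by `a` -/
theorem conj_pow_of_conj_inv {H : Type*} [Group H] {a k : H} (hk : a * k * a⁻¹ = k⁻¹) (j : ℕ) :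
    a * k ^ j * a⁻¹ = (k ^ j)⁻¹ := by
  rw [← conj_pow, hk, inv_pow]

/-- LEAF B1 (lifting). -/
theorem JJ_quotient_subset {H : Type*} [Group H] [Finite H] {a : H} (ha : a * a = 1)
    (N : Subgroup H) [N.Normal] :
    JJ (QuotientGroup.mk' N a) ⊆ (QuotientGroup.mk' N) '' (JJ a) := by
  intro xb hxb
  obtain ⟨hodd, hinv⟩ := hxb
  set π := QuotientGroup.mk' N with hπ
  have hainv : a⁻¹ = a := inv_eq_of_mul_eq_one_left ha
  set n := orderOf xb with hn
  -- the square root of `xb`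
  obtain ⟨c, hc⟩ := hodd
  set yb := xb ^ (c + 1) with hyb
  have hyy : yb * yb = xb := by
    rw [hyb, ← pow_add]
    have : c + 1 + (c + 1) = n + 1 := by omega
    rw [this, pow_succ, hn, pow_orderOf_eq_one, one_mul]
  have hyinv : π a * yb * (π a)⁻¹ = yb⁻¹ := conj_pow_of_conj_inv hinv (c + 1)
  have hxeq : yb * π a * yb⁻¹ * (π a)⁻¹ = xb := by
    have h1 : π a * yb⁻¹ * (π a)⁻¹ = yb := by
      have := congrArg (fun z => z⁻¹) hyinv
      simp only [mul_inv_rev, inv_inv] at this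
      rw [mul_assoc]; exact this
    calc yb * π a * yb⁻¹ * (π a)⁻¹ = yb * (π a * yb⁻¹ * (π a)⁻¹) := by group
      _ = yb * yb := by rw [h1]
      _ = xb := hyy
  -- lift
  obtain ⟨g, hg⟩ := QuotientGroup.mk'_surjective N yb
  set k := g * a * g⁻¹ * a⁻¹ with hk
  have hkinv : a * k * a⁻¹ = k⁻¹ := by
    rw [hk]
    have h2 : a * (g * a * g⁻¹ * a⁻¹) * a⁻¹ = a * g * a * g⁻¹ * (a⁻¹ * a⁻¹) := by group
    have h3 : (g * a * g⁻¹ * a⁻¹)⁻¹ = a * g * a⁻¹ * g⁻¹ := by group
    rw [h2, h3, hainv, ha, mul_one]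
  have hπk : π k = xb := by
    rw [hk, map_mul, map_mul, map_mul, map_inv, map_inv, hg]
    exact hxeq
  -- the odd part of `k`
  have hk0 : orderOf k ≠ 0 := (orderOf_pos k).ne'
  obtain ⟨e, m, hm, hem⟩ := Nat.exists_eq_two_pow_mul_odd hk0
  set j := (2 ^ e) ^ (Nat.totient n) with hj
  have hnpos : 0 < n := orderOf_pos xb
  have hcop : Nat.Coprime (2 ^ e) n := by
    apply Nat.Coprime.pow_left
    apply (Nat.Prime.coprime_iff_not_dvd Nat.prime_two).mpr
    intro h2
    omega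
  have hj1 : j ≡ 1 [MOD n] := Nat.ModEq.pow_totient hcop
  have hjdvd : 2 ^ e ∣ j := by
    rw [hj]
    exact dvd_pow_self _ (Nat.totient_pos.mpr hnpos).ne'
  refine ⟨k ^ j, ⟨?_, conj_pow_of_conj_inv hkinv j⟩, ?_⟩
  · -- odd order
    have h1 : (k ^ j) ^ m = 1 := by
      rw [← pow_mul]
      apply orderOf_dvd_iff_pow_eq_one.mp
      rw [hem]
      exact Nat.mul_dvd_mul_right hjdvd m
    exact Odd.of_dvd_nat hm (orderOf_dvd_of_pow_eq_one h1)
  · rw [map_pow, hπk]
    have := (pow_eq_pow_iff_modEq (x := xb) (n := j) (m := 1)).mpr hj1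
    rw [this, pow_one]

/-- LEAF B2 (from B1). -/
theorem card_JJ_quotient_le {H : Type*} [Group H] [Finite H] {a : H} (ha : a * a = 1)
    (N : Subgroup H) [N.Normal] :
    Nat.card (JJ (QuotientGroup.mk' N a)) ≤ Nat.card (JJ a) := by
  rw [Nat.card_coe_set_eq, Nat.card_coe_set_eq]
  exact le_trans (Set.ncard_le_ncard (JJ_quotient_subset ha N) (Set.toFinite _))
    (Set.ncard_image_le (Set.toFinite _))

/-- LEAF B3 (from B1): a collision drops the count. -/
theorem card_JJ_quotient_lt {H : Type*} [Group H] [Finite H] {a : H} (ha : a * a = 1)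
    (N : Subgroup H) [N.Normal] (hN : ¬ InjMod a N) :
    Nat.card (JJ (QuotientGroup.mk' N a)) < Nat.card (JJ a) := by
  rw [Nat.card_coe_set_eq, Nat.card_coe_set_eq]
  refine lt_of_le_of_lt (Set.ncard_le_ncard (JJ_quotient_subset ha N) (Set.toFinite _)) ?_
  refine lt_of_le_of_ne (Set.ncard_image_le (Set.toFinite _)) ?_
  intro heq
  apply hN
  have hinj := (Set.ncard_image_iff (Set.toFinite (JJ a))).mp heq
  intro x hx x' hx' hxx'
  apply hinj hx hx'
  show QuotientGroup.mk' N x = QuotientGroup.mk' N x'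
  rw [QuotientGroup.mk'_apply, QuotientGroup.mk'_apply, QuotientGroup.eq]
  exact hxx'

end Cfsg.Agent.Lib.Helper19.IAB
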