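/-
helper19: Isaacs–Passman, core lemma.  If `θ ∈ Irr(H)` has degree `b`, an upper bound for all
irreducible character degrees of `G`, then `θ^G` is a sum of `|G : H|` distinct extensions of `θ`,
`θ` vanishes off the normal core of `H`, and `|H : core_G(H)| ≤ b²`.
-/
import Mathlib
import Cfsg.Prelude.Def_Blocks
import Cfsg.Agent.Lib.Helper21.IsaacsPrimeA
import Cfsg.Agent.Lib.Helper10.GenOrtho
import Cfsg.Agent.Lib.Helper6.CharExtra2

set_option autoImplicit false

namespace Cfsg.Agent.Lib.Helper19.IP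

open Cfsg Cfsg.Agent.CharLib Cfsg.Agent.Lib.Helper6 Cfsg.Agent.Lib.Helper24 Cfsg.Agent.Lib.Helper25
open Cfsg.Agent.Lib.Helper21.Isaacs
open scoped ComplexConjugate

universe u

variable {G : Type u} [Group G] [Finite G]

/-- every irreducible character of a subgroup lies under an irreducible character of `G` -/
theorem exists_irr_over_sub (H : Subgroup G) [Fintype G] [Fintype H] (θ : IrrCharacter H) :
    ∃ χ : IrrCharacter G, classInner (resFun H (χ : G → ℂ)) (θ : H → ℂ) ≠ 0 := by
  classical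
  have hθc : IsCharacter H θ.1 := IsIrrCharacter.isCharacter θ.2
  have hind : IsCharacter G (indFun H θ.1) := IsCharacter.indFun H hθc
  have hne : indFun H θ.1 ≠ 0 := by
    intro h
    have h1 := congrFun h 1
    rw [indFun_apply_one, Pi.zero_apply] at h1
    have hN0 : (Nat.card H : ℂ)⁻¹ ≠ 0 := by
      apply inv_ne_zero
      exact_mod_cast (Nat.card_pos (α := H)).ne'
    have hG0 : (Nat.card G : ℂ) ≠ 0 := by exact_mod_cast (Nat.card_pos (α := G)).ne'
    exact mul_ne_zero (mul_ne_zero hN0 hG0) (irr_apply_one_ne_zero θ) h1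
  obtain ⟨χ, hχ, hc⟩ := IsCharacter.exists_constituent hind hne
  have hχc : IsCharacter G χ := IsIrrCharacter.isCharacter hχ
  have hfr := frobenius_reciprocity H θ.1 (IsCharacter.isClassFunction hχc)
  refine ⟨⟨χ, hχ⟩, ?_⟩
  rw [hfr] at hc
  have : classInner (resFun H χ) θ.1 = conj (classInner θ.1 (fun h : H => χ h)) := by
    rw [classInner_conj_symm]; rfl
  rw [this]
  exact (map_ne_zero _).mpr hc

/-- a constituent of a restriction has at most the degree of the character restricted -/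
theorem charDegree_le_of_constituent (H : Subgroup G) [Fintype G] [Fintype H]
    (χ : IrrCharacter G) (θ : IrrCharacter H)
    (hc : classInner (resFun H (χ : G → ℂ)) (θ : H → ℂ) ≠ 0) :
    charDegree (θ : H → ℂ) ≤ charDegree (χ : G → ℂ) := by
  have hχc : IsCharacter G χ.1 := IsIrrCharacter.isCharacter χ.2
  have hres : IsCharacter H (resFun H χ.1) := isCharacter_resFun H hχc
  obtain ⟨k, hk⟩ := IsCharacter.apply_one (IsCharacter.sub_constituent hres θ.2 hc)
  rw [Pi.sub_apply, resFun_apply] at hk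
  have h1 : (χ : G → ℂ) ((1 : H) : G) = (charDegree (χ : G → ℂ) : ℂ) := irr_apply_one χ
  rw [h1, irr_apply_one θ] at hk
  have h2 : (charDegree (χ : G → ℂ) : ℂ) = ((charDegree (θ : H → ℂ) + k : ℕ) : ℂ) := by
    rw [Nat.cast_add, ← hk]; ring
  have h3 : charDegree (χ : G → ℂ) = charDegree (θ : H → ℂ) + k := by exact_mod_cast h2
  omega

/-- a bound for the degrees of `G` bounds the degrees of every subgroup -/
theorem charDegree_sub_le (H : Subgroup G) (b : ℕ)
    (hb : ∀ χ : IrrCharacter G, charDegree (χ : G → ℂ) ≤ b) (θ : IrrCharacter H) :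
    charDegree (θ : H → ℂ) ≤ b := by
  classical
  letI : Fintype G := Fintype.ofFinite G
  letI : Fintype H := Fintype.ofFinite H
  obtain ⟨χ, hχ⟩ := exists_irr_over_sub H θ
  exact (charDegree_le_of_constituent H χ θ hχ).trans (hb χ)

/-- a constituent of the restriction of at least the degree of the character restricted is the
restriction -/
theorem resFun_eq_of_degree_le (H : Subgroup G) [Fintype G] [Fintype H]
    (χ : IrrCharacter G) (θ : IrrCharacter H)
    (hc : classInner (resFun H (χ : G → ℂ)) (θ : H → ℂ) ≠ 0)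
    (hle : charDegree (χ : G → ℂ) ≤ charDegree (θ : H → ℂ)) :
    resFun H (χ : G → ℂ) = (θ : H → ℂ) := by
  have hχc : IsCharacter G χ.1 := IsIrrCharacter.isCharacter χ.2
  have hres : IsCharacter H (resFun H χ.1) := isCharacter_resFun H hχc
  have h1 : resFun H χ.1 1 = (charDegree (χ : G → ℂ) : ℂ) := by
    rw [resFun_apply]; exact irr_apply_one χ
  exact IsCharacter.eq_of_constituent_of_degree_le hres θ.2 hc h1 (irr_apply_one θ) hle

/-- the constituents of `θ^G` when `θ(1) = b` bounds all degrees of `G`: there are exactly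
`|G : H|` of them, each with multiplicity one, and all extend `θ` -/
theorem core_decomp (H : Subgroup G) [Fintype G] [Fintype H] [Fintype (IrrCharacter G)] (b : ℕ)
    (hb : ∀ χ : IrrCharacter G, charDegree (χ : G → ℂ) ≤ b) (θ : IrrCharacter H)
    (hθ : charDegree (θ : H → ℂ) = b) :
    ∃ S : Finset (IrrCharacter G), S.card = H.index ∧
      (∀ χ ∈ S, resFun H (χ : G → ℂ) = (θ : H → ℂ)) ∧
      indFun H (θ : H → ℂ) = ∑ χ ∈ S, (χ : G → ℂ) := by
  classical
  have hθc : IsCharacter H θ.1 := IsIrrCharacter.isCharacter θ.2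
  have hind : IsCharacter G (indFun H θ.1) := IsCharacter.indFun H hθc
  obtain ⟨m, hm, hcoef⟩ := IsCharacter.exists_decomp_sum hind
  have hfrob : ∀ ψ : IrrCharacter G, classInner (indFun H θ.1) (ψ : G → ℂ) =
      classInner θ.1 (resFun H (ψ : G → ℂ)) := fun ψ =>
    frobenius_reciprocity H θ.1 (IsCharacter.isClassFunction (IsIrrCharacter.isCharacter ψ.2))
  have key : ∀ ψ : IrrCharacter G, m ψ ≠ 0 → resFun H (ψ : G → ℂ) = (θ : H → ℂ) := by
    intro ψ hψ
    apply resFun_eq_of_degree_le H ψ θ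
    · have h1 : classInner θ.1 (resFun H (ψ : G → ℂ)) ≠ 0 := by
        rw [← hfrob, hcoef]
        exact_mod_cast hψ
      rw [← classInner_conj_symm]
      exact (map_ne_zero _).mpr h1
    · rw [hθ]; exact hb ψ
  have key2 : ∀ ψ : IrrCharacter G, m ψ ≠ 0 → m ψ = 1 := by
    intro ψ hψ
    have h1 : (m ψ : ℂ) = 1 := by
      rw [← hcoef, hfrob, key ψ hψ, classInner_irr θ.2 θ.2, if_pos rfl]
    exact_mod_cast h1
  set S : Finset (IrrCharacter G) := Finset.univ.filter (fun ψ => m ψ ≠ 0) with hS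
  have hsum : indFun H (θ : H → ℂ) = ∑ χ ∈ S, (χ : G → ℂ) := by
    rw [hm, hS, Finset.sum_filter]
    apply Finset.sum_congr rfl
    intro ψ _
    by_cases h0 : m ψ = 0
    · rw [h0, zero_smul, if_neg (by simp)]
    · rw [if_pos h0, key2 ψ h0, one_smul]
  refine ⟨S, ?_, ?_, hsum⟩
  · have hbpos : 0 < b := by rw [← hθ]; exact irr_charDegree_pos θ
    have h1 := congrFun hsum 1
    rw [indFun_apply_one, Finset.sum_apply] at h1
    have h2 : ∀ χ ∈ S, (χ : G → ℂ) 1 = (b : ℂ) := by
      intro χ hχ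
      have h3 : m χ ≠ 0 := (Finset.mem_filter.mp hχ).2
      have h4 := congrFun (key χ h3) 1
      rw [resFun_apply] at h4
      have h5 : (χ : G → ℂ) ((1 : H) : G) = (θ : H → ℂ) 1 := h4
      rw [irr_apply_one θ, hθ] at h5
      exact h5
    rw [Finset.sum_congr rfl h2, Finset.sum_const, nsmul_eq_mul, irr_apply_one θ, hθ] at h1
    have hidx : (Nat.card H : ℂ)⁻¹ * (Nat.card G : ℂ) = (H.index : ℂ) := by
      have h1 := Subgroup.card_mul_index H
      have hH0 : (Nat.card H : ℂ) ≠ 0 := by exact_mod_cast (Nat.card_pos (α := H)).ne'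
      rw [← h1, Nat.cast_mul, ← mul_assoc, inv_mul_cancel₀ hH0, one_mul]
    rw [hidx] at h1
    have h6 : H.index * b = S.card * b := by exact_mod_cast h1
    exact (Nat.eq_of_mul_eq_mul_right hbpos h6).symm
  · intro χ hχ
    exact key χ (Finset.mem_filter.mp hχ).2

omit [Finite G] in
/-- an element outside the normal core moves a coset -/
theorem card_fixed_lt_index [Finite G] (H : Subgroup G) (g : G) (hg : g ∉ H.normalCore) :
    Nat.card {q : G ⧸ H // g • q = q} < H.index := by
  have h1 : ¬ ∀ x : G, x * g * x⁻¹ ∈ H := hg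
  push Not at h1
  obtain ⟨x, hx⟩ := h1
  have h2 : ¬ (g • (QuotientGroup.mk x⁻¹ : G ⧸ H) = QuotientGroup.mk x⁻¹) := by
    rw [MulAction.Quotient.smul_mk, QuotientGroup.eq, smul_eq_mul]
    intro h
    apply hx
    have := H.inv_mem h
    convert this using 1
    group
  exact Finite.card_subtype_lt h2

/-- sums of squared norms of an irreducible character -/
theorem sum_normSq_irr [Fintype G] (θ : IrrCharacter G) :
    ∑ g : G, Complex.normSq ((θ : G → ℂ) g) = (Nat.card G : ℝ) := by
  have h2 := sum_mul_conj_irr θ.2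
  have h4 : ((∑ g : G, Complex.normSq ((θ : G → ℂ) g) : ℝ) : ℂ) = ((Nat.card G : ℝ) : ℂ) := by
    rw [Complex.ofReal_sum]
    simp only [← Complex.mul_conj]
    rw [h2]
    simp
  exact_mod_cast h4

/-- **Core lemma**: an irreducible character of `H` whose degree bounds all degrees of `G`
vanishes off the normal core of `H`. -/
theorem vanish_off_core (H : Subgroup G) (b : ℕ)
    (hb : ∀ χ : IrrCharacter G, charDegree (χ : G → ℂ) ≤ b) (θ : IrrCharacter H)
    (hθ : charDegree (θ : H → ℂ) = b) (h : H) (hh : (h : G) ∉ H.normalCore) :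
    (θ : H → ℂ) h = 0 := by
  classical
  letI : Fintype G := Fintype.ofFinite G
  letI : Fintype H := Fintype.ofFinite H
  letI : Fintype (IrrCharacter G) := fintypeIrr G
  obtain ⟨S, hcard, hres, hsum⟩ := core_decomp H b hb θ hθ
  have hidx0 : H.index ≠ 0 := Subgroup.index_ne_zero_of_finite
  have hSne : S.Nonempty := by
    rw [← Finset.card_pos, hcard]
    omega
  obtain ⟨χ₀, hχ₀⟩ := hSne
  set Φ : G → ℂ := indFun H (θ : H → ℂ) with hΦ
  have hχ₀cf : IsClassFunction G (χ₀ : G → ℂ) :=
    IsCharacter.isClassFunction (IsIrrCharacter.isCharacter χ₀.2)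
  -- `Φ = π · χ₀`
  have hΦmul : Φ = indFun H (fun _ => (1 : ℂ)) * (χ₀ : G → ℂ) := by
    have h1 := indFun_mul_resFun H (fun _ => (1 : ℂ)) hχ₀cf
    rw [hres χ₀ hχ₀] at h1
    have h2 : (fun _ : H => (1 : ℂ)) * (θ : H → ℂ) = (θ : H → ℂ) := by
      funext x; simp
    rw [h2] at h1
    exact h1
  -- the norm of `Φ`
  have hnorm : classInner Φ Φ = (H.index : ℂ) := by
    have h0 : classInner Φ Φ = classInner (∑ χ ∈ S, (χ : G → ℂ)) Φ := by rw [← hsum]
    rw [h0, classInner_sum_left]
    have h1 : ∀ χ ∈ S, classInner (χ : G → ℂ) Φ = 1 := by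
      intro χ hχ
      rw [← classInner_conj_symm, hΦ,
        frobenius_reciprocity H θ.1 (IsCharacter.isClassFunction (IsIrrCharacter.isCharacter χ.2))]
      have h2 : (fun h : H => (χ : G → ℂ) h) = (θ : H → ℂ) := hres χ hχ
      rw [h2, classInner_irr θ.2 θ.2, if_pos rfl, map_one]
    rw [Finset.sum_congr rfl h1, Finset.sum_const, nsmul_eq_mul, mul_one, hcard]
  -- Frobenius reciprocity
  have hfr : classInner Φ Φ = classInner θ.1 (fun h : H => Φ h) := by
    conv_lhs => rw [hΦ]
    exact frobenius_reciprocity H θ.1 (indFun_isClassFunction H θ.1)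
  set p : H → ℕ := fun x => Nat.card {q : G ⧸ H // (x : G) • q = q} with hp
  have hΦval : ∀ x : H, Φ (x : G) = (p x : ℂ) * (θ : H → ℂ) x := by
    intro x
    rw [hΦmul, Pi.mul_apply, indFun_one_eq_card_fixed]
    have h2 := congrFun (hres χ₀ hχ₀) x
    rw [resFun_apply] at h2
    rw [h2]
  have hH0 : (Nat.card H : ℂ) ≠ 0 := by exact_mod_cast (Nat.card_pos (α := H)).ne'
  have hsum1 : ∑ x : H, (p x : ℝ) * Complex.normSq ((θ : H → ℂ) x) =
      (Nat.card H : ℝ) * (H.index : ℝ) := by
    rw [hfr] at hnorm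
    unfold classInner at hnorm
    have h1 : ∑ x : H, (θ : H → ℂ) x * conj (Φ (x : G)) = (Nat.card H : ℂ) * (H.index : ℂ) := by
      rw [← hnorm, ← mul_assoc, mul_inv_cancel₀ hH0, one_mul]
    have h2 : ((∑ x : H, (p x : ℝ) * Complex.normSq ((θ : H → ℂ) x) : ℝ) : ℂ) =
        (((Nat.card H : ℝ) * (H.index : ℝ) : ℝ) : ℂ) := by
      rw [Complex.ofReal_sum]
      push_cast
      rw [← h1]
      apply Finset.sum_congr rfl
      intro x _
      rw [hΦval, map_mul, Complex.conj_natCast, ← Complex.mul_conj]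
      ring
    exact_mod_cast h2
  have hsum2 := sum_normSq_irr θ
  have hsum3 : ∑ x : H, ((H.index : ℝ) - (p x : ℝ)) * Complex.normSq ((θ : H → ℂ) x) = 0 := by
    have : ∑ x : H, ((H.index : ℝ) - (p x : ℝ)) * Complex.normSq ((θ : H → ℂ) x) =
        (H.index : ℝ) * ∑ x : H, Complex.normSq ((θ : H → ℂ) x) -
          ∑ x : H, (p x : ℝ) * Complex.normSq ((θ : H → ℂ) x) := by
      rw [Finset.mul_sum, ← Finset.sum_sub_distrib]
      apply Finset.sum_congr rfl
      intro x _
      ring
    rw [this, hsum1, hsum2]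
    ring
  have hple : ∀ x : H, (p x : ℝ) ≤ (H.index : ℝ) := by
    intro x
    have : p x ≤ H.index := Finite.card_subtype_le _
    exact_mod_cast this
  have hterm := (Finset.sum_eq_zero_iff_of_nonneg (fun x _ =>
    mul_nonneg (sub_nonneg.mpr (hple x)) (Complex.normSq_nonneg _))).mp hsum3 h (Finset.mem_univ _)
  have hlt : (p h : ℝ) < (H.index : ℝ) := by
    have := card_fixed_lt_index H (h : G) hh
    exact_mod_cast this
  rcases mul_eq_zero.mp hterm with h1 | h1
  · linarith
  · exact Complex.normSq_eq_zero.mp h1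

/-- **Core lemma**, index bound: `|H| ≤ b² |core_G(H)|`. -/
theorem card_le_sq_mul_card_core (H : Subgroup G) (b : ℕ)
    (hb : ∀ χ : IrrCharacter G, charDegree (χ : G → ℂ) ≤ b) (θ : IrrCharacter H)
    (hθ : charDegree (θ : H → ℂ) = b) :
    Nat.card H ≤ b ^ 2 * Nat.card H.normalCore := by
  classical
  letI : Fintype G := Fintype.ofFinite G
  letI : Fintype H := Fintype.ofFinite H
  have hsum := sum_normSq_irr θ
  have hbound : ∀ x : H, Complex.normSq ((θ : H → ℂ) x) ≤
      if (x : G) ∈ H.normalCore then (b : ℝ) ^ 2 else 0 := by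
    intro x
    by_cases hx : (x : G) ∈ H.normalCore
    · rw [if_pos hx, Complex.normSq_eq_norm_sq]
      have h1 := Cfsg.Agent.Lib.Helper10.irr_norm_le θ.2 x
      rw [irr_apply_one θ, hθ, Complex.norm_natCast] at h1
      exact pow_le_pow_left₀ (norm_nonneg _) h1 2
    · rw [if_neg hx, vanish_off_core H b hb θ hθ x hx, map_zero]
  have h1 : (Nat.card H : ℝ) ≤ ∑ x : H, if (x : G) ∈ H.normalCore then (b : ℝ) ^ 2 else 0 := by
    rw [← hsum]
    exact Finset.sum_le_sum (fun x _ => hbound x)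
  rw [Finset.sum_ite, Finset.sum_const_zero, add_zero, Finset.sum_const, nsmul_eq_mul] at h1
  have h2 : (Finset.univ.filter (fun x : H => (x : G) ∈ H.normalCore)).card =
      Nat.card H.normalCore := by
    rw [← Fintype.card_subtype, ← Nat.card_eq_fintype_card]
    have e : {x : H // (x : G) ∈ H.normalCore} ≃ H.normalCore :=
      (Subgroup.subgroupOfEquivOfLe H.normalCore_le).toEquiv
    exact Nat.card_congr e
  rw [h2] at h1
  have h3 : (Nat.card H : ℝ) ≤ ((b ^ 2 * Nat.card H.normalCore : ℕ) : ℝ) := by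
    push_cast
    linarith
  exact_mod_cast h3

/-- the degree of a character is at least the sum of the degrees of any set of distinct
irreducible constituents -/
theorem sum_degree_le [Fintype G] [Fintype (IrrCharacter G)] {Ψ : G → ℂ} (hΨ : IsCharacter G Ψ)
    (S : Finset (IrrCharacter G)) (hS : ∀ χ ∈ S, classInner Ψ (χ : G → ℂ) ≠ 0) :
    ∃ D : ℕ, Ψ 1 = (D : ℂ) ∧ ∑ χ ∈ S, charDegree (χ : G → ℂ) ≤ D := by
  classical
  obtain ⟨m, hm, hcoef⟩ := IsCharacter.exists_decomp_sum hΨ
  refine ⟨∑ ψ : IrrCharacter G, m ψ * charDegree (ψ : G → ℂ), ?_, ?_⟩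
  · conv_lhs => rw [hm]
    rw [Finset.sum_apply, Nat.cast_sum]
    apply Finset.sum_congr rfl
    intro ψ _
    rw [Pi.smul_apply, irr_apply_one ψ, nsmul_eq_mul, Nat.cast_mul]
  · calc ∑ χ ∈ S, charDegree (χ : G → ℂ) ≤ ∑ χ ∈ S, m χ * charDegree (χ : G → ℂ) := by
          apply Finset.sum_le_sum
          intro χ hχ
          have h1 : m χ ≠ 0 := by
            intro h0
            apply hS χ hχ
            rw [hcoef, h0, Nat.cast_zero]
          exact Nat.le_mul_of_pos_left _ (Nat.pos_of_ne_zero h1)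
      _ ≤ ∑ ψ : IrrCharacter G, m ψ * charDegree (ψ : G → ℂ) :=
          Finset.sum_le_sum_of_subset (Finset.subset_univ S)

end Cfsg.Agent.Lib.Helper19.IP
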