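/-
helper19: Isaacs–Passman, counting lemma: a nontrivial group all of whose irreducible characters
have degree at most `b` has a nontrivial conjugacy class of size at most `b²`.
-/
import Mathlib
import Cfsg.Prelude.Def_Blocks
import Cfsg.Agent.Lib.Helper19.IPCore

set_option autoImplicit false

namespace Cfsg.Agent.Lib.Helper19.IP

open Cfsg Cfsg.Agent.CharLib Cfsg.Agent.Lib.Helper6 Cfsg.Agent.Lib.Helper24 Cfsg.Agent.Lib.Helper25
open Cfsg.Agent.Lib.Helper21.Isaacs
open scoped ComplexConjugate

universe u

variable {G : Type u} [Group G] [Finite G]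

/-- the sum of the squares of the degrees, as natural numbers -/
theorem sum_charDegree_sq [Fintype (IrrCharacter G)] :
    ∑ χ : IrrCharacter G, charDegree (χ : G → ℂ) ^ 2 = Nat.card G := by
  have h := finsum_irr_apply_one_sq (G := G)
  rw [finsum_eq_sum_of_fintype] at h
  have h2 : ((∑ χ : IrrCharacter G, charDegree (χ : G → ℂ) ^ 2 : ℕ) : ℂ) = (Nat.card G : ℂ) := by
    rw [← h]
    push_cast
    apply Finset.sum_congr rfl
    intro χ _
    rw [irr_apply_one]
  exact_mod_cast h2

/-- the size of a conjugacy class is the index of the centralizer -/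
theorem ncard_carrier_eq_index (x : G) :
    (ConjClasses.mk x).carrier.ncard = (Subgroup.centralizer ({x} : Set G)).index := by
  have h1 := card_conj_mul_card_centralizer x
  have h2 := Subgroup.index_mul_card (Subgroup.centralizer ({x} : Set G))
  have h3 : (ConjClasses.mk x).carrier.ncard = Nat.card {y : G // IsConj y x} := by
    rw [← Nat.card_coe_set_eq]
    apply Nat.card_congr
    apply Equiv.subtypeEquivRight
    intro y
    rw [ConjClasses.mem_carrier_iff_mk_eq, ConjClasses.mk_eq_mk_iff_isConj]
  rw [h3]
  have hpos : 0 < Nat.card (Subgroup.centralizer ({x} : Set G)) := Nat.card_pos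
  exact Nat.eq_of_mul_eq_mul_right hpos (h1.trans h2.symm)

/-- **Counting lemma**: a nontrivial group whose irreducible degrees are at most `b` has a
nontrivial element whose class has at most `b²` elements. -/
theorem exists_small_class (b : ℕ) (hb : ∀ χ : IrrCharacter G, charDegree (χ : G → ℂ) ≤ b)
    (hnt : Nontrivial G) :
    ∃ x : G, x ≠ 1 ∧ (Subgroup.centralizer ({x} : Set G)).index ≤ b ^ 2 := by
  classical
  by_contra hcon
  push Not at hcon
  letI : Fintype G := Fintype.ofFinite G
  letI : Fintype (IrrCharacter G) := fintypeIrr G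
  letI : Fintype (ConjClasses G) := Fintype.ofFinite _
  have hk : Fintype.card (IrrCharacter G) = Fintype.card (ConjClasses G) := by
    have := card_irrCharacter (G := G)
    rwa [Nat.card_eq_fintype_card, Nat.card_eq_fintype_card] at this
  set k := Fintype.card (ConjClasses G) with hkdef
  -- upper bound
  set one : IrrCharacter G := ⟨1, Cfsg.Agent.CharLib.isIrrCharacter_one⟩ with hone
  have hup : Nat.card G ≤ 1 + (k - 1) * b ^ 2 := by
    rw [← sum_charDegree_sq, ← Finset.add_sum_erase _ _ (Finset.mem_univ one)]
    have h1 : charDegree (one : G → ℂ) ^ 2 = 1 := by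
      have : charDegree (one : G → ℂ) = 1 := by
        apply charDegree_of_apply_one
        simp [hone]
      rw [this, one_pow]
    rw [h1]
    apply Nat.add_le_add_left
    have h2 : ∀ χ ∈ Finset.univ.erase one, charDegree (χ : G → ℂ) ^ 2 ≤ b ^ 2 :=
      fun χ _ => Nat.pow_le_pow_left (hb χ) 2
    have h3 := Finset.sum_le_card_nsmul _ _ _ h2
    rw [Finset.card_erase_of_mem (Finset.mem_univ one), Finset.card_univ, hk, smul_eq_mul] at h3
    exact h3
  -- lower bound
  have hlow : 1 + (k - 1) * (b ^ 2 + 1) ≤ Nat.card G := by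
    rw [← Group.sum_card_conj_classes_eq_card, finsum_eq_sum_of_fintype,
      ← Finset.add_sum_erase _ _ (Finset.mem_univ (ConjClasses.mk (1 : G)))]
    have h1 : (ConjClasses.mk (1 : G)).carrier.ncard = 1 := by
      rw [ncard_carrier_eq_index]
      have : Subgroup.centralizer ({(1 : G)} : Set G) = ⊤ := by
        rw [eq_top_iff]
        intro y _
        rw [Subgroup.mem_centralizer_singleton_iff]
        simp
      rw [this, Subgroup.index_top]
    rw [h1]
    apply Nat.add_le_add_left
    have h2 : ∀ c ∈ Finset.univ.erase (ConjClasses.mk (1 : G)), b ^ 2 + 1 ≤ c.carrier.ncard := by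
      intro c hc
      obtain ⟨x, rfl⟩ := ConjClasses.mk_surjective c
      have hx : x ≠ 1 := by
        rintro rfl
        exact (Finset.ne_of_mem_erase hc) rfl
      rw [ncard_carrier_eq_index]
      exact hcon x hx
    have h3 := Finset.card_nsmul_le_sum _ _ _ h2
    rw [Finset.card_erase_of_mem (Finset.mem_univ _), Finset.card_univ, smul_eq_mul] at h3
    exact h3
  have hk1 : k - 1 = 0 := by
    have h1 : (k - 1) * (b ^ 2 + 1) ≤ (k - 1) * b ^ 2 := by omega
    rw [mul_add, mul_one] at h1
    omega
  have hkpos : 0 < k := Fintype.card_pos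
  have hk2 : k = 1 := by omega
  obtain ⟨x, hx⟩ := exists_ne (1 : G)
  apply hx
  have hsub : Subsingleton (ConjClasses G) := by
    rw [← Fintype.card_le_one_iff_subsingleton, ← hkdef, hk2]
  have h1 : ConjClasses.mk x = ConjClasses.mk 1 := Subsingleton.elim _ _
  rw [ConjClasses.mk_eq_mk_iff_isConj] at h1
  exact isConj_one_left.mp h1

end Cfsg.Agent.Lib.Helper19.IP
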