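/-
helper19: Isaacs–Passman, the group-theoretic lemmas about a group `Q` in which every nontrivial
normal subgroup contains the derived subgroup `Q' ≠ 1`.
-/
import Mathlib
import Cfsg.Agent.Lib.Helper21.GalConjA

set_option autoImplicit false

namespace Cfsg.Agent.Lib.Helper19.IP

open scoped commutatorElement

universe u

section pgroup
variable {Q : Type u} [Group Q] [Finite Q]

/-- in a `p`-group in which every nontrivial normal subgroup contains `Q' ≠ 1`, the derived
subgroup is central of order `p` -/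
theorem pgroup_data (p : ℕ) [hp : Fact p.Prime] (hQ : IsPGroup p Q)
    (hmin : ∀ L : Subgroup Q, L.Normal → L ≠ ⊥ → commutator Q ≤ L)
    (hne : commutator Q ≠ ⊥) :
    commutator Q ≤ Subgroup.center Q ∧ Nat.card (commutator Q) = p := by
  obtain ⟨c, hcM, hcZ, hco⟩ :=
    Cfsg.Agent.Lib.Helper21.GalConj.exists_central_orderOf_eq_prime p hQ (commutator Q) hne
  have hzn : (Subgroup.zpowers c).Normal := by
    constructor
    intro n hn g
    obtain ⟨k, rfl⟩ := Subgroup.mem_zpowers_iff.mp hn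
    have hk : c ^ k ∈ Subgroup.center Q := Subgroup.zpow_mem _ hcZ k
    have : g * c ^ k * g⁻¹ = c ^ k := by
      rw [(Subgroup.mem_center_iff.mp hk) g]
      group
    rw [this]
    exact Subgroup.zpow_mem_zpowers c k
  have hzne : Subgroup.zpowers c ≠ ⊥ := by
    intro h
    have h1 : c = 1 := Subgroup.zpowers_eq_bot.mp h
    rw [h1, orderOf_one] at hco
    exact hp.out.one_lt.ne hco
  have hle : commutator Q ≤ Subgroup.zpowers c := hmin _ hzn hzne
  have hge : Subgroup.zpowers c ≤ commutator Q := by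
    rw [Subgroup.zpowers_le]
    exact hcM
  have heq : commutator Q = Subgroup.zpowers c := le_antisymm hle hge
  constructor
  · intro x hx
    obtain ⟨k, rfl⟩ := Subgroup.mem_zpowers_iff.mp (hle hx)
    exact Subgroup.zpow_mem _ hcZ k
  · rw [heq, Nat.card_zpowers, hco]

end pgroup

section frob
variable {Q : Type u} [Group Q] [Finite Q]

/-- in a Frobenius-like group every element outside the kernel is conjugate into the complement -/
theorem exists_conj_mem_of_fpf (M Hc : Subgroup Q) [hM : M.Normal]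
    (hc : Subgroup.IsComplement' M Hc)
    (hfpf : ∀ g, g ∉ M → ∀ n ∈ M, g * n = n * g → n = 1) (g : Q) (hg : g ∉ M) :
    ∃ m : Q, m * g * m⁻¹ ∈ Hc := by
  obtain ⟨⟨⟨n, hn⟩, ⟨h, hh⟩⟩, hnh, -⟩ := (Subgroup.isComplement'_def.mp hc).existsUnique g
  simp only at hnh
  have hhM : h ∉ M := by
    intro hcon
    apply hg
    rw [← hnh]
    exact M.mul_mem hn hcon
  -- the map `m ↦ m⁻¹ (h m h⁻¹)` is injective on `M`, hence surjective
  let φ : M → M := fun m => ⟨(m : Q)⁻¹ * (h * m * h⁻¹), M.mul_mem (M.inv_mem m.2) (hM.conj_mem _ m.2 h)⟩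
  have hinj : Function.Injective φ := by
    intro m m' hmm
    have h1 : (m : Q)⁻¹ * (h * m * h⁻¹) = (m' : Q)⁻¹ * (h * m' * h⁻¹) := congrArg Subtype.val hmm
    have h2 : h * ((m : Q) * (m' : Q)⁻¹) = ((m : Q) * (m' : Q)⁻¹) * h := by
      have h3 : h * (m : Q) * h⁻¹ = (m : Q) * ((m' : Q)⁻¹ * (h * m' * h⁻¹)) := by
        rw [← h1]; group
      calc h * ((m : Q) * (m' : Q)⁻¹) = (h * (m : Q) * h⁻¹) * h * (m' : Q)⁻¹ := by group
        _ = (m : Q) * ((m' : Q)⁻¹ * (h * m' * h⁻¹)) * h * (m' : Q)⁻¹ := by rw [h3]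
        _ = ((m : Q) * (m' : Q)⁻¹) * h := by group
    have h4 := hfpf h hhM _ (M.mul_mem m.2 (M.inv_mem m'.2)) h2
    apply Subtype.ext
    exact mul_inv_eq_one.mp h4
  have hsurj : Function.Surjective φ := Finite.surjective_of_injective hinj
  obtain ⟨m, hm⟩ := hsurj ⟨n, hn⟩
  have hm' : (m : Q)⁻¹ * (h * m * h⁻¹) = n := congrArg Subtype.val hm
  refine ⟨m, ?_⟩
  have : (m : Q) * g * (m : Q)⁻¹ = h := by
    rw [← hnh, ← hm']
    group
  rw [this]
  exact hh

/-- the complement of a Frobenius-like group is core-free -/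
theorem normalCore_complement_eq_bot (M Hc : Subgroup Q) [hM : M.Normal]
    (hc : Subgroup.IsComplement' M Hc) (hMne : M ≠ ⊥)
    (hfpf : ∀ g, g ∉ M → ∀ n ∈ M, g * n = n * g → n = 1) : Hc.normalCore = ⊥ := by
  rw [eq_bot_iff]
  intro x hx
  rw [Subgroup.mem_bot]
  by_contra hx1
  have hdisj : M ⊓ Hc = ⊥ := disjoint_iff.mp hc.disjoint
  have hxH : x ∈ Hc := Hc.normalCore_le hx
  have hxM : x ∉ M := by
    intro hcon
    have : x ∈ M ⊓ Hc := ⟨hcon, hxH⟩
    rw [hdisj, Subgroup.mem_bot] at this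
    exact hx1 this
  apply hMne
  rw [eq_bot_iff]
  intro n hn
  rw [Subgroup.mem_bot]
  apply hfpf x hxM n hn
  have h1 : x * n * x⁻¹ * n⁻¹ ∈ M := M.mul_mem (hM.conj_mem n hn x) (M.inv_mem hn)
  have h2 : x * n * x⁻¹ * n⁻¹ ∈ Hc := by
    have h3 : n * x⁻¹ * n⁻¹ ∈ Hc := Hc.normalCore_le ((Hc.normalCore_normal).conj_mem _
      (Hc.normalCore.inv_mem hx) n)
    have h4 : x * n * x⁻¹ * n⁻¹ = x * (n * x⁻¹ * n⁻¹) := by group
    rw [h4]
    exact Hc.mul_mem hxH h3
  have h5 : x * n * x⁻¹ * n⁻¹ ∈ M ⊓ Hc := ⟨h1, h2⟩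
  rw [hdisj, Subgroup.mem_bot] at h5
  calc x * n = (x * n * x⁻¹ * n⁻¹) * (n * x) := by group
    _ = n * x := by rw [h5, one_mul]

end frob

section nonab
variable {Q : Type u} [Group Q]

/-- if `Q'` is nonabelian and contained in every nontrivial normal subgroup, centralizers of
nontrivial elements are core-free -/
theorem normalCore_centralizer_eq_bot
    (hmin : ∀ L : Subgroup Q, L.Normal → L ≠ ⊥ → commutator Q ≤ L)
    (hnab : ¬ ∀ a ∈ commutator Q, ∀ b ∈ commutator Q, a * b = b * a) (x : Q) (hx : x ≠ 1) :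
    (Subgroup.centralizer ({x} : Set Q)).normalCore = ⊥ := by
  set C := (Subgroup.centralizer ({x} : Set Q)).normalCore with hC
  by_contra hCne
  have hMC : commutator Q ≤ C := hmin C inferInstance hCne
  set D := Subgroup.centralizer (C : Set Q) with hD
  have hDn : D.Normal := Subgroup.normal_centralizer
  have hxD : x ∈ D := by
    rw [hD, Subgroup.mem_centralizer_iff]
    intro c hc
    have h1 : c ∈ Subgroup.centralizer ({x} : Set Q) := Subgroup.normalCore_le _ hc
    rw [Subgroup.mem_centralizer_singleton_iff] at h1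
    exact h1
  have hDne : D ≠ ⊥ := by
    intro h
    rw [h, Subgroup.mem_bot] at hxD
    exact hx hxD
  have hMD : commutator Q ≤ D := hmin D hDn hDne
  apply hnab
  intro a ha b hb
  have h1 : b ∈ D := hMD hb
  rw [hD, Subgroup.mem_centralizer_iff] at h1
  exact h1 a (hMC ha)

/-- in a solvable group in which every nontrivial normal subgroup contains `Q'`, the derived
subgroup is abelian -/
theorem comm_commutator_of_solvable [Group.IsSolvable Q]
    (hmin : ∀ L : Subgroup Q, L.Normal → L ≠ ⊥ → commutator Q ≤ L)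
    (hne : commutator Q ≠ ⊥) :
    ∀ a ∈ commutator Q, ∀ b ∈ commutator Q, a * b = b * a := by
  have hlt : ⁅commutator Q, commutator Q⁆ < commutator Q :=
    Group.IsSolvable.commutator_lt_of_ne_bot hne
  have hbot : ⁅commutator Q, commutator Q⁆ = ⊥ := by
    by_contra h
    have := hmin _ inferInstance h
    exact absurd hlt (not_lt_of_ge this)
  intro a ha b hb
  have h1 : ⁅a, b⁆ ∈ ⁅commutator Q, commutator Q⁆ := Subgroup.commutator_mem_commutator ha hb
  rw [hbot, Subgroup.mem_bot] at h1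
  exact commutatorElement_eq_one_iff_mul_comm.mp h1

end nonab

section comap
variable {G : Type u} [Group G] (K : Subgroup G) [hK : K.Normal]

/-- the preimage of a core-free subgroup of `G / K` has core `K` -/
theorem normalCore_comap_le (Hq : Subgroup (G ⧸ K)) (h : Hq.normalCore = ⊥) :
    (Hq.comap (QuotientGroup.mk' K)).normalCore ≤ K := by
  intro y hy
  rw [← QuotientGroup.eq_one_iff, ← Subgroup.mem_bot, ← h]
  intro q
  obtain ⟨g, rfl⟩ := QuotientGroup.mk'_surjective K q
  have := hy g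
  rw [Subgroup.mem_comap, map_mul, map_mul, map_inv] at this
  exact this

end comap

end Cfsg.Agent.Lib.Helper19.IP
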