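/-
helper19: Isaacs–Passman, the degrees of a normal subgroup with nonabelian quotient are at most
half the maximal degree of the group.
-/
import Mathlib
import Cfsg.Prelude.Def_Blocks
import Cfsg.Agent.Lib.Helper19.IPCore

set_option autoImplicit false

namespace Cfsg.Agent.Lib.Helper19.IP

open Cfsg Cfsg.Agent.CharLib Cfsg.Agent.Lib.Helper6 Cfsg.Agent.Lib.Helper24 Cfsg.Agent.Lib.Helper25
open Cfsg.Agent.Lib.Helper21.Isaacs
open scoped ComplexConjugate

universe u

variable {G : Type u} [Group G] [Finite G]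

/-- a nonabelian group has an irreducible character of degree at least two -/
theorem exists_irr_two_le (hna : ¬ ∀ a b : G, a * b = b * a) :
    ∃ β : IrrCharacter G, 2 ≤ charDegree (β : G → ℂ) := by
  by_contra hcon
  push Not at hcon
  apply hna
  apply (comm_iff_forall_irr_apply_one (G := G)).mpr
  intro χ
  have h1 := hcon χ
  have h2 := irr_charDegree_pos χ
  have h3 : charDegree (χ : G → ℂ) = 1 := by omega
  rw [irr_apply_one, h3, Nat.cast_one]

/-- if `G / K` is nonabelian then twice any irreducible degree of `K` is at most the maximal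
degree of `G` -/
theorem two_mul_charDegree_le (K : Subgroup G) [hK : K.Normal] (b : ℕ)
    (hb : ∀ χ : IrrCharacter G, charDegree (χ : G → ℂ) ≤ b)
    (hna : ¬ ∀ a b : G ⧸ K, a * b = b * a) (ξ : IrrCharacter K) :
    2 * charDegree (ξ : K → ℂ) ≤ b := by
  classical
  letI : Fintype G := Fintype.ofFinite G
  letI : Fintype K := Fintype.ofFinite K
  obtain ⟨χ, hχ⟩ := exists_irr_over_sub K ξ
  by_cases h : 2 * charDegree (ξ : K → ℂ) ≤ charDegree (χ : G → ℂ)
  · exact h.trans (hb χ)
  · push Not at h
    obtain ⟨hdvd, -⟩ := degree_ratio_dvd_index K χ.2 ξ.2 hχ (irr_apply_one χ) (irr_apply_one ξ)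
    obtain ⟨k, hk⟩ := hdvd
    have hχpos := irr_charDegree_pos χ
    have hξpos := irr_charDegree_pos ξ
    have hk1 : k = 1 := by
      rcases Nat.lt_or_ge k 2 with h2 | h2
      · rcases Nat.eq_zero_or_pos k with h0 | h0
        · rw [h0, mul_zero] at hk
          omega
        · omega
      · exfalso
        have : charDegree (ξ : K → ℂ) * 2 ≤ charDegree (ξ : K → ℂ) * k :=
          Nat.mul_le_mul_left _ h2
        omega
    rw [hk1, mul_one] at hk
    have hres : resFun K (χ : G → ℂ) = (ξ : K → ℂ) := resFun_eq_of_degree_le K χ ξ hχ hk.le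
    have hirr : IsIrrCharacter K (resFun K (χ : G → ℂ)) := by rw [hres]; exact ξ.2
    obtain ⟨β, hβ⟩ := exists_irr_two_le hna
    obtain ⟨ψ, hψ⟩ := exists_irr_mul_inflate K χ hirr β
    have h1 := hb ψ
    rw [hψ, hk] at h1
    have : 2 * charDegree (ξ : K → ℂ) ≤ charDegree (β : G ⧸ K → ℂ) * charDegree (ξ : K → ℂ) :=
      Nat.mul_le_mul_right _ hβ
    omega

end Cfsg.Agent.Lib.Helper19.IP
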