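/-
helper19: a finite nonabelian simple group has an irreducible character of degree at least five.
-/
import Mathlib
import Cfsg.Prelude.Def_Blocks
import Cfsg.Agent.Lib.Helper19.IPSmallA
import Cfsg.Agent.Lib.Helper19.IPCount

set_option autoImplicit false

namespace Cfsg.Agent.Lib.Helper19.IP

open Cfsg Cfsg.Agent.CharLib Cfsg.Agent.Lib.Helper6 Cfsg.Agent.Lib.Helper24 Cfsg.Agent.Lib.Helper25
open Cfsg.Agent.Lib.Helper21.Isaacs
open Module
open scoped commutatorElement

universe u

variable {S : Type u} [Group S] [Finite S]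

omit [Finite S] in
/-- a linear character of a perfect group is trivial -/
theorem irr_eq_one_of_perfect (hperf : commutator S = ⊤) (χ : IrrCharacter S)
    (h1 : charDegree (χ : S → ℂ) = 1) : (χ : S → ℂ) = 1 := by
  have hlam : IsCharacter S χ.1 := IsIrrCharacter.isCharacter χ.2
  have hone : χ.1 1 = 1 := by rw [irr_apply_one χ, h1, Nat.cast_one]
  set φ : S →* ℂˣ := linCharUnitsHom hlam hone with hφ
  have hker : commutator S ≤ φ.ker := Abelianization.commutator_subset_ker φ
  funext g
  have hg : g ∈ φ.ker := hker (hperf ▸ Subgroup.mem_top g)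
  rw [MonoidHom.mem_ker] at hg
  have h2 := linCharUnitsHom_apply hlam hone g
  rw [← hφ, hg] at h2
  rw [Pi.one_apply, ← h2, Units.val_one]

omit [Finite S] in
theorem commutator_eq_top_of_simple [IsSimpleGroup S] (hna : ¬ ∀ a b : S, a * b = b * a) :
    commutator S = ⊤ := by
  rcases (inferInstance : (commutator S).Normal).eq_bot_or_eq_top with h | h
  · exfalso
    apply hna
    intro a b
    have h1 : ⁅a, b⁆ ∈ commutator S := by
      rw [commutator_def]
      exact Subgroup.commutator_mem_commutator (Subgroup.mem_top a) (Subgroup.mem_top b)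
    rw [h, Subgroup.mem_bot] at h1
    exact commutatorElement_eq_one_iff_mul_comm.mp h1
  · exact h

omit [Finite S] in
theorem center_eq_bot_of_simple [IsSimpleGroup S] (hna : ¬ ∀ a b : S, a * b = b * a) :
    Subgroup.center S = ⊥ := by
  rcases (inferInstance : (Subgroup.center S).Normal).eq_bot_or_eq_top with h | h
  · exact h
  · exfalso
    apply hna
    intro a b
    have : b ∈ Subgroup.center S := h ▸ Subgroup.mem_top b
    exact (Subgroup.mem_center_iff.mp this) a

omit [Finite S] in
/-- the value of a faithful irreducible representation of small degree of a simple group at an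
involution -/
theorem rep_involution [IsSimpleGroup S] (hna : ¬ ∀ a b : S, a * b = b * a) (n : ℕ)
    (ρ : Representation ℂ S (Fin n → ℂ)) (hirr : ρ.IsIrreducible) (hn2 : 2 ≤ n) (hn4 : n ≤ 4)
    (t : S) (ht1 : t ≠ 1) (ht : t * t = 1) :
    (n = 3 ∧ ρ.character t = -1) ∨ (n = 4 ∧ ρ.character t = 0) := by
  classical
  have hfr : finrank ℂ (Fin n → ℂ) = n := Module.finrank_fin_fun ℂ
  have hker : ρ.ker = ⊥ := by
    rcases (MonoidHom.normal_ker ρ).eq_bot_or_eq_top with h | h
    · exact h
    · exfalso
      have h1 : ∀ g, ρ g = 1 := fun g => by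
        have : g ∈ ρ.ker := h ▸ Subgroup.mem_top g
        exact MonoidHom.mem_ker.mp this
      have h2 := finrank_eq_one_of_forall_eq_one ρ h1
      omega
  have hinj : ∀ g, ρ g = 1 → g = 1 := by
    intro g hg
    have : g ∈ ρ.ker := MonoidHom.mem_ker.mpr hg
    rw [hker, Subgroup.mem_bot] at this
    exact this
  have hinj2 : ∀ a b, ρ a = ρ b → a = b := by
    intro a b hab
    have h1 : ρ (a * b⁻¹) = 1 := by
      rw [map_mul, hab, ← map_mul, mul_inv_cancel, map_one]
    have h2 := hinj _ h1
    calc a = (a * b⁻¹) * b := by group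
      _ = b := by rw [h2, one_mul]
  have hcenter := center_eq_bot_of_simple hna
  have hperf := commutator_eq_top_of_simple hna
  obtain ⟨m, hm, hchar, hdet, h0, hfull⟩ := involution_data ρ t ht
  rw [hfr] at hm hchar hfull
  -- the determinant is trivial
  have hdet1 : LinearMap.det (ρ t) = 1 := by
    set f : S →* ℂ := (LinearMap.det : ((Fin n → ℂ) →ₗ[ℂ] (Fin n → ℂ)) →* ℂ).comp ρ with hf
    have hle : commutator S ≤ f.ker := by
      rw [commutator_def, Subgroup.commutator_le]
      intro a _ b _
      rw [MonoidHom.mem_ker, commutatorElement_def, map_mul, map_mul, map_mul]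
      have ha : f a * f a⁻¹ = 1 := by rw [← map_mul, mul_inv_cancel, map_one]
      have hb : f b * f b⁻¹ = 1 := by rw [← map_mul, mul_inv_cancel, map_one]
      calc f a * f b * f a⁻¹ * f b⁻¹ = (f a * f a⁻¹) * (f b * f b⁻¹) := by ring
        _ = 1 := by rw [ha, hb, one_mul]
    have : t ∈ f.ker := hle (hperf ▸ Subgroup.mem_top t)
    exact MonoidHom.mem_ker.mp this
  have hm0 : m ≠ 0 := fun h => ht1 (hinj t (h0 h))
  have hmn : m ≠ n := by
    intro h
    have hneg := hfull h
    apply ht1
    have hc : t ∈ Subgroup.center S := by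
      rw [Subgroup.mem_center_iff]
      intro g
      apply hinj2
      rw [map_mul, map_mul, hneg]
      ext v i
      simp
    rw [hcenter, Subgroup.mem_bot] at hc
    exact hc
  have heven : Even m := by
    rw [hdet] at hdet1
    exact (neg_one_pow_eq_one_iff_even (by norm_num)).mp hdet1
  obtain ⟨k, hk⟩ := heven
  have hcases : (n = 3 ∧ m = 2) ∨ (n = 4 ∧ m = 2) := by omega
  rcases hcases with ⟨h3, h2⟩ | ⟨h4, h2⟩
  · left
    refine ⟨h3, ?_⟩
    rw [hchar, h3, h2]
    norm_num
  · right
    refine ⟨h4, ?_⟩
    rw [hchar, h4, h2]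
    norm_num

end Cfsg.Agent.Lib.Helper19.IP
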