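/-
helper19: a finite group all of whose irreducible characters have degree at most four is solvable.
-/
import Mathlib
import Cfsg.Prelude.Def_Blocks
import Cfsg.Agent.Lib.Helper19.IPSmallB

set_option autoImplicit false

namespace Cfsg.Agent.Lib.Helper19.IP

open Cfsg Cfsg.Agent.CharLib Cfsg.Agent.Lib.Helper6 Cfsg.Agent.Lib.Helper24 Cfsg.Agent.Lib.Helper25
open Cfsg.Agent.Lib.Helper21.Isaacs
open Module
open scoped commutatorElement

universe u

variable {S : Type u} [Group S] [Finite S]

/-- the irreducible characters of a simple group with degrees at most four, at an involution -/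
theorem irr_cases [IsSimpleGroup S] (hna : ¬ ∀ a b : S, a * b = b * a)
    (hb : ∀ χ : IrrCharacter S, charDegree (χ : S → ℂ) ≤ 4) (χ : IrrCharacter S)
    (t : S) (ht1 : t ≠ 1) (ht : t * t = 1) :
    (χ : S → ℂ) = 1 ∨ (charDegree (χ : S → ℂ) = 3 ∧ (χ : S → ℂ) t = -1) ∨
      (charDegree (χ : S → ℂ) = 4 ∧ (χ : S → ℂ) t = 0) := by
  obtain ⟨n, ρ, hirr, hρ⟩ := χ.2
  have hn : charDegree (χ : S → ℂ) = n := by
    apply charDegree_of_apply_one
    rw [← hρ, Representation.char_one, Module.finrank_fin_fun]
  have hpos := irr_charDegree_pos χ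
  have hle := hb χ
  rw [hn] at hpos hle
  by_cases h1 : n = 1
  · left
    exact irr_eq_one_of_perfect (commutator_eq_top_of_simple hna) χ (hn.trans h1)
  · right
    rcases rep_involution hna n ρ hirr (by omega) hle t ht1 ht with ⟨h3, hv⟩ | ⟨h4, hv⟩
    · left
      exact ⟨hn.trans h3, by rw [← hρ]; exact hv⟩
    · right
      exact ⟨hn.trans h4, by rw [← hρ]; exact hv⟩

/-- a nonabelian simple group with degrees at most four has even order -/
theorem even_card_of_simple [IsSimpleGroup S] (hna : ¬ ∀ a b : S, a * b = b * a)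
    (hb : ∀ χ : IrrCharacter S, charDegree (χ : S → ℂ) ≤ 4) : 2 ∣ Nat.card S := by
  classical
  by_contra hodd
  letI : Fintype (IrrCharacter S) := fintypeIrr S
  set one : IrrCharacter S := ⟨1, Cfsg.Agent.CharLib.isIrrCharacter_one⟩ with hone
  have hperf := commutator_eq_top_of_simple hna
  have hdeg : ∀ χ : IrrCharacter S, χ ≠ one → charDegree (χ : S → ℂ) = 3 := by
    intro χ hχ
    have h1 := irr_charDegree_dvd_card χ
    have h2 := hb χ
    have h3 := irr_charDegree_pos χ
    have h4 : charDegree (χ : S → ℂ) ≠ 1 := by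
      intro h
      apply hχ
      apply Subtype.ext
      exact irr_eq_one_of_perfect hperf χ h
    have h5 : ¬ 2 ∣ charDegree (χ : S → ℂ) := fun h => hodd (h.trans h1)
    omega
  have hsum := sum_charDegree_sq (G := S)
  rw [← Finset.add_sum_erase _ _ (Finset.mem_univ one)] at hsum
  have h1 : charDegree (one : S → ℂ) ^ 2 = 1 := by
    have : charDegree (one : S → ℂ) = 1 := by
      apply charDegree_of_apply_one
      simp [hone]
    rw [this, one_pow]
  have h2 : ∑ χ ∈ Finset.univ.erase one, charDegree (χ : S → ℂ) ^ 2 =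
      (Finset.univ.erase one).card * 9 := by
    rw [Finset.sum_congr rfl (fun χ hχ => by rw [hdeg χ (Finset.ne_of_mem_erase hχ)]),
      Finset.sum_const, smul_eq_mul]
    norm_num
  rw [h1, h2] at hsum
  -- there is a nontrivial character
  have hne : (Finset.univ.erase one).Nonempty := by
    by_contra hemp
    rw [Finset.not_nonempty_iff_eq_empty] at hemp
    rw [hemp, Finset.card_empty, zero_mul, add_zero] at hsum
    apply hna
    intro a b
    have : Subsingleton S := (Nat.card_eq_one_iff_unique.mp hsum.symm).1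
    exact Subsingleton.elim _ _
  obtain ⟨χ, hχ⟩ := hne
  have h3 : 3 ∣ Nat.card S := by
    rw [← hdeg χ (Finset.ne_of_mem_erase hχ)]
    exact irr_charDegree_dvd_card χ
  omega

/-- a nonabelian simple group has an irreducible character of degree at least five -/
theorem false_of_simple_degree_le_four [IsSimpleGroup S] (hna : ¬ ∀ a b : S, a * b = b * a)
    (hb : ∀ χ : IrrCharacter S, charDegree (χ : S → ℂ) ≤ 4) : False := by
  classical
  letI : Fintype S := Fintype.ofFinite S
  letI : Fintype (IrrCharacter S) := fintypeIrr S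
  have h2 := even_card_of_simple hna hb
  haveI : Fact (Nat.Prime 2) := ⟨Nat.prime_two⟩
  rw [Nat.card_eq_fintype_card] at h2
  obtain ⟨t, ht⟩ := exists_prime_orderOf_dvd_card 2 h2
  have ht1 : t ≠ 1 := by
    rintro rfl
    rw [orderOf_one] at ht
    omega
  have htt : t * t = 1 := by
    rw [← pow_two, ← ht, pow_orderOf_eq_one]
  set one : IrrCharacter S := ⟨1, Cfsg.Agent.CharLib.isIrrCharacter_one⟩ with hone
  have hsum := sum_irr_degree_mul t
  rw [if_neg ht1, ← Finset.add_sum_erase _ _ (Finset.mem_univ one)] at hsum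
  have h1 : (one : S → ℂ) 1 * (one : S → ℂ) t = 1 := by simp [hone]
  have hz : ∀ χ : IrrCharacter S, ∃ z : ℤ, χ ≠ one →
      (χ : S → ℂ) 1 * (χ : S → ℂ) t = 3 * (z : ℂ) := by
    intro χ
    rcases irr_cases hna hb χ t ht1 htt with h | ⟨h3, hv⟩ | ⟨h4, hv⟩
    · exact ⟨0, fun hne => absurd (Subtype.ext h) hne⟩
    · refine ⟨-1, fun _ => ?_⟩
      rw [irr_apply_one, h3, hv]
      push_cast
      ring
    · refine ⟨0, fun _ => ?_⟩
      rw [hv]
      simp
  choose z hz using hz
  rw [h1, Finset.sum_congr rfl (fun χ hχ => hz χ (Finset.ne_of_mem_erase hχ)),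
    ← Finset.mul_sum] at hsum
  have h3 : ((1 + 3 * ∑ χ ∈ Finset.univ.erase one, z χ : ℤ) : ℂ) = 0 := by
    push_cast
    exact hsum
  have h4 : (1 + 3 * ∑ χ ∈ Finset.univ.erase one, z χ : ℤ) = 0 := by exact_mod_cast h3
  omega

/-- degrees of a quotient are degrees of the group -/
theorem charDegree_quotient_le {G : Type u} [Group G] (N : Subgroup G) [N.Normal] (b : ℕ)
    (hb : ∀ χ : IrrCharacter G, charDegree (χ : G → ℂ) ≤ b) (β : IrrCharacter (G ⧸ N)) :
    charDegree (β : G ⧸ N → ℂ) ≤ b := by
  have h2 : charDegree ((inflateIrr N β : IrrCharacter G) : G → ℂ) =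
      charDegree (β : G ⧸ N → ℂ) := by
    unfold charDegree
    rw [inflateIrr_apply, QuotientGroup.mk_one]
  rw [← h2]
  exact hb _

theorem isSolvable_of_degree_le_four_aux (n : ℕ) :
    ∀ (G : Type u) [Group G] [Finite G], Nat.card G = n →
      (∀ χ : IrrCharacter G, charDegree (χ : G → ℂ) ≤ 4) → Group.IsSolvable G := by
  induction n using Nat.strong_induction_on with
  | _ n ih =>
    intro G _ _ hcard hb
    by_cases hsimple : ∀ N : Subgroup G, N.Normal → N = ⊥ ∨ N = ⊤
    · by_cases hab : ∀ a b : G, a * b = b * a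
      · exact isSolvable_of_comm hab
      · exfalso
        have hnt : Nontrivial G := by
          by_contra h
          rw [not_nontrivial_iff_subsingleton] at h
          exact hab (fun a b => Subsingleton.elim _ _)
        haveI : IsSimpleGroup G :=
          { exists_pair_ne := hnt.exists_pair_ne
            eq_bot_or_eq_top_of_normal := hsimple }
        exact false_of_simple_degree_le_four hab hb
    · push Not at hsimple
      obtain ⟨N, hN, hNbot, hNtop⟩ := hsimple
      haveI := hN
      have h1 : Nat.card N < n := by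
        rw [← hcard]
        have h2 := Subgroup.card_mul_index N
        have h3 : N.index ≠ 1 := fun h => hNtop (Subgroup.index_eq_one.mp h)
        have h4 : N.index ≠ 0 := Subgroup.index_ne_zero_of_finite
        have h5 : 0 < Nat.card N := Nat.card_pos
        nlinarith [show 2 ≤ N.index by omega]
      have h2 : Nat.card (G ⧸ N) < n := by
        rw [← hcard]
        have h2 := Subgroup.card_mul_index N
        have h3 : Nat.card N ≠ 1 := fun h => hNbot (Subgroup.card_eq_one.mp h)
        have h5 : 0 < Nat.card N := Nat.card_pos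
        have h6 : N.index = Nat.card (G ⧸ N) := rfl
        have h4 : 0 < N.index := Nat.pos_of_ne_zero Subgroup.index_ne_zero_of_finite
        rw [← h6]
        nlinarith [show 2 ≤ Nat.card N by omega]
      haveI : Group.IsSolvable N := ih _ h1 N rfl (charDegree_sub_le N 4 hb)
      haveI : Group.IsSolvable (G ⧸ N) := ih _ h2 (G ⧸ N) rfl (charDegree_quotient_le N 4 hb)
      apply solvable_of_ker_le_range N.subtype (QuotientGroup.mk' N)
      rw [QuotientGroup.ker_mk', Subgroup.range_subtype]

/-- **Lemma D**: a finite group whose irreducible characters all have degree at most four is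
solvable. -/
theorem isSolvable_of_degree_le_four {G : Type u} [Group G] [Finite G]
    (hb : ∀ χ : IrrCharacter G, charDegree (χ : G → ℂ) ≤ 4) : Group.IsSolvable G :=
  isSolvable_of_degree_le_four_aux _ G rfl hb

end Cfsg.Agent.Lib.Helper19.IP
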