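/-
helper19: Isaacs–Passman, the case where `G / K` is a `p`-group.
-/
import Mathlib
import Cfsg.Prelude.Def_Blocks
import Cfsg.Agent.Lib.Helper19.IPHalf
import Cfsg.Agent.Lib.Helper19.IPGroup
import Cfsg.Agent.Lib.Helper19.IPSmallC

set_option autoImplicit false

namespace Cfsg.Agent.Lib.Helper19.IP

open Cfsg Cfsg.Agent.CharLib Cfsg.Agent.Lib.Helper6 Cfsg.Agent.Lib.Helper24 Cfsg.Agent.Lib.Helper25
open Cfsg.Agent.Lib.Helper21.Isaacs Cfsg.Agent.Lib.Helper21.GalConj
open scoped ComplexConjugate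

universe u

variable {G : Type u} [Group G] [Finite G]

omit [Finite G] in
/-- a group with nontrivial derived subgroup is not abelian -/
theorem not_comm_of_commutator_ne_bot (hne : commutator G ≠ ⊥) : ¬ ∀ a b : G, a * b = b * a := by
  intro h
  apply hne
  rw [eq_bot_iff, commutator_def, Subgroup.commutator_le]
  intro u _ v _
  rw [Subgroup.mem_bot, commutatorElement_def, h u v]
  group

/-- **Type 1**: `G / K` a `p`-group. -/
theorem type1 (K : Subgroup G) [hK : K.Normal] (b : ℕ)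
    (hb : ∀ χ : IrrCharacter G, charDegree (χ : G → ℂ) ≤ b)
    (hmin : ∀ L : Subgroup (G ⧸ K), L.Normal → L ≠ ⊥ → commutator (G ⧸ K) ≤ L)
    (hne : commutator (G ⧸ K) ≠ ⊥) (p : ℕ) (hp : p.Prime) (hQ : IsPGroup p (G ⧸ K)) :
    ∃ H : Subgroup G, H.index ≤ b ^ 2 ∧ ∀ θ : IrrCharacter H, charDegree (θ : H → ℂ) < b := by
  classical
  haveI : Fact p.Prime := ⟨hp⟩
  obtain ⟨hle, hcard⟩ := pgroup_data p hQ hmin hne
  have hQna := not_comm_of_commutator_ne_bot hne
  obtain ⟨β, hβ⟩ := exists_irr_two_le hQna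
  set f := charDegree (β : G ⧸ K → ℂ) with hf
  have hβ1 : (β : G ⧸ K → ℂ) 1 = (f : ℂ) := irr_apply_one β
  have hnl : (β : G ⧸ K → ℂ) 1 ≠ 1 := by
    rw [hβ1]
    intro h
    have : f = 1 := by exact_mod_cast h
    omega
  have hvan : ∀ g, g ∉ Subgroup.center (G ⧸ K) → (β : G ⧸ K → ℂ) g = 0 :=
    irr_vanish_off_center hcard hle β.2 hnl
  have hsq := card_center_mul_charDegree_sq_of_vanish β hvan
  rw [← hf] at hsq
  have hfb : f ≤ b := charDegree_quotient_le K b hb β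
  set π : G →* G ⧸ K := QuotientGroup.mk' K with hπ
  have hπs : Function.Surjective π := QuotientGroup.mk'_surjective K
  set Z : Subgroup G := (Subgroup.center (G ⧸ K)).comap π with hZ
  have hZidx : Z.index = f ^ 2 := by
    rw [hZ, Subgroup.index_comap_of_surjective _ hπs]
    have h1 := Subgroup.card_mul_index (Subgroup.center (G ⧸ K))
    rw [← hsq] at h1
    exact Nat.eq_of_mul_eq_mul_left Nat.card_pos h1
  refine ⟨Z, ?_, ?_⟩
  · rw [hZidx]
    exact Nat.pow_le_pow_left hfb 2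
  intro θ
  by_contra hθ
  push Not at hθ
  have hθb : charDegree (θ : Z → ℂ) = b := le_antisymm (charDegree_sub_le Z b hb θ) hθ
  have hbpos : 0 < b := by rw [← hθb]; exact irr_charDegree_pos θ
  letI : Fintype G := Fintype.ofFinite G
  letI : Fintype Z := Fintype.ofFinite Z
  obtain ⟨χ, hχ⟩ := exists_irr_over_sub Z θ
  have hres : resFun Z (χ : G → ℂ) = (θ : Z → ℂ) :=
    resFun_eq_of_degree_le Z χ θ hχ (by rw [hθb]; exact hb χ)
  set β' : IrrCharacter G := inflateIrr K β with hβ'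
  set Φ : G → ℂ := (β' : G → ℂ) * (χ : G → ℂ) with hΦ
  have hΦc : IsCharacter G Φ :=
    IsCharacter.mul (IsIrrCharacter.isCharacter β'.2) (IsIrrCharacter.isCharacter χ.2)
  obtain ⟨c, hc1, hc2⟩ := IsIrrCharacter.exists_central_hom β.2
  have hβ'val : ∀ g : G, (β' : G → ℂ) g = (β : G ⧸ K → ℂ) (π g) := fun g => inflateIrr_apply K β g
  have hoff : ∀ g : G, g ∉ Z → Φ g = 0 := by
    intro g hg
    rw [hΦ, Pi.mul_apply, hβ'val, hvan (π g) hg, zero_mul]
  have hon : ∀ z : Z, Φ z * conj (Φ z) = (f : ℂ) ^ 2 * ((θ : Z → ℂ) z * conj ((θ : Z → ℂ) z)) := by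
    intro z
    have hz : π (z : G) ∈ Subgroup.center (G ⧸ K) := z.2
    have h1 := hc1 ⟨π (z : G), hz⟩ 1
    rw [mul_one, hβ1] at h1
    have h2 : (β' : G → ℂ) z = c ⟨π (z : G), hz⟩ * (f : ℂ) := by
      rw [hβ'val]; exact h1
    have h3 : (χ : G → ℂ) z = (θ : Z → ℂ) z := by
      have := congrFun hres z
      rwa [resFun_apply] at this
    have h4 : c ⟨π (z : G), hz⟩ * conj (c ⟨π (z : G), hz⟩) = 1 := by
      rw [Complex.mul_conj, Complex.normSq_eq_norm_sq, hc2]
      simp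
    rw [hΦ, Pi.mul_apply, h2, h3, map_mul, map_mul, Complex.conj_natCast]
    calc c ⟨π (z : G), hz⟩ * (f : ℂ) * (θ : Z → ℂ) z *
          (conj (c ⟨π (z : G), hz⟩) * (f : ℂ) * conj ((θ : Z → ℂ) z))
        = (c ⟨π (z : G), hz⟩ * conj (c ⟨π (z : G), hz⟩)) * ((f : ℂ) ^ 2 *
            ((θ : Z → ℂ) z * conj ((θ : Z → ℂ) z))) := by ring
      _ = _ := by rw [h4, one_mul]
  have hnorm : classInner Φ Φ = 1 := by
    unfold classInner
    rw [sum_eq_sum_subgroup_add Z (fun g => Φ g * conj (Φ g))]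
    have h1 : ∑ g ∈ Finset.univ.filter (fun g : G => g ∉ Z), Φ g * conj (Φ g) = 0 := by
      apply Finset.sum_eq_zero
      intro g hg
      rw [hoff g (Finset.mem_filter.mp hg).2, zero_mul]
    rw [h1, add_zero, Finset.sum_congr rfl (fun z _ => hon z), ← Finset.mul_sum,
      sum_mul_conj_irr θ.2]
    have h2 : (Nat.card G : ℂ) = (Nat.card Z : ℂ) * (f : ℂ) ^ 2 := by
      rw [← Subgroup.card_mul_index Z, hZidx]
      push_cast
      ring
    have hZ0 : (Nat.card Z : ℂ) ≠ 0 := by exact_mod_cast (Nat.card_pos (α := Z)).ne'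
    have hf0 : (f : ℂ) ≠ 0 := by
      have : f ≠ 0 := by omega
      exact_mod_cast this
    rw [h2]
    field_simp
  have hirr := isIrrCharacter_of_classInner_self_eq_one hΦc hnorm
  have hdeg : charDegree ((⟨Φ, hirr⟩ : IrrCharacter G) : G → ℂ) = f * b := by
    apply charDegree_of_apply_one
    show Φ 1 = _
    rw [hΦ, Pi.mul_apply, hβ'val, map_one, hβ1]
    have h3 : (χ : G → ℂ) 1 = (θ : Z → ℂ) 1 := by
      have := congrFun hres 1
      rwa [resFun_apply] at this
    rw [h3, irr_apply_one θ, hθb]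
    push_cast
    ring
  have h5 := hb ⟨Φ, hirr⟩
  rw [hdeg] at h5
  nlinarith

end Cfsg.Agent.Lib.Helper19.IP
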