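/-
helper19: Isaacs–Passman, the case where `G / K` is Frobenius-like with kernel `(G / K)'`.
-/
import Mathlib
import Cfsg.Prelude.Def_Blocks
import Cfsg.Agent.Lib.Helper19.IPType1

set_option autoImplicit false

namespace Cfsg.Agent.Lib.Helper19.IP

open Cfsg Cfsg.Agent.CharLib Cfsg.Agent.Lib.Helper6 Cfsg.Agent.Lib.Helper24 Cfsg.Agent.Lib.Helper25
open Cfsg.Agent.Lib.Helper21.Isaacs
open scoped ComplexConjugate

universe u

variable {G : Type u} [Group G] [Finite G]

/-- the last step of the Frobenius-like case: `θ ∈ Irr(H)` and `ψ ∈ Irr(L)` both of maximal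
degree force `|G : H| ≤ b` -/
theorem type2_step (K L H : Subgroup G) [hK : K.Normal] [hL : L.Normal] (b : ℕ)
    (hb : ∀ χ : IrrCharacter G, charDegree (χ : G → ℂ) ≤ b)
    (hKL : K ≤ L) (hKH : K ≤ H) (hcore : H.normalCore ≤ K)
    (hconj : ∀ g : G, g ∉ L → ∃ m : G, m * g * m⁻¹ ∈ H)
    (ψ : IrrCharacter L) (hψb : charDegree (ψ : L → ℂ) = b)
    (hψvan : ∀ n : L, (n : G) ∉ K → (ψ : L → ℂ) n = 0)
    (θ : IrrCharacter H) (hθb : charDegree (θ : H → ℂ) = b) :
    H.index ≤ b := by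
  classical
  letI : Fintype G := Fintype.ofFinite G
  letI : Fintype H := Fintype.ofFinite H
  letI : Fintype L := Fintype.ofFinite L
  letI : Fintype (IrrCharacter G) := fintypeIrr G
  have hbpos : 0 < b := by rw [← hθb]; exact irr_charDegree_pos θ
  have hθvan : ∀ h : H, (h : G) ∉ K → (θ : H → ℂ) h = 0 := fun h hh =>
    vanish_off_core H b hb θ hθb h (fun hc => hh (hcore hc))
  obtain ⟨S, hScard, hSres, -⟩ := core_decomp H b hb θ hθb
  have hSval : ∀ χ ∈ S, ∀ h : H, (χ : G → ℂ) h = (θ : H → ℂ) h := by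
    intro χ hχ h
    have := congrFun (hSres χ hχ) h
    rwa [resFun_apply] at this
  have hSvan : ∀ χ ∈ S, ∀ g : G, g ∉ L → (χ : G → ℂ) g = 0 := by
    intro χ hχ g hg
    obtain ⟨m, hm⟩ := hconj g hg
    have hnotK : m * g * m⁻¹ ∉ K := by
      intro hk
      apply hg
      have h1 : m⁻¹ * (m * g * m⁻¹) * m⁻¹⁻¹ ∈ L := hL.conj_mem _ (hKL hk) m⁻¹
      have h2 : m⁻¹ * (m * g * m⁻¹) * m⁻¹⁻¹ = g := by group
      rwa [h2] at h1
    rw [← irr_conj χ g m]
    have := hSval χ hχ ⟨m * g * m⁻¹, hm⟩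
    rw [this]
    exact hθvan ⟨m * g * m⁻¹, hm⟩ hnotK
  obtain ⟨χ0, hχ0⟩ := exists_irr_over_sub L ψ
  have hres0 : resFun L (χ0 : G → ℂ) = (ψ : L → ℂ) :=
    resFun_eq_of_degree_le L χ0 ψ hχ0 (by rw [hψb]; exact hb χ0)
  have hχ0val : ∀ n : L, (χ0 : G → ℂ) n = (ψ : L → ℂ) n := by
    intro n
    have := congrFun hres0 n
    rwa [resFun_apply] at this
  have hidx0 : H.index ≠ 0 := Subgroup.index_ne_zero_of_finite
  have hSne : S.Nonempty := by
    rw [← Finset.card_pos, hScard]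
    omega
  obtain ⟨χ₁, hχ₁⟩ := hSne
  have hprod : ∀ χ ∈ S, (χ0 : G → ℂ) * (χ : G → ℂ) = (χ0 : G → ℂ) * (χ₁ : G → ℂ) := by
    intro χ hχ
    funext g
    rw [Pi.mul_apply, Pi.mul_apply]
    by_cases hgL : g ∈ L
    · by_cases hgK : g ∈ K
      · have h1 := hSval χ hχ ⟨g, hKH hgK⟩
        have h2 := hSval χ₁ hχ₁ ⟨g, hKH hgK⟩
        simp only at h1 h2
        rw [h1, h2]
      · have h1 := hχ0val ⟨g, hgL⟩
        simp only at h1
        rw [h1, hψvan ⟨g, hgL⟩ hgK, zero_mul, zero_mul]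
    · rw [hSvan χ hχ g hgL, hSvan χ₁ hχ₁ g hgL]
  set Φ : G → ℂ := (χ0 : G → ℂ) * (χ₁ : G → ℂ) with hΦ
  have hχ0c : IsCharacter G (χ0 : G → ℂ) := IsIrrCharacter.isCharacter χ0.2
  have hΦc : IsCharacter G Φ := IsCharacter.mul hχ0c (IsIrrCharacter.isCharacter χ₁.2)
  have hχ01 : (χ0 : G → ℂ) 1 = (b : ℂ) := by
    have := hχ0val 1
    rw [irr_apply_one ψ, hψb] at this
    exact this
  have hχ11 : ∀ χ ∈ S, (χ : G → ℂ) 1 = (b : ℂ) := by
    intro χ hχ
    have := hSval χ hχ 1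
    rw [irr_apply_one θ, hθb] at this
    exact this
  have hΦne : Φ ≠ 0 := by
    intro h
    have h1 := congrFun h 1
    rw [hΦ, Pi.mul_apply, hχ01, hχ11 χ₁ hχ₁, Pi.zero_apply] at h1
    have : (b : ℂ) ≠ 0 := by exact_mod_cast hbpos.ne'
    exact mul_ne_zero this this h1
  obtain ⟨Ξ, hΞ, hΞc⟩ := IsCharacter.exists_constituent hΦc hΦne
  set Ψ : G → ℂ := (fun g => conj ((χ0 : G → ℂ) g)) * Ξ with hΨ
  have hΨc : IsCharacter G Ψ :=
    IsCharacter.mul (IsCharacter.conj hχ0c) (IsIrrCharacter.isCharacter hΞ)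
  have hΨS : ∀ χ ∈ S, classInner Ψ (χ : G → ℂ) ≠ 0 := by
    intro χ hχ
    have h1 : classInner (χ : G → ℂ) Ψ = classInner Φ Ξ := by
      have h0 : classInner Φ Ξ = classInner ((χ0 : G → ℂ) * (χ : G → ℂ)) Ξ := by
        rw [hprod χ hχ]
      rw [h0]
      unfold classInner
      congr 1
      apply Finset.sum_congr rfl
      intro g _
      rw [hΨ, Pi.mul_apply, Pi.mul_apply, map_mul, Complex.conj_conj]
      ring
    rw [← classInner_conj_symm, h1]
    exact (map_ne_zero _).mpr hΞc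
  obtain ⟨D, hD1, hD2⟩ := sum_degree_le hΨc S hΨS
  have hdegS : ∀ χ ∈ S, charDegree (χ : G → ℂ) = b := by
    intro χ hχ
    apply charDegree_of_apply_one
    exact hχ11 χ hχ
  rw [Finset.sum_congr rfl hdegS, Finset.sum_const, smul_eq_mul, hScard] at hD2
  have hD3 : D = b * charDegree Ξ := by
    have h1 : Ψ 1 = ((b * charDegree Ξ : ℕ) : ℂ) := by
      rw [hΨ, Pi.mul_apply, hχ01, Complex.conj_natCast]
      have := irr_apply_one ⟨Ξ, hΞ⟩
      simp only at this
      rw [this, Nat.cast_mul]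
    rw [hD1] at h1
    exact_mod_cast h1
  have hΞb : charDegree Ξ ≤ b := hb ⟨Ξ, hΞ⟩
  rw [hD3] at hD2
  have h5 : H.index * b ≤ b * b := hD2.trans (Nat.mul_le_mul_left b hΞb)
  exact Nat.le_of_mul_le_mul_right h5 hbpos

/-- **Type 2**: `G / K` Frobenius-like with abelian kernel `(G / K)'`. -/
theorem type2 (K : Subgroup G) [hK : K.Normal] (b : ℕ)
    (hb : ∀ χ : IrrCharacter G, charDegree (χ : G → ℂ) ≤ b)
    (hne : commutator (G ⧸ K) ≠ ⊥)
    (hab : ∀ a ∈ commutator (G ⧸ K), ∀ b ∈ commutator (G ⧸ K), a * b = b * a)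
    (p : ℕ) (hp : p.Prime) (hMp : IsPGroup p (commutator (G ⧸ K)))
    (hcop : ((commutator (G ⧸ K)).index).Coprime p)
    (hfpf : ∀ g, g ∉ commutator (G ⧸ K) → ∀ n ∈ commutator (G ⧸ K), g * n = n * g → n = 1) :
    ∃ H : Subgroup G, H.index ≤ b ^ 2 ∧ ∀ θ : IrrCharacter H, charDegree (θ : H → ℂ) < b := by
  classical
  haveI : Fact p.Prime := ⟨hp⟩
  set M : Subgroup (G ⧸ K) := commutator (G ⧸ K) with hM
  set π : G →* G ⧸ K := QuotientGroup.mk' K with hπ
  have hπs : Function.Surjective π := QuotientGroup.mk'_surjective K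
  set L : Subgroup G := M.comap π with hL
  haveI hLn : L.Normal := Subgroup.Normal.comap inferInstance π
  have hmemL : ∀ g : G, g ∈ L ↔ π g ∈ M := fun g => Iff.rfl
  have hmemK : ∀ g : G, g ∈ K ↔ π g = 1 := fun g => (QuotientGroup.eq_one_iff g).symm
  have hKL : K ≤ L := by
    intro k hk
    rw [hmemL, (hmemK k).mp hk]
    exact M.one_mem
  have hA : ∀ a ∈ L, ∀ b ∈ L, a * b * a⁻¹ * b⁻¹ ∈ K := by
    intro a ha b hb
    rw [hmemK, map_mul, map_mul, map_mul, map_inv, map_inv, hab (π a) ha (π b) hb]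
    group
  have hF : ∀ g, g ∉ L → ∀ n ∈ L, g * n * g⁻¹ * n⁻¹ ∈ K → n ∈ K := by
    intro g hg n hn h
    rw [hmemK, map_mul, map_mul, map_mul, map_inv, map_inv] at h
    rw [hmemK]
    apply hfpf (π g) hg (π n) hn
    calc π g * π n = (π g * π n * (π g)⁻¹ * (π n)⁻¹) * (π n * π g) := by group
      _ = π n * π g := by rw [h, one_mul]
  have hrel : K.relIndex L = Nat.card M := by
    have h1 : K = (⊥ : Subgroup (G ⧸ K)).comap π := by
      rw [MonoidHom.comap_bot, hπ, QuotientGroup.ker_mk']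
    conv_lhs => rw [h1]
    rw [Subgroup.relIndex_comap, hL, Subgroup.map_comap_eq_self_of_surjective hπs,
      Subgroup.relIndex_bot_left]
  obtain ⟨a, ha⟩ := hMp.exists_card_eq
  have hP : ∃ a, K.relIndex L = p ^ a := ⟨a, by rw [hrel, ha]⟩
  have hLidx : L.index = M.index := Subgroup.index_comap_of_surjective M hπs
  have hcopL : (L.index).Coprime p := by rw [hLidx]; exact hcop
  have ha0 : a ≠ 0 := by
    intro h0
    rw [h0, pow_zero] at ha
    exact hne (Subgroup.card_eq_one.mp ha)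
  obtain ⟨n₀, hn₀L, hn₀K⟩ : ∃ n₀ ∈ L, n₀ ∉ K := by
    by_contra hcon
    push Not at hcon
    have : K.relIndex L = 1 := Subgroup.relIndex_eq_one.mpr hcon
    rw [hrel, ha] at this
    have h2 : p ∣ p ^ a := dvd_pow_self p ha0
    rw [this] at h2
    exact hp.one_lt.ne' (Nat.dvd_one.mp h2)
  have hQna := not_comm_of_commutator_ne_bot hne
  have hone : L.index ≠ 1 := by
    intro h1
    rw [hLidx] at h1
    have hMtop : M = ⊤ := Subgroup.index_eq_one.mp h1
    apply hQna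
    intro u v
    exact hab u (hMtop ▸ Subgroup.mem_top u) v (hMtop ▸ Subgroup.mem_top v)
  have hLpos : 0 < L.index := Nat.pos_of_ne_zero Subgroup.index_ne_zero_of_finite
  letI : Fintype L := Fintype.ofFinite L
  -- step A: the index of `L` is a degree
  have hfb : L.index ≤ b := by
    rcases isaacs_12_4 K L p hA hF hP hcopL ⟨1, Cfsg.Agent.Lib.Helper6.isIrrCharacter_one L⟩ with
      ⟨χ, hχ⟩ | ⟨hvan, -⟩
    · have h1 := irr_apply_one χ
      rw [hχ] at h1
      simp only [Pi.one_apply, mul_one] at h1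
      have h2 : L.index = charDegree (χ : G → ℂ) := by exact_mod_cast h1
      rw [h2]
      exact hb χ
    · have := hvan ⟨n₀, hn₀L⟩ hn₀K
      simp at this
  have hbpos : 0 < b := lt_of_lt_of_le hLpos hfb
  have hbsq : b ≤ b ^ 2 := Nat.le_self_pow (by norm_num) b
  -- step B
  by_cases hLdeg : ∀ ψ : IrrCharacter L, charDegree (ψ : L → ℂ) < b
  · exact ⟨L, hfb.trans hbsq, hLdeg⟩
  push Not at hLdeg
  obtain ⟨ψ, hψ⟩ := hLdeg
  have hψb : charDegree (ψ : L → ℂ) = b := le_antisymm (charDegree_sub_le L b hb ψ) hψ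
  have hψ1 := irr_apply_one ψ
  rw [hψb] at hψ1
  rcases isaacs_12_4 K L p hA hF hP hcopL ψ with ⟨χ, hχ⟩ | ⟨hψvan, e, t, d, het, hψd⟩
  · exfalso
    have h1 := irr_apply_one χ
    rw [hχ, hψ1] at h1
    have h2 : L.index * b = charDegree (χ : G → ℂ) := by exact_mod_cast h1
    have h3 := hb χ
    rw [← h2] at h3
    have h4 : 2 ≤ L.index := by omega
    nlinarith
  have hq : K.relIndex L ≤ b ^ 2 := by
    rw [hψ1] at hψd
    have h1 : b = e * t * d := by exact_mod_cast hψd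
    have hrpos : 0 < K.relIndex L := by
      rw [hrel]; exact Nat.card_pos
    rw [← het] at hrpos ⊢
    have he : 0 < e := by
      rcases Nat.eq_zero_or_pos e with h | h
      · rw [h] at hrpos; simp at hrpos
      · exact h
    have ht : 0 < t := by
      rcases Nat.eq_zero_or_pos t with h | h
      · rw [h] at hrpos; simp at hrpos
      · exact h
    have hd : 0 < d := by
      rcases Nat.eq_zero_or_pos d with h | h
      · rw [h, mul_zero] at h1; omega
      · exact h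
    have h2 : e ≤ b := by
      rw [h1]
      calc e = e * 1 * 1 := by ring
        _ ≤ e * t * d := Nat.mul_le_mul (Nat.mul_le_mul_left e ht) hd
    have h3 : e * t ≤ b := by
      rw [h1]
      exact Nat.le_mul_of_pos_right _ hd
    calc e * e * t = e * (e * t) := by ring
      _ ≤ b * b := Nat.mul_le_mul h2 h3
      _ = b ^ 2 := by ring
  -- step C: the complement
  have hMcop : (Nat.card M).Coprime M.index := by
    rw [ha]
    exact Nat.Coprime.pow_left a hcop.symm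
  obtain ⟨Hc, hHc⟩ := Subgroup.exists_right_complement'_of_coprime hMcop
  set H : Subgroup G := Hc.comap π with hH
  have hHidx : H.index = K.relIndex L := by
    rw [hH, Subgroup.index_comap_of_surjective _ hπs, hHc.index_eq_card, hrel]
  have hKH : K ≤ H := by
    intro k hk
    rw [hH, Subgroup.mem_comap, (hmemK k).mp hk]
    exact Hc.one_mem
  have hcoreH : H.normalCore ≤ K :=
    normalCore_comap_le K Hc (normalCore_complement_eq_bot M Hc hHc hne hfpf)
  by_cases hHdeg : ∀ θ : IrrCharacter H, charDegree (θ : H → ℂ) < b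
  · exact ⟨H, by rw [hHidx]; exact hq, hHdeg⟩
  push Not at hHdeg
  obtain ⟨θ, hθ⟩ := hHdeg
  have hθb : charDegree (θ : H → ℂ) = b := le_antisymm (charDegree_sub_le H b hb θ) hθ
  -- step D
  have hconj : ∀ g : G, g ∉ L → ∃ m : G, m * g * m⁻¹ ∈ H := by
    intro g hg
    obtain ⟨m', hm'⟩ := exists_conj_mem_of_fpf M Hc hHc hfpf (π g) hg
    obtain ⟨m, rfl⟩ := hπs m'
    refine ⟨m, ?_⟩
    rw [hH, Subgroup.mem_comap, map_mul, map_mul, map_inv]
    exact hm'
  have hqb : H.index ≤ b := type2_step K L H b hb hKL hKH hcoreH hconj ψ hψb hψvan θ hθb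
  refine ⟨K, ?_, ?_⟩
  · rw [← Subgroup.relIndex_mul_index hKL, ← hHidx, pow_two]
    exact Nat.mul_le_mul hqb hfb
  · intro ξ
    have := two_mul_charDegree_le K b hb hQna ξ
    have hpos := irr_charDegree_pos ξ
    omega

end Cfsg.Agent.Lib.Helper19.IP
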