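/-
helper19: Isaacs–Passman, the case where the derived subgroup of `G / K` is nonabelian.
-/
import Mathlib
import Cfsg.Prelude.Def_Blocks
import Cfsg.Agent.Lib.Helper19.IPType1

set_option autoImplicit false

namespace Cfsg.Agent.Lib.Helper19.IP

open Cfsg Cfsg.Agent.CharLib Cfsg.Agent.Lib.Helper6 Cfsg.Agent.Lib.Helper24 Cfsg.Agent.Lib.Helper25
open Cfsg.Agent.Lib.Helper21.Isaacs
open scoped ComplexConjugate

universe u

variable {G : Type u} [Group G] [Finite G]

/-- **Type 3**: the derived subgroup of `G / K` is nonabelian. -/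
theorem type3 (K : Subgroup G) [hK : K.Normal] (b : ℕ)
    (hb : ∀ χ : IrrCharacter G, charDegree (χ : G → ℂ) ≤ b)
    (hmin : ∀ L : Subgroup (G ⧸ K), L.Normal → L ≠ ⊥ → commutator (G ⧸ K) ≤ L)
    (hne : commutator (G ⧸ K) ≠ ⊥)
    (hnab : ¬ ∀ a ∈ commutator (G ⧸ K), ∀ b ∈ commutator (G ⧸ K), a * b = b * a) :
    (∃ H : Subgroup G, H.index ≤ b ^ 2 ∧ ∀ θ : IrrCharacter H, charDegree (θ : H → ℂ) < b) ∨
      (5 ≤ b ∧ K.index ≤ b ^ 4) := by
  classical
  have hnt : Nontrivial (G ⧸ K) := by
    by_contra h
    rw [not_nontrivial_iff_subsingleton] at h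
    exact hne (Subsingleton.elim _ _)
  have hbQ := charDegree_quotient_le K b hb
  obtain ⟨x, hx1, hxidx⟩ := exists_small_class b hbQ hnt
  have hcore := normalCore_centralizer_eq_bot hmin hnab x hx1
  set π : G →* G ⧸ K := QuotientGroup.mk' K with hπ
  have hπs : Function.Surjective π := QuotientGroup.mk'_surjective K
  set H : Subgroup G := (Subgroup.centralizer ({x} : Set (G ⧸ K))).comap π with hH
  have hHidx : H.index ≤ b ^ 2 := by
    rw [hH, Subgroup.index_comap_of_surjective _ hπs]
    exact hxidx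
  have hcoreH : H.normalCore ≤ K := normalCore_comap_le K _ hcore
  by_cases h : ∀ θ : IrrCharacter H, charDegree (θ : H → ℂ) < b
  · left
    exact ⟨H, hHidx, h⟩
  · right
    push Not at h
    obtain ⟨θ, hθ⟩ := h
    have hθb : charDegree (θ : H → ℂ) = b := le_antisymm (charDegree_sub_le H b hb θ) hθ
    constructor
    · by_contra hb5
      push Not at hb5
      haveI : Group.IsSolvable G :=
        isSolvable_of_degree_le_four (fun χ => (hb χ).trans (by omega))
      exact hnab (comm_commutator_of_solvable hmin hne)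
    · have h1 := card_le_sq_mul_card_core H b hb θ hθb
      have h2 : Nat.card H.normalCore ≤ Nat.card K := Subgroup.card_le_of_le hcoreH
      have h3 := Subgroup.index_mul_card H
      have h4 := Subgroup.index_mul_card K
      have hKpos : 0 < Nat.card K := Nat.card_pos
      have h5 : K.index * Nat.card K ≤ b ^ 4 * Nat.card K := by
        rw [h4, ← h3]
        calc H.index * Nat.card H ≤ b ^ 2 * (b ^ 2 * Nat.card K) :=
              Nat.mul_le_mul hHidx (h1.trans (Nat.mul_le_mul_left _ h2))
          _ = b ^ 4 * Nat.card K := by ring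
      exact Nat.le_of_mul_le_mul_right h5 hKpos

end Cfsg.Agent.Lib.Helper19.IP
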