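import Mathlib

set_option autoImplicit false

namespace Cfsg.Agent.Lib.Helper19

open MulAction
open scoped Pointwise

section jordan
variable {G Ω : Type*} [Group G] [MulAction G Ω]

/-- elements of the fixing subgroup of `Γᶜ` preserve `Γ` -/
theorem smul_mem_of_mem_fixingSubgroup_compl {Γ : Set Ω} {j : G} (hj : j ∈ fixingSubgroup G Γᶜ)
    {x : Ω} (hx : x ∈ Γ) : j • x ∈ Γ := by
  by_contra h
  have h1 : j • (j • x) = j • x := (mem_fixingSubgroup_iff G).mp hj _ h
  have h2 : j • x = x := smul_left_cancel j h1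
  rw [h2] at h
  exact h hx

/-- A quasiprimitive group with a primitive Jordan set is primitive. -/
theorem isPreprimitive_of_quasiprimitive_of_jordan
    (hqp : ∀ N : Subgroup G, N.Normal → N ≠ ⊥ → IsPretransitive ↥N Ω)
    (Γ : Set Ω) (hΓ1 : ∃ γ₀ ∈ Γ, ∃ γ₁ ∈ Γ, γ₀ ≠ γ₁)
    (hJp : IsPreprimitive ↥(fixingSubgroup G Γᶜ) ↥(SubMulAction.ofFixingSubgroup G Γᶜ)) :
    IsPreprimitive G Ω := by
  obtain ⟨γ₀, hγ₀, γ₁, hγ₁, hne⟩ := hΓ1
  have hJ : IsPretransitive ↥(fixingSubgroup G Γᶜ) ↥(SubMulAction.ofFixingSubgroup G Γᶜ) :=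
    hJp.toIsPretransitive
  -- lifting points of Γ
  have hmemC : ∀ x ∈ Γ, x ∈ SubMulAction.ofFixingSubgroup G Γᶜ := by
    intro x hx
    rw [SubMulAction.mem_ofFixingSubgroup_iff]
    exact fun h => h hx
  -- J moves γ₀ to γ₁
  obtain ⟨j₀, hj₀⟩ := hJ.exists_smul_eq ⟨γ₀, hmemC γ₀ hγ₀⟩ ⟨γ₁, hmemC γ₁ hγ₁⟩
  have hj₀' : (j₀ : G) • γ₀ = γ₁ := congrArg Subtype.val hj₀
  have hJne : fixingSubgroup G Γᶜ ≠ ⊥ := by
    intro h
    have : (j₀ : G) ∈ (⊥ : Subgroup G) := h ▸ j₀.2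
    rw [Subgroup.mem_bot] at this
    rw [this, one_smul] at hj₀'
    exact hne hj₀'
  -- G is transitive
  have htop : (⊤ : Subgroup G) ≠ ⊥ := by
    intro h
    apply hJne
    rw [eq_bot_iff, ← h]
    exact le_top
  have hG : IsPretransitive G Ω := by
    have := hqp ⊤ inferInstance htop
    constructor
    intro x y
    obtain ⟨g, hg⟩ := this.exists_smul_eq x y
    exact ⟨g, hg⟩
  refine { toIsPretransitive := hG, isTrivialBlock_of_isBlock := ?_ }
  intro B hB
  by_contra hBt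
  have hBs : ¬ B.Subsingleton := fun h => hBt (Or.inl h)
  have hBu : B ≠ Set.univ := fun h => hBt (Or.inr h)
  rw [Set.not_subsingleton_iff] at hBs
  obtain ⟨b₁, hb₁, b₂, hb₂, hb⟩ := hBs
  -- translate so that γ₀ ∈ B
  obtain ⟨g, hg⟩ := hG.exists_smul_eq b₁ γ₀
  have hB' : IsBlock G (g • B) := hB.translate g
  have hγ₀B : γ₀ ∈ g • B := hg ▸ Set.smul_mem_smul_set hb₁
  have hB'u : g • B ≠ Set.univ := by
    intro h
    apply hBu
    have := congrArg (fun S : Set Ω => g⁻¹ • S) h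
    simpa using this
  have hb' : g • b₁ ≠ g • b₂ := fun h => hb (smul_left_cancel g h)
  have hb₂' : g • b₂ ∈ g • B := Set.smul_mem_smul_set hb₂
  rw [hg] at hb'
  generalize g • B = B' at hB' hγ₀B hB'u hb₂'
  generalize g • b₂ = β at hb' hb₂'
  -- the trace of the block on Γ
  have hBC : IsBlock ↥(fixingSubgroup G Γᶜ)
      (Subtype.val ⁻¹' B' : Set ↥(SubMulAction.ofFixingSubgroup G Γᶜ)) :=
    (hB'.subgroup (H := fixingSubgroup G Γᶜ)).subtype_val_preimage
  rcases hJp.isTrivialBlock_of_isBlock hBC with hsub | huniv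
  · -- the block meets Γ in one point
    have hβΓ : β ∉ Γ := by
      intro hβ
      have h1 : (⟨γ₀, hmemC γ₀ hγ₀⟩ : ↥(SubMulAction.ofFixingSubgroup G Γᶜ)) ∈
          (Subtype.val ⁻¹' B' : Set ↥(SubMulAction.ofFixingSubgroup G Γᶜ)) := hγ₀B
      have h2 : (⟨β, hmemC β hβ⟩ : ↥(SubMulAction.ofFixingSubgroup G Γᶜ)) ∈
          (Subtype.val ⁻¹' B' : Set ↥(SubMulAction.ofFixingSubgroup G Γᶜ)) := hb₂'
      have := hsub h1 h2
      exact hb' (congrArg Subtype.val this)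
    have hjβ : (j₀ : G) • β = β := (mem_fixingSubgroup_iff G).mp j₀.2 β hβΓ
    have hjB : (j₀ : G) • B' = B' := hB'.smul_eq_of_mem hb₂' (hjβ.symm ▸ hb₂')
    have hγ₁B : γ₁ ∈ B' := by
      rw [← hj₀', ← hjB]
      exact Set.smul_mem_smul_set hγ₀B
    have h1 : (⟨γ₀, hmemC γ₀ hγ₀⟩ : ↥(SubMulAction.ofFixingSubgroup G Γᶜ)) ∈
        (Subtype.val ⁻¹' B' : Set ↥(SubMulAction.ofFixingSubgroup G Γᶜ)) := hγ₀B
    have h2 : (⟨γ₁, hmemC γ₁ hγ₁⟩ : ↥(SubMulAction.ofFixingSubgroup G Γᶜ)) ∈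
        (Subtype.val ⁻¹' B' : Set ↥(SubMulAction.ofFixingSubgroup G Γᶜ)) := hγ₁B
    have := hsub h1 h2
    exact hne (congrArg Subtype.val this)
  · -- the block contains Γ
    have hΓB : Γ ⊆ B' := by
      intro x hx
      have : (⟨x, hmemC x hx⟩ : ↥(SubMulAction.ofFixingSubgroup G Γᶜ)) ∈
          (Subtype.val ⁻¹' B' : Set ↥(SubMulAction.ofFixingSubgroup G Γᶜ)) := by
        rw [huniv]; trivial
      exact this
    have hJcore : fixingSubgroup G Γᶜ ≤ (stabilizer G B').normalCore := by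
      intro j hj b
      rw [mem_stabilizer_iff]
      -- `j` fixes the block `b⁻¹ • B'`
      have key : j • (b⁻¹ • B') = b⁻¹ • B' := by
        rcases hB'.smul_eq_or_disjoint b⁻¹ with h | h
        · rw [h]
          exact hB'.smul_eq_of_mem hγ₀B (hΓB (smul_mem_of_mem_fixingSubgroup_compl hj hγ₀))
        · ext x
          constructor
          · rintro ⟨y, hy, rfl⟩
            have hyΓ : y ∉ Γ := fun hyΓ => Set.disjoint_left.mp h hy (hΓB hyΓ)
            have : j • y = y := (mem_fixingSubgroup_iff G).mp hj y hyΓ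
            show j • y ∈ b⁻¹ • B'
            rw [this]; exact hy
          · intro hx
            have hxΓ : x ∉ Γ := fun hxΓ => Set.disjoint_left.mp h hx (hΓB hxΓ)
            have : j • x = x := (mem_fixingSubgroup_iff G).mp hj x hxΓ
            exact ⟨x, hx, this⟩
      calc (b * j * b⁻¹) • B' = b • (j • (b⁻¹ • B')) := by rw [mul_smul, mul_smul]
        _ = b • (b⁻¹ • B') := by rw [key]
        _ = B' := smul_inv_smul b B'
    have hcore_ne : (stabilizer G B').normalCore ≠ ⊥ := by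
      intro h
      apply hJne
      rw [eq_bot_iff, ← h]
      exact hJcore
    have htr := hqp _ inferInstance hcore_ne
    apply hB'u
    rw [Set.eq_univ_iff_forall]
    intro ω
    obtain ⟨n, hn⟩ := htr.exists_smul_eq γ₀ ω
    have hnB : (n : G) • B' = B' := mem_stabilizer_iff.mp (Subgroup.normalCore_le _ n.2)
    have h1 : (n : G) • γ₀ ∈ (n : G) • B' := Set.smul_mem_smul_set hγ₀B
    rw [hnB] at h1
    rw [← hn]
    exact h1

end jordan

end Cfsg.Agent.Lib.Helper19
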