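/-
Helper19 library (generated data): the 168 elements of a subgroup `L₂(7)` of `SU₃(3)` over `𝔽₉ = 𝔽₃[√-1]`,
in breadth-first order from the generators `gx` (order 2) and `gy` (order 3), with certificates.
-/
import Mathlib
import Cfsg.Agent.Lib.Helper19.PSU33Spec

set_option autoImplicit false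

namespace Cfsg.Agent.Lib.Helper19.L27Data

open Cfsg.Agent.Lib.Helper19.PSU33Spec

/-- generator of order 2. -/
def gx : M9 := !![⟨1, 0⟩, ⟨1, 1⟩, ⟨1, 0⟩; ⟨1, 2⟩, ⟨0, 0⟩, ⟨2, 1⟩; ⟨1, 0⟩, ⟨2, 2⟩, ⟨1, 0⟩]
/-- generator of order 3. -/
def gy : M9 := !![⟨1, 0⟩, ⟨1, 0⟩, ⟨1, 1⟩; ⟨2, 0⟩, ⟨2, 2⟩, ⟨2, 0⟩; ⟨2, 1⟩, ⟨0, 1⟩, ⟨0, 1⟩]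

/-- the 168 elements. -/
def L : List M9 := [
  !![⟨1, 0⟩, ⟨0, 0⟩, ⟨0, 0⟩; ⟨0, 0⟩, ⟨1, 0⟩, ⟨0, 0⟩; ⟨0, 0⟩, ⟨0, 0⟩, ⟨1, 0⟩],
  !![⟨1, 0⟩, ⟨1, 1⟩, ⟨1, 0⟩; ⟨1, 2⟩, ⟨0, 0⟩, ⟨2, 1⟩; ⟨1, 0⟩, ⟨2, 2⟩, ⟨1, 0⟩],
  !![⟨1, 0⟩, ⟨1, 0⟩, ⟨1, 1⟩; ⟨2, 0⟩, ⟨2, 2⟩, ⟨2, 0⟩; ⟨2, 1⟩, ⟨0, 1⟩, ⟨0, 1⟩],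
  !![⟨2, 0⟩, ⟨1, 2⟩, ⟨0, 1⟩; ⟨1, 0⟩, ⟨0, 1⟩, ⟨1, 2⟩; ⟨1, 2⟩, ⟨1, 0⟩, ⟨2, 0⟩],
  !![⟨0, 0⟩, ⟨1, 2⟩, ⟨1, 2⟩; ⟨2, 0⟩, ⟨0, 0⟩, ⟨0, 0⟩; ⟨0, 0⟩, ⟨2, 2⟩, ⟨1, 1⟩],
  !![⟨1, 0⟩, ⟨2, 0⟩, ⟨2, 2⟩; ⟨1, 0⟩, ⟨2, 1⟩, ⟨0, 2⟩; ⟨1, 2⟩, ⟨2, 0⟩, ⟨0, 2⟩],
  !![⟨2, 2⟩, ⟨0, 1⟩, ⟨2, 0⟩; ⟨0, 0⟩, ⟨2, 1⟩, ⟨1, 1⟩; ⟨1, 1⟩, ⟨0, 1⟩, ⟨2, 0⟩],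
  !![⟨0, 0⟩, ⟨2, 0⟩, ⟨0, 0⟩; ⟨1, 1⟩, ⟨0, 0⟩, ⟨2, 1⟩; ⟨1, 1⟩, ⟨0, 0⟩, ⟨1, 2⟩],
  !![⟨2, 0⟩, ⟨2, 1⟩, ⟨0, 2⟩; ⟨2, 0⟩, ⟨2, 0⟩, ⟨2, 2⟩; ⟨2, 1⟩, ⟨2, 0⟩, ⟨0, 2⟩],
  !![⟨2, 0⟩, ⟨1, 0⟩, ⟨1, 1⟩; ⟨1, 1⟩, ⟨0, 2⟩, ⟨1, 0⟩; ⟨0, 2⟩, ⟨1, 1⟩, ⟨2, 0⟩],
  !![⟨0, 0⟩, ⟨0, 0⟩, ⟨0, 2⟩; ⟨2, 2⟩, ⟨1, 1⟩, ⟨0, 0⟩; ⟨2, 2⟩, ⟨2, 2⟩, ⟨0, 0⟩],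
  !![⟨2, 1⟩, ⟨0, 0⟩, ⟨1, 2⟩; ⟨0, 2⟩, ⟨2, 2⟩, ⟨0, 2⟩; ⟨2, 0⟩, ⟨1, 2⟩, ⟨2, 0⟩],
  !![⟨2, 1⟩, ⟨1, 0⟩, ⟨2, 0⟩; ⟨0, 0⟩, ⟨2, 1⟩, ⟨2, 1⟩; ⟨1, 1⟩, ⟨0, 1⟩, ⟨0, 2⟩],
  !![⟨1, 0⟩, ⟨2, 0⟩, ⟨1, 1⟩; ⟨2, 0⟩, ⟨1, 0⟩, ⟨1, 1⟩; ⟨1, 2⟩, ⟨1, 2⟩, ⟨0, 0⟩],
  !![⟨2, 0⟩, ⟨0, 0⟩, ⟨0, 0⟩; ⟨0, 0⟩, ⟨0, 0⟩, ⟨0, 1⟩; ⟨0, 0⟩, ⟨0, 2⟩, ⟨0, 0⟩],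
  !![⟨0, 2⟩, ⟨2, 1⟩, ⟨0, 2⟩; ⟨1, 2⟩, ⟨0, 1⟩, ⟨0, 2⟩; ⟨0, 2⟩, ⟨0, 1⟩, ⟨1, 2⟩],
  !![⟨1, 1⟩, ⟨1, 0⟩, ⟨1, 0⟩; ⟨1, 1⟩, ⟨2, 0⟩, ⟨2, 0⟩; ⟨0, 0⟩, ⟨2, 1⟩, ⟨1, 2⟩],
  !![⟨2, 0⟩, ⟨0, 2⟩, ⟨2, 1⟩; ⟨2, 1⟩, ⟨1, 1⟩, ⟨0, 0⟩; ⟨2, 0⟩, ⟨0, 2⟩, ⟨1, 2⟩],
  !![⟨2, 0⟩, ⟨1, 2⟩, ⟨0, 2⟩; ⟨1, 0⟩, ⟨1, 2⟩, ⟨0, 1⟩; ⟨2, 1⟩, ⟨0, 0⟩, ⟨1, 1⟩],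
  !![⟨1, 2⟩, ⟨1, 2⟩, ⟨0, 0⟩; ⟨1, 0⟩, ⟨2, 0⟩, ⟨2, 2⟩; ⟨1, 0⟩, ⟨2, 0⟩, ⟨1, 1⟩],
  !![⟨2, 0⟩, ⟨2, 2⟩, ⟨2, 0⟩; ⟨0, 1⟩, ⟨1, 2⟩, ⟨0, 1⟩; ⟨2, 2⟩, ⟨0, 0⟩, ⟨1, 1⟩],
  !![⟨2, 0⟩, ⟨2, 0⟩, ⟨2, 2⟩; ⟨2, 2⟩, ⟨2, 0⟩, ⟨2, 0⟩; ⟨0, 1⟩, ⟨2, 1⟩, ⟨0, 1⟩],
  !![⟨2, 2⟩, ⟨0, 2⟩, ⟨0, 1⟩; ⟨2, 2⟩, ⟨0, 1⟩, ⟨0, 2⟩; ⟨0, 0⟩, ⟨2, 2⟩, ⟨2, 2⟩],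
  !![⟨0, 0⟩, ⟨2, 1⟩, ⟨1, 2⟩; ⟨2, 2⟩, ⟨1, 0⟩, ⟨1, 0⟩; ⟨1, 1⟩, ⟨1, 0⟩, ⟨1, 0⟩],
  !![⟨0, 0⟩, ⟨1, 2⟩, ⟨2, 2⟩; ⟨1, 1⟩, ⟨1, 0⟩, ⟨0, 1⟩; ⟨2, 1⟩, ⟨0, 2⟩, ⟨1, 0⟩],
  !![⟨2, 2⟩, ⟨0, 0⟩, ⟨1, 2⟩; ⟨1, 0⟩, ⟨2, 2⟩, ⟨0, 2⟩; ⟨2, 0⟩, ⟨2, 2⟩, ⟨0, 1⟩],
  !![⟨2, 0⟩, ⟨1, 0⟩, ⟨2, 1⟩; ⟨1, 2⟩, ⟨2, 0⟩, ⟨1, 0⟩; ⟨0, 2⟩, ⟨1, 1⟩, ⟨0, 2⟩],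
  !![⟨2, 2⟩, ⟨1, 0⟩, ⟨2, 0⟩; ⟨2, 0⟩, ⟨1, 0⟩, ⟨2, 2⟩; ⟨0, 1⟩, ⟨1, 2⟩, ⟨0, 1⟩],
  !![⟨0, 0⟩, ⟨2, 2⟩, ⟨1, 1⟩; ⟨1, 0⟩, ⟨0, 0⟩, ⟨0, 0⟩; ⟨0, 0⟩, ⟨1, 2⟩, ⟨1, 2⟩],
  !![⟨1, 0⟩, ⟨2, 1⟩, ⟨0, 2⟩; ⟨1, 1⟩, ⟨0, 1⟩, ⟨0, 2⟩; ⟨0, 2⟩, ⟨1, 0⟩, ⟨2, 2⟩],
  !![⟨0, 0⟩, ⟨2, 1⟩, ⟨2, 1⟩; ⟨0, 0⟩, ⟨1, 2⟩, ⟨2, 1⟩; ⟨0, 1⟩, ⟨0, 0⟩, ⟨0, 0⟩],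
  !![⟨1, 2⟩, ⟨1, 0⟩, ⟨0, 1⟩; ⟨0, 2⟩, ⟨2, 2⟩, ⟨1, 0⟩; ⟨0, 2⟩, ⟨0, 2⟩, ⟨1, 2⟩],
  !![⟨1, 2⟩, ⟨0, 0⟩, ⟨2, 2⟩; ⟨0, 2⟩, ⟨1, 1⟩, ⟨1, 0⟩; ⟨0, 1⟩, ⟨1, 1⟩, ⟨2, 0⟩],
  !![⟨1, 1⟩, ⟨0, 1⟩, ⟨2, 0⟩; ⟨0, 0⟩, ⟨1, 2⟩, ⟨2, 2⟩; ⟨2, 2⟩, ⟨0, 1⟩, ⟨2, 0⟩],
  !![⟨1, 1⟩, ⟨2, 2⟩, ⟨0, 0⟩; ⟨2, 0⟩, ⟨2, 0⟩, ⟨1, 2⟩; ⟨1, 0⟩, ⟨1, 0⟩, ⟨1, 2⟩],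
  !![⟨0, 1⟩, ⟨1, 1⟩, ⟨0, 1⟩; ⟨2, 2⟩, ⟨0, 2⟩, ⟨0, 2⟩; ⟨0, 1⟩, ⟨0, 1⟩, ⟨1, 1⟩],
  !![⟨1, 1⟩, ⟨0, 1⟩, ⟨0, 1⟩; ⟨1, 0⟩, ⟨2, 1⟩, ⟨0, 1⟩; ⟨0, 2⟩, ⟨1, 0⟩, ⟨1, 1⟩],
  !![⟨2, 1⟩, ⟨1, 2⟩, ⟨0, 0⟩; ⟨2, 1⟩, ⟨2, 1⟩, ⟨0, 0⟩; ⟨0, 0⟩, ⟨0, 0⟩, ⟨0, 1⟩],
  !![⟨2, 1⟩, ⟨0, 1⟩, ⟨0, 1⟩; ⟨1, 0⟩, ⟨1, 1⟩, ⟨1, 0⟩; ⟨1, 0⟩, ⟨1, 0⟩, ⟨1, 1⟩],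
  !![⟨2, 1⟩, ⟨2, 0⟩, ⟨0, 2⟩; ⟨1, 0⟩, ⟨1, 0⟩, ⟨1, 1⟩; ⟨2, 0⟩, ⟨2, 1⟩, ⟨0, 2⟩],
  !![⟨1, 1⟩, ⟨0, 2⟩, ⟨1, 0⟩; ⟨2, 1⟩, ⟨2, 0⟩, ⟨0, 2⟩; ⟨0, 0⟩, ⟨1, 1⟩, ⟨1, 2⟩],
  !![⟨0, 0⟩, ⟨1, 0⟩, ⟨0, 0⟩; ⟨2, 1⟩, ⟨0, 0⟩, ⟨1, 1⟩; ⟨1, 2⟩, ⟨0, 0⟩, ⟨1, 1⟩],
  !![⟨1, 0⟩, ⟨1, 2⟩, ⟨0, 1⟩; ⟨2, 2⟩, ⟨0, 2⟩, ⟨1, 0⟩; ⟨0, 1⟩, ⟨0, 1⟩, ⟨2, 1⟩],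
  !![⟨2, 1⟩, ⟨2, 1⟩, ⟨0, 0⟩; ⟨0, 1⟩, ⟨0, 2⟩, ⟨2, 1⟩; ⟨0, 2⟩, ⟨0, 1⟩, ⟨2, 1⟩],
  !![⟨0, 1⟩, ⟨2, 2⟩, ⟨0, 1⟩; ⟨0, 2⟩, ⟨0, 1⟩, ⟨2, 2⟩; ⟨1, 1⟩, ⟨0, 2⟩, ⟨0, 1⟩],
  !![⟨1, 2⟩, ⟨1, 0⟩, ⟨2, 0⟩; ⟨2, 0⟩, ⟨0, 2⟩, ⟨2, 1⟩; ⟨2, 0⟩, ⟨1, 2⟩, ⟨0, 1⟩],
  !![⟨2, 2⟩, ⟨2, 2⟩, ⟨0, 0⟩; ⟨1, 1⟩, ⟨2, 2⟩, ⟨0, 0⟩; ⟨0, 0⟩, ⟨0, 0⟩, ⟨0, 2⟩],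
  !![⟨2, 1⟩, ⟨0, 2⟩, ⟨0, 1⟩; ⟨2, 0⟩, ⟨0, 2⟩, ⟨1, 1⟩; ⟨0, 1⟩, ⟨2, 1⟩, ⟨1, 0⟩],
  !![⟨2, 2⟩, ⟨1, 0⟩, ⟨1, 0⟩; ⟨0, 2⟩, ⟨1, 2⟩, ⟨1, 0⟩; ⟨0, 2⟩, ⟨1, 0⟩, ⟨1, 2⟩],
  !![⟨1, 2⟩, ⟨2, 2⟩, ⟨0, 0⟩; ⟨0, 1⟩, ⟨2, 0⟩, ⟨1, 2⟩; ⟨1, 0⟩, ⟨0, 1⟩, ⟨1, 1⟩],
  !![⟨2, 0⟩, ⟨1, 1⟩, ⟨0, 1⟩; ⟨1, 0⟩, ⟨2, 0⟩, ⟨1, 2⟩; ⟨2, 2⟩, ⟨1, 0⟩, ⟨0, 1⟩],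
  !![⟨0, 2⟩, ⟨1, 0⟩, ⟨2, 1⟩; ⟨1, 1⟩, ⟨2, 0⟩, ⟨1, 0⟩; ⟨0, 2⟩, ⟨1, 2⟩, ⟨2, 0⟩],
  !![⟨1, 2⟩, ⟨0, 1⟩, ⟨0, 1⟩; ⟨0, 0⟩, ⟨1, 1⟩, ⟨2, 2⟩; ⟨2, 2⟩, ⟨2, 0⟩, ⟨2, 0⟩],
  !![⟨1, 2⟩, ⟨2, 0⟩, ⟨0, 2⟩; ⟨2, 0⟩, ⟨1, 2⟩, ⟨0, 1⟩; ⟨1, 0⟩, ⟨2, 0⟩, ⟨2, 2⟩],
  !![⟨1, 1⟩, ⟨0, 1⟩, ⟨0, 2⟩; ⟨0, 0⟩, ⟨1, 2⟩, ⟨1, 2⟩; ⟨2, 1⟩, ⟨1, 0⟩, ⟨2, 0⟩],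
  !![⟨0, 0⟩, ⟨0, 0⟩, ⟨0, 1⟩; ⟨1, 2⟩, ⟨1, 2⟩, ⟨0, 0⟩; ⟨2, 1⟩, ⟨1, 2⟩, ⟨0, 0⟩],
  !![⟨1, 2⟩, ⟨0, 0⟩, ⟨2, 1⟩; ⟨0, 2⟩, ⟨1, 1⟩, ⟨0, 2⟩; ⟨2, 0⟩, ⟨2, 1⟩, ⟨2, 0⟩],
  !![⟨1, 2⟩, ⟨2, 0⟩, ⟨1, 0⟩; ⟨2, 1⟩, ⟨2, 0⟩, ⟨1, 0⟩; ⟨0, 0⟩, ⟨1, 1⟩, ⟨1, 1⟩],
  !![⟨2, 0⟩, ⟨1, 0⟩, ⟨2, 2⟩; ⟨1, 1⟩, ⟨1, 1⟩, ⟨0, 0⟩; ⟨0, 1⟩, ⟨0, 2⟩, ⟨1, 2⟩],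
  !![⟨0, 0⟩, ⟨1, 1⟩, ⟨2, 2⟩; ⟨0, 0⟩, ⟨1, 1⟩, ⟨1, 1⟩; ⟨0, 2⟩, ⟨0, 0⟩, ⟨0, 0⟩],
  !![⟨0, 1⟩, ⟨2, 0⟩, ⟨2, 2⟩; ⟨2, 1⟩, ⟨2, 0⟩, ⟨2, 0⟩; ⟨0, 1⟩, ⟨2, 2⟩, ⟨2, 0⟩],
  !![⟨1, 1⟩, ⟨0, 0⟩, ⟨1, 2⟩; ⟨2, 2⟩, ⟨0, 0⟩, ⟨1, 2⟩; ⟨0, 0⟩, ⟨2, 0⟩, ⟨0, 0⟩],
  !![⟨0, 2⟩, ⟨0, 1⟩, ⟨1, 2⟩; ⟨2, 1⟩, ⟨0, 2⟩, ⟨0, 1⟩; ⟨0, 2⟩, ⟨2, 1⟩, ⟨0, 2⟩],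
  !![⟨1, 1⟩, ⟨0, 2⟩, ⟨0, 1⟩; ⟨0, 1⟩, ⟨0, 2⟩, ⟨1, 1⟩; ⟨0, 1⟩, ⟨2, 2⟩, ⟨0, 1⟩],
  !![⟨1, 1⟩, ⟨2, 0⟩, ⟨2, 0⟩; ⟨1, 0⟩, ⟨0, 1⟩, ⟨1, 1⟩; ⟨2, 0⟩, ⟨2, 2⟩, ⟨0, 2⟩],
  !![⟨2, 2⟩, ⟨2, 0⟩, ⟨0, 2⟩; ⟨0, 1⟩, ⟨0, 1⟩, ⟨2, 2⟩; ⟨0, 2⟩, ⟨1, 2⟩, ⟨1, 0⟩],
  !![⟨0, 2⟩, ⟨0, 2⟩, ⟨1, 1⟩; ⟨1, 2⟩, ⟨2, 1⟩, ⟨0, 0⟩; ⟨2, 0⟩, ⟨2, 0⟩, ⟨2, 1⟩],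
  !![⟨2, 1⟩, ⟨0, 2⟩, ⟨0, 2⟩; ⟨1, 2⟩, ⟨0, 2⟩, ⟨0, 2⟩; ⟨0, 0⟩, ⟨1, 2⟩, ⟨2, 1⟩],
  !![⟨0, 0⟩, ⟨1, 1⟩, ⟨1, 2⟩; ⟨1, 2⟩, ⟨1, 0⟩, ⟨0, 1⟩; ⟨1, 1⟩, ⟨0, 2⟩, ⟨1, 0⟩],
  !![⟨0, 2⟩, ⟨1, 1⟩, ⟨2, 0⟩; ⟨2, 2⟩, ⟨0, 1⟩, ⟨2, 0⟩; ⟨2, 0⟩, ⟨1, 0⟩, ⟨1, 1⟩],
  !![⟨0, 0⟩, ⟨0, 0⟩, ⟨1, 0⟩; ⟨0, 0⟩, ⟨2, 0⟩, ⟨0, 0⟩; ⟨1, 0⟩, ⟨0, 0⟩, ⟨0, 0⟩],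
  !![⟨2, 1⟩, ⟨0, 0⟩, ⟨1, 1⟩; ⟨2, 0⟩, ⟨2, 1⟩, ⟨0, 2⟩; ⟨2, 0⟩, ⟨1, 2⟩, ⟨0, 2⟩],
  !![⟨0, 1⟩, ⟨1, 2⟩, ⟨0, 1⟩; ⟨1, 0⟩, ⟨2, 0⟩, ⟨1, 1⟩; ⟨2, 2⟩, ⟨1, 0⟩, ⟨2, 0⟩],
  !![⟨2, 2⟩, ⟨2, 0⟩, ⟨2, 0⟩; ⟨0, 0⟩, ⟨2, 2⟩, ⟨1, 1⟩; ⟨1, 2⟩, ⟨0, 1⟩, ⟨0, 1⟩],
  !![⟨1, 0⟩, ⟨0, 1⟩, ⟨1, 2⟩; ⟨0, 2⟩, ⟨1, 0⟩, ⟨1, 1⟩; ⟨1, 1⟩, ⟨1, 2⟩, ⟨0, 0⟩],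
  !![⟨1, 0⟩, ⟨2, 1⟩, ⟨0, 1⟩; ⟨2, 2⟩, ⟨0, 0⟩, ⟨2, 1⟩; ⟨0, 2⟩, ⟨2, 2⟩, ⟨1, 0⟩],
  !![⟨1, 2⟩, ⟨0, 2⟩, ⟨0, 2⟩; ⟨0, 1⟩, ⟨0, 1⟩, ⟨2, 1⟩; ⟨0, 2⟩, ⟨1, 2⟩, ⟨0, 2⟩],
  !![⟨1, 1⟩, ⟨2, 0⟩, ⟨0, 2⟩; ⟨0, 2⟩, ⟨2, 1⟩, ⟨2, 0⟩; ⟨0, 1⟩, ⟨0, 2⟩, ⟨1, 1⟩],
  !![⟨0, 1⟩, ⟨2, 1⟩, ⟨1, 0⟩; ⟨1, 0⟩, ⟨0, 1⟩, ⟨2, 2⟩; ⟨2, 1⟩, ⟨0, 2⟩, ⟨0, 1⟩],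
  !![⟨2, 0⟩, ⟨1, 2⟩, ⟨2, 0⟩; ⟨0, 1⟩, ⟨1, 1⟩, ⟨0, 1⟩; ⟨2, 1⟩, ⟨0, 0⟩, ⟨1, 2⟩],
  !![⟨1, 0⟩, ⟨2, 2⟩, ⟨1, 0⟩; ⟨2, 1⟩, ⟨0, 0⟩, ⟨1, 2⟩; ⟨1, 0⟩, ⟨1, 1⟩, ⟨1, 0⟩],
  !![⟨0, 0⟩, ⟨2, 2⟩, ⟨2, 2⟩; ⟨1, 1⟩, ⟨0, 2⟩, ⟨0, 1⟩; ⟨2, 2⟩, ⟨0, 2⟩, ⟨0, 1⟩],
  !![⟨0, 1⟩, ⟨1, 1⟩, ⟨2, 0⟩; ⟨0, 1⟩, ⟨2, 2⟩, ⟨2, 0⟩; ⟨1, 2⟩, ⟨0, 0⟩, ⟨2, 2⟩],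
  !![⟨0, 1⟩, ⟨2, 2⟩, ⟨2, 0⟩; ⟨1, 2⟩, ⟨1, 0⟩, ⟨1, 0⟩; ⟨0, 1⟩, ⟨2, 0⟩, ⟨2, 2⟩],
  !![⟨0, 0⟩, ⟨2, 1⟩, ⟨1, 1⟩; ⟨2, 2⟩, ⟨1, 0⟩, ⟨0, 1⟩; ⟨1, 2⟩, ⟨0, 2⟩, ⟨1, 0⟩],
  !![⟨1, 0⟩, ⟨1, 0⟩, ⟨2, 1⟩; ⟨2, 0⟩, ⟨2, 2⟩, ⟨0, 2⟩; ⟨1, 1⟩, ⟨1, 0⟩, ⟨0, 1⟩],
  !![⟨1, 0⟩, ⟨1, 1⟩, ⟨0, 1⟩; ⟨2, 1⟩, ⟨0, 2⟩, ⟨0, 2⟩; ⟨0, 1⟩, ⟨2, 0⟩, ⟨2, 1⟩],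
  !![⟨0, 0⟩, ⟨2, 2⟩, ⟨2, 1⟩; ⟨2, 1⟩, ⟨1, 0⟩, ⟨0, 1⟩; ⟨2, 2⟩, ⟨0, 2⟩, ⟨1, 0⟩],
  !![⟨0, 2⟩, ⟨1, 0⟩, ⟨2, 2⟩; ⟨2, 2⟩, ⟨0, 2⟩, ⟨0, 1⟩; ⟨1, 0⟩, ⟨2, 1⟩, ⟨0, 2⟩],
  !![⟨0, 0⟩, ⟨0, 2⟩, ⟨0, 0⟩; ⟨0, 0⟩, ⟨0, 0⟩, ⟨0, 2⟩; ⟨2, 0⟩, ⟨0, 0⟩, ⟨0, 0⟩],
  !![⟨0, 2⟩, ⟨1, 1⟩, ⟨0, 2⟩; ⟨2, 1⟩, ⟨1, 0⟩, ⟨2, 0⟩; ⟨2, 0⟩, ⟨1, 0⟩, ⟨2, 1⟩],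
  !![⟨0, 0⟩, ⟨1, 2⟩, ⟨2, 1⟩; ⟨2, 1⟩, ⟨0, 1⟩, ⟨0, 1⟩; ⟨2, 1⟩, ⟨0, 2⟩, ⟨0, 2⟩],
  !![⟨1, 1⟩, ⟨0, 0⟩, ⟨2, 1⟩; ⟨0, 2⟩, ⟨1, 2⟩, ⟨2, 0⟩; ⟨0, 2⟩, ⟨2, 1⟩, ⟨2, 0⟩],
  !![⟨1, 0⟩, ⟨2, 0⟩, ⟨1, 2⟩; ⟨1, 0⟩, ⟨2, 1⟩, ⟨1, 0⟩; ⟨2, 2⟩, ⟨0, 1⟩, ⟨0, 2⟩],
  !![⟨1, 1⟩, ⟨2, 0⟩, ⟨1, 0⟩; ⟨2, 0⟩, ⟨1, 1⟩, ⟨2, 0⟩; ⟨0, 1⟩, ⟨0, 2⟩, ⟨2, 1⟩],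
  !![⟨2, 1⟩, ⟨1, 0⟩, ⟨0, 1⟩; ⟨0, 1⟩, ⟨0, 2⟩, ⟨1, 2⟩; ⟨0, 1⟩, ⟨2, 2⟩, ⟨1, 0⟩],
  !![⟨0, 2⟩, ⟨0, 2⟩, ⟨2, 2⟩; ⟨2, 0⟩, ⟨2, 1⟩, ⟨2, 0⟩; ⟨1, 2⟩, ⟨1, 0⟩, ⟨1, 0⟩],
  !![⟨1, 0⟩, ⟨1, 0⟩, ⟨1, 2⟩; ⟨1, 0⟩, ⟨1, 0⟩, ⟨2, 1⟩; ⟨1, 1⟩, ⟨2, 2⟩, ⟨0, 0⟩],
  !![⟨2, 0⟩, ⟨0, 2⟩, ⟨1, 2⟩; ⟨1, 2⟩, ⟨2, 2⟩, ⟨0, 0⟩; ⟨2, 0⟩, ⟨0, 2⟩, ⟨2, 1⟩],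
  !![⟨0, 2⟩, ⟨0, 2⟩, ⟨1, 2⟩; ⟨0, 1⟩, ⟨1, 1⟩, ⟨2, 0⟩; ⟨1, 2⟩, ⟨1, 0⟩, ⟨0, 1⟩],
  !![⟨0, 1⟩, ⟨0, 2⟩, ⟨1, 1⟩; ⟨0, 1⟩, ⟨1, 2⟩, ⟨1, 0⟩; ⟨1, 1⟩, ⟨2, 0⟩, ⟨0, 2⟩],
  !![⟨2, 2⟩, ⟨1, 1⟩, ⟨0, 0⟩; ⟨0, 1⟩, ⟨0, 1⟩, ⟨1, 1⟩; ⟨0, 1⟩, ⟨0, 1⟩, ⟨2, 2⟩],
  !![⟨1, 0⟩, ⟨0, 1⟩, ⟨2, 2⟩; ⟨0, 2⟩, ⟨1, 0⟩, ⟨1, 2⟩; ⟨2, 1⟩, ⟨1, 1⟩, ⟨0, 0⟩],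
  !![⟨0, 1⟩, ⟨2, 1⟩, ⟨2, 0⟩; ⟨1, 2⟩, ⟨0, 2⟩, ⟨1, 0⟩; ⟨2, 0⟩, ⟨2, 0⟩, ⟨1, 2⟩],
  !![⟨0, 1⟩, ⟨2, 0⟩, ⟨2, 1⟩; ⟨1, 2⟩, ⟨0, 1⟩, ⟨0, 1⟩; ⟨1, 0⟩, ⟨1, 1⟩, ⟨0, 1⟩],
  !![⟨2, 1⟩, ⟨0, 1⟩, ⟨2, 0⟩; ⟨0, 0⟩, ⟨2, 2⟩, ⟨2, 1⟩; ⟨1, 2⟩, ⟨0, 1⟩, ⟨2, 0⟩],
  !![⟨0, 1⟩, ⟨2, 0⟩, ⟨1, 1⟩; ⟨0, 1⟩, ⟨2, 2⟩, ⟨1, 0⟩; ⟨2, 1⟩, ⟨2, 0⟩, ⟨1, 0⟩],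
  !![⟨1, 2⟩, ⟨2, 1⟩, ⟨0, 0⟩; ⟨0, 0⟩, ⟨0, 0⟩, ⟨2, 0⟩; ⟨1, 1⟩, ⟨1, 1⟩, ⟨0, 0⟩],
  !![⟨1, 2⟩, ⟨0, 0⟩, ⟨1, 1⟩; ⟨1, 2⟩, ⟨0, 0⟩, ⟨2, 2⟩; ⟨0, 0⟩, ⟨1, 0⟩, ⟨0, 0⟩],
  !![⟨2, 2⟩, ⟨0, 0⟩, ⟨1, 1⟩; ⟨0, 2⟩, ⟨2, 1⟩, ⟨0, 2⟩; ⟨2, 0⟩, ⟨2, 2⟩, ⟨2, 0⟩],
  !![⟨0, 1⟩, ⟨2, 1⟩, ⟨0, 1⟩; ⟨1, 1⟩, ⟨1, 0⟩, ⟨1, 0⟩; ⟨2, 0⟩, ⟨2, 0⟩, ⟨2, 2⟩],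
  !![⟨0, 2⟩, ⟨1, 0⟩, ⟨1, 1⟩; ⟨2, 0⟩, ⟨1, 2⟩, ⟨0, 2⟩; ⟨1, 1⟩, ⟨0, 1⟩, ⟨0, 1⟩],
  !![⟨2, 2⟩, ⟨0, 2⟩, ⟨1, 0⟩; ⟨1, 2⟩, ⟨2, 0⟩, ⟨0, 2⟩; ⟨0, 0⟩, ⟨2, 2⟩, ⟨2, 1⟩],
  !![⟨0, 2⟩, ⟨2, 2⟩, ⟨0, 2⟩; ⟨2, 0⟩, ⟨2, 0⟩, ⟨2, 1⟩; ⟨2, 1⟩, ⟨2, 0⟩, ⟨2, 0⟩],
  !![⟨2, 2⟩, ⟨0, 2⟩, ⟨0, 2⟩; ⟨1, 0⟩, ⟨0, 1⟩, ⟨2, 1⟩; ⟨0, 2⟩, ⟨1, 1⟩, ⟨1, 0⟩],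
  !![⟨0, 1⟩, ⟨2, 2⟩, ⟨1, 0⟩; ⟨0, 2⟩, ⟨0, 1⟩, ⟨2, 1⟩; ⟨2, 1⟩, ⟨1, 0⟩, ⟨0, 1⟩],
  !![⟨0, 0⟩, ⟨0, 0⟩, ⟨2, 0⟩; ⟨0, 1⟩, ⟨0, 0⟩, ⟨0, 0⟩; ⟨0, 0⟩, ⟨0, 1⟩, ⟨0, 0⟩],
  !![⟨1, 0⟩, ⟨1, 1⟩, ⟨0, 2⟩; ⟨1, 2⟩, ⟨0, 0⟩, ⟨1, 1⟩; ⟨0, 1⟩, ⟨1, 2⟩, ⟨1, 0⟩],
  !![⟨2, 0⟩, ⟨0, 2⟩, ⟨2, 2⟩; ⟨1, 1⟩, ⟨1, 2⟩, ⟨0, 0⟩; ⟨2, 0⟩, ⟨0, 2⟩, ⟨1, 1⟩],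
  !![⟨0, 2⟩, ⟨1, 0⟩, ⟨1, 2⟩; ⟨0, 1⟩, ⟨2, 1⟩, ⟨2, 0⟩; ⟨2, 2⟩, ⟨1, 0⟩, ⟨1, 0⟩],
  !![⟨2, 1⟩, ⟨0, 2⟩, ⟨1, 0⟩; ⟨2, 2⟩, ⟨2, 0⟩, ⟨0, 2⟩; ⟨0, 0⟩, ⟨1, 2⟩, ⟨2, 2⟩],
  !![⟨2, 0⟩, ⟨2, 2⟩, ⟨0, 1⟩; ⟨2, 0⟩, ⟨1, 1⟩, ⟨0, 1⟩; ⟨2, 2⟩, ⟨0, 0⟩, ⟨1, 2⟩],
  !![⟨0, 2⟩, ⟨0, 1⟩, ⟨2, 1⟩; ⟨0, 2⟩, ⟨0, 1⟩, ⟨1, 2⟩; ⟨2, 1⟩, ⟨2, 1⟩, ⟨0, 0⟩],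
  !![⟨1, 2⟩, ⟨1, 0⟩, ⟨1, 0⟩; ⟨1, 0⟩, ⟨1, 2⟩, ⟨1, 0⟩; ⟨0, 2⟩, ⟨0, 2⟩, ⟨2, 2⟩],
  !![⟨1, 2⟩, ⟨0, 1⟩, ⟨0, 2⟩; ⟨2, 0⟩, ⟨2, 2⟩, ⟨0, 1⟩; ⟨0, 1⟩, ⟨2, 0⟩, ⟨1, 2⟩],
  !![⟨0, 2⟩, ⟨0, 1⟩, ⟨2, 2⟩; ⟨2, 1⟩, ⟨0, 2⟩, ⟨1, 0⟩; ⟨1, 0⟩, ⟨2, 2⟩, ⟨0, 2⟩],
  !![⟨1, 2⟩, ⟨0, 1⟩, ⟨2, 0⟩; ⟨0, 0⟩, ⟨1, 1⟩, ⟨1, 2⟩; ⟨2, 1⟩, ⟨0, 1⟩, ⟨2, 0⟩],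
  !![⟨2, 2⟩, ⟨2, 1⟩, ⟨0, 0⟩; ⟨0, 1⟩, ⟨2, 0⟩, ⟨1, 1⟩; ⟨1, 0⟩, ⟨0, 1⟩, ⟨2, 1⟩],
  !![⟨2, 1⟩, ⟨0, 0⟩, ⟨2, 2⟩; ⟨0, 0⟩, ⟨0, 1⟩, ⟨0, 0⟩; ⟨2, 2⟩, ⟨0, 0⟩, ⟨2, 1⟩],
  !![⟨2, 0⟩, ⟨2, 1⟩, ⟨2, 0⟩; ⟨0, 1⟩, ⟨2, 2⟩, ⟨0, 1⟩; ⟨1, 2⟩, ⟨0, 0⟩, ⟨2, 1⟩],
  !![⟨0, 1⟩, ⟨0, 0⟩, ⟨0, 0⟩; ⟨0, 0⟩, ⟨2, 1⟩, ⟨1, 2⟩; ⟨0, 0⟩, ⟨2, 1⟩, ⟨2, 1⟩],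
  !![⟨2, 2⟩, ⟨1, 0⟩, ⟨0, 1⟩; ⟨2, 0⟩, ⟨1, 0⟩, ⟨2, 1⟩; ⟨2, 0⟩, ⟨1, 1⟩, ⟨0, 1⟩],
  !![⟨0, 2⟩, ⟨1, 2⟩, ⟨2, 0⟩; ⟨2, 2⟩, ⟨1, 0⟩, ⟨2, 0⟩; ⟨0, 2⟩, ⟨1, 0⟩, ⟨2, 1⟩],
  !![⟨2, 1⟩, ⟨2, 0⟩, ⟨1, 0⟩; ⟨0, 2⟩, ⟨1, 1⟩, ⟨2, 0⟩; ⟨0, 1⟩, ⟨2, 0⟩, ⟨1, 1⟩],
  !![⟨1, 1⟩, ⟨1, 1⟩, ⟨0, 0⟩; ⟨0, 0⟩, ⟨0, 0⟩, ⟨1, 0⟩; ⟨1, 2⟩, ⟨2, 1⟩, ⟨0, 0⟩],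
  !![⟨2, 1⟩, ⟨1, 1⟩, ⟨0, 0⟩; ⟨0, 1⟩, ⟨2, 0⟩, ⟨2, 1⟩; ⟨1, 0⟩, ⟨0, 1⟩, ⟨2, 2⟩],
  !![⟨1, 0⟩, ⟨2, 2⟩, ⟨0, 2⟩; ⟨1, 2⟩, ⟨0, 1⟩, ⟨2, 0⟩; ⟨0, 2⟩, ⟨0, 1⟩, ⟨2, 2⟩],
  !![⟨0, 1⟩, ⟨2, 0⟩, ⟨1, 2⟩; ⟨1, 0⟩, ⟨1, 1⟩, ⟨0, 2⟩; ⟨1, 2⟩, ⟨0, 1⟩, ⟨0, 2⟩],
  !![⟨0, 0⟩, ⟨0, 1⟩, ⟨0, 0⟩; ⟨0, 2⟩, ⟨0, 0⟩, ⟨0, 0⟩; ⟨0, 0⟩, ⟨0, 0⟩, ⟨2, 0⟩],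
  !![⟨2, 0⟩, ⟨1, 1⟩, ⟨2, 0⟩; ⟨0, 1⟩, ⟨2, 1⟩, ⟨0, 1⟩; ⟨1, 1⟩, ⟨0, 0⟩, ⟨2, 2⟩],
  !![⟨1, 0⟩, ⟨2, 1⟩, ⟨1, 0⟩; ⟨2, 2⟩, ⟨0, 0⟩, ⟨1, 1⟩; ⟨1, 0⟩, ⟨1, 2⟩, ⟨1, 0⟩],
  !![⟨2, 0⟩, ⟨2, 2⟩, ⟨0, 2⟩; ⟨2, 0⟩, ⟨0, 2⟩, ⟨2, 2⟩; ⟨1, 1⟩, ⟨2, 0⟩, ⟨2, 0⟩],
  !![⟨0, 1⟩, ⟨0, 1⟩, ⟨1, 1⟩; ⟨1, 1⟩, ⟨0, 1⟩, ⟨0, 1⟩; ⟨0, 1⟩, ⟨1, 1⟩, ⟨0, 1⟩],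
  !![⟨0, 1⟩, ⟨0, 2⟩, ⟨1, 2⟩; ⟨2, 2⟩, ⟨2, 2⟩, ⟨0, 0⟩; ⟨2, 0⟩, ⟨1, 0⟩, ⟨2, 2⟩],
  !![⟨0, 2⟩, ⟨0, 0⟩, ⟨0, 0⟩; ⟨0, 0⟩, ⟨2, 2⟩, ⟨2, 2⟩; ⟨0, 0⟩, ⟨1, 1⟩, ⟨2, 2⟩],
  !![⟨0, 1⟩, ⟨1, 2⟩, ⟨1, 0⟩; ⟨2, 1⟩, ⟨0, 0⟩, ⟨2, 2⟩; ⟨1, 0⟩, ⟨1, 1⟩, ⟨0, 2⟩],
  !![⟨2, 0⟩, ⟨0, 2⟩, ⟨1, 1⟩; ⟨2, 2⟩, ⟨2, 1⟩, ⟨0, 0⟩; ⟨2, 0⟩, ⟨0, 2⟩, ⟨2, 2⟩],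
  !![⟨2, 2⟩, ⟨0, 1⟩, ⟨0, 2⟩; ⟨2, 0⟩, ⟨1, 2⟩, ⟨2, 0⟩; ⟨1, 0⟩, ⟨2, 0⟩, ⟨1, 2⟩],
  !![⟨0, 2⟩, ⟨1, 1⟩, ⟨1, 0⟩; ⟨2, 0⟩, ⟨0, 2⟩, ⟨1, 2⟩; ⟨2, 2⟩, ⟨0, 2⟩, ⟨0, 2⟩],
  !![⟨2, 1⟩, ⟨2, 0⟩, ⟨2, 0⟩; ⟨1, 0⟩, ⟨1, 0⟩, ⟨1, 2⟩; ⟨0, 2⟩, ⟨2, 2⟩, ⟨0, 2⟩],
  !![⟨1, 0⟩, ⟨0, 1⟩, ⟨2, 1⟩; ⟨0, 2⟩, ⟨1, 0⟩, ⟨2, 2⟩; ⟨2, 2⟩, ⟨2, 1⟩, ⟨0, 0⟩],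
  !![⟨2, 0⟩, ⟨2, 0⟩, ⟨2, 1⟩; ⟨2, 1⟩, ⟨1, 2⟩, ⟨0, 0⟩; ⟨0, 2⟩, ⟨0, 2⟩, ⟨1, 1⟩],
  !![⟨1, 0⟩, ⟨1, 2⟩, ⟨1, 0⟩; ⟨1, 1⟩, ⟨0, 0⟩, ⟨2, 2⟩; ⟨1, 0⟩, ⟨2, 1⟩, ⟨1, 0⟩],
  !![⟨1, 1⟩, ⟨0, 0⟩, ⟨2, 2⟩; ⟨0, 2⟩, ⟨1, 2⟩, ⟨0, 2⟩; ⟨2, 0⟩, ⟨1, 1⟩, ⟨2, 0⟩],
  !![⟨1, 1⟩, ⟨1, 2⟩, ⟨0, 0⟩; ⟨0, 1⟩, ⟨2, 0⟩, ⟨2, 2⟩; ⟨1, 0⟩, ⟨0, 1⟩, ⟨1, 2⟩],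
  !![⟨0, 1⟩, ⟨0, 1⟩, ⟨2, 1⟩; ⟨1, 1⟩, ⟨0, 1⟩, ⟨2, 0⟩; ⟨1, 0⟩, ⟨1, 2⟩, ⟨0, 1⟩],
  !![⟨2, 2⟩, ⟨0, 0⟩, ⟨2, 1⟩; ⟨0, 0⟩, ⟨0, 2⟩, ⟨0, 0⟩; ⟨2, 1⟩, ⟨0, 0⟩, ⟨2, 2⟩],
  !![⟨0, 1⟩, ⟨0, 2⟩, ⟨2, 1⟩; ⟨1, 0⟩, ⟨2, 2⟩, ⟨1, 0⟩; ⟨1, 1⟩, ⟨2, 0⟩, ⟨1, 0⟩],
  !![⟨1, 1⟩, ⟨1, 0⟩, ⟨0, 1⟩; ⟨1, 0⟩, ⟨1, 1⟩, ⟨0, 1⟩; ⟨1, 0⟩, ⟨1, 0⟩, ⟨2, 1⟩],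
  !![⟨0, 1⟩, ⟨0, 1⟩, ⟨2, 2⟩; ⟨0, 2⟩, ⟨0, 2⟩, ⟨2, 2⟩; ⟨2, 2⟩, ⟨1, 1⟩, ⟨0, 0⟩],
  !![⟨0, 2⟩, ⟨1, 2⟩, ⟨0, 2⟩; ⟨0, 2⟩, ⟨0, 2⟩, ⟨1, 2⟩; ⟨1, 2⟩, ⟨0, 2⟩, ⟨0, 2⟩],
  !![⟨1, 2⟩, ⟨0, 2⟩, ⟨1, 0⟩; ⟨1, 1⟩, ⟨2, 0⟩, ⟨0, 2⟩; ⟨0, 0⟩, ⟨2, 1⟩, ⟨1, 1⟩],
  !![⟨1, 0⟩, ⟨0, 1⟩, ⟨1, 1⟩; ⟨0, 2⟩, ⟨1, 0⟩, ⟨2, 1⟩; ⟨1, 2⟩, ⟨2, 2⟩, ⟨0, 0⟩],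
  !![⟨2, 0⟩, ⟨2, 0⟩, ⟨1, 2⟩; ⟨2, 1⟩, ⟨0, 1⟩, ⟨2, 0⟩; ⟨0, 1⟩, ⟨2, 1⟩, ⟨2, 0⟩],
  !![⟨0, 2⟩, ⟨2, 2⟩, ⟨1, 0⟩; ⟨1, 1⟩, ⟨0, 0⟩, ⟨1, 2⟩; ⟨1, 0⟩, ⟨2, 1⟩, ⟨0, 1⟩],
  !![⟨0, 2⟩, ⟨2, 1⟩, ⟨2, 0⟩; ⟨0, 1⟩, ⟨2, 1⟩, ⟨1, 0⟩; ⟨1, 1⟩, ⟨0, 0⟩, ⟨2, 1⟩],
  !![⟨0, 0⟩, ⟨1, 1⟩, ⟨1, 1⟩; ⟨1, 2⟩, ⟨1, 0⟩, ⟨2, 0⟩; ⟨1, 2⟩, ⟨2, 0⟩, ⟨1, 0⟩],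
  !![⟨0, 2⟩, ⟨1, 2⟩, ⟨1, 0⟩; ⟨0, 2⟩, ⟨0, 2⟩, ⟨1, 1⟩; ⟨2, 2⟩, ⟨2, 0⟩, ⟨0, 2⟩]
]

/-- breadth-first parents. -/
def par : List ℕ := [
  0, 0, 0, 1, 2, 2, 3, 3, 4, 5, 6, 7, 8, 8, 9, 10, 10, 11, 12, 13, 14, 14, 15, 16,
  17, 17, 18, 18, 19, 20, 21, 22, 22, 23, 24, 25, 26, 27, 28, 28, 29, 29, 30, 31, 32, 33, 33, 34,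
  34, 35, 36, 36, 37, 38, 39, 40, 41, 42, 42, 43, 44, 45, 46, 47, 48, 49, 51, 52, 52, 53, 53, 54,
  55, 55, 56, 57, 59, 60, 60, 61, 61, 62, 63, 63, 64, 65, 66, 67, 68, 69, 71, 73, 74, 75, 75, 76,
  77, 78, 79, 81, 83, 84, 85, 85, 86, 86, 87, 87, 88, 89, 89, 90, 91, 92, 93, 95, 95, 96, 96, 97,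
  98, 98, 99, 100, 101, 102, 104, 105, 106, 108, 110, 111, 111, 112, 112, 113, 114, 114, 115, 116, 117, 119, 121, 122,
  122, 123, 123, 124, 125, 125, 126, 126, 128, 128, 129, 130, 133, 134, 135, 137, 138, 141, 142, 146, 147, 149, 155, 162
]
/-- the generator used at each breadth-first step (0 for `gx`, 1 for `gy`). -/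
def gk : List ℕ := [
  0, 0, 1, 1, 0, 1, 0, 1, 1, 0, 1, 0, 0, 1, 1, 0, 1, 1, 1, 0, 0, 1, 1, 0,
  0, 1, 0, 1, 1, 1, 0, 0, 1, 1, 1, 0, 1, 0, 0, 1, 0, 1, 1, 1, 0, 0, 1, 0,
  1, 1, 0, 1, 1, 1, 0, 1, 0, 0, 1, 1, 1, 1, 0, 1, 0, 0, 0, 0, 1, 0, 1, 1,
  0, 1, 1, 1, 0, 0, 1, 0, 1, 1, 0, 1, 1, 1, 1, 1, 0, 1, 0, 0, 1, 0, 1, 1,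
  1, 0, 1, 0, 0, 1, 0, 1, 0, 1, 0, 1, 1, 0, 1, 1, 1, 0, 1, 0, 1, 0, 1, 1,
  0, 1, 1, 1, 0, 1, 1, 0, 1, 0, 0, 0, 1, 0, 1, 1, 0, 1, 1, 0, 1, 0, 0, 0,
  1, 0, 1, 1, 0, 1, 0, 1, 0, 1, 1, 1, 1, 0, 0, 0, 1, 1, 1, 0, 0, 0, 0, 0
]
/-- right multiplication by `gx` on indices. -/
def Tx : List ℕ := [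
  1, 0, 4, 6, 2, 9, 3, 11, 12, 5, 15, 7, 8, 19, 20, 10, 23, 24, 26, 13, 14, 30, 31, 16,
  17, 35, 18, 37, 38, 40, 21, 22, 44, 45, 47, 25, 50, 27, 28, 54, 29, 56, 57, 58, 32, 33, 62, 34,
  64, 65, 36, 66, 67, 69, 39, 72, 41, 42, 43, 76, 77, 79, 46, 82, 48, 49, 51, 52, 88, 53, 80, 90,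
  55, 91, 84, 93, 59, 60, 97, 61, 70, 99, 63, 100, 74, 102, 104, 106, 68, 109, 71, 73, 113, 75, 107, 115,
  117, 78, 120, 81, 83, 124, 85, 118, 86, 127, 87, 94, 129, 89, 130, 131, 133, 92, 136, 95, 139, 96, 103, 141,
  98, 142, 143, 145, 101, 148, 150, 105, 152, 108, 110, 111, 151, 112, 157, 158, 114, 159, 153, 116, 156, 119, 121, 122,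
  160, 123, 163, 164, 125, 165, 126, 132, 128, 138, 161, 166, 140, 134, 135, 137, 144, 154, 167, 146, 147, 149, 155, 162
]
/-- right multiplication by `gy` on indices. -/
def Ty : List ℕ := [
  2, 3, 5, 7, 8, 0, 10, 1, 13, 14, 16, 17, 18, 4, 21, 22, 6, 25, 27, 28, 29, 9, 32, 33,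
  34, 11, 36, 12, 39, 41, 42, 43, 15, 46, 48, 49, 51, 52, 53, 19, 55, 20, 58, 59, 60, 61, 23, 63,
  24, 50, 35, 26, 68, 70, 71, 73, 74, 75, 30, 31, 78, 80, 81, 83, 84, 85, 86, 87, 37, 89, 38, 72,
  54, 40, 92, 94, 95, 96, 44, 98, 45, 82, 62, 47, 101, 103, 105, 107, 108, 110, 111, 112, 56, 114, 57, 116,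
  118, 119, 121, 122, 123, 64, 125, 65, 126, 66, 128, 67, 109, 88, 69, 132, 134, 135, 137, 138, 76, 140, 77, 120,
  97, 79, 144, 146, 147, 149, 151, 145, 153, 154, 155, 142, 90, 156, 91, 136, 113, 93, 160, 133, 150, 161, 162, 130,
  99, 152, 100, 148, 124, 102, 117, 104, 127, 106, 165, 143, 139, 166, 163, 141, 115, 159, 131, 167, 157, 129, 164, 158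
]
/-- base-9 codes of the matrices. -/
def codes : List ℕ := [
  129159849, 150167028, 146026567, 282914403, 26926420, 162314498, 352394565, 28939442,
  293224106, 275006706, 1562238, 304156833, 318915965, 160341084, 258281073, 120940547,
  188410118, 272006447, 283469305, 239371096, 299825959, 291745945, 354951638, 36632604,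
  28423569, 347262625, 276686318, 362291257, 40566713, 163928240, 37238859, 230286911,
  219631785, 180197799, 210848216, 63197104, 177725290, 325701163, 306847309, 331288040,
  183801353, 14765575, 154074247, 334885282, 81972748, 233144209, 382926206, 311794905,
  360470282, 253599673, 278164477, 104440398, 220580799, 245382434, 178069785, 860103,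
  219100047, 245980678, 277143305, 23412726, 76453305, 175320180, 93961037, 182359504,
  204260528, 374206116, 98126863, 312265744, 22105083, 108897808, 1633932, 303855023,
  67713117, 376316047, 136721403, 163630119, 225933347, 202116082, 78311953, 285470411,
  169415508, 42765994, 65483567, 84816377, 36099777, 147617749, 149231545, 42418263,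
  105180428, 9567882, 106726120, 28056152, 176062479, 160721102, 202864039, 316283367,
  100315938, 146348604, 270851713, 98406685, 54832844, 363574268, 138316689, 80027249,
  75767437, 309356673, 73984647, 248719122, 217660473, 346665579, 77317559, 102957004,
  355870177, 125819466, 355191600, 83035153, 3247704, 149633211, 272367301, 103209582,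
  313000577, 297457439, 94725432, 231389162, 221487107, 95556908, 223235691, 377956141,
  305585791, 295062433, 43096363, 359633719, 113693578, 331768039, 191321415, 320562701,
  168773156, 74607005, 4901073, 280706885, 164690868, 297980592, 50199058, 55795265,
  86151806, 68975345, 270490859, 350611394, 107191370, 333414218, 137787543, 291144559,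
  154891668, 176591301, 196206233, 51797197, 348107552, 56564949, 187271629, 52218954,
  111206459, 226670953, 136192257, 290059773, 126191665, 122870365, 21577404, 111737450
]
/-- conjugating elements (indices). -/
def cc : List ℕ := [
  0, 0, 0, 0, 1, 117, 1, 1, 2, 0, 104, 96, 86, 5, 2, 4, 86, 105, 66, 86, 105, 2, 109, 9,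
  4, 86, 89, 7, 66, 3, 104, 51, 26, 27, 50, 4, 51, 18, 37, 77, 36, 66, 118, 109, 11, 51, 18, 6,
  37, 36, 89, 13, 12, 30, 26, 8, 27, 50, 66, 8, 18, 36, 60, 19, 51, 103, 12, 26, 21, 39, 13, 69,
  13, 69, 14, 8, 19, 8, 81, 21, 86, 122, 12, 63, 105, 100, 62, 66, 99, 47, 143, 82, 12, 83, 30, 65,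
  31, 30, 32, 53, 53, 26, 12, 39, 49, 25, 22, 36, 27, 44, 16, 28, 17, 18, 10, 46, 123, 51, 21, 120,
  34, 4, 121, 5, 8, 149, 14, 119, 13, 98, 2, 125, 85, 9, 27, 78, 144, 28, 18, 35, 36, 37, 23, 38,
  2, 24, 64, 9, 15, 33, 26, 4, 50, 14, 0, 61, 13, 48, 5, 45, 102, 0, 27, 37, 97, 38, 37, 79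
]
/-- exponents. -/
def ce : List ℕ := [
  1, 1, 1, 1, 1, 1, 1, 6, 6, 6, 1, 1, 1, 1, 1, 6, 2, 2, 2, 2, 2, 1, 6, 1,
  1, 6, 6, 1, 6, 1, 6, 2, 2, 2, 2, 1, 2, 2, 2, 1, 2, 1, 1, 1, 1, 6, 2, 1,
  2, 2, 1, 6, 2, 2, 2, 6, 2, 2, 2, 1, 1, 1, 1, 1, 1, 1, 1, 1, 1, 1, 1, 1,
  1, 6, 1, 1, 6, 2, 1, 2, 1, 1, 6, 1, 1, 1, 1, 1, 1, 1, 1, 1, 2, 1, 2, 1,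
  1, 1, 1, 1, 6, 6, 1, 6, 1, 1, 1, 6, 6, 1, 1, 6, 1, 6, 1, 1, 1, 1, 2, 1,
  1, 2, 1, 2, 2, 1, 2, 1, 2, 1, 2, 1, 1, 2, 1, 1, 1, 1, 1, 1, 1, 6, 1, 6,
  2, 1, 1, 2, 1, 1, 1, 2, 1, 2, 2, 1, 2, 1, 2, 1, 1, 2, 1, 1, 1, 1, 1, 1
]
/-- class representatives reached (indices 1, 2, 3). -/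
def cr : List ℕ := [
  0, 1, 2, 3, 3, 2, 2, 3, 3, 3, 3, 2, 3, 1, 1, 3, 1, 1, 1, 1, 1, 3, 3, 1,
  1, 3, 3, 2, 3, 2, 3, 1, 1, 1, 1, 3, 1, 1, 1, 2, 1, 3, 2, 3, 2, 3, 1, 2,
  1, 1, 3, 3, 1, 1, 1, 3, 1, 1, 1, 3, 3, 3, 2, 3, 3, 2, 3, 3, 1, 3, 1, 3,
  3, 3, 1, 1, 3, 1, 2, 1, 1, 2, 3, 2, 1, 2, 2, 1, 2, 2, 2, 2, 1, 2, 1, 2,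
  2, 1, 2, 3, 3, 3, 1, 3, 2, 2, 2, 3, 3, 2, 2, 3, 2, 3, 2, 2, 2, 1, 1, 2,
  2, 1, 2, 1, 1, 2, 1, 2, 1, 2, 1, 2, 2, 1, 3, 2, 2, 3, 1, 2, 1, 3, 2, 3,
  1, 2, 2, 1, 2, 2, 1, 1, 1, 1, 1, 2, 1, 2, 1, 2, 2, 1, 1, 3, 2, 3, 1, 2
]

/-- the `i`-th element. -/
def el (i : ℕ) : M9 := L.getD i 1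

/-- base-9 digit of a field element. -/
def e9 (z : K9) : ℕ := z.re.val * 3 + z.im.val

/-- base-9 code of a matrix. -/
def enc (A : M9) : ℕ :=
  (((((((e9 (A 0 0) * 9 + e9 (A 0 1)) * 9 + e9 (A 0 2)) * 9 + e9 (A 1 0)) * 9 + e9 (A 1 1)) * 9 +
    e9 (A 1 2)) * 9 + e9 (A 2 0)) * 9 + e9 (A 2 1)) * 9 + e9 (A 2 2)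

theorem length_L : L.length = 168 := by decide +kernel

theorem el_zero : el 0 = 1 := by decide +kernel

set_option maxRecDepth 100000 in
theorem closed_x : ∀ i < 168, el i * gx = el (Tx.getD i 0) ∧ Tx.getD i 0 < 168 := by decide +kernel

set_option maxRecDepth 100000 in
theorem closed_y : ∀ i < 168, el i * gy = el (Ty.getD i 0) ∧ Ty.getD i 0 < 168 := by decide +kernel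

set_option maxRecDepth 100000 in
theorem bfs : ∀ i < 168, i ≠ 0 →
    el i = el (par.getD i 0) * (if gk.getD i 0 = 0 then gx else gy) ∧ par.getD i 0 < i := by
  decide +kernel

set_option maxRecDepth 100000 in
theorem map_enc : L.map enc = codes := by decide +kernel

set_option maxRecDepth 100000 in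
theorem nodup_codes : codes.Nodup := by decide +kernel

set_option maxRecDepth 100000 in
theorem conj_cert : ∀ i < 168, i ≠ 0 →
    el (cc.getD i 0) * el i ^ (ce.getD i 0) = el (cr.getD i 0) * el (cc.getD i 0) ∧
      cc.getD i 0 < 168 ∧ (cr.getD i 0 = 1 ∨ cr.getD i 0 = 2 ∨ cr.getD i 0 = 3) := by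
  decide +kernel

theorem el_one : el 1 = gx := by decide +kernel
theorem el_two : el 2 = gy := by decide +kernel
theorem gx_sq : gx * gx = 1 := by decide +kernel
theorem gy_cube : gy * gy * gy = 1 := by decide +kernel
theorem det_gx : gx.det = 1 := by decide +kernel
theorem det_gy : gy.det = 1 := by decide +kernel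
theorem uni_gx : gx.transpose * gx.map (fun x => x ^ 3) = 1 := by decide +kernel
theorem uni_gy : gy.transpose * gy.map (fun x => x ^ 3) = 1 := by decide +kernel
theorem ncl_t_x : gx = (el 0 * el 1 * el 0) ∧ el 0 * el 0 = 1 := by decide +kernel
theorem ncl_t_y : gy = (el 22 * el 1 * el 43) * (el 36 * el 1 * el 31) ∧ el 22 * el 43 = 1 ∧ el 36 * el 31 = 1 := by decide +kernel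
theorem ncl_u_x : gx = (el 12 * el 2 * el 25) * (el 65 * el 2 * el 47) ∧ el 12 * el 25 = 1 ∧ el 65 * el 47 = 1 := by decide +kernel
theorem ncl_u_y : gy = (el 0 * el 2 * el 0) ∧ el 0 * el 0 = 1 := by decide +kernel
theorem ncl_v_x : gx = (el 4 * el 3 * el 7) * (el 120 * el 3 * el 127) ∧ el 4 * el 7 = 1 ∧ el 120 * el 127 = 1 := by decide +kernel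
theorem ncl_v_y : gy = (el 31 * el 3 * el 36) * (el 50 * el 3 * el 26) ∧ el 31 * el 36 = 1 ∧ el 50 * el 26 = 1 := by decide +kernel

theorem el_mem_L {i : ℕ} (hi : i < 168) : el i ∈ L := by
  unfold el
  rw [List.getD_eq_getElem _ _ (by rw [length_L]; exact hi)]
  exact List.getElem_mem _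

theorem exists_of_mem_L {m : M9} (hm : m ∈ L) : ∃ i < 168, el i = m := by
  obtain ⟨i, hi, rfl⟩ := List.mem_iff_getElem.mp hm
  refine ⟨i, by rw [← length_L]; exact hi, ?_⟩
  unfold el
  rw [List.getD_eq_getElem _ _ hi]

theorem nodup_L : L.Nodup := by
  have h := nodup_codes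
  rw [← map_enc] at h
  exact List.Nodup.of_map _ h

attribute [irreducible] el L

end Cfsg.Agent.Lib.Helper19.L27Data
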