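/-
Helper19 library: a subgroup `H0` of order 168 of `SL₃(9)` (inside `SU₃(3)`), basic facts.
-/
import Mathlib
import Cfsg.Agent.Lib.Helper19.L27Data

set_option autoImplicit false
set_option linter.unusedSectionVars false
set_option linter.style.haveILetI false

namespace Cfsg.Agent.Lib.Helper19.L27Group

open Cfsg.Agent.Lib.Helper19.PSU33Spec Cfsg.Agent.Lib.Helper19.L27Data Cfsg.Agent.Lib.Helper14

/-- `SL₃(9)`. -/
abbrev SL9 : Type := Matrix.SpecialLinearGroup (Fin 3) K9

/-- generator of order 2. -/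
def sx : SL9 := ⟨gx, det_gx⟩
/-- generator of order 3. -/
def sy : SL9 := ⟨gy, det_gy⟩

/-- the subgroup `L₂(7)`. -/
def H0 : Subgroup SL9 := Subgroup.closure {sx, sy}

theorem sx_mem : sx ∈ H0 := Subgroup.subset_closure (by simp)
theorem sy_mem : sy ∈ H0 := Subgroup.subset_closure (by simp)

theorem exists_mem_H0 : ∀ i, i < 168 → ∃ h : SL9, h ∈ H0 ∧ (h : M9) = el i := by
  intro i
  induction i using Nat.strong_induction_on with
  | _ i ih =>
    intro hi
    by_cases h0 : i = 0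
    · subst h0
      exact ⟨1, H0.one_mem, by rw [el_zero]; rfl⟩
    · obtain ⟨he, hp⟩ := bfs i hi h0
      obtain ⟨h', hh', hm⟩ := ih _ hp (hp.trans hi)
      by_cases hk : gk.getD i 0 = 0
      · rw [if_pos hk] at he
        exact ⟨h' * sx, H0.mul_mem hh' sx_mem, by
          rw [Matrix.SpecialLinearGroup.coe_mul, hm, he]; rfl⟩
      · rw [if_neg hk] at he
        exact ⟨h' * sy, H0.mul_mem hh' sy_mem, by
          rw [Matrix.SpecialLinearGroup.coe_mul, hm, he]; rfl⟩

theorem sx_inv : sx⁻¹ = sx := by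
  apply inv_eq_of_mul_eq_one_right
  apply Subtype.ext
  exact gx_sq

theorem sy_inv : sy⁻¹ = sy * sy := by
  apply inv_eq_of_mul_eq_one_right
  apply Subtype.ext
  show gy * (gy * gy) = 1
  rw [← mul_assoc]
  exact gy_cube

theorem mul_gx_mem {m : M9} (hm : m ∈ L) : m * gx ∈ L := by
  obtain ⟨i, hi, rfl⟩ := exists_of_mem_L hm
  obtain ⟨he, hlt⟩ := closed_x i hi
  rw [he]
  exact el_mem_L hlt

theorem mul_gy_mem {m : M9} (hm : m ∈ L) : m * gy ∈ L := by
  obtain ⟨i, hi, rfl⟩ := exists_of_mem_L hm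
  obtain ⟨he, hlt⟩ := closed_y i hi
  rw [he]
  exact el_mem_L hlt

theorem coe_mem_L (h : SL9) (hh : h ∈ H0) : (h : M9) ∈ L := by
  refine Subgroup.closure_induction_right (p := fun (x : SL9) _ => (x : M9) ∈ L) ?_ ?_ ?_ hh
  · rw [Matrix.SpecialLinearGroup.coe_one, ← el_zero]
    exact el_mem_L (by norm_num)
  · intro x _ y hy ih
    rw [Matrix.SpecialLinearGroup.coe_mul]
    rcases hy with rfl | rfl
    · exact mul_gx_mem ih
    · exact mul_gy_mem ih
  · intro x _ y hy ih
    rcases hy with rfl | rfl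
    · rw [sx_inv, Matrix.SpecialLinearGroup.coe_mul]
      exact mul_gx_mem ih
    · rw [sy_inv, ← mul_assoc, Matrix.SpecialLinearGroup.coe_mul,
        Matrix.SpecialLinearGroup.coe_mul]
      exact mul_gy_mem (mul_gy_mem ih)

theorem card_H0 : Nat.card H0 = 168 := by
  classical
  have hbij : Function.Bijective
      (fun h : H0 => (⟨((h : SL9) : M9), coe_mem_L h.1 h.2⟩ : {m : M9 // m ∈ L})) := by
    constructor
    · intro a b hab
      apply Subtype.ext
      apply Subtype.ext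
      exact congrArg (fun s : {m : M9 // m ∈ L} => (s : M9)) hab
    · rintro ⟨m, hm⟩
      obtain ⟨i, hi, rfl⟩ := exists_of_mem_L hm
      obtain ⟨h, hh, he⟩ := exists_mem_H0 i hi
      exact ⟨⟨h, hh⟩, Subtype.ext he⟩
  rw [Nat.card_eq_of_bijective _ hbij, Nat.card_eq_fintype_card,
    Fintype.card_of_subtype L.toFinset (by simp), List.toFinset_card_of_nodup nodup_L, length_L]

instance : Finite H0 := Nat.finite_of_card_ne_zero (by rw [card_H0]; norm_num)

/-- matrices of the elements of a subgroup of `H0`. -/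
def MN (N : Subgroup H0) : Set M9 := {m | ∃ z : H0, z ∈ N ∧ ((z : SL9) : M9) = m}

theorem MN_mul {N : Subgroup H0} {a b : M9} (ha : a ∈ MN N) (hb : b ∈ MN N) : a * b ∈ MN N := by
  obtain ⟨za, hza, rfl⟩ := ha
  obtain ⟨zb, hzb, rfl⟩ := hb
  exact ⟨za * zb, N.mul_mem hza hzb, by rw [Subgroup.coe_mul, Matrix.SpecialLinearGroup.coe_mul]⟩

theorem MN_pow {N : Subgroup H0} {a : M9} (ha : a ∈ MN N) (k : ℕ) : a ^ k ∈ MN N := by
  obtain ⟨za, hza, rfl⟩ := ha
  exact ⟨za ^ k, N.pow_mem hza k, by rw [Subgroup.coe_pow, Matrix.SpecialLinearGroup.coe_pow]⟩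


end Cfsg.Agent.Lib.Helper19.L27Group
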