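/-
Helper19 library: `PSU₃(3)` contains a simple subgroup of order 168 (hence `PSL₂(7)`).
-/
import Mathlib
import Cfsg.Agent.Lib.Helper19.L27Group
import Cfsg.Agent.S0495

set_option autoImplicit false
set_option linter.unusedSectionVars false
set_option linter.style.haveILetI false

namespace Cfsg.Agent.Lib.Helper19.L27inU33

open Cfsg.Agent.Lib.Helper19.PSU33Spec Cfsg.Agent.Lib.Helper19.L27Data Cfsg.Agent.Lib.Helper14
  Cfsg.Agent.Lib.Helper19.L27Group

theorem MN_conj {N : Subgroup H0} [hN : N.Normal] {m : M9} (hm : m ∈ MN N) {i : ℕ} (hi : i < 168)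
    {R : M9} (hR : el i * m = R * el i) : R ∈ MN N := by
  obtain ⟨z, hz, rfl⟩ := hm
  obtain ⟨c, hc, hce⟩ := exists_mem_H0 i hi
  refine ⟨(⟨c, hc⟩ : H0) * z * (⟨c, hc⟩ : H0)⁻¹, hN.conj_mem z hz ⟨c, hc⟩, ?_⟩
  rw [← hce] at hR
  have hcc : (c : M9) * ((c⁻¹ : SL9) : M9) = 1 := by
    rw [← Matrix.SpecialLinearGroup.coe_mul, mul_inv_cancel, Matrix.SpecialLinearGroup.coe_one]
  show ((c * (z : SL9) * c⁻¹ : SL9) : M9) = R
  rw [Matrix.SpecialLinearGroup.coe_mul, Matrix.SpecialLinearGroup.coe_mul, hR, mul_assoc, hcc,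
    mul_one]

theorem MN_conj' {N : Subgroup H0} [hN : N.Normal] {m : M9} (hm : m ∈ MN N) {i : ℕ} (hi : i < 168)
    {B : M9} (hB : el i * B = 1) : el i * m * B ∈ MN N := by
  apply MN_conj hm hi
  rw [mul_assoc (el i * m), mul_eq_one_comm.mp hB, mul_one]

theorem gens_of_rep {N : Subgroup H0} [hN : N.Normal]
    (h : el 1 ∈ MN N ∨ el 2 ∈ MN N ∨ el 3 ∈ MN N) : gx ∈ MN N ∧ gy ∈ MN N := by
  rcases h with h | h | h
  · constructor
    · rw [ncl_t_x.1]
      exact MN_conj' h (by norm_num) ncl_t_x.2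
    · rw [ncl_t_y.1]
      exact MN_mul (MN_conj' h (by norm_num) ncl_t_y.2.1) (MN_conj' h (by norm_num) ncl_t_y.2.2)
  · constructor
    · rw [ncl_u_x.1]
      exact MN_mul (MN_conj' h (by norm_num) ncl_u_x.2.1) (MN_conj' h (by norm_num) ncl_u_x.2.2)
    · rw [ncl_u_y.1]
      exact MN_conj' h (by norm_num) ncl_u_y.2
  · constructor
    · rw [ncl_v_x.1]
      exact MN_mul (MN_conj' h (by norm_num) ncl_v_x.2.1) (MN_conj' h (by norm_num) ncl_v_x.2.2)
    · rw [ncl_v_y.1]
      exact MN_mul (MN_conj' h (by norm_num) ncl_v_y.2.1) (MN_conj' h (by norm_num) ncl_v_y.2.2)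

theorem eq_top_of_gens {N : Subgroup H0} (hx : gx ∈ MN N) (hy : gy ∈ MN N) : N = ⊤ := by
  have hle : H0 ≤ N.map H0.subtype := by
    apply (Subgroup.closure_le _).mpr
    intro s hs
    rcases hs with rfl | rfl
    · obtain ⟨z, hz, hzm⟩ := hx
      refine ⟨z, hz, ?_⟩
      apply Subtype.ext
      exact hzm
    · obtain ⟨z, hz, hzm⟩ := hy
      refine ⟨z, hz, ?_⟩
      apply Subtype.ext
      exact hzm
  rw [eq_top_iff]
  intro w _
  obtain ⟨z, hz, hzw⟩ := hle w.2
  have : z = w := Subtype.ext hzw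
  rw [← this]
  exact hz

instance isSimpleGroup_H0 : IsSimpleGroup H0 := by
  haveI : Nontrivial H0 := by
    rw [← Finite.one_lt_card_iff_nontrivial, card_H0]
    norm_num
  refine ⟨fun N hN => ?_⟩
  by_cases hbot : N = ⊥
  · left; exact hbot
  · right
    obtain ⟨x, hx1⟩ := (Subgroup.ne_bot_iff_exists_ne_one).mp hbot
    obtain ⟨x, hxN', hx1'⟩ : ∃ x : H0, x ∈ N ∧ x ≠ 1 := ⟨x.1, x.2, fun h => hx1 (Subtype.ext h)⟩
    obtain ⟨i, hi, hie⟩ := exists_of_mem_L (coe_mem_L x.1 x.2)
    have hi0 : i ≠ 0 := by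
      intro h0
      apply hx1'
      apply Subtype.ext
      apply Subtype.ext
      rw [← hie, h0, el_zero]
      rfl
    have hm : el i ∈ MN N := ⟨x, hxN', hie.symm⟩
    obtain ⟨hc, hclt, hr⟩ := conj_cert i hi hi0
    have hrep := MN_conj (MN_pow hm (ce.getD i 0)) hclt hc
    obtain ⟨h1, h2⟩ := gens_of_rep (N := N) (by
      rcases hr with hr | hr | hr <;> rw [hr] at hrep
      · exact Or.inl hrep
      · exact Or.inr (Or.inl hrep)
      · exact Or.inr (Or.inr hrep))
    exact eq_top_of_gens h1 h2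

section transport

variable {F : Type*} [Field F] [Fintype F]

theorem map_injective (hF : Fintype.card F = 9) :
    Function.Injective (Matrix.SpecialLinearGroup.map (n := Fin 3) (phi hF).toRingHom) := by
  intro A B h
  apply Subtype.ext
  refine Matrix.ext fun i j => ?_
  have h1 := congrArg (fun X : Matrix.SpecialLinearGroup (Fin 3) F => (X : Matrix (Fin 3) (Fin 3) F) i j) h
  simp only [Matrix.SpecialLinearGroup.map_apply_coe, RingHom.mapMatrix_apply, Matrix.map_apply] at h1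
  exact (phi hF).injective h1

theorem map_mem_SU (hF : Fintype.card F = 9) (h : SL9) (hh : h ∈ H0) :
    Matrix.SpecialLinearGroup.map (n := Fin 3) (phi hF).toRingHom h ∈ Cfsg.SU 3 F 3 := by
  have hle : H0 ≤ (Cfsg.SU 3 F 3).comap (Matrix.SpecialLinearGroup.map (phi hF).toRingHom) := by
    apply (Subgroup.closure_le _).mpr
    intro s hs
    rcases hs with rfl | rfl
    · exact (mem_SU_iff _).mpr (isUni_of_mul_eq_one hF _ (map_uni hF gx uni_gx))
    · exact (mem_SU_iff _).mpr (isUni_of_mul_eq_one hF _ (map_uni hF gy uni_gy))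
  exact hle hh

/-- the embedding of `H0` in `SU₃(3)`. -/
noncomputable def psi0 (hF : Fintype.card F = 9) : H0 →* Cfsg.SU 3 F 3 :=
  ((Matrix.SpecialLinearGroup.map (n := Fin 3) (phi hF).toRingHom).comp H0.subtype).codRestrict
    (Cfsg.SU 3 F 3) (fun h => map_mem_SU hF h.1 h.2)

/-- the embedding of `H0` in `PSU₃(3)`. -/
noncomputable def psi (hF : Fintype.card F = 9) : H0 →* Cfsg.PSU 3 F 3 :=
  (QuotientGroup.mk' (Subgroup.center (Cfsg.SU 3 F 3))).comp (psi0 hF)

theorem psi_injective (hF : Fintype.card F = 9) : Function.Injective (psi hF) := by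
  intro a b hab
  have h1 := mk_injective hF hab
  have h2 := congrArg Subtype.val h1
  exact Subtype.ext (map_injective hF h2)

/-- `PSU₃(3)` contains `PSL₂(7)`. -/
theorem exists_subgroup_PSL27 (hF : Fintype.card F = 9) {K : Type*} [Field K] [Fintype K]
    (hK : Fintype.card K = 7) :
    ∃ H : Subgroup (Cfsg.PSU 3 F 3), Nonempty (H ≃* Matrix.ProjectiveSpecialLinearGroup (Fin 2) K) := by
  refine ⟨(psi hF).range, ?_⟩
  let e : H0 ≃* (psi hF).range := MonoidHom.ofInjective (psi_injective hF)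
  haveI : Finite (psi hF).range := Finite.of_equiv _ e.toEquiv
  have hcard : Nat.card (psi hF).range = 168 := by
    rw [← Nat.card_congr e.toEquiv, card_H0]
  haveI : Nontrivial (psi hF).range := by
    rw [← Finite.one_lt_card_iff_nontrivial, hcard]
    norm_num
  haveI : IsSimpleGroup (psi hF).range := e.symm.isSimpleGroup
  exact Cfsg.Agent.S0495.result hcard hK

end transport

end Cfsg.Agent.Lib.Helper19.L27inU33
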