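import Mathlib

set_option autoImplicit false

namespace Cfsg.Agent.Lib.Helper19

section lin
variable {K V : Type*} [Field K] [AddCommGroup V] [Module K V]

/-- two finite families with the same linear relations are related by a linear automorphism -/
theorem exists_linearEquiv_of_ker_eq {ι : Type*} [Fintype ι] [DecidableEq ι] (u v : ι → V)
    (hker : LinearMap.ker (Fintype.linearCombination K u) =
      LinearMap.ker (Fintype.linearCombination K v)) :
    ∃ A : V ≃ₗ[K] V, ∀ i, A (u i) = v i := by
  set Lu := Fintype.linearCombination K u with hLu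
  set Lv := Fintype.linearCombination K v with hLv
  let f : LinearMap.range Lu ≃ₗ[K] LinearMap.range Lv :=
    Lu.quotKerEquivRange.symm ≪≫ₗ (Submodule.quotEquivOfEq _ _ hker) ≪≫ₗ Lv.quotKerEquivRange
  obtain ⟨g, hg⟩ := Submodule.exists_linearEquiv_restrict_eq f
  refine ⟨g, fun i => ?_⟩
  have hui : Lu (Pi.single i 1) = u i := by
    rw [hLu, Fintype.linearCombination_apply_single, one_smul]
  have hvi : Lv (Pi.single i 1) = v i := by
    rw [hLv, Fintype.linearCombination_apply_single, one_smul]
  have hmem : Lu (Pi.single i 1) ∈ LinearMap.range Lu := LinearMap.mem_range_self _ _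
  have := hg ⟨Lu (Pi.single i 1), hmem⟩
  rw [← hui, ← this]
  simp only [f, LinearEquiv.trans_apply, LinearMap.quotKerEquivRange_symm_apply_image,
    Submodule.mkQ_apply, Submodule.quotEquivOfEq_mk, LinearMap.quotKerEquivRange_apply_mk]
  exact hvi

end lin

end Cfsg.Agent.Lib.Helper19
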