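/-
helper19: S4539 leaf (ALG3) `card_le_of_rank_two`: the general rank two case, from the reduction of
binary quadratic forms (ALG1) and the reduced case (ALG2), both taken as explicit hypotheses, by the
base change `x ↦ x S`, `C ↦ Sᵀ C S`, `C' ↦ S⁻¹ C' S⁻ᵀ`.
-/
import Mathlib
import Cfsg.Agent.Lib.Helper27.MajSubDefs

set_option autoImplicit false

namespace Cfsg.Agent.Lib.Helper19.MajSubALG3

open Cfsg Cfsg.Agent.CharLib Cfsg.Agent.Lib.Helper24 Cfsg.Agent.Lib.Helper6 Cfsg.Agent.Lib.Helper23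
open Cfsg.Agent.Lib.Helper23.Subsec Cfsg.Agent.Lib.Helper27.MajSub
open scoped ComplexConjugate

universe u w

/-- Invariance of a bilinear form under a base change `S` with inverse `T`. -/
theorem bilin_base_change {R : Type*} [CommRing R] (S T A : Matrix (Fin 2) (Fin 2) R)
    (hST : S * T = 1) (y w : Fin 2 → R) :
    ∑ a, ∑ b, (∑ c, y c * S c a) * (T * A * T.transpose) a b * (∑ c, w c * S c b) =
      ∑ a, ∑ b, y a * A a b * w b := by
  have h1 : ∀ (B : Matrix (Fin 2) (Fin 2) R) (y' w' : Fin 2 → R),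
      ∑ a, ∑ b, y' a * B a b * w' b = y' ⬝ᵥ (B.mulVec w') := by
    intro B y' w'
    simp only [dotProduct, Matrix.mulVec, Finset.mul_sum, mul_assoc]
  have h2 : (fun a => ∑ c, y c * S c a) = Matrix.vecMul y S := by
    funext a; simp [Matrix.vecMul, dotProduct]
  have h3 : (fun b => ∑ c, w c * S c b) = Matrix.vecMul w S := by
    funext a; simp [Matrix.vecMul, dotProduct]
  rw [h1 (T * A * T.transpose) (fun a => ∑ c, y c * S c a) (fun b => ∑ c, w c * S c b), h1 A y w,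
    h2, h3]
  rw [← Matrix.mulVec_transpose S w, Matrix.mulVec_mulVec, Matrix.dotProduct_mulVec,
    Matrix.vecMul_vecMul, Matrix.dotProduct_mulVec]
  congr 2
  have : S * (T * A * T.transpose * S.transpose) = A := by
    rw [Matrix.mul_assoc (T * A), ← Matrix.transpose_mul, hST, Matrix.transpose_one, Matrix.mul_one,
      ← Matrix.mul_assoc, hST, Matrix.one_mul]
  rw [this]


/-- The Gram matrix after an integral base change. -/
theorem gram_base_change {ι : Type*} [Fintype ι] (Y : ι → Fin 2 → ℂ)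
    (S Cm : Matrix (Fin 2) (Fin 2) ℤ)
    (hg : ∀ a b : Fin 2, ∑ i, conj (Y i a) * Y i b = (Cm a b : ℂ)) (a b : Fin 2) :
    ∑ i, conj (∑ c, Y i c * (S c a : ℂ)) * (∑ c, Y i c * (S c b : ℂ)) =
      ((S.transpose * Cm * S) a b : ℂ) := by
  have h : ∀ i, conj (∑ c, Y i c * (S c a : ℂ)) * (∑ c, Y i c * (S c b : ℂ)) =
      (S 0 a : ℂ) * (S 0 b : ℂ) * (conj (Y i 0) * Y i 0) +
      (S 0 a : ℂ) * (S 1 b : ℂ) * (conj (Y i 0) * Y i 1) +
      (S 1 a : ℂ) * (S 0 b : ℂ) * (conj (Y i 1) * Y i 0) +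
      (S 1 a : ℂ) * (S 1 b : ℂ) * (conj (Y i 1) * Y i 1) := by
    intro i
    simp only [Fin.sum_univ_two, map_add, map_mul, map_intCast]
    ring
  rw [Finset.sum_congr rfl (fun i _ => h i)]
  simp only [Finset.sum_add_distrib, ← Finset.mul_sum, hg]
  simp only [Matrix.mul_apply, Fin.sum_univ_two, Matrix.transpose_apply]
  push_cast
  ring

theorem int_eq_real_of_complex {n : ℤ} {r : ℝ} (h : (n : ℂ) = (r : ℂ)) : (n : ℝ) = r := by
  have : ((n : ℝ) : ℂ) = (r : ℂ) := by rw [← h]; simp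
  exact Complex.ofReal_injective this

theorem sum_conj_mul_self {ι : Type*} [Fintype ι] (f : ι → ℂ) :
    ∑ i, conj (f i) * f i = ((∑ i, Complex.normSq (f i) : ℝ) : ℂ) := by
  push_cast
  apply Finset.sum_congr rfl
  intro i _
  rw [Complex.normSq_eq_conj_mul_self]

/-- A Gram matrix with nonzero determinant is positive definite. -/
theorem gram_pos {ι : Type*} [Fintype ι] (Y : ι → Fin 2 → ℂ) (Cm : Matrix (Fin 2) (Fin 2) ℤ)
    (hg : ∀ a b : Fin 2, ∑ i, conj (Y i a) * Y i b = (Cm a b : ℂ))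
    (h10 : Cm 1 0 = Cm 0 1) (hdet : Cm 0 0 * Cm 1 1 - Cm 0 1 * Cm 0 1 ≠ 0) :
    0 < Cm 0 0 ∧ 0 < Cm 0 0 * Cm 1 1 - Cm 0 1 * Cm 0 1 := by
  -- `α = ∑ |y_i0|²`
  have hα : ((Cm 0 0 : ℤ) : ℝ) = ∑ i, Complex.normSq (Y i 0) := by
    apply int_eq_real_of_complex
    rw [← sum_conj_mul_self, hg 0 0]
  -- `α (α γ - β²) = ∑ |α y_i1 - β y_i0|²`
  have hd : ((Cm 0 0 * (Cm 0 0 * Cm 1 1 - Cm 0 1 * Cm 0 1) : ℤ) : ℝ) =
      ∑ i, Complex.normSq ((Cm 0 0 : ℂ) * Y i 1 - (Cm 0 1 : ℂ) * Y i 0) := by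
    apply int_eq_real_of_complex
    rw [← sum_conj_mul_self]
    have h : ∀ i, conj ((Cm 0 0 : ℂ) * Y i 1 - (Cm 0 1 : ℂ) * Y i 0) *
        ((Cm 0 0 : ℂ) * Y i 1 - (Cm 0 1 : ℂ) * Y i 0) =
        (Cm 0 0 : ℂ) * (Cm 0 0 : ℂ) * (conj (Y i 1) * Y i 1) -
        (Cm 0 0 : ℂ) * (Cm 0 1 : ℂ) * (conj (Y i 1) * Y i 0) -
        (Cm 0 0 : ℂ) * (Cm 0 1 : ℂ) * (conj (Y i 0) * Y i 1) +
        (Cm 0 1 : ℂ) * (Cm 0 1 : ℂ) * (conj (Y i 0) * Y i 0) := by
      intro i
      simp only [map_sub, map_mul, map_intCast]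
      ring
    rw [Finset.sum_congr rfl (fun i _ => h i)]
    simp only [Finset.sum_add_distrib, Finset.sum_sub_distrib, ← Finset.mul_sum, hg, h10]
    push_cast
    ring
  have hα0 : (0 : ℝ) ≤ ((Cm 0 0 : ℤ) : ℝ) := by
    rw [hα]; exact Finset.sum_nonneg (fun i _ => Complex.normSq_nonneg _)
  have hd0 : (0 : ℝ) ≤ ((Cm 0 0 * (Cm 0 0 * Cm 1 1 - Cm 0 1 * Cm 0 1) : ℤ) : ℝ) := by
    rw [hd]; exact Finset.sum_nonneg (fun i _ => Complex.normSq_nonneg _)
  have hα0' : 0 ≤ Cm 0 0 := by exact_mod_cast hα0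
  have hd0' : 0 ≤ Cm 0 0 * (Cm 0 0 * Cm 1 1 - Cm 0 1 * Cm 0 1) := by exact_mod_cast hd0
  have hαne : Cm 0 0 ≠ 0 := by
    intro h0
    have hz : ∀ i, Y i 0 = 0 := by
      intro i
      have h1 : ∑ i, Complex.normSq (Y i 0) = 0 := by rw [← hα, h0]; simp
      have h2 := (Finset.sum_eq_zero_iff_of_nonneg (fun i _ => Complex.normSq_nonneg _)).mp h1 i
        (Finset.mem_univ i)
      exact Complex.normSq_eq_zero.mp h2
    have hβ : Cm 0 1 = 0 := by
      have h1 := hg 0 1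
      simp only [hz, map_zero, zero_mul, Finset.sum_const_zero] at h1
      exact_mod_cast h1.symm
    apply hdet
    rw [h0, hβ]; ring
  have hαpos : 0 < Cm 0 0 := lt_of_le_of_ne hα0' (Ne.symm hαne)
  refine ⟨hαpos, lt_of_le_of_ne ?_ (Ne.symm hdet)⟩
  exact nonneg_of_mul_nonneg_right hd0' hαpos


section ALG

variable {M : Ideal AlgInt} {p : ℕ} [hpp : Fact p.Prime]

/-- (ALG3) the general rank two case, against (ALG1) `exists_reduced` and (ALG2)
`card_le_of_reduced` as hypotheses. -/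
theorem card_le_of_rank_two_of
    (hALG1 : ∀ α β γ : ℤ, 0 < α → 0 < α * γ - β * β →
      ∃ s t u v : ℤ, (s * v - t * u = 1 ∨ s * v - t * u = -1) ∧
        0 ≤ 2 * (s * (α * t + β * v) + u * (β * t + γ * v)) ∧
        2 * (s * (α * t + β * v) + u * (β * t + γ * v)) ≤
          s * (α * s + β * u) + u * (β * s + γ * u) ∧
        s * (α * s + β * u) + u * (β * s + γ * u) ≤ t * (α * t + β * v) + v * (β * t + γ * v))
    (hM : IsPModular p M) (K : Type w) [Field K] [Algebra ℚ K]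
    [FiniteDimensional ℚ K] [IsGalois ℚ K] (φ : K →+* ℂ) {ι : Type*} [Fintype ι]
    (h : ι → ℕ) (i₀ : ι) (hi₀ : h i₀ = 0) (d : ℕ)
    (hALG2 : ∀ (x : ι → Fin 2 → K) (_ : ∀ i a, IsIntegral ℤ (x i a))
      (Cm C' : Matrix (Fin 2) (Fin 2) ℤ) (_ : Cm.transpose = Cm) (_ : C'.transpose = C')
      (_ : Cm * C' = ((p : ℤ) ^ d) • (1 : Matrix (Fin 2) (Fin 2) ℤ)) (_ : (p : ℤ) ∣ C'.det)
      (_ : 0 ≤ 2 * Cm 0 1 ∧ 2 * Cm 0 1 ≤ Cm 0 0 ∧ Cm 0 0 ≤ Cm 1 1)
      (_ : ∀ σ : K ≃ₐ[ℚ] K, ∀ a b : Fin 2,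
        ∑ i, conj (φ (σ (x i a))) * φ (σ (x i b)) = (Cm a b : ℂ))
      (_ : ∀ σ : K ≃ₐ[ℚ] K, ∀ i, h i = 0 → ∀ j,
        LocUnit M ((∑ a, ∑ b, φ (σ (x i a)) * (C' a b : ℂ) * conj (φ (σ (x j b)))) /
            (p : ℂ) ^ h j) ∧
          LocUnit M ((∑ a, ∑ b, φ (σ (x j a)) * (C' a b : ℂ) * conj (φ (σ (x i b)))) /
            (p : ℂ) ^ h j)),
      Fintype.card ι ≤ p ^ d)
    (x : ι → Fin 2 → K) (hx : ∀ i a, IsIntegral ℤ (x i a))
    (Cm C' : Matrix (Fin 2) (Fin 2) ℤ) (hCsymm : Cm.transpose = Cm) (hC'symm : C'.transpose = C')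
    (hCC' : Cm * C' = ((p : ℤ) ^ d) • (1 : Matrix (Fin 2) (Fin 2) ℤ)) (hdet : (p : ℤ) ∣ C'.det)
    (hgram : ∀ σ : K ≃ₐ[ℚ] K, ∀ a b : Fin 2,
      ∑ i, conj (φ (σ (x i a))) * φ (σ (x i b)) = (Cm a b : ℂ))
    (h5H : ∀ σ : K ≃ₐ[ℚ] K, ∀ i, h i = 0 → ∀ j,
      LocUnit M ((∑ a, ∑ b, φ (σ (x i a)) * (C' a b : ℂ) * conj (φ (σ (x j b)))) /
          (p : ℂ) ^ h j) ∧
        LocUnit M ((∑ a, ∑ b, φ (σ (x j a)) * (C' a b : ℂ) * conj (φ (σ (x i b)))) /
          (p : ℂ) ^ h j)) :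
    Fintype.card ι ≤ p ^ d := by
  have hp : p.Prime := hpp.out
  have h10eq : Cm 1 0 = Cm 0 1 := by
    have := congrFun (congrFun hCsymm 0) 1
    simpa [Matrix.transpose_apply] using this
  -- the determinant of `Cm` is nonzero
  have hdetne : Cm 0 0 * Cm 1 1 - Cm 0 1 * Cm 0 1 ≠ 0 := by
    have h1 : Cm.det * C'.det = ((p : ℤ) ^ d) ^ 2 := by
      rw [← Matrix.det_mul, hCC', Matrix.det_smul, Matrix.det_one, mul_one, Fintype.card_fin]
    have h2 : Cm.det ≠ 0 := by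
      intro h0
      rw [h0, zero_mul] at h1
      exact pow_ne_zero _ (pow_ne_zero _ (by exact_mod_cast hp.ne_zero)) h1.symm
    rw [Matrix.det_fin_two, h10eq] at h2
    exact h2
  obtain ⟨hαpos, hdetpos⟩ := gram_pos (fun i a => φ (x i a)) Cm
    (fun a b => by simpa using hgram AlgEquiv.refl a b) h10eq hdetne
  obtain ⟨s, t, u, v, hε, hr1, hr2, hr3⟩ := hALG1 (Cm 0 0) (Cm 0 1) (Cm 1 1) hαpos hdetpos
  have hε2 : (s * v - t * u) * (s * v - t * u) = 1 := by
    rcases hε with h1 | h1 <;> rw [h1] <;> norm_num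
  -- the base change matrices
  set S : Matrix (Fin 2) (Fin 2) ℤ := !![s, t; u, v] with hS
  set T : Matrix (Fin 2) (Fin 2) ℤ := !![(s * v - t * u) * v, (s * v - t * u) * (-t);
    (s * v - t * u) * (-u), (s * v - t * u) * s] with hT
  have hST : S * T = 1 := by
    ext a b
    fin_cases a <;> fin_cases b <;>
      simp [hS, hT, Matrix.mul_apply, Fin.sum_univ_two] <;>
      first | ring1 | linear_combination hε2
  have hTS : T * S = 1 := by
    ext a b
    fin_cases a <;> fin_cases b <;>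
      simp [hS, hT, Matrix.mul_apply, Fin.sum_univ_two] <;>
      first | ring1 | linear_combination hε2
  have hdetT : T.det * T.det = 1 := by
    have h1 : T.det * S.det = 1 := by rw [← Matrix.det_mul, hTS, Matrix.det_one]
    have h2 : S.det * S.det = 1 := by
      rw [hS, Matrix.det_fin_two_of]; exact hε2
    have h3 : T.det = S.det := by
      calc T.det = T.det * (S.det * S.det) := by rw [h2, mul_one]
        _ = (T.det * S.det) * S.det := by ring
        _ = S.det := by rw [h1, one_mul]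
    rw [h3, h2]
  -- the new data
  set x' : ι → Fin 2 → K := fun i b => ∑ c, x i c * ((S c b : ℤ) : K) with hx'
  have hφx' : ∀ (σ : K ≃ₐ[ℚ] K) i b,
      φ (σ (x' i b)) = ∑ c, φ (σ (x i c)) * ((S c b : ℤ) : ℂ) := by
    intro σ i b
    simp only [hx', map_sum, map_mul, map_intCast]
  have hSC : (S.map (Int.cast : ℤ → ℂ)) * (T.map (Int.cast : ℤ → ℂ)) = 1 := by
    have := congrArg (fun A : Matrix (Fin 2) (Fin 2) ℤ => A.map (Int.castRingHom ℂ)) hST
    simp only [Matrix.map_mul] at this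
    simpa using this
  refine hALG2 x' ?_ (S.transpose * Cm * S) (T * C' * T.transpose) ?_ ?_ ?_ ?_ ?_ ?_ ?_
  · -- integrality
    intro i b
    simp only [hx']
    exact IsIntegral.sum _ (fun c _ => (hx i c).mul (isIntegral_intCast _))
  · -- symmetry of the new Gram matrix
    simp only [Matrix.transpose_mul, Matrix.transpose_transpose, hCsymm, Matrix.mul_assoc]
  · -- symmetry of the new `C'`
    simp only [Matrix.transpose_mul, Matrix.transpose_transpose, hC'symm, Matrix.mul_assoc]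
  · -- the product
    calc S.transpose * Cm * S * (T * C' * T.transpose)
        = S.transpose * (Cm * ((S * T) * C')) * T.transpose := by
          simp only [Matrix.mul_assoc]
      _ = ((p : ℤ) ^ d) • (T * S).transpose := by
          rw [hST, Matrix.one_mul, hCC', Matrix.mul_smul, Matrix.smul_mul, Matrix.mul_one,
            Matrix.transpose_mul]
      _ = ((p : ℤ) ^ d) • (1 : Matrix (Fin 2) (Fin 2) ℤ) := by
          rw [hTS, Matrix.transpose_one]
  · -- the determinant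
    rw [Matrix.det_mul, Matrix.det_mul, Matrix.det_transpose]
    have : T.det * C'.det * T.det = C'.det := by
      calc T.det * C'.det * T.det = (T.det * T.det) * C'.det := by ring
        _ = C'.det := by rw [hdetT, one_mul]
    rw [this]; exact hdet
  · -- reducedness
    have e00 : (S.transpose * Cm * S) 0 0 =
        s * (Cm 0 0 * s + Cm 0 1 * u) + u * (Cm 0 1 * s + Cm 1 1 * u) := by
      simp [hS, Matrix.mul_apply, Fin.sum_univ_two, h10eq]; ring
    have e01 : (S.transpose * Cm * S) 0 1 =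
        s * (Cm 0 0 * t + Cm 0 1 * v) + u * (Cm 0 1 * t + Cm 1 1 * v) := by
      simp [hS, Matrix.mul_apply, Fin.sum_univ_two, h10eq]; ring
    have e11 : (S.transpose * Cm * S) 1 1 =
        t * (Cm 0 0 * t + Cm 0 1 * v) + v * (Cm 0 1 * t + Cm 1 1 * v) := by
      simp [hS, Matrix.mul_apply, Fin.sum_univ_two, h10eq]; ring
    rw [e00, e01, e11]
    exact ⟨hr1, hr2, hr3⟩
  · -- the Gram condition
    intro σ a b
    simp only [hφx']
    exact gram_base_change (fun i a => φ (σ (x i a))) S Cm (hgram σ) a b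
  · -- (5H)
    intro σ i hi j
    have key : ∀ i j : ι,
        ∑ a, ∑ b, φ (σ (x' i a)) * (((T * C' * T.transpose) a b : ℤ) : ℂ) *
          conj (φ (σ (x' j b))) =
        ∑ a, ∑ b, φ (σ (x i a)) * (C' a b : ℂ) * conj (φ (σ (x j b))) := by
      intro i j
      have h1 := bilin_base_change (S.map (Int.cast : ℤ → ℂ)) (T.map (Int.cast : ℤ → ℂ))
        (C'.map (Int.cast : ℤ → ℂ)) hSC (fun a => φ (σ (x i a))) (fun b => conj (φ (σ (x j b))))
      have h2 : ∀ a b, (((T * C' * T.transpose) a b : ℤ) : ℂ) =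
          (T.map (Int.cast : ℤ → ℂ) * C'.map (Int.cast : ℤ → ℂ) *
            (T.map (Int.cast : ℤ → ℂ)).transpose) a b := by
        intro a b
        have h2' : (T * C' * T.transpose).map (Int.castRingHom ℂ) =
            T.map (Int.castRingHom ℂ) * C'.map (Int.castRingHom ℂ) *
              (T.map (Int.castRingHom ℂ)).transpose := by
          rw [Matrix.map_mul, Matrix.map_mul, Matrix.transpose_map]
        exact congrFun (congrFun h2' a) b
      simp only [hφx', h2, map_sum, map_mul, map_intCast]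
      simpa [Matrix.map_apply] using h1
    rw [key i j, key j i]
    exact h5H σ i hi j

end ALG

end Cfsg.Agent.Lib.Helper19.MajSubALG3
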