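/-
helper19: S4539 leaf (NB4): the integer matrix `N = nMat p e` of a `p`-block `e` has trace
`p^d l(e)` (`d` the defect of `e`, `l(e) = blockRank p e`).  Proof: `[ζ̃, ζ] = p^a |C|⁻¹ ∑_{s p-regular}
|ζ(s)|²`; summing over `ζ ∈ e` gives `p^a |C|⁻¹` times the diagonal sum of the kernel of `e`, which is
`|C| l(e)` (helper23's `sum_kerFun_diag`); divide by `p^m`.
-/
import Mathlib
import Cfsg.Agent.Lib.Helper27.MajSubDefs

set_option autoImplicit false

namespace Cfsg.Agent.Lib.Helper19.MajSubNB4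

open Cfsg Cfsg.Agent.CharLib Cfsg.Agent.Lib.Helper24 Cfsg.Agent.Lib.Helper6 Cfsg.Agent.Lib.Helper23
open Cfsg.Agent.Lib.Helper23.Subsec Cfsg.Agent.Lib.Helper27.MajSub
open scoped ComplexConjugate

universe u

variable {C : Type u} [Group C] [Fintype C] {M : Ideal AlgInt} {p : ℕ} [hpp : Fact p.Prime]

/-- `[ζ̃, ζ'] = p^a |C|⁻¹ ∑_{s p-regular} ζ(s) conj ζ'(s)` (helper23's `sum_regular_eq_tildeInt`
for a group instead of a subgroup). -/
theorem tildeInt_eq_sum_regular (ζ ζ' : IrrCharacter C) :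
    (tildeInt p ζ ζ' : ℂ) = ((p ^ (Nat.card C).factorization p : ℕ) : ℂ) *
      ((Nat.card C : ℂ)⁻¹ * ∑ s : C, (if p ∣ orderOf s then 0 else
        (ζ : C → ℂ) s * conj ((ζ' : C → ℂ) s))) := by
  rw [← tildeInt_spec]
  unfold classInner
  rw [mul_left_comm]
  congr 1
  rw [Finset.mul_sum]
  apply Finset.sum_congr rfl
  intro s _
  unfold tildeFun
  by_cases hs : p ∣ orderOf s
  · rw [if_pos hs, if_pos hs, zero_mul, mul_zero]
  · rw [if_neg hs, if_neg hs]
    ring

/-- `∑_{ζ ∈ e} [ζ̃, ζ] = p^a l(e)`. -/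
theorem sum_tildeInt_diag [Fintype (IrrCharacter C)] (hM : IsPModular p M)
    (e : Set (IrrCharacter C)) (he : IsPBlock M e) [DecidablePred (· ∈ e)] :
    ∑ ζ : IrrCharacter C, (if ζ ∈ e then tildeInt p ζ ζ else 0) =
      (p : ℤ) ^ (Nat.card C).factorization p * (blockRank p e : ℤ) := by
  have hC0 : (Nat.card C : ℂ) ≠ 0 := Nat.cast_ne_zero.mpr Nat.card_pos.ne'
  have hdiag := sum_kerFun_diag hM e he
  have h : (∑ ζ : IrrCharacter C, ((if ζ ∈ e then tildeInt p ζ ζ else 0 : ℤ) : ℂ)) =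
      ((p ^ (Nat.card C).factorization p : ℕ) : ℂ) * (blockRank p e : ℂ) := by
    have h1 : ∀ ζ : IrrCharacter C, ((if ζ ∈ e then tildeInt p ζ ζ else 0 : ℤ) : ℂ) =
        ((p ^ (Nat.card C).factorization p : ℕ) : ℂ) * ((Nat.card C : ℂ)⁻¹ *
          ∑ s : C, (if p ∣ orderOf s then 0 else
            (if ζ ∈ e then (ζ : C → ℂ) s * conj ((ζ : C → ℂ) s) else 0))) := by
      intro ζ
      by_cases hζ : ζ ∈ e
      · simp only [if_pos hζ]
        exact tildeInt_eq_sum_regular ζ ζ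
      · simp only [if_neg hζ, ite_self, Finset.sum_const_zero, mul_zero, Int.cast_zero]
    rw [Finset.sum_congr rfl (fun ζ _ => h1 ζ), ← Finset.mul_sum, ← Finset.mul_sum,
      Finset.sum_comm]
    have h2 : ∀ s : C, ∑ ζ : IrrCharacter C, (if p ∣ orderOf s then (0 : ℂ) else
        (if ζ ∈ e then (ζ : C → ℂ) s * conj ((ζ : C → ℂ) s) else 0)) =
        (if p ∣ orderOf s then 0 else kerFun e s s) := by
      intro s
      by_cases hs : p ∣ orderOf s
      · simp only [if_pos hs, Finset.sum_const_zero]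
      · simp only [if_neg hs]
        unfold kerFun
        rw [finsum_mem_eq_sum_ite]
    rw [Finset.sum_congr rfl (fun s _ => h2 s), hdiag]
    congr 1
    field_simp
  rw [← Int.cast_sum] at h
  exact_mod_cast h

/-- (NB4) `tr N = p^d l(e)`. -/
theorem nMat_trace [Fintype (IrrCharacter C)] (hM : IsPModular p M) (e : Set (IrrCharacter C))
    (he : IsPBlock M e) :
    ∑ ζ : IrrCharacter C, nMat p e ζ ζ = (p : ℤ) ^ blockDefect p e * (blockRank p e : ℤ) := by
  classical
  have hp : p.Prime := hpp.out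
  have hprime : M.IsPrime := isPrime_of_isPModular hM
  have hne : e.Nonempty := by
    obtain ⟨χ₁, rfl⟩ := he
    exact ⟨χ₁, mem_blockOf_self χ₁⟩
  have hpm0 : ((p : ℤ) ^ minVal p e) ≠ 0 := pow_ne_zero _ (by exact_mod_cast hp.ne_zero)
  have hma : minVal p e + blockDefect p e = (Nat.card C).factorization p := by
    have h := minVal_le_factorization_card (p := p) hne
    unfold blockDefect
    unfold minVal at h ⊢
    omega
  have hterm : ∀ ζ : IrrCharacter C, (if ζ ∈ e then tildeInt p ζ ζ else 0) =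
      (p : ℤ) ^ minVal p e * nMat p e ζ ζ := by
    intro ζ
    unfold nMat
    by_cases hζ : ζ ∈ e
    · rw [if_pos hζ, if_pos ⟨hζ, hζ⟩]
      exact (Int.mul_ediv_cancel'
        (dvd_trans (pow_dvd_pow _ (minVal_le hζ)) (pow_dvd_tildeInt hM ζ ζ))).symm
    · rw [if_neg hζ, if_neg (fun h => hζ h.1), mul_zero]
  have hsum := sum_tildeInt_diag (p := p) hM e he
  rw [Finset.sum_congr rfl (fun ζ _ => hterm ζ), ← Finset.mul_sum, ← hma, pow_add, mul_assoc]
    at hsum
  exact mul_left_cancel₀ hpm0 hsum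

end Cfsg.Agent.Lib.Helper19.MajSubNB4
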