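import Mathlib

set_option autoImplicit false

namespace Cfsg.Agent.Lib.Helper19.Marggraf

open MulAction
open scoped Pointwise

variable {G Ω : Type*} [Group G] [MulAction G Ω]

/-- `t` is the complement of a Jordan set: the pointwise stabilizer of `t` is transitive off `t` -/
def JC (G : Type*) {Ω : Type*} [Group G] [MulAction G Ω] (t : Set Ω) : Prop :=
  ∀ x ∉ t, ∀ y ∉ t, ∃ g : G, (∀ z ∈ t, g • z = z) ∧ g • x = y

lemma JC.smul {t : Set Ω} (h : JC G t) (g : G) : JC G (g • t) := by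
  intro x hx y hy
  have hx' : g⁻¹ • x ∉ t := fun h' => hx (Set.mem_smul_set_iff_inv_smul_mem.2 h')
  have hy' : g⁻¹ • y ∉ t := fun h' => hy (Set.mem_smul_set_iff_inv_smul_mem.2 h')
  obtain ⟨k, hk, hkx⟩ := h _ hx' _ hy'
  refine ⟨g * k * g⁻¹, fun z hz => ?_, ?_⟩
  · have hz' : g⁻¹ • z ∈ t := Set.mem_smul_set_iff_inv_smul_mem.1 hz
    rw [mul_smul, mul_smul, hk _ hz', smul_inv_smul]
  · rw [mul_smul, mul_smul, hkx, smul_inv_smul]

lemma JC.inter {t₁ t₂ : Set Ω} (h₁ : JC G t₁) (h₂ : JC G t₂) (hc : ∃ c, c ∉ t₁ ∧ c ∉ t₂) :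
    JC G (t₁ ∩ t₂) := by
  obtain ⟨c, hc1, hc2⟩ := hc
  have key : ∀ x ∉ t₁ ∩ t₂, ∃ g : G, (∀ z ∈ t₁ ∩ t₂, g • z = z) ∧ g • x = c := by
    intro x hx
    by_cases hx1 : x ∈ t₁
    · have hx2 : x ∉ t₂ := fun h => hx ⟨hx1, h⟩
      obtain ⟨g, hg, hgx⟩ := h₂ x hx2 c hc2
      exact ⟨g, fun z hz => hg z hz.2, hgx⟩
    · obtain ⟨g, hg, hgx⟩ := h₁ x hx1 c hc1
      exact ⟨g, fun z hz => hg z hz.1, hgx⟩
  intro x hx y hy
  obtain ⟨g, hg, hgx⟩ := key x hx
  obtain ⟨k, hk, hky⟩ := key y hy
  refine ⟨k⁻¹ * g, fun z hz => ?_, ?_⟩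
  · rw [mul_smul, hg z hz, inv_smul_eq_iff, hk z hz]
  · rw [mul_smul, hgx, inv_smul_eq_iff, hky]


theorem exists_pair_JC [Finite Ω] (hprim : IsPreprimitive G Ω)
    (h2 : ∀ a b c d : Ω, a ≠ b → c ≠ d → ∃ g : G, g • a = c ∧ g • b = d)
    (s : Set Ω) (hs : JC G s) (hm : 2 ≤ sᶜ.ncard) (hcard : 2 * sᶜ.ncard ≤ Nat.card Ω) :
    ∃ a b : Ω, a ≠ b ∧ JC G ({a, b} : Set Ω) := by
  classical
  set n := Nat.card Ω with hn
  have hcompl : ∀ u : Set Ω, u.ncard + uᶜ.ncard = n := fun u => Set.ncard_add_ncard_compl u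
  have hs2 : 2 ≤ s.ncard := by have := hcompl s; omega
  have hne_univ_of_lt : ∀ u : Set Ω, u.ncard < n → u ≠ Set.univ := by
    intro u hu h
    rw [h, Set.ncard_univ] at hu
    exact lt_irrefl _ hu
  have hlt_of_ne_univ : ∀ u : Set Ω, u ≠ Set.univ → u.ncard < n := by
    intro u hu
    have h1 : u ⊂ Set.univ := Set.ssubset_univ_iff.2 hu
    have h2 := Set.ncard_lt_ncard h1 (Set.toFinite _)
    rwa [Set.ncard_univ] at h2
  have hsne : s ≠ Set.univ := by
    apply hne_univ_of_lt
    have := hcompl s; omega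
  let 𝒞 : Set (Set Ω) := {t | JC G t ∧ 2 ≤ t.ncard ∧ t ≠ Set.univ}
  have h𝒞 : 𝒞.Nonempty := ⟨s, hs, hs2, hsne⟩
  obtain ⟨t, ⟨htJ, ht2, htne⟩, htmin⟩ :=
    (measure (fun t : Set Ω => t.ncard)).wf.has_min 𝒞 h𝒞
  have hmin : ∀ u : Set Ω, JC G u → 2 ≤ u.ncard → u ≠ Set.univ → t.ncard ≤ u.ncard :=
    fun u h1 h2 h3 => not_lt.1 (htmin u ⟨h1, h2, h3⟩)
  set k := t.ncard with hk
  have hks : k ≤ s.ncard := hmin s hs hs2 hsne
  by_cases hk2 : k = 2
  · obtain ⟨a, b, hab, rfl⟩ := Set.ncard_eq_two.1 hk2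
    exact ⟨a, b, hab, htJ⟩
  exfalso
  have hk3 : 3 ≤ k := by omega
  have hcardsmul : ∀ g : G, (g • t).ncard = k := fun g => Set.ncard_smul_set g t
  have step1 : ∀ g : G, g • t ≠ t → t ∪ g • t ≠ Set.univ → (t ∩ g • t).ncard ≤ 1 := by
    intro g hne hun
    by_contra hcon
    push Not at hcon
    have hJ : JC G (t ∩ g • t) := htJ.inter (htJ.smul g) (by
      obtain ⟨c, hc⟩ := (Set.ne_univ_iff_exists_notMem _).1 hun
      exact ⟨c, fun h => hc (Or.inl h), fun h => hc (Or.inr h)⟩)
    have hne' : t ∩ g • t ≠ Set.univ := fun h =>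
      htne (Set.univ_subset_iff.1 (h ▸ Set.inter_subset_left))
    have h1 := hmin _ hJ hcon hne'
    have h2 : t ∩ g • t = t :=
      Set.eq_of_subset_of_ncard_le Set.inter_subset_left h1 (Set.toFinite t)
    have h3 : t ⊆ g • t := by
      intro x hx
      have hx' : x ∈ t ∩ g • t := by rw [h2]; exact hx
      exact hx'.2
    have h4 : t = g • t := Set.eq_of_subset_of_ncard_le h3 (by rw [hcardsmul]) (Set.toFinite _)
    exact hne h4.symm
  rcases le_or_gt (2 * k) n with h2k | h2k
  · -- Case A: the translates of `t` are the lines of a linear space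
    have A1 : ∀ g₁ g₂ : G, ∀ a b : Ω, a ≠ b → a ∈ g₁ • t → b ∈ g₁ • t → a ∈ g₂ • t →
        b ∈ g₂ • t → g₁ • t = g₂ • t := by
      intro g₁ g₂ a b hab ha1 hb1 ha2 hb2
      by_contra hne
      have hgt : (g₁⁻¹ * g₂) • t ≠ t := by
        intro h
        apply hne
        conv_lhs => rw [← h, smul_smul, mul_inv_cancel_left]
      have hmem : ∀ x : Ω, x ∈ g₁ • t → x ∈ g₂ • t → g₁⁻¹ • x ∈ t ∩ (g₁⁻¹ * g₂) • t := by
        intro x hx1 hx2
        refine ⟨Set.mem_smul_set_iff_inv_smul_mem.1 hx1, ?_⟩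
        rw [mul_smul]
        exact Set.smul_mem_smul_set hx2
      have hcard2 : 1 < (t ∩ (g₁⁻¹ * g₂) • t).ncard :=
        (Set.one_lt_ncard (Set.toFinite _)).2
          ⟨_, hmem a ha1 ha2, _, hmem b hb1 hb2, fun h => hab (smul_left_cancel _ h)⟩
      have hun : t ∪ (g₁⁻¹ * g₂) • t ≠ Set.univ := by
        apply hne_univ_of_lt
        have := Set.ncard_union_add_ncard_inter t ((g₁⁻¹ * g₂) • t)
        rw [hcardsmul] at this
        omega
      have := step1 _ hgt hun
      omega
    obtain ⟨a₀, ha₀, b₀, hb₀, hab₀⟩ := (Set.one_lt_ncard (Set.toFinite t)).1 (by omega : 1 < t.ncard)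
    have A2 : ∀ a b : Ω, a ≠ b → ∃ g : G, a ∈ g • t ∧ b ∈ g • t := by
      intro a b hab
      obtain ⟨g, hga, hgb⟩ := h2 a₀ b₀ a b hab₀ hab
      exact ⟨g, hga ▸ Set.smul_mem_smul_set ha₀, hgb ▸ Set.smul_mem_smul_set hb₀⟩
    -- a third point on a line
    have A3 : ∀ g : G, ∀ a b : Ω, ∃ e ∈ g • t, e ≠ a ∧ e ≠ b := by
      intro g a b
      by_contra hcon
      push Not at hcon
      have hsub : g • t ⊆ {a, b} := by
        intro e he
        by_cases hea : e = a
        · exact Or.inl hea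
        · exact Or.inr (hcon e he hea)
      have h1 := Set.ncard_le_ncard hsub (Set.toFinite _)
      have h2 : ({a, b} : Set Ω).ncard ≤ 2 := Set.ncard_insert_le a {b} |>.trans (by simp)
      rw [hcardsmul] at h1
      omega
    by_cases hβ : ∃ g : G, s ∪ g • t = Set.univ
    · obtain ⟨g, hg⟩ := hβ
      have hΓℓ : ∀ x, x ∉ s → x ∈ g • t := by
        intro x hx
        have : x ∈ s ∪ g • t := by rw [hg]; trivial
        exact this.resolve_left hx
      obtain ⟨c, hc⟩ := (Set.ne_univ_iff_exists_notMem _).1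
        (hne_univ_of_lt (g • t) (by rw [hcardsmul]; omega))
      have hcs : c ∈ s := by
        by_contra h; exact hc (hΓℓ c h)
      obtain ⟨γ, hγ, γ', hγ', hγγ'⟩ := (Set.one_lt_ncard (Set.toFinite sᶜ)).1 (by omega)
      have hcγ : c ≠ γ := fun h => hγ (h ▸ hcs)
      obtain ⟨g', hg'c, hg'γ⟩ := A2 c γ hcγ
      obtain ⟨e, he, hec, heγ⟩ := A3 g' c γ
      have heℓ : e ∉ g • t := by
        intro h
        have := A1 g g' e γ heγ h (hΓℓ γ hγ) he hg'γ
        exact hc (this ▸ hg'c)
      have hes : e ∈ s := by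
        by_contra h; exact heℓ (hΓℓ e h)
      obtain ⟨x, hx, hxγ⟩ := hs γ hγ γ' hγ'
      have hxc : x • c = c := hx c hcs
      have hxe : x • e = e := hx e hes
      have hline : (x * g') • t = g' • t := by
        apply A1 _ _ c e hec.symm
        · rw [mul_smul, ← hxc]; exact Set.smul_mem_smul_set hg'c
        · rw [mul_smul, ← hxe]; exact Set.smul_mem_smul_set he
        · exact hg'c
        · exact he
      have hγ'ℓ' : γ' ∈ g' • t := by
        rw [← hline, mul_smul, ← hxγ]
        exact Set.smul_mem_smul_set hg'γ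
      have := A1 g g' γ γ' hγγ' (hΓℓ γ hγ) (hΓℓ γ' hγ') hg'γ hγ'ℓ'
      exact hc (this ▸ hg'c)
    · push Not at hβ
      -- `s` is a subspace
      have hsub : ∀ g : G, 1 < (s ∩ g • t).ncard → g • t ⊆ s := by
        intro g hg
        have hJ : JC G (s ∩ g • t) := hs.inter (htJ.smul g) (by
          obtain ⟨c, hc⟩ := (Set.ne_univ_iff_exists_notMem _).1 (hβ g)
          exact ⟨c, fun h => hc (Or.inl h), fun h => hc (Or.inr h)⟩)
        have hne' : s ∩ g • t ≠ Set.univ := fun h =>
          hsne (Set.univ_subset_iff.1 (h ▸ Set.inter_subset_left))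
        have h1 := hmin _ hJ hg hne'
        have h2 : s ∩ g • t = g • t :=
          Set.eq_of_subset_of_ncard_le Set.inter_subset_right (by rw [hcardsmul]; exact h1)
            (Set.toFinite _)
        intro x hx
        have hx' : x ∈ s ∩ g • t := by rw [h2]; exact hx
        exact hx'.1
      obtain ⟨c, hc⟩ := (Set.ne_univ_iff_exists_notMem _).1 hsne
      -- choose for each point of `s` a third point on the line to `c`
      have hex : ∀ a : s, ∃ e : Ω, ∃ g : G, c ∈ g • t ∧ (a : Ω) ∈ g • t ∧ e ∈ g • t ∧ e ≠ c ∧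
          e ≠ a := by
        intro a
        have hca : c ≠ a := fun h => hc (h ▸ a.2)
        obtain ⟨g, hgc, hga⟩ := A2 c a hca
        obtain ⟨e, he, hec, hea⟩ := A3 g c a
        exact ⟨e, g, hgc, hga, he, hec, hea⟩
      choose f hf using hex
      have hf_notin : ∀ a : s, f a ∉ s := by
        intro a hfa
        obtain ⟨g, hgc, hga, he, hec, hea⟩ := hf a
        have : g • t ⊆ s := hsub g ((Set.one_lt_ncard (Set.toFinite _)).2
          ⟨_, ⟨a.2, hga⟩, _, ⟨hfa, he⟩, fun h => hea h.symm⟩)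
        exact hc (this hgc)
      have hf_inj : Function.Injective f := by
        intro a b hab
        obtain ⟨g, hgc, hga, he, hec, hea⟩ := hf a
        obtain ⟨g', hg'c, hg'b, he', he'c, he'b⟩ := hf b
        by_contra hne
        have hne' : (a : Ω) ≠ b := fun h => hne (Subtype.ext h)
        rw [← hab] at he'
        have hl : g • t = g' • t := A1 g g' c (f a) hec.symm hgc he hg'c he'
        have : g • t ⊆ s := hsub g ((Set.one_lt_ncard (Set.toFinite _)).2
          ⟨_, ⟨a.2, hga⟩, _, ⟨b.2, hl ▸ hg'b⟩, hne'⟩)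
        exact hc (this hgc)
      have hrange : Set.range f ⊆ (insert c s)ᶜ := by
        rintro _ ⟨a, rfl⟩ h
        rcases h with h | h
        · exact (hf a).choose_spec.2.2.2.1 h
        · exact hf_notin a h
      have h1 : (Set.range f).ncard = s.ncard := by
        rw [← Set.image_univ, Set.ncard_image_of_injective _ hf_inj, Set.ncard_univ,
          Nat.card_coe_set_eq]
      have h2 := Set.ncard_le_ncard hrange (Set.toFinite _)
      have h3 := hcompl (insert c s)
      have h4 : (insert c s).ncard = s.ncard + 1 := Set.ncard_insert_of_notMem hc (Set.toFinite _)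
      have h5 := hcompl s
      omega
  · -- Case B: the complement of `t` is a block
    have hblock : IsBlock G tᶜ := by
      rw [isBlock_iff_smul_eq_or_disjoint]
      intro g
      by_cases hgt : g • t = t
      · left
        rw [Set.smul_set_compl, hgt]
      · right
        by_contra hnd
        have hun : t ∪ g • t ≠ Set.univ := by
          intro h
          apply hnd
          rw [Set.smul_set_compl, Set.disjoint_compl_left_iff_subset, Set.compl_subset_iff_union]
          exact h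
        have h1 := step1 g hgt hun
        have h2 := Set.ncard_union_add_ncard_inter t (g • t)
        rw [hcardsmul] at h2
        have h3 := hlt_of_ne_univ _ hun
        omega
    rcases hprim.isTrivialBlock_of_isBlock hblock with h | h
    · have h1 : tᶜ.ncard ≤ 1 := Set.ncard_le_one_iff_subsingleton.2 h
      have h2 := hcompl t
      have h3 := hcompl s
      omega
    · have h1 := hcompl t
      rw [h, Set.ncard_univ] at h1
      omega

end Cfsg.Agent.Lib.Helper19.Marggraf
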