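import Mathlib
import Cfsg.Agent.Lib.Helper19.IrredCyclic
import Cfsg.Agent.Lib.Helper24.SylowNormalize

/-! # Non-simple minimal non-p-closed groups (helper19): order p * q^e, e = ord_p(q) -/

namespace Cfsg.Agent.Lib.Helper19.MinNonPClosed

variable {G : Type*} [Group G] [Finite G] {p : ℕ} [hp : Fact p.Prime]

/-- if one Sylow `p`-subgroup is normal, all are -/
lemma all_normal_of_normal (P : Sylow p G) (hP : (P : Subgroup G).Normal) (P' : Sylow p G) :
    (P' : Subgroup G).Normal := by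
  obtain ⟨g, hg⟩ := MulAction.exists_smul_eq G P P'
  rw [← hg, Sylow.smul_eq_of_normal]
  exact hP

/-- a normal subgroup `K` containing a Sylow `P` normal in `K` forces `P` normal in `G` -/
lemma sylow_normal_of_normal_in_normal (P : Sylow p G) (K : Subgroup G) [hK : K.Normal]
    (hPK : (P : Subgroup G) ≤ K) (hn : ((P.subtype hPK : Sylow p K) : Subgroup K).Normal) :
    (P : Subgroup G).Normal := by
  have hc : ((P.subtype hPK : Sylow p K) : Subgroup K).Characteristic :=
    Sylow.characteristic_of_normal _ hn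
  have := ConjAct.normal_of_characteristic_of_normal (H := K)
    (K := ((P.subtype hPK : Sylow p K) : Subgroup K))
  rwa [Sylow.coe_subtype, Subgroup.map_subgroupOf_eq_of_le hPK] at this

omit [Finite G] hp in
lemma subsingleton_normal [Subsingleton G] (H : Subgroup G) : H.Normal :=
  ⟨fun n hn g => by rwa [Subsingleton.elim (g * n * g⁻¹) n]⟩

omit hp in
/-- a non-simple nontrivial finite group has a proper nontrivial minimal normal subgroup -/
lemma exists_min_normal [Nontrivial G] (hns : ¬ IsSimpleGroup G) :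
    ∃ N : Subgroup G, N.Normal ∧ N ≠ ⊥ ∧ N ≠ ⊤ ∧
      ∀ B : Subgroup G, B.Normal → B ≤ N → B = ⊥ ∨ B = N := by
  have h1 : ∃ N₀ : Subgroup G, N₀.Normal ∧ N₀ ≠ ⊥ ∧ N₀ ≠ ⊤ := by
    by_contra hcon
    push Not at hcon
    apply hns
    refine ⟨fun H hH => ?_⟩
    by_cases hb : H = ⊥
    · exact Or.inl hb
    · exact Or.inr (hcon H hH hb)
  obtain ⟨N₀, hN₀n, hN₀b, hN₀t⟩ := h1
  obtain ⟨N, hNle, hNmin⟩ := Finite.exists_le_minimal
    (p := fun N : Subgroup G => N.Normal ∧ N ≠ ⊥) (a := N₀) ⟨hN₀n, hN₀b⟩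
  refine ⟨N, hNmin.prop.1, hNmin.prop.2, ?_, ?_⟩
  · rintro rfl
    exact hN₀t (top_le_iff.1 hNle)
  · intro B hB hBN
    by_cases hb : B = ⊥
    · exact Or.inl hb
    · exact Or.inr (le_antisymm hBN (hNmin.le_of_le ⟨hB, hb⟩ hBN))

omit [Finite G] hp in
lemma eq_one_of_pprime {p : ℕ} (N : Subgroup G) (hpN : (Nat.card N).Coprime p) {g : G} (hgN : g ∈ N)
    {k : ℕ} (hg : g ^ p ^ k = 1) : g = 1 := by
  have h1 : orderOf g ∣ p ^ k := orderOf_dvd_of_pow_eq_one hg
  have h2 : orderOf g ∣ Nat.card N := by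
    have := orderOf_dvd_natCard (⟨g, hgN⟩ : N)
    rwa [← Subgroup.orderOf_coe] at this
  have h3 : (Nat.card N).Coprime (p ^ k) := Nat.Coprime.pow_right k hpN
  have := Nat.eq_one_of_dvd_coprimes h3 h2 h1
  exact orderOf_eq_one_iff.1 this

omit hp in
/-- a minimal normal subgroup which is a `q`-group is elementary abelian -/
lemma elementary_abelian_of_minimal {q : ℕ} [hq : Fact q.Prime] (N : Subgroup G) [hN : N.Normal]
    (hN1 : N ≠ ⊥) (hmin : ∀ B : Subgroup G, B.Normal → B ≤ N → B = ⊥ ∨ B = N)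
    (hqN : IsPGroup q N) :
    (∀ a ∈ N, ∀ b ∈ N, a * b = b * a) ∧ ∀ a ∈ N, a ^ q = 1 := by
  have hNnt : Nontrivial N := (Subgroup.nontrivial_iff_ne_bot N).2 hN1
  have hZnt : Nontrivial (Subgroup.center N) := hqN.center_nontrivial
  have hZn : ((Subgroup.center N).map N.subtype).Normal :=
    ConjAct.normal_of_characteristic_of_normal
  have hcomm : ∀ a ∈ N, ∀ b ∈ N, a * b = b * a := by
    rcases hmin _ hZn (Subgroup.map_subtype_le _) with h | h
    · exfalso
      rw [Subgroup.map_eq_bot_iff_of_injective _ N.subtype_injective] at h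
      exact (Subgroup.nontrivial_iff_ne_bot _).1 hZnt h
    · intro a ha b hb
      have : a ∈ (Subgroup.center N).map N.subtype := by rw [h]; exact ha
      obtain ⟨a', ha', rfl⟩ := this
      have := Subgroup.mem_center_iff.1 ha' ⟨b, hb⟩
      exact (congrArg Subtype.val this).symm
  refine ⟨hcomm, ?_⟩
  let Ω : Subgroup G :=
    { carrier := {a | a ∈ N ∧ a ^ q = 1}
      one_mem' := ⟨N.one_mem, one_pow _⟩
      mul_mem' := by
        rintro a b ⟨ha, ha'⟩ ⟨hb, hb'⟩
        exact ⟨N.mul_mem ha hb, by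
          rw [(show Commute a b from hcomm a ha b hb).mul_pow, ha', hb', one_mul]⟩
      inv_mem' := by
        rintro a ⟨ha, ha'⟩
        exact ⟨N.inv_mem ha, by rw [inv_pow, ha', inv_one]⟩ }
  have hΩn : Ω.Normal :=
    ⟨fun a ha g => ⟨hN.conj_mem a ha.1 g, by rw [conj_pow, ha.2, mul_one, mul_inv_cancel]⟩⟩
  have hΩN : Ω ≤ N := fun a ha => ha.1
  rcases hmin Ω hΩn hΩN with h | h
  · exfalso
    have hqd : q ∣ Nat.card N := by
      obtain ⟨k, hk⟩ := IsPGroup.iff_card.1 hqN
      have hk0 : k ≠ 0 := by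
        rintro rfl
        rw [pow_zero] at hk
        exact hN1 (Subgroup.eq_bot_of_card_eq _ hk)
      rw [hk]; exact dvd_pow_self q hk0
    obtain ⟨x, hx⟩ := exists_prime_orderOf_dvd_card' (G := N) q hqd
    have hxΩ : (x : G) ∈ Ω := ⟨x.2, by
      rw [← hx, ← Subgroup.orderOf_coe]; exact pow_orderOf_eq_one _⟩
    rw [h, Subgroup.mem_bot] at hxΩ
    have : orderOf (x : G) = 1 := by rw [hxΩ, orderOf_one]
    rw [Subgroup.orderOf_coe, hx] at this
    exact hq.out.one_lt.ne' this
  · intro a ha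
    have : a ∈ Ω := by rw [h]; exact ha
    exact this.2

omit [Finite G] hp in
/-- in a `p`-closed subgroup `H ≥ N` (`N` a normal `p'`-subgroup), elements of order `p`
centralize `N` -/
lemma centralizes_of_pClosed (H : Subgroup G)
    (hHn : ∀ S : Sylow p H, (S : Subgroup H).Normal) (N : Subgroup G) [hN : N.Normal]
    (hNH : N ≤ H) (hcop : (Nat.card N).Coprime p) {y : G} (hyH : y ∈ H) (hy : orderOf y = p) :
    y ∈ Subgroup.centralizer (N : Set G) := by
  have hzp : IsPGroup p (Subgroup.zpowers (⟨y, hyH⟩ : H)) := by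
    apply IsPGroup.of_card (n := 1)
    rw [Nat.card_zpowers, pow_one, ← Subgroup.orderOf_coe]
    exact hy
  obtain ⟨S, hS⟩ := hzp.exists_le_sylow
  have hSn := hHn S
  rw [Subgroup.mem_centralizer_iff]
  intro n hn
  have hnH : n ∈ H := hNH hn
  have hyS : (⟨y, hyH⟩ : H) ∈ (S : Subgroup H) := hS (Subgroup.mem_zpowers _)
  have h1 : (⟨n, hnH⟩ : H) * ⟨y, hyH⟩ * (⟨n, hnH⟩ : H)⁻¹ ∈ (S : Subgroup H) :=
    hSn.conj_mem _ hyS ⟨n, hnH⟩
  have h2 : (⟨n, hnH⟩ : H) * ⟨y, hyH⟩ * (⟨n, hnH⟩ : H)⁻¹ * (⟨y, hyH⟩ : H)⁻¹ ∈ (S : Subgroup H) :=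
    Subgroup.mul_mem _ h1 (Subgroup.inv_mem _ hyS)
  obtain ⟨k, hk⟩ := S.isPGroup' ⟨_, h2⟩
  have h3 : (n * y * n⁻¹ * y⁻¹) ^ p ^ k = 1 := by
    have := congrArg (fun z : (S : Subgroup H) => ((z : H) : G)) hk
    simpa using this
  have h4 : n * y * n⁻¹ * y⁻¹ ∈ N := by
    have : n * y * n⁻¹ * y⁻¹ = n * (y * n⁻¹ * y⁻¹) := by group
    rw [this]; exact N.mul_mem hn (hN.conj_mem _ (N.inv_mem hn) _)
  have h5 := eq_one_of_pprime N hcop h4 h3
  calc n * y = n * y * n⁻¹ * y⁻¹ * y * n := by group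
    _ = y * n := by rw [h5, one_mul]

section main

variable (hall : ∀ P : Sylow p G, ¬ (P : Subgroup G).Normal)
  (hsub : ∀ H : Subgroup G, H ≠ ⊤ → ∀ P : Sylow p H, (P : Subgroup H).Normal)
  (hquo : ∀ (N : Subgroup G) [N.Normal], N ≠ ⊥ →
    ∀ P : Sylow p (G ⧸ N), (P : Subgroup (G ⧸ N)).Normal)
include hall hsub hquo

/-- `G = P N` for every nontrivial normal subgroup `N`. -/
lemma sup_eq_top (N : Subgroup G) [hN : N.Normal] (hN1 : N ≠ ⊥) (P : Sylow p G) :
    (P : Subgroup G) ⊔ N = ⊤ := by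
  by_contra hne
  have hsurj := QuotientGroup.mk'_surjective N
  have h1 := hquo N hN1 (P.mapSurjective hsurj)
  rw [Sylow.coe_mapSurjective] at h1
  have h2 : ((P : Subgroup G) ⊔ N).Normal := by
    have := h1.comap (QuotientGroup.mk' N)
    rwa [Subgroup.comap_map_eq, QuotientGroup.ker_mk'] at this
  have hPK : (P : Subgroup G) ≤ (P : Subgroup G) ⊔ N := le_sup_left
  exact hall P (sylow_normal_of_normal_in_normal P _ hPK (hsub _ hne _))

omit hquo in
/-- a proper normal subgroup that is minimal normal is a `p'`-group -/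
lemma not_dvd_card_of_minimal (N : Subgroup G) [hN : N.Normal] (hNtop : N ≠ ⊤)
    (hmin : ∀ B : Subgroup G, B.Normal → B ≤ N → B = ⊥ ∨ B = N)
    (hPN : ∀ P : Sylow p G, (P : Subgroup G) ⊔ N = ⊤) : ¬ p ∣ Nat.card N := by
  obtain ⟨Q₀⟩ : Nonempty (Sylow p N) := inferInstance
  have hn := hsub N hNtop Q₀
  have hc : (Q₀ : Subgroup N).Characteristic := Sylow.characteristic_of_normal _ hn
  have hQn : ((Q₀ : Subgroup N).map N.subtype).Normal :=
    ConjAct.normal_of_characteristic_of_normal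
  rcases hmin _ hQn (Subgroup.map_subtype_le _) with h | h
  · rw [Subgroup.map_eq_bot_iff_of_injective _ N.subtype_injective] at h
    have := Q₀.not_dvd_index
    rwa [h, Subgroup.index_bot] at this
  · exfalso
    have hNp : IsPGroup p N := by
      have h1 : (Q₀ : Subgroup N).map N.subtype = (⊤ : Subgroup N).map N.subtype := by
        rw [h, ← MonoidHom.range_eq_map, Subgroup.range_subtype]
      have h2 := Subgroup.map_injective N.subtype_injective h1
      have := Q₀.isPGroup'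
      rw [h2] at this
      exact IsPGroup.of_equiv this Subgroup.topEquiv
    obtain ⟨P⟩ : Nonempty (Sylow p G) := inferInstance
    have h3 : IsPGroup p ((P : Subgroup G) ⊔ N : Subgroup G) :=
      IsPGroup.to_sup_of_normal_right P.isPGroup' hNp
    rw [hPN P] at h3
    have h4 : (⊤ : Subgroup G) = P := P.is_maximal' h3 le_top
    apply hall P
    rw [← h4]
    infer_instance

/-- `N` minimal normal `p'`-subgroup with `G = P N` and `P` not normal: `N` is a `q`-group -/
lemma exists_prime_isPGroup (N : Subgroup G) [hN : N.Normal]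
    (hmin : ∀ B : Subgroup G, B.Normal → B ≤ N → B = ⊥ ∨ B = N)
    (hpN : ¬ p ∣ Nat.card N) (P : Sylow p G) (hPN : (P : Subgroup G) ⊔ N = ⊤) :
    ∃ q : ℕ, q.Prime ∧ q ≠ p ∧ IsPGroup q N := by
  set C := N ⊓ Subgroup.centralizer (P : Set G) with hC
  have hCN : C ≠ N := by
    intro h
    have h1 : N ≤ Subgroup.centralizer (P : Set G) := by rw [← h]; exact inf_le_right
    apply hall P
    rw [← Subgroup.normalizer_eq_top_iff, eq_top_iff, ← hPN, sup_le_iff]
    exact ⟨Subgroup.le_normalizer, h1.trans (Subgroup.centralizer_le_normalizer _)⟩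
  have hrel : C.relIndex N ≠ 1 := by
    intro h
    exact hCN (le_antisymm inf_le_left (Subgroup.relIndex_eq_one.1 h))
  obtain ⟨q, hq, hqd⟩ := Nat.exists_prime_and_dvd hrel
  have hqN : q ∣ Nat.card N := hqd.trans (Subgroup.relIndex_dvd_card _ _)
  have hqp : q ≠ p := by rintro rfl; exact hpN hqN
  have : Fact q.Prime := ⟨hq⟩
  have hcop : (Nat.card N).Coprime p :=
    Nat.Coprime.symm ((Nat.Prime.coprime_iff_not_dvd hp.out).2 hpN)
  obtain ⟨T, hTN, hTq, hTrel, hTinv⟩ :=
    Cfsg.Agent.Lib.Helper24.exists_invariant_sylow_of_normal q p N hcop P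
  have hTC : ¬ T ≤ C := by
    intro hle
    apply hTrel
    rw [← Subgroup.relIndex_mul_relIndex T C N hle inf_le_left]
    exact dvd_mul_of_dvd_right hqd _
  have hL : (P : Subgroup G) ⊔ T = ⊤ := by
    by_contra hne
    apply hTC
    refine le_inf hTN ?_
    intro z hz
    rw [Subgroup.mem_centralizer_iff]
    intro y hy
    have hPL : (P : Subgroup G) ≤ (P : Subgroup G) ⊔ T := le_sup_left
    have hn := hsub _ hne (P.subtype hPL)
    rw [Sylow.coe_subtype] at hn
    have hzL : z ∈ (P : Subgroup G) ⊔ T := Subgroup.mem_sup_right hz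
    have hyL : y ∈ (P : Subgroup G) ⊔ T := hPL hy
    have h1 : z * y⁻¹ * z⁻¹ ∈ (P : Subgroup G) := by
      have := hn.conj_mem ⟨y⁻¹, Subgroup.inv_mem _ hyL⟩
        (by rw [Subgroup.mem_subgroupOf]; exact (P : Subgroup G).inv_mem hy) ⟨z, hzL⟩
      rw [Subgroup.mem_subgroupOf] at this
      simpa using this
    have h2 : y * z * y⁻¹ * z⁻¹ ∈ (P : Subgroup G) := by
      have := (P : Subgroup G).mul_mem hy h1
      simpa [mul_assoc] using this
    have h3 : y * z * y⁻¹ * z⁻¹ ∈ T := T.mul_mem (hTinv y hy z hz) (T.inv_mem hz)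
    have hdis : Disjoint (P : Subgroup G) T :=
      IsPGroup.disjoint_of_ne p q hqp.symm _ _ P.isPGroup' hTq
    have h4 : y * z * y⁻¹ * z⁻¹ = 1 := by
      have := hdis.le_bot ⟨h2, h3⟩
      simpa using this
    calc y * z = y * z * y⁻¹ * z⁻¹ * z * y := by group
      _ = z * y := by rw [h4, one_mul]
  have hTn : T.Normal := by
    rw [← Subgroup.normalizer_eq_top_iff, eq_top_iff, ← hL, sup_le_iff]
    refine ⟨?_, Subgroup.le_normalizer⟩
    intro y hy
    exact Subgroup.mem_normalizer_fintype (fun z hz => hTinv y hy z hz)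
  rcases hmin T hTn hTN with h | h
  · exfalso; apply hTC; rw [h]; exact bot_le
  · exact ⟨q, hq, hqp, by rw [← h]; exact hTq⟩

/-- the Sylow `p`-subgroup has order `p` -/
lemma card_sylow_eq (N : Subgroup G) [hN : N.Normal] (hpN : ¬ p ∣ Nat.card N)
    (P : Sylow p G) (hPN : (P : Subgroup G) ⊔ N = ⊤) : Nat.card (P : Subgroup G) = p := by
  have hcop : (Nat.card N).Coprime p :=
    Nat.Coprime.symm ((Nat.Prime.coprime_iff_not_dvd hp.out).2 hpN)
  set D := (P : Subgroup G) ⊓ Subgroup.centralizer (N : Set G) with hD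
  have hDn : D.Normal := by
    rw [← Subgroup.normalizer_eq_top_iff, eq_top_iff, ← hPN, sup_le_iff]
    constructor
    · intro y hy
      apply Subgroup.mem_normalizer_fintype
      intro d hd
      have hcn : (Subgroup.centralizer (N : Set G)).Normal := inferInstance
      exact ⟨(P : Subgroup G).mul_mem ((P : Subgroup G).mul_mem hy hd.1)
        ((P : Subgroup G).inv_mem hy), hcn.conj_mem d hd.2 y⟩
    · intro n hn
      apply Subgroup.mem_normalizer_fintype
      intro d hd
      have : n * d * n⁻¹ = d := by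
        have := Subgroup.mem_centralizer_iff.1 hd.2 n hn
        rw [this, mul_inv_cancel_right]
      rw [this]; exact hd
  have hD1 : D = ⊥ := by
    by_contra hne
    have h1 := hquo D hne (P.mapSurjective (QuotientGroup.mk'_surjective D))
    rw [Sylow.coe_mapSurjective] at h1
    have := h1.comap (QuotientGroup.mk' D)
    rw [Subgroup.comap_map_eq, QuotientGroup.ker_mk', sup_of_le_left inf_le_left] at this
    exact hall P this
  have hP1 : (P : Subgroup G) ≠ ⊥ := by
    intro h; apply hall P; rw [h]; infer_instance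
  have hpd : p ∣ Nat.card (P : Subgroup G) := by
    obtain ⟨k, hk⟩ := IsPGroup.iff_card.1 P.isPGroup'
    have hk0 : k ≠ 0 := by
      rintro rfl
      rw [pow_zero] at hk
      exact hP1 (Subgroup.eq_bot_of_card_eq _ hk)
    rw [hk]; exact dvd_pow_self p hk0
  obtain ⟨y, hy⟩ := exists_prime_orderOf_dvd_card' (G := (P : Subgroup G)) p hpd
  have hyG : orderOf (y : G) = p := by rw [Subgroup.orderOf_coe, hy]
  have hyP : Subgroup.zpowers (y : G) = P := by
    by_contra hne
    have hlt : Subgroup.zpowers (y : G) < P :=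
      lt_of_le_of_ne (Subgroup.zpowers_le.2 y.2) hne
    obtain ⟨y', hy'P, hy'⟩ := SetLike.exists_of_lt hlt
    have hHtop : Subgroup.zpowers (y : G) ⊔ N ≠ ⊤ := by
      intro htop
      have hmem : y' ∈ Subgroup.zpowers (y : G) ⊔ N := by rw [htop]; trivial
      rw [← SetLike.mem_coe, Subgroup.mul_normal] at hmem
      obtain ⟨u, hu, n, hn, hun'⟩ := hmem
      have hun : u * n = y' := hun'
      have hnP : n ∈ (P : Subgroup G) := by
        have : n = u⁻¹ * y' := by rw [← hun]; group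
        rw [this]
        exact (P : Subgroup G).mul_mem ((P : Subgroup G).inv_mem (hlt.le hu)) hy'P
      have hn1 : n = 1 := by
        obtain ⟨k, hk⟩ := P.isPGroup' ⟨n, hnP⟩
        exact eq_one_of_pprime N hcop hn (k := k) (by simpa using congrArg Subtype.val hk)
      apply hy'
      rw [← hun, hn1, mul_one]; exact hu
    have hyH : (y : G) ∈ Subgroup.zpowers (y : G) ⊔ N :=
      Subgroup.mem_sup_left (Subgroup.mem_zpowers _)
    have hyc : (y : G) ∈ Subgroup.centralizer (N : Set G) :=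
      centralizes_of_pClosed _ (hsub _ hHtop) N le_sup_right hcop hyH hyG
    have hyD : (y : G) ∈ D := ⟨y.2, hyc⟩
    rw [hD1, Subgroup.mem_bot] at hyD
    rw [hyD, orderOf_one] at hyG
    exact hp.out.one_lt.ne' hyG.symm
  rw [← hyP, Nat.card_zpowers, hyG]

end main

/-- **Structure of non-simple minimal non-`p`-closed groups.** -/
theorem structure_thm (hnc : ¬ ∀ P : Sylow p G, (P : Subgroup G).Normal)
    (hsub : ∀ H : Subgroup G, H ≠ ⊤ → ∀ P : Sylow p H, (P : Subgroup H).Normal)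
    (hquo : ∀ (N : Subgroup G) [N.Normal], N ≠ ⊥ →
      ∀ P : Sylow p (G ⧸ N), (P : Subgroup (G ⧸ N)).Normal)
    (hns : ¬ IsSimpleGroup G) :
    ∃ q : ℕ, q.Prime ∧ q ≠ p ∧ Nat.card G = p * q ^ orderOf (q : ZMod p) ∧
      ∃ A : Subgroup G, A.Normal ∧ Nat.card ↥A = q ^ orderOf (q : ZMod p) ∧
        ((∀ a ∈ A, ∀ b ∈ A, a * b = b * a) ∧ ∀ a ∈ A, a ^ q = 1) ∧
        ∀ B : Subgroup G, B.Normal → B ≤ A → B = ⊥ ∨ B = A := by
  have hall : ∀ P : Sylow p G, ¬ (P : Subgroup G).Normal :=
    fun P hP => hnc (all_normal_of_normal P hP)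
  have hnt : Nontrivial G := by
    by_contra h
    rw [not_nontrivial_iff_subsingleton] at h
    exact hnc (fun P => subsingleton_normal _)
  obtain ⟨N, hNn, hN1, hNtop, hmin⟩ := exists_min_normal hns
  obtain ⟨P⟩ : Nonempty (Sylow p G) := inferInstance
  have hPN := fun P => sup_eq_top hall hsub hquo N hN1 P
  have hpN := not_dvd_card_of_minimal hall hsub N hNtop hmin hPN
  obtain ⟨q, hq, hqp, hqN⟩ := exists_prime_isPGroup hall hsub hquo N hmin hpN P (hPN P)
  have : Fact q.Prime := ⟨hq⟩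
  obtain ⟨hcomm, hexp⟩ := elementary_abelian_of_minimal N hN1 hmin hqN
  have hPcard := card_sylow_eq hall hsub hquo N hpN P (hPN P)
  have hidx : N.index = p := by
    have hdis : N ⊓ (P : Subgroup G) = ⊥ :=
      disjoint_iff.1 (IsPGroup.disjoint_of_ne q p hqp _ _ hqN P.isPGroup')
    rw [← Subgroup.relIndex_top_right, ← hPN P, sup_comm, Subgroup.relIndex_sup_left,
      ← Subgroup.inf_relIndex_right, hdis, Subgroup.relIndex_bot_left, hPcard]
  have hna : ∃ g h : G, g * h ≠ h * g := by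
    by_contra hcon
    push Not at hcon
    apply hall P
    exact ⟨fun n hn g => by rw [hcon g n, mul_inv_cancel_right]; exact hn⟩
  have hcard := Cfsg.Agent.Lib.Helper19.IrredCyclic.card_eq N hq hqp hcomm hexp hidx hmin hna
  refine ⟨q, hq, hqp, ?_, N, hNn, hcard, ⟨hcomm, hexp⟩, hmin⟩
  rw [← N.card_mul_index, hidx, hcard, mul_comm]

end Cfsg.Agent.Lib.Helper19.MinNonPClosed
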