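/-
Helper19 library: two subgroups whose common order is the full power of `p` dividing the group order are conjugate.
-/
import Mathlib

set_option autoImplicit false

namespace Cfsg.Agent.Lib.Helper19.SylConj

open scoped Pointwise

/-- a subgroup of order `p ^ k` in a group whose order is not divisible by `p ^ (k + 1)` is a Sylow subgroup. -/
theorem exists_sylow_eq {G : Type*} [Group G] [Finite G] {p : ℕ} [Fact p.Prime] (S : Subgroup G)
    (k : ℕ) (hS : Nat.card S = p ^ k) (hG : ¬ p ^ (k + 1) ∣ Nat.card G) :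
    ∃ Q : Sylow p G, (Q : Subgroup G) = S := by
  have hpS : IsPGroup p S := IsPGroup.of_card hS
  obtain ⟨Q, hQ⟩ := hpS.exists_le_sylow
  obtain ⟨n, hn⟩ := IsPGroup.iff_card.mp Q.isPGroup'
  have h1 : p ^ n ∣ Nat.card G := hn ▸ Subgroup.card_subgroup_dvd_card _
  have h2 : n ≤ k := by
    by_contra h
    push Not at h
    exact hG (dvd_trans (pow_dvd_pow p h) h1)
  have h3 : Nat.card S ∣ Nat.card Q := Subgroup.card_dvd_of_le hQ
  have h4 : k ≤ n := by
    rw [hS, hn] at h3
    exact (Nat.pow_dvd_pow_iff_le_right (Fact.out : p.Prime).one_lt).mp h3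
  refine ⟨Q, ?_⟩
  symm
  apply Subgroup.eq_of_le_of_card_ge hQ
  rw [hS, hn, le_antisymm h2 h4]

/-- two subgroups of order `p ^ k` in a group whose order is not divisible by `p ^ (k + 1)` are conjugate. -/
theorem exists_conj_eq {G : Type*} [Group G] [Finite G] {p : ℕ} [Fact p.Prime] (S T : Subgroup G)
    (k : ℕ) (hS : Nat.card S = p ^ k) (hT : Nat.card T = p ^ k) (hG : ¬ p ^ (k + 1) ∣ Nat.card G) :
    ∃ g : G, T = MulAut.conj g • S := by
  obtain ⟨Q, hQ⟩ := exists_sylow_eq S k hS hG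
  obtain ⟨Q', hQ'⟩ := exists_sylow_eq T k hT hG
  obtain ⟨g, hg⟩ := MulAction.exists_smul_eq G Q Q'
  refine ⟨g, ?_⟩
  rw [← hQ', ← hg, Sylow.coe_subgroup_smul, hQ]

end Cfsg.Agent.Lib.Helper19.SylConj
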