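/-
Helper19 library: abstract argument for "a subgroup of order 7 of `S / Z(S)` has normalizer of order 21 and
is self-centralizing", from a handful of facts about an element `g` of order 7 of `S`.
-/
import Mathlib
import Cfsg.Agent.Lib.Helper19.SylConj
import Cfsg.Agent.Lib.Helper19.SUCongr

set_option autoImplicit false

namespace Cfsg.Agent.Lib.Helper19.N7Abs

open scoped Pointwise

variable {S : Type*} [Group S]

/-- the facts about `g` (of order 7) and `n` (of order 3, normalizing `⟨g⟩`) that are needed. -/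
structure Hyp (g n : S) : Prop where
  hg7 : g ^ 7 = 1
  hg1 : g ≠ 1
  hn3 : n ^ 3 = 1
  hng : n * g * n⁻¹ = g ^ 2
  hZ : ∀ z ∈ Subgroup.center S, z ^ 4 = 1
  hC : ∀ h : S, h * g = g * h → ∃ a : ℕ, (g ^ a)⁻¹ * h ∈ Subgroup.center S
  hT : ∀ (y : S) (k : ℕ), y * g * y⁻¹ = g ^ k → k % 7 = 1 ∨ k % 7 = 2 ∨ k % 7 = 4

namespace Hyp

variable {g n : S} (H : Hyp g n)

include H

theorem twist (y z : S) (k : ℕ) (hz : z ∈ Subgroup.center S) (h : y * g * y⁻¹ = z * g ^ k) :
    z = 1 := by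
  have h1 : (y * g * y⁻¹) ^ 7 = 1 := by rw [conj_pow, H.hg7, mul_one, mul_inv_cancel]
  have hc : Commute z (g ^ k) := (Subgroup.mem_center_iff.mp hz (g ^ k)).symm
  rw [h, hc.mul_pow, ← pow_mul, mul_comm k 7, pow_mul, H.hg7, one_pow, mul_one] at h1
  have h4 := H.hZ z hz
  have h8 : z ^ 8 = 1 := by
    have : z ^ 8 = (z ^ 4) ^ 2 := by rw [← pow_mul]
    rw [this, h4, one_pow]
  have : z ^ 8 = z ^ 7 * z := pow_succ z 7
  rw [h8, h1, one_mul] at this
  exact this.symm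

/-- the quotient map. -/
abbrev pr (x : S) : S ⧸ Subgroup.center S := (x : S ⧸ Subgroup.center S)

theorem lift_conj (y : S) (k : ℕ) (h : pr y * pr g * (pr y)⁻¹ = pr g ^ k) :
    y * g * y⁻¹ = g ^ k := by
  have h1 : pr (g ^ k) = pr (y * g * y⁻¹) := by
    show ((g ^ k : S) : S ⧸ Subgroup.center S) = ((y * g * y⁻¹ : S) : S ⧸ Subgroup.center S)
    rw [QuotientGroup.mk_pow, QuotientGroup.mk_mul, QuotientGroup.mk_mul, QuotientGroup.mk_inv]
    exact h.symm
  have h2 : (g ^ k)⁻¹ * (y * g * y⁻¹) ∈ Subgroup.center S := QuotientGroup.eq.mp h1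
  set z := (g ^ k)⁻¹ * (y * g * y⁻¹) with hz
  have h3 : y * g * y⁻¹ = z * g ^ k := by
    rw [← Subgroup.mem_center_iff.mp h2 (g ^ k), hz, mul_inv_cancel_left]
  have h4 := H.twist y z k h2 h3
  rw [h3, h4, one_mul]

theorem mem_of_commute (y : S) (h : y * g = g * y) : pr y ∈ Subgroup.zpowers (pr g) := by
  obtain ⟨a, ha⟩ := H.hC y h
  have h1 : pr (g ^ a) = pr y := QuotientGroup.eq.mpr ha
  rw [← h1]
  show ((g ^ a : S) : S ⧸ Subgroup.center S) ∈ _
  rw [QuotientGroup.mk_pow]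
  exact Subgroup.pow_mem _ (Subgroup.mem_zpowers _) a

theorem pr_g_ne_one : pr g ≠ 1 := by
  intro h
  have h1 : g ∈ Subgroup.center S := (QuotientGroup.eq_one_iff g).mp h
  have h2 : n * g = g * n := Subgroup.mem_center_iff.mp h1 n
  have h3 := H.hng
  rw [h2, mul_inv_cancel_right] at h3
  apply H.hg1
  have : g * g = g * 1 := by rw [mul_one, ← pow_two]; exact h3.symm
  exact mul_left_cancel this

theorem pr_g_pow : pr g ^ 7 = 1 := by
  show ((g : S) : S ⧸ Subgroup.center S) ^ 7 = 1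
  rw [← QuotientGroup.mk_pow, H.hg7]
  rfl

theorem orderOf_pr_g : orderOf (pr g) = 7 := by
  haveI : Fact (Nat.Prime 7) := ⟨by norm_num⟩
  exact orderOf_eq_prime H.pr_g_pow H.pr_g_ne_one

theorem card_X0 : Nat.card (Subgroup.zpowers (pr g)) = 7 := by
  rw [Nat.card_zpowers, H.orderOf_pr_g]

theorem centralizer_X0 :
    Subgroup.centralizer ((Subgroup.zpowers (pr g) : Subgroup (S ⧸ Subgroup.center S)) : Set _) =
      Subgroup.zpowers (pr g) := by
  apply le_antisymm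
  · intro y hy
    obtain ⟨y, rfl⟩ := QuotientGroup.mk_surjective y
    have h1 := Subgroup.mem_centralizer_iff.mp hy (pr g) (Subgroup.mem_zpowers _)
    have h2 : pr y * pr g * (pr y)⁻¹ = pr g ^ 1 := by
      rw [pow_one]
      show (y : S ⧸ Subgroup.center S) * pr g * (y : S ⧸ Subgroup.center S)⁻¹ = pr g
      rw [← h1, mul_inv_cancel_right]
    have h3 := H.lift_conj y 1 h2
    rw [pow_one] at h3
    have h4 : y * g = g * y := by
      calc y * g = y * g * y⁻¹ * y := by rw [inv_mul_cancel_right]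
        _ = g * y := by rw [h3]
    exact H.mem_of_commute y h4
  · rw [Subgroup.zpowers_le, Subgroup.mem_centralizer_iff]
    intro h hh
    obtain ⟨k, rfl⟩ := Subgroup.mem_zpowers_iff.mp hh
    exact ((Commute.refl (pr g)).zpow_left k).eq

theorem conj_npow (j : ℕ) : n ^ j * g * (n ^ j)⁻¹ = g ^ (2 ^ j) := by
  induction j with
  | zero => simp
  | succ j ih =>
    have : n ^ (j + 1) * g * (n ^ (j + 1))⁻¹ = n * (n ^ j * g * (n ^ j)⁻¹) * n⁻¹ := by
      rw [pow_succ', mul_inv_rev]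
      simp only [mul_assoc]
    rw [this, ih, ← conj_pow, H.hng, ← pow_mul, pow_succ']

theorem mem_of_conj (y : S) (j : ℕ) (h : y * g * y⁻¹ = g ^ (2 ^ j)) :
    ∃ a : ℕ, pr y = pr n ^ j * pr g ^ a := by
  have h1 : ((n ^ j)⁻¹ * y) * g = g * ((n ^ j)⁻¹ * y) := by
    have h2 := H.conj_npow j
    rw [← h] at h2
    -- n^j g n^-j = y g y^-1
    have h3 : (n ^ j)⁻¹ * (y * g * y⁻¹) * n ^ j = g := by
      rw [← h2]
      simp only [mul_assoc, inv_mul_cancel_left, inv_mul_cancel, mul_one]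
    calc (n ^ j)⁻¹ * y * g = (n ^ j)⁻¹ * (y * g * y⁻¹) * n ^ j * ((n ^ j)⁻¹ * y) := by
          simp only [mul_assoc, inv_mul_cancel_left, mul_inv_cancel_left, inv_mul_cancel, mul_one]
      _ = g * ((n ^ j)⁻¹ * y) := by rw [h3]
  have h2 := H.mem_of_commute _ h1
  obtain ⟨a, ha⟩ := (IsOfFinOrder.mem_powers_iff_mem_zpowers (isOfFinOrder_iff_pow_eq_one.mpr
    ⟨7, by norm_num, H.pr_g_pow⟩)).mpr h2
  refine ⟨a, ?_⟩
  have h3 : pr ((n ^ j)⁻¹ * y) = (pr n ^ j)⁻¹ * pr y := by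
    show (((n ^ j)⁻¹ * y : S) : S ⧸ Subgroup.center S) = _
    rw [QuotientGroup.mk_mul, QuotientGroup.mk_inv, QuotientGroup.mk_pow]
  have ha' : pr g ^ a = (pr n ^ j)⁻¹ * pr y := ha.trans h3
  rw [ha', mul_inv_cancel_left]

theorem mem_normalizer_X0 (y : S ⧸ Subgroup.center S)
    (hy : y ∈ Subgroup.normalizer ((Subgroup.zpowers (pr g) :
      Subgroup (S ⧸ Subgroup.center S)) : Set (S ⧸ Subgroup.center S))) :
    ∃ (j : Fin 3) (a : Fin 7), y = pr n ^ (j : ℕ) * pr g ^ (a : ℕ) := by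
  obtain ⟨y, rfl⟩ := QuotientGroup.mk_surjective y
  have h1 := (Subgroup.mem_normalizer_iff.mp hy (pr g)).mp (Subgroup.mem_zpowers _)
  obtain ⟨k, hk⟩ := (IsOfFinOrder.mem_powers_iff_mem_zpowers (isOfFinOrder_iff_pow_eq_one.mpr
    ⟨7, by norm_num, H.pr_g_pow⟩)).mpr h1
  have hk' : pr y * pr g * (pr y)⁻¹ = pr g ^ k := hk.symm
  have h2 := H.lift_conj y k hk'
  have h3 := H.hT y k h2
  have h4 : g ^ k = g ^ (k % 7) := pow_eq_pow_mod k H.hg7
  have key : ∀ j : Fin 3, k % 7 = 2 ^ (j : ℕ) →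
      ∃ (j : Fin 3) (a : Fin 7), pr y = pr n ^ (j : ℕ) * pr g ^ (a : ℕ) := by
    intro j hj
    rw [h4, hj] at h2
    obtain ⟨a, ha⟩ := H.mem_of_conj y j h2
    refine ⟨j, ⟨a % 7, Nat.mod_lt _ (by norm_num)⟩, ?_⟩
    rw [ha]
    congr 1
    exact pow_eq_pow_mod a H.pr_g_pow
  rcases h3 with h3 | h3 | h3
  · exact key 0 (by rw [h3]; rfl)
  · exact key 1 (by rw [h3]; rfl)
  · exact key 2 (by rw [h3]; rfl)

theorem pr_n_pow : pr n ^ 3 = 1 := by
  show ((n : S) : S ⧸ Subgroup.center S) ^ 3 = 1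
  rw [← QuotientGroup.mk_pow, H.hn3]
  rfl

theorem pr_n_ne_one : pr n ≠ 1 := by
  intro h
  have h1 : n ∈ Subgroup.center S := (QuotientGroup.eq_one_iff n).mp h
  have h2 : g * n = n * g := Subgroup.mem_center_iff.mp h1 g
  have h3 := H.hng
  rw [← h2, mul_inv_cancel_right] at h3
  apply H.hg1
  have : g * g = g * 1 := by rw [mul_one, ← pow_two]; exact h3.symm
  exact mul_left_cancel this

theorem conj_mem_X0 (x : S ⧸ Subgroup.center S) (hx : x ∈ Subgroup.zpowers (pr g)) :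
    pr n * x * (pr n)⁻¹ ∈ Subgroup.zpowers (pr g) := by
  obtain ⟨k, rfl⟩ := Subgroup.mem_zpowers_iff.mp hx
  have h1 : pr n * pr g * (pr n)⁻¹ = pr g ^ 2 := by
    show (n : S ⧸ Subgroup.center S) * (g : S ⧸ Subgroup.center S) *
      (n : S ⧸ Subgroup.center S)⁻¹ = (g : S ⧸ Subgroup.center S) ^ 2
    rw [← QuotientGroup.mk_inv, ← QuotientGroup.mk_mul, ← QuotientGroup.mk_mul, H.hng,
      QuotientGroup.mk_pow]
  have h2 : pr n * pr g ^ k * (pr n)⁻¹ = (pr n * pr g * (pr n)⁻¹) ^ k := by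
    rw [conj_zpow]
  rw [h2, h1]
  exact Subgroup.zpow_mem _ (Subgroup.pow_mem _ (Subgroup.mem_zpowers _) 2) k

theorem pr_n_mem_normalizer :
    pr n ∈ Subgroup.normalizer ((Subgroup.zpowers (pr g) :
      Subgroup (S ⧸ Subgroup.center S)) : Set (S ⧸ Subgroup.center S)) := by
  rw [Subgroup.mem_normalizer_iff]
  intro x
  constructor
  · exact H.conj_mem_X0 x
  · intro hx
    have h1 := H.conj_mem_X0 _ (H.conj_mem_X0 _ hx)
    have h2 : (pr n)⁻¹ = pr n ^ 2 := by
      rw [inv_eq_iff_mul_eq_one, ← pow_succ', H.pr_n_pow]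
    have h3 : pr n * (pr n * (pr n * x * (pr n)⁻¹) * (pr n)⁻¹) * (pr n)⁻¹ = x := by
      have e : pr n * (pr n * (pr n * x * (pr n)⁻¹) * (pr n)⁻¹) * (pr n)⁻¹ =
          pr n ^ 3 * x * ((pr n)⁻¹) ^ 3 := by
        simp only [pow_succ, pow_zero, one_mul, mul_assoc]
      rw [e, inv_pow, H.pr_n_pow, inv_one, mul_one, one_mul]
    rw [← h3]
    exact h1

theorem card_normalizer_X0 [Finite S] :
    Nat.card (Subgroup.normalizer ((Subgroup.zpowers (pr g) :
      Subgroup (S ⧸ Subgroup.center S)) : Set (S ⧸ Subgroup.center S))) = 21 := by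
  set N := Subgroup.normalizer ((Subgroup.zpowers (pr g) :
      Subgroup (S ⧸ Subgroup.center S)) : Set (S ⧸ Subgroup.center S)) with hN
  -- upper bound
  have hle : Nat.card N ≤ 21 := by
    let f : Fin 3 × Fin 7 → S ⧸ Subgroup.center S := fun p => pr n ^ (p.1 : ℕ) * pr g ^ (p.2 : ℕ)
    have hsub : (N : Set (S ⧸ Subgroup.center S)) ⊆ Set.range f := by
      intro y hy
      obtain ⟨j, a, e⟩ := H.mem_normalizer_X0 y hy
      exact ⟨(j, a), e.symm⟩
    have h1 : Nat.card N ≤ Nat.card (Set.range f) := by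
      have : Nat.card N = Nat.card ((N : Set (S ⧸ Subgroup.center S))) := rfl
      rw [this]
      exact Nat.card_mono (Set.toFinite _) hsub
    have h2 := Finite.card_range_le f
    have h3 : Nat.card (Fin 3 × Fin 7) = 21 := by
      rw [Nat.card_prod, Nat.card_fin, Nat.card_fin]
    omega
  have h7 : 7 ∣ Nat.card N := by
    rw [← H.card_X0]
    exact Subgroup.card_dvd_of_le
      (Subgroup.le_normalizer : Subgroup.zpowers (pr g) ≤ Subgroup.normalizer _)
  have h3 : 3 ∣ Nat.card N := by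
    haveI : Fact (Nat.Prime 3) := ⟨by norm_num⟩
    have ho : orderOf (pr n) = 3 := orderOf_eq_prime H.pr_n_pow H.pr_n_ne_one
    have ho' : orderOf (⟨pr n, H.pr_n_mem_normalizer⟩ : N) = 3 := by
      rw [← ho]
      exact Subgroup.orderOf_mk _ _
    rw [← ho']
    exact orderOf_dvd_natCard _
  have h21 : 21 ∣ Nat.card N :=
    Nat.Coprime.mul_dvd_of_dvd_of_dvd (by norm_num : Nat.Coprime 3 7) h3 h7
  have hpos : 0 < Nat.card N := Nat.card_pos
  obtain ⟨c, hc⟩ := h21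
  have : c = 1 := by
    rcases c with _ | _ | c
    · omega
    · rfl
    · omega
  rw [hc, this]

/-- the main abstract statement. -/
theorem main [Finite S] (hcard : ¬ 7 ^ 2 ∣ Nat.card (S ⧸ Subgroup.center S))
    (X : Subgroup (S ⧸ Subgroup.center S)) (hX : Nat.card X = 7) :
    Nat.card (Subgroup.normalizer (X : Set (S ⧸ Subgroup.center S))) = 21 ∧
      Subgroup.centralizer (X : Set (S ⧸ Subgroup.center S)) = X := by
  haveI : Fact (Nat.Prime 7) := ⟨by norm_num⟩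
  obtain ⟨c, hc⟩ := SylConj.exists_conj_eq (p := 7) (Subgroup.zpowers (pr g)) X 1
    (by rw [H.card_X0]; norm_num) (by rw [hX]; norm_num) hcard
  have h := SUCongr.transport (MulAut.conj c) (Subgroup.zpowers (pr g)) 21
    ⟨H.card_normalizer_X0, H.centralizer_X0⟩
  have e : (Subgroup.zpowers (pr g)).map (MulAut.conj c).toMonoidHom = X := hc.symm
  rw [e] at h
  exact h

end Hyp

end Cfsg.Agent.Lib.Helper19.N7Abs
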