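/-
Helper19 library: encodings of `6 × 6` matrices over `ZMod 2` (index type `(Fin 2 ⊕ Fin 2) ⊕ Fin 2`, as for the
six-dimensional quadratic form of minus type) as lists of row masks, for kernel computations.
-/
import Mathlib
import Cfsg.Agent.Lib.Helper19.B2Enc

set_option autoImplicit false

namespace Cfsg.Agent.Lib.Helper19.O6Enc

open Cfsg.Agent.Lib.Helper19.B2Enc

/-- the index type. -/
abbrev J6 : Type := (Fin 2 ⊕ Fin 2) ⊕ Fin 2

/-- position of an index. -/
def pos6 : J6 → ℕ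
  | Sum.inl (Sum.inl i) => i.val
  | Sum.inl (Sum.inr i) => 2 + i.val
  | Sum.inr i => 4 + i.val

/-- decoding of a list of row masks. -/
def dec6 (m : List ℕ) : Matrix J6 J6 (ZMod 2) :=
  Matrix.of fun i j => bz ((m.getD (pos6 i) 0).testBit (pos6 j))

/-- a row times a matrix. -/
def rowMul6 (r : ℕ) (b : List ℕ) : ℕ :=
  (if r.testBit 0 then b.getD 0 0 else 0) ^^^ (if r.testBit 1 then b.getD 1 0 else 0) ^^^
  (if r.testBit 2 then b.getD 2 0 else 0) ^^^ (if r.testBit 3 then b.getD 3 0 else 0) ^^^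
  (if r.testBit 4 then b.getD 4 0 else 0) ^^^ (if r.testBit 5 then b.getD 5 0 else 0)

/-- product of encodings. -/
def mul6 (a b : List ℕ) : List ℕ := a.map fun r => rowMul6 r b

theorem rowMul6_zero (b : List ℕ) : rowMul6 0 b = 0 := by
  simp [rowMul6]

theorem bz_rowMul6 (r : ℕ) (b : List ℕ) (c : ℕ) :
    bz ((rowMul6 r b).testBit c) =
      ∑ k : J6, bz (r.testBit (pos6 k)) * bz ((b.getD (pos6 k) 0).testBit c) := by
  rw [Fintype.sum_sum_type, Fintype.sum_sum_type, Fin.sum_univ_two, Fin.sum_univ_two, Fin.sum_univ_two]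
  simp only [rowMul6, Nat.testBit_xor, testBit_ite, bz_xor, bz_and, pos6]
  simp only [Fin.val_zero, Fin.val_one, Nat.reduceAdd, add_zero]
  ring

theorem dec6_mul (a b : List ℕ) : dec6 (mul6 a b) = dec6 a * dec6 b := by
  ext i j
  rw [Matrix.mul_apply]
  simp only [dec6, Matrix.of_apply, mul6]
  have h : (List.map (fun r => rowMul6 r b) a).getD (pos6 i) 0 = rowMul6 (a.getD (pos6 i) 0) b := by
    simp only [List.getD_eq_getElem?_getD, List.getElem?_map]
    cases a[pos6 i]? <;> simp [rowMul6_zero]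
  rw [h, bz_rowMul6]

/-- the identity. -/
def ONE6 : List ℕ := [1, 2, 4, 8, 16, 32]

theorem dec6_one : dec6 ONE6 = 1 := by
  decide +kernel

/-- the mask of a row. -/
def rowMask (A : Matrix J6 J6 (ZMod 2)) (i : J6) : ℕ :=
  (A i (Sum.inl (Sum.inl 0))).val + 2 * (A i (Sum.inl (Sum.inl 1))).val +
    4 * (A i (Sum.inl (Sum.inr 0))).val + 8 * (A i (Sum.inl (Sum.inr 1))).val +
    16 * (A i (Sum.inr 0)).val + 32 * (A i (Sum.inr 1)).val

/-- the list of row masks of a matrix. -/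
def enc6 (A : Matrix J6 J6 (ZMod 2)) : List ℕ :=
  [rowMask A (Sum.inl (Sum.inl 0)), rowMask A (Sum.inl (Sum.inl 1)), rowMask A (Sum.inl (Sum.inr 0)),
   rowMask A (Sum.inl (Sum.inr 1)), rowMask A (Sum.inr 0), rowMask A (Sum.inr 1)]

end Cfsg.Agent.Lib.Helper19.O6Enc
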