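import Mathlib
import Cfsg.Prelude.Def_GeometricClasses
import Cfsg.Agent.Lib.Lead.OEQF
import Cfsg.Agent.Lib.Helper9.PlusPlane
import Cfsg.Agent.Lib.Helper25.OmegaNonMax
import Cfsg.Agent.Lib.Helper18.OAschTR
import Cfsg.Agent.Lib.Helper1.OmMN13
import Cfsg.Agent.Lib.Helper28.OmME3
import Cfsg.Agent.Lib.Helper15.UniForm

/-!
helper19: OMEGA-EVEN rows market (lead), block E: `two_eq_zero_of_not_odd`, `nd_perp`, `even_finrank_of_nd`, `ts_ne_top`.
-/

set_option autoImplicit false
set_option linter.unusedSectionVars false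
set_option linter.unusedVariables false

namespace Cfsg.Agent.Lib.Helper19.OELeaf

open Cfsg Cfsg.Geo Matrix Module QuadraticMap Cfsg.Agent.Lib.Lead.OE

section generic
variable {ι : Type} [Fintype ι] [DecidableEq ι] {F : Type*} [Field F] [Fintype F]
  (Q : QuadraticForm F (ι → F))

/-- E0. -/
theorem two_eq_zero_of_not_odd (h : ¬ Odd (Fintype.card F)) : (2 : F) = 0 := by
  have hev : Fintype.card F % 2 = 0 := by
    rw [Nat.not_odd_iff_even] at h
    exact Nat.even_iff.mp h
  have hchar : ringChar F = 2 := FiniteField.even_card_iff_char_two.mpr hev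
  have : CharP F 2 := by rw [← hchar]; exact ringChar.charP F
  exact_mod_cast CharP.cast_eq_zero F 2

/-- E1. -/
theorem nd_perp (hQ : (polarBilin Q).Nondegenerate) {W : Submodule F (ι → F)} (h1 : W ≠ ⊤)
    (hW : IsNondegenerateOn (polar ⇑Q) W) :
    ∃ U : Submodule F (ι → F), U ≠ ⊥ ∧ finrank F U + finrank F W = Fintype.card ι ∧
      IsNondegenerateOn (polar ⇑Q) U ∧
      subspaceStabilizer W ⊓ isometryGroup F ⇑Q ≤ subspaceStabilizer U := by
  obtain ⟨hcompl, hnd⟩ := Cfsg.Agent.Lib.Helper28.OmMLeaf.orth_props28 Q hQ hW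
  refine ⟨Cfsg.Agent.Lib.Helper28.OmMLeaf.perp28 Q W, ?_, ?_, hnd,
    Cfsg.Agent.Lib.Helper28.OmMLeaf.stab_orth28 Q⟩
  · intro hbot
    apply h1
    have := hcompl.sup_eq_top
    rw [hbot, sup_bot_eq] at this
    exact this
  · have := Submodule.finrank_add_eq_of_isCompl hcompl
    rw [Module.finrank_fintype_fun_eq_card] at this
    omega

/-- E2. -/
theorem even_finrank_of_nd (h2 : (2 : F) = 0) {W : Submodule F (ι → F)}
    (hW : IsNondegenerateOn (polar ⇑Q) W) : Even (finrank F W) := by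
  let C : LinearMap.BilinForm F W := LinearMap.BilinForm.restrict (polarBilin Q) W
  have hC : C.IsAlt := by
    intro x
    show polarBilin Q (x : ι → F) (x : ι → F) = 0
    rw [polarBilin_apply_apply, polar_self, two_nsmul, ← two_mul, h2, zero_mul]
  obtain ⟨m, hm⟩ := Cfsg.Agent.Lib.Helper15.UniForm.even_rank_alt C hC
  have hker : LinearMap.ker C = ⊥ := by
    rw [Submodule.eq_bot_iff]
    intro x hx
    rw [LinearMap.mem_ker] at hx
    by_contra hne
    have hne' : (x : ι → F) ≠ 0 := fun h0 => hne (Subtype.ext h0)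
    obtain ⟨_, ⟨y, hy, hxy⟩⟩ := hW x x.2 hne'
    apply hxy
    have := LinearMap.congr_fun hx ⟨y, hy⟩
    exact this
  rw [hker, finrank_bot, zero_add] at hm
  exact ⟨m, by rw [hm]; ring⟩

/-- E3. -/
theorem ts_ne_top (hQ : (polarBilin Q).Nondegenerate) (hι : 1 ≤ Fintype.card ι)
    {W : Submodule F (ι → F)} (hts : IsTotallySingularQuad ⇑Q W) : W ≠ ⊤ := by
  rintro rfl
  have hQ0 : ∀ v, Q v = 0 := fun v => hts v Submodule.mem_top
  obtain ⟨i⟩ : Nonempty ι := Fintype.card_pos_iff.mp (by omega)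
  have hv : (Pi.single i (1 : F) : ι → F) ≠ 0 := by
    intro h0
    have := congrFun h0 i
    simp at this
  apply hv
  apply hQ.1
  intro y
  rw [polarBilin_apply_apply]
  unfold polar
  rw [hQ0, hQ0, hQ0]
  ring

end generic

end Cfsg.Agent.Lib.Helper19.OELeaf
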