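import Mathlib
import Cfsg.Prelude.Def_GeometricClasses
import Cfsg.Agent.Lib.Lead.OEQF
import Cfsg.Agent.Lib.Helper9.PlusPlane
import Cfsg.Agent.Lib.Helper25.OmegaNonMax
import Cfsg.Agent.Lib.Helper18.OAschTR
import Cfsg.Agent.Lib.Helper1.OmMN13
import Cfsg.Agent.Lib.Helper25.DiscType
import Cfsg.Agent.Lib.Helper19.OEE

/-!
helper19: OMEGA-EVEN rows market (lead), leaf R1 `plus_of_dec_odd`: an orthogonal decomposition into `t` isometric members of odd
dimension, `4 ∣ t`, forces plus type (discriminant argument on the collected basis).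
-/

set_option autoImplicit false
set_option linter.unusedSectionVars false
set_option linter.unusedVariables false

namespace Cfsg.Agent.Lib.Helper19.OELeaf

open Cfsg Cfsg.Geo Matrix Module QuadraticMap Cfsg.Agent.Lib.Lead.OE

section generic
variable {ι : Type} [Fintype ι] [DecidableEq ι] {F : Type*} [Field F] [Fintype F]
  (Q : QuadraticForm F (ι → F))

/-- R1. -/
theorem plus_of_dec_odd (hQ : (polarBilin Q).Nondegenerate) {t k : ℕ} {D : Fin t → Submodule F (ι → F)}
    (hD : IsOrthogonalMDecomposition ⇑Q k D) (hk : Odd k) (ht : 4 ∣ t) : IsPlusTypeOn ⇑Q ⊤ := by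
  classical
  obtain ⟨s, rfl⟩ := ht
  have hdec := hD.decomp.decomp
  have hs : 0 < s := by
    have := hdec.two_le
    omega
  let i₀ : Fin (4 * s) := ⟨0, by omega⟩
  -- odd characteristic
  have h2 : (2 : F) ≠ 0 := by
    intro h2
    have := even_finrank_of_nd Q h2 (hD.decomp.nondegenerate i₀)
    rw [hdec.finrank_eq] at this
    exact (Nat.not_even_iff_odd.2 hk) this
  -- the direct sum
  have hInt : DirectSum.IsInternal D :=
    DirectSum.isInternal_submodule_of_iSupIndep_of_iSup_eq_top hdec.indep hdec.iSup_eq_top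
  -- bases
  let b₀ : Basis (Fin k) F (D i₀) := Module.finBasisOfFinrankEq F (D i₀) (hdec.finrank_eq i₀)
  choose ψ hψ using fun i => hD.isometric i₀ i
  let bs : ∀ i, Basis (Fin k) F (D i) := fun i => b₀.map (ψ i)
  let e : (Σ _ : Fin (4 * s), Fin k) ≃ Fin k × Fin (4 * s) :=
    (Equiv.sigmaEquivProd _ _).trans (Equiv.prodComm _ _)
  let b : Basis (Fin k × Fin (4 * s)) F (ι → F) := (hInt.collectedBasis bs).reindex e
  have hb : ∀ (i : Fin (4 * s)) (l : Fin k), b (l, i) = ((ψ i (b₀ l) : D i) : ι → F) := by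
    intro i l
    have h1 : b (l, i) = hInt.collectedBasis bs ⟨i, l⟩ := by
      simp only [b, Basis.reindex_apply]
      rfl
    have := congrFun (hInt.collectedBasis_coe bs) ⟨i, l⟩
    rw [h1, this]
    simp only [bs, Basis.map_apply]
  -- isometries preserve the polar form
  have hpol : ∀ (i : Fin (4 * s)) (x y : D i₀),
      polar ⇑Q ((ψ i x : D i) : ι → F) ((ψ i y : D i) : ι → F) = polar ⇑Q (x : ι → F) (y : ι → F) := by
    intro i x y
    unfold polar
    have e : ((ψ i x : D i) : ι → F) + ((ψ i y : D i) : ι → F) = ((ψ i (x + y) : D i) : ι → F) := by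
      rw [map_add]; rfl
    rw [e, hψ i, hψ i, hψ i]
    rfl
  -- the Gram matrix
  let G₀ : Matrix (Fin k) (Fin k) F := fun l m => polar ⇑Q (b₀ l : ι → F) (b₀ m : ι → F)
  have hG : LinearMap.BilinForm.toMatrix b (polarBilin Q) =
      Matrix.blockDiagonal (fun _ : Fin (4 * s) => G₀) := by
    ext ⟨l, i⟩ ⟨m, j⟩
    rw [LinearMap.BilinForm.toMatrix_apply, polarBilin_apply_apply, hb, hb]
    by_cases hij : i = j
    · subst hij
      rw [Matrix.blockDiagonal_apply_eq, hpol]
    · rw [Matrix.blockDiagonal_apply_ne _ _ _ hij]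
      exact hD.decomp.orthogonal i j hij _ (ψ i (b₀ l)).2 _ (ψ j (b₀ m)).2
  have hdet : (LinearMap.BilinForm.toMatrix b (polarBilin Q)).det = G₀.det ^ (4 * s) := by
    rw [hG, Matrix.det_blockDiagonal, Finset.prod_const, Finset.card_univ, Fintype.card_fin]
  -- the dimension
  have hdim : finrank F (ι → F) = 2 * (2 * s * k) := by
    rw [Module.finrank_eq_card_basis b, Fintype.card_prod, Fintype.card_fin, Fintype.card_fin]
    ring
  have hsymm : LinearMap.BilinForm.IsSymm (polarBilin Q) := by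
    refine ⟨fun x y => ?_⟩
    rw [polarBilin_apply_apply, polarBilin_apply_apply, polar_comm]
  obtain ⟨X, hXdim, hX⟩ := Cfsg.Agent.Lib.Helper25.DiscType.exists_isotropic_of_isSquare h2 b
    (polarBilin Q) hsymm hQ (2 * s * k) hdim (by
      rw [hdet]
      have h1 : ((-1 : F)) ^ (2 * s * k) = 1 := by
        rw [mul_assoc, pow_mul, neg_one_sq, one_pow]
      rw [h1, one_mul]
      exact ⟨G₀.det ^ (2 * s), by rw [← pow_add]; congr 1; ring⟩)
  refine ⟨X, le_top, ?_, ?_⟩
  · intro x hx
    have h1 := hX x hx x hx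
    rw [polarBilin_apply_apply, polar_self, two_nsmul, ← two_mul] at h1
    exact (mul_eq_zero.mp h1).resolve_left h2
  · rw [hXdim, finrank_top, hdim]

end generic

end Cfsg.Agent.Lib.Helper19.OELeaf
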