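import Mathlib
import Cfsg.Prelude.Def_GeometricClasses
import Cfsg.Agent.Lib.Lead.OEQF
import Cfsg.Agent.Lib.Helper9.PlusPlane
import Cfsg.Agent.Lib.Helper9.FrameF3
import Cfsg.Agent.Lib.Helper25.OmegaNonMax
import Cfsg.Agent.Lib.Helper18.OAschTR
import Cfsg.Agent.Lib.Helper1.OmMN13
import Cfsg.Agent.Lib.Helper25.SpinForms
import Cfsg.Agent.Lib.Helper5.DecompNM2
import Cfsg.Agent.Lib.Helper25.DiscType
import Cfsg.Agent.Lib.Helper19.OEE

/-!
helper19: OMEGA-EVEN rows4 market (lead), leaf R9 `plus_iff_of_dec_odd`: an orthogonal decomposition into `t` isometric members of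
odd dimension `k`, `t ≡ 2 mod 4`: plus type iff `q ≡ 1 mod 4` (discriminant argument on the collected basis).
By-products: `plus_iff_isSquare` (plus type of `⊤` iff `(-1)^N disc` is a square, `q` odd, any basis).
-/

set_option autoImplicit false
set_option linter.unusedSectionVars false
set_option linter.unusedVariables false

namespace Cfsg.Agent.Lib.Helper19.OELeaf

open Cfsg Cfsg.Geo Matrix Module QuadraticMap Cfsg.Agent.Lib.Lead.OE
open scoped Kronecker

section generic
variable {ι : Type} [Fintype ι] [DecidableEq ι] {F : Type*} [Field F] [Fintype F]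
  (Q : QuadraticForm F (ι → F))

/-- `q` odd: `⊤` is of plus type iff `(-1)^N disc` is a square (`dim = 2 N`, Gram determinant in any basis) -/
theorem plus_iff_isSquare (hQ : (polarBilin Q).Nondegenerate) (h2 : (2 : F) ≠ 0) {κ : Type*} [Fintype κ] [DecidableEq κ]
    (b : Basis κ F (ι → F)) (N : ℕ) (hdim : finrank F (ι → F) = 2 * N) :
    IsPlusTypeOn ⇑Q ⊤ ↔ IsSquare ((-1 : F) ^ N * (LinearMap.BilinForm.toMatrix b (polarBilin Q)).det) := by
  have hsymm : LinearMap.BilinForm.IsSymm (polarBilin Q) := by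
    refine ⟨fun x y => ?_⟩
    rw [polarBilin_apply_apply, polarBilin_apply_apply, polar_comm]
  constructor
  · rintro ⟨X, -, hX, hXdim⟩
    rw [finrank_top, hdim] at hXdim
    refine Cfsg.Agent.Lib.Helper25.DiscType.isSquare_of_isotropic b (polarBilin Q) hsymm N hdim X (by omega) ?_
    intro x hx y hy
    rw [polarBilin_apply_apply]
    unfold polar
    rw [hX x hx, hX y hy, hX (x + y) (X.add_mem hx hy)]
    ring
  · intro hsq
    obtain ⟨X, hXdim, hX⟩ := Cfsg.Agent.Lib.Helper25.DiscType.exists_isotropic_of_isSquare h2 b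
      (polarBilin Q) hsymm hQ N hdim hsq
    refine ⟨X, le_top, ?_, ?_⟩
    · intro x hx
      have h1 := hX x hx x hx
      rw [polarBilin_apply_apply, polar_self, two_nsmul, ← two_mul] at h1
      exact (mul_eq_zero.mp h1).resolve_left h2
    · rw [hXdim, finrank_top, hdim]

/-- `q` odd: `-s²` (`s ≠ 0`) is a square iff `q ≡ 1 mod 4` -/
lemma isSquare_neg_sq_iff (h2 : (2 : F) ≠ 0) {s : F} (hs : s ≠ 0) :
    IsSquare (-(s * s)) ↔ Fintype.card F % 4 = 1 := by
  have hodd : Fintype.card F % 2 = 1 := by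
    have := FiniteField.odd_card_of_char_ne_two (F := F) (by
      intro h
      apply h2
      have : ((2 : ℕ) : F) = 0 := by rw [← h]; exact CharP.cast_eq_zero F (ringChar F)
      exact_mod_cast this)
    exact this
  have h1 : IsSquare (-(s * s)) ↔ IsSquare (-1 : F) := by
    constructor
    · rintro ⟨r, hr⟩
      refine ⟨r / s, ?_⟩
      field_simp
      linear_combination hr
    · rintro ⟨r, hr⟩
      refine ⟨r * s, ?_⟩
      linear_combination (s * s) * hr
  rw [h1, FiniteField.isSquare_neg_one_iff]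
  omega

/-- R9. -/
theorem plus_iff_of_dec_odd (hQ : (polarBilin Q).Nondegenerate) {t k : ℕ} {D : Fin t → Submodule F (ι → F)}
    (hD : IsOrthogonalMDecomposition ⇑Q k D) (hk : Odd k) (ht : t % 4 = 2) :
    IsPlusTypeOn ⇑Q ⊤ ↔ Fintype.card F % 4 = 1 := by
  classical
  obtain ⟨s, rfl⟩ : ∃ s, t = 4 * s + 2 := ⟨t / 4, by omega⟩
  have hdec := hD.decomp.decomp
  let i₀ : Fin (4 * s + 2) := ⟨0, by omega⟩
  -- odd characteristic
  have h2 : (2 : F) ≠ 0 := by
    intro h2
    have := even_finrank_of_nd Q h2 (hD.decomp.nondegenerate i₀)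
    rw [hdec.finrank_eq] at this
    exact (Nat.not_even_iff_odd.2 hk) this
  -- the direct sum
  have hInt : DirectSum.IsInternal D :=
    DirectSum.isInternal_submodule_of_iSupIndep_of_iSup_eq_top hdec.indep hdec.iSup_eq_top
  -- bases
  let b₀ : Basis (Fin k) F (D i₀) := Module.finBasisOfFinrankEq F (D i₀) (hdec.finrank_eq i₀)
  choose ψ hψ using fun i => hD.isometric i₀ i
  let bs : ∀ i, Basis (Fin k) F (D i) := fun i => b₀.map (ψ i)
  let e : (Σ _ : Fin (4 * s + 2), Fin k) ≃ Fin k × Fin (4 * s + 2) :=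
    (Equiv.sigmaEquivProd _ _).trans (Equiv.prodComm _ _)
  let b : Basis (Fin k × Fin (4 * s + 2)) F (ι → F) := (hInt.collectedBasis bs).reindex e
  have hb : ∀ (i : Fin (4 * s + 2)) (l : Fin k), b (l, i) = ((ψ i (b₀ l) : D i) : ι → F) := by
    intro i l
    have h1 : b (l, i) = hInt.collectedBasis bs ⟨i, l⟩ := by
      simp only [b, Basis.reindex_apply]
      rfl
    have := congrFun (hInt.collectedBasis_coe bs) ⟨i, l⟩
    rw [h1, this]
    simp only [bs, Basis.map_apply]
  -- isometries preserve the polar form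
  have hpol : ∀ (i : Fin (4 * s + 2)) (x y : D i₀),
      polar ⇑Q ((ψ i x : D i) : ι → F) ((ψ i y : D i) : ι → F) = polar ⇑Q (x : ι → F) (y : ι → F) := by
    intro i x y
    unfold polar
    have e : ((ψ i x : D i) : ι → F) + ((ψ i y : D i) : ι → F) = ((ψ i (x + y) : D i) : ι → F) := by
      rw [map_add]; rfl
    rw [e, hψ i, hψ i, hψ i]
    rfl
  -- the Gram matrix
  let G₀ : Matrix (Fin k) (Fin k) F := fun l m => polar ⇑Q (b₀ l : ι → F) (b₀ m : ι → F)
  have hG : LinearMap.BilinForm.toMatrix b (polarBilin Q) =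
      Matrix.blockDiagonal (fun _ : Fin (4 * s + 2) => G₀) := by
    ext ⟨l, i⟩ ⟨m, j⟩
    rw [LinearMap.BilinForm.toMatrix_apply, polarBilin_apply_apply, hb, hb]
    by_cases hij : i = j
    · subst hij
      rw [Matrix.blockDiagonal_apply_eq, hpol]
    · rw [Matrix.blockDiagonal_apply_ne _ _ _ hij]
      exact hD.decomp.orthogonal i j hij _ (ψ i (b₀ l)).2 _ (ψ j (b₀ m)).2
  have hdet : (LinearMap.BilinForm.toMatrix b (polarBilin Q)).det = G₀.det ^ (4 * s + 2) := by
    rw [hG, Matrix.det_blockDiagonal, Finset.prod_const, Finset.card_univ, Fintype.card_fin]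
  -- the Gram determinant is not zero
  have hdet0 : G₀.det ≠ 0 := by
    intro h0
    have h1 := (LinearMap.BilinForm.nondegenerate_iff_det_ne_zero b).mp hQ
    apply h1
    rw [hdet, h0, zero_pow (by omega)]
  -- the dimension
  have hdim : finrank F (ι → F) = 2 * ((2 * s + 1) * k) := by
    rw [Module.finrank_eq_card_basis b, Fintype.card_prod, Fintype.card_fin, Fintype.card_fin]
    ring
  rw [plus_iff_isSquare Q hQ h2 b ((2 * s + 1) * k) hdim, hdet]
  have hoddN : Odd ((2 * s + 1) * k) := Odd.mul ⟨s, rfl⟩ hk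
  rw [hoddN.neg_one_pow]
  have hs0 : G₀.det ^ (2 * s + 1) ≠ 0 := pow_ne_zero _ hdet0
  rw [← isSquare_neg_sq_iff h2 hs0]
  have : (-1 : F) * G₀.det ^ (4 * s + 2) = -(G₀.det ^ (2 * s + 1) * G₀.det ^ (2 * s + 1)) := by
    rw [← pow_add]
    have : 2 * s + 1 + (2 * s + 1) = 4 * s + 2 := by ring
    rw [this]; ring
  rw [this]

end generic

end Cfsg.Agent.Lib.Helper19.OELeaf
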