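import Mathlib
import Cfsg.Prelude.Def_GeometricClasses
import Cfsg.Agent.Lib.Lead.OEQF
import Cfsg.Agent.Lib.Helper9.PlusPlane
import Cfsg.Agent.Lib.Helper9.FrameF3
import Cfsg.Agent.Lib.Helper25.OmegaNonMax
import Cfsg.Agent.Lib.Helper18.OAschTR
import Cfsg.Agent.Lib.Helper1.OmMN13
import Cfsg.Agent.Lib.Helper25.SpinForms
import Cfsg.Agent.Lib.Helper5.DecompNM2
import Cfsg.Agent.Lib.Helper25.DiscType
import Cfsg.Agent.Lib.Helper19.OEE
import Cfsg.Agent.Lib.Helper19.OER9

/-!
helper19: OMEGA-EVEN rows4 market (lead), leaf R8 `plus_iff_of_noniso_halves`: two orthogonal NON-isometric non-degenerate halves of odd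
dimension `k`: plus type iff `q ≡ 3 mod 4` (the product of the two discriminants is a non-square, `Helper25.DiscType.exists_isometry_of_disc`).
By-product: `isSquare_neg_iff_of_not_isSquare`.
-/

set_option autoImplicit false
set_option linter.unusedSectionVars false
set_option linter.unusedVariables false

namespace Cfsg.Agent.Lib.Helper19.OELeaf

open Cfsg Cfsg.Geo Matrix Module QuadraticMap Cfsg.Agent.Lib.Lead.OE
open scoped Kronecker

section generic
variable {ι : Type} [Fintype ι] [DecidableEq ι] {F : Type*} [Field F] [Fintype F]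
  (Q : QuadraticForm F (ι → F))

/-- `a` a non-square: `-a` is a square iff `q ≡ 3 mod 4` -/
lemma isSquare_neg_iff_of_not_isSquare {a : F} (ha : ¬ IsSquare a) :
    IsSquare (-a) ↔ Fintype.card F % 4 = 3 := by
  classical
  have ha0 : a ≠ 0 := by
    rintro rfl
    exact ha ⟨0, by simp⟩
  have hna0 : -a ≠ 0 := neg_ne_zero.mpr ha0
  have h1 : quadraticChar F a = -1 := quadraticChar_neg_one_iff_not_isSquare.mpr ha
  have h2 : quadraticChar F (-a) = quadraticChar F (-1) * quadraticChar F a := by
    rw [← map_mul]; congr 1; ring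
  rw [← quadraticChar_one_iff_isSquare hna0, h2, h1]
  have h3 : (quadraticChar F (-1) * -1 = 1) ↔ quadraticChar F (-1) = -1 := by
    constructor
    · intro h; linarith
    · intro h; rw [h]; norm_num
  rw [h3, quadraticChar_neg_one_iff_not_isSquare, FiniteField.isSquare_neg_one_iff]
  omega

/-- R8. -/
theorem plus_iff_of_noniso_halves (hQ : (polarBilin Q).Nondegenerate) {k : ℕ} {D : Fin 2 → Submodule F (ι → F)}
    (hD : IsNondegenerateMDecomposition (polar ⇑Q) k D) (hk : Odd k)
    (hni : ¬ AreIsometricFor ⇑Q (D 0) (D 1)) :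
    IsPlusTypeOn ⇑Q ⊤ ↔ Fintype.card F % 4 = 3 := by
  classical
  have hdec := hD.decomp
  -- odd characteristic
  have h2 : (2 : F) ≠ 0 := by
    intro h2
    have := even_finrank_of_nd Q h2 (hD.nondegenerate 0)
    rw [hdec.finrank_eq] at this
    exact (Nat.not_even_iff_odd.2 hk) this
  -- the direct sum
  have hInt : DirectSum.IsInternal D :=
    DirectSum.isInternal_submodule_of_iSupIndep_of_iSup_eq_top hdec.indep hdec.iSup_eq_top
  -- bases
  let bs : ∀ i, Basis (Fin k) F (D i) := fun i => Module.finBasisOfFinrankEq F (D i) (hdec.finrank_eq i)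
  let e : (Σ _ : Fin 2, Fin k) ≃ Fin k × Fin 2 :=
    (Equiv.sigmaEquivProd _ _).trans (Equiv.prodComm _ _)
  let b : Basis (Fin k × Fin 2) F (ι → F) := (hInt.collectedBasis bs).reindex e
  have hb : ∀ (i : Fin 2) (l : Fin k), b (l, i) = ((bs i l : D i) : ι → F) := by
    intro i l
    have h1 : b (l, i) = hInt.collectedBasis bs ⟨i, l⟩ := by
      simp only [b, Basis.reindex_apply]
      rfl
    have := congrFun (hInt.collectedBasis_coe bs) ⟨i, l⟩
    rw [h1, this]
  -- the Gram matrix
  let G : Fin 2 → Matrix (Fin k) (Fin k) F := fun i l m => polar ⇑Q (bs i l : ι → F) (bs i m : ι → F)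
  have hG : LinearMap.BilinForm.toMatrix b (polarBilin Q) = Matrix.blockDiagonal G := by
    ext ⟨l, i⟩ ⟨m, j⟩
    rw [LinearMap.BilinForm.toMatrix_apply, polarBilin_apply_apply, hb, hb]
    by_cases hij : i = j
    · subst hij
      rw [Matrix.blockDiagonal_apply_eq]
    · rw [Matrix.blockDiagonal_apply_ne _ _ _ hij]
      exact hD.orthogonal i j hij _ (bs i l).2 _ (bs j m).2
  have hdet : (LinearMap.BilinForm.toMatrix b (polarBilin Q)).det = (G 0).det * (G 1).det := by
    rw [hG, Matrix.det_blockDiagonal, Fin.prod_univ_two]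
  have hdet0 : (G 0).det * (G 1).det ≠ 0 := by
    rw [← hdet]
    exact (LinearMap.BilinForm.nondegenerate_iff_det_ne_zero b).mp hQ
  -- the dimension
  have hdim : finrank F (ι → F) = 2 * k := by
    rw [Module.finrank_eq_card_basis b, Fintype.card_prod, Fintype.card_fin, Fintype.card_fin]
    ring
  rw [plus_iff_isSquare Q hQ h2 b k hdim, hdet, hk.neg_one_pow, neg_one_mul]
  apply isSquare_neg_iff_of_not_isSquare
  -- the product of the discriminants is not a square
  intro hsq
  apply hni
  let B : ∀ i, LinearMap.BilinForm F (D i) := fun i => LinearMap.BilinForm.restrict (polarBilin Q) (D i)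
  have hBa : ∀ i (x y : D i), B i x y = polar ⇑Q (x : ι → F) (y : ι → F) := fun i x y => rfl
  have hBm : ∀ i, LinearMap.BilinForm.toMatrix (bs i) (B i) = G i := by
    intro i
    ext l m
    rw [LinearMap.BilinForm.toMatrix_apply, hBa]
  have hBs : ∀ i, (B i).IsSymm := by
    intro i
    refine ⟨fun x y => ?_⟩
    rw [hBa, hBa, polar_comm]
  have hBn : ∀ i, (B i).Nondegenerate := by
    intro i
    rw [LinearMap.BilinForm.nondegenerate_iff_det_ne_zero (bs i), hBm]
    fin_cases i
    · exact left_ne_zero_of_mul hdet0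
    · exact right_ne_zero_of_mul hdet0
  obtain ⟨g, hg⟩ := Cfsg.Agent.Lib.Helper25.DiscType.exists_isometry_of_disc h2 (bs 0) (bs 1) (B 0) (B 1)
    (hBs 0) (hBs 1) (hBn 0) (hBn 1) (by rw [hBm, hBm]; exact hsq)
  refine ⟨g, fun w => ?_⟩
  have h1 := hg w w
  rw [hBa, hBa, polar_self, polar_self, two_nsmul, two_nsmul, ← two_mul, ← two_mul] at h1
  exact mul_left_cancel₀ h2 h1

end generic

end Cfsg.Agent.Lib.Helper19.OELeaf
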