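/-
helper19: S2344 leaf (ST2) `sho_fix_Wd` (planner helper26), CORE version with the Heisenberg-Schur
leaf (HS) `exists_scalar_of_comm` (instantiated at the weight `Wd a b δ`, `(i, j) = (a, b)`) as an
explicit hypothesis: a short root element `sho c`, `c` off `a, b`, fixes `M_δ = wt (Wd a b δ)`
pointwise when `dim M_δ ≤ q`.
[`ρ (sho (t' e_i))` commutes with `sho (F e_a)`, `sho (F e_b)` on `M_δ` (Heisenberg relation; the
radical part acts trivially on `M_δ`), so it is a scalar `μ` there (HS); its conjugate under the torus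
`tor i s` (which stabilises `M_δ`) is `sho (s² t' e_i)`, acting by the same scalar; hence
`sho ((s² - 1) t' e_i)` fixes `M_δ`; additivity gives all `c`.]
-/
import Cfsg.Agent.Lib.Helper26.OOMinDefs
import Cfsg.Agent.Lib.Helper26.OOMinStageDefs
import Cfsg.Agent.Lib.Helper5.OPMinS2
import Cfsg.Agent.Lib.Helper16.OPMinS1
import Cfsg.Agent.Lib.Helper16.OPMinS3

set_option autoImplicit false
set_option linter.unusedSectionVars false

namespace Cfsg.Agent.Lib.Helper19.OOMin

open Matrix Module Cfsg.Agent.Lib.Helper27.OPMin Cfsg.Agent.Lib.Helper16.SLMin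
  Cfsg.Agent.Lib.Helper26.OOMin

section generic

variable {G : Type*} [Group G] {M : Type*} [AddCommGroup M] [Module ℂ M]

/-- if `A` and `B` act on `W` by the same scalar and `C A` acts as `B`, then `C` fixes `W`. -/
theorem fix_of_scalar (ρ : Representation ℂ G M) (W : Submodule ℂ M) (A B C : G) (μ : ℂ)
    (hA : ∀ m ∈ W, ρ A m = μ • m) (hB : ∀ m ∈ W, ρ B m = μ • m)
    (hC : ∀ m ∈ W, ρ C (ρ A m) = ρ B m) : ∀ m ∈ W, ρ C m = m := by
  intro m hm
  by_cases hμ : μ = 0
  · have h1 : ρ A m = 0 := by rw [hA m hm, hμ, zero_smul]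
    have h2 : m = 0 := by
      have := congrArg (ρ A⁻¹) h1
      rw [← Module.End.mul_apply, ← map_mul, inv_mul_cancel, map_one, Module.End.one_apply,
        map_zero] at this
      exact this
    rw [h2, map_zero]
  · have h1 := hC m hm
    rw [hA m hm, hB m hm, map_smul] at h1
    exact smul_right_injective M hμ h1

/-- a conjugate by an element stabilising `W` acts by the same scalar. -/
theorem conj_scalar (ρ : Representation ℂ G M) (W : Submodule ℂ M) (t A : G) (μ : ℂ)
    (ht : Submodule.map (ρ t) W = W) (hA : ∀ m ∈ W, ρ A m = μ • m) :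
    ∀ m ∈ W, ρ (t * A * t⁻¹) m = μ • m := by
  intro m hm
  rw [← ht] at hm
  obtain ⟨m', hm', rfl⟩ := hm
  rw [map_mul, map_mul, Module.End.mul_apply, Module.End.mul_apply,
    ← Module.End.mul_apply (ρ t⁻¹), ← map_mul, inv_mul_cancel, map_one, Module.End.one_apply,
    hA m' hm', map_smul]

end generic

section mat

variable {F : Type*} [Field F] {n : ℕ}

/-- the torus `dsq i s`, `i ∉ {a, b}`, stabilises the weight `δ (E_ab - E_ba)`. -/
theorem toM_Wd_dsq (a b i : Fin n) (hia : i ≠ a) (hib : i ≠ b) (s : Fˣ) (δ : F) :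
    toM (Wd a b δ) = dsq i s * toM (Wd a b δ) * dsq i s := by
  ext x y
  unfold dsq
  rw [Matrix.mul_diagonal, Matrix.diagonal_mul, toM_apply, Cfsg.Agent.Lib.Helper16.OPMin.Wd_apply]
  simp only [Matrix.sub_apply, Matrix.single_apply]
  by_cases hx : x = i <;> by_cases hy : y = i <;>
    simp [hx, hy, hia, hib, hia.symm, hib.symm]

theorem Wd_apply_ab (a b : Fin n) (hab : a ≠ b) (δ : F) : Wd a b δ (a, b) = δ := by
  rw [Cfsg.Agent.Lib.Helper16.OPMin.Wd_apply]
  simp [Matrix.single_apply, hab, hab.symm]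

end mat

section ST

variable {F : Type*} [Field F] [Fintype F] [DecidableEq F] {n : ℕ} {H : Type*} [Group H]
  {M : Type*} [AddCommGroup M] [Module ℂ M] [FiniteDimensional ℂ M]
  (D : SiegelB F n H) (ρ : Representation ℂ H M)

/-- `rad R` acts on `M_δ` by the scalar `eps (δ (R a b - R b a))`. -/
theorem rad_apply_Wd (a b : Fin n) (δ : F) (R : Matrix (Fin n) (Fin n) F) (m : M)
    (hm : m ∈ wt ρ D.toSiegel.radv (Wd a b δ)) :
    ρ (D.rad R) m = (eps F (δ * (R a b - R b a)) : ℂ) • m := by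
  have h := hm (ofM R)
  rw [Cfsg.Agent.Lib.Helper16.OPMin.Wd_dotProduct] at h
  exact h

/-- the short root elements stabilise every weight space of the centre of the radical. -/
theorem sho_mem_wt (v : Fin n × Fin n → F) (c : Fin n → F) (m : M)
    (hm : m ∈ wt ρ D.toSiegel.radv v) : ρ (D.sho c) m ∈ wt ρ D.toSiegel.radv v := by
  intro r
  have hc : D.toSiegel.radv r * D.sho c = D.sho c * D.toSiegel.radv r := D.rad_sho (toM r) c
  rw [← Module.End.mul_apply, ← map_mul, hc, map_mul, Module.End.mul_apply, hm r, map_smul]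

/-- the Heisenberg relation on `M_δ`. -/
theorem sho_sho_apply_Wd (a b : Fin n) (δ : F) (c c' : Fin n → F) (m : M)
    (hm : m ∈ wt ρ D.toSiegel.radv (Wd a b δ)) :
    ρ (D.sho c) (ρ (D.sho c') m) =
      (eps F (δ * (c' a * c b - c' b * c a)) : ℂ) • ρ (D.sho (c + c')) m := by
  rw [← Module.End.mul_apply, ← map_mul, D.sho_mul, map_mul, Module.End.mul_apply,
    rad_apply_Wd D ρ a b δ _ m hm, map_smul, vecMulVec_apply, vecMulVec_apply]

/-- `sho c`, `c` off `a, b`, commutes with every `sho c'` on `M_δ`. -/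
theorem sho_comm_Wd (a b : Fin n) (δ : F) (c c' : Fin n → F) (hca : c a = 0) (hcb : c b = 0)
    (m : M) (hm : m ∈ wt ρ D.toSiegel.radv (Wd a b δ)) :
    ρ (D.sho c) (ρ (D.sho c') m) = ρ (D.sho c') (ρ (D.sho c) m) := by
  rw [sho_sho_apply_Wd D ρ a b δ c c' m hm, sho_sho_apply_Wd D ρ a b δ c' c m hm, hca, hcb,
    add_comm c c']
  simp

/-- (ST2), one coordinate. -/
theorem sho_single_fix_Wd_of (hq : 3 < Fintype.card F) (a b : Fin n) (δ : F)
    (hHS : ∀ T : M →ₗ[ℂ] M,
      (∀ m ∈ wt ρ D.toSiegel.radv (Wd a b δ), T m ∈ wt ρ D.toSiegel.radv (Wd a b δ)) →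
      (∀ s : F, ∀ m ∈ wt ρ D.toSiegel.radv (Wd a b δ),
        T (ρ (D.sho (Pi.single a s)) m) = ρ (D.sho (Pi.single a s)) (T m)) →
      (∀ s : F, ∀ m ∈ wt ρ D.toSiegel.radv (Wd a b δ),
        T (ρ (D.sho (Pi.single b s)) m) = ρ (D.sho (Pi.single b s)) (T m)) →
      ∃ μ : ℂ, ∀ m ∈ wt ρ D.toSiegel.radv (Wd a b δ), T m = μ • m)
    (i : Fin n) (hia : i ≠ a) (hib : i ≠ b) (t : F) :
    ∀ m ∈ wt ρ D.toSiegel.radv (Wd a b δ), ρ (D.sho (Pi.single i t)) m = m := by
  obtain ⟨s, hs0, hs2⟩ := Cfsg.Agent.Lib.Helper16.OPMin.exists_sq_ne_one (F := F) hq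
  have hs21 : s ^ 2 - 1 ≠ 0 := sub_ne_zero.mpr hs2
  set t' : F := t / (s ^ 2 - 1) with ht'
  have hsa : (Pi.single i t' : Fin n → F) a = 0 := by simp [hia.symm]
  have hsb : (Pi.single i t' : Fin n → F) b = 0 := by simp [hib.symm]
  obtain ⟨μ, hμ⟩ := hHS (ρ (D.sho (Pi.single i t')))
    (fun m hm => sho_mem_wt D ρ _ _ m hm)
    (fun s' m hm => sho_comm_Wd D ρ a b δ _ _ hsa hsb m hm)
    (fun s' m hm => sho_comm_Wd D ρ a b δ _ _ hsa hsb m hm)
  have htor : Submodule.map (ρ (D.tor i (Units.mk0 s hs0))) (wt ρ D.toSiegel.radv (Wd a b δ)) =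
      wt ρ D.toSiegel.radv (Wd a b δ) :=
    Cfsg.Agent.Lib.Helper24.OPMin.map_wt_tor D.toSiegel ρ i (Units.mk0 s hs0) _ _
      (toM_Wd_dsq a b i hia hib (Units.mk0 s hs0) δ)
  have hB := conj_scalar ρ _ (D.tor i (Units.mk0 s hs0)) (D.sho (Pi.single i t')) μ htor hμ
  rw [D.tor_sho] at hB
  have hvec : dsq i (Units.mk0 s hs0) *ᵥ (Pi.single i t' : Fin n → F) =
      Pi.single i t + Pi.single i t' := by
    unfold dsq
    rw [Matrix.diagonal_mulVec_single, ← Pi.single_add]
    congr 1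
    simp only [if_true, Units.val_mk0]
    rw [ht']
    field_simp
    ring
  rw [hvec] at hB
  refine fix_of_scalar ρ _ (D.sho (Pi.single i t')) (D.sho (Pi.single i t + Pi.single i t'))
    (D.sho (Pi.single i t)) μ hμ hB ?_
  intro m hm
  rw [sho_sho_apply_Wd D ρ a b δ _ _ m hm, hsa, hsb]
  simp

/-- (ST2) from (HS). -/
theorem sho_fix_Wd_of (hq : 3 < Fintype.card F) (a b : Fin n) (δ : F)
    (hHS : ∀ T : M →ₗ[ℂ] M,
      (∀ m ∈ wt ρ D.toSiegel.radv (Wd a b δ), T m ∈ wt ρ D.toSiegel.radv (Wd a b δ)) →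
      (∀ s : F, ∀ m ∈ wt ρ D.toSiegel.radv (Wd a b δ),
        T (ρ (D.sho (Pi.single a s)) m) = ρ (D.sho (Pi.single a s)) (T m)) →
      (∀ s : F, ∀ m ∈ wt ρ D.toSiegel.radv (Wd a b δ),
        T (ρ (D.sho (Pi.single b s)) m) = ρ (D.sho (Pi.single b s)) (T m)) →
      ∃ μ : ℂ, ∀ m ∈ wt ρ D.toSiegel.radv (Wd a b δ), T m = μ • m)
    (c : Fin n → F) (hca : c a = 0) (hcb : c b = 0) :
    ∀ m ∈ wt ρ D.toSiegel.radv (Wd a b δ), ρ (D.sho c) m = m := by
  classical
  have key : ∀ S : Finset (Fin n),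
      (∑ i ∈ S, (Pi.single i (c i) : Fin n → F)) a = 0 ∧
      (∑ i ∈ S, (Pi.single i (c i) : Fin n → F)) b = 0 ∧
      ∀ m ∈ wt ρ D.toSiegel.radv (Wd a b δ),
        ρ (D.sho (∑ i ∈ S, (Pi.single i (c i) : Fin n → F))) m = m := by
    intro S
    induction S using Finset.induction_on with
    | empty =>
      refine ⟨by simp, by simp, ?_⟩
      intro m _
      rw [Finset.sum_empty, D.sho_zero, map_one, Module.End.one_apply]
    | insert i S hi ih =>
      obtain ⟨h1, h2, h3⟩ := ih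
      have hia0 : (Pi.single i (c i) : Fin n → F) a = 0 := by
        by_cases h : a = i
        · subst h; simp [hca]
        · simp [h]
      have hib0 : (Pi.single i (c i) : Fin n → F) b = 0 := by
        by_cases h : b = i
        · subst h; simp [hcb]
        · simp [h]
      refine ⟨?_, ?_, ?_⟩
      · rw [Finset.sum_insert hi, Pi.add_apply, hia0, h1, add_zero]
      · rw [Finset.sum_insert hi, Pi.add_apply, hib0, h2, add_zero]
      · intro m hm
        have hfix1 : ρ (D.sho (Pi.single i (c i))) m = m := by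
          by_cases h : i = a
          · subst h
            rw [hca, Pi.single_zero, D.sho_zero, map_one, Module.End.one_apply]
          · by_cases h' : i = b
            · subst h'
              rw [hcb, Pi.single_zero, D.sho_zero, map_one, Module.End.one_apply]
            · exact sho_single_fix_Wd_of D ρ hq a b δ hHS i h h' (c i) m hm
        have h4 := sho_sho_apply_Wd D ρ a b δ (Pi.single i (c i))
          (∑ j ∈ S, (Pi.single j (c j) : Fin n → F)) m hm
        rw [h3 m hm, hfix1, hia0, hib0] at h4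
        rw [Finset.sum_insert hi]
        simpa using h4.symm
  have hsum : ∑ i, (Pi.single i (c i) : Fin n → F) = c := Finset.univ_sum_single c
  have := (key Finset.univ).2.2
  rwa [hsum] at this

end ST

end Cfsg.Agent.Lib.Helper19.OOMin
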