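/-
helper19: S2344 leaf (ST2) `sho_fix_Wd` (planner helper26), exact name + binders:
wrapper of `OOMinST2Core.sho_fix_Wd_of` on helper14's (HS) `exists_scalar_of_comm`.
-/
import Cfsg.Agent.Lib.Helper19.OOMinST2Core
import Cfsg.Agent.Lib.Helper14.OOMinHS

set_option autoImplicit false
set_option linter.unusedSectionVars false

namespace Cfsg.Agent.Lib.Helper19.OOMin

open Matrix Module Cfsg.Agent.Lib.Helper27.OPMin Cfsg.Agent.Lib.Helper16.SLMin
  Cfsg.Agent.Lib.Helper26.OOMin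

section ST

variable {F : Type*} [Field F] [Fintype F] [DecidableEq F] {n : ℕ} {H : Type*} [Group H]
  {M : Type*} [AddCommGroup M] [Module ℂ M] [FiniteDimensional ℂ M]
  (D : SiegelB F n H) (ρ : Representation ℂ H M)

/-- the (HS) hypothesis of the core lemmas, from helper14's leaf. -/
theorem hs_Wd (hchar : (2 : F) ≠ 0) (a b : Fin n) (hab : a ≠ b) (δ : F) (hδ : δ ≠ 0)
    (hmq : finrank ℂ ↥(wt ρ D.toSiegel.radv (Wd a b δ)) ≤ Fintype.card F) :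
    ∀ T : M →ₗ[ℂ] M,
      (∀ m ∈ wt ρ D.toSiegel.radv (Wd a b δ), T m ∈ wt ρ D.toSiegel.radv (Wd a b δ)) →
      (∀ s : F, ∀ m ∈ wt ρ D.toSiegel.radv (Wd a b δ),
        T (ρ (D.sho (Pi.single a s)) m) = ρ (D.sho (Pi.single a s)) (T m)) →
      (∀ s : F, ∀ m ∈ wt ρ D.toSiegel.radv (Wd a b δ),
        T (ρ (D.sho (Pi.single b s)) m) = ρ (D.sho (Pi.single b s)) (T m)) →
      ∃ μ : ℂ, ∀ m ∈ wt ρ D.toSiegel.radv (Wd a b δ), T m = μ • m :=
  fun T hT hTa hTb =>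
    Cfsg.Agent.Lib.Helper14.OOMin.exists_scalar_of_comm D ρ hchar (Wd a b δ) a b
      (by rw [Wd_apply_ab a b hab δ]; exact hδ) hmq T hT hTa hTb

/-- ST2: `sho c`, `c` off `a, b`, fixes `M_δ` pointwise (scalar by HS; trivial by the torus `tor i s`,
`i ∉ {a,b}`, `s² ≠ 1`, which stabilises `M_δ` (WT) and scales `c_i` by `s²`). -/
theorem sho_fix_Wd (hq : 3 < Fintype.card F) (hchar : (2 : F) ≠ 0) (a b : Fin n) (hab : a ≠ b)
    (δ : F) (hδ : δ ≠ 0)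
    (hmq : finrank ℂ ↥(wt ρ D.toSiegel.radv (Wd a b δ)) ≤ Fintype.card F)
    (c : Fin n → F) (hca : c a = 0) (hcb : c b = 0) :
    ∀ m ∈ wt ρ D.toSiegel.radv (Wd a b δ), ρ (D.sho c) m = m :=
  sho_fix_Wd_of D ρ hq a b δ (hs_Wd D ρ hchar a b hab δ hδ hmq) c hca hcb

end ST

end Cfsg.Agent.Lib.Helper19.OOMin
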