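/-
helper19: S2344 leaf (ST3) `levi_transvection_fix_Wd_O` (planner helper26), exact name + binders:
`levi (transvection i j t)`, `i ∉ {a,b}`, `j ∈ {a,b}`, fixes `M_δ = wt (Wd a b δ)` pointwise when
`dim M_δ ≤ q`.
[It stabilises `M_δ` and commutes there with `sho (F e_a)`, `sho (F e_b)` (by `levi_sho`, the
Heisenberg relation and ST2), so it is a scalar by HS; the torus `levi (diag (s at a, s⁻¹ at b))`
stabilises `M_δ` and rescales the root group, so the scalar is `1`.]
-/
import Cfsg.Agent.Lib.Helper19.OOMinST2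

set_option autoImplicit false
set_option linter.unusedSectionVars false

namespace Cfsg.Agent.Lib.Helper19.OOMin

open Matrix Module Cfsg.Agent.Lib.Helper27.OPMin Cfsg.Agent.Lib.Helper16.SLMin
  Cfsg.Agent.Lib.Helper26.OOMin

section mat

variable {F : Type*} [Field F] {n : ℕ}

/-- a transvection `T_ij(t')` moves `s e_x` to `s e_x + u e_i`. -/
theorem transvection_mulVec_single {i j : Fin n} (hij : i ≠ j) (t' : F) (x : Fin n) (s : F) :
    ((SpecialLinearGroup.transvection hij t' : SpecialLinearGroup (Fin n) F) :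
        Matrix (Fin n) (Fin n) F) *ᵥ (Pi.single x s : Fin n → F) =
      Pi.single i (t' * (Pi.single x s : Fin n → F) j) + Pi.single x s := by
  rw [SpecialLinearGroup.transvection_coe, add_mulVec, one_mulVec, single_mulVec_eq, add_comm]
  congr 1
  funext k
  simp [Pi.single_apply]

/-- the torus `diag (s at a, s⁻¹ at b)` stabilises the weight `δ (E_ab - E_ba)`. -/
theorem toM_Wd_diag (a b : Fin n) (d : Fin n → F) (hd : d a * d b = 1) (δ : F) :
    toM (Wd a b δ) = (Matrix.diagonal d)ᵀ * toM (Wd a b δ) * Matrix.diagonal d := by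
  unfold Wd
  rw [toM_ofM, Matrix.mul_smul, Matrix.smul_mul,
    Cfsg.Agent.Lib.Helper16.OPMin.transpose_mul_wedge_mul,
    Cfsg.Agent.Lib.Helper16.OPMin.single_vecMul_diagonal',
    Cfsg.Agent.Lib.Helper16.OPMin.single_vecMul_diagonal',
    Cfsg.Agent.Lib.Helper16.OPMin.wedge_smul_smul _ _ _ _ hd]

end mat

section ST

variable {F : Type*} [Field F] [Fintype F] [DecidableEq F] {n : ℕ} {H : Type*} [Group H]
  {M : Type*} [AddCommGroup M] [Module ℂ M] [FiniteDimensional ℂ M]
  (D : SiegelB F n H) (ρ : Representation ℂ H M)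

/-- ST3: `levi (transvection i j t)`, `i ∉ {a,b}`, `j ∈ {a,b}`, fixes `M_δ` pointwise (it commutes with
`sho (F e_a)`, `sho (F e_b)` on `M_δ` by `levi_sho`, `sho_mul`, ST2: scalar by HS; trivial by the torus
`levi (diag (1 at i, s at a, s⁻¹ at b))`).  All `n ≥ 3`. -/
theorem levi_transvection_fix_Wd_O (hq : 3 < Fintype.card F) (hchar : (2 : F) ≠ 0)
    (a b i j : Fin n) (hab : a ≠ b) (hia : i ≠ a) (hib : i ≠ b) (hj : j = a ∨ j = b) (hij : i ≠ j)
    (t δ : F) (hδ : δ ≠ 0)
    (hmq : finrank ℂ ↥(wt ρ D.toSiegel.radv (Wd a b δ)) ≤ Fintype.card F) :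
    ∀ m ∈ wt ρ D.toSiegel.radv (Wd a b δ),
      ρ (D.levi (SpecialLinearGroup.transvection hij t)) m = m := by
  classical
  have hHS := hs_Wd D ρ hchar a b hab δ hδ hmq
  -- the root group stabilises `M_δ`
  have hstab : ∀ t' : F, ∀ m ∈ wt ρ D.toSiegel.radv (Wd a b δ),
      ρ (D.levi (SpecialLinearGroup.transvection hij t')) m ∈ wt ρ D.toSiegel.radv (Wd a b δ) := by
    intro t' m hm
    exact Cfsg.Agent.Lib.Helper16.OPMin.levi_mem_wt D.toSiegel ρ _ _
      (Cfsg.Agent.Lib.Helper5.OPMin.toM_Wd_conj a b i j hij hia hib t' δ).symm m hm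
  -- it commutes with the short root groups `sho (F e_x)` on `M_δ`
  have hcomm : ∀ (t' : F) (x : Fin n) (s : F), ∀ m ∈ wt ρ D.toSiegel.radv (Wd a b δ),
      ρ (D.levi (SpecialLinearGroup.transvection hij t')) (ρ (D.sho (Pi.single x s)) m) =
        ρ (D.sho (Pi.single x s)) (ρ (D.levi (SpecialLinearGroup.transvection hij t')) m) := by
    intro t' x s m hm
    have h1 : D.levi (SpecialLinearGroup.transvection hij t') * D.sho (Pi.single x s) =
        D.sho (((SpecialLinearGroup.transvection hij t' : SpecialLinearGroup (Fin n) F) :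
          Matrix (Fin n) (Fin n) F) *ᵥ (Pi.single x s : Fin n → F)) *
          D.levi (SpecialLinearGroup.transvection hij t') := by
      rw [← D.levi_sho, inv_mul_cancel_right]
    rw [← Module.End.mul_apply, ← map_mul, h1, map_mul, Module.End.mul_apply,
      transvection_mulVec_single]
    set m' := ρ (D.levi (SpecialLinearGroup.transvection hij t')) m with hm'
    have hm'W : m' ∈ wt ρ D.toSiegel.radv (Wd a b δ) := hstab t' m hm
    set u := t' * (Pi.single x s : Fin n → F) j with hu
    have hua : (Pi.single i u : Fin n → F) a = 0 := by simp [hia.symm]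
    have hub : (Pi.single i u : Fin n → F) b = 0 := by simp [hib.symm]
    have h2 := sho_sho_apply_Wd D ρ a b δ (Pi.single i u) (Pi.single x s) m' hm'W
    rw [hua, hub] at h2
    have h3 : ρ (D.sho (Pi.single i u + Pi.single x s)) m' =
        ρ (D.sho (Pi.single i u)) (ρ (D.sho (Pi.single x s)) m') := by
      rw [h2]; simp
    rw [h3]
    exact sho_fix_Wd D ρ hq hchar a b hab δ hδ hmq (Pi.single i u) hua hub _
      (sho_mem_wt D ρ _ _ m' hm'W)
  -- the torus
  obtain ⟨s, hs0, hs2⟩ := Cfsg.Agent.Lib.Helper16.OPMin.exists_sq_ne_one (F := F) hq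
  have hs1 : s ≠ 1 := fun h => hs2 (by rw [h, one_pow])
  have hsinv1 : s⁻¹ ≠ 1 := fun h => hs1 (inv_eq_one.mp h)
  set d : Fin n → F := Function.update (Function.update (fun _ : Fin n => (1 : F)) a s) b s⁻¹
    with hddef
  have hd : ∏ k, d k = 1 := by
    rw [hddef, Finset.prod_update_of_mem (Finset.mem_univ b),
      Finset.prod_update_of_mem (Finset.mem_sdiff.mpr ⟨Finset.mem_univ a, by
        rw [Finset.mem_singleton]; exact hab⟩)]
    rw [Finset.prod_const_one, mul_one, inv_mul_cancel₀ hs0]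
  have hda : d a = s := by
    rw [hddef, Function.update_of_ne hab, Function.update_self]
  have hdb : d b = s⁻¹ := by rw [hddef, Function.update_self]
  have hdi : d i = 1 := by
    rw [hddef, Function.update_of_ne hib, Function.update_of_ne hia]
  have hdj : d j ≠ 0 := by
    rcases hj with h | h
    · rw [h, hda]; exact hs0
    · rw [h, hdb]; exact inv_ne_zero hs0
  set c : F := d i * (d j)⁻¹ with hc
  have hc1 : c ≠ 1 := by
    rw [hc, hdi, one_mul]
    rcases hj with h | h
    · rw [h, hda]; exact hsinv1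
    · rw [h, hdb, inv_inv]; exact hs1
  have hc10 : c - 1 ≠ 0 := sub_ne_zero.mpr hc1
  have htor : Submodule.map (ρ (D.levi (Cfsg.Agent.Lib.Helper16.OPMin.dgSL d hd)))
      (wt ρ D.toSiegel.radv (Wd a b δ)) = wt ρ D.toSiegel.radv (Wd a b δ) :=
    Cfsg.Agent.Lib.Helper24.OPMin.map_wt_levi D.toSiegel ρ _ _ _
      (toM_Wd_diag a b d (by rw [hda, hdb, mul_inv_cancel₀ hs0]) δ)
  set t' : F := t / (c - 1) with ht'
  obtain ⟨μ, hμ⟩ := hHS (ρ (D.levi (SpecialLinearGroup.transvection hij t')))
    (hstab t') (fun s' m hm => hcomm t' a s' m hm) (fun s' m hm => hcomm t' b s' m hm)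
  have hB := conj_scalar ρ _ (D.levi (Cfsg.Agent.Lib.Helper16.OPMin.dgSL d hd))
    (D.levi (SpecialLinearGroup.transvection hij t')) μ htor hμ
  have hconj : D.levi (Cfsg.Agent.Lib.Helper16.OPMin.dgSL d hd) *
      D.levi (SpecialLinearGroup.transvection hij t') *
      (D.levi (Cfsg.Agent.Lib.Helper16.OPMin.dgSL d hd))⁻¹ =
      D.levi (SpecialLinearGroup.transvection hij (c * t')) := by
    rw [← map_mul, Cfsg.Agent.Lib.Helper16.OPMin.dgSL_mul_transvection, map_mul,
      mul_inv_cancel_right]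
  rw [hconj] at hB
  refine fix_of_scalar ρ _ (D.levi (SpecialLinearGroup.transvection hij t'))
    (D.levi (SpecialLinearGroup.transvection hij (c * t')))
    (D.levi (SpecialLinearGroup.transvection hij t)) μ hμ hB ?_
  intro m _
  rw [← Module.End.mul_apply, ← map_mul, ← map_mul, ← SpecialLinearGroup.transvection_add]
  have : t + t' = c * t' := by
    rw [ht']
    field_simp
    ring
  rw [this]

end ST

end Cfsg.Agent.Lib.Helper19.OOMin
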