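import Cfsg.Agent.Lib.Helper25.Siegel2
import Cfsg.Agent.Lib.Helper25.SpinGL
import Cfsg.Agent.Lib.Helper27.OPMinDefs

set_option autoImplicit false

/-!
# S2345, leaf CON2 (planner helper27): the Siegel radical generates `Ω⁺_{2n}(F)` as a normal subgroup

`Ω` is generated by the long root elements (helper25 `Siegel2.omega_eq_root'`); a long root element
`siegG u v c` with `u, v` independent is conjugated by `Ω` (helper25 `omega_trans_ts`) to one with
`u, v` in the standard totally singular subspace `E = {y = 0}`, and the Siegel matrix of such a pair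
`(a,0), (b,0)` is `radMat (c • vecMulVec b a)`; for dependent `u, v` the Siegel matrix is `1`.
-/

namespace Cfsg.Agent.Lib.Helper19.OPMin

open Matrix Module QuadraticMap Cfsg.Agent.Lib.Helper27.OPMin
open Cfsg.Agent.Lib.Helper25.Siegel Cfsg.Agent.Lib.Helper25.CD Cfsg.Agent.Lib.Helper25.MaxTS
open Cfsg.Agent.Lib.Helper25.Spin Cfsg.Agent.Lib.Helper25.Fam Cfsg.Agent.Lib.Helper14

variable {F : Type*} [Field F] {n : ℕ}

noncomputable abbrev QP (n : ℕ) (F : Type*) [Field F] : QuadraticForm F (Fin n ⊕ Fin n → F) :=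
  qfOf (isQF_plus (F := F) (m := n))

def inE (a : Fin n → F) : Fin n ⊕ Fin n → F := Sum.elim a (0 : Fin n → F)

theorem QP_inE (a : Fin n → F) : QP n F (inE a) = 0 := by
  show Cfsg.quadFormPlus n F (inE a) = 0
  unfold Cfsg.quadFormPlus inE
  simp

theorem inE_add (a b : Fin n → F) : inE (a + b) = inE a + inE b := by
  funext j
  rcases j with i | i <;> simp [inE]

theorem inE_smul (c : F) (a : Fin n → F) : inE (c • a) = c • inE a := by
  funext j
  rcases j with i | i <;> simp [inE]

/-- a totally singular pair spans a totally singular subspace -/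
theorem ts_span_pair (Q : QuadraticForm F (Fin n ⊕ Fin n → F)) {u v : Fin n ⊕ Fin n → F}
    (hu : Q u = 0) (hv : Q v = 0) (huv : polar Q u v = 0) :
    TS Q (Submodule.span F (Set.range ![u, v])) := by
  intro w hw
  rw [Matrix.range_cons_cons_empty, Submodule.mem_span_pair] at hw
  obtain ⟨a, b, rfl⟩ := hw
  rw [QuadraticMap.map_add Q, QuadraticMap.map_smul, QuadraticMap.map_smul, hu, hv,
    polar_smul_left, polar_smul_right, huv]
  simp

/-- the dependent case: the Siegel matrix is trivial -/
theorem siegelMatrix_eq_one_of_dep (Q : QuadraticForm F (Fin n ⊕ Fin n → F))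
    {u v : Fin n ⊕ Fin n → F} (c : F) (h : ¬ LinearIndependent F ![u, v]) :
    Cfsg.siegelMatrix ⇑Q u v c = 1 := by
  rw [LinearIndependent.pair_iff] at h
  push Not at h
  obtain ⟨s, t, hst, hne⟩ := h
  apply Matrix.toLin'.injective
  apply LinearMap.ext
  intro x
  rw [Matrix.toLin'_apply, siegelMatrix_mulVec, Matrix.toLin'_one, LinearMap.id_apply]
  unfold siegF
  suffices hz : polar Q u x • v - polar Q v x • u = 0 by rw [hz, smul_zero, add_zero]
  by_cases hs : s = 0
  · have ht : t ≠ 0 := hne hs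
    rw [hs, zero_smul, zero_add] at hst
    have hv0 : v = 0 := by
      rcases smul_eq_zero.1 hst with h | h
      · exact absurd h ht
      · exact h
    rw [hv0]
    simp
  · have hu' : u = (-(t / s)) • v := by
      have : s • u = -(t • v) := eq_neg_of_add_eq_zero_left hst
      have h2 : u = s⁻¹ • (s • u) := by rw [smul_smul, inv_mul_cancel₀ hs, one_smul]
      rw [h2, this, smul_neg, smul_smul, neg_smul]
      congr 2
      field_simp
    rw [hu', polar_smul_left, smul_eq_mul, mul_smul, smul_comm]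
    simp


theorem polarVec_inE (a : Fin n → F) :
    Cfsg.polarVec (Cfsg.quadFormPlus n F) (inE a) = Sum.elim (0 : Fin n → F) a := by
  classical
  funext j
  have h : Cfsg.polarVec (Cfsg.quadFormPlus n F) (inE a) j
      = plusPolar n F (inE a) (Pi.single j 1) :=
    polar_qfOf (isQF_plus (F := F) (m := n)) (inE a) (Pi.single j 1)
  rw [h]
  unfold plusPolar inE
  rcases j with i | i
  · simp [Pi.single_apply]
  · simp [Pi.single_apply]

theorem siegelMatrix_inE (a b : Fin n → F) (c : F) :
    Cfsg.siegelMatrix (Cfsg.quadFormPlus n F) (inE a) (inE b) c = radMat (c • vecMulVec b a) := by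
  classical
  unfold Cfsg.siegelMatrix radMat
  rw [polarVec_inE, polarVec_inE]
  ext (i | i) (j | j) <;>
    simp [inE, vecMulVec_apply, Matrix.one_apply, Matrix.add_apply, Matrix.sub_apply,
      Matrix.smul_apply, mul_sub]

/-- conjugation formula for long root elements (explicit form of helper25's `conj_siegG`) -/
theorem conj_siegG_eq (Q : QuadraticForm F (Fin n ⊕ Fin n → F))
    (k : ↥(Cfsg.isometryGroup F ⇑Q)) (u v : Fin n ⊕ Fin n → F) (c : F) (hu : Q u = 0)
    (hv : Q v = 0) (huv : polar Q u v = 0)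
    (hu' : Q (toOG Q k u) = 0) (hv' : Q (toOG Q k v) = 0)
    (huv' : polar Q (toOG Q k u) (toOG Q k v) = 0) :
    k * siegG Q u v c hu hv huv * k⁻¹ =
      siegG Q (toOG Q k u) (toOG Q k v) c hu' hv' huv' := by
  have hk : ∀ x, Q (toOG Q k x) = Q x := toOG_mem_OG Q k
  have hpol : ∀ x y, polar Q (toOG Q k x) (toOG Q k y) = polar Q x y :=
    polar_of_iso Q hk
  apply toOG_injective
  ext1 x
  rw [map_mul, map_mul, map_inv, LinearEquiv.mul_apply, LinearEquiv.mul_apply, toOG_siegG,
    toOG_siegG]
  unfold siegF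
  have h1 : polar Q (toOG Q k u) x = polar Q u ((toOG Q k)⁻¹ x) := by
    have := hpol u ((toOG Q k)⁻¹ x)
    rw [apply_inv_self'] at this
    exact this
  have h2 : polar Q (toOG Q k v) x = polar Q v ((toOG Q k)⁻¹ x) := by
    have := hpol v ((toOG Q k)⁻¹ x)
    rw [apply_inv_self'] at this
    exact this
  rw [h1, h2, map_add, map_smul, map_sub, map_smul, map_smul, apply_inv_self']

/-- members of the span of two `inE` vectors are `inE` vectors -/
theorem exists_inE_of_mem_span {a₀ b₀ : Fin n → F} {w : Fin n ⊕ Fin n → F}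
    (hw : w ∈ Submodule.span F (Set.range ![inE a₀, inE b₀])) : ∃ a : Fin n → F, w = inE a := by
  rw [Matrix.range_cons_cons_empty, Submodule.mem_span_pair] at hw
  obtain ⟨s, t, rfl⟩ := hw
  exact ⟨s • a₀ + t • b₀, by rw [inE_add, inE_smul, inE_smul]⟩

variable [Fintype F]

theorem rootSet_subset (hn : 4 ≤ n) (hq : 3 < Fintype.card F)
    (D : Siegel F n ↥(Cfsg.Omega F (Cfsg.quadFormPlus n F)))
    (hD : ∀ R, ((((D.rad R : ↥(Cfsg.Omega F (Cfsg.quadFormPlus n F))) :
        ↥(Cfsg.isometryGroup F (Cfsg.quadFormPlus n F))) : GL (Fin n ⊕ Fin n) F) :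
        Matrix (Fin n ⊕ Fin n) (Fin n ⊕ Fin n) F) = radMat R)
    (s : ↥(Cfsg.isometryGroup F (Cfsg.quadFormPlus n F))) (hs : s ∈ rootSet (QP n F)) :
    s ∈ (Subgroup.normalClosure (Set.range D.rad)).map
      (Cfsg.Omega F (Cfsg.quadFormPlus n F)).subtype := by
  classical
  have hQ : (polarBilin (QP n F)).Nondegenerate := qfOf_nondeg _
  obtain ⟨u, v, c, hu, hv, huv, hmat⟩ := hs
  by_cases hli : LinearIndependent F ![u, v]
  · -- the independent case
    have hUfin : finrank F (Submodule.span F (Set.range ![u, v])) = 2 := by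
      rw [finrank_span_eq_card hli]; simp
    have hUTS := ts_span_pair (QP n F) hu hv huv
    let i0 : Fin n := ⟨0, by omega⟩
    let i1 : Fin n := ⟨1, by omega⟩
    have h01 : i0 ≠ i1 := by
      intro h
      have := congrArg Fin.val h
      simp [i0, i1] at this
    have hli' : LinearIndependent F ![inE (Pi.single i0 (1 : F)), inE (Pi.single i1 (1 : F))] := by
      rw [LinearIndependent.pair_iff]
      intro a b hab
      have h0 := congrFun hab (Sum.inl i0)
      have h1 := congrFun hab (Sum.inl i1)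
      simp [inE, h01, h01.symm] at h0 h1
      exact ⟨h0, h1⟩
    have hWfin : finrank F (Submodule.span F
        (Set.range ![inE (Pi.single i0 (1 : F)), inE (Pi.single i1 (1 : F))])) = 2 := by
      rw [finrank_span_eq_card hli']; simp
    have hWTS := ts_span_pair (QP n F) (QP_inE (Pi.single i0 (1 : F)))
      (QP_inE (Pi.single i1 (1 : F)))
      (by
        unfold polar
        rw [← inE_add, QP_inE, QP_inE, QP_inE]; simp)
    obtain ⟨g, hgΩ, hgU⟩ : ∃ g : ↥(Cfsg.isometryGroup F (Cfsg.quadFormPlus n F)),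
        g ∈ Cfsg.Omega F (Cfsg.quadFormPlus n F) ∧
        (Submodule.span F (Set.range ![u, v])).map
          ((toOG (QP n F) g : (Fin n ⊕ Fin n → F) ≃ₗ[F] (Fin n ⊕ Fin n → F)) :
            (Fin n ⊕ Fin n → F) →ₗ[F] (Fin n ⊕ Fin n → F)) =
          Submodule.span F
            (Set.range ![inE (Pi.single i0 (1 : F)), inE (Pi.single i1 (1 : F))]) :=
      omega_trans_ts (QP n F) hQ
        (Or.inl (by omega)) (k := 2) (by simp; omega) hUfin hWfin hUTS hWTS
    have hgu : toOG (QP n F) g u ∈ Submodule.span F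
        (Set.range ![inE (Pi.single i0 (1 : F)), inE (Pi.single i1 (1 : F))]) := by
      rw [← hgU]
      exact Submodule.mem_map_of_mem (Submodule.subset_span ⟨0, rfl⟩)
    have hgv : toOG (QP n F) g v ∈ Submodule.span F
        (Set.range ![inE (Pi.single i0 (1 : F)), inE (Pi.single i1 (1 : F))]) := by
      rw [← hgU]
      exact Submodule.mem_map_of_mem (Submodule.subset_span ⟨1, rfl⟩)
    obtain ⟨a, ha⟩ := exists_inE_of_mem_span hgu
    obtain ⟨b, hb⟩ := exists_inE_of_mem_span hgv
    have hk : ∀ x, QP n F (toOG (QP n F) g x) = QP n F x := toOG_mem_OG (QP n F) g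
    have hpol : ∀ x y, polar (QP n F) (toOG (QP n F) g x) (toOG (QP n F) g y)
        = polar (QP n F) x y := polar_of_iso (QP n F) hk
    have hu' : QP n F (toOG (QP n F) g u) = 0 := by rw [hk, hu]
    have hv' : QP n F (toOG (QP n F) g v) = 0 := by rw [hk, hv]
    have huv' : polar (QP n F) (toOG (QP n F) g u) (toOG (QP n F) g v) = 0 := by rw [hpol, huv]
    have hs1 : s = siegG (QP n F) u v c hu hv huv := eq_siegG_of_coe (QP n F) hu hv huv hmat
    have hconj := conj_siegG_eq (QP n F) g u v c hu hv huv hu' hv' huv'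
    -- the conjugate is `D.rad R`
    have hR : g * s * g⁻¹ =
        ((D.rad (c • vecMulVec b a) : ↥(Cfsg.Omega F (Cfsg.quadFormPlus n F))) :
          ↥(Cfsg.isometryGroup F (Cfsg.quadFormPlus n F))) := by
      rw [hs1]
      refine hconj.trans ?_
      apply Subtype.ext
      apply Units.ext
      rw [hD]
      show Cfsg.siegelMatrix (Cfsg.quadFormPlus n F) (toOG (QP n F) g u) (toOG (QP n F) g v) c = _
      rw [ha, hb, siegelMatrix_inE]
    let γ : ↥(Cfsg.Omega F (Cfsg.quadFormPlus n F)) := ⟨g, hgΩ⟩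
    refine ⟨γ⁻¹ * D.rad (c • vecMulVec b a) * γ, ?_, ?_⟩
    · exact (Subgroup.normalClosure_normal).conj_mem' _
        (Subgroup.subset_normalClosure (Set.mem_range_self _)) γ
    · show ((γ⁻¹ * D.rad (c • vecMulVec b a) * γ : ↥(Cfsg.Omega F (Cfsg.quadFormPlus n F))) :
          ↥(Cfsg.isometryGroup F (Cfsg.quadFormPlus n F))) = s
      rw [Subgroup.coe_mul, Subgroup.coe_mul, Subgroup.coe_inv, ← hR]
      show g⁻¹ * (g * s * g⁻¹) * g = s
      group
  · -- the dependent case: `s = 1`
    have h1 : s = 1 := by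
      apply Subtype.ext
      apply Units.ext
      rw [hmat]
      exact siegelMatrix_eq_one_of_dep (QP n F) c hli
    rw [h1]
    exact one_mem _

/-- CON2: the radical generates `Ω` as a normal subgroup. -/
theorem normalClosure_rad (hn : 4 ≤ n) (hq : 3 < Fintype.card F)
    (D : Siegel F n ↥(Cfsg.Omega F (Cfsg.quadFormPlus n F)))
    (hD : ∀ R, ((((D.rad R : ↥(Cfsg.Omega F (Cfsg.quadFormPlus n F))) :
        ↥(Cfsg.isometryGroup F (Cfsg.quadFormPlus n F))) : GL (Fin n ⊕ Fin n) F) :
        Matrix (Fin n ⊕ Fin n) (Fin n ⊕ Fin n) F) = radMat R) :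
    Subgroup.normalClosure (Set.range D.rad) = ⊤ := by
  have hQ : (polarBilin (QP n F)).Nondegenerate := qfOf_nondeg _
  have hcard : 7 ≤ Fintype.card (Fin n ⊕ Fin n) := by
    rw [Fintype.card_sum, Fintype.card_fin]; omega
  have hΩ : Cfsg.Omega F (Cfsg.quadFormPlus n F) = Subgroup.closure (rootSet (QP n F)) :=
    omega_eq_root' (QP n F) hQ hcard
  have hle : Subgroup.closure (rootSet (QP n F)) ≤
      (Subgroup.normalClosure (Set.range D.rad)).map
        (Cfsg.Omega F (Cfsg.quadFormPlus n F)).subtype :=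
    (Subgroup.closure_le _).2 (fun s hs => rootSet_subset hn hq D hD s hs)
  rw [eq_top_iff]
  intro x _
  have hx : (x : ↥(Cfsg.isometryGroup F (Cfsg.quadFormPlus n F))) ∈
      Subgroup.closure (rootSet (QP n F)) := by
    rw [← hΩ]; exact x.2
  obtain ⟨y, hy, hyx⟩ := hle hx
  have : y = x := Subtype.ext hyx
  rw [← this]
  exact hy

end Cfsg.Agent.Lib.Helper19.OPMin
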