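import Cfsg.Agent.Lib.Helper19.OPMinCon2

set_option autoImplicit false

/-!
# S2345, export for leaf CON3 (helper24): a long root element `siegG u v c` with `u, v` independent
is `Ω`-conjugate to `D.rad (c • vecMulVec b a)` with `a, b` independent.
-/

namespace Cfsg.Agent.Lib.Helper19.OPMin

open Matrix Module QuadraticMap Cfsg.Agent.Lib.Helper27.OPMin
open Cfsg.Agent.Lib.Helper25.Siegel Cfsg.Agent.Lib.Helper25.CD Cfsg.Agent.Lib.Helper25.MaxTS
open Cfsg.Agent.Lib.Helper25.Spin Cfsg.Agent.Lib.Helper25.Fam Cfsg.Agent.Lib.Helper14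

variable {F : Type*} [Field F] {n : ℕ}

theorem linearIndependent_of_inE {a b : Fin n → F}
    (h : LinearIndependent F ![inE a, inE b]) : LinearIndependent F ![a, b] := by
  rw [LinearIndependent.pair_iff] at h ⊢
  intro s t hst
  apply h s t
  rw [← inE_smul, ← inE_smul, ← inE_add, hst]
  funext j
  rcases j with i | i <;> simp [inE]

variable [Fintype F]

/-- general form: the isometry `s` with matrix `siegelMatrix u v c` (`u, v` independent, totally singular pair)
is `Ω`-conjugate to `D.rad (c • vecMulVec b a)` with `a, b` independent. -/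
theorem exists_conj_eq_rad_gen (hn : 4 ≤ n) (hq : 3 < Fintype.card F)
    (D : Siegel F n ↥(Cfsg.Omega F (Cfsg.quadFormPlus n F)))
    (hD : ∀ R, ((((D.rad R : ↥(Cfsg.Omega F (Cfsg.quadFormPlus n F))) :
        ↥(Cfsg.isometryGroup F (Cfsg.quadFormPlus n F))) : GL (Fin n ⊕ Fin n) F) :
        Matrix (Fin n ⊕ Fin n) (Fin n ⊕ Fin n) F) = radMat R)
    (y : ↥(Cfsg.Omega F (Cfsg.quadFormPlus n F))) (u v : Fin n ⊕ Fin n → F) (c : F)
    (hli : LinearIndependent F ![u, v])
    (hu : Cfsg.quadFormPlus n F u = 0) (hv : Cfsg.quadFormPlus n F v = 0)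
    (huv : polar (Cfsg.quadFormPlus n F) u v = 0)
    (hy : (((y : ↥(Cfsg.isometryGroup F (Cfsg.quadFormPlus n F))) : GL (Fin n ⊕ Fin n) F) :
        Matrix (Fin n ⊕ Fin n) (Fin n ⊕ Fin n) F) =
        Cfsg.siegelMatrix (Cfsg.quadFormPlus n F) u v c) :
    ∃ (g : ↥(Cfsg.Omega F (Cfsg.quadFormPlus n F))) (a b : Fin n → F),
      LinearIndependent F ![a, b] ∧ g * y * g⁻¹ = D.rad (c • vecMulVec b a) := by
  classical
  have hQ : (polarBilin (QP n F)).Nondegenerate := qfOf_nondeg _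
  have hu0 : QP n F u = 0 := hu
  have hv0 : QP n F v = 0 := hv
  have huv0 : polar (QP n F) u v = 0 := huv
  have hUfin : finrank F (Submodule.span F (Set.range ![u, v])) = 2 := by
    rw [finrank_span_eq_card hli]; simp
  have hUTS := ts_span_pair (QP n F) hu0 hv0 huv0
  let i0 : Fin n := ⟨0, by omega⟩
  let i1 : Fin n := ⟨1, by omega⟩
  have h01 : i0 ≠ i1 := by
    intro h
    have := congrArg Fin.val h
    simp [i0, i1] at this
  have hli' : LinearIndependent F ![inE (Pi.single i0 (1 : F)), inE (Pi.single i1 (1 : F))] := by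
    rw [LinearIndependent.pair_iff]
    intro a b hab
    have h0 := congrFun hab (Sum.inl i0)
    have h1 := congrFun hab (Sum.inl i1)
    simp [inE, h01, h01.symm] at h0 h1
    exact ⟨h0, h1⟩
  have hWfin : finrank F (Submodule.span F
      (Set.range ![inE (Pi.single i0 (1 : F)), inE (Pi.single i1 (1 : F))])) = 2 := by
    rw [finrank_span_eq_card hli']; simp
  have hWTS := ts_span_pair (QP n F) (QP_inE (Pi.single i0 (1 : F)))
    (QP_inE (Pi.single i1 (1 : F)))
    (by
      unfold polar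
      rw [← inE_add, QP_inE, QP_inE, QP_inE]; simp)
  obtain ⟨g, hgΩ, hgU⟩ : ∃ g : ↥(Cfsg.isometryGroup F (Cfsg.quadFormPlus n F)),
      g ∈ Cfsg.Omega F (Cfsg.quadFormPlus n F) ∧
      (Submodule.span F (Set.range ![u, v])).map
        ((toOG (QP n F) g : (Fin n ⊕ Fin n → F) ≃ₗ[F] (Fin n ⊕ Fin n → F)) :
          (Fin n ⊕ Fin n → F) →ₗ[F] (Fin n ⊕ Fin n → F)) =
        Submodule.span F
          (Set.range ![inE (Pi.single i0 (1 : F)), inE (Pi.single i1 (1 : F))]) :=
    omega_trans_ts (QP n F) hQ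
      (Or.inl (by omega)) (k := 2) (by simp; omega) hUfin hWfin hUTS hWTS
  have hgu : toOG (QP n F) g u ∈ Submodule.span F
      (Set.range ![inE (Pi.single i0 (1 : F)), inE (Pi.single i1 (1 : F))]) := by
    rw [← hgU]
    exact Submodule.mem_map_of_mem (Submodule.subset_span ⟨0, rfl⟩)
  have hgv : toOG (QP n F) g v ∈ Submodule.span F
      (Set.range ![inE (Pi.single i0 (1 : F)), inE (Pi.single i1 (1 : F))]) := by
    rw [← hgU]
    exact Submodule.mem_map_of_mem (Submodule.subset_span ⟨1, rfl⟩)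
  obtain ⟨a, ha⟩ := exists_inE_of_mem_span hgu
  obtain ⟨b, hb⟩ := exists_inE_of_mem_span hgv
  have hk : ∀ x, QP n F (toOG (QP n F) g x) = QP n F x := toOG_mem_OG (QP n F) g
  have hpol : ∀ x y, polar (QP n F) (toOG (QP n F) g x) (toOG (QP n F) g y)
      = polar (QP n F) x y := polar_of_iso (QP n F) hk
  have hu' : QP n F (toOG (QP n F) g u) = 0 := by rw [hk, hu0]
  have hv' : QP n F (toOG (QP n F) g v) = 0 := by rw [hk, hv0]
  have huv' : polar (QP n F) (toOG (QP n F) g u) (toOG (QP n F) g v) = 0 := by rw [hpol, huv0]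
  have hs1 : (y : ↥(Cfsg.isometryGroup F (Cfsg.quadFormPlus n F))) =
      siegG (QP n F) u v c hu0 hv0 huv0 := eq_siegG_of_coe (QP n F) hu0 hv0 huv0 hy
  have hconj := conj_siegG_eq (QP n F) g u v c hu0 hv0 huv0 hu' hv' huv'
  have hR : g * (y : ↥(Cfsg.isometryGroup F (Cfsg.quadFormPlus n F))) * g⁻¹ =
      ((D.rad (c • vecMulVec b a) : ↥(Cfsg.Omega F (Cfsg.quadFormPlus n F))) :
        ↥(Cfsg.isometryGroup F (Cfsg.quadFormPlus n F))) := by
    rw [hs1]
    refine hconj.trans ?_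
    apply Subtype.ext
    apply Units.ext
    rw [hD]
    show Cfsg.siegelMatrix (Cfsg.quadFormPlus n F) (toOG (QP n F) g u) (toOG (QP n F) g v) c = _
    rw [ha, hb, siegelMatrix_inE]
  -- independence of `a, b`
  have hab : LinearIndependent F ![a, b] := by
    rw [LinearIndependent.pair_iff]
    intro s t hst
    have hli2 := hli
    rw [LinearIndependent.pair_iff] at hli2
    apply hli2 s t
    apply (toOG (QP n F) g).injective
    rw [map_add, map_smul, map_smul, ha, hb, map_zero, ← inE_smul, ← inE_smul, ← inE_add, hst]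
    funext j
    rcases j with i | i <;> simp [inE]
  refine ⟨⟨g, hgΩ⟩, a, b, hab, ?_⟩
  apply Subtype.ext
  rw [Subgroup.coe_mul, Subgroup.coe_mul, Subgroup.coe_inv]
  exact hR

/-- helper24's shape (`c = 1`): `y` with matrix `siegelMatrix u v 1` is `Ω`-conjugate to
`D.rad (vecMulVec a b)` with `a, b` independent. -/
theorem exists_conj_eq_rad (hn : 4 ≤ n) (hq : 3 < Fintype.card F)
    (D : Siegel F n ↥(Cfsg.Omega F (Cfsg.quadFormPlus n F)))
    (hD : ∀ R, ((((D.rad R : ↥(Cfsg.Omega F (Cfsg.quadFormPlus n F))) :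
        ↥(Cfsg.isometryGroup F (Cfsg.quadFormPlus n F))) : GL (Fin n ⊕ Fin n) F) :
        Matrix (Fin n ⊕ Fin n) (Fin n ⊕ Fin n) F) = radMat R)
    (y : ↥(Cfsg.Omega F (Cfsg.quadFormPlus n F))) (u v : Fin n ⊕ Fin n → F)
    (hli : LinearIndependent F ![u, v])
    (hu : Cfsg.quadFormPlus n F u = 0) (hv : Cfsg.quadFormPlus n F v = 0)
    (huv : polar (Cfsg.quadFormPlus n F) u v = 0)
    (hy : (((y : ↥(Cfsg.isometryGroup F (Cfsg.quadFormPlus n F))) : GL (Fin n ⊕ Fin n) F) :
        Matrix (Fin n ⊕ Fin n) (Fin n ⊕ Fin n) F) =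
        Cfsg.siegelMatrix (Cfsg.quadFormPlus n F) u v 1) :
    ∃ (g : ↥(Cfsg.Omega F (Cfsg.quadFormPlus n F))) (a b : Fin n → F),
      LinearIndependent F ![a, b] ∧ g * y * g⁻¹ = D.rad (vecMulVec a b) := by
  obtain ⟨g, a, b, hab, h⟩ := exists_conj_eq_rad_gen hn hq D hD y u v 1 hli hu hv huv hy
  refine ⟨g, b, a, ?_, by rw [h, one_smul]⟩
  rw [LinearIndependent.pair_iff] at hab ⊢
  intro s t hst
  have := hab t s (by rw [add_comm]; exact hst)
  exact ⟨this.2, this.1⟩

end Cfsg.Agent.Lib.Helper19.OPMin
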