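import Mathlib
import Cfsg.Prelude.Def_ClassicalGeometry
import Cfsg.Prelude.Def_GeometricClasses
import Cfsg.Agent.Lib.Helper5.LSubC
import Cfsg.Agent.Lib.Helper19.OSubDefs
import Cfsg.Agent.Lib.Helper19.OSubBasic

/-!
helper19: S5858 (Ω₁₁, subfield conjunct): the ADAPTED ROUND of helper5 (msg 4175), core form.
Two good involutions `t` (rank 4) and `t'` (rank 6) such that `t` and `j = g t' g⁻¹` have a common `(-1)`-eigenvector `p₂`:
the central involution `z` of `⟨t, j⟩` satisfies `card ι ≤ finrank (Eig z 1) + 9`.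
All inputs (S, RA, EM1, EM2, `H0 ≤ M ≤ Ω`, non-degeneracy) are hypotheses: no `Ctx`/`QCtx` (so no dimension bound) is used.
-/

set_option autoImplicit false
set_option linter.unusedSectionVars false
set_option linter.unusedVariables false

namespace Cfsg.Agent.Lib.Helper19.OSub11
open Cfsg Matrix QuadraticMap Module Cfsg.Agent.Lib.Helper25.Siegel Cfsg.Agent.Lib.Helper19.OSub
open scoped commutatorElement

variable {ι : Type} [Fintype ι] [DecidableEq ι] {F : Type*} [Field F] [Fintype F]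
  {F₀ : Subfield F} {Q : QuadraticForm F (ι → F)} {M : Subgroup (GL ι F)}

/-- eigenvectors of an isometric involution for `1` and `-1` are orthogonal (`2 ≠ 0`) -/
theorem polar_eig_eq_zero (h2 : (2 : F) ≠ 0) {t : GL ι F} (ht : t ∈ Cfsg.isometryGroup F ⇑Q)
    {v p : ι → F} (hv : mv t v = v) (hp : mv t p = -p) : polar Q v p = 0 := by
  have h := iso_polar ht v p
  rw [hv, hp, polar_neg_right] at h
  have : (2 : F) * polar Q v p = 0 := by
    rw [two_mul]
    nth_rewrite 1 [← h]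
    exact neg_add_cancel _
  exact (mul_eq_zero.mp this).resolve_left h2

/-- the hyperplane `p^⊥` has dimension `n - 1` -/
theorem finrank_le_of_perp (hnd : (polarBilin Q).Nondegenerate) {p : ι → F} (hp : p ≠ 0)
    (W : Submodule F (ι → F)) (hW : ∀ v ∈ W, polar Q v p = 0) :
    finrank F W + 1 ≤ Fintype.card ι := by
  classical
  let φ : (ι → F) →ₗ[F] F := (polarBilin Q).flip p
  have hφ : ∀ v, φ v = polar Q v p := fun v => rfl
  have hle : W ≤ LinearMap.ker φ := fun v hv => by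
    rw [LinearMap.mem_ker, hφ]; exact hW v hv
  have hsurj : LinearMap.range φ = ⊤ := by
    have hne : φ ≠ 0 := by
      intro h0
      apply hp
      apply hnd.2 p
      intro v
      have := LinearMap.congr_fun h0 v
      rw [hφ] at this
      rw [polarBilin_apply_apply]
      exact this
    -- a non-zero functional is surjective
    rw [eq_top_iff]
    intro c _
    obtain ⟨v, hv⟩ : ∃ v, φ v ≠ 0 := by
      by_contra hne'
      push_neg at hne'
      exact hne (LinearMap.ext hne')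
    exact ⟨(c / φ v) • v, by rw [map_smul, smul_eq_mul, div_mul_cancel₀ _ hv]⟩
  have h1 := LinearMap.finrank_range_add_finrank_ker φ
  rw [hsurj, finrank_top, Module.finrank_self, Module.finrank_fintype_fun_eq_card] at h1
  have h2 := Submodule.finrank_mono hle
  omega

/-- core of the adapted round -/
theorem round_p_core
    (S : ∀ {t : GL ι F}, GInv F₀ Q t → ∀ {z : GL ι F}, z ∈ M → z * t = t * z →
      z ∈ Cfsg.Geo.subfieldSubgroup F₀ (1 : GL ι F))
    (RA : ∀ {z : GL ι F}, z ∈ Cfsg.Geo.subfieldSubgroup F₀ (1 : GL ι F) → z * z = 1 →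
      ∀ x, RatV F₀ x → RatV F₀ (mv z x))
    (EM1 : ∀ {z : GL ι F}, z * z = 1 →
      finrank F (Eig z 1) + finrank F (Eig z (-1)) = Fintype.card ι)
    (EM2 : ∀ (g z : GL ι F) (ε : F), finrank F (Eig (g * z * g⁻¹) ε) = finrank F (Eig z ε))
    (hnd : (polarBilin Q).Nondegenerate) (h2 : (2 : F) ≠ 0)
    (hle : H0 F₀ Q ≤ M) (hom : M ≤ Cfsg.Geo.omegaGL ⇑Q) {g : GL ι F} (hg : g ∈ M)
    {t t' : GL ι F} (htG : GInv F₀ Q t) (ht'G : GInv F₀ Q t')
    (ht4 : finrank F (Eig t (-1)) = 4) (ht'6 : finrank F (Eig t' (-1)) = 6)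
    {p₂ : ι → F} (hp0 : p₂ ≠ 0) (htp : mv t p₂ = -p₂) (hjp : mv (g * t' * g⁻¹) p₂ = -p₂) :
    ∃ z, z ∈ M ∧ RatInv F₀ Q z ∧ RatInv F₀ Q (g⁻¹ * z * g) ∧ z ≠ 1 ∧
      Fintype.card ι ≤ finrank F (Eig z 1) + 9 := by
  classical
  have mem_Eig : ∀ (z : GL ι F) (ε : F) (x : ι → F), x ∈ Eig z ε ↔ mv z x = ε • x := by
    intro z ε x
    unfold Eig
    rw [Module.End.mem_eigenspace_iff, Matrix.toLin'_apply]
  have htM : t ∈ M := hle htG.mem
  have ht'M : t' ∈ M := hle ht'G.mem
  obtain ⟨j, hj⟩ : ∃ j : GL ι F, j = g * t' * g⁻¹ := ⟨_, rfl⟩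
  rw [← hj] at hjp
  have hjM : j ∈ M := by
    rw [hj]; exact M.mul_mem (M.mul_mem hg ht'M) (M.inv_mem hg)
  have htt : t * t = 1 := htG.sq
  have hjj : j * j = 1 := by
    rw [hj]
    calc g * t' * g⁻¹ * (g * t' * g⁻¹) = g * (t' * t') * g⁻¹ := by group
      _ = 1 := by rw [ht'G.sq, mul_one, mul_inv_cancel]
  have hj6 : finrank F (Eig j (-1)) = 6 := by
    rw [hj, EM2]; exact ht'6
  have htiso : t ∈ Cfsg.isometryGroup F ⇑Q := omegaGL_le_iso (hom htM)
  have hjiso : j ∈ Cfsg.isometryGroup F ⇑Q := omegaGL_le_iso (hom hjM)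
  rcases Cfsg.Agent.Lib.Helper5.LSub.dihedral t j htt hjj with ⟨w, hw⟩ | ⟨m, hz1, hzz, hzt, hzj⟩
  · exfalso
    have e := EM2 w t (-1)
    rw [hw, hj6, ht4] at e
    omega
  · obtain ⟨z, hz⟩ : ∃ z : GL ι F, z = (t * j) ^ m := ⟨_, rfl⟩
    rw [← hz] at hz1 hzz hzt hzj
    have hzM : z ∈ M := by
      rw [hz]; exact M.pow_mem (M.mul_mem htM hjM) m
    have hzS : z ∈ Cfsg.Geo.subfieldSubgroup F₀ (1 : GL ι F) := S htG hzM hzt
    have hziso : z ∈ Cfsg.isometryGroup F ⇑Q := omegaGL_le_iso (hom hzM)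
    have hzR : RatInv F₀ Q z := ⟨hzz, hziso, RA hzS hzz⟩
    obtain ⟨z', hz'⟩ : ∃ z' : GL ι F, z' = g⁻¹ * z * g := ⟨_, rfl⟩
    have hz'M : z' ∈ M := by
      rw [hz']; exact M.mul_mem (M.mul_mem (M.inv_mem hg) hzM) hg
    have hz'z' : z' * z' = 1 := by
      rw [hz']
      calc g⁻¹ * z * g * (g⁻¹ * z * g) = g⁻¹ * (z * z) * g := by group
        _ = 1 := by rw [hzz, mul_one, inv_mul_cancel]
    have hz't' : z' * t' = t' * z' := by
      rw [hz']
      have e1 : z * (g * t' * g⁻¹) = (g * t' * g⁻¹) * z := by rw [← hj]; exact hzj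
      calc g⁻¹ * z * g * t' = g⁻¹ * (z * (g * t' * g⁻¹)) * g := by group
        _ = g⁻¹ * ((g * t' * g⁻¹) * z) * g := by rw [e1]
        _ = t' * (g⁻¹ * z * g) := by group
    have hz'S : z' ∈ Cfsg.Geo.subfieldSubgroup F₀ (1 : GL ι F) := S ht'G hz'M hz't'
    have hz'iso : z' ∈ Cfsg.isometryGroup F ⇑Q := omegaGL_le_iso (hom hz'M)
    have hz'R : RatInv F₀ Q z' := ⟨hz'z', hz'iso, RA hz'S hz'z'⟩
    have hdim : Fintype.card ι ≤ finrank F (Eig z 1) + 9 := by
      have hle' : Eig t 1 ⊓ Eig j 1 ≤ Eig z 1 := by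
        intro v hv
        rw [Submodule.mem_inf, mem_Eig, mem_Eig, one_smul] at hv
        rw [mem_Eig, one_smul]
        have hp : ∀ k : ℕ, mv ((t * j) ^ k) v = v := by
          intro k
          induction k with
          | zero => rw [pow_zero, mv_one]
          | succ k ih => rw [pow_succ, mv_mul, mv_mul, hv.2, hv.1, ih]
        rw [hz]; exact hp m
      have h1 := EM1 htt
      have h2' := EM1 hjj
      have h3 := Submodule.finrank_sup_add_finrank_inf_eq (Eig t 1) (Eig j 1)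
      have h4 : finrank F ↥(Eig t 1 ⊔ Eig j 1) + 1 ≤ Fintype.card ι := by
        apply finrank_le_of_perp hnd hp0
        intro v hv
        rw [Submodule.mem_sup] at hv
        obtain ⟨a, ha, b, hb, rfl⟩ := hv
        rw [mem_Eig, one_smul] at ha hb
        rw [polar_add_left, polar_eig_eq_zero h2 htiso ha htp, polar_eig_eq_zero h2 hjiso hb hjp, add_zero]
      have h5 := Submodule.finrank_mono hle'
      omega
    refine ⟨z, hzM, hzR, ?_, hz1, hdim⟩
    rw [← hz']; exact hz'R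

end Cfsg.Agent.Lib.Helper19.OSub11
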