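import Mathlib
import Cfsg.Prelude.Def_ClassicalGeometry
import Cfsg.Prelude.Def_GeometricClasses
import Cfsg.Agent.Lib.Helper11.Om11S.H19_OSubMain

/-!
helper19: S5858 (Ω₁₁, subfield conjunct), on helper11's copy `Om11S` of the OSub tower (`11 ≤ card ι`):
the adapted round of helper5 (msg 4175) and the treatment `hbad11` of the case `dim V_-(z) ≥ 9` at `card ι = 11`,
in hypotheses form (PAR = parity, FRM = adapted frame, X4p / X6p = good involutions through a given frame).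
-/

set_option autoImplicit false
set_option linter.unusedSectionVars false
set_option linter.unusedVariables false
set_option linter.dupNamespace false
set_option linter.ambiguousOpen false

namespace Cfsg.Agent.Lib.Helper19.OSub11S
open Cfsg.Agent.Lib.Helper11.Om11S
open Cfsg.Agent.Lib.Helper11.Om11S.Cfsg.Agent.Lib.Helper19.OSub
open Cfsg Matrix QuadraticMap Module
open _root_.Cfsg

variable {ι : Type} [Fintype ι] [DecidableEq ι] {F : Type*} [Field F] [Fintype F]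
  {F₀ : Subfield F} {Q : QuadraticForm F (ι → F)} {M : Subgroup (GL ι F)}

/-- eigenvectors of an isometric involution for `1` and `-1` are orthogonal (`2 ≠ 0`) -/
theorem polar_eig_eq_zero (h2 : (2 : F) ≠ 0) {t : GL ι F} (ht : t ∈ Cfsg.isometryGroup F ⇑Q)
    {v p : ι → F} (hv : mv t v = v) (hp : mv t p = -p) : polar Q v p = 0 := by
  have h := iso_polar ht v p
  rw [hv, hp, polar_neg_right] at h
  have : (2 : F) * polar Q v p = 0 := by
    rw [two_mul]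
    nth_rewrite 1 [← h]
    exact neg_add_cancel _
  exact (mul_eq_zero.mp this).resolve_left h2

/-- the hyperplane `p^⊥` has dimension `n - 1` -/
theorem finrank_le_of_perp (hnd : (polarBilin Q).Nondegenerate) {p : ι → F} (hp : p ≠ 0)
    (W : Submodule F (ι → F)) (hW : ∀ v ∈ W, polar Q v p = 0) :
    finrank F W + 1 ≤ Fintype.card ι := by
  classical
  let φ : (ι → F) →ₗ[F] F := (polarBilin Q).flip p
  have hφ : ∀ v, φ v = polar Q v p := fun v => rfl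
  have hle : W ≤ LinearMap.ker φ := fun v hv => by
    rw [LinearMap.mem_ker, hφ]; exact hW v hv
  have hsurj : LinearMap.range φ = ⊤ := by
    have hne : φ ≠ 0 := by
      intro h0
      apply hp
      apply hnd.2 p
      intro v
      have := LinearMap.congr_fun h0 v
      rw [hφ] at this
      rw [polarBilin_apply_apply]
      exact this
    rw [eq_top_iff]
    intro c _
    obtain ⟨v, hv⟩ : ∃ v, φ v ≠ 0 := by
      by_contra hne'
      push Not at hne'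
      exact hne (LinearMap.ext hne')
    exact ⟨(c / φ v) • v, by rw [map_smul, smul_eq_mul, div_mul_cancel₀ _ hv]⟩
  have h1 := LinearMap.finrank_range_add_finrank_ker φ
  rw [hsurj, finrank_top, Module.finrank_self, Module.finrank_fintype_fun_eq_card] at h1
  have h2 := Submodule.finrank_mono hle
  omega

/-- core of the adapted round -/
theorem round_p_core
    (S : ∀ {t : GL ι F}, GInv F₀ Q t → ∀ {z : GL ι F}, z ∈ M → z * t = t * z →
      z ∈ Cfsg.Geo.subfieldSubgroup F₀ (1 : GL ι F))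
    (RA : ∀ {z : GL ι F}, z ∈ Cfsg.Geo.subfieldSubgroup F₀ (1 : GL ι F) → z * z = 1 →
      ∀ x, RatV F₀ x → RatV F₀ (mv z x))
    (EM1 : ∀ {z : GL ι F}, z * z = 1 →
      finrank F (Eig z 1) + finrank F (Eig z (-1)) = Fintype.card ι)
    (EM2 : ∀ (g z : GL ι F) (ε : F), finrank F (Eig (g * z * g⁻¹) ε) = finrank F (Eig z ε))
    (hnd : (polarBilin Q).Nondegenerate) (h2 : (2 : F) ≠ 0)
    (hle : H0 F₀ Q ≤ M) (hom : M ≤ Cfsg.Geo.omegaGL ⇑Q) {g : GL ι F} (hg : g ∈ M)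
    {t t' : GL ι F} (htG : GInv F₀ Q t) (ht'G : GInv F₀ Q t')
    (ht4 : finrank F (Eig t (-1)) = 4) (ht'6 : finrank F (Eig t' (-1)) = 6)
    {p₂ : ι → F} (hp0 : p₂ ≠ 0) (htp : mv t p₂ = -p₂) (hjp : mv (g * t' * g⁻¹) p₂ = -p₂) :
    ∃ z, z ∈ M ∧ RatInv F₀ Q z ∧ RatInv F₀ Q (g⁻¹ * z * g) ∧ z ≠ 1 ∧
      Fintype.card ι ≤ finrank F (Eig z 1) + 9 := by
  classical
  have htM : t ∈ M := hle htG.mem
  have ht'M : t' ∈ M := hle ht'G.mem
  obtain ⟨j, hj⟩ : ∃ j : GL ι F, j = g * t' * g⁻¹ := ⟨_, rfl⟩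
  rw [← hj] at hjp
  have hjM : j ∈ M := by
    rw [hj]; exact M.mul_mem (M.mul_mem hg ht'M) (M.inv_mem hg)
  have htt : t * t = 1 := htG.sq
  have hjj : j * j = 1 := by
    rw [hj]
    calc g * t' * g⁻¹ * (g * t' * g⁻¹) = g * (t' * t') * g⁻¹ := by group
      _ = 1 := by rw [ht'G.sq, mul_one, mul_inv_cancel]
  have hj6 : finrank F (Eig j (-1)) = 6 := by
    rw [hj, EM2]; exact ht'6
  have htiso : t ∈ Cfsg.isometryGroup F ⇑Q := omegaGL_le_iso (hom htM)
  have hjiso : j ∈ Cfsg.isometryGroup F ⇑Q := omegaGL_le_iso (hom hjM)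
  rcases Cfsg.Agent.Lib.Helper5.LSub.dihedral t j htt hjj with ⟨w, hw⟩ | ⟨m, hz1, hzz, hzt, hzj⟩
  · exfalso
    have e := EM2 w t (-1)
    rw [hw, hj6, ht4] at e
    omega
  · obtain ⟨z, hz⟩ : ∃ z : GL ι F, z = (t * j) ^ m := ⟨_, rfl⟩
    rw [← hz] at hz1 hzz hzt hzj
    have hzM : z ∈ M := by
      rw [hz]; exact M.pow_mem (M.mul_mem htM hjM) m
    have hzS : z ∈ Cfsg.Geo.subfieldSubgroup F₀ (1 : GL ι F) := S htG hzM hzt
    have hziso : z ∈ Cfsg.isometryGroup F ⇑Q := omegaGL_le_iso (hom hzM)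
    have hzR : RatInv F₀ Q z := ⟨hzz, hziso, RA hzS hzz⟩
    obtain ⟨z', hz'⟩ : ∃ z' : GL ι F, z' = g⁻¹ * z * g := ⟨_, rfl⟩
    have hz'M : z' ∈ M := by
      rw [hz']; exact M.mul_mem (M.mul_mem (M.inv_mem hg) hzM) hg
    have hz'z' : z' * z' = 1 := by
      rw [hz']
      calc g⁻¹ * z * g * (g⁻¹ * z * g) = g⁻¹ * (z * z) * g := by group
        _ = 1 := by rw [hzz, mul_one, inv_mul_cancel]
    have hz't' : z' * t' = t' * z' := by
      rw [hz']
      have e1 : z * (g * t' * g⁻¹) = (g * t' * g⁻¹) * z := by rw [← hj]; exact hzj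
      calc g⁻¹ * z * g * t' = g⁻¹ * (z * (g * t' * g⁻¹)) * g := by group
        _ = g⁻¹ * ((g * t' * g⁻¹) * z) * g := by rw [e1]
        _ = t' * (g⁻¹ * z * g) := by group
    have hz'S : z' ∈ Cfsg.Geo.subfieldSubgroup F₀ (1 : GL ι F) := S ht'G hz'M hz't'
    have hz'iso : z' ∈ Cfsg.isometryGroup F ⇑Q := omegaGL_le_iso (hom hz'M)
    have hz'R : RatInv F₀ Q z' := ⟨hz'z', hz'iso, RA hz'S hz'z'⟩
    have hdim : Fintype.card ι ≤ finrank F (Eig z 1) + 9 := by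
      have hle' : Eig t 1 ⊓ Eig j 1 ≤ Eig z 1 := by
        intro v hv
        rw [Submodule.mem_inf, mem_Eig, mem_Eig, one_smul] at hv
        rw [mem_Eig, one_smul]
        have hp : ∀ k : ℕ, mv ((t * j) ^ k) v = v := by
          intro k
          induction k with
          | zero => rw [pow_zero, mv_one]
          | succ k ih => rw [pow_succ, mv_mul, mv_mul, hv.2, hv.1, ih]
        rw [hz]; exact hp m
      have h1 := EM1 htt
      have h2' := EM1 hjj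
      have h3 := Submodule.finrank_sup_add_finrank_inf_eq (Eig t 1) (Eig j 1)
      have h4 : finrank F ↥(Eig t 1 ⊔ Eig j 1) + 1 ≤ Fintype.card ι := by
        apply finrank_le_of_perp hnd hp0
        intro v hv
        rw [Submodule.mem_sup] at hv
        obtain ⟨a, ha, b, hb, rfl⟩ := hv
        rw [mem_Eig, one_smul] at ha hb
        rw [polar_add_left, polar_eig_eq_zero h2 htiso ha htp, polar_eig_eq_zero h2 hjiso hb hjp, add_zero]
      have h5 := Submodule.finrank_mono hle'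
      omega
    refine ⟨z, hzM, hzR, ?_, hz1, hdim⟩
    rw [← hz']; exact hz'R

/-- the adapted round on the `Om11S` tower -/
theorem round_p (h : Ctx F₀ Q M) (h2 : (2 : F) ≠ 0) (hr3 : 3 ≤ Module.finrank F₀ F) {g : GL ι F}
    (hg : g ∈ M) {t t' : GL ι F} (htG : GInv F₀ Q t) (ht'G : GInv F₀ Q t')
    (ht4 : finrank F (Eig t (-1)) = 4) (ht'6 : finrank F (Eig t' (-1)) = 6)
    {p₂ : ι → F} (hp0 : p₂ ≠ 0) (htp : mv t p₂ = -p₂) (hjp : mv (g * t' * g⁻¹) p₂ = -p₂) :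
    ∃ z, z ∈ M ∧ RatInv F₀ Q z ∧ RatInv F₀ Q (g⁻¹ * z * g) ∧ z ≠ 1 ∧
      Fintype.card ι ≤ finrank F (Eig z 1) + 9 :=
  round_p_core (fun ht _ hz hc => stab h ht hz hc) (fun hz hzz => ratact h.prime hr3 hz hzz)
    (fun hz => finrank_eig_add h2 hz) finrank_eig_conj h.nd h2 h.le h.le_om hg htG ht'G ht4 ht'6 hp0 htp hjp

/-- (B) a rational eigenvector in a non-zero eigenspace of a rational involution -/
theorem exists_rat_eig (h : QCtx F₀ Q) (h2 : (2 : F) ≠ 0) {z : GL ι F} (hz : RatInv F₀ Q z) {ε : F}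
    (hε : ε = 1 ∨ ε = -1) (h1 : 1 ≤ finrank F (Eig z ε)) :
    ∃ p : ι → F, RatV F₀ p ∧ p ≠ 0 ∧ mv z p = ε • p := by
  obtain ⟨W, -, hW, hfin⟩ := Cfsg.Agent.Lib.Helper24.OSubLeaf19.exists_nd_eig h h2 hz hε
  have hW1 : 1 ≤ finrank F₀ W := le_trans h1 hfin
  rw [Submodule.one_le_finrank_iff] at hW1
  obtain ⟨u, hu, hu0⟩ := (Submodule.ne_bot_iff W).mp hW1
  refine ⟨up F₀ u, ratV_up u, ?_, hW u hu⟩
  intro h0
  exact hu0 (up_eq_zero.mp h0)

/-- (C) a generator of a one-dimensional `1`-eigenspace of an isometric involution is anisotropic -/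
theorem Q_ne_zero_of_eig_one (hnd : (polarBilin Q).Nondegenerate) (h2 : (2 : F) ≠ 0) {z : GL ι F}
    (hzz : z * z = 1) (hziso : z ∈ Cfsg.isometryGroup F ⇑Q) (h1 : finrank F (Eig z 1) = 1)
    {p : ι → F} (hp0 : p ≠ 0) (hpz : mv z p = p) : Q p ≠ 0 := by
  intro hQ
  apply hp0
  apply hnd.2 p
  intro x
  rw [polarBilin_apply_apply]
  -- decompose x
  have hpE : p ∈ Eig z 1 := by rw [mem_Eig, one_smul]; exact hpz
  have hplus : x + mv z x ∈ Eig z 1 := by
    rw [mem_Eig, one_smul, mv_add, mv_sq hzz, add_comm]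
  have hminus : mv z (x - mv z x) = -(x - mv z x) := by
    rw [mv_sub, mv_sq hzz, neg_sub]
  obtain ⟨c, hc⟩ : ∃ c : F, c • p = x + mv z x := by
    have := (finrank_eq_one_iff_of_nonzero' (⟨p, hpE⟩ : Eig z 1)
      (by intro h0; exact hp0 (congrArg Subtype.val h0))).mp h1 ⟨x + mv z x, hplus⟩
    obtain ⟨c, hc⟩ := this
    exact ⟨c, congrArg Subtype.val hc⟩
  have hpp : polar Q p p = 0 := by
    have : polar Q p p = 2 * Q p := by
      unfold polar
      have : Q (p + p) = 4 * Q p := by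
        have : p + p = (2 : F) • p := (two_smul F p).symm
        rw [this, QuadraticMap.map_smul, smul_eq_mul]; ring
      rw [this]; ring
    rw [this, hQ, mul_zero]
  have e1 : polar Q (x + mv z x) p = 0 := by
    rw [← hc, polar_smul_left, hpp, smul_zero]
  have e2 : polar Q (x - mv z x) p = 0 := by
    rw [polar_comm]
    exact polar_eig_eq_zero h2 hziso hpz hminus
  have e3 : (2 : F) * polar Q x p = 0 := by
    have : (2 : F) • x = (x + mv z x) + (x - mv z x) := by rw [two_smul]; abel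
    have h4 : polar Q ((2 : F) • x) p = 0 := by rw [this, polar_add_left, e1, e2, add_zero]
    rwa [polar_smul_left, smul_eq_mul] at h4
  exact (mul_eq_zero.mp e3).resolve_left h2

/-- (F) the case `dim V_-(z) ≥ 9` at `card ι = 11`, in hypotheses form -/
theorem hbad11_core (h : Ctx F₀ Q M) (h2 : (2 : F) ≠ 0) (hr3 : 3 ≤ Module.finrank F₀ F)
    (hcard : Fintype.card ι = 11)
    (PAR : ∀ {z : GL ι F}, z ∈ M → z * z = 1 → Even (finrank F (Eig z (-1))))
    (FRM : ∀ {p : ι → F}, RatV F₀ p → Q p ≠ 0 → ∃ fr : Frame F₀ Q 4, p = fr.e 0 + Q p • fr.f 0)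
    (X4p : ∀ fr : Frame F₀ Q 4, ∃ t, GInv F₀ Q t ∧ finrank F (Eig t (-1)) = 4 ∧
      mv t (fr.e 0) = -fr.e 0 ∧ mv t (fr.f 0) = -fr.f 0)
    (X6p : ∀ fr : Frame F₀ Q 4, ∃ t, GInv F₀ Q t ∧ finrank F (Eig t (-1)) = 6 ∧
      mv t (fr.e 0) = -fr.e 0 ∧ mv t (fr.f 0) = -fr.f 0)
    {g : GL ι F} (hg : g ∈ M) {z : GL ι F} (hzM : z ∈ M) (hz : RatInv F₀ Q z)
    (hz' : RatInv F₀ Q (g⁻¹ * z * g)) (hk : 9 ≤ finrank F (Eig z (-1))) :
    g ∈ Cfsg.Geo.subfieldSubgroup F₀ (1 : GL ι F) := by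
  have hadd := finrank_eig_add h2 hz.sq
  obtain ⟨r, hr⟩ := PAR hzM hz.sq
  have h1 : finrank F (Eig z 1) = 1 := by omega
  have h1' : finrank F (Eig (g⁻¹ * z * g) 1) = 1 := by
    have e := finrank_eig_conj g⁻¹ z (1 : F)
    rw [inv_inv] at e
    rw [e]; exact h1
  obtain ⟨p, hpR, hp0, hpz⟩ := exists_rat_eig h.toQCtx h2 hz (Or.inl rfl) (by omega)
  obtain ⟨p', hp'R, hp'0, hp'z⟩ := exists_rat_eig h.toQCtx h2 hz' (Or.inl rfl) (by omega)
  rw [one_smul] at hpz hp'z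
  have hQp : Q p ≠ 0 := Q_ne_zero_of_eig_one h.nd h2 hz.sq hz.iso h1 hp0 hpz
  have hQp' : Q p' ≠ 0 := Q_ne_zero_of_eig_one h.nd h2 hz'.sq hz'.iso h1' hp'0 hp'z
  obtain ⟨fr, hfr⟩ := FRM hpR hQp
  obtain ⟨fr', hfr'⟩ := FRM hp'R hQp'
  obtain ⟨t, htG, ht4, hte, htf⟩ := X4p fr
  obtain ⟨t', ht'G, ht'6, ht'e, ht'f⟩ := X6p fr'
  have htp : mv t p = -p := by
    rw [hfr, mv_add, mv_smul, hte, htf, smul_neg, neg_add]
  have ht'p' : mv t' p' = -p' := by
    rw [hfr', mv_add, mv_smul, ht'e, ht'f, smul_neg, neg_add]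
  -- the common vector
  have hp2z : mv z (mv g p') = mv g p' := by
    have e : z * g = g * (g⁻¹ * z * g) := by group
    rw [← mv_mul, e, mv_mul, hp'z]
  have hp2E : mv g p' ∈ Eig z 1 := by rw [mem_Eig, one_smul]; exact hp2z
  have hpE : p ∈ Eig z 1 := by rw [mem_Eig, one_smul]; exact hpz
  obtain ⟨c, hc⟩ : ∃ c : F, c • p = mv g p' := by
    have := (finrank_eq_one_iff_of_nonzero' (⟨p, hpE⟩ : Eig z 1)
      (by intro h0; exact hp0 (congrArg Subtype.val h0))).mp h1 ⟨mv g p', hp2E⟩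
    obtain ⟨c, hc⟩ := this
    exact ⟨c, congrArg Subtype.val hc⟩
  have hp20 : mv g p' ≠ 0 := fun h0 => hp'0 (mv_injective g (by rw [h0, mv_zero]))
  have htp2 : mv t (mv g p') = -(mv g p') := by rw [← hc, mv_smul, htp, smul_neg]
  have hjp2 : mv (g * t' * g⁻¹) (mv g p') = -(mv g p') := by
    rw [mv_mul, mv_mul, mv_inv_mv, ht'p', mv_neg]
  obtain ⟨z₂, hz₂M, hz₂, hz₂', hz₂1, hdim⟩ :=
    round_p h h2 hr3 hg htG ht'G ht4 ht'6 hp20 htp2 hjp2
  have hadd₂ := finrank_eig_add h2 hz₂.sq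
  have hne₂ := eig_neg_ne_bot h2 hz₂.sq hz₂1
  obtain ⟨r₂, hr₂⟩ := PAR hz₂M hz₂.sq
  by_cases h3 : 3 ≤ finrank F (Eig z₂ (-1))
  · exact endgame h h2 hg hz₂ hz₂' h3 (by omega)
  · obtain ⟨z₃, hz₃M, hz₃, hz₃', hz₃1, hz₃y, hd, hfix⟩ := round h h2 hr3 hg hz₂ hz₂' (by omega)
    have hadd₃ := finrank_eig_add h2 hz₃.sq
    have hne₃ := eig_neg_ne_bot h2 hz₃.sq hz₃1
    obtain ⟨r₃, hr₃⟩ := PAR hz₃M hz₃.sq
    have hmul := finrank_eig_mul h2 hz₂.sq hz₃.sq hz₃y hd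
    have hyz : RatInv F₀ Q (z₂ * z₃) := ratInv_mul hz₂ hz₃ hz₃y
    have haddyz := finrank_eig_add h2 hyz.sq
    by_cases h3' : 3 ≤ finrank F (Eig z₃ (-1))
    · exact endgame h h2 hg hz₃ hz₃' h3' (by omega)
    · have e : g⁻¹ * (z₂ * z₃) * g = (g⁻¹ * z₂ * g) * (g⁻¹ * z₃ * g) := by group
      have hc' : g⁻¹ * z₃ * g * (g⁻¹ * z₂ * g) = g⁻¹ * z₂ * g * (g⁻¹ * z₃ * g) := by
        calc g⁻¹ * z₃ * g * (g⁻¹ * z₂ * g) = g⁻¹ * (z₃ * z₂) * g := by group
          _ = g⁻¹ * (z₂ * z₃) * g := by rw [hz₃y]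
          _ = g⁻¹ * z₂ * g * (g⁻¹ * z₃ * g) := by group
      have hyz' : RatInv F₀ Q (g⁻¹ * (z₂ * z₃) * g) := by
        rw [e]
        exact ratInv_mul hz₂' hz₃' hc'
      exact endgame h h2 hg hyz hyz' (by omega) (by omega)

end Cfsg.Agent.Lib.Helper19.OSub11S
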