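import Mathlib
import Cfsg.Prelude.Def_ClassicalGeometry
import Cfsg.Prelude.Def_GeometricClasses
import Cfsg.Agent.Lib.Helper19.OSubMain
import Cfsg.Agent.Lib.Helper12.OSubK3a
import Cfsg.Agent.Lib.Helper12.OSubK3b0
import Cfsg.Agent.Lib.Helper13.OSubK2K3ccore
import Cfsg.Agent.Lib.Helper25.OSubK2
import Cfsg.Agent.Lib.Helper8.OSubK3b

/-!
helper19: S5702: the hard case in characteristic 2 and the maximality of `H0` in all characteristics.
-/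

set_option autoImplicit false
set_option linter.unusedSectionVars false
set_option linter.unusedVariables false

namespace Cfsg.Agent.Lib.Helper19.OSub
open Cfsg Matrix QuadraticMap Module

variable {ι : Type} [Fintype ι] [DecidableEq ι] {F : Type*} [Field F] [Fintype F]
  {F₀ : Subfield F} {Q : QuadraticForm F (ι → F)} {M : Subgroup (GL ι F)}

theorem round2 (h : Ctx F₀ Q M) (hc2 : (2 : F) = 0) (hr3 : 3 ≤ Module.finrank F₀ F) {g : GL ι F}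
    (hg : g ∈ M) :
    ∃ z, z ∈ M ∧ RatInv F₀ Q z ∧ RatInv F₀ Q (g⁻¹ * z * g) ∧ z ≠ 1 ∧
      Fintype.card ι ≤ finrank F (Eig z 1) + 4 :=
  Cfsg.Agent.Lib.Helper25.OSubLeaf.round2_of (fun ht _ hz hc => stab h ht hz hc) h hc2 hr3 hg

theorem exists_pairs_fix (h : QCtx F₀ Q) {z : GL ι F} (hz : RatInv F₀ Q z)
    (hfix : Fintype.card ι ≤ finrank F (Eig z 1) + 4) :
    ∃ d₁ d₁' d₂ d₂' : ι → F, HypPair F₀ Q d₁ d₁' ∧ HypPair F₀ Q d₂ d₂' ∧
      polar Q d₁ d₂ = 0 ∧ polar Q d₁ d₂' = 0 ∧ polar Q d₁' d₂ = 0 ∧ polar Q d₁' d₂' = 0 ∧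
      mv z d₁ = d₁ ∧ mv z d₁' = d₁' ∧ mv z d₂ = d₂ ∧ mv z d₂' = d₂' :=
  Cfsg.Agent.Lib.Helper8.OSubLeaf19.exists_pairs_fix_core h
    (Cfsg.Agent.Lib.Helper12.OSubLeaf.finrank_fix_rat hz.rat) hfix

theorem endgame2 (h : Ctx F₀ Q M) (hc2 : (2 : F) = 0) {g : GL ι F} (hg : g ∈ M) {z : GL ι F}
    (hzM : z ∈ M) (hz : RatInv F₀ Q z) (hz' : RatInv F₀ Q (g⁻¹ * z * g)) (hz1 : z ≠ 1)
    (hfix : Fintype.card ι ≤ finrank F (Eig z 1) + 4) :
    g ∈ Cfsg.Geo.subfieldSubgroup F₀ (1 : GL ι F) :=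
  Cfsg.Agent.Lib.Helper13.OSubLeaf.endgame2_core
    (fun hz hz1 hom => Cfsg.Agent.Lib.Helper12.OSubLeaf.exists_sing_im h.toQCtx hc2 hz hz1 hom)
    (fun hz hfix => exists_pairs_fix h.toQCtx hz hfix)
    (fun hg _ ha ha0 hQa _ _ _ _ h₁ h₂ h12 h12' h1'2 h1'2' hx₁ hx₁' hx₂ hx₂' =>
      mem_of_perp_pairs h hg ha ha0 hQa h₁ h₂ h12 h12' h1'2 h1'2' hx₁ hx₁' hx₂ hx₂')
    h hg hzM hz hz' hz1 hfix


/-- assembly of the hard case in characteristic 2 -/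
theorem hard_case2 (h : Ctx F₀ Q M) (hc2 : (2 : F) = 0) (hr3 : 3 ≤ Module.finrank F₀ F)
    {g : GL ι F} (hg : g ∈ M) : g ∈ Cfsg.Geo.subfieldSubgroup F₀ (1 : GL ι F) := by
  obtain ⟨z, hzM, hz, hz', hz1, hfix⟩ := round2 h hc2 hr3 hg
  exact endgame2 h hc2 hg hzM hz hz' hz1 hfix

/-- the standard subfield subgroup is maximal in `Ω(Q)`, all characteristics -/
theorem maximal_std_all (h : QCtx F₀ Q) (hp : (Module.finrank F₀ F).Prime) :
    Cfsg.Geo.IsMaximalIn (Cfsg.Geo.omegaGL ⇑Q) (H0 F₀ Q) := by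
  by_cases h2 : (2 : F) = 0
  · refine ⟨H0_lt h hp.two_le, fun M hHM hMS => ?_⟩
    by_cases hM : Cfsg.Geo.omegaGL ⇑Q ≤ M
    · exact Or.inr (le_antisymm hMS hM)
    · left
      have hctx : Ctx F₀ Q M := { toQCtx := h, le := hHM, le_om := hMS, ne := hM, prime := hp }
      apply le_antisymm _ hHM
      intro g hg
      refine Subgroup.mem_inf.mpr ⟨?_, hMS hg⟩
      rcases Nat.lt_or_ge (Module.finrank F₀ F) 3 with h3 | h3
      · have : Module.finrank F₀ F = 2 := by have := hp.two_le; omega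
        exact easy_case hctx this hg
      · exact hard_case2 hctx h2 h3 hg
  · exact maximal_std h h2 hp

end Cfsg.Agent.Lib.Helper19.OSub
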