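import Mathlib
import Cfsg.Agent.Lib.Helper2.SOTDefs
import Cfsg.Agent.Lib.Helper27.SOTLADefs
import Cfsg.Agent.Lib.Helper13.OTUCalc
import Cfsg.Agent.Lib.Helper13.OTLADefs
import Cfsg.Agent.Lib.Helper13.OTLAIsoB
import Cfsg.Agent.Lib.Helper13.OTLASimil
import Cfsg.Agent.Lib.Helper29.OTLAC0
import Cfsg.Agent.Lib.Helper15.OTLAR11
import Cfsg.Agent.Lib.Helper1.SOTLAA7core

/-!
S5681 (LA'), leaf (R2-8) `levi_blocks`: core form with the conclusion of (R2-5d) `diag_shape` at `g` as hypothesis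
(everything else imported: helper13 `T_blocks_dual`, `alpha_simil`, `cls_dl`; helper29 `cls_le_two`; helper15 `InM_iso`).
-/

set_option autoImplicit false
set_option linter.unusedSectionVars false
set_option linter.unusedVariables false

namespace Cfsg.Agent.Lib.Helper19.OTLALeaf
open Matrix
open Cfsg.Agent.Lib.Helper25.Tens Cfsg.Agent.Lib.Helper19.OSub
open Cfsg.Agent.Lib.Helper2.SOT Cfsg.Agent.Lib.Helper27.SOTLA Cfsg.Agent.Lib.Helper13.OTU
open Cfsg.Agent.Lib.Helper13.OTLA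
open scoped Kronecker

variable {F : Type*} [Field F] [Fintype F] {a b : ℕ} {G₁ : Matrix (Fin a) (Fin a) F}
  {G₂ : Matrix (Fin b) (Fin b) F} {o o' p p' : Fin b} {Om M : Subgroup (GL (Idx a b) F)}

/-- (R2-8) core: from the conclusion of `diag_shape` at `g`. -/
theorem levi_blocks_core (h : LBase G₁ G₂ o o' p p' Om M) (hR1 : R1P G₁ o o' p p' M)
    {g : GL (Idx a b) F} (hg : g ∈ M) (hst : StabR o o' g.1)
    (hds : ∃ s : GL (Fin a) F,
      (∀ k l : Fin b, cls o o' p p' k = 1 → cls o o' p p' l = 1 → ∃ c : F, blk g.1 k l = c • s.1) ∧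
      (∀ k l : Fin b, cls o o' p p' k = 2 → cls o o' p p' l = 2 → ∃ c : F, blk g.1 k l = c • s.1) ∧
      (∀ k l : Fin b, cls o o' p p' k = 2 → cls o o' p p' l = 2 →
        ∃ c : F, blk g⁻¹.1 k l = c • s⁻¹.1)) :
    ∃ α : GL (Fin a) F, ∀ k l : Fin b, cls o o' p p' k = cls o o' p p' l →
      ∃ c : F, blk g.1 k l = c • α.1 := by
  obtain ⟨s, h1, h2, h3⟩ := hds
  obtain ⟨μ, hμ, hsim⟩ := Cfsg.Agent.Lib.Helper13.OTLALeaf.alpha_simil h hR1 hg hst s h3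
  have hiso : IsIso G₁ G₂ g.1 := Cfsg.Agent.Lib.Helper15.OTLALeaf.InM_iso h ⟨g, hg, rfl⟩
  -- `(s⁻¹)† = μ • s`
  have hadj : adjB G₁ s⁻¹.1 = μ • s.1 := by
    have e1 : s⁻¹.1 * s.1 = 1 := by rw [← Units.val_mul, inv_mul_cancel, Units.val_one]
    calc adjB G₁ s⁻¹.1 = adjB G₁ s⁻¹.1 * (s⁻¹.1 * s.1) := by rw [e1, mul_one]
      _ = (adjB G₁ s⁻¹.1 * s⁻¹.1) * s.1 := by rw [mul_assoc]
      _ = μ • s.1 := by rw [hsim, Matrix.smul_mul, one_mul]
  refine ⟨s, fun k l hkl => ?_⟩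
  have hk2 := Cfsg.Agent.Lib.Helper29.OTLALeaf.cls_le_two (o := o) (o' := o') (p := p) (p' := p') k
  have hcases : cls o o' p p' k = 0 ∨ cls o o' p p' k = 1 ∨ cls o o' p p' k = 2 := by omega
  rcases hcases with hk | hk | hk
  · have hl : cls o o' p p' l = 0 := by rw [← hkl]; exact hk
    have e := Cfsg.Agent.Lib.Helper13.OTLALeaf.T_blocks_dual h.symm1 h.symm2 h.nd1 h.adp hiso k l hk hl
    obtain ⟨c, hc⟩ := h3 (dl o o' p p' l) (dl o o' p p' k)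
      (Cfsg.Agent.Lib.Helper13.OTLALeaf.cls_dl h.adp l hl)
      (Cfsg.Agent.Lib.Helper13.OTLALeaf.cls_dl h.adp k hk)
    refine ⟨c * μ, ?_⟩
    rw [e, hc, Cfsg.Agent.Lib.Helper1.SOTLALeaf.adjB_smul, hadj, smul_smul]
  · exact h1 k l hk (by rw [← hkl]; exact hk)
  · exact h2 k l hk (by rw [← hkl]; exact hk)

end Cfsg.Agent.Lib.Helper19.OTLALeaf
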