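import Cfsg.Agent.Lib.Helper6.Orb.Basic
import Cfsg.Agent.Lib.Helper10.PGroupBasic
import Cfsg.Agent.Lib.Helper15.OrbA1a

/-!
# S4125 orbit lemma, leaf OrbA1: blocks from a normal Klein-type subgroup `E ≅ Z_p × Z_p` of a Sylow `p`-subgroup
-/

set_option autoImplicit false

namespace Cfsg.Agent.Lib.Helper19.OrbLeaf
open Cfsg.Agent.Lib.Helper6.Orb

section GroupLemmas
variable {G : Type*} [Group G]

/-- elements of the closure of two commuting elements -/
theorem exists_zpow_of_mem_closure_pair {y z : G} (h : Commute y z) {e : G}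
    (he : e ∈ Subgroup.closure ({y, z} : Set G)) : ∃ a b : ℤ, e = y ^ a * z ^ b := by
  induction he using Subgroup.closure_induction with
  | mem x hx =>
    rcases hx with rfl | hx
    · exact ⟨1, 0, by simp⟩
    · rw [Set.mem_singleton_iff] at hx
      subst hx
      exact ⟨0, 1, by simp⟩
  | one => exact ⟨0, 0, by simp⟩
  | mul x₁ x₂ _ _ ih₁ ih₂ =>
    obtain ⟨a, b, rfl⟩ := ih₁
    obtain ⟨a', b', rfl⟩ := ih₂
    refine ⟨a + a', b + b', ?_⟩
    have hc : z ^ b * y ^ a' = y ^ a' * z ^ b := ((h.zpow_zpow a' b).eq).symm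
    calc y ^ a * z ^ b * (y ^ a' * z ^ b') = y ^ a * (z ^ b * y ^ a') * z ^ b' := by
          simp only [mul_assoc]
      _ = y ^ a * (y ^ a' * z ^ b) * z ^ b' := by rw [hc]
      _ = y ^ (a + a') * z ^ (b + b') := by
          rw [zpow_add, zpow_add]; simp only [mul_assoc]
  | inv x _ ih =>
    obtain ⟨a, b, rfl⟩ := ih
    refine ⟨-a, -b, ?_⟩
    rw [mul_inv_rev, ← zpow_neg, ← zpow_neg]
    exact ((h.zpow_zpow (-a) (-b)).eq).symm

/-- powers with exponents congruent modulo `n` -/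
theorem zpow_eq_of_dvd_sub {z : G} {n : ℕ} (hz : z ^ n = 1) {a b : ℤ} (hab : (n : ℤ) ∣ a - b) :
    z ^ a = z ^ b := by
  obtain ⟨t, ht⟩ := hab
  have : a = b + n * t := by omega
  rw [this, zpow_add, zpow_mul, zpow_natCast, hz, one_zpow, mul_one]

/-- a root of an element of `zpowers z` of exponent prime to `p` -/
theorem mem_zpowers_of_zpow_mem {p : ℕ} (hp : p.Prime) {y z : G} (hy : y ^ p = 1) {k : ℤ}
    (hk : ¬ (p : ℤ) ∣ k) (h : y ^ k ∈ Subgroup.zpowers z) : y ∈ Subgroup.zpowers z := by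
  have hcop : Int.gcd k p = 1 := by
    have h1 : Nat.Coprime p k.natAbs := (Nat.Prime.coprime_iff_not_dvd hp).2 (by
      intro hd
      exact hk (Int.natCast_dvd.mpr hd))
    rw [Int.gcd_eq_natAbs, Int.natAbs_natCast]
    exact h1.symm
  have hb := Int.gcd_eq_gcd_ab k p
  rw [hcop] at hb
  have hy1 : y = (y ^ k) ^ (Int.gcdA k p) := by
    have : y ^ (1 : ℤ) = y ^ (k * Int.gcdA k p + p * Int.gcdB k p) := by
      rw [← hb]; rfl
    rw [zpow_one, zpow_add, zpow_mul, zpow_mul, zpow_natCast, hy, one_zpow, mul_one] at this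
    exact this
  rw [hy1]
  exact Subgroup.zpow_mem _ h _


/-- two independent elements of order `p` generate a group of order `p ^ 2` -/
theorem closure_pair_eq {p : ℕ} (hp : p.Prime) [Finite G] (E : Subgroup G) (hcard : Nat.card E = p ^ 2)
    {y z : G} (hyE : y ∈ E) (hzE : z ∈ E) (hz : orderOf z = p) (hyz : y ∉ Subgroup.zpowers z) :
    Subgroup.closure ({y, z} : Set G) = E := by
  have hle : Subgroup.closure ({y, z} : Set G) ≤ E := by
    rw [Subgroup.closure_le]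
    intro x hx
    rcases hx with rfl | hx
    · exact hyE
    · rw [Set.mem_singleton_iff] at hx
      subst hx
      exact hzE
  have hzle : Subgroup.zpowers z ≤ Subgroup.closure ({y, z} : Set G) := by
    rw [Subgroup.zpowers_le]
    exact Subgroup.subset_closure (by simp)
  have hd1 : Nat.card (Subgroup.closure ({y, z} : Set G)) ∣ p ^ 2 :=
    hcard ▸ Subgroup.card_dvd_of_le hle
  have hd2 : p ∣ Nat.card (Subgroup.closure ({y, z} : Set G)) := by
    have := Subgroup.card_dvd_of_le hzle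
    rwa [Nat.card_zpowers, hz] at this
  obtain ⟨k, hk2, hk⟩ := (Nat.dvd_prime_pow hp).1 hd1
  have hlt : ¬ Nat.card (Subgroup.closure ({y, z} : Set G)) ≤ Nat.card (Subgroup.zpowers z) := by
    intro hge
    have := Subgroup.eq_of_le_of_card_ge hzle hge
    apply hyz
    rw [this]
    exact Subgroup.subset_closure (by simp)
  rw [Nat.card_zpowers, hz, hk] at hlt
  have hk2' : k = 2 := by
    interval_cases k
    · exfalso; apply hlt; simp; exact hp.one_le
    · exfalso; apply hlt; simp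
    · rfl
  apply Subgroup.eq_of_le_of_card_ge hle
  rw [hcard, hk, hk2']

/-- conjugation by a `p`-element normalizing `E = ⟨y, z⟩` and centralizing `z` translates `y` by a power of `z` -/
theorem conj_eq_mul_pow {p : ℕ} [hp : Fact p.Prime] [Finite G] (E : Subgroup G) (hcard : Nat.card E = p ^ 2)
    (hexp : ∀ e ∈ E, e ^ p = 1)
    {y z : G} (hyE : y ∈ E) (hzE : z ∈ E) (hz1 : z ≠ 1) (hyz : y ∉ Subgroup.zpowers z)
    (hcomm : Commute y z)
    (g : G) (hgE : ∀ e ∈ E, g * e * g⁻¹ ∈ E) (hgz : g * z = z * g) (hgp : ∃ m : ℕ, g ^ (p ^ m) = 1) :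
    ∃ c : ℕ, g * y * g⁻¹ = y * z ^ c := by
  have hyp : y ^ p = 1 := hexp y hyE
  have hzp : z ^ p = 1 := hexp z hzE
  have hz : orderOf z = p := orderOf_eq_prime hzp hz1
  have hcl := closure_pair_eq hp.out E hcard hyE hzE hz hyz
  have he : g * y * g⁻¹ ∈ Subgroup.closure ({y, z} : Set G) := by
    rw [hcl]; exact hgE y hyE
  obtain ⟨a, b, hab⟩ := exists_zpow_of_mem_closure_pair hcomm he
  have hgz' : g * z * g⁻¹ = z := by rw [hgz, mul_inv_cancel_right]
  -- iteration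
  have hiter : ∀ n : ℕ, ∃ bn : ℤ, g ^ n * y * (g ^ n)⁻¹ = y ^ (a ^ n) * z ^ bn := by
    intro n
    induction n with
    | zero => exact ⟨0, by simp⟩
    | succ n ih =>
      obtain ⟨bn, hbn⟩ := ih
      refine ⟨b * a ^ n + bn, ?_⟩
      have h1 : g ^ (n + 1) * y * (g ^ (n + 1))⁻¹ = g * (g ^ n * y * (g ^ n)⁻¹) * g⁻¹ := by
        rw [pow_succ', mul_inv_rev]; simp only [mul_assoc]
      rw [h1, hbn]
      have h2 : g * (y ^ (a ^ n) * z ^ bn) * g⁻¹ = (g * y * g⁻¹) ^ (a ^ n) * (g * z * g⁻¹) ^ bn := by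
        rw [conj_zpow, conj_zpow]; simp only [mul_assoc, inv_mul_cancel_left]
      rw [h2, hab, hgz', (hcomm.zpow_zpow a b).mul_zpow, ← zpow_mul, ← zpow_mul, pow_succ, zpow_add,
        mul_assoc, mul_comm (a ^ n) a]
  obtain ⟨m, hm⟩ := hgp
  obtain ⟨bn, hbn⟩ := hiter (p ^ m)
  rw [hm, one_mul, inv_one, mul_one] at hbn
  -- `a ^ (p ^ m) ≡ 1`
  have hdvd : (p : ℤ) ∣ a ^ (p ^ m) - 1 := by
    by_contra hnd
    apply hyz
    apply mem_zpowers_of_zpow_mem hp.out hyp hnd
    have hA : y ^ (a ^ (p ^ m)) = y * (z ^ bn)⁻¹ := by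
      rw [eq_mul_inv_iff_mul_eq]; exact hbn.symm
    have hc : Commute y (z ^ bn)⁻¹ := (hcomm.zpow_right bn).inv_right
    have : y ^ (a ^ (p ^ m) - 1) = (z ^ bn)⁻¹ := by
      rw [zpow_sub, zpow_one, hA]
      exact hc.mul_inv_cancel
    rw [this]
    exact inv_mem (Subgroup.zpow_mem _ (Subgroup.mem_zpowers z) _)
  have ha1 : (p : ℤ) ∣ a - 1 := by
    have h1 : ((a ^ (p ^ m) - 1 : ℤ) : ZMod p) = 0 := (ZMod.intCast_zmod_eq_zero_iff_dvd _ p).2 hdvd
    have h2 : ((a : ℤ) : ZMod p) ^ (p ^ m) = (a : ZMod p) := ZMod.pow_card_pow (a : ZMod p)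
    rw [← ZMod.intCast_zmod_eq_zero_iff_dvd]
    push_cast at h1 ⊢
    rw [h2] at h1
    exact h1
  have hya : y ^ a = y := by
    have := zpow_eq_of_dvd_sub hyp ha1
    rwa [zpow_one] at this
  refine ⟨(b % p).toNat, ?_⟩
  rw [hab, hya]
  congr 1
  have hpos : (0 : ℤ) < p := by exact_mod_cast hp.out.pos
  have h3 : ((b % p).toNat : ℤ) = b % p := Int.toNat_of_nonneg (Int.emod_nonneg _ hpos.ne')
  rw [← zpow_natCast, h3]
  apply zpow_eq_of_dvd_sub hzp
  exact Int.dvd_self_sub_of_emod_eq rfl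

end GroupLemmas


section Main
universe u v
variable {p q : ℕ} [hp : Fact p.Prime] [hq : Fact q.Prime]
  {H : Type u} {V : Type v} [Group H] [Finite H] [AddCommGroup V] [Finite V] [DistribMulAction H V]
  [FaithfulSMul H V]

/-- the fixed points of an element -/
def fixAdd (x : H) : AddSubgroup V where
  carrier := {w | x • w = w}
  zero_mem' := smul_zero x
  add_mem' := fun {a b} ha hb => by
    change x • (a + b) = a + b
    have ha' : x • a = a := ha
    have hb' : x • b = b := hb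
    rw [smul_add, ha', hb']
  neg_mem' := fun {a} ha => by
    change x • (-a) = -a
    have ha' : x • a = a := ha
    rw [smul_neg, ha']

theorem mem_fixAdd {x : H} {w : V} : w ∈ (fixAdd x : AddSubgroup V) ↔ x • w = w := Iff.rfl

/-- OrbA1: a normal subgroup `E ≅ Z_p × Z_p` of a Sylow `p`-subgroup gives `p` blocks permuted transitively -/
theorem exists_blocks_of_klein (S : Setup p q H V) (hpq : p ≠ q) (P : Sylow p H) (E : Subgroup H)
    (hEP : E ≤ (P : Subgroup H))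
    (hnorm : ∀ g ∈ (P : Subgroup H), ∀ e ∈ E, g * e * g⁻¹ ∈ E) (hcard : Nat.card E = p ^ 2)
    (hexp : ∀ e ∈ E, e ^ p = 1) :
    ∃ W : Fin p → AddSubgroup V, Blocks (P : Subgroup H) W := by
  classical
  have hp1 : 1 < p := hp.out.one_lt
  have hPp : IsPGroup p (P : Subgroup H) := P.isPGroup'
  have hEn : (E.subgroupOf (P : Subgroup H)).Normal := by
    constructor
    intro n hn g
    rw [Subgroup.mem_subgroupOf] at hn ⊢
    have := hnorm g g.2 n hn
    simpa using this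
  have hEne : E.subgroupOf (P : Subgroup H) ≠ ⊥ := by
    intro h
    have h1 : Nat.card (E.subgroupOf (P : Subgroup H)) = 1 := by rw [h]; exact Subgroup.card_bot
    rw [Nat.card_congr (Subgroup.subgroupOfEquivOfLe hEP).toEquiv, hcard] at h1
    nlinarith
  obtain ⟨z0, hz0E, hz0c, hz01⟩ :=
    Cfsg.Agent.Lib.Helper10.exists_mem_center_of_normal_ne_bot p hPp (E.subgroupOf (P : Subgroup H)) hEne
  obtain ⟨z, hzP⟩ := z0
  have hzE : z ∈ E := Subgroup.mem_subgroupOf.mp hz0E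
  have hzc : ∀ g ∈ (P : Subgroup H), g * z = z * g := by
    intro g hg
    have := (Subgroup.mem_center_iff.mp hz0c) ⟨g, hg⟩
    exact congrArg Subtype.val this
  have hz1 : z ≠ 1 := by
    intro h
    apply hz01
    exact Subtype.ext h
  have hzfix : ∀ v : V, z • v = v → v = 0 := fun v hv => S.fixed_eq_zero P hzc hz1 hv
  have hzp : z ^ p = 1 := hexp z hzE
  have hzo : orderOf z = p := orderOf_eq_prime hzp hz1
  obtain ⟨y, hyE, hyz⟩ : ∃ y ∈ E, y ∉ Subgroup.zpowers z := by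
    by_contra hcon
    push Not at hcon
    have hle : E ≤ Subgroup.zpowers z := fun e he => hcon e he
    have := Subgroup.card_le_of_le hle
    rw [hcard, Nat.card_zpowers, hzo] at this
    nlinarith
  have hyp : y ^ p = 1 := hexp y hyE
  have hyP : y ∈ (P : Subgroup H) := hEP hyE
  have hcomm : Commute y z := hzc y hyP
  have htrans : ∀ g ∈ (P : Subgroup H), ∃ c : ℕ, g * y * g⁻¹ = y * z ^ c := by
    intro g hg
    apply conj_eq_mul_pow E hcard hexp hyE hzE hz1 hyz hcomm g (hnorm g hg) (hzc g hg)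
    obtain ⟨m, hm⟩ := hPp ⟨g, hg⟩
    exact ⟨m, by simpa using congrArg Subtype.val hm⟩
  let W : Fin p → AddSubgroup V := fun i => fixAdd (y * z ^ (i : ℕ))
  obtain ⟨hind, hspan⟩ := Cfsg.Agent.Lib.Helper15.OrbLeaf.klein_decomp S hpq y z hcomm hyp hzp hzfix
  have hkey : ∀ g ∈ (P : Subgroup H), ∀ c : ℕ, g * y * g⁻¹ = y * z ^ c → ∀ (i j : Fin p),
      (j : ℕ) = ((i : ℕ) + c) % p → ∀ w ∈ W i, g • w ∈ W j := by
    intro g hg c hc i j hj w hw
    change (y * z ^ (j : ℕ)) • (g • w) = g • w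
    have hw' : (y * z ^ (i : ℕ)) • w = w := hw
    have hgz : Commute g z := hzc g hg
    have hzg : ∀ n : ℕ, z ^ n * g = g * z ^ n := fun n => (hgz.pow_right n).eq.symm
    have h1 : y * z ^ (j : ℕ) = y * z ^ c * z ^ (i : ℕ) := by
      rw [hj, ← pow_eq_pow_mod _ hzp, mul_assoc, ← pow_add, add_comm]
    have h2 : y * z ^ c * z ^ (i : ℕ) * g = g * (y * z ^ (i : ℕ)) := by
      rw [← hc, mul_assoc, hzg, ← mul_assoc, inv_mul_cancel_right, mul_assoc]
    rw [← mul_smul, h1, h2, mul_smul, hw']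
  -- `V` is not trivial
  obtain ⟨v0, hv0⟩ : ∃ v : V, v ≠ 0 := by
    by_contra hcon
    push Not at hcon
    apply hz1
    apply eq_of_smul_eq_smul (α := V)
    intro w
    rw [hcon w, smul_zero, smul_zero]
  obtain ⟨i₀, w₀, hw₀, hw₀0⟩ : ∃ i₀ : Fin p, ∃ w ∈ W i₀, w ≠ 0 := by
    obtain ⟨f, hf, hsum⟩ := hspan v0
    by_contra hcon
    push Not at hcon
    apply hv0
    rw [← hsum]
    apply Finset.sum_eq_zero
    intro i _
    exact hcon i (f i) (hf i)
  by_cases hA : ∃ g₀ ∈ (P : Subgroup H), ∃ c₀ : ℕ, g₀ * y * g₀⁻¹ = y * z ^ c₀ ∧ ¬ p ∣ c₀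
  · obtain ⟨g₀, hg₀, c₀, hc₀, hpc₀⟩ := hA
    have hg₀z : Commute g₀ z := hzc g₀ hg₀
    have hpow : ∀ k : ℕ, g₀ ^ k * y * (g₀ ^ k)⁻¹ = y * z ^ (k * c₀) := by
      intro k
      induction k with
      | zero => simp
      | succ k ih =>
        have h1 : g₀ ^ (k + 1) * y * (g₀ ^ (k + 1))⁻¹ = g₀ * (g₀ ^ k * y * (g₀ ^ k)⁻¹) * g₀⁻¹ := by
          rw [pow_succ', mul_inv_rev]; simp only [mul_assoc]
        have h3 : z ^ (k * c₀) * g₀⁻¹ = g₀⁻¹ * z ^ (k * c₀) :=
          ((hg₀z.pow_right (k * c₀)).inv_left).eq.symm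
        rw [h1, ih]
        calc g₀ * (y * z ^ (k * c₀)) * g₀⁻¹ = g₀ * y * (z ^ (k * c₀) * g₀⁻¹) := by
              simp only [mul_assoc]
          _ = g₀ * y * g₀⁻¹ * z ^ (k * c₀) := by rw [h3]; simp only [mul_assoc]
          _ = y * z ^ ((k + 1) * c₀) := by
              rw [hc₀, mul_assoc, ← pow_add, add_mul, one_mul, add_comm]
    have hc0 : ((c₀ : ℕ) : ZMod p) ≠ 0 := by
      rw [Ne, ZMod.natCast_eq_zero_iff]
      exact hpc₀
    have htr : ∀ i j : Fin p, ∃ g ∈ (P : Subgroup H), ∀ w ∈ W i, g • w ∈ W j := by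
      intro i j
      let k : ℕ := ((((j : ℕ) : ZMod p) - ((i : ℕ) : ZMod p)) * ((c₀ : ℕ) : ZMod p)⁻¹).val
      refine ⟨g₀ ^ k, pow_mem hg₀ k, hkey _ (pow_mem hg₀ k) (k * c₀) (hpow k) i j ?_⟩
      have h3 : (((i : ℕ) + k * c₀ : ℕ) : ZMod p) = ((j : ℕ) : ZMod p) := by
        push_cast
        rw [ZMod.natCast_zmod_val, mul_assoc, inv_mul_cancel₀ hc0, mul_one]
        ring
      have h4 := (ZMod.natCast_eq_natCast_iff' _ _ _).mp h3
      rw [h4, Nat.mod_eq_of_lt j.2]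
    refine ⟨W, ⟨hind, hspan, ?_, htr, ?_⟩⟩
    · intro g hg i
      obtain ⟨c, hc⟩ := htrans g hg
      exact ⟨⟨((i : ℕ) + c) % p, Nat.mod_lt _ hp.out.pos⟩, hkey g hg c hc i _ rfl⟩
    · intro j hj
      obtain ⟨g, hg, hgW⟩ := htr i₀ j
      have := hgW w₀ hw₀
      rw [hj, AddSubgroup.mem_bot, smul_eq_zero_iff_eq] at this
      exact hw₀0 this
  · exfalso
    push Not at hA
    have hinv : ∀ i : Fin p, ∀ g ∈ (P : Subgroup H), ∀ w ∈ W i, g • w ∈ W i := by
      intro i g hg w hw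
      obtain ⟨c, hc⟩ := htrans g hg
      have hd := hA g hg c hc
      refine hkey g hg c hc i i ?_ w hw
      rw [Nat.add_mod, Nat.mod_eq_zero_of_dvd hd, Nat.add_zero, Nat.mod_mod, Nat.mod_eq_of_lt i.2]
    rcases S.sylow_irr P (W i₀) (hinv i₀) with h0 | h1
    · apply hw₀0
      have := hw₀
      rw [h0, AddSubgroup.mem_bot] at this
      exact this
    · apply hyz
      have hone : y * z ^ (i₀ : ℕ) = 1 := by
        apply eq_of_smul_eq_smul (α := V)
        intro w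
        rw [one_smul]
        have : w ∈ W i₀ := h1 ▸ AddSubgroup.mem_top w
        exact this
      have : y = (z ^ (i₀ : ℕ))⁻¹ := eq_inv_of_mul_eq_one_left hone
      rw [this]
      exact inv_mem (pow_mem (Subgroup.mem_zpowers z) _)

end Main

end Cfsg.Agent.Lib.Helper19.OrbLeaf
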