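import Mathlib
import Cfsg.Agent.Lib.Helper19.Ord720B

/-!
# No simple group of order 720 (helper19)

`720 = 2^4 * 3^2 * 5`.  The number of Sylow `5`-subgroups is `6`, `16` or `36`.
* `6`: `C(P)` has even order, and an involution of `C(P)` has an impossible number of fixed points on the
  `6` cosets of `N(P)`.
* `16`: `N(P) = C(P)` (Burnside).
* `36` with `|C(P)| = 10`: the involution `t` of `C(P)` has `16` fixed points on the cosets of `N(P)`,
  `C(t) = N(P)`, and `N(P)` would contain `16` conjugates of `t`.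
* `36` with `C(P) = P`: part B (`case36_main`).
-/

set_option autoImplicit false
set_option linter.unusedSectionVars false
set_option linter.style.haveILetI false

namespace Cfsg.Agent.Lib.Helper19.Ord720

open MulAction Cfsg Cfsg.Agent.Lib.Helper8.SmallSimple Cfsg.Agent.Lib.Helper8.SmallSimple2
  Cfsg.Agent.Lib.Helper7 Cfsg.Agent.Lib.Helper19.Ord4032

universe u

variable {G : Type u} [Group G] [Finite G]

/-- the case of `6` Sylow `5`-subgroups -/
theorem case6 [IsSimpleGroup G] (hG2 : 2 < Nat.card G) [Fact (Nat.Prime 5)] (P : Sylow 5 G)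
    (hP : Nat.card ↥(P : Subgroup G) = 5)
    (hidx : (Subgroup.normalizer ((P : Subgroup G) : Set G)).index = 6)
    (h2 : 2 ∣ Nat.card ↥(Subgroup.centralizer ((P : Subgroup G) : Set G))) : False := by
  set N := Subgroup.normalizer ((P : Subgroup G) : Set G) with hN
  have hNtop : N ≠ ⊤ := by
    intro h
    rw [h, Subgroup.index_top] at hidx
    omega
  obtain ⟨t, htC, ht⟩ := exists_invol_mem _ h2
  obtain ⟨h1, ⟨s, ⟨k, hk⟩, hs⟩, h3⟩ := invol_fix_data hG2 P hP hNtop t htC ht
  rw [← hN, hidx] at hs h3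
  rw [← hN] at h1
  omega

/-- the case of `36` Sylow `5`-subgroups with `|C(P)| = 10` -/
theorem case36A [IsSimpleGroup G] (hG : Nat.card G = 720)
    [Fact (Nat.Prime 5)] (P : Sylow 5 G)
    (hP : Nat.card ↥(P : Subgroup G) = 5)
    (hNc : Nat.card ↥(Subgroup.normalizer ((P : Subgroup G) : Set G)) = 20)
    (hCc : Nat.card ↥(Subgroup.centralizer ((P : Subgroup G) : Set G)) = 10) : False := by
  set N := Subgroup.normalizer ((P : Subgroup G) : Set G) with hN
  set C := Subgroup.centralizer ((P : Subgroup G) : Set G) with hC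
  have hG2 : 2 < Nat.card G := by rw [hG]; norm_num
  have hidx : N.index = 36 := by
    have := N.card_mul_index
    rw [hNc, hG] at this
    omega
  have hNtop : N ≠ ⊤ := by
    intro h
    rw [h, Subgroup.index_top] at hidx
    omega
  obtain ⟨t, htC, ht⟩ := exists_invol_mem C (by rw [hCc]; norm_num)
  have huniq : ∀ s ∈ C, orderOf s = 2 → s = t := fun s hs hs2 =>
    invol_unique_of_card (p := 5) (by norm_num) (P : Subgroup G) hP (by rw [← hC, hCc]) s t hs htC
      hs2 ht
  set M := Subgroup.centralizer ({t} : Set G) with hMdef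
  have hNM : N ≤ M := by
    intro n hn
    have h1 : n * t * n⁻¹ ∈ C := conj_mem_centralizer_of_mem_normalizer (P : Subgroup G) hn htC
    have h2 : orderOf (n * t * n⁻¹) = 2 := by
      have := MulEquiv.orderOf_eq (MulAut.conj n) t
      rw [MulAut.conj_apply] at this
      rw [this, ht]
    have h3 := huniq _ h1 h2
    rw [hMdef, Subgroup.mem_centralizer_singleton_iff]
    calc n * t = n * t * n⁻¹ * n := by group
      _ = t * n := by rw [h3]
  have hPM : (P : Subgroup G) ≤ M := (Subgroup.le_normalizer (H := (P : Subgroup G))).trans hNM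
  have hcount := card_sylow_subgroup_mul P M hPM
  rw [← hN, inf_eq_left.mpr hNM, hNc] at hcount
  have hmodM : Nat.card (Sylow 5 ↥M) % 5 = 1 := by
    have := card_sylow_modEq_one 5 ↥M
    unfold Nat.ModEq at this
    omega
  have hMdvd : Nat.card ↥M ∣ 720 := by
    rw [← hG]; exact Subgroup.card_subgroup_dvd_card M
  obtain ⟨h1, ⟨s, ⟨k, hk⟩, hs⟩, h3⟩ := invol_fix_data hG2 P hP hNtop t htC ht
  rw [← hN, hidx] at hs h3
  rw [← hN] at h1
  have hf : Nat.card (fixedBy (G ⧸ N) t) = 16 := by omega
  have hformula := card_fixedBy_mul_card N t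
  rw [hf, hNc, ← hMdef] at hformula
  have hMdvd2 : Nat.card ↥M ∣ 16 * 20 := by rw [hformula]; exact dvd_mul_left _ _
  have hfin : ∀ a : ℕ, a ≤ 16 → (a * 20) ∣ 16 * 20 → (a * 20) ∣ 720 → a % 5 = 1 → a = 1 := by
    intro a ha h1 h2 h3
    interval_cases a <;> first | rfl | omega | (exfalso; revert h1 h2; decide)
  have hMle : Nat.card ↥M ≤ 320 := Nat.le_of_dvd (by norm_num) hMdvd2
  have ha1 : Nat.card (Sylow 5 ↥M) = 1 := by
    apply hfin _ (by omega) _ _ hmodM
    · rw [hcount]; exact hMdvd2
    · rw [hcount]; exact hMdvd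
  rw [ha1, one_mul] at hcount
  rw [← hcount] at hformula
  have hk' : Nat.card {s : G // s ∈ N ∧ IsConj t s} = 16 := by omega
  have hle := card_conj_invol_le (p := 5) (P : Subgroup G) hP t ht huniq
  rw [← hN, ← hC, hk', hCc] at hle
  omega

end Cfsg.Agent.Lib.Helper19.Ord720

namespace Cfsg.Agent.Lib.Helper19.Ord720

open Cfsg.Agent.Lib.Helper7 Cfsg.Agent.Lib.Helper8.SmallSimple2

/-- **No simple group has order `720 = 2^4 * 3^2 * 5`.** -/
theorem no_simple_720 {G : Type*} [Group G] [Finite G] [IsSimpleGroup G] : Nat.card G ≠ 720 := by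
  intro hG
  have hnc : ¬ IsMulCommutative G := by
    apply not_comm_of_card_not_prime
    rw [hG]; norm_num
  have hG2 : 2 < Nat.card G := by rw [hG]; norm_num
  haveI : Fact (Nat.Prime 5) := ⟨by norm_num⟩
  obtain ⟨P⟩ : Nonempty (Sylow 5 G) := inferInstance
  obtain ⟨hP, n, k, c, r, hn, hNc, hCc, hr, hnk, hcr, hmod, hn1, hr4, hr1, hidx, hfac⟩ :=
    sylow_prime_data hnc (p := 5) (m := 144) (by rw [hG]) (by norm_num) P
  have hkpos : 0 < k := by
    rcases Nat.eq_zero_or_pos k with h | h
    · rw [h] at hnk; omega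
    · exact h
  have hnle : n ≤ 144 := by
    calc n ≤ n * k := Nat.le_mul_of_pos_right _ hkpos
      _ = 144 := hnk
  have hndvd : n ∣ 144 := ⟨k, hnk.symm⟩
  have hcases : n = 6 ∨ n = 16 ∨ n = 36 := by
    clear hfac hidx hn
    interval_cases n <;> first | omega | (exfalso; revert hndvd; decide)
  have hr' : r = 2 ∨ r = 4 := by
    have hle := Nat.le_of_dvd (by norm_num) hr4
    have : r ∣ 4 := hr4
    interval_cases r <;> simp_all
  rcases hcases with h | h | h
  · rw [h] at hnk hidx
    have hk24 : k = 24 := by omega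
    rw [hk24] at hcr
    apply case6 hG2 P hP hidx
    rw [hCc]
    rcases hr' with h' | h'
    · rw [h'] at hcr
      have hc12 : c = 12 := by omega
      rw [hc12]; norm_num
    · rw [h'] at hcr
      have hc6 : c = 6 := by omega
      rw [hc6]; norm_num
  · rw [h] at hnk
    have hk9 : k = 9 := by omega
    rw [hk9] at hcr
    rcases hr' with h' | h' <;> rw [h'] at hcr <;> omega
  · rw [h] at hnk
    have hk4 : k = 4 := by omega
    rw [hk4] at hcr hNc
    rcases hr' with h' | h'
    · rw [h'] at hcr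
      have hc2 : c = 2 := by omega
      rw [hc2] at hCc
      exact case36A hG P hP hNc hCc
    · rw [h'] at hcr
      have hc1 : c = 1 := by omega
      rw [hc1] at hCc
      exact case36_main hnc hG P hP hNc hCc

end Cfsg.Agent.Lib.Helper19.Ord720
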