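/-
Helper19 library: encodings of self-maps of eight points (lists of images) for kernel computations with permutations.
-/
import Mathlib

set_option autoImplicit false

namespace Cfsg.Agent.Lib.Helper19.P8Enc

/-- decoding of a list of images as a self-map of eight points. -/
def decP8 (a : List ℕ) : Fin 8 → Fin 8 := fun k => Fin.ofNat 8 (a.getD k.val 0)

/-- composition of encoded self-maps. -/
def mulP8 (a b : List ℕ) : List ℕ :=
  [a.getD (b.getD 0 0 % 8) 0, a.getD (b.getD 1 0 % 8) 0, a.getD (b.getD 2 0 % 8) 0,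
   a.getD (b.getD 3 0 % 8) 0, a.getD (b.getD 4 0 % 8) 0, a.getD (b.getD 5 0 % 8) 0,
   a.getD (b.getD 6 0 % 8) 0, a.getD (b.getD 7 0 % 8) 0]

theorem decP8_mul (a b : List ℕ) : decP8 (mulP8 a b) = decP8 a ∘ decP8 b := by
  funext k
  fin_cases k <;> rfl

/-- the identity map. -/
def ID8 : List ℕ := [0, 1, 2, 3, 4, 5, 6, 7]

theorem decP8_one : decP8 ID8 = id := by
  funext k
  fin_cases k <;> rfl

/-- the list of images of a self-map. -/
def encP8 (f : Fin 8 → Fin 8) : List ℕ :=
  [(f 0).val, (f 1).val, (f 2).val, (f 3).val, (f 4).val, (f 5).val, (f 6).val, (f 7).val]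

/-- the permutation with given images and given images of the inverse. -/
def permOf (a b : List ℕ) (h1 : mulP8 b a = ID8) (h2 : mulP8 a b = ID8) : Equiv.Perm (Fin 8) where
  toFun := decP8 a
  invFun := decP8 b
  left_inv := by
    intro k
    have := congrFun (decP8_mul b a) k
    rw [h1, decP8_one] at this
    exact this.symm
  right_inv := by
    intro k
    have := congrFun (decP8_mul a b) k
    rw [h2, decP8_one] at this
    exact this.symm

theorem coe_permOf (a b : List ℕ) (h1 : mulP8 b a = ID8) (h2 : mulP8 a b = ID8) :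
    ⇑(permOf a b h1 h2) = decP8 a := rfl

theorem coe_perm_injective : Function.Injective (fun σ : Equiv.Perm (Fin 8) => (⇑σ : Fin 8 → Fin 8)) :=
  fun _ _ h => Equiv.ext (congrFun h)

end Cfsg.Agent.Lib.Helper19.P8Enc
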