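import Mathlib
import Cfsg.Agent.S0677
import Cfsg.Agent.Lib.Helper5.PrimeDeg

/-!
# Permutation groups of prime degree `p` with `|N(P)| = 2p` (helper19), part A

Basic facts on a faithful action of a group on a set with a prime number `p` of points:
elements of order `p` are regular, self-centralizing; elements with a fixed point are `p`-regular.
-/

set_option autoImplicit false

namespace Cfsg.Agent.Lib.Helper19.PDeg

open MulAction

variable {G : Type*} [Group G] {α : Type*} [Fintype α] [DecidableEq α] [MulAction G α]
  [FaithfulSMul G α] {p : ℕ} [hp : Fact p.Prime]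

/-- an element of order `p` has no fixed point -/
theorem smul_ne_of_orderOf_eq (hα : Fintype.card α = p) (x : G) (hx : orderOf x = p) (u : α) :
    x • u ≠ u := by
  intro hu
  have hinj : Function.Injective (MulAction.toPermHom G α) := MulAction.toPerm_injective
  have hσ : orderOf (MulAction.toPermHom G α x) = p := by
    rw [orderOf_injective _ hinj, hx]
  obtain ⟨e, he⟩ := Cfsg.Agent.Lib.Helper5.PrimeDeg.exists_equiv hα _ hσ
  have h1 := he (e.symm u)
  rw [Equiv.apply_symm_apply] at h1
  have h2 : (MulAction.toPermHom G α x) u = u := hu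
  rw [h2] at h1
  have h3 := e.injective (h1.trans (e.apply_symm_apply u).symm)
  have h4 : (1 : ZMod p) = 0 := by simpa using h3
  have : Fact (1 < p) := ⟨hp.out.one_lt⟩
  exact one_ne_zero h4

/-- an element with a fixed point is `p`-regular -/
theorem not_dvd_orderOf_of_smul_eq (hα : Fintype.card α = p) (g : G) (u : α) (hg : g • u = u) :
    ¬ p ∣ orderOf g := by
  intro hdvd
  have hpos : 0 < orderOf g := by
    rw [← orderOf_injective (MulAction.toPermHom G α) MulAction.toPerm_injective g]
    exact orderOf_pos _
  have hx : orderOf (g ^ (orderOf g / p)) = p := orderOf_pow_orderOf_div hpos.ne' hdvd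
  have hfix : (g ^ (orderOf g / p)) • u = u := by
    have : g ∈ stabilizer G u := hg
    exact Subgroup.pow_mem _ this _
  exact smul_ne_of_orderOf_eq hα _ hx u hfix

/-- an element commuting with an element of order `p` is a power of it -/
theorem mem_zpowers_of_commute (hα : Fintype.card α = p) (x : G) (hx : orderOf x = p) (g : G)
    (hg : Commute g x) : g ∈ Subgroup.zpowers x := by
  have hpos : 0 < Fintype.card α := by rw [hα]; exact hp.out.pos
  obtain ⟨u₀⟩ : Nonempty α := Fintype.card_pos_iff.mp hpos
  have hfix := smul_ne_of_orderOf_eq hα x hx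
  obtain ⟨c, hc⟩ := Cfsg.Agent.S0677.exists_zpow_smul_eq hα x hx hfix u₀ (g • u₀)
  have : g = x ^ c := by
    apply FaithfulSMul.eq_of_smul_eq_smul (α := α)
    intro u
    obtain ⟨i, hi⟩ := Cfsg.Agent.S0677.exists_zpow_smul_eq hα x hx hfix u₀ u
    rw [← hi, smul_smul, (hg.zpow_right i).eq, ← smul_smul, ← hc, smul_smul, smul_smul,
      ← zpow_add, ← zpow_add, add_comm]
  rw [this]
  exact Subgroup.zpow_mem_zpowers x c

end Cfsg.Agent.Lib.Helper19.PDeg
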