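import Mathlib
import Cfsg.Agent.Lib.Helper19.PDegC
import Cfsg.Agent.Lib.Lead.PermChar
import Cfsg.Agent.Lib.Helper24.AbelianBound

/-!
# Permutation groups of prime degree `p` with `|N(P)| = 2p` (helper19), part D

Burnside counts of fixed injective tuples, and the lower bound for the number of orbits on
injective quadruples coming from the decomposition of `χ²`.
-/

set_option autoImplicit false
set_option linter.unusedSectionVars false
set_option linter.style.haveILetI false

namespace Cfsg.Agent.Lib.Helper19.PDeg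

open Cfsg Cfsg.Agent.CharLib Cfsg.Agent.Lib.Helper24 Cfsg.Agent.Lib.Helper6 MulAction
open scoped ComplexConjugate

universe u v

section counts

variable {G : Type u} [Group G] {α : Type v} [Fintype α] [DecidableEq α] [MulAction G α]

/-- embeddings fixed by `g` are embeddings into the fixed points of `g` -/
def fixedEmbEquiv (k : ℕ) (g : G) : fixedBy (Fin k ↪ α) g ≃ (Fin k ↪ fixedBy α g) where
  toFun x := ⟨fun i => ⟨x.1 i, by
      have h := x.2
      rw [MulAction.mem_fixedBy] at h ⊢
      rw [← Function.Embedding.smul_apply, h]⟩, fun i j hij => x.1.injective (by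
      have := congrArg Subtype.val hij
      exact this)⟩
  invFun e := ⟨⟨fun i => (e i).1, fun i j hij => e.injective (Subtype.ext hij)⟩, by
      rw [MulAction.mem_fixedBy]
      ext i
      rw [Function.Embedding.smul_apply]
      exact (e i).2⟩
  left_inv x := by
    apply Subtype.ext
    ext i
    rfl
  right_inv e := by
    ext i
    rfl

theorem card_fixedBy_emb (k : ℕ) (g : G) :
    Nat.card (fixedBy (Fin k ↪ α) g) = (Nat.card (fixedBy α g)).descFactorial k := by
  classical
  rw [Nat.card_congr (fixedEmbEquiv k g), Nat.card_eq_fintype_card, Fintype.card_embedding_eq,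
    Fintype.card_fin, Nat.card_eq_fintype_card]

/-- Burnside's lemma for injective `k`-tuples -/
theorem sum_descFactorial [Fintype G] (k : ℕ) :
    ∑ g : G, (((Nat.card (fixedBy α g)).descFactorial k : ℕ) : ℂ) =
      (Nat.card (orbitRel.Quotient G (Fin k ↪ α)) : ℂ) * (Nat.card G : ℂ) := by
  rw [← sum_card_fixedBy (G := G) (X := Fin k ↪ α)]
  apply Finset.sum_congr rfl
  intro g _
  rw [card_fixedBy_emb]

theorem card_orbits_emb_eq_one (k : ℕ) (hk : k ≤ Fintype.card α)
    (h : IsMultiplyPretransitive G α k) :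
    Nat.card (orbitRel.Quotient G (Fin k ↪ α)) = 1 := by
  have hne : Nonempty (Fin k ↪ α) := by
    rw [Function.Embedding.nonempty_iff_card_le, Fintype.card_fin]
    exact hk
  have h' : IsPretransitive G (Fin k ↪ α) := h
  have : Unique (orbitRel.Quotient G (Fin k ↪ α)) :=
    ((MulAction.pretransitive_iff_unique_quotient_of_nonempty G (Fin k ↪ α)).mp h').some
  exact Nat.card_unique

theorem cast_descFactorial_one (n : ℕ) : ((n.descFactorial 1 : ℕ) : ℂ) = n := by
  simp

theorem cast_descFactorial_two (n : ℕ) : ((n.descFactorial 2 : ℕ) : ℂ) = n * (n - 1) := by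
  rcases n with _ | _ | n
  · simp
  · simp
  · simp only [Nat.descFactorial]
    push_cast
    ring

theorem cast_descFactorial_three (n : ℕ) :
    ((n.descFactorial 3 : ℕ) : ℂ) = n * (n - 1) * (n - 2) := by
  rcases n with _ | _ | _ | n
  · simp
  · simp
  · simp [Nat.descFactorial]
  · simp only [Nat.descFactorial]
    push_cast
    ring

theorem cast_descFactorial_four (n : ℕ) :
    ((n.descFactorial 4 : ℕ) : ℂ) = n * (n - 1) * (n - 2) * (n - 3) := by
  rcases n with _ | _ | _ | _ | n
  · simp
  · simp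
  · simp [Nat.descFactorial]
  · simp [Nat.descFactorial]
  · simp only [Nat.descFactorial]
    push_cast
    ring

end counts

section norm

variable {G : Type u} [Group G] [Finite G] {α : Type v} [Fintype α] [DecidableEq α] [MulAction G α]
  {p : ℕ} [hp : Fact p.Prime]
  {P : Subgroup G} {χ χ₁ : IrrCharacter G} {Y : Finset (IrrCharacter G)}

/-- the multiplicity of an irreducible character in a decomposition -/
theorem classInner_decomp [Fintype G] [Fintype (IrrCharacter G)] (m : IrrCharacter G → ℕ)
    (ψ₀ : IrrCharacter G) :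
    classInner (∑ ψ : IrrCharacter G, m ψ • (ψ : G → ℂ)) (ψ₀ : G → ℂ) = (m ψ₀ : ℂ) := by
  classical
  rw [classInner_sum_left, Finset.sum_eq_single ψ₀]
  · rw [← Nat.cast_smul_eq_nsmul ℂ, classInner_smul_left, classInner_irr', if_pos rfl, mul_one]
  · intro b _ hb
    rw [← Nat.cast_smul_eq_nsmul ℂ, classInner_smul_left, classInner_irr', if_neg hb, mul_zero]
  · intro h
    exact absurd (Finset.mem_univ _) h

/-- **Lower bound for the number of orbits on injective quadruples.** -/
theorem BlockData.r4_ge (h : BlockData p P χ χ₁ Y) (hp5 : 5 ≤ p) (hα : Fintype.card α = p)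
    (hχ : ∀ g : G, (χ : G → ℂ) g = (Nat.card (fixedBy α g) : ℂ) - 1)
    (h3 : IsMultiplyPretransitive G α 3)
    (hreg : ∀ (g : G) (u : α), g • u = u → ¬ p ∣ orderOf g) :
    (p - 1) / 2 ≤ Nat.card (orbitRel.Quotient G (Fin 4 ↪ α)) := by
  classical
  letI : Fintype G := Fintype.ofFinite G
  letI : Fintype (IrrCharacter G) := fintypeIrr G
  have hGne : (Nat.card G : ℂ) ≠ 0 := card_ne_zero_complex
  set f : G → ℕ := fun g => Nat.card (fixedBy α g) with hf
  set r4 := Nat.card (orbitRel.Quotient G (Fin 4 ↪ α)) with hr4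
  have h2 : IsMultiplyPretransitive G α 2 := isMultiplyPretransitive_of_le (n := 3) (by norm_num)
    (by rw [Nat.card_eq_fintype_card, hα]; omega)
  have h1 : IsMultiplyPretransitive G α 1 := isMultiplyPretransitive_of_le (n := 3) (by norm_num)
    (by rw [Nat.card_eq_fintype_card, hα]; omega)
  have hS1 : ∑ g : G, ((f g : ℕ) : ℂ) = (Nat.card G : ℂ) := by
    have := sum_descFactorial (G := G) (α := α) 1
    rw [card_orbits_emb_eq_one 1 (by omega) h1, Nat.cast_one, one_mul] at this
    rw [← this]
    apply Finset.sum_congr rfl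
    intro g _
    rw [cast_descFactorial_one]
  have hS2 : ∑ g : G, ((f g : ℂ) * ((f g : ℂ) - 1)) = (Nat.card G : ℂ) := by
    have := sum_descFactorial (G := G) (α := α) 2
    rw [card_orbits_emb_eq_one 2 (by omega) h2, Nat.cast_one, one_mul] at this
    rw [← this]
    apply Finset.sum_congr rfl
    intro g _
    rw [cast_descFactorial_two]
  have hS3 : ∑ g : G, ((f g : ℂ) * ((f g : ℂ) - 1) * ((f g : ℂ) - 2)) = (Nat.card G : ℂ) := by
    have := sum_descFactorial (G := G) (α := α) 3
    rw [card_orbits_emb_eq_one 3 (by omega) h3, Nat.cast_one, one_mul] at this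
    rw [← this]
    apply Finset.sum_congr rfl
    intro g _
    rw [cast_descFactorial_three]
  have hS4 : ∑ g : G, ((f g : ℂ) * ((f g : ℂ) - 1) * ((f g : ℂ) - 2) * ((f g : ℂ) - 3)) =
      (r4 : ℂ) * (Nat.card G : ℂ) := by
    have := sum_descFactorial (G := G) (α := α) 4
    rw [← this]
    apply Finset.sum_congr rfl
    intro g _
    rw [cast_descFactorial_four]
  have hcard : ∑ _g : G, (1 : ℂ) = (Nat.card G : ℂ) := by
    rw [Finset.sum_const, Finset.card_univ, nsmul_eq_mul, mul_one, Nat.card_eq_fintype_card]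
  have hconj : ∀ g : G, conj ((χ : G → ℂ) g) = (χ : G → ℂ) g := by
    intro g
    rw [hχ g, map_sub, Complex.conj_natCast, map_one]
  -- the square of `χ`
  set Q : G → ℂ := fun g => (χ : G → ℂ) g * (χ : G → ℂ) g with hQ
  have hQc : IsCharacter G Q :=
    IsCharacter.mul (IsIrrCharacter.isCharacter χ.2) (IsIrrCharacter.isCharacter χ.2)
  obtain ⟨m, hm⟩ := IsCharacter.exists_decomp hQc
  rw [finsum_eq_sum_of_fintype] at hm
  have hmul : ∀ ψ₀ : IrrCharacter G, classInner Q (ψ₀ : G → ℂ) = (m ψ₀ : ℂ) := by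
    intro ψ₀
    rw [hm]
    exact classInner_decomp m ψ₀
  -- multiplicity of the trivial character
  have hm1 : m χ₁ = 1 := by
    have : classInner Q (χ₁ : G → ℂ) = 1 := by
      unfold classInner
      rw [h.triv]
      have : ∑ g : G, Q g * conj ((fun _ : G => (1 : ℂ)) g) =
          ∑ g : G, ((f g : ℂ) * ((f g : ℂ) - 1)) - ∑ g : G, ((f g : ℕ) : ℂ) + ∑ _g : G, (1 : ℂ) := by
        rw [← Finset.sum_sub_distrib, ← Finset.sum_add_distrib]
        apply Finset.sum_congr rfl
        intro g _
        simp only [hQ, map_one, mul_one]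
        rw [hχ g]
        ring
      rw [this, hS1, hS2, hcard]
      field_simp
      ring
    rw [hmul] at this
    exact_mod_cast this
  have hm2 : m χ = 1 := by
    have : classInner Q (χ : G → ℂ) = 1 := by
      unfold classInner
      have : ∑ g : G, Q g * conj ((χ : G → ℂ) g) =
          ∑ g : G, ((f g : ℂ) * ((f g : ℂ) - 1) * ((f g : ℂ) - 2)) + ∑ g : G, ((f g : ℕ) : ℂ)
            - ∑ _g : G, (1 : ℂ) := by
        rw [← Finset.sum_add_distrib, ← Finset.sum_sub_distrib]
        apply Finset.sum_congr rfl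
        intro g _
        simp only [hQ]
        rw [hconj g, hχ g]
        ring
      rw [this, hS1, hS3, hcard]
      field_simp
      ring
    rw [hmul] at this
    exact_mod_cast this
  have hmY : ∀ η ∈ Y, m η = 1 := by
    intro η hη
    have hηχ : η ≠ χ := fun e => h.not_mem (e ▸ hη)
    have hinner : classInner (χ : G → ℂ) (η : G → ℂ) = 0 := by
      rw [classInner_irr', if_neg hηχ.symm]
    have : classInner Q (η : G → ℂ) = 1 := by
      have e1 : (Nat.card G : ℂ)⁻¹ * ∑ g : G, Q g * conj ((η : G → ℂ) g) =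
          (Nat.card G : ℂ)⁻¹ * ∑ g : G, ((f g : ℂ) * ((f g : ℂ) - 1) * ((f g : ℂ) - 2)) -
          classInner (χ : G → ℂ) (η : G → ℂ) := by
        unfold classInner
        rw [← mul_sub, ← Finset.sum_sub_distrib]
        congr 1
        apply Finset.sum_congr rfl
        intro g _
        simp only [hQ]
        by_cases hfg : f g = 0
        · have hχg : (χ : G → ℂ) g = -1 := by
            rw [hχ g]
            have : (Nat.card (fixedBy α g) : ℂ) = 0 := by exact_mod_cast hfg
            rw [this]
            ring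
          rw [hχg, hfg]
          push_cast
          ring
        · have hne : Nonempty (fixedBy α g) := by
            have : 0 < Nat.card (fixedBy α g) := Nat.pos_of_ne_zero hfg
            exact (Nat.card_pos_iff.mp this).1
          obtain ⟨⟨u, hu⟩⟩ := hne
          have hgreg := hreg g u hu
          rw [h.reg η hη g hgreg, map_sub, hconj g, map_one, hχ g]
          ring
      unfold classInner at e1 ⊢
      rw [e1, hS3]
      unfold classInner at hinner
      rw [hinner]
      field_simp
      ring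
    rw [hmul] at this
    exact_mod_cast this
  -- the norm of `Q`
  have hnorm : ∑ ψ : IrrCharacter G, m ψ ^ 2 = r4 + 3 := by
    have e1 : classInner Q Q = ((∑ ψ : IrrCharacter G, m ψ ^ 2 : ℕ) : ℂ) := by
      conv_lhs => rw [hm]
      exact classInner_self_of_decomp m
    have e2 : classInner Q Q = (r4 : ℂ) + 3 := by
      unfold classInner
      have : ∑ g : G, Q g * conj (Q g) =
          ∑ g : G, ((f g : ℂ) * ((f g : ℂ) - 1) * ((f g : ℂ) - 2) * ((f g : ℂ) - 3)) +
          2 * ∑ g : G, ((f g : ℂ) * ((f g : ℂ) - 1) * ((f g : ℂ) - 2)) +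
          ∑ g : G, ((f g : ℂ) * ((f g : ℂ) - 1)) - ∑ g : G, ((f g : ℕ) : ℂ) +
          ∑ _g : G, (1 : ℂ) := by
        rw [Finset.mul_sum, ← Finset.sum_add_distrib, ← Finset.sum_add_distrib,
          ← Finset.sum_sub_distrib, ← Finset.sum_add_distrib]
        apply Finset.sum_congr rfl
        intro g _
        simp only [hQ]
        rw [map_mul, hconj g, hχ g]
        ring
      rw [this, hS1, hS2, hS3, hS4, hcard]
      field_simp
      ring
    rw [e1] at e2
    exact_mod_cast e2
  -- another constituent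
  obtain ⟨t, ht⟩ : ∃ t : ℕ, p = 2 * t + 1 := by
    rcases hp.out.eq_two_or_odd with h | h
    · omega
    · exact ⟨p / 2, by omega⟩
  have ht2 : 2 ≤ t := by omega
  have htdiv : (p - 1) / 2 = t := by omega
  have hYcard : Y.card = t := by rw [h.card, htdiv]
  have hex : ∃ ψ₀ : IrrCharacter G, ψ₀ ≠ χ₁ ∧ ψ₀ ≠ χ ∧ ψ₀ ∉ Y ∧ m ψ₀ ≠ 0 := by
    by_contra hcon
    push Not at hcon
    have hdeg : Q 1 = ∑ ψ : IrrCharacter G, (m ψ : ℂ) * (ψ : G → ℂ) 1 := by
      conv_lhs => rw [hm]
      rw [Finset.sum_apply]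
      apply Finset.sum_congr rfl
      intro ψ _
      rw [Pi.smul_apply, nsmul_eq_mul]
    rw [h.sum_split (fun ψ => (m ψ : ℂ) * (ψ : G → ℂ) 1) (fun ψ h1 h2 h3 => by
      rw [hcon ψ h1 h2 h3, Nat.cast_zero, zero_mul])] at hdeg
    simp only [hQ] at hdeg
    rw [hm1, hm2, h.triv, h.deg] at hdeg
    have hY : ∑ η ∈ Y, (m η : ℂ) * (η : G → ℂ) 1 = (t : ℂ) * ((p : ℂ) - 2) := by
      have : ∀ η ∈ Y, (m η : ℂ) * (η : G → ℂ) 1 = (p : ℂ) - 2 := by
        intro η hη
        rw [hmY η hη, h.exc_deg η hη, Nat.cast_one, one_mul]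
      rw [Finset.sum_congr rfl this, Finset.sum_const, hYcard, nsmul_eq_mul]
    rw [hY, ht] at hdeg
    push_cast at hdeg
    have h5 : ((2 * (t : ℤ) + 1) * ((t : ℤ) - 1) : ℤ) = 0 := by
      have : (((2 * (t : ℤ) + 1) * ((t : ℤ) - 1) : ℤ) : ℂ) = ((0 : ℤ) : ℂ) := by
        push_cast
        linear_combination hdeg
      exact_mod_cast this
    rcases mul_eq_zero.mp h5 with h6 | h6 <;> omega
  obtain ⟨ψ₀, hψ1, hψ2, hψ3, hψm⟩ := hex
  have hsub : ∑ ψ ∈ insert ψ₀ (insert χ₁ (insert χ Y)), m ψ ^ 2 ≤
      ∑ ψ : IrrCharacter G, m ψ ^ 2 :=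
    Finset.sum_le_sum_of_subset (Finset.subset_univ _)
  have hge : (insert ψ₀ (insert χ₁ (insert χ Y))).card ≤
      ∑ ψ ∈ insert ψ₀ (insert χ₁ (insert χ Y)), m ψ ^ 2 := by
    rw [Finset.card_eq_sum_ones]
    apply Finset.sum_le_sum
    intro ψ hψ
    rw [Finset.mem_insert, Finset.mem_insert, Finset.mem_insert] at hψ
    rcases hψ with e | e | e | e
    · rw [e]
      exact Nat.one_le_pow _ _ (Nat.pos_of_ne_zero hψm)
    · rw [e, hm1]; norm_num
    · rw [e, hm2]; norm_num
    · rw [hmY ψ e]; norm_num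
  have hcard3 : (insert ψ₀ (insert χ₁ (insert χ Y))).card = t + 3 := by
    rw [Finset.card_insert_of_notMem, Finset.card_insert_of_notMem,
      Finset.card_insert_of_notMem h.not_mem, hYcard]
    · rw [Finset.mem_insert]
      push Not
      exact ⟨h.ne.symm, h.not_mem₁⟩
    · rw [Finset.mem_insert, Finset.mem_insert]
      push Not
      exact ⟨hψ1, hψ2, hψ3⟩
  rw [htdiv]
  omega

end norm

end Cfsg.Agent.Lib.Helper19.PDeg
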