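import Mathlib
import Cfsg.Agent.Lib.Helper19.PDegA
import Cfsg.Agent.Lib.Helper19.PDegD
import Cfsg.Agent.Lib.Helper9.Sharp3

/-!
# Permutation groups of prime degree `p` with `|N(P)| = 2p` (helper19), part E

Involutions fix exactly one point, hence three-point stabilizers `K` have odd order; the number of
`K`-orbits is bounded above via the orbit sizes and below via the orbits on injective quadruples.
-/

set_option autoImplicit false
set_option linter.unusedSectionVars false
set_option linter.style.haveILetI false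

namespace Cfsg.Agent.Lib.Helper19.PDeg

open Cfsg Cfsg.Agent.CharLib MulAction
open scoped ComplexConjugate

universe u v

section invol

variable {G : Type u} [Group G] [Finite G] {α : Type v} [Fintype α] [DecidableEq α] [MulAction G α]
  [FaithfulSMul G α] {p : ℕ} [hp : Fact p.Prime]
  {P : Subgroup G} {χ χ₁ : IrrCharacter G} {Y : Finset (IrrCharacter G)}

/-- an involution has at most one fixed point -/
theorem BlockData.invol_fixed_unique (h : BlockData p P χ χ₁ Y) (hp5 : 5 ≤ p)
    (hα : Fintype.card α = p)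
    (hχ : ∀ g : G, (χ : G → ℂ) g = (Nat.card (fixedBy α g) : ℂ) - 1)
    (z : G) (hz : z ∈ P) (hzo : orderOf z = p)
    (s : G) (hs1 : s ≠ 1) (hs2 : s * s = 1) (u v : α) (hu : s • u = u) (hv : s • v = v) :
    u = v := by
  have hpp : p.Prime := hp.out
  have hso : orderOf s = 2 := by
    apply orderOf_eq_prime
    · rw [pow_two]; exact hs2
    · exact hs1
  have hsreg : ¬ p ∣ orderOf s := by
    rw [hso]
    intro hd
    have := Nat.le_of_dvd (by norm_num) hd
    omega
  have hsχ : (χ : G → ℂ) s ≠ (p : ℂ) - 1 := by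
    intro hcon
    rw [hχ s] at hcon
    have h1 : (Nat.card (fixedBy α s) : ℂ) = (p : ℂ) := by linear_combination hcon
    have h2 : Nat.card (fixedBy α s) = p := by exact_mod_cast h1
    have h3 : fixedBy α s = Set.univ := by
      rw [Set.eq_univ_iff_ncard, ← Nat.card_coe_set_eq, h2, Nat.card_eq_fintype_card, hα]
    apply hs1
    apply FaithfulSMul.eq_of_smul_eq_smul (α := α)
    intro w
    have : w ∈ fixedBy α s := by rw [h3]; trivial
    rw [one_smul]
    exact this
  have hz1 : z ≠ 1 := by
    intro hz1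
    rw [hz1, orderOf_one] at hzo
    exact hpp.one_lt.ne hzo
  obtain ⟨a, b, hab⟩ := h.exists_conj_mul (by omega) s hsreg hsχ z hz hz1 (by rw [hzo])
  set s1 := a * s * a⁻¹ with hs1def
  set s2 := b * s * b⁻¹ with hs2def
  have h11 : s1 * s1 = 1 := by
    rw [hs1def]
    calc a * s * a⁻¹ * (a * s * a⁻¹) = a * (s * s) * a⁻¹ := by group
      _ = 1 := by rw [hs2]; group
  have h22 : s2 * s2 = 1 := by
    rw [hs2def]
    calc b * s * b⁻¹ * (b * s * b⁻¹) = b * (s * s) * b⁻¹ := by group
      _ = 1 := by rw [hs2]; group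
  have hs1inv : s1⁻¹ = s1 := inv_eq_of_mul_eq_one_left h11
  have hs2inv : s2⁻¹ = s2 := inv_eq_of_mul_eq_one_left h22
  have hconj : s1 * z * s1⁻¹ = z⁻¹ := by
    rw [← hab, hs1inv, mul_inv_rev, hs1inv, hs2inv]
    calc s1 * (s1 * s2) * s1 = (s1 * s1) * s2 * s1 := by group
      _ = s2 * s1 := by rw [h11, one_mul]
  have hp2 : p ≠ 2 := by omega
  obtain ⟨u₀, -, hu₀⟩ := Cfsg.Agent.S0677.unique_fixed hp2 hα z s1 hzo
    (smul_ne_of_orderOf_eq hα z hzo) hconj h11
  have key : ∀ w : α, s • w = w → a • w = u₀ := by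
    intro w hw
    apply hu₀
    rw [hs1def, smul_smul]
    have e1 : a * s * a⁻¹ * a = a * s := by group
    rw [e1, mul_smul, hw]
  have := (key u hu).trans (key v hv).symm
  exact MulAction.injective a this

/-- a subgroup fixing two points has odd order -/
theorem odd_card_of_fix_two
    (hinv : ∀ s : G, s ≠ 1 → s * s = 1 → ∀ u v : α, s • u = u → s • v = v → u = v)
    (K : Subgroup G) (a b : α) (hab : a ≠ b) (hK : ∀ k ∈ K, k • a = a ∧ k • b = b) :
    Odd (Nat.card K) := by
  rw [← Nat.not_even_iff_odd]
  intro heven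
  haveI : Fact (Nat.Prime 2) := ⟨Nat.prime_two⟩
  obtain ⟨k, hk⟩ := exists_prime_orderOf_dvd_card' (G := K) 2 heven.two_dvd
  have hk1 : (k : G) ≠ 1 := by
    intro h1
    have : k = 1 := Subtype.ext h1
    rw [this, orderOf_one] at hk
    norm_num at hk
  have hk2 : (k : G) * (k : G) = 1 := by
    have : k ^ 2 = 1 := by rw [← hk]; exact pow_orderOf_eq_one k
    rw [pow_two] at this
    exact congrArg Subtype.val this
  exact hab (hinv (k : G) hk1 hk2 a b (hK k k.2).1 (hK k k.2).2)

end invol

section orbits

variable {G : Type u} [Group G] [Finite G] {α : Type v} [Fintype α] [DecidableEq α] [MulAction G α]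

/-- a group of odd order has at most `(|α| + 2 |Fix|) / 3` orbits -/
theorem three_mul_card_orbits_le (K : Subgroup G) (hodd : Odd (Nat.card K)) :
    3 * Nat.card (orbitRel.Quotient K α) ≤
      Fintype.card α + 2 * Nat.card (fixedPoints K α) := by
  classical
  letI : Fintype (orbitRel.Quotient K α) := Fintype.ofFinite _
  set idx : orbitRel.Quotient K α → ℕ := fun ω => (stabilizer K ω.out).index with hidx
  have hsum : Fintype.card α = ∑ ω : orbitRel.Quotient K α, idx ω := by
    rw [← Nat.card_eq_fintype_card,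
      Nat.card_congr (MulAction.selfEquivSigmaOrbitsQuotientStabilizer K α), Nat.card_sigma]
    rfl
  have hoddidx : ∀ ω, Odd (idx ω) := fun ω => hodd.of_dvd_nat (Subgroup.index_dvd_card _)
  set A := Finset.univ.filter (fun ω : orbitRel.Quotient K α => idx ω = 1) with hA
  have hAle : A.card ≤ Nat.card (fixedPoints K α) := by
    have hmem : ∀ ω : A, (ω : orbitRel.Quotient K α).out ∈ fixedPoints K α := by
      intro ω
      have h1 : idx ω = 1 := (Finset.mem_filter.mp ω.2).2
      have h2 : stabilizer K (ω : orbitRel.Quotient K α).out = ⊤ := Subgroup.index_eq_one.mp h1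
      rw [mem_fixedPoints]
      intro k
      have : k ∈ stabilizer K (ω : orbitRel.Quotient K α).out := by rw [h2]; trivial
      exact this
    have hinj : Function.Injective (fun ω : A => (⟨(ω : orbitRel.Quotient K α).out, hmem ω⟩ :
        fixedPoints K α)) := by
      intro ω ω' hωω'
      have h1 : (ω : orbitRel.Quotient K α).out = (ω' : orbitRel.Quotient K α).out :=
        congrArg Subtype.val hωω'
      apply Subtype.ext
      rw [← Quotient.out_eq' (ω : orbitRel.Quotient K α),
        ← Quotient.out_eq' (ω' : orbitRel.Quotient K α), h1]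
    have := Nat.card_le_card_of_injective _ hinj
    rwa [Nat.card_eq_fintype_card, Fintype.card_coe] at this
  have hge : ∑ ω : orbitRel.Quotient K α, (if idx ω = 1 then 1 else 3) ≤
      ∑ ω : orbitRel.Quotient K α, idx ω := by
    apply Finset.sum_le_sum
    intro ω _
    by_cases h1 : idx ω = 1
    · rw [if_pos h1, h1]
    · rw [if_neg h1]
      obtain ⟨j, hj⟩ := hoddidx ω
      omega
  rw [Finset.sum_ite, Finset.sum_const, Finset.sum_const, smul_eq_mul, smul_eq_mul, mul_one,
    ← hA] at hge
  have hcard : A.card + (Finset.univ.filter (fun ω : orbitRel.Quotient K α => ¬ idx ω = 1)).card =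
      Nat.card (orbitRel.Quotient K α) := by
    rw [hA, Finset.card_filter_add_card_filter_not, Finset.card_univ, Nat.card_eq_fintype_card]
  rw [hsum]
  omega

/-- every orbit on injective quadruples contains a quadruple starting with `a, b, c` -/
theorem exists_quad_rep (h3 : IsMultiplyPretransitive G α 3) {a b c : α} (hab : a ≠ b)
    (hac : a ≠ c) (hbc : b ≠ c) (q : orbitRel.Quotient G (Fin 4 ↪ α)) :
    ∃ y : Fin 4 ↪ α, (Quotient.mk'' y : orbitRel.Quotient G (Fin 4 ↪ α)) = q ∧ y 0 = a ∧
      y 1 = b ∧ y 2 = c := by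
  obtain ⟨y₀, rfl⟩ := Quotient.exists_rep q
  set x₀ : Fin 3 ↪ α := (Fin.castLEEmb (by norm_num : 3 ≤ 4)).trans y₀ with hx₀
  obtain ⟨g, hg⟩ := h3.exists_smul_eq x₀ (Cfsg.Agent.Lib.Helper9.embOfD3 hab hac hbc)
  have key : ∀ i : Fin 3, g • y₀ (Fin.castLE (by norm_num : 3 ≤ 4) i) =
      (Cfsg.Agent.Lib.Helper9.embOfD3 hab hac hbc) i := by
    intro i
    rw [← hg]
    rfl
  refine ⟨g • y₀, ?_, key 0, key 1, key 2⟩
  apply Quotient.sound'
  rw [orbitRel_apply]
  exact mem_orbit y₀ g

/-- the orbits on injective quadruples inject into the orbits of a three-point stabilizer -/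
theorem card_quad_orbits_add_three_le (h3 : IsMultiplyPretransitive G α 3) {a b c : α}
    (hab : a ≠ b) (hac : a ≠ c) (hbc : b ≠ c) (K : Subgroup G)
    (hK : ∀ k ∈ K, k • a = a ∧ k • b = b ∧ k • c = c) :
    Nat.card (orbitRel.Quotient G (Fin 4 ↪ α)) + 3 ≤ Nat.card (orbitRel.Quotient K α) := by
  classical
  choose y hyq hy0 hy1 hy2 using exists_quad_rep h3 hab hac hbc
  have hy3a : ∀ q, y q 3 ≠ a := fun q h => by
    have := (y q).injective (h.trans (hy0 q).symm)
    exact absurd this (by decide)
  have hy3b : ∀ q, y q 3 ≠ b := fun q h => by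
    have := (y q).injective (h.trans (hy1 q).symm)
    exact absurd this (by decide)
  have hy3c : ∀ q, y q 3 ≠ c := fun q h => by
    have := (y q).injective (h.trans (hy2 q).symm)
    exact absurd this (by decide)
  set pt : orbitRel.Quotient G (Fin 4 ↪ α) ⊕ Fin 3 → α :=
    Sum.elim (fun q => y q 3) ![a, b, c] with hpt
  have hfixK : ∀ (i : Fin 3) (k : K), k • (![a, b, c] i) = ![a, b, c] i := by
    intro i k
    have := hK k k.2
    fin_cases i
    · exact this.1
    · exact this.2.1
    · exact this.2.2
  have hne : ∀ (q : orbitRel.Quotient G (Fin 4 ↪ α)) (i : Fin 3), y q 3 ≠ ![a, b, c] i := by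
    intro q i
    fin_cases i
    · exact hy3a q
    · exact hy3b q
    · exact hy3c q
  have hinj : Function.Injective (fun s : orbitRel.Quotient G (Fin 4 ↪ α) ⊕ Fin 3 =>
      (Quotient.mk'' (pt s) : orbitRel.Quotient K α)) := by
    intro s s' hss'
    have h1 : pt s ∈ orbit K (pt s') := by
      have := Quotient.exact' hss'
      exact (orbitRel_apply).mp this
    obtain ⟨k, hk⟩ := h1
    have hk' : k • pt s' = pt s := hk
    rcases s with q | i <;> rcases s' with q' | j
    · -- both quadruples
      have hk3 : k • (y q' 3) = y q 3 := hk'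
      have hKk := hK k k.2
      have : (k : G) • y q' = y q := by
        ext i
        rw [Function.Embedding.smul_apply]
        fin_cases i
        · show (k : G) • (y q' 0) = y q 0
          rw [hy0, hy0]; exact hKk.1
        · show (k : G) • (y q' 1) = y q 1
          rw [hy1, hy1]; exact hKk.2.1
        · show (k : G) • (y q' 2) = y q 2
          rw [hy2, hy2]; exact hKk.2.2
        · exact hk3
      have h2 : (Quotient.mk'' (y q) : orbitRel.Quotient G (Fin 4 ↪ α)) = Quotient.mk'' (y q') := by
        apply Quotient.sound'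
        rw [orbitRel_apply, ← this]
        exact mem_orbit _ _
      rw [hyq, hyq] at h2
      rw [h2]
    · exfalso
      have h2 : k • (![a, b, c] j) = y q 3 := hk'
      rw [hfixK j k] at h2
      exact hne q j h2.symm
    · exfalso
      have h2 : k • (y q' 3) = ![a, b, c] i := hk'
      have h3' : y q' 3 = ![a, b, c] i := by
        have := congrArg (fun w => k⁻¹ • w) h2
        simp only [inv_smul_smul] at this
        rw [this, ← hfixK i k, inv_smul_smul, hfixK i k]
      exact hne q' i h3'
    · have h2 : k • (![a, b, c] j) = ![a, b, c] i := hk'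
      rw [hfixK j k] at h2
      congr 1
      fin_cases i <;> fin_cases j <;> simp_all
  have := Nat.card_le_card_of_injective _ hinj
  rwa [Nat.card_sum, Nat.card_fin] at this

end orbits

section combine

variable {G : Type u} [Group G] [Finite G] {α : Type v} [Fintype α] [DecidableEq α] [MulAction G α]
  [FaithfulSMul G α] {p : ℕ} [hp : Fact p.Prime]
  {P : Subgroup G} {χ χ₁ : IrrCharacter G} {Y : Finset (IrrCharacter G)}

/-- **Many fixed points**: a three-point stabilizer fixes at least `(p + 15) / 4` points. -/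
theorem BlockData.four_mul_fixed_ge (h : BlockData p P χ χ₁ Y) (hp5 : 5 ≤ p)
    (hα : Fintype.card α = p)
    (hχ : ∀ g : G, (χ : G → ℂ) g = (Nat.card (fixedBy α g) : ℂ) - 1)
    (h3 : IsMultiplyPretransitive G α 3)
    (z : G) (hz : z ∈ P) (hzo : orderOf z = p)
    {a b c : α} (hab : a ≠ b) (hac : a ≠ c) (hbc : b ≠ c) (K : Subgroup G)
    (hK : ∀ k ∈ K, k • a = a ∧ k • b = b ∧ k • c = c) :
    p + 15 ≤ 4 * Nat.card (fixedPoints K α) := by
  have hinv := fun s hs1 hs2 u v hu hv =>
    h.invol_fixed_unique hp5 hα hχ z hz hzo s hs1 hs2 u v hu hv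
  have hodd : Odd (Nat.card K) :=
    odd_card_of_fix_two hinv K a b hab (fun k hk => ⟨(hK k hk).1, (hK k hk).2.1⟩)
  have h1 := three_mul_card_orbits_le (α := α) K hodd
  have h2 := card_quad_orbits_add_three_le h3 hab hac hbc K hK
  have h4 := h.r4_ge hp5 hα hχ h3 (fun g u hg => not_dvd_orderOf_of_smul_eq hα g u hg)
  rw [hα] at h1
  obtain ⟨t, ht⟩ : ∃ t : ℕ, p = 2 * t + 1 := by
    rcases hp.out.eq_two_or_odd with h | h
    · omega
    · exact ⟨p / 2, by omega⟩
  have htdiv : (p - 1) / 2 = t := by omega
  rw [htdiv] at h4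
  omega

end combine

end Cfsg.Agent.Lib.Helper19.PDeg
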