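import Mathlib
import Cfsg.Agent.Lib.Helper19.PDegE

/-!
# Permutation groups of prime degree `p` with `|N(P)| = 2p` (helper19), part F

Witt's lemma / Steiner system divisibility for the fixed point set of a three-point stabilizer
in a triply transitive group, and the final conclusion: three-point stabilizers are trivial.
-/

set_option autoImplicit false
set_option linter.unusedSectionVars false
set_option linter.style.haveILetI false

namespace Cfsg.Agent.Lib.Helper19.PDeg

open Cfsg Cfsg.Agent.CharLib MulAction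
open scoped ComplexConjugate

universe u v

section witt

variable {G : Type u} [Group G] [Finite G] {α : Type v} [Fintype α] [DecidableEq α] [MulAction G α]

/-- triple transitivity in elementary form -/
theorem exists_smul_three (h3 : IsMultiplyPretransitive G α 3) {a b c a' b' c' : α}
    (hab : a ≠ b) (hac : a ≠ c) (hbc : b ≠ c) (hab' : a' ≠ b') (hac' : a' ≠ c')
    (hbc' : b' ≠ c') : ∃ g : G, g • a = a' ∧ g • b = b' ∧ g • c = c' := by
  obtain ⟨g, hg⟩ := h3.exists_smul_eq (Cfsg.Agent.Lib.Helper9.embOfD3 hab hac hbc)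
    (Cfsg.Agent.Lib.Helper9.embOfD3 hab' hac' hbc')
  have key : ∀ i : Fin 3, g • (Cfsg.Agent.Lib.Helper9.embOfD3 hab hac hbc) i =
      (Cfsg.Agent.Lib.Helper9.embOfD3 hab' hac' hbc') i := by
    intro i
    rw [← hg]
    rfl
  exact ⟨g, key 0, key 1, key 2⟩

/-- the relative index of a point stabilizer is the size of the orbit -/
theorem relIndex_stabilizer_inf (H : Subgroup G) (x : α) :
    (stabilizer G x ⊓ H).relIndex H = (orbit H x).ncard := by
  rw [Subgroup.inf_relIndex_right, ← MulAction.index_stabilizer]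
  have : stabilizer H x = (stabilizer G x).subgroupOf H := by
    ext h
    simp [mem_stabilizer_iff, Subgroup.mem_subgroupOf, Subgroup.smul_def]
  rw [this]
  rfl

variable (a b c : α)

/-- the pointwise stabilizer of three points -/
def stab3 (G : Type u) [Group G] [MulAction G α] (a b c : α) : Subgroup G :=
  stabilizer G c ⊓ (stabilizer G b ⊓ stabilizer G a)

theorem mem_stab3 {a b c : α} {g : G} :
    g ∈ stab3 G a b c ↔ g • a = a ∧ g • b = b ∧ g • c = c := by
  unfold stab3
  rw [Subgroup.mem_inf, Subgroup.mem_inf, mem_stabilizer_iff, mem_stabilizer_iff,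
    mem_stabilizer_iff]
  tauto

/-- Witt: an element mapping `a, b, c` into the fixed point set of `K = G_{abc}` normalizes `K` -/
theorem mem_normalizer_of_smul_mem {a b c : α} (g : G)
    (ha : g • a ∈ fixedPoints (stab3 G a b c) α) (hb : g • b ∈ fixedPoints (stab3 G a b c) α)
    (hc : g • c ∈ fixedPoints (stab3 G a b c) α) :
    g ∈ Subgroup.normalizer ((stab3 G a b c : Subgroup G) : Set G) := by
  set K := stab3 G a b c with hKdef
  have hwd : ∀ k : K, g⁻¹ * (k : G) * g ∈ K := by
    intro k
    show g⁻¹ * (k : G) * g ∈ stab3 G a b c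
    rw [mem_stab3]
    rw [mem_fixedPoints] at ha hb hc
    refine ⟨?_, ?_, ?_⟩
    · rw [mul_smul, mul_smul]
      have := ha k
      rw [Subgroup.smul_def] at this
      rw [this, inv_smul_smul]
    · rw [mul_smul, mul_smul]
      have := hb k
      rw [Subgroup.smul_def] at this
      rw [this, inv_smul_smul]
    · rw [mul_smul, mul_smul]
      have := hc k
      rw [Subgroup.smul_def] at this
      rw [this, inv_smul_smul]
  set φ : K → K := fun k => ⟨g⁻¹ * (k : G) * g, hwd k⟩ with hφ
  have hinj : Function.Injective φ := by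
    intro k k' hkk'
    have h1 : g⁻¹ * (k : G) * g = g⁻¹ * (k' : G) * g := congrArg Subtype.val hkk'
    apply Subtype.ext
    have h2 : g * (g⁻¹ * (k : G) * g) * g⁻¹ = g * (g⁻¹ * (k' : G) * g) * g⁻¹ := by rw [h1]
    have e1 : ∀ w : G, g * (g⁻¹ * w * g) * g⁻¹ = w := fun w => by group
    rwa [e1, e1] at h2
  have hsurj : Function.Surjective φ := Finite.injective_iff_surjective.mp hinj
  rw [Subgroup.mem_normalizer_iff]
  intro k
  constructor
  · intro hk
    obtain ⟨k', hk'⟩ := hsurj ⟨k, hk⟩
    have h1 : g⁻¹ * (k' : G) * g = k := congrArg Subtype.val hk'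
    have : g * k * g⁻¹ = (k' : G) := by rw [← h1]; group
    rw [this]
    exact k'.2
  · intro hk
    have := hwd ⟨g * k * g⁻¹, hk⟩
    have e : g⁻¹ * (g * k * g⁻¹) * g = k := by group
    rwa [e] at this

/-- the normalizer of `K` preserves the fixed point set of `K` -/
theorem smul_mem_fixedPoints_of_mem_normalizer (K : Subgroup G) (g : G)
    (hg : g ∈ Subgroup.normalizer ((K : Subgroup G) : Set G)) (u : α)
    (hu : u ∈ fixedPoints K α) : g • u ∈ fixedPoints K α := by
  rw [mem_fixedPoints] at hu ⊢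
  intro k
  have hginv : g⁻¹ ∈ Subgroup.normalizer ((K : Subgroup G) : Set G) := Subgroup.inv_mem _ hg
  have h1 : g⁻¹ * (k : G) * g⁻¹⁻¹ ∈ K := (Subgroup.mem_normalizer_iff.mp hginv (k : G)).mp k.2
  rw [inv_inv] at h1
  have h2 := hu ⟨g⁻¹ * (k : G) * g, h1⟩
  rw [Subgroup.smul_def] at h2 ⊢
  simp only at h2
  have e : (k : G) • g • u = g • ((g⁻¹ * (k : G) * g) • u) := by
    rw [smul_smul, smul_smul]
    congr 1
    group
  rw [e, h2]

/-- **Steiner system divisibility conditions** for the fixed point set of `K = G_{abc}`. -/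
theorem steiner_dvd (h3 : IsMultiplyPretransitive G α 3) {a b c : α} (hab : a ≠ b) (hac : a ≠ c)
    (hbc : b ≠ c) :
    ((fixedPoints (stab3 G a b c) α).ncard - 2) ∣ (Fintype.card α - 2) ∧
    (((fixedPoints (stab3 G a b c) α).ncard - 1) * ((fixedPoints (stab3 G a b c) α).ncard - 2)) ∣
      ((Fintype.card α - 1) * (Fintype.card α - 2)) := by
  classical
  set K := stab3 G a b c with hKdef
  set F := fixedPoints K α with hFdef
  set N := Subgroup.normalizer ((K : Subgroup G) : Set G) with hNdef
  set Ga := stabilizer G a with hGa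
  set Gab := stabilizer G b ⊓ Ga with hGab
  set Na := N ⊓ Ga with hNa
  set Nab := stabilizer G b ⊓ Na with hNab
  have hK1 : K = stabilizer G c ⊓ Gab := rfl
  have hKN : K ≤ N := Subgroup.le_normalizer
  have hmemK : ∀ g : G, g ∈ K ↔ g • a = a ∧ g • b = b ∧ g • c = c := fun g => mem_stab3
  have hK2 : K = stabilizer G c ⊓ Nab := by
    ext g
    rw [hmemK, Subgroup.mem_inf, Subgroup.mem_inf, Subgroup.mem_inf, mem_stabilizer_iff,
      mem_stabilizer_iff, mem_stabilizer_iff]
    constructor
    · rintro ⟨h1, h2, h3⟩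
      exact ⟨h3, h2, hKN ((hmemK g).mpr ⟨h1, h2, h3⟩), h1⟩
    · rintro ⟨h3, h2, -, h1⟩
      exact ⟨h1, h2, h3⟩
  have hGab_eq : Gab = stabilizer G b ⊓ Ga := rfl
  have hNab_eq : Nab = stabilizer G b ⊓ Na := rfl
  have hfix : ∀ (k : K), (k : G) • a = a ∧ (k : G) • b = b ∧ (k : G) • c = c :=
    fun k => (hmemK k).mp k.2
  have haF : a ∈ F := by
    rw [hFdef, mem_fixedPoints]; intro k; exact (hfix k).1
  have hbF : b ∈ F := by
    rw [hFdef, mem_fixedPoints]; intro k; exact (hfix k).2.1
  have hcF : c ∈ F := by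
    rw [hFdef, mem_fixedPoints]; intro k; exact (hfix k).2.2
  -- the four orbits
  have hO1 : orbit Gab c = ({a, b} : Set α)ᶜ := by
    ext d
    rw [mem_orbit_iff, Set.mem_compl_iff, Set.mem_insert_iff, Set.mem_singleton_iff]
    constructor
    · rintro ⟨⟨g, hg⟩, rfl⟩
      rw [hGab, Subgroup.mem_inf, mem_stabilizer_iff, hGa, mem_stabilizer_iff] at hg
      rw [Subgroup.smul_def]
      simp only
      rintro (h | h)
      · exact hac (MulAction.injective g (hg.2.trans h.symm))
      · exact hbc (MulAction.injective g (hg.1.trans h.symm))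
    · intro hd
      push Not at hd
      obtain ⟨g, ga, gb, gc⟩ := exists_smul_three h3 hab hac hbc hab (Ne.symm hd.1) (Ne.symm hd.2)
      refine ⟨⟨g, ?_⟩, gc⟩
      rw [hGab, Subgroup.mem_inf, mem_stabilizer_iff, hGa, mem_stabilizer_iff]
      exact ⟨gb, ga⟩
  have hO2 : orbit Nab c = F \ ({a, b} : Set α) := by
    ext d
    rw [mem_orbit_iff, Set.mem_diff, Set.mem_insert_iff, Set.mem_singleton_iff]
    constructor
    · rintro ⟨⟨g, hg⟩, rfl⟩
      rw [hNab, Subgroup.mem_inf, mem_stabilizer_iff, hNa, Subgroup.mem_inf, hGa,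
        mem_stabilizer_iff] at hg
      rw [Subgroup.smul_def]
      simp only
      refine ⟨smul_mem_fixedPoints_of_mem_normalizer K g hg.2.1 c hcF, ?_⟩
      rintro (h | h)
      · exact hac (MulAction.injective g (hg.2.2.trans h.symm))
      · exact hbc (MulAction.injective g (hg.1.trans h.symm))
    · rintro ⟨hdF, hd⟩
      push Not at hd
      obtain ⟨g, ga, gb, gc⟩ := exists_smul_three h3 hab hac hbc hab (Ne.symm hd.1) (Ne.symm hd.2)
      refine ⟨⟨g, ?_⟩, gc⟩
      rw [hNab, Subgroup.mem_inf, mem_stabilizer_iff, hNa, Subgroup.mem_inf, hGa,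
        mem_stabilizer_iff]
      refine ⟨gb, ?_, ga⟩
      apply mem_normalizer_of_smul_mem
      · rw [ga]; exact haF
      · rw [gb]; exact hbF
      · rw [gc]; exact hdF
  have hO3 : orbit Ga b = ({a} : Set α)ᶜ := by
    ext d
    rw [mem_orbit_iff, Set.mem_compl_iff, Set.mem_singleton_iff]
    constructor
    · rintro ⟨⟨g, hg⟩, rfl⟩
      rw [hGa, mem_stabilizer_iff] at hg
      rw [Subgroup.smul_def]
      simp only
      intro h
      exact hab (MulAction.injective g (hg.trans h.symm))
    · intro hd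
      set e := if d = b then c else b with he
      have hea : a ≠ e := by
        rw [he]; split_ifs
        · exact hac
        · exact hab
      have hed : d ≠ e := by
        rw [he]; split_ifs with h
        · rw [h]; exact hbc
        · exact h
      obtain ⟨g, ga, gb, -⟩ := exists_smul_three h3 hab hac hbc (Ne.symm hd) hea hed
      refine ⟨⟨g, ?_⟩, gb⟩
      rw [hGa, mem_stabilizer_iff]
      exact ga
  have hO4 : orbit Na b = F \ ({a} : Set α) := by
    ext d
    rw [mem_orbit_iff, Set.mem_diff, Set.mem_singleton_iff]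
    constructor
    · rintro ⟨⟨g, hg⟩, rfl⟩
      rw [hNa, Subgroup.mem_inf, hGa, mem_stabilizer_iff] at hg
      rw [Subgroup.smul_def]
      simp only
      refine ⟨smul_mem_fixedPoints_of_mem_normalizer K g hg.1 b hbF, ?_⟩
      intro h
      exact hab (MulAction.injective g (hg.2.trans h.symm))
    · rintro ⟨hdF, hd⟩
      set e := if d = b then c else b with he
      have hea : a ≠ e := by
        rw [he]; split_ifs
        · exact hac
        · exact hab
      have hed : d ≠ e := by
        rw [he]; split_ifs with h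
        · rw [h]; exact hbc
        · exact h
      have heF : e ∈ F := by
        rw [he]; split_ifs
        · exact hcF
        · exact hbF
      obtain ⟨g, ga, gb, gc⟩ := exists_smul_three h3 hab hac hbc (Ne.symm hd) hea hed
      refine ⟨⟨g, ?_⟩, gb⟩
      rw [hNa, Subgroup.mem_inf, hGa, mem_stabilizer_iff]
      refine ⟨?_, ga⟩
      apply mem_normalizer_of_smul_mem
      · rw [ga]; exact haF
      · rw [gb]; exact hdF
      · rw [gc]; exact heF
  -- the four relative indices
  have hpair : ({a, b} : Set α).ncard = 2 := Set.ncard_pair hab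
  have hpairF : ({a, b} : Set α) ⊆ F := by
    intro x hx
    rcases hx with h | h
    · rw [h]; exact haF
    · rw [Set.mem_singleton_iff] at h
      rw [h]; exact hbF
  have r1 : K.relIndex Gab = Fintype.card α - 2 := by
    rw [hK1, relIndex_stabilizer_inf, hO1, Set.ncard_compl, hpair, Nat.card_eq_fintype_card]
  have r2 : K.relIndex Nab = F.ncard - 2 := by
    rw [hK2, relIndex_stabilizer_inf, hO2, Set.ncard_diff hpairF, hpair]
  have r3 : Gab.relIndex Ga = Fintype.card α - 1 := by
    rw [hGab_eq, relIndex_stabilizer_inf, hO3, Set.ncard_compl, Set.ncard_singleton,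
      Nat.card_eq_fintype_card]
  have r4 : Nab.relIndex Na = F.ncard - 1 := by
    rw [hNab_eq, relIndex_stabilizer_inf, hO4,
      Set.ncard_diff (Set.singleton_subset_iff.mpr haF), Set.ncard_singleton]
  -- inclusions
  have hNaGa : Na ≤ Ga := inf_le_right
  have hNabGab : Nab ≤ Gab := inf_le_inf_left _ hNaGa
  have hKNab : K ≤ Nab := by rw [hK2]; exact inf_le_right
  have hKGab : K ≤ Gab := by rw [hK1]; exact inf_le_right
  have hNabNa : Nab ≤ Na := inf_le_right
  have hGabGa : Gab ≤ Ga := inf_le_right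
  constructor
  · have := Subgroup.relIndex_mul_relIndex K Nab Gab hKNab hNabGab
    rw [r1, r2] at this
    exact ⟨_, this.symm⟩
  · have e1 := Subgroup.relIndex_mul_relIndex K Nab Na hKNab hNabNa
    have e2 := Subgroup.relIndex_mul_relIndex K Gab Ga hKGab hGabGa
    have e3 := Subgroup.relIndex_mul_relIndex K Na Ga (hKNab.trans hNabNa) hNaGa
    rw [r2, r4] at e1
    rw [r1, r3] at e2
    rw [← e1, ← e2] at e3
    refine ⟨Na.relIndex Ga, ?_⟩
    rw [mul_comm (Fintype.card α - 1), ← e3]
    ring

end witt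

/-- the arithmetic: the Steiner conditions and the lower bound force `f = p` -/
theorem steiner_arith (p f : ℕ) (hodd : Odd p) (hf3 : 3 ≤ f) (hfp : f ≤ p)
    (h4 : p + 15 ≤ 4 * f) (hd1 : (f - 2) ∣ (p - 2)) (hd2 : ((f - 1) * (f - 2)) ∣ ((p - 1) * (p - 2))) :
    f = p := by
  obtain ⟨n, rfl⟩ : ∃ n : ℕ, f = n + 2 := ⟨f - 2, by omega⟩
  have hn1 : 1 ≤ n := by omega
  obtain ⟨c, hc⟩ := hd1
  have e1 : n + 2 - 2 = n := by omega
  have e2 : n + 2 - 1 = n + 1 := by omega
  rw [e1] at hc hd2
  rw [e2] at hd2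
  have hp : p = n * c + 2 := by omega
  have hc3 : c ≤ 3 := by
    by_contra hcon
    have : 4 ≤ c := by omega
    have : n * 4 ≤ n * c := Nat.mul_le_mul_left n this
    omega
  have hc0 : 1 ≤ c := by
    rcases Nat.eq_zero_or_pos c with h0 | h0
    · rw [h0] at hp
      omega
    · exact h0
  interval_cases c
  · omega
  · exfalso
    obtain ⟨j, hj⟩ := hodd
    omega
  · exfalso
    have hp' : p = 3 * n + 2 := by omega
    have hn9 : 9 ≤ n := by omega
    rw [hp'] at hd2
    have e3 : 3 * n + 2 - 1 = 3 * n + 1 := by omega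
    have e4 : 3 * n + 2 - 2 = 3 * n := by omega
    rw [e3, e4] at hd2
    obtain ⟨k, hk⟩ := hd2
    have h1 : 3 * (3 * n + 1) = (n + 1) * k := by
      have : n * (3 * (3 * n + 1)) = n * ((n + 1) * k) := by
        calc n * (3 * (3 * n + 1)) = (3 * n + 1) * (3 * n) := by ring
          _ = (n + 1) * n * k := hk
          _ = n * ((n + 1) * k) := by ring
      exact Nat.eq_of_mul_eq_mul_left (by omega) this
    have h2 : (n + 1) ∣ 9 * n + 3 := ⟨k, by rw [← h1]; ring⟩
    have h3 : (n + 1) ∣ 9 * n + 9 := ⟨9, by ring⟩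
    have h4 : (n + 1) ∣ (9 * n + 9) - (9 * n + 3) := Nat.dvd_sub h3 h2
    have e5 : (9 * n + 9) - (9 * n + 3) = 6 := by omega
    rw [e5] at h4
    have := Nat.le_of_dvd (by norm_num) h4
    omega

section final

variable {G : Type u} [Group G] [Finite G] {α : Type v} [Fintype α] [DecidableEq α] [MulAction G α]
  [FaithfulSMul G α] {p : ℕ} [hp : Fact p.Prime]
  {P : Subgroup G} {χ χ₁ : IrrCharacter G} {Y : Finset (IrrCharacter G)}

/-- **Three-point stabilizers are trivial.** -/
theorem BlockData.eq_one_of_three_fixed (h : BlockData p P χ χ₁ Y) (hp5 : 5 ≤ p)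
    (hα : Fintype.card α = p)
    (hχ : ∀ g : G, (χ : G → ℂ) g = (Nat.card (fixedBy α g) : ℂ) - 1)
    (h3 : IsMultiplyPretransitive G α 3)
    (z : G) (hz : z ∈ P) (hzo : orderOf z = p)
    (g : G) (hg : 3 ≤ Nat.card (fixedBy α g)) : g = 1 := by
  classical
  letI : Fintype (fixedBy α g) := Fintype.ofFinite _
  rw [Nat.card_eq_fintype_card] at hg
  obtain ⟨⟨a, ha⟩, ⟨b, hb⟩, ⟨c, hc⟩, hab', hac', hbc'⟩ :=
    Fintype.two_lt_card_iff.mp (by omega : 2 < Fintype.card (fixedBy α g))
  have hab : a ≠ b := fun e => hab' (Subtype.ext e)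
  have hac : a ≠ c := fun e => hac' (Subtype.ext e)
  have hbc : b ≠ c := fun e => hbc' (Subtype.ext e)
  have hgK : g ∈ stab3 G a b c := mem_stab3.mpr ⟨ha, hb, hc⟩
  set K := stab3 G a b c with hKdef
  set F := fixedPoints K α with hFdef
  have hK : ∀ k ∈ K, k • a = a ∧ k • b = b ∧ k • c = c := fun k hk => mem_stab3.mp hk
  have h4 := h.four_mul_fixed_ge hp5 hα hχ h3 z hz hzo hab hac hbc K hK
  obtain ⟨hd1, hd2⟩ := steiner_dvd (G := G) h3 hab hac hbc
  rw [← hKdef, ← hFdef, hα] at hd1 hd2
  rw [← hFdef, Nat.card_coe_set_eq] at h4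
  have hodd : Odd p := hp.out.odd_of_ne_two (by omega)
  have hfp : F.ncard ≤ p := by
    rw [← hα, ← Nat.card_eq_fintype_card, ← Set.ncard_univ]
    exact Set.ncard_le_ncard (Set.subset_univ _)
  have hf3 : 3 ≤ F.ncard := by omega
  have hfeq := steiner_arith p F.ncard hodd hf3 hfp h4 hd1 hd2
  have hFuniv : F = Set.univ := by
    rw [Set.eq_univ_iff_ncard, hfeq, Nat.card_eq_fintype_card, hα]
  apply FaithfulSMul.eq_of_smul_eq_smul (α := α)
  intro w
  rw [one_smul]
  have hw : w ∈ F := by rw [hFuniv]; trivial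
  rw [hFdef, mem_fixedPoints] at hw
  exact hw ⟨g, hgK⟩

end final

end Cfsg.Agent.Lib.Helper19.PDeg
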