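import Mathlib
import Cfsg.Agent.Lib.Helper19.MinNonPClosed

namespace Cfsg.Agent.Lib.Helper19.PExpClosed

variable {G : Type*} [Group G] [Finite G] {p : ℕ} [hp : Fact p.Prime]

/-- the statement "elements of order dividing `p` form a subgroup" -/
def Closed (p : ℕ) (X : Type*) [Group X] : Prop :=
  ∃ H : Subgroup X, (H : Set X) = {g : X | g ^ p = 1}

omit [Finite G] hp in
/-- failure of closedness gives two elements of order dividing `p` with bad product -/
lemma exists_bad_pair (hnc : ¬ Closed p G) :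
    ∃ x y : G, x ^ p = 1 ∧ y ^ p = 1 ∧ (x * y) ^ p ≠ 1 := by
  by_contra hcon
  push Not at hcon
  apply hnc
  refine ⟨{ carrier := {g : G | g ^ p = 1}
            one_mem' := one_pow _
            mul_mem' := fun {a b} ha hb => hcon a b ha hb
            inv_mem' := fun {a} ha => by
              change a⁻¹ ^ p = 1
              rw [inv_pow, (show a ^ p = 1 from ha), inv_one] }, rfl⟩

theorem structure_thm (hnc : ¬ Closed p G)
    (hsub : ∀ K : Subgroup G, K ≠ ⊤ → Closed p K)
    (hquo : ∀ (N : Subgroup G) [N.Normal], N ≠ ⊥ → Closed p (G ⧸ N))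
    (hns : ¬ IsSimpleGroup G) (hnp : ¬ IsPGroup p G) :
    ∃ q : ℕ, q.Prime ∧ q ≠ p ∧ Nat.card G = p * q ^ orderOf (q : ZMod p) ∧
      ∃ A : Subgroup G, A.Normal ∧ Nat.card ↥A = q ^ orderOf (q : ZMod p) ∧
        ((∀ a ∈ A, ∀ b ∈ A, a * b = b * a) ∧ ∀ a ∈ A, a ^ q = 1) ∧
        ∀ B : Subgroup G, B.Normal → B ≤ A → B = ⊥ ∨ B = A := by
  obtain ⟨x, y, hx, hy, hxy⟩ := exists_bad_pair hnc
  -- `G = ⟨x, y⟩`
  have hgen : Subgroup.closure ({x, y} : Set G) = ⊤ := by
    by_contra hne
    obtain ⟨W, hW⟩ := hsub _ hne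
    have hxK : x ∈ Subgroup.closure ({x, y} : Set G) := Subgroup.subset_closure (by simp)
    have hyK : y ∈ Subgroup.closure ({x, y} : Set G) := Subgroup.subset_closure (by simp)
    have hxW : (⟨x, hxK⟩ : Subgroup.closure ({x, y} : Set G)) ∈ W := by
      rw [← SetLike.mem_coe, hW]; exact Subtype.ext hx
    have hyW : (⟨y, hyK⟩ : Subgroup.closure ({x, y} : Set G)) ∈ W := by
      rw [← SetLike.mem_coe, hW]; exact Subtype.ext hy
    have := W.mul_mem hxW hyW
    rw [← SetLike.mem_coe, hW] at this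
    exact hxy (congrArg Subtype.val this)
  -- every proper quotient has exponent `p`
  have hexpq : ∀ (M : Subgroup G) [M.Normal], M ≠ ⊥ → ∀ g : G, g ^ p ∈ M := by
    intro M hM hM1 g
    obtain ⟨W, hW⟩ := hquo M hM1
    have hxW : (x : G ⧸ M) ∈ W := by
      rw [← SetLike.mem_coe, hW]
      change (x : G ⧸ M) ^ p = 1
      rw [← QuotientGroup.mk_pow, hx]; rfl
    have hyW : (y : G ⧸ M) ∈ W := by
      rw [← SetLike.mem_coe, hW]
      change (y : G ⧸ M) ^ p = 1
      rw [← QuotientGroup.mk_pow, hy]; rfl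
    have hle : Subgroup.closure ({x, y} : Set G) ≤ W.comap (QuotientGroup.mk' M) := by
      rw [Subgroup.closure_le]
      intro z hz
      rcases hz with rfl | rfl
      · exact hxW
      · exact hyW
    rw [hgen] at hle
    have hg : (g : G ⧸ M) ∈ W := hle (Subgroup.mem_top g)
    rw [← SetLike.mem_coe, hW] at hg
    have hg' : (g : G ⧸ M) ^ p = 1 := hg
    rw [← QuotientGroup.mk_pow] at hg'
    exact (QuotientGroup.eq_one_iff _).1 hg'
  have hnt : Nontrivial G := by
    by_contra h
    rw [not_nontrivial_iff_subsingleton] at h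
    exact hnp (fun g => ⟨0, by rw [Subsingleton.elim g 1, one_pow]⟩)
  obtain ⟨N, hNn, hN1, hNtop, hmin⟩ := MinNonPClosed.exists_min_normal hns
  obtain ⟨W, hW⟩ := hsub N hNtop
  have hWn : (W.map N.subtype).Normal := by
    refine ⟨fun n hn g => ?_⟩
    obtain ⟨w, hw, rfl⟩ := hn
    refine ⟨⟨g * w * g⁻¹, hNn.conj_mem _ w.2 g⟩, ?_, rfl⟩
    have hw2 : w ∈ (W : Set N) := hw
    rw [hW] at hw2
    change _ ∈ (W : Set N)
    rw [hW]
    have hw' : (w : G) ^ p = 1 := by
      have := congrArg Subtype.val (show w ^ p = 1 from hw2)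
      simpa using this
    apply Subtype.ext
    change (g * w * g⁻¹) ^ p = 1
    rw [conj_pow, hw', mul_one, mul_inv_cancel]
  have hpN : ¬ p ∣ Nat.card N := by
    rcases hmin _ hWn (Subgroup.map_subtype_le _) with h | h
    · intro hd
      rw [Subgroup.map_eq_bot_iff_of_injective _ N.subtype_injective] at h
      obtain ⟨z, hz⟩ := exists_prime_orderOf_dvd_card' (G := N) p hd
      have hzW : z ∈ W := by
        rw [← SetLike.mem_coe, hW]
        change z ^ p = 1
        rw [← hz]; exact pow_orderOf_eq_one z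
      rw [h, Subgroup.mem_bot] at hzW
      rw [hzW, orderOf_one] at hz
      exact hp.out.one_lt.ne' hz.symm
    · exfalso
      apply hnp
      intro g
      refine ⟨2, ?_⟩
      have h1 := hexpq N hN1 g
      have h2 : g ^ p ∈ W.map N.subtype := by rw [h]; exact h1
      obtain ⟨w, hw, hwg⟩ := h2
      have hw2 : w ∈ (W : Set N) := hw
      rw [hW] at hw2
      have hw' : (w : G) ^ p = 1 := by
        have := congrArg Subtype.val (show w ^ p = 1 from hw2)
        simpa using this
      have hwg' : (w : G) = g ^ p := hwg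
      rw [pow_two, pow_mul, ← hwg', hw']
  have hcop : (Nat.card N).Coprime p :=
    Nat.Coprime.symm ((Nat.Prime.coprime_iff_not_dvd hp.out).2 hpN)
  have hpel : ∀ g : G, ∀ k, g ^ p ^ k = 1 → g ^ p = 1 := by
    intro g k hg
    apply MinNonPClosed.eq_one_of_pprime N hcop (hexpq N hN1 g) (k := k)
    rw [← pow_mul, mul_comm, pow_mul, hg, one_pow]
  apply MinNonPClosed.structure_thm _ _ _ hns
  · intro hall
    obtain ⟨P⟩ : Nonempty (Sylow p G) := inferInstance
    apply hnc
    refine ⟨P, ?_⟩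
    ext g
    constructor
    · intro hg
      obtain ⟨k, hk⟩ := P.isPGroup' ⟨g, hg⟩
      exact hpel g k (by simpa using congrArg Subtype.val hk)
    · intro hg
      have hg' : g ^ p = 1 := hg
      have hz : IsPGroup p (Subgroup.zpowers g) := by
        rintro ⟨z, hz⟩
        obtain ⟨n, rfl⟩ := Subgroup.mem_zpowers_iff.1 hz
        refine ⟨1, Subtype.ext ?_⟩
        change (g ^ n) ^ p ^ 1 = 1
        rw [pow_one, ← zpow_natCast, ← zpow_mul, mul_comm, zpow_mul, zpow_natCast, hg', one_zpow]
      obtain ⟨Q, hQ⟩ := hz.exists_le_sylow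
      have hQP : Q = P := by
        obtain ⟨c, hc⟩ := MulAction.exists_smul_eq G P Q
        rw [← hc]
        have := hall P
        exact Sylow.smul_eq_of_normal
      rw [← hQP]
      exact hQ (Subgroup.mem_zpowers g)
  · intro H hH P₁
    obtain ⟨W', hW'⟩ := hsub H hH
    have hPW : (P₁ : Subgroup H) ≤ W' := by
      intro g hg
      obtain ⟨k, hk⟩ := P₁.isPGroup' ⟨g, hg⟩
      rw [← SetLike.mem_coe, hW']
      have h1 : (g : G) ^ p ^ k = 1 := by
        have := congrArg (fun z : (P₁ : Subgroup H) => ((z : H) : G)) hk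
        simpa using this
      exact Subtype.ext (by simpa using hpel g k h1)
    have hWp : IsPGroup p W' := by
      intro w
      refine ⟨1, ?_⟩
      have h1 : (w : H) ∈ (W' : Set H) := w.2
      rw [hW'] at h1
      rw [pow_one]
      exact Subtype.ext h1
    have hWP : W' = P₁ := P₁.is_maximal' hWp hPW
    rw [← hWP]
    refine ⟨fun n hn g => ?_⟩
    rw [← SetLike.mem_coe, hW'] at hn ⊢
    change (g * n * g⁻¹) ^ p = 1
    rw [conj_pow, (show n ^ p = 1 from hn), mul_one, mul_inv_cancel]
  · intro M hM hM1 P₁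
    have hpg : IsPGroup p (G ⧸ M) := by
      intro g
      obtain ⟨g, rfl⟩ := QuotientGroup.mk_surjective g
      exact ⟨1, by
        rw [pow_one, ← QuotientGroup.mk_pow]
        exact (QuotientGroup.eq_one_iff _).2 (hexpq M hM1 g)⟩
    have : (⊤ : Subgroup (G ⧸ M)) = P₁ := P₁.is_maximal' (hpg.to_subgroup ⊤) le_top
    rw [← this]
    infer_instance

end Cfsg.Agent.Lib.Helper19.PExpClosed
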