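import Mathlib
import Cfsg.Agent.Lib.Helper19.PSL27a

set_option autoImplicit false

namespace Cfsg.Agent.Lib.Helper19

open Matrix

section psl27b
variable {F : Type*} [Field F]

theorem psl_pow_eq_one (g : SpecialLinearGroup (Fin 2) F) (k : ℕ) (r : F) (hr : r ^ 2 = 1)
    (h : (g : Matrix (Fin 2) (Fin 2) F) ^ k = r • 1) :
    (QuotientGroup.mk g : ProjectiveSpecialLinearGroup (Fin 2) F) ^ k = 1 := by
  rw [← QuotientGroup.mk_pow, QuotientGroup.eq_one_iff, Matrix.SpecialLinearGroup.mem_center_iff]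
  refine ⟨r, by simpa using hr, ?_⟩
  rw [Matrix.SpecialLinearGroup.coe_pow, h]
  ext i j
  simp [Matrix.one_apply, Matrix.diagonal_apply]

theorem psl27_pow [Fintype F] (hF : Fintype.card F = 7)
    (x : ProjectiveSpecialLinearGroup (Fin 2) F) :
    x ^ 2 = 1 ∨ x ^ 3 = 1 ∨ x ^ 4 = 1 ∨ x ^ 7 = 1 := by
  obtain ⟨g, rfl⟩ := QuotientGroup.mk_surjective x
  have hrel := sl2_cayley (g : Matrix (Fin 2) (Fin 2) F) g.2
  rcases sl27_pow hF (g : Matrix (Fin 2) (Fin 2) F) _ hrel with h | ⟨r, hr, h⟩ | h | h | h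
  · left
    exact psl_pow_eq_one g 2 (-1) (by norm_num) (by rw [h]; simp)
  · right; left
    exact psl_pow_eq_one g 3 r hr h
  · right; right; left
    exact psl_pow_eq_one g 4 (-1) (by norm_num) (by rw [h]; simp)
  · right; right; right
    exact psl_pow_eq_one g 7 1 (by norm_num) (by rw [h]; simp)
  · right; right; right
    exact psl_pow_eq_one g 7 (-1) (by norm_num) (by rw [h]; simp)

theorem psl_mk_ne_one (g : SpecialLinearGroup (Fin 2) F)
    (h : (g : Matrix (Fin 2) (Fin 2) F) 0 1 ≠ 0) :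
    (QuotientGroup.mk g : ProjectiveSpecialLinearGroup (Fin 2) F) ≠ 1 := by
  intro hg
  rw [QuotientGroup.eq_one_iff, Matrix.SpecialLinearGroup.mem_center_iff] at hg
  obtain ⟨r, _, hr⟩ := hg
  apply h
  rw [← hr]
  simp

theorem psl27_exists_order_two :
    ∃ x : ProjectiveSpecialLinearGroup (Fin 2) F, orderOf x = 2 := by
  let g : SpecialLinearGroup (Fin 2) F := ⟨!![0, 1; -1, 0], by simp [Matrix.det_fin_two]⟩
  refine ⟨QuotientGroup.mk g, ?_⟩
  apply orderOf_eq_prime
  · apply psl_pow_eq_one g 2 (-1) (by norm_num)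
    ext i j
    fin_cases i <;> fin_cases j <;> simp [g, pow_succ, Matrix.mul_apply, Fin.sum_univ_two]
  · exact psl_mk_ne_one g (by simp [g])

theorem psl27_exists_order_three :
    ∃ x : ProjectiveSpecialLinearGroup (Fin 2) F, orderOf x = 3 := by
  let g : SpecialLinearGroup (Fin 2) F := ⟨!![0, 1; -1, -1], by simp [Matrix.det_fin_two]⟩
  refine ⟨QuotientGroup.mk g, ?_⟩
  have : Fact (Nat.Prime 3) := ⟨Nat.prime_three⟩
  apply orderOf_eq_prime
  · apply psl_pow_eq_one g 3 1 (by norm_num)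
    ext i j
    fin_cases i <;> fin_cases j <;> simp [g, pow_succ, Matrix.mul_apply, Fin.sum_univ_two]
  · exact psl_mk_ne_one g (by simp [g])

theorem psl27_exists_order_seven [Fintype F] (hF : Fintype.card F = 7) :
    ∃ x : ProjectiveSpecialLinearGroup (Fin 2) F, orderOf x = 7 := by
  have h7 := seven_eq_zero_of_card_seven hF
  let g : SpecialLinearGroup (Fin 2) F := ⟨!![1, 1; 0, 1], by simp [Matrix.det_fin_two]⟩
  refine ⟨QuotientGroup.mk g, ?_⟩
  have : Fact (Nat.Prime 7) := ⟨by norm_num⟩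
  apply orderOf_eq_prime
  · apply psl_pow_eq_one g 7 1 (by norm_num)
    have hrel := sl2_cayley (g : Matrix (Fin 2) (Fin 2) F) g.2
    have ht : (g : Matrix (Fin 2) (Fin 2) F) 0 0 + (g : Matrix (Fin 2) (Fin 2) F) 1 1 = 2 := by
      simp [g]; norm_num
    rw [ht] at hrel
    rw [pow_seven_of_trace_two h7 _ hrel, one_smul]
  · exact psl_mk_ne_one g (by simp [g])

end psl27b

end Cfsg.Agent.Lib.Helper19
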