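import Mathlib
import Cfsg.Agent.Lib.Helper19.PSL27b
import Cfsg.Agent.Lib.Helper19.AffF8c

set_option autoImplicit false

namespace Cfsg.Agent.Lib.Helper19

/-- the prime divisors of a group all of whose element orders lie in `{1,2,3,4,7,9}` and which
has elements of order `2, 3, 7` -/
theorem prime_dvd_card_iff_237 {X : Type*} [Group X] [Finite X]
    (hX : ∀ x : X, orderOf x = 1 ∨ orderOf x = 2 ∨ orderOf x = 3 ∨ orderOf x = 4 ∨
      orderOf x = 7 ∨ orderOf x = 9)
    (h2 : ∃ x : X, orderOf x = 2) (h3 : ∃ x : X, orderOf x = 3) (h7 : ∃ x : X, orderOf x = 7)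
    (p : ℕ) (hp : p.Prime) : p ∣ Nat.card X ↔ p = 2 ∨ p = 3 ∨ p = 7 := by
  constructor
  · intro hdvd
    haveI : Fact p.Prime := ⟨hp⟩
    obtain ⟨x, hx⟩ := exists_prime_orderOf_dvd_card' p hdvd
    rcases hX x with h | h | h | h | h | h <;> rw [hx] at h
    · exact absurd h hp.one_lt.ne'
    · exact Or.inl h
    · exact Or.inr (Or.inl h)
    · exfalso; rw [h] at hp; norm_num at hp
    · exact Or.inr (Or.inr h)
    · exfalso; rw [h] at hp; norm_num at hp
  · rintro (rfl | rfl | rfl)
    · obtain ⟨x, hx⟩ := h2; rw [← hx]; exact orderOf_dvd_natCard x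
    · obtain ⟨x, hx⟩ := h3; rw [← hx]; exact orderOf_dvd_natCard x
    · obtain ⟨x, hx⟩ := h7; rw [← hx]; exact orderOf_dvd_natCard x

theorem no_orderOf_mul_primes {X : Type*} [Group X]
    (hX : ∀ x : X, orderOf x = 1 ∨ orderOf x = 2 ∨ orderOf x = 3 ∨ orderOf x = 4 ∨
      orderOf x = 7 ∨ orderOf x = 9)
    (p q : ℕ) (hp : p.Prime) (hq : q.Prime) (hpq : p ≠ q) : ¬ ∃ x : X, orderOf x = p * q := by
  rintro ⟨x, hx⟩
  have hp2 := hp.two_le
  have hq2 := hq.two_le
  have h6 : 6 ≤ p * q := by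
    rcases Nat.lt_or_ge p 3 with h | h
    · have : p = 2 := by omega
      subst this
      have : 3 ≤ q := by omega
      omega
    · nlinarith
  rcases hX x with h | h | h | h | h | h <;> rw [hx] at h
  · omega
  · omega
  · omega
  · omega
  · have : p ∣ 7 := Dvd.intro _ h
    have h7 : p = 7 := (Nat.prime_dvd_prime_iff_eq hp (by norm_num)).mp this
    subst h7
    omega
  · have : p ∣ 3 ^ 2 := Dvd.intro _ (by rw [h]; norm_num)
    have h3 : p = 3 := (Nat.prime_dvd_prime_iff_eq hp Nat.prime_three).mp (hp.dvd_of_dvd_pow this)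
    subst h3
    have : q = 3 := by omega
    exact hpq this.symm

theorem psl27_orderOf {F : Type*} [Field F] [Fintype F] (hF : Fintype.card F = 7)
    (x : Matrix.ProjectiveSpecialLinearGroup (Fin 2) F) :
    orderOf x = 1 ∨ orderOf x = 2 ∨ orderOf x = 3 ∨ orderOf x = 4 ∨ orderOf x = 7 ∨
      orderOf x = 9 := by
  rcases psl27_pow hF x with h | h | h | h
  · have := orderOf_dvd_of_pow_eq_one h
    rcases (Nat.dvd_prime Nat.prime_two).mp this with h1 | h1 <;> simp [h1]
  · have := orderOf_dvd_of_pow_eq_one h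
    rcases (Nat.dvd_prime Nat.prime_three).mp this with h1 | h1 <;> simp [h1]
  · have := orderOf_dvd_of_pow_eq_one h
    have h4 : orderOf x ≤ 4 := Nat.le_of_dvd (by norm_num) this
    interval_cases (orderOf x) <;> simp_all
  · have := orderOf_dvd_of_pow_eq_one h
    rcases (Nat.dvd_prime (by norm_num : Nat.Prime 7)).mp this with h1 | h1 <;> simp [h1]

theorem psl27_prime_graph_large {F : Type*} [Field F] [Fintype F] (hF : Fintype.card F = 7)
    (N : ℕ) :
    ∃ (H : Type) (_ : Group H) (_ : Finite H), N < Nat.card H ∧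
      ((∀ p : ℕ, p.Prime → (p ∣ Nat.card (Matrix.ProjectiveSpecialLinearGroup (Fin 2) F) ↔
        p ∣ Nat.card H)) ∧
      (∀ p q : ℕ, p.Prime → q.Prime → p ≠ q →
        ((∃ g : (Matrix.ProjectiveSpecialLinearGroup (Fin 2) F), orderOf g = p * q) ↔
          (∃ g : H, orderOf g = p * q)))) := by
  classical
  obtain ⟨H, hg, hf, hN, hH, h2, h3, h7⟩ := aff8_large N
  refine ⟨H, hg, hf, hN, ?_, ?_⟩
  · intro p hp
    rw [prime_dvd_card_iff_237 (psl27_orderOf hF) psl27_exists_order_two psl27_exists_order_three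
      (psl27_exists_order_seven hF) p hp, prime_dvd_card_iff_237 hH h2 h3 h7 p hp]
  · intro p q hp hq hpq
    constructor
    · intro h
      exact absurd h (no_orderOf_mul_primes (psl27_orderOf hF) p q hp hq hpq)
    · intro h
      exact absurd h (no_orderOf_mul_primes hH p q hp hq hpq)

end Cfsg.Agent.Lib.Helper19
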