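/-
Helper19 library: a solvable group with the same spectrum `{1,2,3,4,6,7,8,12}` as `PSU₃(3)`:
the Frobenius group `𝔽₄₉² ⋊ (C₃ ⋊ C₈)`.
-/
import Mathlib
import Cfsg.Agent.Lib.Helper9.FrobSpec

set_option autoImplicit false
set_option linter.unusedSectionVars false
set_option linter.style.haveILetI false

namespace Cfsg.Agent.Lib.Helper19.PSU33Solv

open Cfsg.Agent.Lib.Helper9.FrobSpec

/-- the field with 49 elements, as `𝔽₇[√-1]`. -/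
abbrev K7 : Type := QuadraticAlgebra (ZMod 7) 6 0

instance fact7p : Fact (Nat.Prime 7) := ⟨by norm_num⟩

instance fact7 : Fact (∀ r : ZMod 7, r ^ 2 ≠ (6 : ZMod 7) + 0 * r) := ⟨by decide⟩

instance : Finite K7 := Finite.of_equiv _ (QuadraticAlgebra.equivProd (6 : ZMod 7) 0).symm

/-- 2 × 2 matrices. -/
abbrev N2 : Type := Matrix (Fin 2) (Fin 2) K7

/-- the 24 elements of the group `C₃ ⋊ C₈`. -/
def L24 : List N2 := [
  !![⟨0, 0⟩, ⟨0, 1⟩; ⟨6, 0⟩, ⟨0, 0⟩],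
  !![⟨0, 0⟩, ⟨0, 2⟩; ⟨3, 0⟩, ⟨0, 0⟩],
  !![⟨0, 0⟩, ⟨0, 3⟩; ⟨2, 0⟩, ⟨0, 0⟩],
  !![⟨0, 0⟩, ⟨0, 4⟩; ⟨5, 0⟩, ⟨0, 0⟩],
  !![⟨0, 0⟩, ⟨0, 5⟩; ⟨4, 0⟩, ⟨0, 0⟩],
  !![⟨0, 0⟩, ⟨0, 6⟩; ⟨1, 0⟩, ⟨0, 0⟩],
  !![⟨0, 0⟩, ⟨1, 0⟩; ⟨0, 1⟩, ⟨0, 0⟩],
  !![⟨0, 0⟩, ⟨2, 0⟩; ⟨0, 4⟩, ⟨0, 0⟩],
  !![⟨0, 0⟩, ⟨3, 0⟩; ⟨0, 5⟩, ⟨0, 0⟩],
  !![⟨0, 0⟩, ⟨4, 0⟩; ⟨0, 2⟩, ⟨0, 0⟩],
  !![⟨0, 0⟩, ⟨5, 0⟩; ⟨0, 3⟩, ⟨0, 0⟩],
  !![⟨0, 0⟩, ⟨6, 0⟩; ⟨0, 6⟩, ⟨0, 0⟩],
  !![⟨0, 1⟩, ⟨0, 0⟩; ⟨0, 0⟩, ⟨0, 1⟩],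
  !![⟨0, 2⟩, ⟨0, 0⟩; ⟨0, 0⟩, ⟨0, 4⟩],
  !![⟨0, 3⟩, ⟨0, 0⟩; ⟨0, 0⟩, ⟨0, 5⟩],
  !![⟨0, 4⟩, ⟨0, 0⟩; ⟨0, 0⟩, ⟨0, 2⟩],
  !![⟨0, 5⟩, ⟨0, 0⟩; ⟨0, 0⟩, ⟨0, 3⟩],
  !![⟨0, 6⟩, ⟨0, 0⟩; ⟨0, 0⟩, ⟨0, 6⟩],
  !![⟨1, 0⟩, ⟨0, 0⟩; ⟨0, 0⟩, ⟨1, 0⟩],
  !![⟨2, 0⟩, ⟨0, 0⟩; ⟨0, 0⟩, ⟨4, 0⟩],
  !![⟨3, 0⟩, ⟨0, 0⟩; ⟨0, 0⟩, ⟨5, 0⟩],
  !![⟨4, 0⟩, ⟨0, 0⟩; ⟨0, 0⟩, ⟨2, 0⟩],
  !![⟨5, 0⟩, ⟨0, 0⟩; ⟨0, 0⟩, ⟨3, 0⟩],
  !![⟨6, 0⟩, ⟨0, 0⟩; ⟨0, 0⟩, ⟨6, 0⟩]
]

/-- generator of order 3. -/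
def mA : N2 := !![⟨2, 0⟩, ⟨0, 0⟩; ⟨0, 0⟩, ⟨4, 0⟩]
/-- generator of order 8. -/
def mB : N2 := !![⟨0, 0⟩, ⟨1, 0⟩; ⟨0, 1⟩, ⟨0, 0⟩]
/-- inverse of `mA`. -/
def mAInv : N2 := !![⟨4, 0⟩, ⟨0, 0⟩; ⟨0, 0⟩, ⟨2, 0⟩]
/-- inverse of `mB`. -/
def mBInv : N2 := !![⟨0, 0⟩, ⟨0, 6⟩; ⟨1, 0⟩, ⟨0, 0⟩]

set_option maxRecDepth 100000 in
theorem closed_A : ∀ ℓ ∈ L24, ℓ * mA ∈ L24 := by decide +kernel

set_option maxRecDepth 100000 in
theorem closed_B : ∀ ℓ ∈ L24, ℓ * mB ∈ L24 := by decide +kernel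

set_option maxRecDepth 100000 in
theorem closed_AInv : ∀ ℓ ∈ L24, ℓ * mAInv ∈ L24 := by decide +kernel

set_option maxRecDepth 100000 in
theorem closed_BInv : ∀ ℓ ∈ L24, ℓ * mBInv ∈ L24 := by decide +kernel

set_option maxRecDepth 100000 in
theorem pow_L24 : ∀ ℓ ∈ L24, ℓ ^ 8 = 1 ∨ ℓ ^ 12 = 1 := by decide +kernel

set_option maxRecDepth 100000 in
theorem det_L24 : ∀ ℓ ∈ L24, ℓ = 1 ∨ (1 - ℓ).det ≠ 0 := by decide +kernel

set_option maxRecDepth 100000 in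
theorem one_mem_L24 : (1 : N2) ∈ L24 := by decide +kernel

theorem mA_mul_inv : mA * mAInv = 1 := by decide +kernel
theorem mAInv_mul : mAInv * mA = 1 := by decide +kernel
theorem mB_mul_inv : mB * mBInv = 1 := by decide +kernel
theorem mBInv_mul : mBInv * mB = 1 := by decide +kernel
theorem mB_pow8 : mB ^ 8 = 1 := by decide +kernel
theorem mB_pow4 : mB ^ 4 ≠ 1 := by decide +kernel
theorem z12_pow12 : (mA * mB ^ 2) ^ 12 = 1 := by decide +kernel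
theorem z12_pow6 : (mA * mB ^ 2) ^ 6 ≠ 1 := by decide +kernel
theorem z12_pow4 : (mA * mB ^ 2) ^ 4 ≠ 1 := by decide +kernel

/-- the generators as units. -/
def uA : N2ˣ := ⟨mA, mAInv, mA_mul_inv, mAInv_mul⟩
/-- the generators as units. -/
def uB : N2ˣ := ⟨mB, mBInv, mB_mul_inv, mBInv_mul⟩

/-- the group `C₃ ⋊ C₈` of order 24. -/
def H24 : Subgroup N2ˣ := Subgroup.closure {uA, uB}

theorem coe_mem_L24 (h : N2ˣ) (hh : h ∈ H24) : (h : N2) ∈ L24 := by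
  refine Subgroup.closure_induction_right
    (p := fun (x : N2ˣ) _ => (x : N2) ∈ L24) ?_ ?_ ?_ hh
  · exact one_mem_L24
  · intro x _ y hy ih
    rw [Units.val_mul]
    rcases hy with rfl | rfl
    · exact closed_A _ ih
    · exact closed_B _ ih
  · intro x _ y hy ih
    rw [Units.val_mul]
    rcases hy with rfl | rfl
    · exact closed_AInv _ ih
    · exact closed_BInv _ ih

theorem coe_pow_H24 (h : H24) (k : ℕ) : (((h ^ k : H24) : N2ˣ) : N2) = ((h : N2ˣ) : N2) ^ k := by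
  rw [Subgroup.coe_pow, Units.val_pow_eq_pow_val]

theorem pow_eq_one_iff_H24 (h : H24) (k : ℕ) : h ^ k = 1 ↔ ((h : N2ˣ) : N2) ^ k = 1 := by
  rw [← coe_pow_H24]
  constructor
  · intro e; rw [e]; rfl
  · intro e
    apply Subtype.ext
    apply Units.ext
    exact e

theorem pow_cases24 (h : H24) : h ^ 8 = 1 ∨ h ^ 12 = 1 := by
  have hm := coe_mem_L24 h.1 h.2
  rcases pow_L24 _ hm with h8 | h12
  · left; exact (pow_eq_one_iff_H24 h 8).mpr h8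
  · right; exact (pow_eq_one_iff_H24 h 12).mpr h12

theorem orderOf_mem24 (h : H24) : orderOf h ∈ ({1, 2, 3, 4, 6, 8, 12} : Set ℕ) := by
  rcases pow_cases24 h with h8 | h12
  · have hd := orderOf_dvd_of_pow_eq_one h8
    have hle := Nat.le_of_dvd (by norm_num) hd
    have hpos := orderOf_pos_iff.mpr (isOfFinOrder_iff_pow_eq_one.mpr ⟨8, by norm_num, h8⟩)
    interval_cases (orderOf h) <;> simp_all
  · have hd := orderOf_dvd_of_pow_eq_one h12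
    have hle := Nat.le_of_dvd (by norm_num) hd
    have hpos := orderOf_pos_iff.mpr (isOfFinOrder_iff_pow_eq_one.mpr ⟨12, by norm_num, h12⟩)
    interval_cases (orderOf h) <;> simp_all

/-- `uB` as an element of the group. -/
def bH : H24 := ⟨uB, Subgroup.subset_closure (by simp)⟩
/-- `uA` as an element of the group. -/
def aH : H24 := ⟨uA, Subgroup.subset_closure (by simp)⟩

theorem orderOf_bH : orderOf bH = 8 := by
  have h := orderOf_eq_prime_pow (x := bH) (p := 2) (n := 2) ?_ ?_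
  · exact h
  · rw [pow_eq_one_iff_H24]; exact mB_pow4
  · rw [pow_eq_one_iff_H24]; exact mB_pow8

theorem coe_z12 : (((aH * bH ^ 2 : H24) : N2ˣ) : N2) = mA * mB ^ 2 := by
  rw [Subgroup.coe_mul, Units.val_mul, Subgroup.coe_pow, Units.val_pow_eq_pow_val]
  rfl

theorem orderOf_z12 : orderOf (aH * bH ^ 2) = 12 := by
  apply orderOf_eq_of_pow_and_pow_div_prime (by norm_num)
  · rw [pow_eq_one_iff_H24, coe_z12]; exact z12_pow12
  · intro p hp hpd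
    have hp12 : p ∣ 12 := hpd
    have hle := Nat.le_of_dvd (by norm_num) hp12
    interval_cases p
    · exact absurd hp (by norm_num)
    · exact absurd hp (by norm_num)
    · rw [show (12 / 2 : ℕ) = 6 from rfl, Ne, pow_eq_one_iff_H24, coe_z12]; exact z12_pow6
    · rw [show (12 / 3 : ℕ) = 4 from rfl, Ne, pow_eq_one_iff_H24, coe_z12]; exact z12_pow4
    · exact absurd hp (by norm_num)
    · exact absurd hp12 (by norm_num)
    · exact absurd hp (by norm_num)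
    · exact absurd hp12 (by norm_num)
    · exact absurd hp (by norm_num)
    · exact absurd hp (by norm_num)
    · exact absurd hp (by norm_num)
    · exact absurd hp12 (by norm_num)
    · exact absurd hp (by norm_num)

theorem range_orderOf_H24 : Set.range (orderOf : H24 → ℕ) = {1, 2, 3, 4, 6, 8, 12} := by
  apply Set.eq_of_subset_of_subset
  · rintro _ ⟨h, rfl⟩
    exact orderOf_mem24 h
  · intro k hk
    simp only [Set.mem_insert_iff, Set.mem_singleton_iff] at hk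
    rcases hk with rfl | rfl | rfl | rfl | rfl | rfl | rfl
    · exact mem_range_orderOf_of_dvd bH 8 1 orderOf_bH (by norm_num) (by norm_num)
    · exact mem_range_orderOf_of_dvd bH 8 2 orderOf_bH (by norm_num) (by norm_num)
    · exact mem_range_orderOf_of_dvd _ 12 3 orderOf_z12 (by norm_num) (by norm_num)
    · exact mem_range_orderOf_of_dvd bH 8 4 orderOf_bH (by norm_num) (by norm_num)
    · exact mem_range_orderOf_of_dvd _ 12 6 orderOf_z12 (by norm_num) (by norm_num)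
    · exact mem_range_orderOf_of_dvd bH 8 8 orderOf_bH (by norm_num) (by norm_num)
    · exact mem_range_orderOf_of_dvd _ 12 12 orderOf_z12 (by norm_num) (by norm_num)

instance : Finite N2ˣ := inferInstance

instance : Finite H24 := inferInstance

instance isSolvable_H24 : Group.IsSolvable H24 := by
  have hne : Nat.card H24 ≠ 0 := Nat.card_pos.ne'
  obtain ⟨a, b, hab⟩ := exists_pow_two_three (Nat.card H24) hne (by
    intro p hp hpd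
    haveI : Fact p.Prime := ⟨hp⟩
    obtain ⟨x, hx⟩ := exists_prime_orderOf_dvd_card' p hpd
    have hmem := orderOf_mem24 x
    rw [hx] at hmem
    simp only [Set.mem_insert_iff, Set.mem_singleton_iff] at hmem
    rcases hmem with h | h | h | h | h | h | h
    · exact absurd (h ▸ hp) (by norm_num)
    · exact Or.inl h
    · exact Or.inr h
    · exact absurd (h ▸ hp) (by norm_num)
    · exact absurd (h ▸ hp) (by norm_num)
    · exact absurd (h ▸ hp) (by norm_num)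
    · exact absurd (h ▸ hp) (by norm_num))
  exact Cfsg.Agent.CharLib.isSolvable_of_card_pq 2 3 a b (by norm_num) (by norm_num) hab

noncomputable instance actH24 : DistribMulAction H24 (Fin 2 → K7) where
  smul h w := ((h : N2ˣ) : N2).mulVec w
  one_smul w := by
    show ((1 : N2ˣ) : N2).mulVec w = w
    rw [Units.val_one, Matrix.one_mulVec]
  mul_smul a b w := by
    show (((a * b : H24) : N2ˣ) : N2).mulVec w =
      ((a : N2ˣ) : N2).mulVec (((b : N2ˣ) : N2).mulVec w)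
    rw [Subgroup.coe_mul, Units.val_mul, Matrix.mulVec_mulVec]
  smul_zero a := Matrix.mulVec_zero _
  smul_add a v w := Matrix.mulVec_add _ _ _

theorem smul_def24 (h : H24) (w : Fin 2 → K7) : h • w = ((h : N2ˣ) : N2).mulVec w := rfl

theorem nsmul7 (w : Fin 2 → K7) : 7 • w = 0 := by
  have h7 : ((7 : ℕ) : K7) = 0 := by decide +kernel
  funext i
  show 7 • w i = 0
  rw [nsmul_eq_mul, h7, zero_mul]

theorem fpf_H24 (h : H24) (hne : h ≠ 1) (u : Fin 2 → K7) : ∃ w : Fin 2 → K7, w - h • w = u := by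
  set M : N2 := ((h : N2ˣ) : N2) with hM
  have hmem := coe_mem_L24 h.1 h.2
  have hM1 : M ≠ 1 := by
    intro h1
    apply hne
    apply Subtype.ext
    apply Units.ext
    exact h1
  have hdet : (1 - M).det ≠ 0 := (det_L24 M hmem).resolve_left hM1
  have hunit : IsUnit (1 - M).det := IsUnit.mk0 _ hdet
  refine ⟨(1 - M)⁻¹.mulVec u, ?_⟩
  rw [smul_def24, ← hM]
  have : (1 - M)⁻¹.mulVec u - M.mulVec ((1 - M)⁻¹.mulVec u)
      = (1 - M).mulVec ((1 - M)⁻¹.mulVec u) := by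
    rw [Matrix.sub_mulVec, Matrix.one_mulVec]
  rw [this, Matrix.mulVec_mulVec, Matrix.mul_nonsing_inv _ hunit, Matrix.one_mulVec]

/-- a solvable group of order `7 ^ 4 * 24`. -/
abbrev G7 : Type := SDP (Fin 2 → K7) H24

theorem range_orderOf_G7 :
    Set.range (orderOf : G7 → ℕ) = {1, 2, 3, 4, 6, 7, 8, 12} := by
  rw [SDP.range_orderOf 7 nsmul7 fpf_H24, range_orderOf_H24]
  ext k
  simp only [Set.mem_union, Set.mem_insert_iff, Set.mem_singleton_iff]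
  tauto

instance : Finite G7 := inferInstance

instance : Group.IsSolvable G7 := inferInstance

end Cfsg.Agent.Lib.Helper19.PSU33Solv
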