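import Mathlib
import Cfsg.Agent.Lib.Helper4.PrimitiveAction
import Cfsg.Agent.Lib.Helper3.Dihedral
import Cfsg.Agent.Lib.Helper17.Basic
/-! A primitive group with a suborbit of length 2 is dihedral of order `2p`. -/
set_option autoImplicit false

namespace Cfsg.Agent.Lib.Helper19

open MulAction Subgroup

theorem relIndex_mul_card' {G : Type*} [Group G] {K H : Subgroup G} (h : K ≤ H) :
    K.relIndex H * Nat.card K = Nat.card H := by
  have h1 := Subgroup.card_mul_index (K.subgroupOf H)
  rw [Nat.card_congr (Subgroup.subgroupOfEquivOfLe h).toEquiv] at h1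
  rw [Subgroup.relIndex, mul_comm]
  exact h1

section
variable {G Ω : Type*} [Group G] [Finite G] [MulAction G Ω] [FaithfulSMul G Ω] [Finite Ω]

/-- the point stabilizer has order 2 -/
theorem card_stabilizer_eq_two_of_suborbit_two (hprim : IsPreprimitive G Ω) (a b : Ω)
    (h2 : Nat.card (orbit (stabilizer G a) b) = 2) :
    Nat.card (stabilizer G a) = 2 ∧ IsCoatom (stabilizer G a) ∧ (stabilizer G a).normalCore = ⊥ := by
  haveI htr : IsPretransitive G Ω := hprim.toIsPretransitive
  have hba : b ≠ a := by
    rintro rfl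
    have hsub : orbit (stabilizer G b) b = {b} := by
      ext x
      constructor
      · rintro ⟨g, rfl⟩
        exact g.2
      · rintro rfl
        exact mem_orbit_self _
    rw [hsub] at h2
    simp at h2
  have hGnt : (⊤ : Subgroup G) ≠ ⊥ := by
    intro h
    obtain ⟨g, hg⟩ := exists_smul_eq G b a
    have : g ∈ (⊤ : Subgroup G) := mem_top g
    rw [h, mem_bot] at this
    rw [this, one_smul] at hg
    exact hba hg
  obtain ⟨hU, hcore⟩ := Cfsg.Agent.Lib.Helper4.primitive_setup hprim ⊤ hGnt a
  refine ⟨?_, hU, hcore⟩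
  set H := stabilizer G a with hH
  set H' := stabilizer G b with hH'
  set K := H ⊓ H' with hK
  have hKle : K ≤ H := inf_le_left
  have hKle' : K ≤ H' := inf_le_right
  -- index of K in H is 2
  have hKH : K.relIndex H = 2 := by
    have h1 := MulAction.index_stabilizer (↥H) b
    rw [← Nat.card_coe_set_eq, h2] at h1
    have h3 : stabilizer (↥H) b = K.subgroupOf H := by
      ext g
      rw [mem_stabilizer_iff, mem_subgroupOf, hK, mem_inf]
      constructor
      · intro hg
        exact ⟨g.2, hg⟩
      · intro hg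
        exact hg.2
    rw [h3] at h1
    exact h1
  -- H and H' have the same order
  have hcardHH' : Nat.card H = Nat.card H' := by
    have e1 := Subgroup.card_mul_index H
    have e2 := Subgroup.card_mul_index H'
    rw [hH, index_stabilizer_of_transitive] at e1
    rw [hH', index_stabilizer_of_transitive] at e2
    have hpos : 0 < Nat.card Ω := Nat.card_pos_iff.mpr ⟨⟨a⟩, inferInstance⟩
    have : Nat.card ↥(stabilizer G a) * Nat.card Ω = Nat.card ↥(stabilizer G b) * Nat.card Ω := by
      rw [e1, e2]
    exact Nat.eq_of_mul_eq_mul_right hpos this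
  have hKH' : K.relIndex H' = 2 := by
    have e1 := relIndex_mul_card' hKle
    have e2 := relIndex_mul_card' hKle'
    rw [hKH] at e1
    rw [← hcardHH', ← e1] at e2
    have hpos : 0 < Nat.card K := Nat.card_pos
    exact Nat.eq_of_mul_eq_mul_right hpos e2
  -- K is normalized by H and H'
  have hn1 : H ≤ normalizer (K : Set G) := by
    rw [← normal_subgroupOf_iff_le_normalizer inf_le_left]
    exact normal_of_index_eq_two hKH
  have hn2 : H' ≤ normalizer (K : Set G) := by
    rw [← normal_subgroupOf_iff_le_normalizer inf_le_right]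
    exact normal_of_index_eq_two hKH'
  have hH'H : ¬ H' ≤ H := by
    intro hle
    -- then K = H', relIndex K H = 1
    have hKeq : K = H' := inf_eq_right.mpr hle
    have e1 := relIndex_mul_card' hKle
    rw [hKH, hKeq, hcardHH'] at e1
    have hpos : 0 < Nat.card H' := Nat.card_pos
    omega
  have htop : normalizer (K : Set G) = ⊤ := by
    apply hU.2
    refine lt_of_le_of_ne hn1 ?_
    intro heq
    exact hH'H (heq ▸ hn2)
  have hKn : K.Normal := normalizer_eq_top_iff.mp htop
  have hKbot : K = ⊥ := by
    have : K ≤ H.normalCore := normal_le_normalCore.mpr inf_le_left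
    rw [hcore] at this
    exact le_bot_iff.mp this
  have e1 := relIndex_mul_card' hKle
  rw [hKH, hKbot, Subgroup.card_bot] at e1
  omega

/-- **primitive group with a suborbit of length 2 is dihedral of order `2p`** -/
theorem dihedral_of_suborbit_two (hprim : IsPreprimitive G Ω) (a b : Ω)
    (h2 : Nat.card (orbit (stabilizer G a) b) = 2) :
    Nat.card (stabilizer G a) = 2 ∧ ∃ p : ℕ, p.Prime ∧ Nonempty (G ≃* DihedralGroup p) := by
  obtain ⟨hc2, hU, hcore⟩ := card_stabilizer_eq_two_of_suborbit_two hprim a b h2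
  refine ⟨hc2, ?_⟩
  haveI htr : IsPretransitive G Ω := hprim.toIsPretransitive
  set H := stabilizer G a with hH
  have hHne : H ≠ ⊥ := by
    intro h
    rw [h, Subgroup.card_bot] at hc2
    omega
  have hHnn : ¬ H.Normal := by
    intro hn
    have := Subgroup.normalCore_eq_self H
    rw [hcore] at this
    exact hHne this.symm
  obtain ⟨t, htH, g, hg⟩ : ∃ t ∈ H, ∃ g : G, g * t * g⁻¹ ∉ H := by
    by_contra hcon
    push Not at hcon
    exact hHnn ⟨fun h hh g => hcon h hh g⟩
  have ht1 : t ≠ 1 := by
    rintro rfl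
    apply hg
    simp
  have htt : t * t = 1 := by
    have h1 : (⟨t, htH⟩ : ↥H) ^ Nat.card ↥H = 1 := pow_card_eq_one'
    rw [hc2] at h1
    have h3 := congrArg Subtype.val h1
    simpa [pow_two] using h3
  have hot : orderOf t = 2 := orderOf_eq_prime (by rw [pow_two]; exact htt) ht1
  have hHz : zpowers t = H := by
    apply Subgroup.eq_of_le_of_card_ge
    · rw [zpowers_le]; exact htH
    · rw [Nat.card_zpowers, hot, hc2]
  set t' := g * t * g⁻¹ with ht'
  have ht't' : t' * t' = 1 := by
    rw [ht']
    have : g * t * g⁻¹ * (g * t * g⁻¹) = g * (t * t) * g⁻¹ := by group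
    rw [this, htt]; group
  have htinv : t⁻¹ = t := inv_eq_of_mul_eq_one_left htt
  have ht'inv : t'⁻¹ = t' := inv_eq_of_mul_eq_one_left ht't'
  set x := t * t' with hx
  have hsx : t * x * t = x⁻¹ := by
    rw [hx, mul_inv_rev, htinv, ht'inv, ← mul_assoc, htt, one_mul]
  have hclos : closure ({x, t} : Set G) = ⊤ := by
    apply hU.2
    refine lt_of_le_of_ne ?_ ?_
    · rw [← hHz, zpowers_le]
      exact subset_closure (by simp)
    · intro heq
      apply hg
      rw [heq]
      have h1 : t * x ∈ closure ({x, t} : Set G) :=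
        mul_mem (subset_closure (by simp)) (subset_closure (by simp))
      have h2 : t * x = t' := by rw [hx, ← mul_assoc, htt, one_mul]
      rwa [h2] at h1
  have htx : t ∉ zpowers x := by
    intro htz
    apply hHnn
    have hle : closure ({x, t} : Set G) ≤ zpowers x := by
      rw [closure_le]
      intro z hz
      rcases hz with rfl | rfl
      · exact mem_zpowers _
      · exact htz
    rw [hclos, top_le_iff] at hle
    constructor
    intro n hn k
    have hk : k ∈ zpowers x := by rw [hle]; exact mem_top k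
    have hn' : n ∈ zpowers x := by rw [hle]; exact mem_top n
    obtain ⟨i, rfl⟩ := hk
    obtain ⟨j, rfl⟩ := hn'
    have : x ^ i * x ^ j * (x ^ i)⁻¹ = x ^ j := by group
    rw [this]; exact hn
  set n := orderOf x with hn
  have hnpos : 0 < n := orderOf_pos x
  let φ := Cfsg.Agent.Lib.Helper3.dihLift x t (pow_orderOf_eq_one x) htt hsx
  have hφinj : Function.Injective φ :=
    Cfsg.Agent.Lib.Helper3.dihLift_injective x t (pow_orderOf_eq_one x) htt hsx rfl htx
  have hφsurj : Function.Surjective φ := by
    rw [← MonoidHom.range_eq_top,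
      Cfsg.Agent.Lib.Helper3.dihLift_range x t (pow_orderOf_eq_one x) htt hsx, hclos]
  let e : DihedralGroup n ≃* G := MulEquiv.ofBijective φ ⟨hφinj, hφsurj⟩
  have hGcard : Nat.card G = 2 * n := by
    rw [← Nat.card_congr e.toEquiv, DihedralGroup.nat_card]
  have hΩcard : Nat.card Ω = n := by
    have e1 := Subgroup.card_mul_index H
    rw [hH, index_stabilizer_of_transitive, ← hH, hc2, hGcard] at e1
    omega
  have hn1 : n ≠ 1 := by
    intro h1
    rw [hn, orderOf_eq_one_iff] at h1
    apply hg
    have : t' = t := by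
      have h3 : t * x = t' := by rw [hx, ← mul_assoc, htt, one_mul]
      rw [← h3, h1, mul_one]
    rw [this]; exact htH
  -- the subgroup of order q
  set q := n.minFac with hq
  have hqp : q.Prime := Nat.minFac_prime hn1
  have hqn : q ∣ n := Nat.minFac_dvd n
  set y := x ^ (n / q) with hy
  have hdq : n / q ∣ n := Nat.div_dvd_of_dvd hqn
  have hdq0 : n / q ≠ 0 := by
    have := Nat.div_pos (Nat.le_of_dvd hnpos hqn) hqp.pos
    omega
  have hoy : orderOf y = q := by
    rw [hy, orderOf_pow_of_dvd hdq0 hdq, ← hn, Nat.div_div_self hqn hnpos.ne']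
  have hZn : (zpowers y).Normal := by
    rw [← normalizer_eq_top_iff, eq_top_iff, ← hclos, closure_le]
    intro z hz
    rcases hz with rfl | rfl
    · apply Cfsg.Agent.Lib.Helper17.mem_normalizer_of_forall_conj_mem
      rintro _ ⟨k, rfl⟩
      have : x * (fun x_1 => y ^ x_1) k * x⁻¹ = y ^ k := by
        show x * (x ^ (n / q)) ^ k * x⁻¹ = (x ^ (n / q)) ^ k
        rw [← zpow_natCast, ← zpow_mul]
        have := (Commute.refl x).zpow_right ((↑(n / q) : ℤ) * k)
        rw [this.eq, mul_inv_cancel_right]
      rw [this]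
      exact ⟨k, rfl⟩
    · apply Cfsg.Agent.Lib.Helper17.mem_normalizer_of_forall_conj_mem
      rintro _ ⟨k, rfl⟩
      have hconj : ∀ w : G, z * w * z⁻¹ = z * w * z := by
        intro w; rw [htinv]
      have h1 : z * x * z⁻¹ = x⁻¹ := by rw [hconj]; exact hsx
      have h2 : z * y * z⁻¹ = y⁻¹ := by
        show z * x ^ (n / q) * z⁻¹ = (x ^ (n / q))⁻¹
        have := @conj_pow G _ (n / q) z x
        rw [← this, h1, inv_pow]
      have h3 : z * (fun x_1 => y ^ x_1) k * z⁻¹ = (y⁻¹) ^ k := by
        show z * y ^ k * z⁻¹ = (y⁻¹) ^ k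
        have := @conj_zpow G _ k z y
        rw [← this, h2]
      rw [h3]
      exact ⟨-k, by simp⟩
  have hy1 : y ≠ 1 := by
    intro h
    rw [h, orderOf_one] at hoy
    exact hqp.one_lt.ne hoy
  haveI : IsPretransitive ↥(zpowers y) Ω := by
    apply IsQuasiPreprimitive.isPretransitive_of_normal (G := G)
    intro hfix
    apply hy1
    apply FaithfulSMul.eq_of_smul_eq_smul (α := Ω)
    intro ω
    have h1 : ω ∈ fixedPoints ↥(zpowers y) Ω := by rw [hfix]; trivial
    rw [one_smul]
    exact h1 ⟨y, mem_zpowers y⟩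
  have hdvd : Nat.card Ω ∣ q := by
    have h1 := index_stabilizer_of_transitive ↥(zpowers y) a
    have h3 := Subgroup.index_dvd_card (stabilizer ↥(zpowers y) a)
    rw [h1, Nat.card_zpowers, hoy] at h3
    exact h3
  rw [hΩcard] at hdvd
  have hnq : n = q := Nat.dvd_antisymm hdvd hqn
  exact ⟨n, hnq ▸ hqp, ⟨e.symm⟩⟩

end

end Cfsg.Agent.Lib.Helper19
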