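import Mathlib
import Cfsg.Agent.Lib.Helper19.MinNormalPower
import Cfsg.Agent.Lib.Helper4.PrimitiveTwo
import Cfsg.Agent.Lib.Helper4.PrimitiveAction
/-! The socle of a finite group with a core-free maximal subgroup (primitive groups). -/
set_option autoImplicit false

namespace Cfsg.Agent.Lib.Helper19

open Subgroup

/-- `(Fin m → T) × (Fin n → T) ≃* (Fin (m+n) → T)` -/
def piAppendMulEquiv (T : Type*) [Mul T] (m n : ℕ) :
    ((Fin m → T) × (Fin n → T)) ≃* (Fin (m + n) → T) where
  toFun p := Fin.append p.1 p.2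
  invFun g := (fun i => g (Fin.castAdd n i), fun j => g (Fin.natAdd m j))
  left_inv p := by
    ext i
    · simp
    · simp
  right_inv g := by
    ext i
    refine Fin.addCases ?_ ?_ i
    · intro j; simp
    · intro j; simp
  map_mul' p q := by
    ext i
    refine Fin.addCases ?_ ?_ i
    · intro j; simp
    · intro j; simp

section
variable {G : Type*} [Group G]

/-- minimal normal subgroup, in the unbundled form used in the statements -/
def IsMinN (V : Subgroup G) : Prop :=
  V.Normal ∧ V ≠ ⊥ ∧ ∀ M : Subgroup G, M.Normal → M ≤ V → M = ⊥ ∨ M = V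

theorem IsMinN.inf_eq_bot {A B : Subgroup G} (hA : IsMinN A) (hB : IsMinN B) (hAB : A ≠ B) :
    A ⊓ B = ⊥ := by
  haveI := hA.1
  haveI := hB.1
  have hn : (A ⊓ B).Normal := inferInstance
  rcases hA.2.2 _ hn inf_le_left with h | h
  · exact h
  · exfalso
    have hle : A ≤ B := by rw [← h]; exact inf_le_right
    rcases hB.2.2 A hA.1 hle with h1 | h1
    · exact hA.2.1 h1
    · exact hAB h1

theorem IsMinN.le_centralizer {A B : Subgroup G} (hA : IsMinN A) (hB : IsMinN B) (hAB : A ≠ B) :
    B ≤ centralizer (A : Set G) := by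
  intro b hb
  rw [mem_centralizer_iff]
  intro a ha
  have := commute_of_normal_of_disjoint A B hA.1 hB.1 (disjoint_iff.mpr (hA.inf_eq_bot hB hAB)) a b ha hb
  exact this

theorem exists_isMinN [Finite G] [Nontrivial G] : ∃ A : Subgroup G, IsMinN A := by
  have h0 : (fun V : Subgroup G => V.Normal ∧ V ≠ ⊥) ⊤ := ⟨inferInstance, top_ne_bot⟩
  obtain ⟨A, -, hA⟩ := Finite.exists_le_minimal (p := fun V : Subgroup G => V.Normal ∧ V ≠ ⊥) h0
  refine ⟨A, hA.1.1, hA.1.2, ?_⟩
  intro M hM hMA
  by_cases h : M = ⊥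
  · exact Or.inl h
  · exact Or.inr (le_antisymm hMA (hA.2 ⟨hM, h⟩ hMA))

/-- an abelian minimal normal subgroup has prime exponent -/
theorem IsMinN.exists_prime_pow_eq_one [Finite G] {A : Subgroup G} (hA : IsMinN A)
    (hAc : ∀ x ∈ A, ∀ y ∈ A, x * y = y * x) : ∃ p : ℕ, p.Prime ∧ ∀ x ∈ A, x ^ p = 1 := by
  haveI := hA.1
  obtain ⟨T, m, hTA, -, hs, -, ⟨e⟩⟩ := exists_simple_pi_equiv_of_minNormal A hA.2.1 hA.2.2
  letI : CommGroup ↥T :=
    { (inferInstance : Group ↥T) with
      mul_comm := fun a b => Subtype.ext (hAc a (hTA a.2) b (hTA b.2)) }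
  have hp : (Nat.card ↥T).Prime := IsSimpleGroup.prime_card (α := ↥T)
  refine ⟨Nat.card ↥T, hp, ?_⟩
  intro x hx
  have h1 : e (⟨x, hx⟩ ^ Nat.card ↥T) = 1 := by
    rw [map_pow]
    funext i
    simp only [Pi.pow_apply, Pi.one_apply]
    exact pow_card_eq_one'
  have h2 : (⟨x, hx⟩ : ↥A) ^ Nat.card ↥T = 1 := by
    apply e.injective
    rw [h1, map_one]
  have := congrArg Subtype.val h2
  simpa using this

/-- a group isomorphic to a power of a commutative group is commutative (contrapositive form) -/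
theorem not_isMulCommutative_of_pi_equiv {A : Type*} [Group A] {T : Type*} [Group T] {m : ℕ}
    (e : A ≃* (Fin m → T)) (hA : ¬ ∀ x y : A, x * y = y * x) : ¬ IsMulCommutative T := by
  intro h
  apply hA
  intro x y
  apply e.injective
  rw [map_mul, map_mul]
  funext i
  simp only [Pi.mul_apply]
  exact h.is_comm.comm _ _

/-- **Socle of a finite group with a core-free maximal subgroup.** -/
theorem socle_of_coreFree_coatom [Finite G] (U : Subgroup G) (hU : IsCoatom U)
    (hcore : U.normalCore = ⊥) (N : Subgroup G) (hN : N = sSup {V : Subgroup G | IsMinN V}) :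
    (∃ p : ℕ, p.Prime ∧ N.Normal ∧ N ≠ ⊥ ∧ (∀ x ∈ N, ∀ y ∈ N, x * y = y * x) ∧
      (∀ x ∈ N, x ^ p = 1) ∧ U ⊓ N = ⊥) ∨
    (∃ (T : Type) (_ : Group T) (m : ℕ), 1 ≤ m ∧ IsSimpleGroup T ∧ ¬ IsMulCommutative T ∧
      Nonempty (↥N ≃* (Fin m → T))) := by
  have hnt : Nontrivial G := by
    by_contra h
    rw [not_nontrivial_iff_subsingleton] at h
    exact hU.1 (Subsingleton.elim _ _)
  by_cases hab : ∃ A : Subgroup G, IsMinN A ∧ ∀ x ∈ A, ∀ y ∈ A, x * y = y * x
  · left
    obtain ⟨A, hA, hAc⟩ := hab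
    have hcent := Cfsg.Agent.Lib.Helper4.coreFree_centralizer_abelian U hU hcore A hA.1 hA.2.1 hAc
    have hall : ∀ B : Subgroup G, IsMinN B → B = A := by
      intro B hB
      by_contra hne
      have h1 : B ≤ A := by
        have := hA.le_centralizer hB (Ne.symm hne)
        rwa [hcent] at this
      rcases hA.2.2 B hB.1 h1 with h2 | h2
      · exact hB.2.1 h2
      · exact hne h2
    have hset : {V : Subgroup G | IsMinN V} = {A} := by
      ext V
      simp only [Set.mem_setOf_eq, Set.mem_singleton_iff]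
      exact ⟨hall V, fun h => h ▸ hA⟩
    rw [hset, sSup_singleton] at hN
    subst hN
    obtain ⟨p, hp, hpow⟩ := hA.exists_prime_pow_eq_one hAc
    exact ⟨p, hp, hA.1, hA.2.1, hAc, hpow,
      Cfsg.Agent.Lib.Helper4.coreFree_inf_abelian U hU hcore N hA.1 hA.2.1 hAc⟩
  · right
    push Not at hab
    obtain ⟨A, hA⟩ := exists_isMinN (G := G)
    haveI := hA.1
    obtain ⟨T, instT, m, hs, hm, ⟨e⟩⟩ :=
      exists_simple_type0_pi_equiv_of_minNormal A hA.2.1 hA.2.2
    have hAnc : ¬ ∀ x y : ↥A, x * y = y * x := by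
      intro h
      obtain ⟨x, hx, y, hy, hxy⟩ := hab A hA
      apply hxy
      have := h ⟨x, hx⟩ ⟨y, hy⟩
      exact congrArg Subtype.val this
    have hTnc := not_isMulCommutative_of_pi_equiv e hAnc
    by_cases h2 : ∃ B : Subgroup G, IsMinN B ∧ B ≠ A
    · obtain ⟨B, hB, hBA⟩ := h2
      haveI := hB.1
      obtain ⟨hCB, hCA, -, -, -, ⟨eAB⟩, -⟩ :=
        Cfsg.Agent.Lib.Helper4.coreFree_two_minNormal U hU hcore A B hA.2.1 hB.2.1 hA.2.2 hB.2.2
          (Ne.symm hBA)
      have hall : ∀ C : Subgroup G, IsMinN C → C = A ∨ C = B := by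
        intro C hC
        by_cases hCA' : C = A
        · exact Or.inl hCA'
        · right
          have h1 : C ≤ B := by
            have := hA.le_centralizer hC (Ne.symm hCA')
            rwa [hCA] at this
          rcases hB.2.2 C hC.1 h1 with h3 | h3
          · exact absurd h3 hC.2.1
          · exact h3
      have hset : {V : Subgroup G | IsMinN V} = {A, B} := by
        ext V
        simp only [Set.mem_setOf_eq, Set.mem_insert_iff, Set.mem_singleton_iff]
        constructor
        · exact hall V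
        · rintro (h | h)
          · exact h ▸ hA
          · exact h ▸ hB
      rw [hset, sSup_pair] at hN
      subst hN
      have hdisj : A ⊓ B = ⊥ := hA.inf_eq_bot hB (Ne.symm hBA)
      have hcomm : ∀ u ∈ A, ∀ w ∈ B, Commute u w := fun u hu w hw =>
        commute_of_normal_of_disjoint A B hA.1 hB.1 (disjoint_iff.mpr hdisj) u w hu hw
      obtain ⟨e2⟩ := nonempty_sup_mulEquiv_prod hcomm hdisj
      refine ⟨T, instT, m + m, by omega, hs, hTnc, ?_⟩
      exact ⟨(e2.trans (MulEquiv.prodCongr e (eAB.symm.trans e))).trans (piAppendMulEquiv T m m)⟩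
    · push Not at h2
      have hset : {V : Subgroup G | IsMinN V} = {A} := by
        ext V
        simp only [Set.mem_setOf_eq, Set.mem_singleton_iff]
        exact ⟨h2 V, fun h => h ▸ hA⟩
      rw [hset, sSup_singleton] at hN
      subst hN
      exact ⟨T, instT, m, hm, hs, hTnc, ⟨e⟩⟩

end

end Cfsg.Agent.Lib.Helper19
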