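/-
Helper19 library: kernel-checked closure of the list of 504 pairs under the two generators, part 0.
-/
import Mathlib
import Cfsg.Agent.Lib.Helper19.R3Data
import Cfsg.Agent.Lib.Helper19.F8Model

set_option autoImplicit false
set_option maxRecDepth 100000

namespace Cfsg.Agent.Lib.Helper19.R3Check

open Cfsg.Agent.Lib.Helper19.B2Enc Cfsg.Agent.Lib.Helper19.G2Enc Cfsg.Agent.Lib.Helper19.R3Enc
open Cfsg.Agent.Lib.Helper19.R3Data Cfsg.Agent.Lib.Helper19.F8Model

theorem closed0 : ∀ i ∈ List.range' 0 63, ∀ r ∈ List.range 2,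
    mul3 (AE r) (Mi i) = Mi (Tt r i) ∧ decU (BE r) * decU (Ui i) = decU (Ui (Tt r i)) ∧
      Tt r i < 504 := by
  decide +kernel

theorem closed1 : ∀ i ∈ List.range' 63 63, ∀ r ∈ List.range 2,
    mul3 (AE r) (Mi i) = Mi (Tt r i) ∧ decU (BE r) * decU (Ui i) = decU (Ui (Tt r i)) ∧
      Tt r i < 504 := by
  decide +kernel

theorem closed2 : ∀ i ∈ List.range' 126 63, ∀ r ∈ List.range 2,
    mul3 (AE r) (Mi i) = Mi (Tt r i) ∧ decU (BE r) * decU (Ui i) = decU (Ui (Tt r i)) ∧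
      Tt r i < 504 := by
  decide +kernel

theorem closed3 : ∀ i ∈ List.range' 189 63, ∀ r ∈ List.range 2,
    mul3 (AE r) (Mi i) = Mi (Tt r i) ∧ decU (BE r) * decU (Ui i) = decU (Ui (Tt r i)) ∧
      Tt r i < 504 := by
  decide +kernel

end Cfsg.Agent.Lib.Helper19.R3Check
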