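/-
Helper19 library: kernel-checked certificates for the list of 504 pairs: closure (assembled), spanning tree, trivial kernels, distinctness.
-/
import Mathlib
import Cfsg.Agent.Lib.Helper19.R3CheckA0
import Cfsg.Agent.Lib.Helper19.R3CheckA1

set_option autoImplicit false
set_option maxRecDepth 100000

namespace Cfsg.Agent.Lib.Helper19.R3Check

open Cfsg.Agent.Lib.Helper19.B2Enc Cfsg.Agent.Lib.Helper19.G2Enc Cfsg.Agent.Lib.Helper19.R3Enc
open Cfsg.Agent.Lib.Helper19.R3Data Cfsg.Agent.Lib.Helper19.F8Model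

theorem closed (i r : ℕ) (hi : i < 504) (hr : r < 2) :
    mul3 (AE r) (Mi i) = Mi (Tt r i) ∧ decU (BE r) * decU (Ui i) = decU (Ui (Tt r i)) ∧
      Tt r i < 504 := by
  have hr' : r ∈ List.range 2 := List.mem_range.2 hr
  by_cases h0 : i < 63
  · exact closed0 i (List.mem_range'_1.2 ⟨by omega, by omega⟩) r hr'
  by_cases h1 : i < 126
  · exact closed1 i (List.mem_range'_1.2 ⟨by omega, by omega⟩) r hr'
  by_cases h2 : i < 189
  · exact closed2 i (List.mem_range'_1.2 ⟨by omega, by omega⟩) r hr'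
  by_cases h3 : i < 252
  · exact closed3 i (List.mem_range'_1.2 ⟨by omega, by omega⟩) r hr'
  by_cases h4 : i < 315
  · exact closed4 i (List.mem_range'_1.2 ⟨by omega, by omega⟩) r hr'
  by_cases h5 : i < 378
  · exact closed5 i (List.mem_range'_1.2 ⟨by omega, by omega⟩) r hr'
  by_cases h6 : i < 441
  · exact closed6 i (List.mem_range'_1.2 ⟨by omega, by omega⟩) r hr'
  exact closed7 i (List.mem_range'_1.2 ⟨by omega, by omega⟩) r hr'

theorem bfs : ∀ i ∈ List.range' 1 503, par i < i ∧ gk i < 2 ∧ Tt (gk i) (par i) = i := by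
  decide +kernel

theorem Mi_zero : Mi 0 = ONE3 := by decide +kernel

theorem Ui_zero : decU (Ui 0) = 1 := by decide +kernel

theorem triv : ∀ i ∈ List.range 504, (dec3 (Mi i) = 1 → i = 0) ∧ (decU (Ui i) = 1 → i = 0) := by
  decide +kernel

/-- the code of a matrix over the field with eight elements. -/
def encU (A : Matrix (Fin 2) (Fin 2) F8) : ℕ :=
  (A 0 0).v.val + 8 * ((A 0 1).v.val + 8 * ((A 1 0).v.val + 8 * (A 1 1).v.val))

theorem distinct : ∀ i ∈ List.range 504, encU (decU (Ui i)) = Uc i ∧ UTree.find (Uc i) = i := by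
  decide +kernel

end Cfsg.Agent.Lib.Helper19.R3Check
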