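/-
Helper19 library: kernel-checked facts on the generating words of `²G₂(3)` and the generators of its derived subgroup:
the link with the root elements of the Chevalley datum, inverses, conjugation and coset certificates.
-/
import Mathlib
import Cfsg.Agent.Lib.Helper19.R3Data
import Cfsg.Agent.Lib.Helper19.F8Model
import Cfsg.Prelude.Def_LieTwisted

set_option autoImplicit false
set_option maxRecDepth 100000

namespace Cfsg.Agent.Lib.Helper19.R3Check

open Cfsg.Agent.Lib.Helper19.B2Enc Cfsg.Agent.Lib.Helper19.G2Enc Cfsg.Agent.Lib.Helper19.R3Enc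
open Cfsg.Agent.Lib.Helper19.R3Data Cfsg.Agent.Lib.Helper19.F8Model Cfsg.Lie

/-- the root elements with the index type unfolded. -/
def X3 (r : ℕ) (t : ZMod 3) : Matrix I14 I14 (ZMod 3) := chevG2.x (ZMod 3) r t

theorem x_spec : ∀ r : Fin 12, ∀ t : ZMod 3, dec3 (xE r.val t.val) = X3 r.val t := by
  decide +kernel

/-- the encoded matrix of a word in root elements. -/
def wordE (w : List (ℕ × ZMod 3)) : List ℕ :=
  (w.map fun p => xE p.1 p.2.val).foldr mul3 ONE3

/-- the index set of the generating words. -/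
abbrev Q : Type := Bool × ZMod 3 × ZMod 3 × ZMod 3

/-- the generating words. -/
def wq (q : Q) : List (ℕ × ZMod 3) :=
  if q.1 then reeWordU 1 q.2.1 q.2.2.1 q.2.2.2 else reeWordV 1 q.2.1 q.2.2.1 q.2.2.2

/-- the inverse words. -/
def wiq (q : Q) : List (ℕ × ZMod 3) := (wq q).reverse.map fun p => (p.1, -p.2)

/-- the encoded generators. -/
def WE (q : Q) : List ℕ := wordE (wq q)

/-- the encoded inverses of the generators. -/
def WIE (q : Q) : List ℕ := wordE (wiq q)

theorem wq_lt : ∀ q : Q, (∀ p ∈ wq q, p.1 < 12) ∧ (∀ p ∈ wiq q, p.1 < 12) := by decide +kernel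

theorem W_inv0 : ∀ q : Q, q.1 = true →
    mul3 (WE q) (WIE q) = ONE3 ∧ mul3 (WIE q) (WE q) = ONE3 := by decide +kernel

theorem W_inv1 : ∀ q : Q, q.1 = false →
    mul3 (WE q) (WIE q) = ONE3 ∧ mul3 (WIE q) (WE q) = ONE3 := by decide +kernel

/-- the inverses of the generators of the derived subgroup. -/
def AIL : List (List ℕ) := [
  [101089862, 65576, 134299812, 167870496, 42244761, 27533960, 27290024, 167805072, 134348888,
   42485026, 41986132, 27814568, 134250624, 167936160],
  [35653760, 33554560, 134381584, 33554500, 76128528, 2098185, 143041040, 134316064, 134365216,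
   76190240, 1050633, 71983632, 16777348, 67272736]]

/-- the inverse of the `r`-th generator. -/
def AIE (r : ℕ) : List ℕ := AIL.getD r []

theorem AIE_one : AIE 1 = AE 1 := by decide +kernel

theorem A_inv : ∀ r ∈ List.range 2,
    mul3 (AE r) (AIE r) = ONE3 ∧ mul3 (AIE r) (AE r) = ONE3 := by decide +kernel

theorem A0_pow : AIE 0 = mul3 (AE 0) (mul3 (AE 0) (mul3 (AE 0) (mul3 (AE 0) (mul3 (AE 0)
    (mul3 (AE 0) (mul3 (AE 0) (AE 0))))))) := by
  decide +kernel

theorem B0_pow : decU (BE 0) * (decU (BE 0) * (decU (BE 0) * (decU (BE 0) * (decU (BE 0) *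
    (decU (BE 0) * (decU (BE 0) * decU (BE 0))))))) * decU (BE 0) = 1 := by
  decide +kernel

theorem B1_sq : decU (BE 1) * decU (BE 1) = 1 := by decide +kernel

theorem B_det : ∀ r ∈ List.range 2, (decU (BE r)).det = 1 := by decide +kernel

/-- the indices of the words used for the generators. -/
def q1 : Q := (true, 0, 0, 1)
/-- see `q1`. -/
def q28 : Q := (false, 0, 0, 1)
/-- see `q1`. -/
def q3 : Q := (true, 0, 1, 0)
/-- see `q1`. -/
def q30 : Q := (false, 0, 1, 0)

theorem A0_word : AE 0 = mul3 (WE q1) (mul3 (WE q28) (mul3 (WIE q1) (WIE q28))) := by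
  decide +kernel

theorem A1_word : AE 1 = mul3 (WE q3) (mul3 (WE q30) (mul3 (WIE q3) (WIE q30))) := by
  decide +kernel

/-- membership in the list. -/
def memL (m : List ℕ) : Prop := findM m < 504 ∧ Mi (findM m) = m

instance (m : List ℕ) : Decidable (memL m) := by unfold memL; infer_instance

theorem conj_cert0 : ∀ q : Q, q.1 = true → ∀ i ∈ List.range 2,
    memL (mul3 (WE q) (mul3 (AE i) (WIE q))) ∧ memL (mul3 (WIE q) (mul3 (AE i) (WE q))) := by
  decide +kernel

theorem conj_cert1 : ∀ q : Q, q.1 = false → ∀ i ∈ List.range 2,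
    memL (mul3 (WE q) (mul3 (AE i) (WIE q))) ∧ memL (mul3 (WIE q) (mul3 (AE i) (WE q))) := by
  decide +kernel

theorem coset_cert : ∀ q : Q, memL (WE q) ∨ memL (mul3 (WE q) (WIE q3)) ∨
    memL (mul3 (WE q) (mul3 (WIE q3) (WIE q3))) := by
  decide +kernel

end Cfsg.Agent.Lib.Helper19.R3Check
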