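/-
Helper19 library: the subgroup `H0` of order 504 of `GL₁₄(3)` is the derived subgroup of the Ree group `²G₂(3)`
(the group generated by the matrices of the 54 generating words).
-/
import Mathlib
import Cfsg.Agent.Lib.Helper19.R3Graph

set_option autoImplicit false

namespace Cfsg.Agent.Lib.Helper19.R3Der

open Cfsg.Agent.Lib.Helper19.B2Enc Cfsg.Agent.Lib.Helper19.G2Enc Cfsg.Agent.Lib.Helper19.R3Enc
open Cfsg.Agent.Lib.Helper19.R3Data Cfsg.Agent.Lib.Helper19.F8Model Cfsg.Agent.Lib.Helper19.R3Check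
open Cfsg.Agent.Lib.Helper19.R3Graph Cfsg.Lie
open scoped commutatorElement

/-- the matrix of a word with the index type unfolded. -/
def WM (w : List (ℕ × ZMod 3)) : Matrix I14 I14 (ZMod 3) := chevG2.wordMat (ZMod 3) w

theorem WM_nil : WM [] = 1 := rfl

theorem WM_cons (p : ℕ × ZMod 3) (w : List (ℕ × ZMod 3)) : WM (p :: w) = X3 p.1 p.2 * WM w := by
  unfold WM X3 ChevalleyDatum.wordMat
  rw [List.map_cons, List.prod_cons]
  rfl

theorem wordE_nil : wordE [] = ONE3 := rfl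

theorem wordE_cons (p : ℕ × ZMod 3) (w : List (ℕ × ZMod 3)) :
    wordE (p :: w) = mul3 (xE p.1 p.2.val) (wordE w) := rfl

theorem wordE_spec (w : List (ℕ × ZMod 3)) (hw : ∀ p ∈ w, p.1 < 12) : dec3 (wordE w) = WM w := by
  induction w with
  | nil => rw [wordE_nil, dec3_one, WM_nil]
  | cons p w ih =>
    rw [wordE_cons, dec3_mul, WM_cons, ih (fun q hq => hw q (List.mem_cons_of_mem _ hq))]
    have h := x_spec ⟨p.1, hw p List.mem_cons_self⟩ p.2
    rw [h]

theorem W_inv (q : Q) : mul3 (WE q) (WIE q) = ONE3 ∧ mul3 (WIE q) (WE q) = ONE3 := by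
  by_cases h : q.1 = true
  · exact W_inv0 q h
  · exact W_inv1 q (by simpa using h)

theorem W_mul_inv (q : Q) : dec3 (WE q) * dec3 (WIE q) = 1 := by
  rw [← dec3_mul, (W_inv q).1, dec3_one]

theorem W_inv_mul (q : Q) : dec3 (WIE q) * dec3 (WE q) = 1 := by
  rw [← dec3_mul, (W_inv q).2, dec3_one]

/-- the generators of the Ree group as units. -/
def WG (q : Q) : GLm3 := ⟨dec3 (WE q), dec3 (WIE q), W_mul_inv q, W_inv_mul q⟩

theorem WG_val (q : Q) : ((WG q : GLm3) : Matrix I14 I14 (ZMod 3)) = WM (wq q) :=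
  wordE_spec _ (wq_lt q).1

theorem WG_inv_val (q : Q) : (((WG q)⁻¹ : GLm3) : Matrix I14 I14 (ZMod 3)) = dec3 (WIE q) := rfl

/-- the group generated by the matrices of the words. -/
def G0 : Subgroup GLm3 := Subgroup.closure (Set.range WG)

theorem WG_mem (q : Q) : WG q ∈ G0 := Subgroup.subset_closure ⟨q, rfl⟩

theorem AG0_eq : AG 0 = ⁅WG q1, WG q28⁆ := by
  rw [commutatorElement_def]
  apply Units.ext
  show dec3 (AE 0) = dec3 (WE q1) * dec3 (WE q28) * dec3 (WIE q1) * dec3 (WIE q28)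
  rw [A0_word, dec3_mul, dec3_mul, dec3_mul, mul_assoc, mul_assoc]

theorem AG1_eq : AG 1 = ⁅WG q3, WG q30⁆ := by
  rw [commutatorElement_def]
  apply Units.ext
  show dec3 (AE 1) = dec3 (WE q3) * dec3 (WE q30) * dec3 (WIE q3) * dec3 (WIE q30)
  rw [A1_word, dec3_mul, dec3_mul, dec3_mul, mul_assoc, mul_assoc]

theorem AG_mem_G0 (r : Fin 2) : AG r ∈ G0 := by
  fin_cases r
  · show AG 0 ∈ G0
    rw [AG0_eq, commutatorElement_def]
    exact G0.mul_mem (G0.mul_mem (G0.mul_mem (WG_mem _) (WG_mem _)) (G0.inv_mem (WG_mem _)))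
      (G0.inv_mem (WG_mem _))
  · show AG 1 ∈ G0
    rw [AG1_eq, commutatorElement_def]
    exact G0.mul_mem (G0.mul_mem (G0.mul_mem (WG_mem _) (WG_mem _)) (G0.inv_mem (WG_mem _)))
      (G0.inv_mem (WG_mem _))

theorem H0_le_G0 : H0 ≤ G0 := by
  rw [H0, Subgroup.closure_le]
  rintro _ ⟨r, rfl⟩
  exact AG_mem_G0 r

theorem mem_H0_of_memL {g : GLm3} {m : List ℕ} (hm : memL m)
    (hg : (g : Matrix I14 I14 (ZMod 3)) = dec3 m) : g ∈ H0 := by
  rw [mem_H0_iff]
  exact ⟨findM m, hm.1, by rw [hm.2, hg]⟩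

theorem conj_cert (q : Q) (i : Fin 2) :
    memL (mul3 (WE q) (mul3 (AE i.val) (WIE q))) ∧ memL (mul3 (WIE q) (mul3 (AE i.val) (WE q))) := by
  by_cases h : q.1 = true
  · exact conj_cert0 q h i.val (List.mem_range.2 i.isLt)
  · exact conj_cert1 q (by simpa using h) i.val (List.mem_range.2 i.isLt)

theorem conj_gen_mem (q : Q) (i : Fin 2) :
    WG q * AG i * (WG q)⁻¹ ∈ H0 ∧ (WG q)⁻¹ * AG i * WG q ∈ H0 := by
  obtain ⟨h1, h2⟩ := conj_cert q i
  constructor
  · refine mem_H0_of_memL h1 ?_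
    show dec3 (WE q) * dec3 (AE i.val) * dec3 (WIE q) = _
    rw [dec3_mul, dec3_mul, mul_assoc]
  · refine mem_H0_of_memL h2 ?_
    show dec3 (WIE q) * dec3 (AE i.val) * dec3 (WE q) = _
    rw [dec3_mul, dec3_mul, mul_assoc]

theorem conj_closure_mem {G : Type*} [Group G] (T : Set G) (k : G)
    (hk : ∀ s ∈ T, k * s * k⁻¹ ∈ Subgroup.closure T) {h : G} (hh : h ∈ Subgroup.closure T) :
    k * h * k⁻¹ ∈ Subgroup.closure T := by
  induction hh using Subgroup.closure_induction with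
  | mem x hx => exact hk x hx
  | one => simp
  | mul x y _ _ ihx ihy =>
    have : k * (x * y) * k⁻¹ = (k * x * k⁻¹) * (k * y * k⁻¹) := by group
    rw [this]
    exact mul_mem ihx ihy
  | inv x _ ih =>
    have : k * x⁻¹ * k⁻¹ = (k * x * k⁻¹)⁻¹ := by group
    rw [this]
    exact inv_mem ih

theorem conj_WG_mem (q : Q) {h : GLm3} (hh : h ∈ H0) :
    WG q * h * (WG q)⁻¹ ∈ H0 ∧ (WG q)⁻¹ * h * WG q ∈ H0 := by
  constructor
  · refine conj_closure_mem _ (WG q) ?_ hh
    rintro _ ⟨i, rfl⟩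
    exact (conj_gen_mem q i).1
  · have := conj_closure_mem (Set.range AG) (WG q)⁻¹ (by
      rintro _ ⟨i, rfl⟩
      rw [inv_inv]
      exact (conj_gen_mem q i).2) hh
    rwa [inv_inv] at this

theorem conj_mem {k : GLm3} (hk : k ∈ G0) :
    ∀ h ∈ H0, k * h * k⁻¹ ∈ H0 ∧ k⁻¹ * h * k ∈ H0 := by
  induction hk using Subgroup.closure_induction with
  | mem x hx =>
    obtain ⟨q, rfl⟩ := hx
    intro h hh
    exact conj_WG_mem q hh
  | one =>
    intro h hh
    simpa using hh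
  | mul x y _ _ ihx ihy =>
    intro h hh
    constructor
    · have : x * y * h * (x * y)⁻¹ = x * (y * h * y⁻¹) * x⁻¹ := by group
      rw [this]
      exact (ihx _ (ihy h hh).1).1
    · have : (x * y)⁻¹ * h * (x * y) = y⁻¹ * (x⁻¹ * h * x) * y := by group
      rw [this]
      exact (ihy _ (ihx h hh).2).2
  | inv x _ ih =>
    intro h hh
    rw [inv_inv]
    exact ⟨(ih h hh).2, (ih h hh).1⟩

/-- `H0` as a subgroup of `G0`. -/
def N0 : Subgroup G0 := H0.subgroupOf G0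

instance N0_normal : N0.Normal :=
  (Subgroup.normal_subgroupOf_iff H0_le_G0).mpr fun h k hh hk => (conj_mem hk h hh).1

/-- the element used as a coset representative. -/
def tG : G0 := ⟨WG q3, WG_mem q3⟩

theorem mk_WG_mem (q : Q) :
    QuotientGroup.mk' N0 ⟨WG q, WG_mem q⟩ ∈ Subgroup.zpowers (QuotientGroup.mk' N0 tG) := by
  rcases coset_cert q with h | h | h
  · have hm : WG q ∈ H0 := mem_H0_of_memL h rfl
    have : QuotientGroup.mk' N0 ⟨WG q, WG_mem q⟩ = 1 := by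
      rw [QuotientGroup.mk'_apply, QuotientGroup.eq_one_iff]
      exact hm
    rw [this]
    exact one_mem _
  · have hm : WG q * (WG q3)⁻¹ ∈ H0 := mem_H0_of_memL h (by
      show dec3 (WE q) * dec3 (WIE q3) = _
      rw [dec3_mul])
    have h3 : QuotientGroup.mk' N0 (⟨WG q, WG_mem q⟩ * tG⁻¹) = 1 := by
      rw [QuotientGroup.mk'_apply, QuotientGroup.eq_one_iff]
      exact hm
    rw [map_mul, map_inv, mul_inv_eq_one] at h3
    rw [h3]
    exact Subgroup.mem_zpowers _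
  · have hm : WG q * ((WG q3)⁻¹ * (WG q3)⁻¹) ∈ H0 := mem_H0_of_memL h (by
      show dec3 (WE q) * (dec3 (WIE q3) * dec3 (WIE q3)) = _
      rw [dec3_mul, dec3_mul])
    have h3 : QuotientGroup.mk' N0 (⟨WG q, WG_mem q⟩ * (tG⁻¹ * tG⁻¹)) = 1 := by
      rw [QuotientGroup.mk'_apply, QuotientGroup.eq_one_iff]
      exact hm
    rw [map_mul, map_mul, map_inv, ← mul_inv_rev, mul_inv_eq_one] at h3
    rw [h3]
    exact Subgroup.mul_mem _ (Subgroup.mem_zpowers _) (Subgroup.mem_zpowers _)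

theorem mk_mem_zpowers (g : GLm3) (hg : g ∈ G0) :
    QuotientGroup.mk' N0 ⟨g, hg⟩ ∈ Subgroup.zpowers (QuotientGroup.mk' N0 tG) := by
  induction hg using Subgroup.closure_induction with
  | mem x hx =>
    obtain ⟨r, rfl⟩ := hx
    exact mk_WG_mem r
  | one => exact one_mem _
  | mul x y hx hy ihx ihy =>
    have : (⟨x * y, G0.mul_mem hx hy⟩ : G0) = ⟨x, hx⟩ * ⟨y, hy⟩ := rfl
    rw [this, map_mul]
    exact mul_mem ihx ihy
  | inv x hx ih =>
    have : (⟨x⁻¹, G0.inv_mem hx⟩ : G0) = (⟨x, hx⟩ : G0)⁻¹ := rfl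
    rw [this, map_inv]
    exact inv_mem ih

theorem commutator_le_N0 : commutator G0 ≤ N0 := by
  rw [commutator_def, Subgroup.commutator_le]
  intro g₁ _ g₂ _
  rw [← QuotientGroup.eq_one_iff, ← QuotientGroup.mk'_apply, map_commutatorElement]
  obtain ⟨a, ha⟩ := Subgroup.mem_zpowers_iff.mp (mk_mem_zpowers g₁.1 g₁.2)
  obtain ⟨b, hb⟩ := Subgroup.mem_zpowers_iff.mp (mk_mem_zpowers g₂.1 g₂.2)
  rw [commutatorElement_eq_one_iff_mul_comm]
  have e1 : QuotientGroup.mk' N0 g₁ = QuotientGroup.mk' N0 tG ^ a := ha.symm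
  have e2 : QuotientGroup.mk' N0 g₂ = QuotientGroup.mk' N0 tG ^ b := hb.symm
  rw [e1, e2, ← zpow_add, ← zpow_add, add_comm]

theorem N0_le_commutator : N0 ≤ commutator G0 := by
  have key : ∀ x : GLm3, x ∈ H0 → ∀ hx : x ∈ G0, (⟨x, hx⟩ : G0) ∈ commutator G0 := by
    intro x hx
    induction hx using Subgroup.closure_induction with
    | mem x hx =>
      obtain ⟨r, rfl⟩ := hx
      intro hxG
      fin_cases r
      · have : (⟨AG 0, hxG⟩ : G0) = ⁅(⟨WG q1, WG_mem q1⟩ : G0), ⟨WG q28, WG_mem q28⟩⁆ :=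
          Subtype.ext AG0_eq
        show (⟨AG 0, hxG⟩ : G0) ∈ commutator G0
        rw [this, commutator_def]
        exact Subgroup.commutator_mem_commutator (Subgroup.mem_top _) (Subgroup.mem_top _)
      · have : (⟨AG 1, hxG⟩ : G0) = ⁅(⟨WG q3, WG_mem q3⟩ : G0), ⟨WG q30, WG_mem q30⟩⁆ :=
          Subtype.ext AG1_eq
        show (⟨AG 1, hxG⟩ : G0) ∈ commutator G0
        rw [this, commutator_def]
        exact Subgroup.commutator_mem_commutator (Subgroup.mem_top _) (Subgroup.mem_top _)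
    | one =>
      intro hxG
      exact (commutator G0).one_mem
    | mul x y hx hy ihx ihy =>
      intro hxG
      have hx' : x ∈ G0 := H0_le_G0 hx
      have hy' : y ∈ G0 := H0_le_G0 hy
      have : (⟨x * y, hxG⟩ : G0) = ⟨x, hx'⟩ * ⟨y, hy'⟩ := rfl
      rw [this]
      exact (commutator G0).mul_mem (ihx hx') (ihy hy')
    | inv x hx ih =>
      intro hxG
      have hx' : x ∈ G0 := H0_le_G0 hx
      have : (⟨x⁻¹, hxG⟩ : G0) = (⟨x, hx'⟩ : G0)⁻¹ := rfl
      rw [this]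
      exact (commutator G0).inv_mem (ih hx')
  intro n hn
  exact key n.1 hn n.2

theorem commutator_eq : commutator G0 = N0 := le_antisymm commutator_le_N0 N0_le_commutator

/-- the derived subgroup of `G0` is isomorphic to `H0`. -/
noncomputable def isoCommutator : ↥(commutator G0) ≃* H0 :=
  (MulEquiv.subgroupCongr commutator_eq).trans (Subgroup.subgroupOfEquivOfLe H0_le_G0)

/-- the Ree group over `ZMod 3` with the index type unfolded. -/
def R3g : Subgroup GLm3 := twistedG2 (ZMod 3) 1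

theorem R3g_eq : R3g = Subgroup.closure {g : GLm3 | ∃ w ∈ g2Words (ZMod 3) 1,
    (g : Matrix I14 I14 (ZMod 3)) = WM w} := rfl

theorem group_eq : R3g = G0 := by
  rw [R3g_eq, G0]
  apply le_antisymm
  · rw [Subgroup.closure_le]
    rintro g ⟨w, ⟨t, u, v, hw⟩, hg⟩
    rcases hw with rfl | rfl
    · have h1 : g = WG (true, t, u, v) := Units.ext (hg.trans (WG_val (true, t, u, v)).symm)
      rw [h1]
      exact Subgroup.subset_closure ⟨_, rfl⟩
    · have h1 : g = WG (false, t, u, v) := Units.ext (hg.trans (WG_val (false, t, u, v)).symm)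
      rw [h1]
      exact Subgroup.subset_closure ⟨_, rfl⟩
  · rw [Subgroup.closure_le]
    rintro _ ⟨q, rfl⟩
    refine Subgroup.subset_closure ⟨wq q, ?_, WG_val q⟩
    obtain ⟨b, t, u, v⟩ := q
    cases b
    · exact ⟨t, u, v, Or.inr rfl⟩
    · exact ⟨t, u, v, Or.inl rfl⟩

end Cfsg.Agent.Lib.Helper19.R3Der
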