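/-
Helper19 library: fast encodings for kernel computations with `14 × 14` matrices over `ZMod 3` (lists of rows packed in
base 4), and a concrete model `F8` of the field with eight elements.
-/
import Mathlib
import Cfsg.Agent.Lib.Helper19.G2Enc
import Cfsg.Agent.Lib.Helper3.J1.EncN

set_option autoImplicit false

namespace Cfsg.Agent.Lib.Helper19.R3Enc

open Cfsg.Agent.Lib.Helper19.G2Enc Cfsg.Agent.Lib.Helper3.J1

/-- the `c`-th digit in base 4. -/
def dg (x c : ℕ) : ℕ := x / 4 ^ c % 4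

/-- decoding of a list of packed rows. -/
def dec3 (m : List ℕ) : Matrix I14 I14 (ZMod 3) :=
  Matrix.of fun i j => ((dg (m.getD (pos14 i) 0) (pos14 j) : ℕ) : ZMod 3)

/-- an entry of a row times a matrix. -/
def ent (r : ℕ) (b : List ℕ) (c : ℕ) : ℕ :=
  (dg r 0 * dg (b.getD 0 0) c + dg r 1 * dg (b.getD 1 0) c + dg r 2 * dg (b.getD 2 0) c +
   dg r 3 * dg (b.getD 3 0) c + dg r 4 * dg (b.getD 4 0) c + dg r 5 * dg (b.getD 5 0) c +
   dg r 6 * dg (b.getD 6 0) c + dg r 7 * dg (b.getD 7 0) c + dg r 8 * dg (b.getD 8 0) c +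
   dg r 9 * dg (b.getD 9 0) c + dg r 10 * dg (b.getD 10 0) c + dg r 11 * dg (b.getD 11 0) c +
   dg r 12 * dg (b.getD 12 0) c + dg r 13 * dg (b.getD 13 0) c) % 3

/-- the list of entries of a row times a matrix. -/
def entL (r : ℕ) (b : List ℕ) : List ℕ :=
  [ent r b 0, ent r b 1, ent r b 2, ent r b 3, ent r b 4, ent r b 5, ent r b 6, ent r b 7,
   ent r b 8, ent r b 9, ent r b 10, ent r b 11, ent r b 12, ent r b 13]

/-- a row times a matrix. -/
def rowMul3 (r : ℕ) (b : List ℕ) : ℕ := horner 4 (entL r b)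

/-- product of encodings. -/
def mul3 (a b : List ℕ) : List ℕ := a.map fun r => rowMul3 r b

theorem ent_lt (r : ℕ) (b : List ℕ) (c : ℕ) : ent r b c < 4 :=
  lt_trans (Nat.mod_lt _ (by norm_num)) (by norm_num)

theorem dg_rowMul3 (r : ℕ) (b : List ℕ) (c : ℕ) : dg (rowMul3 r b) c = (entL r b).getD c 0 := by
  unfold dg rowMul3
  apply horner_digit 4 (by norm_num)
  intro x hx
  simp only [entL, List.mem_cons, List.not_mem_nil, or_false] at hx
  rcases hx with rfl | rfl | rfl | rfl | rfl | rfl | rfl | rfl | rfl | rfl | rfl | rfl | rfl | rfl <;>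
    exact ent_lt _ _ _

theorem entL_getD (r : ℕ) (b : List ℕ) (j : I14) : (entL r b).getD (pos14 j) 0 = ent r b (pos14 j) := by
  rcases j with j | j <;> fin_cases j <;> rfl

theorem cast_ent (r : ℕ) (b : List ℕ) (c : ℕ) :
    ((ent r b c : ℕ) : ZMod 3) =
      ∑ k : I14, ((dg r (pos14 k) : ℕ) : ZMod 3) * ((dg (b.getD (pos14 k) 0) c : ℕ) : ZMod 3) := by
  rw [Fintype.sum_sum_type, Fin.sum_univ_two]
  simp only [Fin.sum_univ_succ, Fin.sum_univ_zero]
  simp only [ent, ZMod.natCast_mod, pos14]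
  simp only [Fin.val_zero, Fin.val_one, Fin.val_succ, Nat.reduceAdd, add_zero, zero_add]
  push_cast
  ring

theorem rowMul3_zero (b : List ℕ) : rowMul3 0 b = 0 := by
  simp [rowMul3, entL, ent, dg, horner]

theorem dec3_mul (a b : List ℕ) : dec3 (mul3 a b) = dec3 a * dec3 b := by
  ext i j
  rw [Matrix.mul_apply]
  simp only [dec3, Matrix.of_apply, mul3]
  have h : (List.map (fun r => rowMul3 r b) a).getD (pos14 i) 0 =
      rowMul3 (a.getD (pos14 i) 0) b := by
    simp only [List.getD_eq_getElem?_getD, List.getElem?_map]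
    cases a[pos14 i]? <;> simp [rowMul3_zero]
  rw [h, dg_rowMul3, entL_getD, cast_ent]

/-- the identity. -/
def ONE3 : List ℕ := [1, 4, 16, 64, 256, 1024, 4096, 16384, 65536, 262144, 1048576, 4194304,
  16777216, 67108864]

theorem dec3_one : dec3 ONE3 = 1 := by
  decide +kernel

/-- unpacking of fourteen rows of fourteen digits in base 4. -/
def unpack3 (m : ℕ) : List ℕ :=
  [m % 268435456, m / 268435456 % 268435456, m / 268435456 ^ 2 % 268435456,
   m / 268435456 ^ 3 % 268435456, m / 268435456 ^ 4 % 268435456, m / 268435456 ^ 5 % 268435456,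
   m / 268435456 ^ 6 % 268435456, m / 268435456 ^ 7 % 268435456, m / 268435456 ^ 8 % 268435456,
   m / 268435456 ^ 9 % 268435456, m / 268435456 ^ 10 % 268435456,
   m / 268435456 ^ 11 % 268435456, m / 268435456 ^ 12 % 268435456,
   m / 268435456 ^ 13 % 268435456]

/-- packing of fourteen rows. -/
def pack3 (l : List ℕ) : ℕ := horner 268435456 l

end Cfsg.Agent.Lib.Helper19.R3Enc
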