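/-
Helper19 library: the derived subgroup of the Ree group `²G₂(3)` has order 504 and is isomorphic to `PSL₂` over the
field with eight elements.
-/
import Mathlib
import Cfsg.Agent.Lib.Helper19.R3Der
import Cfsg.Agent.Lib.Helper13.SL2

set_option autoImplicit false

namespace Cfsg.Agent.Lib.Helper19.R3Iso

open Cfsg.Agent.Lib.Helper19.B2Enc Cfsg.Agent.Lib.Helper19.G2Enc Cfsg.Agent.Lib.Helper19.R3Enc
open Cfsg.Agent.Lib.Helper19.R3Data Cfsg.Agent.Lib.Helper19.F8Model Cfsg.Agent.Lib.Helper19.R3Check
open Cfsg.Agent.Lib.Helper19.R3Graph Cfsg.Agent.Lib.Helper19.R3Der Cfsg.Lie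

/-- a group isomorphism induces an isomorphism of the derived subgroups. -/
noncomputable def commutatorCongr {A B : Type*} [Group A] [Group B] (e : A ≃* B) :
    ↥(commutator A) ≃* ↥(commutator B) :=
  (e.subgroupMap (commutator A)).trans (MulEquiv.subgroupCongr (by
    rw [commutator_def, Subgroup.map_commutator]
    have : Subgroup.map (e : A →* B) ⊤ = ⊤ := Subgroup.map_top_of_surjective _ e.surjective
    rw [this, commutator_def]))

/-- the derived subgroup of the Ree group over `ZMod 3` is isomorphic to `H0`. -/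
noncomputable def isoH0 : ↥(commutator ↥(twistedG2 (ZMod 3) 1)) ≃* H0 :=
  (commutatorCongr (MulEquiv.subgroupCongr group_eq)).trans isoCommutator

section linear

variable {L : Type*} [Field L] [Fintype L]

/-- the isomorphism from the model of the field with eight elements. -/
noncomputable def phi (hL : Fintype.card L = 8) : F8 ≃+* L :=
  FiniteField.ringEquivOfCardEq (by rw [card_F8, hL])

theorem two_eq_zero (hL : Fintype.card L = 8) : (2 : L) = 0 := by
  have h : (2 : F8) = 0 := by decide
  have h3 : (phi hL) 2 = (phi hL) 0 := congrArg (phi hL) h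
  rw [map_ofNat, map_zero] at h3
  exact h3

theorem center_eq_bot (hL : Fintype.card L = 8) :
    Subgroup.center (Matrix.SpecialLinearGroup (Fin 2) L) = ⊥ := by
  rw [eq_bot_iff]
  intro A hA
  rw [Matrix.SpecialLinearGroup.mem_center_iff] at hA
  obtain ⟨r, hr, hA⟩ := hA
  rw [Fintype.card_fin] at hr
  have h2 := two_eq_zero hL
  have hr1 : r = 1 := by
    have : (r - 1) ^ 2 = 0 := by linear_combination hr - r * h2 + h2
    exact sub_eq_zero.mp (pow_eq_zero_iff (two_ne_zero) |>.mp this)
  rw [Subgroup.mem_bot]
  apply Subtype.ext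
  rw [← hA, hr1]
  simp

theorem mk_injective (hL : Fintype.card L = 8) :
    Function.Injective (QuotientGroup.mk' (Subgroup.center (Matrix.SpecialLinearGroup (Fin 2) L))) := by
  rw [← MonoidHom.ker_eq_bot_iff, QuotientGroup.ker_mk', center_eq_bot hL]

theorem map_injective (hL : Fintype.card L = 8) :
    Function.Injective (Matrix.SpecialLinearGroup.map (n := Fin 2) (phi hL).toRingHom) := by
  intro A B h
  apply Subtype.ext
  refine Matrix.ext fun i j => ?_
  have h1 := congrArg
    (fun X : Matrix.SpecialLinearGroup (Fin 2) L => (X : Matrix (Fin 2) (Fin 2) L) i j) h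
  simp only [Matrix.SpecialLinearGroup.map_apply_coe, RingHom.mapMatrix_apply,
    Matrix.map_apply] at h1
  exact (phi hL).injective h1

/-- the embedding of `T0` in `PSL₂(8)`. -/
noncomputable def psi (hL : Fintype.card L = 8) :
    T0 →* Matrix.ProjectiveSpecialLinearGroup (Fin 2) L :=
  (QuotientGroup.mk' (Subgroup.center (Matrix.SpecialLinearGroup (Fin 2) L))).comp
    ((Matrix.SpecialLinearGroup.map (n := Fin 2) (phi hL).toRingHom).comp T0.subtype)

theorem psi_injective (hL : Fintype.card L = 8) : Function.Injective (psi hL) := by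
  intro a b hab
  have h1 := mk_injective hL hab
  exact Subtype.ext (map_injective hL h1)

theorem card_PSL (hL : Fintype.card L = 8) :
    Nat.card (Matrix.ProjectiveSpecialLinearGroup (Fin 2) L) = 504 := by
  classical
  have h1 : Nat.card (Matrix.SpecialLinearGroup (Fin 2) L) = 504 := by
    rw [Cfsg.Agent.Lib.Helper13.card_SL2, hL]
    norm_num
  have hb : Function.Bijective
      (QuotientGroup.mk' (Subgroup.center (Matrix.SpecialLinearGroup (Fin 2) L))) :=
    ⟨mk_injective hL, QuotientGroup.mk'_surjective _⟩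
  rw [← h1]
  exact (Nat.card_congr (Equiv.ofBijective _ hb)).symm

theorem psi_bijective (hL : Fintype.card L = 8) : Function.Bijective (psi hL) := by
  classical
  have : Finite (Matrix.ProjectiveSpecialLinearGroup (Fin 2) L) :=
    Nat.finite_of_card_ne_zero (by rw [card_PSL hL]; norm_num)
  apply (psi_injective hL).bijective_of_nat_card_le
  rw [card_PSL hL]
  exact card_T0_ge

/-- the derived subgroup of `²G₂(3)` is isomorphic to `PSL₂(8)`. -/
noncomputable def isoPSL (hL : Fintype.card L = 8) :
    ↥(commutator ↥(twistedG2 (ZMod 3) 1)) ≃* Matrix.ProjectiveSpecialLinearGroup (Fin 2) L :=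
  (isoH0.trans isoH0T0).trans (MulEquiv.ofBijective (psi hL) (psi_bijective hL))

theorem main (hL : Fintype.card L = 8) :
    Nat.card ↥(commutator ↥(twistedG2 (ZMod 3) 1)) = 504 ∧
      Nonempty (↥(commutator ↥(twistedG2 (ZMod 3) 1)) ≃*
        Matrix.ProjectiveSpecialLinearGroup (Fin 2) L) := by
  refine ⟨?_, ⟨isoPSL hL⟩⟩
  rw [Nat.card_congr (isoPSL hL).toEquiv, card_PSL hL]

end linear

end Cfsg.Agent.Lib.Helper19.R3Iso
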