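/-
helper19: S4581 (planner helper5) — small shared facts for my leaves (CCG) and (CL2):
complex conjugation vs induction, linear characters of groups of exponent 2, `charDegree`.
-/
import Mathlib
import Cfsg.Prelude.Def_Blocks
import Cfsg.Agent.Lib.Helper6.Clifford
import Cfsg.Agent.Lib.Helper6.CliffordCorr
import Cfsg.Agent.Lib.Helper6.CharNorm
import Cfsg.Agent.Lib.Helper10.AbelianRestrict
import Cfsg.Agent.Lib.Helper10.IrrOrtho
import Cfsg.Agent.Lib.Lead.Taketa
import Cfsg.Agent.Lib.Lead.CharFS
import Cfsg.Agent.Lib.Helper5.RODefs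

set_option autoImplicit false

namespace Cfsg.Agent.Lib.Helper19.RO

open Cfsg Cfsg.Agent.Lib.Helper6 Cfsg.Agent.Lib.Helper5.RO Cfsg.Agent.CharLib
open scoped ComplexConjugate

universe u

section basics
variable {X : Type u} [Group X]

theorem charDegree_of_apply_one {χ : X → ℂ} {n : ℕ} (h : χ 1 = n) : charDegree χ = n := by
  unfold charDegree
  rw [h]
  simp

/-- real-valuedness as invariance under complex conjugation -/
theorem conj_eq_self_of_im {z : ℂ} (h : z.im = 0) : conj z = z :=
  Complex.conj_eq_iff_im.mpr h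

theorem im_eq_zero_of_conj {z : ℂ} (h : conj z = z) : z.im = 0 :=
  Complex.conj_eq_iff_im.mp h

theorem extendByZero_conj (H : Subgroup X) (θ : H → ℂ) (y : X) :
    extendByZero H (fun h => conj (θ h)) y = conj (extendByZero H θ y) := by
  by_cases hy : y ∈ H
  · have h1 := extendByZero_apply_coe H (fun h => conj (θ h)) ⟨y, hy⟩
    have h2 := extendByZero_apply_coe H θ ⟨y, hy⟩
    simp only at h1 h2
    rw [h1, h2]
  · rw [extendByZero_apply_of_not_mem H _ hy, extendByZero_apply_of_not_mem H _ hy, map_zero]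

theorem indFun_conj [Fintype X] (H : Subgroup X) (θ : H → ℂ) (g : X) :
    indFun H (fun h => conj (θ h)) g = conj (indFun H θ g) := by
  unfold indFun
  rw [map_mul, map_sum, map_inv₀, Complex.conj_natCast]
  congr 1
  apply Finset.sum_congr rfl
  intro x _
  exact extendByZero_conj H θ _

/-- induction of a real-valued function is real-valued -/
theorem indFun_im_of_im [Fintype X] (H : Subgroup X) (θ : H → ℂ) (hθ : ∀ h : H, (θ h).im = 0)
    (g : X) : (indFun H θ g).im = 0 := by
  apply im_eq_zero_of_conj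
  rw [← indFun_conj]
  congr 1
  funext h
  exact conj_eq_self_of_im (hθ h)

end basics

section exp2
variable {X : Type u} [Group X] [Finite X]

/-- a subgroup of exponent `2` is commutative -/
theorem comm_of_sq (V : Subgroup X) (hV2 : ∀ v ∈ V, v ^ 2 = 1) (a b : V) : a * b = b * a := by
  have h1 : ∀ v : V, v * v = 1 := by
    intro v
    apply Subtype.ext
    have := hV2 (v : X) v.2
    rw [pow_two] at this
    exact this
  have ha : a⁻¹ = a := inv_eq_of_mul_eq_one_left (h1 a)
  have hb : b⁻¹ = b := inv_eq_of_mul_eq_one_left (h1 b)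
  have hab : (a * b)⁻¹ = a * b := inv_eq_of_mul_eq_one_left (h1 (a * b))
  rw [mul_inv_rev, ha, hb] at hab
  exact hab.symm

/-- irreducible characters of a group of exponent `2` are linear -/
theorem apply_one_of_sq (V : Subgroup X) (hV2 : ∀ v ∈ V, v ^ 2 = 1) {lam : V → ℂ}
    (hlam : IsIrrCharacter V lam) : lam 1 = 1 :=
  Cfsg.Agent.Lib.Helper10.irr_one_of_comm (comm_of_sq V hV2) hlam

/-- ... and real-valued -/
theorem conj_apply_of_sq (V : Subgroup X) (hV2 : ∀ v ∈ V, v ^ 2 = 1) {lam : V → ℂ}
    (hlam : IsIrrCharacter V lam) (v : V) : conj (lam v) = lam v := by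
  have hc := comm_of_sq V hV2
  have h1 : lam (v ^ 2) = lam v ^ 2 := Cfsg.Agent.Lib.Helper10.irr_pow_of_comm hc hlam v 2
  have hv : v ^ 2 = 1 := by
    apply Subtype.ext
    exact hV2 (v : X) v.2
  rw [hv, apply_one_of_sq V hV2 hlam] at h1
  have h2 : lam v = 1 ∨ lam v = -1 := by
    have : (lam v - 1) * (lam v + 1) = 0 := by
      have : lam v ^ 2 = 1 := h1.symm
      linear_combination this
    rcases mul_eq_zero.mp this with h | h
    · left; exact sub_eq_zero.mp h
    · right; exact eq_neg_of_add_eq_zero_left h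
  rcases h2 with h | h
  · rw [h, map_one]
  · rw [h, map_neg, map_one]

theorem im_apply_of_sq (V : Subgroup X) (hV2 : ∀ v ∈ V, v ^ 2 = 1) {lam : V → ℂ}
    (hlam : IsIrrCharacter V lam) (v : V) : (lam v).im = 0 :=
  im_eq_zero_of_conj (conj_apply_of_sq V hV2 hlam v)

end exp2

end Cfsg.Agent.Lib.Helper19.RO
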