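/-
helper19: S4581 leaf (CCG) `cntUnder_eq_cntOver_stab` (planner helper5, notes/S4581_leaves.lean).
Clifford correspondence, counted: `ψ ↦ ψ^G` is a bijection from the real odd-degree characters of
the stabilizer `T` over the (real, linear) `lam` onto the real odd-degree characters of `G` over
`lam`, when `|G : T|` is odd.
-/
import Mathlib
import Cfsg.Prelude.Def_Blocks
import Cfsg.Agent.Lib.Helper6.Clifford
import Cfsg.Agent.Lib.Helper6.CliffordCorr
import Cfsg.Agent.Lib.Helper5.RODefs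
import Cfsg.Agent.Lib.Helper19.ROBasic

set_option autoImplicit false

namespace Cfsg.Agent.Lib.Helper19.RO

open Cfsg Cfsg.Agent.Lib.Helper6 Cfsg.Agent.Lib.Helper5.RO Cfsg.Agent.CharLib
open scoped ComplexConjugate

universe u

section corr
variable {G : Type u} [Group G] [Fintype G] {V T : Subgroup G} [hV : V.Normal]
  [Fintype V] [Fintype T]

/-- lying over the invariant linear `lam`, in the two shapes -/
theorem over_iff (hV2 : ∀ v ∈ V, v ^ 2 = 1) {lam : V → ℂ} (hlam : IsIrrCharacter V lam)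
    (hT : ∀ g : G, g ∈ T ↔ conjFun V g lam = lam) (hVT : V ≤ T) {ψ : T → ℂ}
    (hψ : IsIrrCharacter T ψ) :
    (∀ w : V, ψ (Subgroup.inclusion hVT w) = ψ 1 * lam w) ↔
      classInner (resLE hVT ψ) lam ≠ 0 := by
  constructor
  · intro h
    have h1 : resLE hVT ψ = ψ 1 • lam := by
      funext w
      rw [resLE_apply, Pi.smul_apply, smul_eq_mul]
      exact h w
    rw [h1, classInner_smul_left, classInner_irr hlam hlam, if_pos rfl, mul_one]
    exact Cfsg.Agent.Lib.Helper10.irr_one_ne_zero hψ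
  · intro hf w
    have h1 := resLE_eq_smul_of_invariant hVT hψ hlam (fun t ht => (hT t).mp ht) hf
    have h2 := congrFun h1 1
    rw [Pi.smul_apply, smul_eq_mul, apply_one_of_sq V hV2 hlam, mul_one, resLE_apply] at h2
    have h3 := congrFun h1 w
    rw [Pi.smul_apply, smul_eq_mul, resLE_apply, ← h2] at h3
    exact h3

/-- degree of the induced character -/
theorem indFun_apply_one_nat (ψ : T → ℂ) {d : ℕ} (hd : ψ 1 = d) :
    indFun T ψ 1 = ((T.index * d : ℕ) : ℂ) := by
  rw [Cfsg.Agent.CharLib.indFun_apply_one, hd]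
  have hT0 : (Nat.card T : ℂ) ≠ 0 := Nat.cast_ne_zero.mpr Nat.card_pos.ne'
  have hidx : Nat.card G = T.index * Nat.card T := by
    rw [mul_comm]; exact (Subgroup.card_mul_index T).symm
  rw [hidx]
  push_cast
  field_simp

end corr

theorem cntUnder_eq_cntOver_stab {G : Type u} [Group G] [Finite G] (V : Subgroup G)
    [hV : V.Normal] (hV2 : ∀ v ∈ V, v ^ 2 = 1) (lam : V → ℂ) (hlam : IsIrrCharacter V lam)
    (T : Subgroup G) (hT : ∀ g : G, g ∈ T ↔ conjFun V g lam = lam) (hodd : Odd T.index)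
    (hVT : V ≤ T) :
    cntUnder G V lam = cntOver ↥T (Subgroup.inclusion hVT) lam := by
  classical
  letI : Fintype G := Fintype.ofFinite G
  letI : Fintype V := Fintype.ofFinite V
  letI : Fintype T := Fintype.ofFinite T
  unfold cntUnder cntOver
  symm
  -- the map `ψ ↦ ψ^G`
  have key : ∀ ψ : IrrCharacter ↥T,
      (((∀ g : ↥T, ((ψ : ↥T → ℂ) g).im = 0) ∧ Odd (charDegree (ψ : ↥T → ℂ))) ∧
        ∀ w : V, (ψ : ↥T → ℂ) (Subgroup.inclusion hVT w) = (ψ : ↥T → ℂ) 1 * lam w) →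
      ∃ hirr : IsIrrCharacter G (indFun T (ψ : ↥T → ℂ)),
        ((∀ g : G, ((indFun T (ψ : ↥T → ℂ)) g).im = 0) ∧
          Odd (charDegree (indFun T (ψ : ↥T → ℂ)))) ∧
        classInner (fun v : V => (indFun T (ψ : ↥T → ℂ)) v) lam ≠ 0 := by
    intro ψ hψ
    obtain ⟨⟨hre, hod⟩, hov⟩ := hψ
    have hf : classInner (resLE hVT (ψ : ↥T → ℂ)) lam ≠ 0 :=
      (over_iff hV2 hlam hT hVT ψ.2).mp hov
    obtain ⟨hirr, hinner⟩ := isIrrCharacter_indFun_inertia hVT hlam hT ψ.2 hf
    refine ⟨hirr, ⟨?_, ?_⟩, ?_⟩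
    · exact indFun_im_of_im T _ hre
    · obtain ⟨d, _, hd⟩ := IsIrrCharacter.apply_one_pos ψ.2
      rw [charDegree_of_apply_one hd] at hod
      rw [charDegree_of_apply_one (indFun_apply_one_nat _ hd)]
      exact Nat.odd_mul.mpr ⟨hodd, hod⟩
    · have : (fun v : V => (indFun T (ψ : ↥T → ℂ)) v) = resFun V (indFun T (ψ : ↥T → ℂ)) := rfl
      rw [this, hinner]
      exact hf
  let f : {ψ : IrrCharacter ↥T //
      ((∀ g : ↥T, ((ψ : ↥T → ℂ) g).im = 0) ∧ Odd (charDegree (ψ : ↥T → ℂ))) ∧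
        ∀ w : V, (ψ : ↥T → ℂ) (Subgroup.inclusion hVT w) = (ψ : ↥T → ℂ) 1 * lam w} →
      {χ : IrrCharacter G //
        ((∀ g : G, ((χ : G → ℂ) g).im = 0) ∧ Odd (charDegree (χ : G → ℂ))) ∧
          classInner (fun v : V => (χ : G → ℂ) v) lam ≠ 0} :=
    fun ψ => ⟨⟨indFun T (ψ.1 : ↥T → ℂ), (key ψ.1 ψ.2).choose⟩, (key ψ.1 ψ.2).choose_spec⟩
  have hfval : ∀ ψ, ((f ψ).1 : G → ℂ) = indFun T (ψ.1 : ↥T → ℂ) := fun ψ => rfl
  apply Nat.card_congr
  apply Equiv.ofBijective f
  constructor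
  · -- injective
    intro ψ ψ' hEq
    have h1 : indFun T (ψ.1 : ↥T → ℂ) = indFun T (ψ'.1 : ↥T → ℂ) := by
      rw [← hfval ψ, ← hfval ψ', hEq]
    have hf : classInner (resLE hVT (ψ.1 : ↥T → ℂ)) lam ≠ 0 :=
      (over_iff hV2 hlam hT hVT ψ.1.2).mp ψ.2.2
    have hf' : classInner (resLE hVT (ψ'.1 : ↥T → ℂ)) lam ≠ 0 :=
      (over_iff hV2 hlam hT hVT ψ'.1.2).mp ψ'.2.2
    have := indFun_inertia_injective hVT hlam hT ψ.1.2 ψ'.1.2 hf hf' h1
    exact Subtype.ext (Subtype.ext this)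
  · -- surjective
    intro χ
    obtain ⟨⟨hre, hod⟩, hne⟩ := χ.2
    have hne' : classInner (resFun V (χ.1 : G → ℂ)) lam ≠ 0 := hne
    obtain ⟨ψ, hψ, hind, hinner⟩ := exists_indFun_inertia_eq hVT hlam hT χ.1.2 hne'
    have hf : classInner (resLE hVT ψ) lam ≠ 0 := by rw [hinner]; exact hne'
    have hov := (over_iff hV2 hlam hT hVT hψ).mpr hf
    obtain ⟨d, _, hd⟩ := IsIrrCharacter.apply_one_pos hψ
    -- `ψ` is real
    have hψre : ∀ g : ↥T, (ψ g).im = 0 := by
      have hψ' : IsIrrCharacter ↥T (fun g => conj (ψ g)) := IsIrrCharacter.conj' hψ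
      have hres : resLE hVT (fun g => conj (ψ g)) = resLE hVT ψ := by
        funext w
        rw [resLE_apply, resLE_apply]
        have h1 := hov w
        change ψ ⟨w, hVT w.2⟩ = ψ 1 * lam w at h1
        rw [h1, map_mul, conj_apply_of_sq V hV2 hlam, hd, Complex.conj_natCast]
      have hf' : classInner (resLE hVT (fun g => conj (ψ g))) lam ≠ 0 := by rw [hres]; exact hf
      have hind' : indFun T (fun g => conj (ψ g)) = indFun T ψ := by
        funext g
        rw [indFun_conj, hind]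
        exact conj_eq_self_of_im (hre g)
      have := indFun_inertia_injective hVT hlam hT hψ' hψ hf' hf hind'
      intro g
      apply im_eq_zero_of_conj
      exact congrFun this g
    have hψod : Odd (charDegree ψ) := by
      rw [charDegree_of_apply_one hd]
      have h2 : charDegree (χ.1 : G → ℂ) = T.index * d := by
        apply charDegree_of_apply_one
        rw [← hind]
        exact indFun_apply_one_nat ψ hd
      rw [h2] at hod
      exact (Nat.odd_mul.mp hod).2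
    refine ⟨⟨⟨ψ, hψ⟩, ⟨hψre, hψod⟩, hov⟩, ?_⟩
    apply Subtype.ext
    apply Subtype.ext
    rw [hfval]
    exact hind

end Cfsg.Agent.Lib.Helper19.RO
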