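/-
helper19: S4581 leaf (CL2), abstract counting step.  Two finite sets `R`, `R'` whose elements
determine one class each of a common setoid `Λ/≈` have the same cardinality as soon as all the
"fibres over `lam`" have the same cardinality.  Mathlib only.
-/
import Mathlib

set_option autoImplicit false

namespace Cfsg.Agent.Lib.Helper19.RO

universe u v w

section fib
variable {R : Type u} {Λ : Type w} (s : Setoid Λ) (rel : Λ → R → Prop)

/-- the class attached to an element -/
noncomputable def fibClass (he : ∀ χ : R, ∃ lam, rel lam χ) (χ : R) : Quotient s :=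
  Quotient.mk s (he χ).choose

theorem fibClass_eq_iff (he : ∀ χ : R, ∃ lam, rel lam χ)
    (hu : ∀ χ lam lam', rel lam χ → rel lam' χ → s.r lam lam')
    (hc : ∀ χ lam lam', rel lam χ → s.r lam lam' → rel lam' χ) (χ : R) (lam : Λ) :
    fibClass s rel he χ = Quotient.mk s lam ↔ rel lam χ := by
  unfold fibClass
  constructor
  · intro h
    have h1 : s.r (he χ).choose lam := Quotient.exact h
    exact hc χ _ _ (he χ).choose_spec h1
  · intro h
    apply Quotient.sound
    exact hu χ _ _ (he χ).choose_spec h

theorem card_eq_sum_fibClass [Finite R] [Fintype (Quotient s)]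
    (he : ∀ χ : R, ∃ lam, rel lam χ) :
    Nat.card R = ∑ q : Quotient s, Nat.card {χ : R // fibClass s rel he χ = q} := by
  classical
  rw [← Nat.card_sigma]
  exact Nat.card_congr (Equiv.sigmaFiberEquiv (fibClass s rel he)).symm

end fib

theorem card_eq_of_fibers {R : Type u} {R' : Type v} {Λ : Type w} [Finite R] [Finite R']
    [Finite Λ] (s : Setoid Λ) (rel : Λ → R → Prop) (rel' : Λ → R' → Prop)
    (he : ∀ χ : R, ∃ lam, rel lam χ)
    (hu : ∀ χ lam lam', rel lam χ → rel lam' χ → s.r lam lam')
    (hc : ∀ χ lam lam', rel lam χ → s.r lam lam' → rel lam' χ)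
    (he' : ∀ χ : R', ∃ lam, rel' lam χ)
    (hu' : ∀ χ lam lam', rel' lam χ → rel' lam' χ → s.r lam lam')
    (hc' : ∀ χ lam lam', rel' lam χ → s.r lam lam' → rel' lam' χ)
    (h : ∀ lam, Nat.card {χ : R // rel lam χ} = Nat.card {χ : R' // rel' lam χ}) :
    Nat.card R = Nat.card R' := by
  classical
  haveI : Fintype (Quotient s) := Fintype.ofFinite _
  rw [card_eq_sum_fibClass s rel he, card_eq_sum_fibClass s rel' he']
  apply Finset.sum_congr rfl
  intro q _
  induction q using Quotient.inductionOn with
  | h lam =>
    have h1 : Nat.card {χ : R // fibClass s rel he χ = Quotient.mk s lam} =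
        Nat.card {χ : R // rel lam χ} :=
      Nat.card_congr (Equiv.subtypeEquivRight (fun χ => fibClass_eq_iff s rel he hu hc χ lam))
    have h2 : Nat.card {χ : R' // fibClass s rel' he' χ = Quotient.mk s lam} =
        Nat.card {χ : R' // rel' lam χ} :=
      Nat.card_congr (Equiv.subtypeEquivRight (fun χ => fibClass_eq_iff s rel' he' hu' hc' χ lam))
    rw [h1, h2, h lam]

end Cfsg.Agent.Lib.Helper19.RO
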