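/-
helper19: S4581 (planner helper5) leaf (CL2) `rcount_eq_of_forall_cntUnder`: weighted Clifford
count.  For `χ` real of odd degree the `P`-invariant constituents of `χ_V` form exactly one
`N_G(P)`-orbit; the same holds in `N_G(P)`; so the two counts agree as soon as all the fibres do.
-/
import Mathlib
import Cfsg.Prelude.Def_Blocks
import Cfsg.Agent.Lib.Helper6.Clifford
import Cfsg.Agent.Lib.Helper6.CliffordCorr
import Cfsg.Agent.Lib.Helper5.RODefs
import Cfsg.Agent.Lib.Helper9.ROF7
import Cfsg.Agent.Lib.Helper19.ROBasic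
import Cfsg.Agent.Lib.Helper19.ROFib

set_option autoImplicit false

namespace Cfsg.Agent.Lib.Helper19.RO

open Cfsg Cfsg.Agent.Lib.Helper6 Cfsg.Agent.Lib.Helper5.RO Cfsg.Agent.CharLib
open scoped ComplexConjugate

universe u

/-- A subgroup of index prime to `p` contains a Sylow `p`-subgroup. -/
theorem exists_sylow_le_of_index' {X : Type u} [Group X] [Finite X] {p : ℕ} [hp : Fact p.Prime]
    (B : Subgroup X) (h : ¬ p ∣ B.index) : ∃ S : Sylow p X, (S : Subgroup X) ≤ B := by
  obtain ⟨P₀⟩ : Nonempty (Sylow p B) := inferInstance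
  have hpg : IsPGroup p ((P₀ : Subgroup B).map B.subtype) := P₀.isPGroup'.map B.subtype
  have hidx2 : ¬ p ∣ ((P₀ : Subgroup B).map B.subtype).index := by
    rw [Subgroup.index_map_subtype]
    exact Nat.Prime.not_dvd_mul hp.out P₀.not_dvd_index h
  refine ⟨hpg.toSylow hidx2, ?_⟩
  show (P₀ : Subgroup B).map B.subtype ≤ B
  exact Subgroup.map_subtype_le _

/-- (E) an irreducible character of odd degree has, on every normal subgroup `W`, an irreducible
constituent that is invariant under a given Sylow `2`-subgroup. -/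
theorem exists_sylow_invariant_constituent {X : Type u} [Group X] [Fintype X] (W : Subgroup X)
    [hW : W.Normal] [Fintype W] (S : Sylow 2 X) {χ : X → ℂ} (hχ : IsIrrCharacter X χ)
    (hodd : Odd (charDegree χ)) :
    ∃ θ : W → ℂ, IsIrrCharacter W θ ∧ (∀ g ∈ (S : Subgroup X), conjFun W g θ = θ) ∧
      classInner (resFun W χ) θ ≠ 0 := by
  classical
  have hχc : IsCharacter X χ := IsIrrCharacter.isCharacter hχ
  have hcls : IsClassFunction X χ := IsCharacter.isClassFunction hχc
  obtain ⟨n, hn0, hn⟩ := IsIrrCharacter.apply_one_pos hχ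
  have hres : IsCharacter W (resFun W χ) := isCharacter_resFun W hχc
  have hne : resFun W χ ≠ 0 := by
    intro h0
    have h1 := congrFun h0 1
    rw [resFun_apply] at h1
    have h2 : χ 1 = 0 := h1
    rw [hn] at h2
    have : n = 0 := by exact_mod_cast h2
    omega
  obtain ⟨θ0, hθ0, hc0⟩ := IsCharacter.exists_constituent hres hne
  -- the orbit of `θ0` has odd size
  have hdeg := clifford_degree W hχ hθ0 hc0
  obtain ⟨m, hm⟩ := IsCharacter.classInner_nat hres (IsIrrCharacter.isCharacter hθ0)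
  obtain ⟨d, _, hd⟩ := IsIrrCharacter.apply_one_pos hθ0
  rw [hn, hm, hd] at hdeg
  have hdeg' : n = m * (conjOrbit W θ0).card * d := by exact_mod_cast hdeg
  have hnodd : Odd n := by
    rw [charDegree_of_apply_one hn] at hodd
    exact hodd
  have horb : Odd (conjOrbit W θ0).card := by
    rw [hdeg'] at hnodd
    exact (Nat.odd_mul.mp (Nat.odd_mul.mp hnodd).1).2
  -- the stabilizer has odd index
  have hcard := card_conjOrbit_mul W θ0
  have hstab : Nat.card {g : X // conjFun W g θ0 = θ0} =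
      Nat.card (Cfsg.Agent.Lib.Helper9.RO.stabFun W θ0) :=
    Nat.card_congr (Equiv.subtypeEquivRight (fun g => Iff.rfl))
  rw [hstab] at hcard
  have hidx : (Cfsg.Agent.Lib.Helper9.RO.stabFun W θ0).index = (conjOrbit W θ0).card := by
    have h3 := Subgroup.index_mul_card (Cfsg.Agent.Lib.Helper9.RO.stabFun W θ0)
    have hpos : 0 < Nat.card (Cfsg.Agent.Lib.Helper9.RO.stabFun W θ0) := Nat.card_pos
    exact Nat.eq_of_mul_eq_mul_right hpos (h3.trans hcard.symm)
  have hnd : ¬ 2 ∣ (Cfsg.Agent.Lib.Helper9.RO.stabFun W θ0).index := by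
    rw [hidx]
    exact fun h2 => (Nat.not_even_iff_odd.mpr horb) (even_iff_two_dvd.mpr h2)
  obtain ⟨Q, hQ⟩ := exists_sylow_le_of_index' (p := 2) _ hnd
  obtain ⟨g, hg⟩ := MulAction.exists_smul_eq X Q S
  -- `S = g Q g⁻¹` fixes the conjugate `conjFun W g⁻¹ θ0`
  refine ⟨conjFun W g⁻¹ θ0, isIrrCharacter_conjFun W hθ0 g⁻¹, ?_, ?_⟩
  · intro s hs
    rw [← hg, Sylow.coe_subgroup_smul, Subgroup.mem_smul_pointwise_iff_exists] at hs
    obtain ⟨x, hx, rfl⟩ := hs
    have hx' : conjFun W x θ0 = θ0 := hQ hx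
    simp only [MulAut.smul_def, MulAut.conj_apply]
    rw [← conjFun_mul]
    have : g⁻¹ * (g * x * g⁻¹) = x * g⁻¹ := by group
    rw [this, conjFun_mul, hx']
  · rw [classInner_resFun_conjFun W hcls]
    exact hc0

section main
variable {G : Type u} [Group G] (P : Sylow 2 G) (V : Subgroup G) [hV : V.Normal]

/-- the index set: `P`-invariant irreducible characters of `V` -/
abbrev InvIrr : Type u :=
  {lam : V → ℂ // IsIrrCharacter V lam ∧ ∀ g ∈ (P : Subgroup G), conjFun V g lam = lam}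

instance finite_invIrr [Finite G] : Finite (InvIrr P V) := by
  unfold InvIrr
  apply Finite.of_injective
    (fun x : {lam : V → ℂ // IsIrrCharacter V lam ∧
      ∀ g ∈ (P : Subgroup G), conjFun V g lam = lam} => (⟨x.1, x.2.1⟩ : IrrCharacter V))
  intro a b hab
  have h1 : ((⟨a.1, a.2.1⟩ : IrrCharacter V) : V → ℂ) = ((⟨b.1, b.2.1⟩ : IrrCharacter V) : V → ℂ) :=
    congrArg Subtype.val hab
  exact Subtype.ext h1

/-- conjugacy under `N_G(P)` -/
def invSetoid : Setoid (InvIrr P V) where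
  r a b := ∃ n ∈ Subgroup.normalizer ((P : Subgroup G) : Set G), conjFun V n a.1 = b.1
  iseqv :=
    ⟨fun a => ⟨1, Subgroup.one_mem _, conjFun_one V a.1⟩,
      fun ⟨n, hn, h⟩ => ⟨n⁻¹, Subgroup.inv_mem _ hn, by rw [← h]; exact conjFun_inv_conjFun V n _⟩,
      fun ⟨n, hn, h⟩ ⟨m, hm, h'⟩ => ⟨n * m, Subgroup.mul_mem _ hn hm, by rw [conjFun_mul, h, h']⟩⟩

end main

/-- (CL2) weighted Clifford count. -/
theorem rcount_eq_of_forall_cntUnder {G : Type u} [Group G] [Finite G] (P : Sylow 2 G)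
    (V : Subgroup G) [hV : V.Normal] (hV2 : ∀ v ∈ V, v ^ 2 = 1) (hVP : V ≤ (P : Subgroup G))
    (h : ∀ lam : V → ℂ, IsIrrCharacter V lam →
      (∀ g ∈ (P : Subgroup G), conjFun V g lam = lam) →
      cntUnder G V lam =
        cntUnder ↥(Subgroup.normalizer ((P : Subgroup G) : Set G))
          (V.subgroupOf (Subgroup.normalizer ((P : Subgroup G) : Set G)))
          (fun w => lam ⟨((w : ↥(Subgroup.normalizer ((P : Subgroup G) : Set G))) : G),
            Subgroup.mem_subgroupOf.mp w.2⟩)) :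
    rcount G = rcount ↥(Subgroup.normalizer ((P : Subgroup G) : Set G)) := by
  classical
  let _ : Fintype G := Fintype.ofFinite G
  let _ : Fintype V := Fintype.ofFinite V
  have hPN : (P : Subgroup G) ≤ Subgroup.normalizer ((P : Subgroup G) : Set G) :=
    Subgroup.le_normalizer
  have hVN : V ≤ Subgroup.normalizer ((P : Subgroup G) : Set G) := hVP.trans hPN
  let _ : Fintype ↥(Subgroup.normalizer ((P : Subgroup G) : Set G)) := Fintype.ofFinite _
  let _ : Fintype ↥(V.subgroupOf (Subgroup.normalizer ((P : Subgroup G) : Set G))) :=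
    Fintype.ofFinite _
  -- transport of functions `V → ℂ` to `V.subgroupOf N`
  have htr : ∀ lam : V → ℂ,
      (fun w : ↥(V.subgroupOf (Subgroup.normalizer ((P : Subgroup G) : Set G))) =>
        lam ⟨((w : ↥(Subgroup.normalizer ((P : Subgroup G) : Set G))) : G),
          Subgroup.mem_subgroupOf.mp w.2⟩) = lam ∘ (Subgroup.subgroupOfEquivOfLe hVN) := by
    intro lam
    rfl
  unfold rcount
  apply card_eq_of_fibers (invSetoid P V)
    (fun lam (χ : {χ : IrrCharacter G //
        (∀ g : G, ((χ : G → ℂ) g).im = 0) ∧ Odd (charDegree (χ : G → ℂ))}) =>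
      classInner (fun v : V => ((χ.1 : IrrCharacter G) : G → ℂ) v) lam.1 ≠ 0)
    (fun lam (χ : {χ : IrrCharacter ↥(Subgroup.normalizer ((P : Subgroup G) : Set G)) //
        (∀ g : ↥(Subgroup.normalizer ((P : Subgroup G) : Set G)),
          ((χ : ↥(Subgroup.normalizer ((P : Subgroup G) : Set G)) → ℂ) g).im = 0) ∧
        Odd (charDegree (χ : ↥(Subgroup.normalizer ((P : Subgroup G) : Set G)) → ℂ))}) =>
      classInner
      (fun w : ↥(V.subgroupOf (Subgroup.normalizer ((P : Subgroup G) : Set G))) =>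
        ((χ.1 : IrrCharacter ↥(Subgroup.normalizer ((P : Subgroup G) : Set G))) :
          ↥(Subgroup.normalizer ((P : Subgroup G) : Set G)) → ℂ) w)
      (fun w : ↥(V.subgroupOf (Subgroup.normalizer ((P : Subgroup G) : Set G))) =>
        lam.1 ⟨((w : ↥(Subgroup.normalizer ((P : Subgroup G) : Set G))) : G),
          Subgroup.mem_subgroupOf.mp w.2⟩) ≠ 0)
  · -- existence, `G`
    rintro ⟨⟨χ, hirr⟩, hre, hodd⟩
    obtain ⟨θ, hθ, hinv, hc⟩ := exists_sylow_invariant_constituent V P hirr hodd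
    exact ⟨⟨θ, hθ, hinv⟩, hc⟩
  · -- uniqueness, `G`
    rintro ⟨⟨χ, hirr⟩, hre, hodd⟩ lam lam' h1 h2
    obtain ⟨g, hg⟩ := exists_conjFun_eq_of_constituent V hirr lam.2.1 lam'.2.1 h1 h2
    exact Cfsg.Agent.Lib.Helper9.RO.exists_normalizer_conj P V lam.1 lam'.1 lam.2.2 lam'.2.2 g hg
  · -- closure, `G`
    rintro ⟨⟨χ, hirr⟩, hre, hodd⟩ lam lam' h1 ⟨n, hn, hnl⟩
    have hcls : IsClassFunction G χ :=
      IsCharacter.isClassFunction (IsIrrCharacter.isCharacter hirr)
    show classInner (resFun V χ) lam'.1 ≠ 0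
    rw [← hnl, classInner_resFun_conjFun V hcls]
    exact h1
  · -- existence, `N`
    rintro ⟨⟨χ, hirr⟩, hre, hodd⟩
    obtain ⟨θ, hθ, hinv, hc⟩ := exists_sylow_invariant_constituent
      (V.subgroupOf (Subgroup.normalizer ((P : Subgroup G) : Set G))) (P.subtype hPN) hirr hodd
    have hcomp : (θ ∘ (Subgroup.subgroupOfEquivOfLe hVN).symm) ∘
        (Subgroup.subgroupOfEquivOfLe hVN) = θ := by
      funext w
      simp
    refine ⟨⟨θ ∘ (Subgroup.subgroupOfEquivOfLe hVN).symm,
      isIrrCharacter_comp_mulEquiv' (Subgroup.subgroupOfEquivOfLe hVN).symm hθ, ?_⟩, ?_⟩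
    · intro g hg
      have h1 := conjFun_subgroupOf hVN ⟨g, hPN hg⟩
        (θ ∘ (Subgroup.subgroupOfEquivOfLe hVN).symm)
      rw [hcomp] at h1
      have h2 : conjFun (V.subgroupOf (Subgroup.normalizer ((P : Subgroup G) : Set G)))
          (⟨g, hPN hg⟩ : ↥(Subgroup.normalizer ((P : Subgroup G) : Set G))) θ = θ := by
        apply hinv
        rw [Sylow.coe_subtype, Subgroup.mem_subgroupOf]
        exact hg
      rw [h2] at h1
      funext v
      have h3 := congrFun h1 ((Subgroup.subgroupOfEquivOfLe hVN).symm v)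
      simp only [Function.comp_apply, MulEquiv.apply_symm_apply] at h3
      exact h3.symm
    · show classInner _ _ ≠ 0
      rw [htr, hcomp]
      exact hc
  · -- uniqueness, `N`
    rintro ⟨⟨χ, hirr⟩, hre, hodd⟩ lam lam' h1 h2
    change classInner _ _ ≠ 0 at h1 h2
    rw [htr] at h1 h2
    obtain ⟨t, ht⟩ := exists_conjFun_eq_of_constituent
      (V.subgroupOf (Subgroup.normalizer ((P : Subgroup G) : Set G))) hirr
      (isIrrCharacter_comp_mulEquiv' (Subgroup.subgroupOfEquivOfLe hVN) lam.2.1)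
      (isIrrCharacter_comp_mulEquiv' (Subgroup.subgroupOfEquivOfLe hVN) lam'.2.1) h1 h2
    rw [conjFun_subgroupOf] at ht
    refine ⟨(t : G), t.2, ?_⟩
    funext v
    have h3 := congrFun ht ((Subgroup.subgroupOfEquivOfLe hVN).symm v)
    simp only [Function.comp_apply, MulEquiv.apply_symm_apply] at h3
    exact h3
  · -- closure, `N`
    rintro ⟨⟨χ, hirr⟩, hre, hodd⟩ lam lam' h1 ⟨n, hn, hnl⟩
    have hcls : IsClassFunction _ χ :=
      IsCharacter.isClassFunction (IsIrrCharacter.isCharacter hirr)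
    change classInner _ _ ≠ 0 at h1
    show classInner _ _ ≠ 0
    rw [htr] at h1 ⊢
    rw [← hnl]
    have h4 := conjFun_subgroupOf hVN
      (⟨n, hn⟩ : ↥(Subgroup.normalizer ((P : Subgroup G) : Set G))) lam.1
    rw [← h4]
    have h5 := classInner_resFun_conjFun
      (V.subgroupOf (Subgroup.normalizer ((P : Subgroup G) : Set G))) hcls
      (⟨n, hn⟩ : ↥(Subgroup.normalizer ((P : Subgroup G) : Set G)))
      (lam.1 ∘ (Subgroup.subgroupOfEquivOfLe hVN))
    rw [resFun_eq] at h5
    rw [h5]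
    exact h1
  · -- the fibres
    intro lam
    have hl := h lam.1 lam.2.1 lam.2.2
    unfold cntUnder at hl
    exact (Nat.card_congr (Equiv.subtypeSubtypeEquivSubtypeInter _ _)).trans
      (hl.trans (Nat.card_congr (Equiv.subtypeSubtypeEquivSubtypeInter _ _)).symm)

end Cfsg.Agent.Lib.Helper19.RO
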