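/-
helper19: S4864 leaf (N8) `normal_odd_index_CP` (planner helper12, notes/S4864_leaves.lean).
`C_K(P)` is normal of odd index in `N_G(P)` when `p ∤ |K|` and `K ⊴ G` has odd index.
Pure Mathlib + helper12 `RealNDefs` (vocabulary only).
-/
import Mathlib
import Cfsg.Prelude.Def_Blocks
import Cfsg.Agent.Lib.Helper12.RealNDefs

set_option autoImplicit false

namespace Cfsg.Agent.Lib.Helper19.RealN

open Cfsg Cfsg.Agent.Lib.Helper12.RealN

universe u

variable {G : Type u} [Group G] [Finite G]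

/-- A `p`-subgroup meets a subgroup of order prime to `p` trivially. -/
theorem inf_sylow_eq_bot (p : ℕ) [Fact p.Prime] (K : Subgroup G) (P : Sylow p G)
    (hpK : ¬ p ∣ Nat.card ↥K) : K ⊓ (P : Subgroup G) = ⊥ := by
  have hp : p.Prime := Fact.out
  have hPg : IsPGroup p ↥(K ⊓ (P : Subgroup G)) :=
    P.isPGroup'.to_le inf_le_right
  obtain ⟨n, hn⟩ := IsPGroup.iff_card.mp hPg
  have hdvd : Nat.card ↥(K ⊓ (P : Subgroup G)) ∣ Nat.card ↥K :=
    Subgroup.card_dvd_of_le inf_le_left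
  have hn0 : n = 0 := by
    by_contra hne
    apply hpK
    refine dvd_trans ?_ hdvd
    rw [hn]
    exact dvd_pow_self p hne
  rw [hn0, pow_zero] at hn
  exact (Subgroup.card_eq_one).mp hn

/-- `K ⊓ N_G(P) = C_K(P)` when `p ∤ |K|`, `K ⊴ G`. -/
theorem inf_NP_eq_CP (p : ℕ) [Fact p.Prime] (K : Subgroup G) [hK : K.Normal]
    (P : Sylow p G) (hpK : ¬ p ∣ Nat.card ↥K) : K ⊓ NP P = CP K P := by
  apply le_antisymm
  · intro n hn
    obtain ⟨hnK, hnN⟩ := Subgroup.mem_inf.mp hn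
    refine Subgroup.mem_inf.mpr ⟨hnK, ?_⟩
    rw [Subgroup.mem_centralizer_iff]
    intro u hu
    have huP : u ∈ (P : Subgroup G) := hu
    -- `[n, u] = n * u * n⁻¹ * u⁻¹ ∈ K ⊓ P = ⊥`
    have h1 : n * u * n⁻¹ * u⁻¹ ∈ K := by
      have : u * n⁻¹ * u⁻¹ ∈ K := hK.conj_mem _ (K.inv_mem hnK) u
      have h2 : n * (u * n⁻¹ * u⁻¹) ∈ K := K.mul_mem hnK this
      simpa [mul_assoc] using h2
    have h2 : n * u * n⁻¹ * u⁻¹ ∈ (P : Subgroup G) := by
      have h3 : n * u * n⁻¹ ∈ (P : Subgroup G) :=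
        (Subgroup.mem_normalizer_iff.mp hnN u).mp huP
      exact (P : Subgroup G).mul_mem h3 ((P : Subgroup G).inv_mem huP)
    have h3 : n * u * n⁻¹ * u⁻¹ ∈ K ⊓ (P : Subgroup G) := ⟨h1, h2⟩
    rw [inf_sylow_eq_bot p K P hpK, Subgroup.mem_bot] at h3
    -- `n * u * n⁻¹ * u⁻¹ = 1 → u * n = n * u`
    have h4 : n * u * n⁻¹ = u := by
      have := mul_inv_eq_one.mp h3
      exact this
    have h5 : n * u = u * n := by
      have := mul_inv_eq_iff_eq_mul.mp h4
      exact this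
    exact h5.symm
  · intro n hn
    obtain ⟨hnK, hnC⟩ := Subgroup.mem_inf.mp hn
    refine Subgroup.mem_inf.mpr ⟨hnK, ?_⟩
    have hle : Subgroup.centralizer ((P : Subgroup G) : Set G) ≤ NP P :=
      Subgroup.centralizer_le_normalizer _
    exact hle hnC

theorem normal_odd_index_CP (p : ℕ) [Fact p.Prime] (K : Subgroup G) [hK : K.Normal]
    (hodd : Odd K.index) (P : Sylow p G) (hpK : ¬ p ∣ Nat.card ↥K) :
    ((CP K P).subgroupOf (NP P)).Normal ∧ Odd ((CP K P).subgroupOf (NP P)).index := by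
  have heq : K ⊓ NP P = CP K P := inf_NP_eq_CP p K P hpK
  constructor
  · -- `(K ⊓ N).subgroupOf N = K.subgroupOf N` is normal in `N`
    rw [← heq, Subgroup.inf_subgroupOf_right]
    infer_instance
  · have h1 : ((CP K P).subgroupOf (NP P)).index = K.relIndex (NP P) := by
      rw [← heq]
      exact Subgroup.inf_relIndex_right K (NP P)
    rw [h1]
    have hdvd : K.relIndex (NP P) ∣ K.index := Subgroup.relIndex_dvd_index_of_normal K (NP P)
    obtain ⟨k, hk⟩ := hdvd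
    rw [hk] at hodd
    exact (Nat.odd_mul.mp hodd).1

end Cfsg.Agent.Lib.Helper19.RealN
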