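import Mathlib
import Cfsg.Prelude.Def_GeometricClasses
import Cfsg.Agent.Lib.Helper11.MonoTrans
import Cfsg.Agent.Lib.Helper18.C2Main

/-!
S5798 (sl6_geometric_types_maximal, owner helper24), block (L) = LINES (sub-planner helper26), leaf L2
`false_of_dense_prop_five` (helper19) = MWd for `5 ≤ card ι`: only TWO zero columns `e₀, e₁` outside `{j, k}` are used; weights `0` at
`k`, `x` at `p`, `1 - N - x` at `p'`, `1` elsewhere; entry formula `X a j = B a j * (1 - ∑_{l : B a l = 0} w l)` for every row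
`a ≠ k`; `X` is not monomial by the pigeonhole principle.  First part = copy of `Helper1.LowDim.false_of_dense_prop_low`.
-/

set_option autoImplicit false
set_option linter.unusedSectionVars false
set_option linter.unusedVariables false

namespace Cfsg.Agent.Lib.Helper19.SL6LLeaf
open Matrix Cfsg.Agent.Lib.Helper11.Mono Cfsg.Agent.Lib.Helper6.MonoLeaf

section std
variable {F : Type*} [Field F] [Fintype F] {ι : Type} [Fintype ι] [DecidableEq ι]

/-- the complement of three distinct points -/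
lemma card_filter_ne_three (k p p' : ι) (hkp : k ≠ p) (hkp' : k ≠ p') (hpp' : p ≠ p') :
    (Finset.univ.filter fun l : ι => l ≠ k ∧ l ≠ p ∧ l ≠ p').card = Fintype.card ι - 3 := by
  have h1 : (Finset.univ.filter fun l : ι => l ≠ k ∧ l ≠ p ∧ l ≠ p') = Finset.univ \ {k, p, p'} := by
    ext l
    simp only [Finset.mem_filter, Finset.mem_univ, true_and, Finset.mem_sdiff, Finset.mem_insert,
      Finset.mem_singleton, not_or]
  have h3 : ({k, p, p'} : Finset ι).card = 3 := by
    rw [Finset.card_insert_of_notMem, Finset.card_insert_of_notMem, Finset.card_singleton]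
    · simpa using hpp'
    · simp only [Finset.mem_insert, Finset.mem_singleton, not_or]
      exact ⟨hkp, hkp'⟩
  rw [h1, Finset.card_sdiff_of_subset (Finset.subset_univ _), Finset.card_univ, h3]

/-- the complement of two points -/
lemma card_filter_ne_two_ge (k i₀ : ι) :
    Fintype.card ι - 2 ≤ (Finset.univ.filter fun a : ι => a ≠ k ∧ a ≠ i₀).card := by
  have h1 : (Finset.univ.filter fun a : ι => a ≠ k ∧ a ≠ i₀) = Finset.univ \ {k, i₀} := by
    ext l
    simp only [Finset.mem_filter, Finset.mem_univ, true_and, Finset.mem_sdiff, Finset.mem_insert,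
      Finset.mem_singleton, not_or]
  have h2 : ({k, i₀} : Finset ι).card ≤ 2 := Finset.card_le_two
  have h3 := Finset.le_card_sdiff ({k, i₀} : Finset ι) Finset.univ
  rw [h1]
  rw [Finset.card_univ] at h3
  omega

/-- (L2) = MWd for `5 ≤ card ι`. -/
theorem false_of_dense_prop_five (h5 : 5 ≤ Fintype.card ι) (hq : 5 ≤ Fintype.card F)
    (M : Subgroup (GL ι F)) (hH : ContainsH M) (B : GL ι F) (hB : B ∈ M)
    (hnm : ¬ IsMono (B : Matrix ι ι F))
    (hdense : ∀ X : GL ι F, X ∈ M → ¬ IsMono (X : Matrix ι ι F) → ∀ j c c', c ≠ c' →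
      (X : Matrix ι ι F) c j = 0 → (X : Matrix ι ι F) c' j = 0 → False)
    (hprop : ∀ l m a b, (B : Matrix ι ι F) a l ≠ 0 → (B : Matrix ι ι F) a m ≠ 0 →
      (B : Matrix ι ι F) b l ≠ 0 → (B : Matrix ι ι F) b m ≠ 0 →
      (B : Matrix ι ι F) a l * (B : Matrix ι ι F) b m = (B : Matrix ι ι F) b l * (B : Matrix ι ι F) a m) :
    False := by
  classical
  have hd := hdense B hB hnm
  -- two distinct columns without zero are proportional: impossible
  have hfull : ∀ l l', l ≠ l' → (∀ a, (B : Matrix ι ι F) a l ≠ 0) →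
      (∀ a, (B : Matrix ι ι F) a l' ≠ 0) → False := by
    intro l l' hll h1 h2
    have hne : Nonempty ι := by
      apply Fintype.card_pos_iff.mp; omega
    obtain ⟨a0⟩ := hne
    apply wd_col_not_prop B l l' ((B : Matrix ι ι F) a0 l / (B : Matrix ι ι F) a0 l') hll
    intro a
    have := hprop l l' a a0 (h1 a) (h2 a) (h1 a0) (h2 a0)
    field_simp [h2 a0]
    linear_combination this
  -- a row has at most one zero
  have hrow : ∀ a l l', (B : Matrix ι ι F) a l = 0 → (B : Matrix ι ι F) a l' = 0 → l = l' := by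
    intro a l l' h1 h2
    by_contra hll
    have hn1 : ∀ b, b ≠ a → (B : Matrix ι ι F) b l ≠ 0 := fun b hb h => hd l b a hb h h1
    have hn2 : ∀ b, b ≠ a → (B : Matrix ι ι F) b l' ≠ 0 := fun b hb h => hd l' b a hb h h2
    obtain ⟨a0, ha0⟩ : ∃ a0 : ι, a0 ≠ a := by
      have : 1 < Fintype.card ι := by omega
      exact Fintype.exists_ne_of_one_lt_card this a
    apply wd_col_not_prop B l l' ((B : Matrix ι ι F) a0 l / (B : Matrix ι ι F) a0 l') hll
    intro b
    by_cases hb : b = a
    · rw [hb, h1, h2, mul_zero]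
    · have := hprop l l' b a0 (hn1 b hb) (hn2 b hb) (hn1 a0 ha0) (hn2 a0 ha0)
      field_simp [hn2 a0 ha0]
      linear_combination this
  -- the full columns
  have hFull : (Finset.univ.filter fun l : ι => ∀ a, (B : Matrix ι ι F) a l ≠ 0).card ≤ 1 := by
    rw [Finset.card_le_one]
    intro l hl l' hl'
    rw [Finset.mem_filter] at hl hl'
    by_contra hll
    exact hfull l l' hll hl.2 hl'.2
  -- there is a zero entry
  obtain ⟨k, j, hkj⟩ : ∃ k j, (B : Matrix ι ι F) k j = 0 := by
    by_contra hcon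
    push Not at hcon
    obtain ⟨l, l', hll⟩ : ∃ l l' : ι, l ≠ l' := by
      have : 1 < Fintype.card ι := by omega
      obtain ⟨l, l', h⟩ := Fintype.exists_pair_of_one_lt_card this
      exact ⟨l, l', h⟩
    exact hfull l l' hll (fun a => hcon a l) (fun a => hcon a l')
  have hv : ∀ a, a ≠ k → (B : Matrix ι ι F) a j ≠ 0 := fun a ha h => hd j a k ha h hkj
  -- the proportionality factors
  have hγ : ∀ l : ι, ∃ γ : F, γ ≠ 0 ∧ ∀ a, a ≠ k → (B : Matrix ι ι F) a l ≠ 0 →
      (B : Matrix ι ι F) a l = γ * (B : Matrix ι ι F) a j := by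
    intro l
    obtain ⟨a0, ha0k, ha0⟩ : ∃ a0, a0 ≠ k ∧ (B : Matrix ι ι F) a0 l ≠ 0 := by
      by_contra hcon
      push Not at hcon
      obtain ⟨a1, a2, h1k, h2k, h12⟩ : ∃ a1 a2 : ι, a1 ≠ k ∧ a2 ≠ k ∧ a1 ≠ a2 := by
        have h3 : 2 < Fintype.card ι := by omega
        obtain ⟨a1, a2, a3, h12, h13', h23⟩ := Fintype.two_lt_card_iff.mp h3
        by_cases h1 : a1 = k
        · refine ⟨a2, a3, ?_, ?_, h23⟩
          · rw [← h1]; exact h12.symm
          · rw [← h1]; exact h13'.symm
        · by_cases h2 : a2 = k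
          · refine ⟨a1, a3, h1, ?_, h13'⟩
            rw [← h2]; exact h23.symm
          · exact ⟨a1, a2, h1, h2, h12⟩
      exact hd l a1 a2 h12 (hcon a1 h1k) (hcon a2 h2k)
    refine ⟨(B : Matrix ι ι F) a0 l / (B : Matrix ι ι F) a0 j,
      div_ne_zero ha0 (hv a0 ha0k), fun a hak ha => ?_⟩
    have := hprop l j a a0 ha (hv a hak) ha0 (hv a0 ha0k)
    field_simp [hv a0 ha0k]
    linear_combination this
  choose γ hγ0 hγe using hγ
  -- two non-full columns other than `k`, `j`
  obtain ⟨S, hS⟩ : ∃ S : Finset ι, S = Finset.univ.filter fun l : ι =>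
      l ≠ k ∧ l ≠ j ∧ ∃ a, (B : Matrix ι ι F) a l = 0 := ⟨_, rfl⟩
  have hScard : 2 ≤ S.card := by
    have hsub : (Finset.univ : Finset ι) ⊆ S ∪ ({k} ∪ ({j} ∪
        Finset.univ.filter fun l : ι => ∀ a, (B : Matrix ι ι F) a l ≠ 0)) := by
      intro l _
      rw [Finset.mem_union, Finset.mem_union, Finset.mem_union, Finset.mem_singleton,
        Finset.mem_singleton, hS, Finset.mem_filter, Finset.mem_filter]
      by_cases h1 : l = k
      · exact Or.inr (Or.inl h1)
      · by_cases h2 : l = j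
        · exact Or.inr (Or.inr (Or.inl h2))
        · by_cases h3 : ∀ a, (B : Matrix ι ι F) a l ≠ 0
          · exact Or.inr (Or.inr (Or.inr ⟨Finset.mem_univ _, h3⟩))
          · push Not at h3
            exact Or.inl ⟨Finset.mem_univ _, h1, h2, h3⟩
    have h0 := Finset.card_le_card hsub
    have h1 := Finset.card_union_le S ({k} ∪ ({j} ∪
        Finset.univ.filter fun l : ι => ∀ a, (B : Matrix ι ι F) a l ≠ 0))
    have h2 := Finset.card_union_le {k} ({j} ∪
        Finset.univ.filter fun l : ι => ∀ a, (B : Matrix ι ι F) a l ≠ 0)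
    have h3 := Finset.card_union_le {j}
        (Finset.univ.filter fun l : ι => ∀ a, (B : Matrix ι ι F) a l ≠ 0)
    rw [Finset.card_univ] at h0
    rw [Finset.card_singleton] at h2 h3
    omega
  have hSmem : ∀ l ∈ S, l ≠ k ∧ l ≠ j ∧ ∃ a, (B : Matrix ι ι F) a l = 0 := by
    intro l hl
    rw [hS, Finset.mem_filter] at hl
    exact hl.2
  obtain ⟨e⟩ : Nonempty (Fin 2 ↪ S) := by
    apply Function.Embedding.nonempty_of_card_le
    rw [Fintype.card_fin, Fintype.card_coe]; exact hScard
  have hl : ∀ i : Fin 2, (e i : ι) ≠ k ∧ (e i : ι) ≠ j ∧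
      ∃ a, (B : Matrix ι ι F) a (e i) = 0 := fun i => hSmem _ (e i).2
  choose hlk hlj a ha using hl
  have hak : ∀ i, a i ≠ k := by
    intro i h
    have := hrow k (e i) j (by rw [← h]; exact ha i) hkj
    exact hlj i this
  have hainj : Function.Injective a := by
    intro i i' h
    have := hrow (a i) (e i) (e i') (ha i) (by rw [h]; exact ha i')
    exact e.injective (Subtype.ext this)
  have he01 : (e 0 : ι) ≠ (e 1 : ι) := by
    intro h
    have : (0 : Fin 2) = 1 := e.injective (Subtype.ext h)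
    exact absurd this (by decide)
  -- two more indices `p ≠ p'` outside `{k, e 0, e 1}`
  obtain ⟨T, hT⟩ : ∃ T : Finset ι, T = Finset.univ.filter fun l : ι =>
      l ≠ k ∧ l ≠ (e 0 : ι) ∧ l ≠ (e 1 : ι) := ⟨_, rfl⟩
  have hTcard : 2 ≤ T.card := by
    rw [hT, card_filter_ne_three k (e 0) (e 1) (hlk 0).symm (hlk 1).symm he01]
    omega
  have hTmem : ∀ l ∈ T, l ≠ k ∧ l ≠ (e 0 : ι) ∧ l ≠ (e 1 : ι) := by
    intro l hl
    rw [hT, Finset.mem_filter] at hl
    exact hl.2
  obtain ⟨pp⟩ : Nonempty (Fin 2 ↪ T) := by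
    apply Function.Embedding.nonempty_of_card_le
    rw [Fintype.card_fin, Fintype.card_coe]; exact hTcard
  have hpmem : ∀ i : Fin 2, (pp i : ι) ≠ k ∧ (pp i : ι) ≠ (e 0 : ι) ∧ (pp i : ι) ≠ (e 1 : ι) :=
    fun i => hTmem _ (pp i).2
  obtain ⟨p, hp⟩ : ∃ p : ι, p = (pp 0 : ι) := ⟨_, rfl⟩
  obtain ⟨p', hp'⟩ : ∃ p' : ι, p' = (pp 1 : ι) := ⟨_, rfl⟩
  have hpp' : p ≠ p' := by
    rw [hp, hp']
    intro h
    have : (0 : Fin 2) = 1 := pp.injective (Subtype.ext h)
    exact absurd this (by decide)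
  have hpk : p ≠ k := by rw [hp]; exact (hpmem 0).1
  have hp'k : p' ≠ k := by rw [hp']; exact (hpmem 1).1
  have hep : ∀ i : Fin 2, (e i : ι) ≠ p := by
    intro i h
    rw [hp] at h
    fin_cases i
    · exact (hpmem 0).2.1 h.symm
    · exact (hpmem 0).2.2 h.symm
  have hep' : ∀ i : Fin 2, (e i : ι) ≠ p' := by
    intro i h
    rw [hp'] at h
    fin_cases i
    · exact (hpmem 1).2.1 h.symm
    · exact (hpmem 1).2.2 h.symm
  -- the weights
  obtain ⟨N, hN⟩ : ∃ N : F, N = ((Fintype.card ι - 3 : ℕ) : F) := ⟨_, rfl⟩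
  obtain ⟨x, hx0, hx1, hx2, hx3⟩ := wd_exists_avoid hq (0 : F) 1 (1 - N) (-N)
  have hx'0 : 1 - N - x ≠ 0 := by
    intro h
    apply hx2
    linear_combination -h
  obtain ⟨w, hw⟩ : ∃ w : ι → F, w = fun l => if l = k then (0 : F) else
      if l = p then x else if l = p' then 1 - N - x else 1 := ⟨_, rfl⟩
  have hwsum : ∑ l, w l = 1 := by
    rw [hw]
    rw [wd_sum_three k p p' hpk.symm hp'k.symm hpp' x (1 - N - x), ← hN]
    ring
  have hwk : w k = 0 := by rw [hw]; simp only [if_true]
  have hwe : ∀ i : Fin 2, w (e i) = 1 := by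
    intro i
    rw [hw]
    simp only
    rw [if_neg (hlk i), if_neg (hep i), if_neg (hep' i)]
  have hwne : ∀ l, l ≠ k → w l ≠ 0 := by
    intro l hlk'
    rw [hw]
    simp only
    rw [if_neg hlk']
    split_ifs
    · exact hx0
    · exact hx'0
    · exact one_ne_zero
  have hw1 : ∀ l, w l = 1 → l ≠ k ∧ l ≠ p ∧ l ≠ p' := by
    intro l hl1
    rw [hw] at hl1
    simp only at hl1
    refine ⟨?_, ?_, ?_⟩
    · intro h
      rw [if_pos h] at hl1
      exact zero_ne_one hl1
    · intro h
      by_cases hk' : l = k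
      · rw [if_pos hk'] at hl1
        exact zero_ne_one hl1
      · rw [if_neg hk', if_pos h] at hl1
        exact hx1 hl1
    · intro h
      by_cases hk' : l = k
      · rw [if_pos hk'] at hl1
        exact zero_ne_one hl1
      · have hlp : l ≠ p := by rw [h]; exact hpp'.symm
        rw [if_neg hk', if_neg hlp, if_pos h] at hl1
        apply hx3
        linear_combination -hl1
  -- the diagonal element
  obtain ⟨σ, hσ⟩ : ∃ σ : ι → F, σ = fun l => if l = k then (1 : F) else
      w l / (γ l * (B : Matrix ι ι F) l j) := ⟨_, rfl⟩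
  have hσ0 : ∀ l, σ l ≠ 0 := by
    intro l
    rw [hσ]
    simp only
    split_ifs with h
    · exact one_ne_zero
    · exact div_ne_zero (hwne l h) (mul_ne_zero (hγ0 l) (hv l h))
  obtain ⟨s0, hs0⟩ : ∃ s0 : ι → Fˣ, s0 = fun l => Units.mk0 (σ l) (hσ0 l) := ⟨_, rfl⟩
  obtain ⟨s, hs⟩ : ∃ s : ι → Fˣ, s = Function.update s0 k
      (∏ l ∈ Finset.univ \ {k}, s0 l)⁻¹ := ⟨_, rfl⟩
  have hsprod : ∏ l, s l = 1 := by
    rw [hs, Finset.prod_update_of_mem (Finset.mem_univ k), inv_mul_cancel]
  have hsl : ∀ l, l ≠ k → (s l : F) = w l / (γ l * (B : Matrix ι ι F) l j) := by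
    intro l hlk'
    rw [hs, Function.update_of_ne hlk', hs0]
    simp only [Units.val_mk0]
    rw [hσ]
    simp only
    rw [if_neg hlk']
  have hsM : dg s ∈ M := dg_mem_of_containsH hH hsprod
  have hXM : B * dg s * B ∈ M := M.mul_mem (M.mul_mem hB hsM) hB
  -- the entries of column `j` of `X`, for EVERY row `a ≠ k`
  have hXent : ∀ a', a' ≠ k → ((B * dg s * B : GL ι F) : Matrix ι ι F) a' j =
      (B : Matrix ι ι F) a' j * (1 - ∑ l, if (B : Matrix ι ι F) a' l = 0 then w l else 0) := by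
    intro a' ha'k
    rw [Units.val_mul, Units.val_mul, dg_val, Matrix.mul_apply]
    have hterm : ∀ l ∈ (Finset.univ : Finset ι),
        ((B : Matrix ι ι F) * Matrix.diagonal fun i => (s i : F)) a' l *
          (B : Matrix ι ι F) l j =
        (B : Matrix ι ι F) a' j * w l -
          (B : Matrix ι ι F) a' j * (if (B : Matrix ι ι F) a' l = 0 then w l else 0) := by
      intro l _
      rw [Matrix.mul_diagonal]
      by_cases hlk' : l = k
      · rw [hlk', hkj, mul_zero, hwk, mul_zero]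
        split_ifs <;> simp
      · rw [hsl l hlk']
        by_cases hle : (B : Matrix ι ι F) a' l = 0
        · rw [if_pos hle, sub_self, hle, zero_mul, zero_mul]
        · rw [if_neg hle, mul_zero, sub_zero]
          rw [hγe l a' ha'k hle]
          have h1 := hγ0 l
          have h2 := hv l hlk'
          field_simp
    rw [Finset.sum_congr rfl hterm, Finset.sum_sub_distrib, ← Finset.mul_sum, ← Finset.mul_sum, hwsum]
    ring
  -- a row with its unique zero at `l₀`
  have hsum_zero : ∀ a' l₀, (B : Matrix ι ι F) a' l₀ = 0 →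
      (∑ l, if (B : Matrix ι ι F) a' l = 0 then w l else 0) = w l₀ := by
    intro a' l₀ h0
    rw [Finset.sum_eq_single l₀]
    · rw [if_pos h0]
    · intro l _ hll
      rw [if_neg]
      intro hl0
      exact hll (hrow a' l l₀ hl0 h0)
    · intro h
      exact absurd (Finset.mem_univ _) h
  have hX01 : ∀ i : Fin 2, ((B * dg s * B : GL ι F) : Matrix ι ι F) (a i) j = 0 := by
    intro i
    rw [hXent (a i) (hak i), hsum_zero (a i) (e i) (ha i), hwe i, sub_self, mul_zero]
  -- a vanishing entry of column `j` of `X` forces a zero of `B` outside the columns `k, p, p'`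
  have hzero : ∀ a', a' ≠ k → ((B * dg s * B : GL ι F) : Matrix ι ι F) a' j = 0 →
      ∃ l, (B : Matrix ι ι F) a' l = 0 ∧ l ≠ k ∧ l ≠ p ∧ l ≠ p' := by
    intro a' ha'k hX
    rw [hXent a' ha'k] at hX
    have h1 : (1 - ∑ l, if (B : Matrix ι ι F) a' l = 0 then w l else 0) = 0 :=
      (mul_eq_zero.mp hX).resolve_left (hv a' ha'k)
    by_cases hex : ∃ l, (B : Matrix ι ι F) a' l = 0
    · obtain ⟨l, hl⟩ := hex
      rw [hsum_zero a' l hl] at h1
      have : w l = 1 := by linear_combination -h1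
      exact ⟨l, hl, hw1 l this⟩
    · push Not at hex
      exfalso
      rw [Finset.sum_eq_zero (fun l _ => if_neg (hex l))] at h1
      norm_num at h1
  -- `X` is not monomial
  have hXnm : ¬ IsMono ((B * dg s * B : GL ι F) : Matrix ι ι F) := by
    intro hmono
    obtain ⟨i0, hi0⟩ := hmono j
    have hlam : ∀ a', ∃ l, a' ≠ k → a' ≠ i0 → ((B : Matrix ι ι F) a' l = 0 ∧ l ≠ k ∧ l ≠ p ∧ l ≠ p') := by
      intro a'
      by_cases h1 : a' ≠ k ∧ a' ≠ i0
      · obtain ⟨l, hl⟩ := hzero a' h1.1 (hi0 a' h1.2)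
        exact ⟨l, fun _ _ => hl⟩
      · refine ⟨k, fun h2 h3 => absurd ⟨h2, h3⟩ h1⟩
    choose lam hlam' using hlam
    have hle : (Finset.univ.filter fun a' : ι => a' ≠ k ∧ a' ≠ i0).card ≤
        (Finset.univ.filter fun l : ι => l ≠ k ∧ l ≠ p ∧ l ≠ p').card := by
      apply Finset.card_le_card_of_injOn lam
      · intro a' ha'
        rw [Finset.coe_filter, Set.mem_ofPred_eq] at ha'
        rw [Finset.coe_filter, Set.mem_ofPred_eq]
        exact ⟨Finset.mem_univ _, (hlam' a' ha'.2.1 ha'.2.2).2⟩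
      · intro a1 ha1 a2 ha2 h12
        rw [Finset.coe_filter, Set.mem_ofPred_eq] at ha1 ha2
        by_contra hne
        have h1 := (hlam' a1 ha1.2.1 ha1.2.2).1
        have h2 := (hlam' a2 ha2.2.1 ha2.2.2).1
        rw [← h12] at h2
        exact hd (lam a1) a1 a2 hne h1 h2
    have h1 := card_filter_ne_two_ge k i0
    rw [card_filter_ne_three k p p' hpk.symm hp'k.symm hpp'] at hle
    omega
  have h01 : a 0 ≠ a 1 := by
    intro h
    have : (0 : Fin 2) = 1 := hainj h
    exact absurd this (by decide)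
  exact hdense _ hXM hXnm j (a 0) (a 1) h01 (hX01 0) (hX01 1)

end std

end Cfsg.Agent.Lib.Helper19.SL6LLeaf
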