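import Mathlib
import Cfsg.Agent.Lib.Helper1.LowDimO

/-!
S5798 (sl6, owner helper24), block (O) = C8 orthogonal (sub-planner helper22), leaf O-2bc `step_2b` + `step_2c` (helper19):
steps (2b), (2c) of the plan (`TM_conj` / `TM_comm`).
-/

set_option autoImplicit false
set_option linter.unusedSectionVars false
set_option linter.unusedVariables false
set_option linter.unusedSimpArgs false

noncomputable section

namespace Cfsg.Agent.Lib.Helper19.SL6OLeaf
open Cfsg Matrix QuadraticMap Module Cfsg.Agent.Lib.Helper5 Cfsg.Agent.Lib.Helper5.SpMax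
  Cfsg.Agent.Lib.Helper5.TMCalc Cfsg.Agent.Lib.Helper5.OSL Cfsg.Agent.S5644.S5644aux

variable {F : Type*} [Field F] {n : ℕ}
variable (Qf : QuadraticForm F (Fin n → F))

theorem step_2b (h2 : (2 : F) ≠ 0) {M : Subgroup (GL (Fin n) F)}
    (hS : ∀ x : Fin n → F, x ≠ 0 → Qf x = 0 → ∀ l : F, TT Qf M (l • x) x)
    (a x : Fin n → F) (ha : Qf a ≠ 0) (hx : Qf x = 0) (hax : polar Qf a x = Qf a) :
    TT Qf M a ((2 : F) • x - a) := by
  have hxa : polar Qf x a = Qf a := by rw [polar_comm]; exact hax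
  have hx0 : x ≠ 0 := by
    rintro rfl
    rw [polar_zero_right] at hax
    exact ha hax.symm
  -- the singular vector `y`
  set y : Fin n → F := (Qf a)⁻¹ • (a - x) with hy
  have hQy : Qf y = 0 := by
    rw [hy, Q_smul, Q_sub, hx, hax]; ring
  have hxy : polar Qf x y = 1 := by
    rw [hy, polar_smul_right, polar_sub_right, hxa, pself, hx, smul_eq_mul]
    field_simp
    ring
  have hy0 : y ≠ 0 := by
    intro h
    rw [h, polar_zero_right] at hxy
    exact zero_ne_one hxy
  -- the transvection `t`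
  obtain ⟨h0, t, htM, htv⟩ := hS y hy0 hQy (-(Qf a))
  have htx : (t : Matrix (Fin n) (Fin n) F) *ᵥ x = (2 : F) • x - a := by
    rw [htv, bL_apply, polar_smul_left, polar_comm, hxy, hy, smul_eq_mul, mul_one]
    rw [smul_smul]
    have : -(Qf a) * (Qf a)⁻¹ = -1 := by field_simp
    rw [this]
    module
  -- conjugate `hS x _ _ 1` by `t`
  have h1 := TM_conj htM (hS x hx0 hx 1)
  rw [htx] at h1
  refine TM_of_eq (fun z => ?_) h1
  rw [LinearMap.comp_apply, Matrix.toLin'_apply, inv_apply_of h0 htv, bL_apply, bL_apply, bL_apply, one_smul,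
    polar_sub_right, polar_smul_right, polar_smul_left, hxy, hy, polar_smul_left, polar_sub_left, smul_eq_mul,
    smul_eq_mul, smul_eq_mul]
  field_simp
  ring

theorem step_2c (hnd : (polarBilin Qf).Nondegenerate) (h2 : (2 : F) ≠ 0)
    {M : Subgroup (GL (Fin n) F)}
    (hS : ∀ x : Fin n → F, x ≠ 0 → Qf x = 0 → ∀ l : F, TT Qf M (l • x) x)
    (x' a : Fin n → F) (hx'0 : x' ≠ 0) (hx' : Qf x' = 0) (ha : Qf a ≠ 0)
    (hax' : polar Qf a x' = 0) : TT Qf M a x' := by
  have ha0 : a ≠ 0 := by
    rintro rfl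
    exact ha (map_zero _)
  obtain ⟨z, hz1, hz2⟩ := exists_both_ne Qf hnd a x' ha0 hx'0
  have hzx' : polar Qf z x' ≠ 0 := by rwa [polar_comm]
  -- the singular vector `z'`
  set z' : Fin n → F := z - (Qf z / polar Qf z x') • x' with hz'
  have hQz' : Qf z' = 0 := by
    rw [hz', Q_sub, Q_smul, hx', polar_smul_right, smul_eq_mul]
    field_simp
    ring
  have haz' : polar Qf a z' = polar Qf a z := by
    rw [hz', polar_sub_right, polar_smul_right, hax', smul_zero, sub_zero]
  have hx'z' : polar Qf x' z' = polar Qf x' z := by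
    rw [hz', polar_sub_right, polar_smul_right, pself, hx', mul_zero, smul_zero, sub_zero]
  -- rescale
  set x : Fin n → F := (Qf a / polar Qf a z') • z' with hxdef
  have hQx : Qf x = 0 := by rw [hxdef, Q_smul, hQz', mul_zero]
  have hax : polar Qf a x = Qf a := by
    rw [hxdef, polar_smul_right, smul_eq_mul, haz']
    field_simp
  have hx'x : polar Qf x' x ≠ 0 := by
    rw [hxdef, polar_smul_right, smul_eq_mul, hx'z', haz']
    exact mul_ne_zero (div_ne_zero ha hz1) hz2
  -- the centre `c = 2x - a`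
  have hb := step_2b Qf h2 hS a x ha hQx hax
  have hx'c : polar Qf x' ((2 : F) • x - a) = 2 * polar Qf x' x := by
    rw [polar_sub_right, polar_smul_right, smul_eq_mul, polar_comm Qf x' a, hax', sub_zero]
  have hc0 : polar Qf x' ((2 : F) • x - a) ≠ 0 := by
    rw [hx'c]
    exact mul_ne_zero h2 hx'x
  have hcomm := TM_comm (hS x' hx'0 hx' (polar Qf x' ((2 : F) • x - a))⁻¹) hb
    (by rw [bL_apply]; exact hax')
  refine TM_of_eq (fun v => ?_) hcomm
  rw [LinearMap.smul_apply, bL_apply, polar_smul_left, smul_eq_mul, smul_eq_mul, inv_mul_cancel₀ hc0, one_mul]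

end Cfsg.Agent.Lib.Helper19.SL6OLeaf
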