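import Mathlib
import Cfsg.Agent.Lib.Helper1.LowDimO

/-!
S5798 (sl6, owner helper24), block (O) = C8 orthogonal (sub-planner helper22), leaf O-C `eichler_comm` (helper19): the commutator of two
Eichler elements at a common singular point is a transvection.  By-products: `polar_comb`, `eichler_inv` (the inverse of an Eichler element).
-/

set_option autoImplicit false
set_option linter.unusedSectionVars false
set_option linter.unusedVariables false
set_option linter.unusedSimpArgs false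

noncomputable section

namespace Cfsg.Agent.Lib.Helper19.SL6OLeaf
open Cfsg Matrix QuadraticMap Module Cfsg.Agent.Lib.Helper5 Cfsg.Agent.Lib.Helper5.SpMax
  Cfsg.Agent.Lib.Helper5.TMCalc Cfsg.Agent.Lib.Helper5.OSL Cfsg.Agent.S5644.S5644aux

variable {F : Type*} [Field F] {n : ℕ}
variable (Qf : QuadraticForm F (Fin n → F))

/-- the polar form of a combination `z + α x + β v` against `w` -/
lemma polar_comb (z x v w : Fin n → F) (α β : F) :
    polar Qf (z + α • x + β • v) w = polar Qf z w + α * polar Qf x w + β * polar Qf v w := by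
  rw [polar_add_left, polar_add_left, polar_smul_left, polar_smul_left, smul_eq_mul, smul_eq_mul]

/-- the inverse of an Eichler element -/
lemma eichler_inv (x v : Fin n → F) (hx : Qf x = 0) (hvx : polar Qf v x = 0) (e : GL (Fin n) F)
    (he : ∀ z, (e : Matrix (Fin n) (Fin n) F) *ᵥ z =
      z + polar Qf z v • x - polar Qf z x • v - (Qf v * polar Qf z x) • x) (z : Fin n → F) :
    ((e⁻¹ : GL (Fin n) F) : Matrix (Fin n) (Fin n) F) *ᵥ z =
      z - polar Qf z v • x + polar Qf z x • v - (Qf v * polar Qf z x) • x := by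
  have hxx : polar Qf x x = 0 := by rw [polar_self, hx, smul_zero]
  have hxv : polar Qf x v = 0 := by rw [polar_comm]; exact hvx
  have hvv : polar Qf v v = 2 * Qf v := by rw [polar_self, two_nsmul, two_mul]
  set w : Fin n → F := z - polar Qf z v • x + polar Qf z x • v - (Qf v * polar Qf z x) • x with hw
  have hw' : w = z + (-(polar Qf z v) - Qf v * polar Qf z x) • x + polar Qf z x • v := by
    rw [hw]; module
  have h1 : polar Qf w x = polar Qf z x := by
    rw [hw', polar_comb, hxx, hvx]; ring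
  have h2 : polar Qf w v = polar Qf z v + 2 * Qf v * polar Qf z x := by
    rw [hw', polar_comb, hxv, hvv]; ring
  have h3 : (e : Matrix (Fin n) (Fin n) F) *ᵥ w = z := by
    rw [he, h1, h2, hw]
    module
  rw [← h3, Matrix.mulVec_mulVec, ← Units.val_mul, inv_mul_cancel, Units.val_one, Matrix.one_mulVec]

/-- LEAF O-C: the commutator identity -/
theorem eichler_comm (Q₁ Q₂ : QuadraticForm F (Fin n → F)) (x v v' : Fin n → F)
    (hx₁ : Q₁ x = 0) (hx₂ : Q₂ x = 0)
    (h1 : polar Q₁ v x = 0) (h2 : polar Q₂ v x = 0)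
    (h3 : polar Q₁ v' x = 0) (h4 : polar Q₂ v' x = 0)
    (e e' : GL (Fin n) F)
    (he : ∀ z, (e : Matrix (Fin n) (Fin n) F) *ᵥ z =
      z + polar Q₁ z v • x - polar Q₁ z x • v - (Q₁ v * polar Q₁ z x) • x)
    (he' : ∀ z, (e' : Matrix (Fin n) (Fin n) F) *ᵥ z =
      z + polar Q₂ z v' • x - polar Q₂ z x • v' - (Q₂ v' * polar Q₂ z x) • x)
    (z : Fin n → F) :
    ((e * e' * e⁻¹ * e'⁻¹ : GL (Fin n) F) : Matrix (Fin n) (Fin n) F) *ᵥ z =
      z + (polar Q₂ v v' * polar Q₁ z x - polar Q₁ v v' * polar Q₂ z x) • x := by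
  -- the vanishing values
  have hxx₁ : polar Q₁ x x = 0 := by rw [polar_self, hx₁, smul_zero]
  have hxx₂ : polar Q₂ x x = 0 := by rw [polar_self, hx₂, smul_zero]
  have hxv₁ : polar Q₁ x v = 0 := by rw [polar_comm]; exact h1
  have hxv'₂ : polar Q₂ x v' = 0 := by rw [polar_comm]; exact h4
  have hvv₁ : polar Q₁ v v = 2 * Q₁ v := by rw [polar_self, two_nsmul, two_mul]
  have hvv₂ : polar Q₂ v' v' = 2 * Q₂ v' := by rw [polar_self, two_nsmul, two_mul]
  have hv'v₁ : polar Q₁ v' v = polar Q₁ v v' := polar_comm _ _ _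
  -- step 1: `z₁ = e'⁻¹ z`
  set z₁ : Fin n → F := z + (-(polar Q₂ z v') - Q₂ v' * polar Q₂ z x) • x + polar Q₂ z x • v' with hz₁
  have e1 : ((e'⁻¹ : GL (Fin n) F) : Matrix (Fin n) (Fin n) F) *ᵥ z = z₁ := by
    rw [eichler_inv Q₂ x v' hx₂ h4 e' he', hz₁]; module
  have a1 : polar Q₁ z₁ x = polar Q₁ z x := by
    rw [hz₁, polar_comb, hxx₁, h3]; ring
  have b1 : polar Q₁ z₁ v = polar Q₁ z v + polar Q₂ z x * polar Q₁ v v' := by
    rw [hz₁, polar_comb, hxv₁, hv'v₁]; ring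
  have c1 : polar Q₂ z₁ x = polar Q₂ z x := by
    rw [hz₁, polar_comb, hxx₂, h4]; ring
  have d1 : polar Q₂ z₁ v' = polar Q₂ z v' + 2 * Q₂ v' * polar Q₂ z x := by
    rw [hz₁, polar_comb, hxv'₂, hvv₂]; ring
  -- step 2: `z₂ = e⁻¹ z₁`
  set z₂ : Fin n → F := z₁ + (-(polar Q₁ z₁ v) - Q₁ v * polar Q₁ z₁ x) • x + polar Q₁ z₁ x • v with hz₂
  have e2 : ((e⁻¹ : GL (Fin n) F) : Matrix (Fin n) (Fin n) F) *ᵥ z₁ = z₂ := by
    rw [eichler_inv Q₁ x v hx₁ h1 e he, hz₂]; module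
  have c2 : polar Q₂ z₂ x = polar Q₂ z x := by
    rw [hz₂, polar_comb, hxx₂, h2, c1]; ring
  have d2 : polar Q₂ z₂ v' = polar Q₂ z v' + 2 * Q₂ v' * polar Q₂ z x + polar Q₁ z x * polar Q₂ v v' := by
    rw [hz₂, polar_comb, hxv'₂, d1, a1]; ring
  have a2 : polar Q₁ z₂ x = polar Q₁ z x := by
    rw [hz₂, polar_comb, hxx₁, h1, a1]; ring
  have b2 : polar Q₁ z₂ v = polar Q₁ z v + polar Q₂ z x * polar Q₁ v v' + 2 * Q₁ v * polar Q₁ z x := by
    rw [hz₂, polar_comb, hxv₁, hvv₁, b1, a1]; ring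
  -- step 3: `z₃ = e' z₂`
  set z₃ : Fin n → F := z₂ + (polar Q₂ z₂ v' - Q₂ v' * polar Q₂ z₂ x) • x + (-(polar Q₂ z₂ x)) • v' with hz₃
  have e3 : (e' : Matrix (Fin n) (Fin n) F) *ᵥ z₂ = z₃ := by
    rw [he', hz₃]; module
  have a3 : polar Q₁ z₃ x = polar Q₁ z x := by
    rw [hz₃, polar_comb, hxx₁, h3, a2]; ring
  have b3 : polar Q₁ z₃ v = polar Q₁ z v + 2 * Q₁ v * polar Q₁ z x := by
    rw [hz₃, polar_comb, hxv₁, hv'v₁, b2, c2]; ring
  -- step 4
  have e4 : ((e * e' * e⁻¹ * e'⁻¹ : GL (Fin n) F) : Matrix (Fin n) (Fin n) F) *ᵥ z =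
      (e : Matrix (Fin n) (Fin n) F) *ᵥ z₃ := by
    rw [Units.val_mul, Units.val_mul, Units.val_mul, ← Matrix.mulVec_mulVec, ← Matrix.mulVec_mulVec,
      ← Matrix.mulVec_mulVec, e1, e2, e3]
  rw [e4, he, a3, b3, hz₃, c2, d2, hz₂, a1, b1, hz₁]
  module

end Cfsg.Agent.Lib.Helper19.SL6OLeaf
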