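/-
Helper19 library: `3 × 3` matrices over the concrete field `F4` (helper28's model) coded as natural numbers with nine
digits in base 4; product, conjugate transpose and determinant on the codes, and the elements of `SU_3(2)` they give.
-/
import Mathlib
import Cfsg.Agent.Lib.Helper3.J1.EncN
import Cfsg.Agent.Lib.Helper28.U6F4
import Cfsg.Agent.Lib.Helper14.Unitary3

set_option autoImplicit false

namespace Cfsg.Agent.Lib.Helper19.SU32

open Cfsg.Agent.Lib.Helper3.J1 Cfsg.Agent.Lib.Helper28.U6F4 Cfsg.Agent.Lib.Helper14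

/-- `3 × 3` matrices over `F4`. -/
abbrev M3 : Type := Matrix (Fin 3) (Fin 3) F4

/-- the `c`-th digit in base 4. -/
def dq (x c : ℕ) : ℕ := x / 4 ^ c % 4

theorem dq_lt (x c : ℕ) : dq x c < 4 := Nat.mod_lt _ (by norm_num)

/-- an entry of the product. -/
def ent3 (a b i j : ℕ) : ℕ :=
  mul4 (dq a (3 * i)) (dq b j) ^^^ mul4 (dq a (3 * i + 1)) (dq b (3 + j)) ^^^
    mul4 (dq a (3 * i + 2)) (dq b (6 + j))

/-- the entries of the product. -/
def entL3 (a b : ℕ) : List ℕ :=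
  [ent3 a b 0 0, ent3 a b 0 1, ent3 a b 0 2, ent3 a b 1 0, ent3 a b 1 1, ent3 a b 1 2,
   ent3 a b 2 0, ent3 a b 2 1, ent3 a b 2 2]

/-- product of the codes. -/
def mul3 (a b : ℕ) : ℕ := horner 4 (entL3 a b)

/-- decoding. -/
def dec3 (a : ℕ) : M3 := Matrix.of fun i j => toF4 (dq a (3 * i.val + j.val))

theorem dec3_apply (a : ℕ) (i j : Fin 3) : dec3 a i j = toF4 (dq a (3 * i.val + j.val)) := rfl

theorem ent3_spec (a b i j : ℕ) :
    toF4 (ent3 a b i j) = toF4 (dq a (3 * i)) * toF4 (dq b j) +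
      toF4 (dq a (3 * i + 1)) * toF4 (dq b (3 + j)) + toF4 (dq a (3 * i + 2)) * toF4 (dq b (6 + j)) ∧
      ent3 a b i j < 4 := by
  obtain ⟨m0, l0⟩ := toF4_mul4' _ _ (dq_lt a (3 * i)) (dq_lt b j)
  obtain ⟨m1, l1⟩ := toF4_mul4' _ _ (dq_lt a (3 * i + 1)) (dq_lt b (3 + j))
  obtain ⟨m2, l2⟩ := toF4_mul4' _ _ (dq_lt a (3 * i + 2)) (dq_lt b (6 + j))
  obtain ⟨x1, k1⟩ := toF4_xor' _ _ l0 l1
  obtain ⟨x2, k2⟩ := toF4_xor' _ _ k1 l2
  refine ⟨?_, k2⟩
  unfold ent3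
  rw [x2, x1, m0, m1, m2]

theorem dq_mul3 (a b c : ℕ) : dq (mul3 a b) c = (entL3 a b).getD c 0 := by
  unfold dq mul3
  apply horner_digit 4 (by norm_num)
  intro x hx
  simp only [entL3, List.mem_cons, List.not_mem_nil, or_false] at hx
  rcases hx with rfl | rfl | rfl | rfl | rfl | rfl | rfl | rfl | rfl <;> exact (ent3_spec _ _ _ _).2

theorem entL3_getD (a b : ℕ) (i j : Fin 3) :
    (entL3 a b).getD (3 * i.val + j.val) 0 = ent3 a b i.val j.val := by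
  fin_cases i <;> fin_cases j <;> rfl

theorem dec3_mul3 (a b : ℕ) : dec3 (mul3 a b) = dec3 a * dec3 b := by
  ext i j
  rw [Matrix.mul_apply, Fin.sum_univ_three]
  simp only [dec3, Matrix.of_apply]
  rw [dq_mul3, entL3_getD, (ent3_spec a b i.val j.val).1]
  simp only [Fin.val_zero, Fin.val_one, Fin.val_two, mul_zero, zero_add, add_zero, mul_one]

/-- the code of the identity. -/
def ONE3 : ℕ := 1 + 4 ^ 4 + 4 ^ 8

theorem dec3_one : dec3 ONE3 = 1 := by decide +kernel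

/-- powers of a code. -/
def pow3 (a : ℕ) : ℕ → ℕ
  | 0 => ONE3
  | n + 1 => mul3 (pow3 a n) a

theorem dec3_pow3 (a : ℕ) : ∀ n : ℕ, dec3 (pow3 a n) = dec3 a ^ n
  | 0 => by rw [pow_zero]; exact dec3_one
  | n + 1 => by rw [pow_succ, ← dec3_pow3 a n, ← dec3_mul3]; rfl

/-- the square of a digit. -/
def sq4 (a : ℕ) : ℕ := mul4 a a

theorem sq4_spec (a : ℕ) (ha : a < 4) : toF4 (sq4 a) = toF4 a ^ 2 ∧ sq4 a < 4 := by
  obtain ⟨m0, l0⟩ := toF4_mul4' a a ha ha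
  exact ⟨by rw [pow_two]; exact m0, l0⟩

/-- the entries of the conjugate transpose. -/
def ctL3 (a : ℕ) : List ℕ :=
  [sq4 (dq a 0), sq4 (dq a 3), sq4 (dq a 6), sq4 (dq a 1), sq4 (dq a 4), sq4 (dq a 7),
   sq4 (dq a 2), sq4 (dq a 5), sq4 (dq a 8)]

/-- the code of the conjugate transpose. -/
def ct3 (a : ℕ) : ℕ := horner 4 (ctL3 a)

theorem dq_ct3 (a c : ℕ) : dq (ct3 a) c = (ctL3 a).getD c 0 := by
  unfold dq ct3
  apply horner_digit 4 (by norm_num)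
  intro x hx
  simp only [ctL3, List.mem_cons, List.not_mem_nil, or_false] at hx
  rcases hx with rfl | rfl | rfl | rfl | rfl | rfl | rfl | rfl | rfl <;>
    exact (sq4_spec _ (dq_lt _ _)).2

theorem ctL3_getD (a : ℕ) (i j : Fin 3) :
    (ctL3 a).getD (3 * i.val + j.val) 0 = sq4 (dq a (3 * j.val + i.val)) := by
  fin_cases i <;> fin_cases j <;> rfl

theorem dec3_ct3 (a : ℕ) : dec3 (ct3 a) = ((dec3 a).map (fun x => x ^ 2)).transpose := by
  ext i j
  rw [Matrix.transpose_apply, Matrix.map_apply, dec3_apply, dec3_apply, dq_ct3, ctL3_getD,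
    (sq4_spec _ (dq_lt _ _)).1]

/-- the determinant on the codes. -/
def det3 (a : ℕ) : ℕ :=
  mul4 (mul4 (dq a 0) (dq a 4)) (dq a 8) ^^^ mul4 (mul4 (dq a 0) (dq a 5)) (dq a 7) ^^^
    mul4 (mul4 (dq a 1) (dq a 3)) (dq a 8) ^^^ mul4 (mul4 (dq a 1) (dq a 5)) (dq a 6) ^^^
    mul4 (mul4 (dq a 2) (dq a 3)) (dq a 7) ^^^ mul4 (mul4 (dq a 2) (dq a 4)) (dq a 6)

theorem sub_eq_add4 : ∀ a b : F4, a - b = a + b := by decide

theorem mul4_three (x y z : ℕ) (hx : x < 4) (hy : y < 4) (hz : z < 4) :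
    toF4 (mul4 (mul4 x y) z) = toF4 x * toF4 y * toF4 z ∧ mul4 (mul4 x y) z < 4 := by
  obtain ⟨m0, l0⟩ := toF4_mul4' x y hx hy
  obtain ⟨m1, l1⟩ := toF4_mul4' _ z l0 hz
  exact ⟨by rw [m1, m0], l1⟩

theorem det_dec3 (a : ℕ) : (dec3 a).det = toF4 (det3 a) := by
  obtain ⟨m0, l0⟩ := mul4_three _ _ _ (dq_lt a 0) (dq_lt a 4) (dq_lt a 8)
  obtain ⟨m1, l1⟩ := mul4_three _ _ _ (dq_lt a 0) (dq_lt a 5) (dq_lt a 7)
  obtain ⟨m2, l2⟩ := mul4_three _ _ _ (dq_lt a 1) (dq_lt a 3) (dq_lt a 8)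
  obtain ⟨m3, l3⟩ := mul4_three _ _ _ (dq_lt a 1) (dq_lt a 5) (dq_lt a 6)
  obtain ⟨m4, l4⟩ := mul4_three _ _ _ (dq_lt a 2) (dq_lt a 3) (dq_lt a 7)
  obtain ⟨m5, l5⟩ := mul4_three _ _ _ (dq_lt a 2) (dq_lt a 4) (dq_lt a 6)
  obtain ⟨x1, k1⟩ := toF4_xor' _ _ l0 l1
  obtain ⟨x2, k2⟩ := toF4_xor' _ _ k1 l2
  obtain ⟨x3, k3⟩ := toF4_xor' _ _ k2 l3
  obtain ⟨x4, k4⟩ := toF4_xor' _ _ k3 l4
  obtain ⟨x5, _⟩ := toF4_xor' _ _ k4 l5
  unfold det3
  rw [x5, x4, x3, x2, x1, m0, m1, m2, m3, m4, m5, Matrix.det_fin_three]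
  simp only [sub_eq_add4, dec3_apply]
  rfl

theorem card_F4' : Fintype.card F4 = 2 ^ 2 := by rw [card_F4]; norm_num

/-- a code whose conjugate transpose is its left inverse is the code of a unitary matrix. -/
theorem isUni_dec3 (a : ℕ) (h : mul3 (ct3 a) a = ONE3) : IsUni F4 2 3 (dec3 a) := by
  have h1 : ((dec3 a).map (fun x => x ^ 2)).transpose * dec3 a = 1 := by
    rw [← dec3_ct3, ← dec3_mul3, h, dec3_one]
  have h2 : (dec3 a).transpose * (dec3 a).map (fun x => x ^ 2) = 1 := by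
    have := congrArg Matrix.transpose h1
    rwa [Matrix.transpose_mul, Matrix.transpose_transpose, Matrix.transpose_one] at this
  have hM : OrthoN F4 2 3 3 (fun j i => dec3 a i j) := by
    intro j l
    have := congrFun (congrFun h2 j) l
    rw [Matrix.mul_apply, Matrix.one_apply] at this
    unfold Cfsg.hermForm
    rw [← this]
    rfl
  exact hermForm_mulVec_of_orthoN card_F4' (dec3 a) hM

/-- the special unitary group `SU_3(2)` over the concrete `F4`. -/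
abbrev G : Type := ↥(Cfsg.SU 3 F4 2)

/-- the element of `SU_3(2)` with a given code. -/
def ofCode (a : ℕ) (h1 : mul3 (ct3 a) a = ONE3) (h2 : det3 a = 1) : G :=
  ⟨⟨dec3 a, by rw [det_dec3, h2]; rfl⟩, (mem_SU_iff _).mpr (isUni_dec3 a h1)⟩

/-- the matrix of an element. -/
def mat : G →* M3 := (Cfsg.slToMat 3 F4).comp (Cfsg.SU 3 F4 2).subtype

theorem mat_apply (g : G) : mat g = (g.1 : M3) := rfl

theorem mat_injective : Function.Injective mat := fun _ _ e => Subtype.ext (Subtype.ext e)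

theorem mat_ofCode (a : ℕ) (h1 : mul3 (ct3 a) a = ONE3) (h2 : det3 a = 1) :
    mat (ofCode a h1 h2) = dec3 a := rfl

/-- the conjugate transpose of a code of `g` is a code of `g⁻¹`. -/
theorem mat_inv_of_code (g : G) (c : ℕ) (h1 : mul3 (ct3 c) c = ONE3) (ec : dec3 c = mat g) :
    dec3 (ct3 c) = mat g⁻¹ := by
  have e : dec3 (ct3 c) * mat g = 1 := by rw [← ec, ← dec3_mul3, h1, dec3_one]
  calc dec3 (ct3 c) = dec3 (ct3 c) * (mat g * mat g⁻¹) := by
        rw [← map_mul, mul_inv_cancel, map_one, mul_one]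
    _ = (dec3 (ct3 c) * mat g) * mat g⁻¹ := (Matrix.mul_assoc _ _ _).symm
    _ = mat g⁻¹ := by rw [e, one_mul]

theorem card_G : Nat.card G = 216 := by
  have h1 := card_SU_mul card_F4' 3 (by norm_num)
  rw [card_GU card_F4' 3] at h1
  have h2 : (2 : ℕ) ^ (3 * (3 - 1) / 2) *
      ∏ i ∈ Finset.range 3, (if Even i then 2 ^ (i + 1) + 1 else 2 ^ (i + 1) - 1) = 3 * 216 := by
    decide
  rw [h2] at h1
  exact Nat.eq_of_mul_eq_mul_left (by norm_num) h1

end Cfsg.Agent.Lib.Helper19.SU32
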