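/-
Helper19 library: the codes of the 216 elements of `SU_3(2)` and of its 54 monomial elements, and the kernel
computations on them.
-/
import Mathlib
import Cfsg.Agent.Lib.Helper19.SU32Enc

set_option autoImplicit false
set_option maxRecDepth 100000

namespace Cfsg.Agent.Lib.Helper19.SU32

/-- the codes of the elements of `SU_3(2)`. -/
def L216 : List ℕ := [
  4368, 4656, 4896, 5124, 6156, 7176, 8496, 8736, 8976, 9228, 10248, 11268,
  12576, 12816, 13104, 13320, 14340, 15372, 16464, 16560, 16608, 17409, 18435, 19458,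
  32880, 32928, 32976, 33795, 34818, 35841, 49248, 49296, 49392, 50178, 51201, 52227,
  65604, 65676, 65736, 65793, 66051, 66306, 87774, 87963, 88566, 88953, 89511, 89709,
  91770, 92151, 92526, 93093, 93663, 93849, 95910, 96111, 96666, 97245, 97659, 98037,
  103866, 104445, 104811, 105189, 106134, 106335, 108006, 108393, 108951, 109149, 110334, 110523,
  111966, 112533, 113151, 113337, 114282, 114663, 120303, 120489, 121434, 121815, 122238, 122805,
  124251, 124629, 125622, 125823, 126378, 126957, 128439, 128637, 129774, 129963, 130518, 130905,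
  131148, 131208, 131268, 131331, 131586, 131841, 153006, 153195, 154329, 154518, 155133, 155511,
  157146, 157335, 158325, 158718, 159081, 159663, 161142, 161535, 162477, 162666, 163221, 163803,
  169629, 169818, 170421, 171003, 171366, 171759, 173817, 174006, 174573, 174951, 175518, 175707,
  177765, 178158, 178521, 179103, 179706, 179895, 185721, 186303, 186858, 187047, 187989, 188382,
  189861, 190443, 190806, 191199, 192189, 192378, 194013, 194391, 195006, 195195, 196329, 196518,
  196680, 196740, 196812, 196866, 197121, 197379, 218619, 219006, 219561, 219750, 220887, 221085,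
  222567, 223146, 223701, 223902, 224895, 225273, 226719, 227286, 227709, 228090, 229035, 229221,
  234861, 235242, 236187, 236373, 236991, 237558, 239001, 239190, 240375, 240573, 241131, 241518,
  243189, 243390, 244335, 244713, 245079, 245658, 251487, 251865, 252279, 252858, 253413, 253614,
  255675, 255861, 256431, 256998, 257373, 257754, 259815, 260013, 260571, 260958, 261561, 261750]

/-- the codes of the monomial elements. -/
def L54 : List ℕ := [
  4368, 4656, 4896, 5124, 6156, 7176, 8496, 8736, 8976, 9228, 10248, 11268,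
  12576, 12816, 13104, 13320, 14340, 15372, 16464, 16560, 16608, 17409, 18435, 19458,
  32880, 32928, 32976, 33795, 34818, 35841, 49248, 49296, 49392, 50178, 51201, 52227,
  65604, 65676, 65736, 65793, 66051, 66306, 131148, 131208, 131268, 131331, 131586, 131841,
  196680, 196740, 196812, 196866, 197121, 197379]

/-- the transposition matrix. -/
def cD : ℕ := 65604
/-- the diagonal matrix `diag(ω, ω², 1)`. -/
def cX : ℕ := 66306
/-- the matrix of a 3-cycle. -/
def cY : ℕ := 16464

/-- a word in the generators. -/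
def word54 (i j k l : ℕ) : ℕ :=
  mul3 (pow3 cD i) (mul3 (pow3 cY j) (mul3 (pow3 cX k) (pow3 (mul3 (mul3 cY cX) (mul3 cY cY)) l)))

theorem chk_L216 : ∀ c ∈ L216, mul3 (ct3 c) c = ONE3 ∧ det3 c = 1 := by decide +kernel

theorem length_L216 : L216.length = 216 := by decide +kernel

theorem nodup_L216 : L216.Nodup := by decide +kernel

theorem inj_L216 : ∀ a ∈ L216, ∀ b ∈ L216, dec3 a = dec3 b → a = b := by decide +kernel

theorem length_L54 : L54.length = 54 := by decide +kernel

theorem nodup_L54 : L54.Nodup := by decide +kernel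

theorem sub_L54 : ∀ c ∈ L54, c ∈ L216 := by decide +kernel

theorem one_mem_L54 : ONE3 ∈ L54 := by decide +kernel

theorem mul_L54 : ∀ a ∈ L54, ∀ b ∈ L54, mul3 a b ∈ L54 := by decide +kernel

theorem ct_L54 : ∀ a ∈ L54, ct3 a ∈ L54 := by decide +kernel

theorem conj_L54 : ∀ a ∈ L216, ∀ m ∈ L54, mul3 (mul3 a m) (ct3 a) ∈ L54 := by decide +kernel

theorem word_L54 : ∀ c ∈ L54, ∃ i ∈ List.range 2, ∃ j ∈ List.range 3, ∃ k ∈ List.range 3,
    ∃ l ∈ List.range 3, c = word54 i j k l := by decide +kernel

theorem mem_cD : cD ∈ L54 := by decide +kernel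
theorem mem_cX : cX ∈ L54 := by decide +kernel
theorem mem_cY : cY ∈ L54 := by decide +kernel

/-- the commutator on the codes. -/
def comm3 (a b : ℕ) : ℕ := mul3 (mul3 (mul3 a b) (ct3 a)) (ct3 b)

theorem comm_cY : comm3 4368 16464 = cY ∧ 4368 ∈ L216 ∧ 16464 ∈ L216 := by decide +kernel
theorem comm_cX : comm3 16464 158325 = cX ∧ 16464 ∈ L216 ∧ 158325 ∈ L216 := by decide +kernel
theorem comm_cD : comm3 239001 219561 = cD ∧ 239001 ∈ L216 ∧ 219561 ∈ L216 := by decide +kernel

theorem rel_D2 : mul3 cD cD = ONE3 := by decide +kernel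
theorem rel_X3 : mul3 cX (mul3 cX cX) = ONE3 := by decide +kernel
theorem rel_Y3 : mul3 cY (mul3 cY cY) = ONE3 := by decide +kernel
theorem rel_DX : mul3 (mul3 cD cX) cD = mul3 cX cX := by decide +kernel
theorem rel_DY : mul3 (mul3 cD cY) cD = mul3 cY cY := by decide +kernel
theorem rel_CX : mul3 (mul3 (mul3 (mul3 cX cY) (mul3 cX cX)) (mul3 cY cY)) cX =
    mul3 cX (mul3 (mul3 (mul3 cX cY) (mul3 cX cX)) (mul3 cY cY)) := by decide +kernel
theorem rel_CY : mul3 (mul3 (mul3 (mul3 cX cY) (mul3 cX cX)) (mul3 cY cY)) cY =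
    mul3 cY (mul3 (mul3 (mul3 cX cY) (mul3 cX cX)) (mul3 cY cY)) := by decide +kernel

end Cfsg.Agent.Lib.Helper19.SU32
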