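/-
Helper19 library: the derived subgroup of `SU_3(2)` (over a concrete `F4`) has order 54, explicit generators `d, x, y`
of it with the relations of `3^{1+2} : 2`, and transport to any field with four elements.
-/
import Mathlib
import Cfsg.Agent.Lib.Helper19.SU32Data
import Cfsg.Agent.Lib.Helper19.SUCongr

set_option autoImplicit false

namespace Cfsg.Agent.Lib.Helper19.SU32

open Cfsg.Agent.Lib.Helper3.J1 Cfsg.Agent.Lib.Helper28.U6F4 Cfsg.Agent.Lib.Helper14
open scoped commutatorElement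

/-- the element with a code from the list. -/
def elt (c : ℕ) (hc : c ∈ L216) : G := ofCode c (chk_L216 c hc).1 (chk_L216 c hc).2

theorem mat_elt (c : ℕ) (hc : c ∈ L216) : mat (elt c hc) = dec3 c := rfl

/-- every element of `SU_3(2)` has its code in the list. -/
theorem exists_code (g : G) : ∃ c ∈ L216, dec3 c = mat g := by
  classical
  let f : ↥L216.toFinset → G := fun c => elt c.1 (List.mem_toFinset.mp c.2)
  have hinj : Function.Injective f := by
    intro c c' h
    have h1 : dec3 c.1 = dec3 c'.1 := congrArg mat h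
    exact Subtype.ext (inj_L216 c.1 (List.mem_toFinset.mp c.2) c'.1 (List.mem_toFinset.mp c'.2) h1)
  have hcard : Nat.card G ≤ Nat.card ↥L216.toFinset := by
    rw [card_G, Nat.card_eq_fintype_card, Fintype.card_coe, List.toFinset_card_of_nodup nodup_L216,
      length_L216]
  obtain ⟨c, hc⟩ := (hinj.bijective_of_nat_card_le hcard).2 g
  exact ⟨c.1, List.mem_toFinset.mp c.2, by rw [← hc]; rfl⟩

/-- the monomial subgroup. -/
def Mon : Subgroup G where
  carrier := {g | ∃ c ∈ L54, dec3 c = mat g}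
  one_mem' := ⟨ONE3, one_mem_L54, by rw [dec3_one, map_one]⟩
  mul_mem' := by
    rintro g h ⟨c, hc, ec⟩ ⟨c', hc', ec'⟩
    exact ⟨mul3 c c', mul_L54 c hc c' hc', by rw [dec3_mul3, ec, ec', map_mul]⟩
  inv_mem' := by
    rintro g ⟨c, hc, ec⟩
    exact ⟨ct3 c, ct_L54 c hc, mat_inv_of_code g c (chk_L216 c (sub_L54 c hc)).1 ec⟩

theorem mem_Mon (g : G) : g ∈ Mon ↔ ∃ c ∈ L54, dec3 c = mat g := Iff.rfl

theorem card_Mon : Nat.card Mon = 54 := by
  classical
  let f : ↥L54.toFinset → Mon := fun c =>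
    ⟨elt c.1 (sub_L54 c.1 (List.mem_toFinset.mp c.2)), c.1, List.mem_toFinset.mp c.2, rfl⟩
  have hinj : Function.Injective f := by
    intro c c' h
    have h1 : dec3 c.1 = dec3 c'.1 := congrArg (fun z : Mon => mat z.1) h
    exact Subtype.ext (inj_L216 c.1 (sub_L54 c.1 (List.mem_toFinset.mp c.2)) c'.1
      (sub_L54 c'.1 (List.mem_toFinset.mp c'.2)) h1)
  have hsurj : Function.Surjective f := by
    rintro ⟨g, c, hc, ec⟩
    refine ⟨⟨c, List.mem_toFinset.mpr hc⟩, ?_⟩
    apply Subtype.ext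
    apply mat_injective
    exact ec
  rw [← Nat.card_congr (Equiv.ofBijective f ⟨hinj, hsurj⟩), Nat.card_eq_fintype_card,
    Fintype.card_coe, List.toFinset_card_of_nodup nodup_L54, length_L54]

instance normal_Mon : Mon.Normal := ⟨by
  rintro n ⟨c, hc, ec⟩ g
  obtain ⟨a, ha, ea⟩ := exists_code g
  refine ⟨mul3 (mul3 a c) (ct3 a), conj_L54 a ha c hc, ?_⟩
  rw [dec3_mul3, dec3_mul3, ea, ec, mat_inv_of_code g a (chk_L216 a ha).1 ea, map_mul, map_mul]⟩

theorem commutator_le_Mon : commutator G ≤ Mon := by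
  have h1 : Mon.index * Nat.card Mon = Nat.card G := Subgroup.index_mul_card Mon
  rw [card_Mon, card_G] at h1
  have h2 : Nat.card (G ⧸ Mon) = 2 ^ 2 := by
    rw [← Subgroup.index_eq_card]
    omega
  haveI : Fact (Nat.Prime 2) := ⟨Nat.prime_two⟩
  exact Subgroup.Normal.quotient_commutative_iff_commutator_le.mp
    (IsPGroup.isMulCommutative_of_card_eq_prime_sq h2)

/-- the transposition matrix as an element of `SU_3(2)`. -/
def gD : G := elt cD (sub_L54 cD mem_cD)
/-- the diagonal matrix `diag(ω, ω², 1)` as an element of `SU_3(2)`. -/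
def gX : G := elt cX (sub_L54 cX mem_cX)
/-- the matrix of a 3-cycle as an element of `SU_3(2)`. -/
def gY : G := elt cY (sub_L54 cY mem_cY)

theorem mat_gD : mat gD = dec3 cD := rfl
theorem mat_gX : mat gX = dec3 cX := rfl
theorem mat_gY : mat gY = dec3 cY := rfl

theorem elt_comm_mem (a b c : ℕ) (ha : a ∈ L216) (hb : b ∈ L216) (hc : c ∈ L216)
    (h : comm3 a b = c) : elt c hc ∈ commutator G := by
  have e : elt c hc = ⁅elt a ha, elt b hb⁆ := by
    apply mat_injective
    rw [commutatorElement_def, map_mul, map_mul, map_mul, mat_elt, mat_elt, mat_elt,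
      ← mat_inv_of_code (elt a ha) a (chk_L216 a ha).1 rfl,
      ← mat_inv_of_code (elt b hb) b (chk_L216 b hb).1 rfl, ← dec3_mul3, ← dec3_mul3, ← dec3_mul3,
      ← h]
    rfl
  rw [e, commutator_def]
  exact Subgroup.commutator_mem_commutator (Subgroup.mem_top _) (Subgroup.mem_top _)

theorem gD_mem : gD ∈ commutator G :=
  elt_comm_mem 239001 219561 cD comm_cD.2.1 comm_cD.2.2 _ comm_cD.1

theorem gX_mem : gX ∈ commutator G :=
  elt_comm_mem 16464 158325 cX comm_cX.2.1 comm_cX.2.2 _ comm_cX.1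

theorem gY_mem : gY ∈ commutator G :=
  elt_comm_mem 4368 16464 cY comm_cY.2.1 comm_cY.2.2 _ comm_cY.1

/-- every monomial element is a word in the three generators. -/
theorem exists_word (g : G) (hg : g ∈ Mon) : ∃ i j k l : ℕ,
    g = gD ^ i * (gY ^ j * (gX ^ k * (gY * gX * (gY * gY)) ^ l)) := by
  obtain ⟨c, hc, ec⟩ := hg
  obtain ⟨i, _, j, _, k, _, l, _, h⟩ := word_L54 c hc
  refine ⟨i, j, k, l, ?_⟩
  apply mat_injective
  rw [← ec, h]
  simp only [map_mul, map_pow, mat_gD, mat_gX, mat_gY, word54, dec3_mul3, dec3_pow3]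

theorem Mon_le_commutator : Mon ≤ commutator G := by
  intro g hg
  obtain ⟨i, j, k, l, rfl⟩ := exists_word g hg
  have hD := gD_mem
  have hX := gX_mem
  have hY := gY_mem
  exact mul_mem (pow_mem hD i) (mul_mem (pow_mem hY j) (mul_mem (pow_mem hX k)
    (pow_mem (mul_mem (mul_mem hY hX) (mul_mem hY hY)) l)))

theorem commutator_eq_Mon : commutator G = Mon := le_antisymm commutator_le_Mon Mon_le_commutator

/-- (A1) the derived subgroup of `SU_3(2)` has order 54. -/
theorem card_commutator_SU32 : Nat.card (commutator (Cfsg.SU 3 F4 2)) = 54 := by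
  have h : commutator G = Mon := commutator_eq_Mon
  rw [h]
  exact card_Mon

theorem gD_sq : gD * gD = 1 := by
  apply mat_injective
  rw [map_mul, map_one, mat_gD, ← dec3_mul3, rel_D2, dec3_one]

theorem gX_cube : gX * (gX * gX) = 1 := by
  apply mat_injective
  rw [map_mul, map_mul, map_one, mat_gX, ← dec3_mul3, ← dec3_mul3, rel_X3, dec3_one]

theorem gY_cube : gY * (gY * gY) = 1 := by
  apply mat_injective
  rw [map_mul, map_mul, map_one, mat_gY, ← dec3_mul3, ← dec3_mul3, rel_Y3, dec3_one]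

theorem gD_inv : gD⁻¹ = gD := inv_eq_of_mul_eq_one_right gD_sq
theorem gX_inv : gX⁻¹ = gX * gX := inv_eq_of_mul_eq_one_right gX_cube
theorem gY_inv : gY⁻¹ = gY * gY := inv_eq_of_mul_eq_one_right gY_cube

theorem gD_gX : gD * gX * gD = gX * gX := by
  apply mat_injective
  simp only [map_mul, mat_gD, mat_gX, ← dec3_mul3]
  rw [rel_DX]

theorem gD_gY : gD * gY * gD = gY * gY := by
  apply mat_injective
  simp only [map_mul, mat_gD, mat_gY, ← dec3_mul3]
  rw [rel_DY]

theorem comm_gX : gX * gY * (gX * gX) * (gY * gY) * gX = gX * (gX * gY * (gX * gX) * (gY * gY)) := by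
  apply mat_injective
  simp only [map_mul, mat_gX, mat_gY, ← dec3_mul3]
  rw [rel_CX]

theorem comm_gY : gX * gY * (gX * gX) * (gY * gY) * gY = gY * (gX * gY * (gX * gX) * (gY * gY)) := by
  apply mat_injective
  simp only [map_mul, mat_gX, mat_gY, ← dec3_mul3]
  rw [rel_CY]

/-- (A2) generators and relations of the derived subgroup of `SU_3(2)`. -/
theorem exists_gens_commutator_SU32 : ∃ d x y : (commutator (Cfsg.SU 3 F4 2)),
    d ^ 2 = 1 ∧ x ^ 3 = 1 ∧ y ^ 3 = 1 ∧ d * x * d⁻¹ = x⁻¹ ∧ d * y * d⁻¹ = y⁻¹ ∧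
      Commute ⁅x, y⁆ x ∧ Commute ⁅x, y⁆ y ∧
      Subgroup.closure {d, x, y} = ⊤ := by
  refine ⟨⟨gD, gD_mem⟩, ⟨gX, gX_mem⟩, ⟨gY, gY_mem⟩, ?_, ?_, ?_, ?_, ?_, ?_, ?_, ?_⟩
  · apply Subtype.ext
    show gD ^ 2 = 1
    rw [pow_two, gD_sq]
  · apply Subtype.ext
    show gX ^ 3 = 1
    rw [pow_succ, pow_two, mul_assoc, gX_cube]
  · apply Subtype.ext
    show gY ^ 3 = 1
    rw [pow_succ, pow_two, mul_assoc, gY_cube]
  · apply Subtype.ext
    show gD * gX * gD⁻¹ = gX⁻¹
    rw [gD_inv, gX_inv, gD_gX]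
  · apply Subtype.ext
    show gD * gY * gD⁻¹ = gY⁻¹
    rw [gD_inv, gY_inv, gD_gY]
  · apply Subtype.ext
    show gX * gY * gX⁻¹ * gY⁻¹ * gX = gX * (gX * gY * gX⁻¹ * gY⁻¹)
    rw [gX_inv, gY_inv, comm_gX]
  · apply Subtype.ext
    show gX * gY * gX⁻¹ * gY⁻¹ * gY = gY * (gX * gY * gX⁻¹ * gY⁻¹)
    rw [gX_inv, gY_inv, comm_gY]
  · rw [eq_top_iff]
    rintro ⟨g, hg⟩ -
    obtain ⟨i, j, k, l, h⟩ := exists_word g (commutator_le_Mon hg)
    have hd : (⟨gD, gD_mem⟩ : commutator G) ∈ Subgroup.closure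
        {(⟨gD, gD_mem⟩ : commutator G), ⟨gX, gX_mem⟩, ⟨gY, gY_mem⟩} :=
      Subgroup.subset_closure (by simp)
    have hx : (⟨gX, gX_mem⟩ : commutator G) ∈ Subgroup.closure
        {(⟨gD, gD_mem⟩ : commutator G), ⟨gX, gX_mem⟩, ⟨gY, gY_mem⟩} :=
      Subgroup.subset_closure (by simp)
    have hy : (⟨gY, gY_mem⟩ : commutator G) ∈ Subgroup.closure
        {(⟨gD, gD_mem⟩ : commutator G), ⟨gX, gX_mem⟩, ⟨gY, gY_mem⟩} :=
      Subgroup.subset_closure (by simp)
    have e : (⟨g, hg⟩ : commutator G) = (⟨gD, gD_mem⟩ : commutator G) ^ i *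
        ((⟨gY, gY_mem⟩ : commutator G) ^ j * ((⟨gX, gX_mem⟩ : commutator G) ^ k *
          ((⟨gY, gY_mem⟩ : commutator G) * ⟨gX, gX_mem⟩ * (⟨gY, gY_mem⟩ * ⟨gY, gY_mem⟩)) ^ l)) := by
      apply Subtype.ext
      exact h
    rw [e]
    exact mul_mem (pow_mem hd i) (mul_mem (pow_mem hy j) (mul_mem (pow_mem hx k)
      (pow_mem (mul_mem (mul_mem hy hx) (mul_mem hy hy)) l)))

section transport

variable {A B : Type*} [Group A] [Group B]

/-- an isomorphism of groups carries the derived subgroup to the derived subgroup. -/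
noncomputable def commutatorCongr (e : A ≃* B) : commutator A ≃* commutator B :=
  (e.subgroupMap (commutator A)).trans (MulEquiv.subgroupCongr (by
    rw [commutator_def, Subgroup.map_commutator,
      Subgroup.map_top_of_surjective (e : A →* B) e.surjective, ← commutator_def]))

end transport

/-- (A3) transport to any field with four elements. -/
theorem commutator_SU32_transport (F : Type) [Field F] [Fintype F] (hF : Fintype.card F = 4) :
    Nonempty ((commutator (Cfsg.SU 3 F 2)) ≃* (commutator (Cfsg.SU 3 F4 2))) := by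
  have φ : F ≃+* F4 := FiniteField.ringEquivOfCardEq (by rw [hF, card_F4])
  exact ⟨commutatorCongr (SUCongr.suCongr φ)⟩

end Cfsg.Agent.Lib.Helper19.SU32
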