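/-
helper19: S2282 leaf L3 = the unital line closure in ANY dimension, coordinate-free, on helper6's
`SUApiA` (standard model `Cfsg.SU n F q`, `Rt hF M`): for a Witt triple `E, D, F'`
(`h(E,F') = h(D,D) = 1`, other products `0`), if `E ∈ Rt M` and two points `b₁E + a₁D + F'`,
`b₂E + a₂D + F'` with `a₁ ≠ a₂` lie in `Rt M`, then every isotropic vector of `⟨E, D, F'⟩` lies in
`Rt M`.  Port of helper4's `SU3End.endgame3` (helper5's affine-line argument); no restriction on `q`.
-/
import Mathlib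
import Cfsg.Agent.Lib.Helper6.SUApiA

set_option autoImplicit false

namespace Cfsg.Agent.Lib.Helper19.SUL3

open Cfsg Matrix Cfsg.Agent.Lib.Helper5.UForm Cfsg.Agent.Lib.Helper5.HermBridge
  Cfsg.Agent.Lib.Helper5.SUGen Cfsg.Agent.Lib.Helper6.SUApi

variable {F : Type*} [Field F] [Fintype F] {q n : ℕ}

/-- a Witt triple `E, D, F'`: `h(E,F') = h(D,D) = 1`, all other products `0` -/
structure Witt3 (q : ℕ) (E D F' : Fin n → F) : Prop where
  EE : Cfsg.hermForm n F q E E = 0
  FF : Cfsg.hermForm n F q F' F' = 0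
  EF : Cfsg.hermForm n F q E F' = 1
  DD : Cfsg.hermForm n F q D D = 1
  ED : Cfsg.hermForm n F q E D = 0
  FD : Cfsg.hermForm n F q F' D = 0

/-- the vector `x E + y D + z F'` -/
def vec (E D F' : Fin n → F) (x y z : F) : Fin n → F := x • E + y • D + z • F'

omit [Fintype F] in
theorem vec_add (E D F' : Fin n → F) (x y z x' y' z' : F) :
    vec E D F' x y z + vec E D F' x' y' z' = vec E D F' (x + x') (y + y') (z + z') := by
  unfold vec; module

omit [Fintype F] in
theorem smul_vec (E D F' : Fin n → F) (c x y z : F) :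
    c • vec E D F' x y z = vec E D F' (c * x) (c * y) (c * z) := by
  unfold vec; module

omit [Fintype F] in
theorem vec_E (E D F' : Fin n → F) : vec E D F' 1 0 0 = E := by
  unfold vec; module

variable (hF : Fintype.card F = q ^ 2) {E D F' : Fin n → F}

theorem herm_vec (W : Witt3 q E D F') (x y z x' y' z' : F) :
    Cfsg.hermForm n F q (vec E D F' x y z) (vec E D F' x' y' z') =
      x * frobQ hF z' + y * frobQ hF y' + z * frobQ hF x' := by
  have hf := herm_unitary (n := n) hF
  have hFE : Cfsg.hermForm n F q F' E = 1 := by rw [hf.herm, W.EF, map_one]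
  have hDE : Cfsg.hermForm n F q D E = 0 := by rw [hf.herm, W.ED, map_zero]
  have hDF : Cfsg.hermForm n F q D F' = 0 := by rw [hf.herm, W.FD, map_zero]
  unfold vec
  simp only [hf.add_left, hf.smul_left, u_add_right hf, u_smul_right hf, W.EE, W.FF, W.EF, W.DD,
    W.ED, W.FD, hFE, hDE, hDF]
  ring

/-- the point `b E + σ(a) D + F'` -/
noncomputable def Pt (E D F' : Fin n → F) (a b : F) : Fin n → F := vec E D F' b (frobQ hF a) 1

theorem herm_Pt_Pt (W : Witt3 q E D F') (a b a' b' : F) :
    Cfsg.hermForm n F q (Pt hF E D F' a b) (Pt hF E D F' a' b') =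
      b + frobQ hF a * a' + frobQ hF b' := by
  have hf := herm_unitary (n := n) hF
  unfold Pt
  rw [herm_vec hF W, hf.involutive, map_one, mul_one, one_mul]

theorem herm_Pt_E (W : Witt3 q E D F') (a b : F) :
    Cfsg.hermForm n F q (Pt hF E D F' a b) E = 1 := by
  have h := herm_vec hF W b (frobQ hF a) 1 1 0 0
  rw [vec_E] at h
  unfold Pt
  rw [h, map_zero, map_one, mul_zero, mul_zero, add_zero, zero_add, mul_one]

variable {M : Subgroup ↥(Cfsg.SU n F q)}

/-- lines through `E` -/
theorem Pt_line (W : Witt3 q E D F') (he : E ∈ Rt hF M) {a b₀ : F}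
    (h0 : Pt hF E D F' a b₀ ∈ Rt hF M) (b : F)
    (hb : b + frobQ hF b + frobQ hF a * a = 0) : Pt hF E D F' a b ∈ Rt hF M := by
  have hb0 : b₀ + frobQ hF b₀ + frobQ hF a * a = 0 := by
    have := h0.1
    rw [herm_Pt_Pt hF W] at this
    linear_combination this
  have hr : frobQ hF (b - b₀) = -(b - b₀) := by
    rw [map_sub]; linear_combination hb - hb0
  have := Rt_add_smul hF h0 he hr
  rw [herm_Pt_E hF W, mul_one] at this
  have e : Pt hF E D F' a b₀ + (b - b₀) • E = Pt hF E D F' a b := by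
    unfold Pt vec; module
  rwa [e] at this

/-- the line through two points with different parameters -/
theorem Pt_affine (W : Witt3 q E D F') (he : E ∈ Rt hF M)
    {a b₀ a' b' : F} (h0 : Pt hF E D F' a b₀ ∈ Rt hF M) (h1 : Pt hF E D F' a' b' ∈ Rt hF M)
    (haa : a ≠ a') (z : F) (hz : frobQ hF z ≠ z) :
    ∃ b'', Pt hF E D F' (a + z * (a' - a)) b'' ∈ Rt hF M := by
  have hf := herm_unitary (n := n) hF
  have hσ : ∀ x, frobQ hF (frobQ hF x) = x := hf.involutive
  have hb0 : b₀ + frobQ hF b₀ + frobQ hF a * a = 0 := by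
    have := h0.1
    rw [herm_Pt_Pt hF W] at this
    linear_combination this
  have hb' : b' + frobQ hF b' + frobQ hF a' * a' = 0 := by
    have := h1.1
    rw [herm_Pt_Pt hF W] at this
    linear_combination this
  have hz1 : 1 - z ≠ 0 := by
    intro h
    apply hz
    have : z = 1 := by linear_combination -h
    rw [this, map_one]
  have hz1' : 1 - frobQ hF z ≠ 0 := by
    intro h
    apply hz
    have h' : frobQ hF z = 1 := by linear_combination -h
    have := congrArg (frobQ hF) h'
    rw [hσ, map_one] at this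
    rw [this, map_one]
  set y₀ := frobQ hF z / (1 - frobQ hF z) with hy
  have hsy : frobQ hF y₀ = z / (1 - z) := by
    rw [hy, map_div₀, map_sub, map_one, hσ]
  set η₀ := b₀ + frobQ hF a * a' + frobQ hF b' with hη
  have hsη : frobQ hF η₀ = frobQ hF b₀ + a * frobQ hF a' + b' := by
    rw [hη, map_add, map_add, map_mul, hσ, hσ]
  set D0 := η₀ + frobQ hF η₀ with hD
  have hDv : D0 = -((a - a') * (frobQ hF a - frobQ hF a')) := by
    rw [hD, hsη, hη]; linear_combination hb0 + hb'
  have hD0 : D0 ≠ 0 := by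
    rw [hDv, neg_ne_zero]
    apply mul_ne_zero (sub_ne_zero.2 haa)
    intro h
    apply haa
    have := congrArg (frobQ hF) (sub_eq_zero.1 h)
    rwa [hσ, hσ] at this
  have hsD : frobQ hF D0 = D0 := by
    rw [hD, map_add, hσ]; ring
  have hyy : y₀ - frobQ hF y₀ ≠ 0 := by
    rw [hsy, hy]
    intro h
    apply hz
    field_simp at h
    linear_combination h
  set c := (y₀ - frobQ hF y₀) / D0 with hc
  have hc0 : c ≠ 0 := div_ne_zero hyy hD0
  have hsc : frobQ hF c = -c := by
    rw [hc, map_div₀, map_sub, hσ, hsD]; ring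
  set r := y₀ / c - η₀ with hr
  have key : y₀ - frobQ hF y₀ = c * D0 := by
    rw [hc]; field_simp
  have hsr : frobQ hF r = -r := by
    have h2 : frobQ hF η₀ = D0 - η₀ := by rw [hD]; ring
    have e' : y₀ / c - frobQ hF y₀ / c = D0 := by
      rw [← sub_div, key]; field_simp
    rw [hr, map_sub, map_div₀, hsc, h2, div_neg]
    linear_combination e'
  have hb : (b₀ + r) + frobQ hF (b₀ + r) + frobQ hF a * a = 0 := by
    rw [map_add, hsr]; linear_combination hb0
  have h0' := Pt_line hF W he h0 (b₀ + r) hb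
  have hch := Rt_add_smul hF h0' h1 hsc
  rw [herm_Pt_Pt hF W] at hch
  have hcη : c * (b₀ + r + frobQ hF a * a' + frobQ hF b') = y₀ := by
    have : b₀ + r + frobQ hF a * a' + frobQ hF b' = y₀ / c := by rw [hr, hη]; ring
    rw [this]; field_simp
  rw [hcη] at hch
  have h1y : 1 + y₀ ≠ 0 := by
    rw [hy]
    intro h
    field_simp at h
    simp at h
  have hsm := Rt_smul hF (1 + y₀)⁻¹ hch
  refine ⟨(1 + y₀)⁻¹ * (b₀ + r + y₀ * b'), ?_⟩
  have e : (1 + y₀)⁻¹ • (Pt hF E D F' a (b₀ + r) + y₀ • Pt hF E D F' a' b') =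
      Pt hF E D F' (a + z * (a' - a)) ((1 + y₀)⁻¹ * (b₀ + r + y₀ * b')) := by
    have e1 : (1 + y₀)⁻¹ * (frobQ hF a + y₀ * frobQ hF a') = frobQ hF (a + z * (a' - a)) := by
      rw [map_add, map_mul, map_sub, hy]
      field_simp
      ring
    have e2 : (1 + y₀)⁻¹ * (1 + y₀ * 1) = 1 := by
      rw [mul_one]; field_simp
    unfold Pt
    rw [smul_vec, vec_add, smul_vec, e1, e2]
  rwa [e] at hsm

/-- all parameters occur -/
theorem Pt_all (W : Witt3 q E D F') (he : E ∈ Rt hF M)
    {a₁ b₁ a₂ b₂ : F} (h1 : Pt hF E D F' a₁ b₁ ∈ Rt hF M) (h2 : Pt hF E D F' a₂ b₂ ∈ Rt hF M)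
    (h12 : a₁ ≠ a₂) (a : F) : ∃ b, Pt hF E D F' a b ∈ Rt hF M := by
  have hf := herm_unitary (n := n) hF
  have hσ : ∀ x, frobQ hF (frobQ hF x) = x := hf.involutive
  have hne : ∃ z, frobQ hF z ≠ z := by
    by_contra hcon
    push Not at hcon
    apply hf.ne_refl
    ext x
    exact hcon x
  have hd : a₂ - a₁ ≠ 0 := sub_ne_zero.2 (Ne.symm h12)
  set z := (a - a₁) / (a₂ - a₁) with hz
  have ha : a = a₁ + z * (a₂ - a₁) := by rw [hz]; field_simp; ring
  by_cases hzz : frobQ hF z = z
  · obtain ⟨z₁, hz₁⟩ := hne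
    have hz10 : z₁ ≠ 0 := by
      rintro rfl
      exact hz₁ (map_zero _)
    obtain ⟨b₃, h3⟩ := Pt_affine hF W he h1 h2 h12 z₁ hz₁
    by_cases hz0 : z = 0
    · exact ⟨b₁, by rw [ha, hz0, zero_mul, add_zero]; exact h1⟩
    · have h13 : a₁ ≠ a₁ + z₁ * (a₂ - a₁) := by
        intro h
        have : z₁ * (a₂ - a₁) = 0 := by linear_combination -h
        rcases mul_eq_zero.1 this with h | h
        · exact hz10 h
        · exact hd h
      have hzz' : frobQ hF (z / z₁) ≠ z / z₁ := by
        rw [map_div₀, hzz]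
        intro h
        apply hz₁
        have hs0 : frobQ hF z₁ ≠ 0 := by
          intro h0
          have := congrArg (frobQ hF) h0
          rw [hσ, map_zero] at this
          exact hz10 this
        have h' := (div_eq_div_iff hs0 hz10).1 h
        exact (mul_left_cancel₀ hz0 h').symm
      obtain ⟨b, hb⟩ := Pt_affine hF W he h1 h3 h13 (z / z₁) hzz'
      refine ⟨b, ?_⟩
      have : a = a₁ + z / z₁ * (a₁ + z₁ * (a₂ - a₁) - a₁) := by
        rw [ha]; field_simp; ring
      rw [this]; exact hb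
  · obtain ⟨b, hb⟩ := Pt_affine hF W he h1 h2 h12 z hzz
    exact ⟨b, by rw [ha]; exact hb⟩

/-- **L3, the unital line closure in any dimension**: if the root group of `E` and of two points
`b₁ E + σ(a₁) D + F'`, `b₂ E + σ(a₂) D + F'` with `a₁ ≠ a₂` lie in `M`, then so does the root group
of every isotropic vector of `⟨E, D, F'⟩`. -/
theorem L3_Pt (W : Witt3 q E D F') (he : E ∈ Rt hF M)
    {a₁ b₁ a₂ b₂ : F} (h1 : Pt hF E D F' a₁ b₁ ∈ Rt hF M) (h2 : Pt hF E D F' a₂ b₂ ∈ Rt hF M)
    (h12 : a₁ ≠ a₂) (x y z : F)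
    (hv : Cfsg.hermForm n F q (vec E D F' x y z) (vec E D F' x y z) = 0) :
    vec E D F' x y z ∈ Rt hF M := by
  have hf := herm_unitary (n := n) hF
  have hσ : ∀ x, frobQ hF (frobQ hF x) = x := hf.involutive
  rw [herm_vec hF W] at hv
  by_cases h2' : z = 0
  · rw [h2', map_zero, mul_zero, zero_mul, zero_add, add_zero] at hv
    have h1' : y = 0 := by
      rcases mul_eq_zero.1 hv with h | h
      · exact h
      · have := congrArg (frobQ hF) h
        rwa [hσ, map_zero] at this
    have : vec E D F' x y z = x • E := by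
      rw [h1', h2']; unfold vec; module
    rw [this]
    exact Rt_smul hF _ he
  · obtain ⟨b₀, hb₀⟩ := Pt_all hF W he h1 h2 h12 (frobQ hF (y / z))
    have hs2 : frobQ hF z ≠ 0 := by
      intro h
      have := congrArg (frobQ hF) h
      rw [hσ, map_zero] at this
      exact h2' this
    have hb : x / z + frobQ hF (x / z) + frobQ hF (frobQ hF (y / z)) * frobQ hF (y / z) = 0 := by
      rw [hσ, map_div₀, map_div₀]
      field_simp
      linear_combination hv
    have := Pt_line hF W he hb₀ (x / z) hb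
    have e : vec E D F' x y z = z • Pt hF E D F' (frobQ hF (y / z)) (x / z) := by
      unfold Pt
      rw [smul_vec, hσ, mul_one]
      congr 1 <;> field_simp
    rw [e]
    exact Rt_smul hF _ this

/-- **L3** in the form with explicit vectors: `E ∈ Rt M`, two points `b₁ E + a₁ D + F'`,
`b₂ E + a₂ D + F'` in `Rt M` with `a₁ ≠ a₂` -/
theorem L3 (W : Witt3 q E D F') (he : E ∈ Rt hF M)
    {a₁ b₁ a₂ b₂ : F} (h1 : b₁ • E + a₁ • D + F' ∈ Rt hF M) (h2 : b₂ • E + a₂ • D + F' ∈ Rt hF M)
    (h12 : a₁ ≠ a₂) (x y z : F)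
    (hv : Cfsg.hermForm n F q (x • E + y • D + z • F') (x • E + y • D + z • F') = 0) :
    x • E + y • D + z • F' ∈ Rt hF M := by
  have hf := herm_unitary (n := n) hF
  have hσ : ∀ x, frobQ hF (frobQ hF x) = x := hf.involutive
  have e1 : b₁ • E + a₁ • D + F' = Pt hF E D F' (frobQ hF a₁) b₁ := by
    unfold Pt vec; rw [hσ, one_smul]
  have e2 : b₂ • E + a₂ • D + F' = Pt hF E D F' (frobQ hF a₂) b₂ := by
    unfold Pt vec; rw [hσ, one_smul]
  rw [e1] at h1
  rw [e2] at h2
  have h12' : frobQ hF a₁ ≠ frobQ hF a₂ := by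
    intro h
    apply h12
    have := congrArg (frobQ hF) h
    rwa [hσ, hσ] at this
  exact L3_Pt hF W he h1 h2 h12' x y z hv

end Cfsg.Agent.Lib.Helper19.SUL3
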