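/-
helper19: S5544 leaf (A3) `pair_conj` (planner helper12): transport of a Majorana pair by an
automorphism `g` of `(mul, B)`: `(g μ g⁻¹, g a)` is again a Majorana pair.
[`eigen (g a) c = map g (eigen a c)`.]
-/
import Cfsg.Agent.Lib.Helper12.SakDefs

set_option autoImplicit false

namespace Cfsg.Agent.Lib.Helper19.SakA3
open Cfsg Cfsg.Axial Cfsg.Agent.Lib.Helper12.Sak

variable {V : Type*} [AddCommGroup V] [Module ℝ V]
variable {mul : V →ₗ[ℝ] V →ₗ[ℝ] V} {B : LinearMap.BilinForm ℝ V} {μ μ' : V ≃ₗ[ℝ] V} {a : V}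

theorem mem_eigen_iff (x : V) (c : ℝ) (v : V) : v ∈ eigen mul x c ↔ mul x v = c • v := by
  unfold eigen
  rw [Module.End.mem_eigenspace_iff]

/-- `g⁻¹` preserves the product. -/
theorem symm_mul (g : V ≃ₗ[ℝ] V) (hg1 : ∀ u v : V, g (mul u v) = mul (g u) (g v)) (u v : V) :
    g.symm (mul u v) = mul (g.symm u) (g.symm v) := by
  apply g.injective
  rw [hg1, LinearEquiv.apply_symm_apply, LinearEquiv.apply_symm_apply, LinearEquiv.apply_symm_apply]

theorem eigen_map (g : V ≃ₗ[ℝ] V) (hg1 : ∀ u v : V, g (mul u v) = mul (g u) (g v)) (x : V)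
    (c : ℝ) : eigen mul (g x) c = Submodule.map (g : V →ₗ[ℝ] V) (eigen mul x c) := by
  ext v
  rw [Submodule.mem_map, mem_eigen_iff]
  constructor
  · intro hv
    refine ⟨g.symm v, ?_, by simp⟩
    rw [mem_eigen_iff]
    apply g.injective
    rw [hg1, LinearEquiv.apply_symm_apply, hv, map_smul, LinearEquiv.apply_symm_apply]
  · rintro ⟨w, hw, rfl⟩
    rw [mem_eigen_iff] at hw
    show mul (g x) (g w) = c • g w
    rw [← hg1, hw, map_smul]

theorem eigenSum_map (g : V ≃ₗ[ℝ] V) (hg1 : ∀ u v : V, g (mul u v) = mul (g u) (g v)) (x : V)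
    (S : Set ℝ) : eigenSum mul (g x) S = Submodule.map (g : V →ₗ[ℝ] V) (eigenSum mul x S) := by
  unfold eigenSum
  rw [Submodule.map_iSup]
  congr 1
  funext c
  rw [Submodule.map_iSup]
  congr 1
  funext _
  exact eigen_map g hg1 x c

theorem pair_conj (h : IsMajoranaPair mul B μ a) (g : V ≃ₗ[ℝ] V)
    (hg1 : ∀ u v : V, g (mul u v) = mul (g u) (g v)) (hg2 : ∀ u v : V, B (g u) (g v) = B u v) :
    IsMajoranaPair mul B (g * μ * g⁻¹) (g a) := by
  obtain ⟨hμ1, hμ2, ⟨⟨ha0, haa, htop, hfus⟩, hprim⟩, hfix, hneg⟩ := h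
  have happ : ∀ v : V, (g * μ * g⁻¹) v = g (μ (g.symm v)) := fun v => rfl
  have hs2 : ∀ u v : V, B (g.symm u) (g.symm v) = B u v := by
    intro u v
    rw [← hg2 (g.symm u) (g.symm v), LinearEquiv.apply_symm_apply, LinearEquiv.apply_symm_apply]
  refine ⟨?_, ?_, ⟨⟨?_, ?_, ?_, ?_⟩, ?_⟩, ?_, ?_⟩
  · intro u v
    rw [happ, happ, happ, symm_mul g hg1, hμ1, hg1]
  · intro u v
    rw [happ, happ, hg2, hμ2, hs2]
  · intro h0
    apply ha0
    apply g.injective
    rw [h0, map_zero]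
  · rw [← hg1, haa]
  · rw [eigenSum_map g hg1, htop, Submodule.map_top, LinearMap.range_eq_top]
    exact g.surjective
  · intro c hc d hd u hu v hv
    rw [eigen_map g hg1] at hu hv
    obtain ⟨u', hu', rfl⟩ := hu
    obtain ⟨v', hv', rfl⟩ := hv
    rw [eigenSum_map g hg1]
    refine ⟨mul u' v', hfus c hc d hd u' hu' v' hv', ?_⟩
    exact hg1 u' v'
  · rw [eigen_map g hg1, hprim, Submodule.map_span, Set.image_singleton]
    rfl
  · intro v hv
    rw [eigenSum_map g hg1] at hv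
    obtain ⟨w, hw, rfl⟩ := hv
    show (g * μ * g⁻¹) (g w) = g w
    rw [happ, LinearEquiv.symm_apply_apply]
    exact congrArg g (hfix w hw)
  · intro v hv
    rw [eigen_map g hg1] at hv
    obtain ⟨w, hw, rfl⟩ := hv
    show (g * μ * g⁻¹) (g w) = -(g w)
    rw [happ, LinearEquiv.symm_apply_apply]
    have := hneg w hw
    show g (μ w) = -(g w)
    rw [← map_neg]
    exact congrArg g this

end Cfsg.Agent.Lib.Helper19.SakA3
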