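import Mathlib
import Cfsg.Agent.Lib.Helper19.FrobFix2
import Cfsg.Agent.Lib.Helper19.Clifford

set_option autoImplicit false

namespace Cfsg.Agent.Lib.Helper19

open Subgroup

section tower
variable {G : Type*} [Group G]

/-- a nonidentity `p`-element has a power of order `p` -/
theorem exists_pow_orderOf_eq_prime {p : ℕ} (hp : p.Prime) {u : G} (hu1 : u ≠ 1) {a : ℕ}
    (hu : u ^ p ^ a = 1) : ∃ j : ℕ, orderOf (u ^ j) = p := by
  have hdvd := orderOf_dvd_of_pow_eq_one hu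
  obtain ⟨b, hb, hob⟩ := (Nat.dvd_prime_pow hp).mp hdvd
  have hb0 : b ≠ 0 := by
    rintro rfl
    rw [pow_zero, orderOf_eq_one_iff] at hob
    exact hu1 hob
  obtain ⟨b', rfl⟩ : ∃ b', b = b' + 1 := ⟨b - 1, by omega⟩
  refine ⟨p ^ b', ?_⟩
  rw [orderOf_pow' u (pow_ne_zero _ hp.ne_zero), hob, pow_succ,
    Nat.gcd_eq_right (Dvd.intro _ rfl), Nat.mul_div_cancel_left _ (pow_pos hp.pos _)]

/-- a nonidentity `p`-element commuting with an element of order `m` prime to `p` gives an element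
of order `p * m` -/
theorem exists_orderOf_eq_mul_of_commute {p m : ℕ} (hp : p.Prime) (hm : Nat.Coprime p m)
    {u g : G} (hu1 : u ≠ 1) {a : ℕ} (hu : u ^ p ^ a = 1) (hg : orderOf g = m)
    (hc : u * g = g * u) : ∃ w : G, orderOf w = p * m := by
  have hdvd := orderOf_dvd_of_pow_eq_one hu
  obtain ⟨b, hb, hob⟩ := (Nat.dvd_prime_pow hp).mp hdvd
  have hb0 : b ≠ 0 := by
    rintro rfl
    rw [pow_zero, orderOf_eq_one_iff] at hob
    exact hu1 hob
  obtain ⟨b', rfl⟩ : ∃ b', b = b' + 1 := ⟨b - 1, by omega⟩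
  have hu' : orderOf (u ^ p ^ b') = p := by
    rw [orderOf_pow' u (pow_ne_zero _ hp.ne_zero), hob, pow_succ,
      Nat.gcd_eq_right (Dvd.intro _ rfl), Nat.mul_div_cancel_left _ (pow_pos hp.pos _)]
  refine ⟨u ^ p ^ b' * g, ?_⟩
  have hcomm : Commute (u ^ p ^ b') g := (show Commute u g from hc).pow_left _
  rw [hcomm.orderOf_mul_eq_mul_orderOf_of_coprime (by rw [hu', hg]; exact hm), hu', hg]

/-- the centre of a subgroup, as a subgroup of the ambient group -/
def zOf (P : Subgroup G) : Subgroup G := P ⊓ centralizer (P : Set G)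

theorem mem_zOf {P : Subgroup G} {v : G} : v ∈ zOf P ↔ v ∈ P ∧ ∀ u ∈ P, u * v = v * u := by
  unfold zOf
  rw [Subgroup.mem_inf, Subgroup.mem_centralizer_iff]
  rfl

theorem zOf_le (P : Subgroup G) : zOf P ≤ P := inf_le_left

theorem zOf_comm (P : Subgroup G) : ∀ a ∈ zOf P, ∀ b ∈ zOf P, a * b = b * a := by
  intro a ha b hb
  exact (mem_zOf.mp hb).2 a (zOf_le P ha)

theorem zOf_ne_bot [Finite G] {p : ℕ} [Fact p.Prime] {P : Subgroup G} (hP : IsPGroup p P)
    (hP1 : P ≠ ⊥) : zOf P ≠ ⊥ := by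
  haveI : Nontrivial P := (Subgroup.nontrivial_iff_ne_bot P).mpr hP1
  haveI := hP.center_nontrivial
  obtain ⟨z, hz⟩ := exists_ne (1 : Subgroup.center P)
  intro h
  have hmem : ((z : P) : G) ∈ zOf P := by
    rw [mem_zOf]
    refine ⟨(z : P).2, ?_⟩
    intro u hu
    have := Subgroup.mem_center_iff.mp z.2 ⟨u, hu⟩
    exact congrArg Subtype.val this
  rw [h, Subgroup.mem_bot] at hmem
  apply hz
  exact Subtype.ext (Subtype.ext hmem)

theorem normalizer_le_normalizer_zOf (P : Subgroup G) :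
    normalizer (P : Set G) ≤ normalizer (zOf P : Set G) := by
  rw [← inv_iff_le_normalizer]
  intro a ha x hx
  rw [mem_cj, mem_zOf] at hx
  obtain ⟨hxP, hxc⟩ := hx
  have ha' : a⁻¹ ∈ normalizer (P : Set G) := Subgroup.inv_mem _ ha
  rw [mem_zOf]
  constructor
  · have := (mem_normalizer_iff.mp ha (a⁻¹ * x * a)).mp hxP
    have e : a * (a⁻¹ * x * a) * a⁻¹ = x := by group
    rwa [e] at this
  · intro u hu
    have hu' : a⁻¹ * u * a⁻¹⁻¹ ∈ P := (mem_normalizer_iff.mp ha' u).mp hu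
    have := hxc _ hu'
    have e1 : u * x = a * ((a⁻¹ * u * a⁻¹⁻¹) * (a⁻¹ * x * a)) * a⁻¹ := by group
    have e2 : x * u = a * ((a⁻¹ * x * a) * (a⁻¹ * u * a⁻¹⁻¹)) * a⁻¹ := by group
    rw [e1, e2, this]

end tower

end Cfsg.Agent.Lib.Helper19
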