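import Mathlib
import Cfsg.Agent.Lib.Helper19.Tower0

set_option autoImplicit false

namespace Cfsg.Agent.Lib.Helper19

open Subgroup

section tower
variable {G : Type*} [Group G]

/-- a `{p,q,r}`-tower `P ⋊ (Q ⋊ ⟨x⟩)` contains an element of order `pq`, `pr` or `qr` -/
theorem exists_orderOf_mul_of_tower [Finite G] {p q r : ℕ} (hp : p.Prime) (hq : q.Prime)
    (hr : r.Prime) (hpq : p ≠ q) (hpr : p ≠ r) (hqr : q ≠ r)
    (P Q : Subgroup G) (x : G) (hP : IsPGroup p P) (hP1 : P ≠ ⊥) (hQ : IsPGroup q Q) (hQ1 : Q ≠ ⊥)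
    (hQP : Q ≤ normalizer (P : Set G)) (hxP : x ∈ normalizer (P : Set G))
    (hxQ : x ∈ normalizer (Q : Set G)) (hx : orderOf x = r) :
    (∃ g : G, orderOf g = p * q) ∨ (∃ g : G, orderOf g = p * r) ∨ (∃ g : G, orderOf g = q * r) := by
  by_contra hcon
  push Not at hcon
  obtain ⟨hno_pq, hno_pr, hno_qr⟩ := hcon
  haveI : Fact p.Prime := ⟨hp⟩
  haveI : Fact q.Prime := ⟨hq⟩
  have cop_pq : Nat.Coprime p q := (Nat.coprime_primes hp hq).mpr hpq
  have cop_pr : Nat.Coprime p r := (Nat.coprime_primes hp hr).mpr hpr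
  have cop_qr : Nat.Coprime q r := (Nat.coprime_primes hq hr).mpr hqr
  -- the abelian subgroups
  set V := zOf P with hV
  set K := zOf Q with hK
  have hV1 : V ≠ ⊥ := zOf_ne_bot hP hP1
  have hK1 : K ≠ ⊥ := zOf_ne_bot hQ hQ1
  have hVP : V ≤ P := zOf_le P
  have hKQ : K ≤ Q := zOf_le Q
  have hVp : ∀ v ∈ V, ∃ a, v ^ p ^ a = 1 := by
    intro v hv
    obtain ⟨a, ha⟩ := hP ⟨v, hVP hv⟩
    exact ⟨a, congrArg Subtype.val ha⟩
  have hKq : ∀ k ∈ K, ∃ a, k ^ q ^ a = 1 := by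
    intro k hk
    obtain ⟨a, ha⟩ := hQ ⟨k, hKQ hk⟩
    exact ⟨a, congrArg Subtype.val ha⟩
  -- no commuting pairs
  have hVK : ∀ v ∈ V, ∀ g : G, orderOf g = q → v * g = g * v → v = 1 := by
    intro v hv g hg hc
    by_contra hv1
    obtain ⟨a, ha⟩ := hVp v hv
    obtain ⟨w, hw⟩ := exists_orderOf_eq_mul_of_commute hp cop_pq hv1 ha hg hc
    exact hno_pq w hw
  have hVr : ∀ v ∈ V, ∀ g : G, orderOf g = r → v * g = g * v → v = 1 := by
    intro v hv g hg hc
    by_contra hv1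
    obtain ⟨a, ha⟩ := hVp v hv
    obtain ⟨w, hw⟩ := exists_orderOf_eq_mul_of_commute hp cop_pr hv1 ha hg hc
    exact hno_pr w hw
  have hKr : ∀ k ∈ K, ∀ g : G, orderOf g = r → k * g = g * k → k = 1 := by
    intro k hk g hg hc
    by_contra hk1
    obtain ⟨a, ha⟩ := hKq k hk
    obtain ⟨w, hw⟩ := exists_orderOf_eq_mul_of_commute hq cop_qr hk1 ha hg hc
    exact hno_qr w hw
  -- normalizers
  have hNP : normalizer (P : Set G) ≤ normalizer (V : Set G) := normalizer_le_normalizer_zOf P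
  have hNQ : normalizer (Q : Set G) ≤ normalizer (K : Set G) := normalizer_le_normalizer_zOf Q
  have hxK : x ∈ normalizer (K : Set G) := hNQ hxQ
  -- elements `k x` have order dividing `r`
  have hxr : x ^ r = 1 := by rw [← hx]; exact pow_orderOf_eq_one x
  have hord : ∀ k ∈ K, (k * x) ^ r = 1 := by
    intro k hk
    set z := (k * x) ^ r with hz
    have hzK : z ∈ K := by
      have := mul_pow_mul_inv_pow_mem K hxK hk r
      rwa [hxr, inv_one, mul_one] at this
    have hzg : z * (k * x) = (k * x) * z := by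
      rw [hz, ← pow_succ, ← pow_succ']
    have hzk : z * k = k * z := zOf_comm Q z hzK k hk
    have hzx : z * x = x * z := by
      have e : x = k⁻¹ * (k * x) := by group
      have hzk' : z * k⁻¹ = k⁻¹ * z := by
        have : k⁻¹ * (z * k) * k⁻¹ = k⁻¹ * (k * z) * k⁻¹ := by rw [hzk]
        simpa [mul_assoc] using this.symm
      calc z * x = z * (k⁻¹ * (k * x)) := by rw [← e]
        _ = k⁻¹ * (z * (k * x)) := by rw [← mul_assoc, hzk', mul_assoc]
        _ = k⁻¹ * ((k * x) * z) := by rw [hzg]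
        _ = x * z := by group
    exact hKr z hzK x hx hzx
  -- an element of order `q` in `K`
  obtain ⟨y, hyK, hy1⟩ : ∃ y ∈ K, y ≠ 1 := by
    by_contra h
    push Not at h
    exact hK1 ((Subgroup.eq_bot_iff_forall K).mpr h)
  obtain ⟨a, ha⟩ := hKq y hyK
  obtain ⟨j, hj⟩ := exists_pow_orderOf_eq_prime hq hy1 ha
  have hy0K : y ^ j ∈ K := K.pow_mem hyK j
  -- `|K|` is prime to `p`
  have hKp : (Nat.card K).Coprime p := by
    have hKpg : IsPGroup q K := hQ.to_le hKQ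
    obtain ⟨n, hn⟩ := IsPGroup.iff_card.mp hKpg
    rw [hn]
    exact Nat.Coprime.pow_left n cop_pq.symm
  obtain ⟨k, hk, v, hv, hv1, hc⟩ := exists_fixed_of_frobenius_like' p r hr V K x (y ^ j)
    (zOf_comm P) hVp hV1 ((hKQ.trans hQP).trans hNP) (hNP hxP) hKp hxK hord hy0K
    (fun v hv hc => hVK v hv (y ^ j) hj hc.symm)
  -- `k x` has order `r`
  have hg1 : k * x ≠ 1 := by
    intro h
    have hxk : x = k⁻¹ := eq_inv_of_mul_eq_one_right h
    have hxK' : x ∈ K := by rw [hxk]; exact K.inv_mem hk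
    obtain ⟨b, hb⟩ := hKq x hxK'
    have h1 := orderOf_dvd_of_pow_eq_one hb
    rw [hx] at h1
    have := (Nat.prime_dvd_prime_iff_eq hr hq).mp (hr.dvd_of_dvd_pow h1)
    exact hqr this.symm
  have hgr : orderOf (k * x) = r := by
    haveI : Fact r.Prime := ⟨hr⟩
    exact orderOf_eq_prime (hord k hk) hg1
  exact hv1 (hVr v hv (k * x) hgr hc.symm)

end tower

end Cfsg.Agent.Lib.Helper19
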