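import Mathlib
import Cfsg.Agent.Lib.Helper19.Tower1
import Cfsg.Agent.Lib.Helper19.Index

set_option autoImplicit false

namespace Cfsg.Agent.Lib.Helper19

open Subgroup

section series
variable {G : Type*} [Group G]

open scoped Pointwise in
/-- Dedekind's law for a normal subgroup -/
theorem inf_sup_eq_of_sup_eq_top (T K M : Subgroup G) [K.Normal] (hKM : K ≤ M)
    (hTK : T ⊔ K = ⊤) : (T ⊓ M) ⊔ K = M := by
  apply le_antisymm (sup_le inf_le_right hKM)
  intro m hm
  have hm' : m ∈ ((T ⊔ K : Subgroup G) : Set G) := by rw [hTK]; trivial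
  rw [Subgroup.mul_normal] at hm'
  obtain ⟨t, ht, k, hk, rfl⟩ := Set.mem_mul.mp hm'
  have htM : t ∈ M := by
    have : t = t * k * k⁻¹ := by group
    rw [this]
    exact M.mul_mem hm (M.inv_mem (hKM hk))
  exact Subgroup.mul_mem _ (Subgroup.mem_sup_left ⟨ht, htM⟩) (Subgroup.mem_sup_right hk)

/-- transfer of relative index to a supplement -/
theorem relIndex_eq_of_sup_eq_top [Finite G] (T K M : Subgroup G) [K.Normal] (hKM : K ≤ M)
    (hTK : T ⊔ K = ⊤) : K.relIndex M = K.relIndex (T ⊓ M) := by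
  have h := relIndex_sup_of_le_normalizer (T ⊓ M) K
    (by rw [Subgroup.normalizer_eq_top]; exact le_top)
  rw [inf_sup_eq_of_sup_eq_top T K M hKM hTK] at h
  exact h

theorem index_eq_relIndex_of_sup_eq_top [Finite G] (T M : Subgroup G) [M.Normal]
    (hTM : T ⊔ M = ⊤) : M.index = M.relIndex T := by
  have h := relIndex_sup_of_le_normalizer T M
    (by rw [Subgroup.normalizer_eq_top]; exact le_top)
  rw [hTM, relIndex_top_right] at h
  exact h

theorem exists_orderOf_mul_of_normal_series [Finite G] (K M : Subgroup G) [K.Normal] [M.Normal]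
    (hKM : K ≤ M) {p q r : ℕ} (hp : p.Prime) (hq : q.Prime) (hr : r.Prime)
    (hpq : p ≠ q) (hpr : p ≠ r) (hqr : q ≠ r)
    (hpK : p ∣ Nat.card K) (hqM : q ∣ K.relIndex M) (hrG : r ∣ M.index) :
    (∃ g : G, orderOf g = p * q) ∨ (∃ g : G, orderOf g = p * r) ∨ (∃ g : G, orderOf g = q * r) := by
  haveI : Fact p.Prime := ⟨hp⟩
  haveI : Fact q.Prime := ⟨hq⟩
  haveI : Fact r.Prime := ⟨hr⟩
  -- Sylow `p`-subgroup of `K`
  let P₀ : Sylow p K := default
  set P : Subgroup G := (P₀ : Subgroup K).map K.subtype with hPdef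
  have hP : IsPGroup p P := P₀.2.map K.subtype
  have hP1 : P ≠ ⊥ := by
    rw [hPdef, Ne, Subgroup.map_eq_bot_iff_of_injective _ K.subtype_injective]
    exact P₀.ne_bot_of_dvd_card hpK
  have hfr : normalizer (P : Set G) ⊔ K = ⊤ := Sylow.normalizer_sup_eq_top P₀
  set T : Subgroup G := normalizer (P : Set G) with hT
  have hTM : T ⊔ M = ⊤ := by
    rw [eq_top_iff, ← hfr]
    exact sup_le_sup_left hKM T
  -- transfer of the indices
  have hq' : q ∣ Nat.card (M.subgroupOf T) := by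
    have h1 : K.relIndex M = K.relIndex (T ⊓ M) := relIndex_eq_of_sup_eq_top T K M hKM hfr
    have h2 : K.relIndex (T ⊓ M) ∣ Nat.card ↥(T ⊓ M) := relIndex_dvd_card K (T ⊓ M)
    have h3 : Nat.card (M.subgroupOf T) = Nat.card ↥(T ⊓ M) := by
      rw [← inf_subgroupOf_right M T, inf_comm]
      exact Nat.card_congr (Subgroup.subgroupOfEquivOfLe (inf_le_left : T ⊓ M ≤ T)).toEquiv
    rw [h3]
    exact (h1 ▸ hqM).trans h2
  have hr' : r ∣ (M.subgroupOf T).index := by
    have h1 : M.index = M.relIndex T := index_eq_relIndex_of_sup_eq_top T M hTM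
    rw [h1] at hrG
    exact hrG
  -- Sylow `q`-subgroup of `M ∩ T`
  let Q₀ : Sylow q (M.subgroupOf T) := default
  set Q' : Subgroup T := (Q₀ : Subgroup (M.subgroupOf T)).map (M.subgroupOf T).subtype with hQdef
  have hQ : IsPGroup q Q' := Q₀.2.map _
  have hQ1 : Q' ≠ ⊥ := by
    rw [hQdef, Ne, Subgroup.map_eq_bot_iff_of_injective _ (M.subgroupOf T).subtype_injective]
    exact Q₀.ne_bot_of_dvd_card hq'
  have hfr2 : normalizer (Q' : Set T) ⊔ M.subgroupOf T = ⊤ := Sylow.normalizer_sup_eq_top Q₀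
  have hr'' : r ∣ Nat.card (normalizer (Q' : Set T)) := by
    have h1 := index_eq_relIndex_of_sup_eq_top (normalizer (Q' : Set T)) (M.subgroupOf T) hfr2
    rw [h1] at hr'
    exact hr'.trans (relIndex_dvd_card _ _)
  obtain ⟨x, hx⟩ := exists_prime_orderOf_dvd_card' r hr''
  -- the tower inside `T`
  have hP' : IsPGroup p (P.subgroupOf T) := hP.comap_subtype
  have hP'1 : P.subgroupOf T ≠ ⊥ := by
    intro h
    rw [Subgroup.subgroupOf_eq_bot] at h
    apply hP1
    have := disjoint_iff.mp h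
    rwa [inf_of_le_left (le_normalizer : P ≤ T)] at this
  haveI hPnorm : (P.subgroupOf T).Normal := Subgroup.normal_in_normalizer
  have hPn : normalizer ((P.subgroupOf T : Subgroup T) : Set T) = ⊤ :=
    Subgroup.normalizer_eq_top _
  obtain ⟨g, hg⟩ | ⟨g, hg⟩ | ⟨g, hg⟩ := exists_orderOf_mul_of_tower hp hq hr hpq hpr hqr
    (P.subgroupOf T) Q' (x : T) hP' hP'1 hQ hQ1 (by rw [hPn]; exact le_top)
    (by rw [hPn]; trivial) x.2 (by rw [Subgroup.orderOf_coe]; exact hx)
  · exact Or.inl ⟨g, by rw [Subgroup.orderOf_coe]; exact hg⟩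
  · exact Or.inr (Or.inl ⟨g, by rw [Subgroup.orderOf_coe]; exact hg⟩)
  · exact Or.inr (Or.inr ⟨g, by rw [Subgroup.orderOf_coe]; exact hg⟩)

end series

end Cfsg.Agent.Lib.Helper19
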