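import Mathlib
import Cfsg.Agent.Lib.Helper19.Tower2

set_option autoImplicit false

namespace Cfsg.Agent.Lib.Helper19

open Subgroup
open scoped commutatorElement

section solv
variable {G : Type*} [Group G]

/-- an element whose image has order `n` has a power of order `n` -/
theorem exists_orderOf_eq_of_map [Finite G] {H : Type*} [Group H] (f : G →* H) (g : G) {n : ℕ}
    (hn : orderOf (f g) = n) : ∃ w : G, orderOf w = n := by
  have hdvd : n ∣ orderOf g := hn ▸ orderOf_map_dvd f g
  exact ⟨g ^ (orderOf g / n), orderOf_pow_orderOf_div (orderOf_pos g).ne' hdvd⟩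

/-- two primes dividing the order of an abelian section give an element of order `a * b` -/
theorem exists_orderOf_mul_of_abelian_section [Finite G] (A B : Subgroup G) (hBA : B ≤ A)
    (hBn : A ≤ normalizer (B : Set G))
    (hcomm : ⁅A, A⁆ ≤ B) {a b : ℕ} (ha : a.Prime) (hb : b.Prime) (hab : a ≠ b)
    (hda : a ∣ B.relIndex A) (hdb : b ∣ B.relIndex A) : ∃ w : G, orderOf w = a * b := by
  haveI : Fact a.Prime := ⟨ha⟩
  haveI : Fact b.Prime := ⟨hb⟩
  haveI : (B.subgroupOf A).Normal := (Subgroup.normal_subgroupOf_iff_le_normalizer hBA).mpr hBn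
  -- the quotient is commutative
  have hq : ∀ x y : A ⧸ B.subgroupOf A, x * y = y * x := by
    intro x y
    obtain ⟨u, rfl⟩ := QuotientGroup.mk_surjective x
    obtain ⟨v, rfl⟩ := QuotientGroup.mk_surjective y
    rw [← QuotientGroup.mk_mul, ← QuotientGroup.mk_mul, QuotientGroup.eq, Subgroup.mem_subgroupOf]
    apply hcomm
    have : ((u * v)⁻¹ * (v * u) : A) = ⁅v⁻¹, u⁻¹⁆ := by
      rw [commutatorElement_def]; group
    rw [this]
    have hh : ((⁅v⁻¹, u⁻¹⁆ : A) : G) = ⁅((v⁻¹ : A) : G), ((u⁻¹ : A) : G)⁆ := by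
      simp [commutatorElement_def]
    rw [hh]
    exact Subgroup.commutator_mem_commutator (v⁻¹).2 (u⁻¹).2
  have hcard : Nat.card (A ⧸ B.subgroupOf A) = B.relIndex A := rfl
  obtain ⟨x, hx⟩ := exists_prime_orderOf_dvd_card' (G := A ⧸ B.subgroupOf A) a (hcard ▸ hda)
  obtain ⟨y, hy⟩ := exists_prime_orderOf_dvd_card' (G := A ⧸ B.subgroupOf A) b (hcard ▸ hdb)
  have hxy : orderOf (x * y) = a * b := by
    have hc : Commute x y := hq x y
    rw [hc.orderOf_mul_eq_mul_orderOf_of_coprime (by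
      rw [hx, hy]; exact (Nat.coprime_primes ha hb).mpr hab), hx, hy]
  obtain ⟨g, hg⟩ := QuotientGroup.mk_surjective (x * y)
  obtain ⟨w, hw⟩ := exists_orderOf_eq_of_map (QuotientGroup.mk' (B.subgroupOf A)) g
    (n := a * b) (by rw [QuotientGroup.mk'_apply, hg]; exact hxy)
  exact ⟨(w : G), by rw [Subgroup.orderOf_coe]; exact hw⟩

end solv

end Cfsg.Agent.Lib.Helper19
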