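import Mathlib
import Cfsg.Agent.Lib.Helper19.SolvGraph0

set_option autoImplicit false

namespace Cfsg.Agent.Lib.Helper19

open Subgroup

section solv
variable {G : Type*} [Group G]

/-- the series `⊤ ≥ K ≥ K' ≥ K'' ≥ …` -/
def eser (K : Subgroup G) : ℕ → Subgroup G
  | 0 => ⊤
  | 1 => K
  | (n + 2) => ⁅eser K (n + 1), eser K (n + 1)⁆

theorem eser_zero (K : Subgroup G) : eser K 0 = ⊤ := rfl
theorem eser_one (K : Subgroup G) : eser K 1 = K := rfl
theorem eser_succ_succ (K : Subgroup G) (n : ℕ) :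
    eser K (n + 2) = ⁅eser K (n + 1), eser K (n + 1)⁆ := rfl

instance eser_normal (K : Subgroup G) [K.Normal] : ∀ n, (eser K n).Normal
  | 0 => by rw [eser_zero]; infer_instance
  | 1 => by rw [eser_one]; infer_instance
  | (n + 2) => by
    haveI := eser_normal K (n + 1)
    rw [eser_succ_succ]
    infer_instance

theorem eser_succ_le (K : Subgroup G) [K.Normal] : ∀ n, eser K (n + 1) ≤ eser K n
  | 0 => le_top
  | (n + 1) => by
    rw [eser_succ_succ]
    exact Subgroup.commutator_le_left _ _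

theorem eser_antitone (K : Subgroup G) [K.Normal] : Antitone (eser K) :=
  antitone_nat_of_succ_le (eser_succ_le K)

theorem eser_eq_map (K : Subgroup G) (n : ℕ) :
    eser K (n + 1) = (derivedSeries K n).map K.subtype := by
  induction n with
  | zero =>
    rw [eser_one, derivedSeries_zero, ← MonoidHom.range_eq_map, Subgroup.range_subtype]
  | succ n ih =>
    rw [eser_succ_succ, ih, derivedSeries_succ, Subgroup.map_commutator]

theorem exists_eser_eq_bot (K : Subgroup G) (hK : Group.IsSolvable K) : ∃ n, eser K (n + 1) = ⊥ := by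
  obtain ⟨n, hn⟩ := hK.solvable
  exact ⟨n, by rw [eser_eq_map, hn, Subgroup.map_bot]⟩

theorem exists_level [Finite G] (K : Subgroup G) [K.Normal] (hK : Group.IsSolvable K) {a : ℕ}
    (ha : a.Prime) (haG : a ∣ Nat.card G) :
    ∃ n, a ∣ Nat.card (eser K n) ∧ ¬ a ∣ Nat.card (eser K (n + 1)) := by
  classical
  obtain ⟨N, hN⟩ := exists_eser_eq_bot K hK
  have hex : ∃ n, ¬ a ∣ Nat.card (eser K (n + 1)) := by
    refine ⟨N, ?_⟩
    rw [hN, Subgroup.card_bot]
    exact ha.not_dvd_one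
  refine ⟨Nat.find hex, ?_, Nat.find_spec hex⟩
  rcases Nat.eq_zero_or_pos (Nat.find hex) with h0 | hpos
  · rw [h0, eser_zero, Subgroup.card_top]
    exact haG
  · obtain ⟨m, hm⟩ : ∃ m, Nat.find hex = m + 1 := ⟨Nat.find hex - 1, by omega⟩
    have := Nat.find_min hex (m := m) (by omega)
    rw [hm]
    exact not_not.mp this

theorem dvd_relIndex_of_dvd_card [Finite G] {A B : Subgroup G} (hAB : A ≤ B) {b : ℕ}
    (hb : b.Prime) (hbB : b ∣ Nat.card B) (hbA : ¬ b ∣ Nat.card A) : b ∣ A.relIndex B := by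
  have h1 := relIndex_mul_card_inf A B
  rw [inf_of_le_left hAB] at h1
  rw [← h1] at hbB
  exact (hb.dvd_mul.mp hbB).resolve_right hbA

theorem chain_adjacent [Finite G] (K : Subgroup G) [K.Normal] {na nb nc : ℕ} (hab : nb < na)
    (hbc : nc < nb) {a b c : ℕ} (ha : a.Prime) (hb : b.Prime) (hc : c.Prime)
    (hne1 : a ≠ b) (hne2 : a ≠ c) (hne3 : b ≠ c)
    (haA : a ∣ Nat.card (eser K na)) (hbB : b ∣ Nat.card (eser K nb))
    (hbB' : ¬ b ∣ Nat.card (eser K (nb + 1))) (hcG : c ∣ Nat.card G)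
    (hcC' : ¬ c ∣ Nat.card (eser K (nc + 1))) :
    (∃ g : G, orderOf g = a * b) ∨ (∃ g : G, orderOf g = a * c) ∨ (∃ g : G, orderOf g = b * c) := by
  have hAB : eser K na ≤ eser K nb := eser_antitone K hab.le
  have hA' : eser K na ≤ eser K (nb + 1) := eser_antitone K hab
  have hB' : eser K nb ≤ eser K (nc + 1) := eser_antitone K hbc
  have h1 : b ∣ (eser K na).relIndex (eser K nb) :=
    dvd_relIndex_of_dvd_card hAB hb hbB (fun h => hbB' (h.trans (Subgroup.card_dvd_of_le hA')))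
  have h2 : c ∣ (eser K nb).index := by
    have h := Subgroup.index_mul_card (eser K nb)
    rw [← h] at hcG
    exact (hc.dvd_mul.mp hcG).resolve_right
      (fun h => hcC' (h.trans (Subgroup.card_dvd_of_le hB')))
  exact exists_orderOf_mul_of_normal_series (eser K na) (eser K nb) hAB ha hb hc hne1 hne2 hne3
    haA h1 h2

theorem level_ne [Finite G] (K : Subgroup G) [K.Normal] {n : ℕ} (hn : 1 ≤ n) {a b : ℕ}
    (ha : a.Prime) (hb : b.Prime) (hab : a ≠ b)
    (ha1 : a ∣ Nat.card (eser K n)) (ha2 : ¬ a ∣ Nat.card (eser K (n + 1)))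
    (hb1 : b ∣ Nat.card (eser K n)) (hb2 : ¬ b ∣ Nat.card (eser K (n + 1))) :
    ∃ g : G, orderOf g = a * b := by
  obtain ⟨m, rfl⟩ : ∃ m, n = m + 1 := ⟨n - 1, by omega⟩
  have hle := eser_succ_le K (m + 1)
  apply exists_orderOf_mul_of_abelian_section (eser K (m + 1)) (eser K (m + 1 + 1)) hle
    (by rw [Subgroup.normalizer_eq_top]; exact le_top) (le_of_eq (eser_succ_succ K m).symm)
    ha hb hab (dvd_relIndex_of_dvd_card hle ha ha1 ha2) (dvd_relIndex_of_dvd_card hle hb hb1 hb2)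

end solv

end Cfsg.Agent.Lib.Helper19
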