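import Mathlib
import Cfsg.Agent.Lib.Helper19.SolvGraph1

set_option autoImplicit false

namespace Cfsg.Agent.Lib.Helper19

open Subgroup

section solv
variable {G : Type*} [Group G]

theorem solvable_normal_one_prime [Finite G] (ρ : Finset ℕ) (hρ : 3 ≤ ρ.card)
    (hprime : ∀ r ∈ ρ, r.Prime ∧ r ∣ Nat.card G)
    (hna : ∀ r ∈ ρ, ∀ s ∈ ρ, r ≠ s → ¬ ∃ x : G, orderOf x = r * s)
    (K : Subgroup G) [K.Normal] (hK : Group.IsSolvable K) :
    ∀ r ∈ ρ, ∀ s ∈ ρ, r ∣ Nat.card K → s ∣ Nat.card K → r = s := by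
  intro r hr s hs hrK hsK
  by_contra hrs
  -- a third prime
  obtain ⟨t, ht⟩ : ((ρ.erase r).erase s).Nonempty := by
    rw [← Finset.card_pos]
    have h1 : (ρ.erase r).card = ρ.card - 1 := Finset.card_erase_of_mem hr
    have h2 : ((ρ.erase r).erase s).card = (ρ.erase r).card - 1 :=
      Finset.card_erase_of_mem (Finset.mem_erase.mpr ⟨fun h => hrs h.symm, hs⟩)
    omega
  rw [Finset.mem_erase, Finset.mem_erase] at ht
  obtain ⟨hts, htr, htρ⟩ := ht
  obtain ⟨hrp, hrG⟩ := hprime r hr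
  obtain ⟨hsp, hsG⟩ := hprime s hs
  obtain ⟨htp, htG⟩ := hprime t htρ
  obtain ⟨nr, hr1, hr2⟩ := exists_level K hK hrp hrG
  obtain ⟨ns, hs1, hs2⟩ := exists_level K hK hsp hsG
  obtain ⟨nt, ht1, ht2⟩ := exists_level K hK htp htG
  have hnr : 1 ≤ nr := by
    by_contra h
    have : nr = 0 := by omega
    rw [this, zero_add, eser_one] at hr2
    exact hr2 hrK
  have hns : 1 ≤ ns := by
    by_contra h
    have : ns = 0 := by omega
    rw [this, zero_add, eser_one] at hs2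
    exact hs2 hsK
  have hrs_ne : nr ≠ ns := by
    intro h
    rw [← h] at hs1 hs2
    exact hna r hr s hs hrs (level_ne K hnr hrp hsp hrs hr1 hr2 hs1 hs2)
  have hrt_ne : nr ≠ nt := by
    intro h
    rw [← h] at ht1 ht2
    exact hna r hr t htρ (fun h => htr h.symm) (level_ne K hnr hrp htp (fun h => htr h.symm)
      hr1 hr2 ht1 ht2)
  have hst_ne : ns ≠ nt := by
    intro h
    rw [← h] at ht1 ht2
    exact hna s hs t htρ (fun h => hts h.symm) (level_ne K hns hsp htp (fun h => hts h.symm)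
      hs1 hs2 ht1 ht2)
  have hrt : r ≠ t := fun h => htr h.symm
  have hst : s ≠ t := fun h => hts h.symm
  have hsr : s ≠ r := fun h => hrs h.symm
  -- a general step
  have step : ∀ {a b c : ℕ} {na nb nc : ℕ}, a ∈ ρ → b ∈ ρ → c ∈ ρ → a ≠ b → a ≠ c → b ≠ c →
      nb < na → nc < nb → a ∣ Nat.card (eser K na) → b ∣ Nat.card (eser K nb) →
      ¬ b ∣ Nat.card (eser K (nb + 1)) → ¬ c ∣ Nat.card (eser K (nc + 1)) → False := by
    intro a b c na nb nc haρ hbρ hcρ hab hac hbc h1 h2 ha1 hb1 hb2 hc2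
    rcases chain_adjacent K h1 h2 (hprime a haρ).1 (hprime b hbρ).1 (hprime c hcρ).1 hab hac hbc
      ha1 hb1 hb2 (hprime c hcρ).2 hc2 with h | h | h
    · exact hna a haρ b hbρ hab h
    · exact hna a haρ c hcρ hac h
    · exact hna b hbρ c hcρ hbc h
  rcases lt_or_gt_of_ne hrs_ne with h1 | h1 <;> rcases lt_or_gt_of_ne hrt_ne with h2 | h2 <;>
    rcases lt_or_gt_of_ne hst_ne with h3 | h3
  · -- nr < ns < nt
    exact step htρ hs hr hts htr hsr h3 h1 ht1 hs1 hs2 hr2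
  · -- nr < ns, nr < nt, nt < ns
    exact step hs htρ hr hst hsr htr h3 h2 hs1 ht1 ht2 hr2
  · -- nr < ns, nt < nr, ns < nt : impossible
    omega
  · -- nr < ns, nt < nr, nt < ns
    exact step hs hr htρ hsr hst hrt h1 h2 hs1 hr1 hr2 ht2
  · -- ns < nr, nr < nt, ns < nt
    exact step htρ hr hs htr hts hrs h2 h1 ht1 hr1 hr2 hs2
  · -- ns < nr, nr < nt, nt < ns : impossible
    omega
  · -- ns < nr, nt < nr, ns < nt
    exact step hr htρ hs hrt hrs hts h2 h3 hr1 ht1 ht2 hs2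
  · -- ns < nr, nt < nr, nt < ns
    exact step hr hs htρ hrs hrt hst h1 h3 hr1 hs1 hs2 ht2

end solv

end Cfsg.Agent.Lib.Helper19
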