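import Mathlib
import Cfsg.Agent.Lib.Helper25.SpTK
import Cfsg.Agent.Lib.Helper25.TensS
import Cfsg.Agent.Lib.Helper19.SpTNDefs
import Cfsg.Agent.Lib.Helper19.SpTNBridge
import Cfsg.Agent.Lib.Helper27.SpTNAlg

set_option autoImplicit false
set_option linter.unusedSectionVars false
set_option linter.unusedVariables false

namespace Cfsg.Agent.Lib.Helper19.SpTNLeaf
open Matrix QuadraticMap
open Cfsg.Agent.Lib.Helper25.Tens Cfsg.Agent.Lib.Helper25.TensLeaves Cfsg.Agent.Lib.Helper19.OSub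
open Cfsg.Agent.Lib.Helper25.SpT Cfsg.Agent.Lib.Helper19.SpTN
open scoped Kronecker commutatorElement

variable {F : Type*} [Field F] [Fintype F] {a b : ℕ} {Q : QuadraticForm F (Idx a b → F)}
  {M : Subgroup (GL (Idx a b) F)}

theorem mat_ext_mulVec {n : ℕ} {A B : Matrix (Fin n) (Fin n) F} (h : ∀ v, A *ᵥ v = B *ᵥ v) :
    A = B := by
  apply Matrix.toLin'.injective
  apply LinearMap.ext
  intro v
  simpa using h v

theorem r1_mul_r1 (x : Fin a → F) : r1 x x * r1 x x = 0 := by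
  apply mat_ext_mulVec
  intro v
  rw [← Matrix.mulVec_mulVec, r1_mulVec, r1_mulVec, sf_smul_left, sf_self]
  simp

theorem r1_mul_mul_r1 (x : Fin a → F) (θ : Matrix (Fin a) (Fin a) F) :
    r1 x x * θ * r1 x x = sf (θ *ᵥ x) x • r1 x x := by
  apply mat_ext_mulVec
  intro v
  simp only [← Matrix.mulVec_mulVec, r1_mulVec, Matrix.mulVec_smul, Matrix.smul_mulVec, sf_smul_left]
  module

/-- the conjugate of `θ` by a symplectic transvection -/
theorem conj_stv_eq (x : Fin a → F) (c : F) (θ : Matrix (Fin a) (Fin a) F) :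
    ((stv x c : GL (Fin a) F) : Matrix (Fin a) (Fin a) F) * θ *
      ((stv x (-c) : GL (Fin a) F) : Matrix (Fin a) (Fin a) F) =
      θ + c • (r1 x x * θ - θ * r1 x x) - (c ^ 2 * sf (θ *ᵥ x) x) • r1 x x := by
  apply mat_ext_mulVec
  intro v
  simp only [← Matrix.mulVec_mulVec, stv_mulVec, Matrix.add_mulVec, Matrix.sub_mulVec,
    Matrix.smul_mulVec, r1_mulVec, Matrix.mulVec_add, Matrix.mulVec_smul, Matrix.mulVec_sub,
    sf_add_left, sf_smul_left, sf_sub_left]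
  module

theorem exists_ne_zero_ne_one (hF : 3 ≤ Fintype.card F) : ∃ c : F, c ≠ 0 ∧ c ≠ 1 := by
  classical
  by_contra hcon
  push Not at hcon
  have hsub : (Finset.univ : Finset F) ⊆ {0, 1} := by
    intro c _
    by_cases h0 : c = 0
    · simp [h0]
    · simp [hcon c h0]
  have := Finset.card_le_card hsub
  have h2 : ({0, 1} : Finset F).card ≤ 2 := Finset.card_le_two
  rw [Finset.card_univ] at this
  omega

/-- (A1) Lemma A, `q ≥ 3`. -/
theorem lemmaA (hF : 3 ≤ Fintype.card F) (S : Set (Matrix (Fin a) (Fin a) F))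
    (hadd : ∀ θ ∈ S, ∀ θ' ∈ S, θ + θ' ∈ S) (hneg : ∀ θ ∈ S, -θ ∈ S)
    (hsmul : ∀ t : F, t ≠ 0 → ∀ θ ∈ S, t • θ ∈ S)
    (hconj : ∀ (x : Fin a → F) (c : F), ∀ θ ∈ S,
      ((stv x c : GL (Fin a) F) : Matrix (Fin a) (Fin a) F) * θ *
        ((stv x (-c) : GL (Fin a) F) : Matrix (Fin a) (Fin a) F) ∈ S)
    (θ : Matrix (Fin a) (Fin a) F) (hθ : θ ∈ S) (hns : ¬ IsScalarMat θ) :
    (∃ x₀ x₁ : Fin a → F, x₀ ≠ 0 ∧ x₁ ≠ 0 ∧ r1 x₀ x₁ ∈ S) ∨
    (∃ x₀ x₁ : Fin a → F, LinearIndependent F ![x₀, x₁] ∧ sf x₀ x₁ = 0 ∧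
      r1 x₀ x₁ - r1 x₁ x₀ ∈ S) := by
  -- γ_c ∈ S
  have hγ : ∀ (x : Fin a → F) (c : F),
      c • (r1 x x * θ - θ * r1 x x) - (c ^ 2 * sf (θ *ᵥ x) x) • r1 x x ∈ S := by
    intro x c
    have h1 := hadd _ (hconj x c θ hθ) _ (hneg θ hθ)
    rw [conj_stv_eq] at h1
    have : θ + c • (r1 x x * θ - θ * r1 x x) - (c ^ 2 * sf (θ *ᵥ x) x) • r1 x x + -θ =
        c • (r1 x x * θ - θ * r1 x x) - (c ^ 2 * sf (θ *ᵥ x) x) • r1 x x := by abel
    rw [this] at h1
    exact h1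
  by_cases hA : ∃ x : Fin a → F, sf (θ *ᵥ x) x ≠ 0
  · left
    obtain ⟨x, hs⟩ := hA
    obtain ⟨c, hc0, hc1⟩ := exists_ne_zero_ne_one hF
    have hx : x ≠ 0 := by
      rintro rfl
      apply hs
      simp
    have h1 := hγ x c
    have h2 := hneg _ (hsmul c hc0 _ (hγ x 1))
    have h3 := hadd _ h1 _ h2
    have h4 : c • (r1 x x * θ - θ * r1 x x) - (c ^ 2 * sf (θ *ᵥ x) x) • r1 x x +
        -(c • ((1 : F) • (r1 x x * θ - θ * r1 x x) - ((1 : F) ^ 2 * sf (θ *ᵥ x) x) • r1 x x)) =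
        (c * (1 - c) * sf (θ *ᵥ x) x) • r1 x x := by
      module
    rw [h4] at h3
    have hne : c * (1 - c) * sf (θ *ᵥ x) x ≠ 0 :=
      mul_ne_zero (mul_ne_zero hc0 (sub_ne_zero.mpr (Ne.symm hc1))) hs
    have h5 := hsmul _ (inv_ne_zero hne) _ h3
    rw [smul_smul, inv_mul_cancel₀ hne, one_smul] at h5
    exact ⟨x, x, hx, hx, h5⟩
  · right
    push Not at hA
    obtain ⟨x, hind⟩ := Cfsg.Agent.Lib.Helper27.SpTNLeaf.exists_not_eigen θ hns
    have hpol : ∀ v : Fin a → F, sf (θ *ᵥ v) x = sf v (θ *ᵥ x) := by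
      intro v
      have h1 := hA (v + x)
      rw [Matrix.mulVec_add, sf_add_left, sf_add_right, sf_add_right, hA v, hA x] at h1
      rw [sf_skew v (θ *ᵥ x)]
      linear_combination h1
    refine ⟨x, θ *ᵥ x, hind, ?_, ?_⟩
    · rw [sf_skew, hA x, neg_zero]
    · have h1 := hγ x 1
      rw [hA x] at h1
      have : (1 : F) • (r1 x x * θ - θ * r1 x x) - ((1 : F) ^ 2 * 0) • r1 x x =
          r1 x (θ *ᵥ x) - r1 (θ *ᵥ x) x := by
        apply mat_ext_mulVec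
        intro v
        simp only [← Matrix.mulVec_mulVec, Matrix.sub_mulVec, Matrix.smul_mulVec, r1_mulVec,
          Matrix.mulVec_smul, hpol]
        module
      rw [this] at h1
      exact h1

end Cfsg.Agent.Lib.Helper19.SpTNLeaf
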