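import Mathlib
import Cfsg.Agent.Lib.Helper25.SpTK
import Cfsg.Agent.Lib.Helper25.TensS
import Cfsg.Agent.Lib.Helper19.SpTNDefs
import Cfsg.Agent.Lib.Helper19.SpTNBridge

set_option autoImplicit false
set_option linter.unusedSectionVars false
set_option linter.unusedVariables false

namespace Cfsg.Agent.Lib.Helper19.SpTNLeaf
open Matrix QuadraticMap
open Cfsg.Agent.Lib.Helper25.Tens Cfsg.Agent.Lib.Helper25.TensLeaves Cfsg.Agent.Lib.Helper19.OSub
open Cfsg.Agent.Lib.Helper25.SpT Cfsg.Agent.Lib.Helper19.SpTN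
open scoped Kronecker commutatorElement

variable {F : Type*} [Field F] [Fintype F] {a b : ℕ} {Q : QuadraticForm F (Idx a b → F)}
  {M : Subgroup (GL (Idx a b) F)}

/-- (A4) a totally isotropic pair needs `a ≥ 4` -/
theorem four_le_of_ti_pair (ea : Even a) {x₀ x₁ : Fin a → F}
    (hind : LinearIndependent F ![x₀, x₁]) (hsf : sf x₀ x₁ = 0) : 4 ≤ a := by
  have h2 : 2 ≤ a := by
    have := hind.fintype_card_le_finrank
    simpa using this
  by_contra hlt
  have ha : a = 2 := by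
    obtain ⟨j, hj⟩ := ea
    omega
  have hspan : Submodule.span F (Set.range ![x₀, x₁]) = ⊤ := by
    apply Submodule.eq_top_of_finrank_eq
    rw [finrank_span_eq_card hind]
    simp [ha]
  have hx₀ : x₀ ≠ 0 := by
    have := hind.ne_zero 0
    simpa using this
  obtain ⟨y, hy⟩ := exists_sf_ne_zero ea hx₀
  have hy' : y ∈ Submodule.span F (Set.range ![x₀, x₁]) := by rw [hspan]; trivial
  have hr : Set.range ![x₀, x₁] = {x₀, x₁} := by
    ext z
    simp [eq_comm, or_comm]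
  rw [hr, Submodule.mem_span_pair] at hy'
  obtain ⟨α, β, rfl⟩ := hy'
  apply hy
  rw [sf_add_right, sf_smul_right, sf_smul_right, sf_self, hsf]
  ring

section torus
variable (o o' : Fin b)

private lemma sf_o'_o (ho : o.val = 0) (ho' : o'.val = 1) :
    sf (Pi.single o' (1 : F) : Fin b → F) (Pi.single o (1 : F)) = -1 := by
  rw [sf_skew, sf_o_o' o o' ho ho']

private lemma step_e (ho : o.val = 0) (ho' : o'.val = 1) (x : Fin a → F) (c α β : F) :
    mv (kB (Pi.single o 1) c : GL (Idx a b) F)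
      (pt x (α • (Pi.single o (1 : F) : Fin b → F) + β • Pi.single o' 1)) =
      pt x ((α - c * β) • (Pi.single o (1 : F) : Fin b → F) + β • Pi.single o' 1) := by
  rw [mv_kB_pt]
  congr 1
  rw [sf_add_left, sf_smul_left, sf_smul_left, sf_self, sf_o'_o o o' ho ho']
  module

private lemma step_f (ho : o.val = 0) (ho' : o'.val = 1) (x : Fin a → F) (c α β : F) :
    mv (kB (Pi.single o' 1) c : GL (Idx a b) F)
      (pt x (α • (Pi.single o (1 : F) : Fin b → F) + β • Pi.single o' 1)) =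
      pt x (α • (Pi.single o (1 : F) : Fin b → F) + (β + c * α) • Pi.single o' 1) := by
  rw [mv_kB_pt]
  congr 1
  rw [sf_add_left, sf_smul_left, sf_smul_left, sf_self, sf_o_o' o o' ho ho']
  module

end torus

/-- (B3) the torus `1 ⊗ diag(t, t⁻¹)` on `⟨e_o, e_o'⟩` as a product of `kB`'s -/
theorem exists_torus (h : MCtx a b Q M) (o o' : Fin b) (ho : o.val = 0) (ho' : o'.val = 1)
    (t : F) (ht : t ≠ 0) :
    ∃ T ∈ M, (∀ x : Fin a → F, mv T (pt x (Pi.single o 1)) = t • pt x (Pi.single o 1)) ∧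
      ∀ l : Fin b, l ≠ o → l ≠ o' → ∀ x : Fin a → F,
        mv T (pt x (Pi.single l 1)) = pt x (Pi.single l 1) := by
  refine ⟨kB (Pi.single o 1) (-t) * kB (Pi.single o' 1) (-t⁻¹) * kB (Pi.single o 1) (-t) *
    kB (Pi.single o 1) 1 * kB (Pi.single o' 1) 1 * kB (Pi.single o 1) 1, ?_, ?_, ?_⟩
  · exact M.mul_mem (M.mul_mem (M.mul_mem (M.mul_mem (M.mul_mem (kB_mem h _ _) (kB_mem h _ _))
      (kB_mem h _ _)) (kB_mem h _ _)) (kB_mem h _ _)) (kB_mem h _ _)
  · intro x
    have h0 : pt x (Pi.single o (1 : F) : Fin b → F) =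
        pt x ((1 : F) • (Pi.single o (1 : F) : Fin b → F) + (0 : F) • Pi.single o' 1) := by
      congr 1
      module
    rw [h0]
    simp only [mv_mul, step_e o o' ho ho', step_f o o' ho ho']
    rw [← pt_smul_right]
    congr 1
    have e1 : (1 - 1 * 0 - 1 * (0 + 1 * (1 - 1 * 0)) - -t * (0 + 1 * (1 - 1 * 0)) -
        -t * (0 + 1 * (1 - 1 * 0) + -t⁻¹ * (1 - 1 * 0 - 1 * (0 + 1 * (1 - 1 * 0)) -
          -t * (0 + 1 * (1 - 1 * 0))))) = t := by
      field_simp
      ring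
    have e2 : (0 + 1 * (1 - 1 * 0) + -t⁻¹ * (1 - 1 * 0 - 1 * (0 + 1 * (1 - 1 * 0)) -
        -t * (0 + 1 * (1 - 1 * 0)))) = (0 : F) := by
      field_simp
      ring
    rw [e1, e2]
    module
  · intro l hl hl' x
    have h1 : sf (Pi.single l (1 : F) : Fin b → F) (Pi.single o 1) = 0 := by
      apply sf_single_eq_zero h.eb
      intro e
      apply hl'
      rw [← pr_pr h.eb l, ← e, pr_o h.eb o o' ho ho']
    have h2 : sf (Pi.single l (1 : F) : Fin b → F) (Pi.single o' 1) = 0 := by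
      apply sf_single_eq_zero h.eb
      intro e
      apply hl
      rw [← pr_pr h.eb l, ← e, pr_o' h.eb o o' ho ho']
    simp only [mv_mul, mv_kB_pt, h1, h2, mul_zero, zero_smul, add_zero]

/-- (B3') `SB` is closed under scalars -/
theorem SB_smul (h : MCtx a b Q M) (o o' : Fin b) (ho : o.val = 0) (ho' : o'.val = 1) (l : Fin b)
    (t : F) (ht : t ≠ 0) {θ : Matrix (Fin a) (Fin a) F} (hθ : θ ∈ SB o o' l M) :
    t • θ ∈ SB o o' l M := by
  obtain ⟨g, hgM, hU⟩ := hθ
  obtain ⟨T, hTM, hTo, hTl⟩ := exists_torus h o o' ho ho' t ht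
  refine ⟨T * g * T⁻¹, M.mul_mem (M.mul_mem hTM hgM) (M.inv_mem hTM), ?_, ?_⟩
  · intro x
    have h1 : mv T⁻¹ (pt x (Pi.single o 1)) = t⁻¹ • pt x (Pi.single o 1) := by
      apply mv_injective T
      rw [mv_mv_inv, mv_smul, hTo, smul_smul, inv_mul_cancel₀ ht, one_smul]
    rw [mv_mul, mv_mul, h1, mv_smul, hU.fixW, mv_smul, hTo, smul_smul, inv_mul_cancel₀ ht,
      one_smul]
  · intro l' hl' hl'' x
    have h1 : mv T⁻¹ (pt x (Pi.single l' 1)) = pt x (Pi.single l' 1) := by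
      apply mv_injective T
      rw [mv_mv_inv, hTl l' hl' hl'']
    rw [mv_mul, mv_mul, h1, hU.act l' hl' hl'', mv_add, hTl l' hl' hl'', hTo]
    congr 1
    rw [← pt_smul_left, ← Matrix.smul_mulVec]
    congr 2
    unfold sgl
    split_ifs <;> simp

end Cfsg.Agent.Lib.Helper19.SpTNLeaf
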