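import Mathlib
import Cfsg.Agent.Lib.Helper25.SpTK
import Cfsg.Agent.Lib.Helper25.TensS
import Cfsg.Agent.Lib.Helper19.SpTNDefs
import Cfsg.Agent.Lib.Helper19.SpTNBridge
import Cfsg.Agent.Lib.Helper13.SpTNB5
import Cfsg.Agent.Lib.Helper13.SpTNB1

set_option autoImplicit false
set_option linter.unusedSectionVars false
set_option linter.unusedVariables false

namespace Cfsg.Agent.Lib.Helper19.SpTNLeaf
open Matrix QuadraticMap
open Cfsg.Agent.Lib.Helper25.Tens Cfsg.Agent.Lib.Helper25.TensLeaves Cfsg.Agent.Lib.Helper19.OSub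
open Cfsg.Agent.Lib.Helper25.SpT Cfsg.Agent.Lib.Helper19.SpTN
open scoped Kronecker commutatorElement

variable {F : Type*} [Field F] [Fintype F] {a b : ℕ} {Q : QuadraticForm F (Idx a b → F)}
  {M : Subgroup (GL (Idx a b) F)}

/-- `J (pr l) l * J (pr l) l = 1` -/
theorem Jm_pr_left_sq (eb : Even b) (l : Fin b) :
    (Jm b (pr eb l) l : F) * Jm b (pr eb l) l = 1 := by
  have h := Jm_pr (F := F) eb (pr eb l)
  rw [pr_pr] at h
  rw [h]
  split_ifs <;> simp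

/-- the root element `rt (x₀ ⊗ e_o) (x₁ ⊗ e_{l'}) c₁` is of `U_W`-form with the single block
`-(c₁ J(l',l)) • r1 x₀ x₁` ... stated for the normalised `c₁ = J(l',l)` -/
theorem UW_rt (h : Ctx a b Q) (o o' : Fin b) (ho : o.val = 0) (ho' : o'.val = 1)
    (l : Fin b) (hl : l ≠ o) (hl' : l ≠ o') (x₀ x₁ : Fin a → F) :
    UW o o' (rt Q (pt x₀ (Pi.single o 1)) (pt x₁ (Pi.single (pr h.eb l) 1)) (Jm b (pr h.eb l) l))
      (sgl l (r1 x₀ x₁)) := by
  have hlp : pr h.eb l ≠ o' := by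
    intro e
    apply hl
    rw [← pr_pr h.eb l, e, pr_o' h.eb o o' ho ho']
  have hlpo : pr h.eb l ≠ o := by
    intro e
    apply hl'
    rw [← pr_pr h.eb l, e, pr_o h.eb o o' ho ho']
  have hu : Q (pt x₀ (Pi.single o 1)) = 0 := h.pure _ _
  have hv : Q (pt x₁ (Pi.single (pr h.eb l) 1)) = 0 := h.pure _ _
  have hoz : ∀ m : Fin b, m ≠ o' → sf (Pi.single o (1 : F) : Fin b → F) (Pi.single m 1) = 0 := by
    intro m hm
    apply sf_single_eq_zero h.eb
    rw [pr_o h.eb o o' ho ho']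
    exact hm
  have huv : polar Q (pt x₀ (Pi.single o 1)) (pt x₁ (Pi.single (pr h.eb l) 1)) = 0 := by
    rw [h.pol, hoz _ hlp, mul_zero]
  constructor
  · intro x
    rw [mv_rt hu hv huv, h.pol, h.pol, sf_self, mul_zero, zero_smul, zero_sub,
      sf_single_eq_zero h.eb (pr h.eb l) o (by rw [pr_pr]; exact hl.symm), mul_zero, zero_smul,
      neg_zero, smul_zero, add_zero]
  · intro m hm hm' x
    rw [mv_rt hu hv huv, h.pol, h.pol, hoz m hm', mul_zero, zero_smul, zero_sub]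
    by_cases hml : m = l
    · subst hml
      rw [sf_single_single]
      unfold sgl
      rw [if_pos rfl, r1_mulVec, pt_smul_left, smul_neg, ← neg_smul, smul_smul]
      congr 2
      have hJ := Jm_pr_left_sq (F := F) h.eb m
      rw [sf_skew x x₁]
      linear_combination (-(sf x₁ x)) * hJ
    · rw [sf_single_eq_zero h.eb (pr h.eb l) m (by rw [pr_pr]; exact hml), mul_zero, zero_smul,
        neg_zero, smul_zero]
      unfold sgl
      rw [if_neg hml, Matrix.zero_mulVec, pt_zero_left]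

/-- the commutator of `kB e_l ν` with the root element `rt (x₀ ⊗ e_o) (x₁ ⊗ e_{l'}) c₁` -/
theorem comm_kB_rt (h : Ctx a b Q) (o o' : Fin b) (ho : o.val = 0) (ho' : o'.val = 1)
    (l : Fin b) (hl : l ≠ o) (hl' : l ≠ o') (x₀ x₁ : Fin a → F) (ν c₁ : F) :
    ⁅(kB (Pi.single l 1) ν : GL (Idx a b) F),
      rt Q (pt x₀ (Pi.single o 1)) (pt x₁ (Pi.single (pr h.eb l) 1)) c₁⁆ =
      rt Q (pt x₀ (Pi.single o 1)) (pt x₁ (Pi.single l 1)) (ν * Jm b (pr h.eb l) l * c₁) := by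
  have hlp : pr h.eb l ≠ o' := by
    intro e
    apply hl
    rw [← pr_pr h.eb l, e, pr_o' h.eb o o' ho ho']
  have hoz : ∀ m : Fin b, m ≠ o' → sf (Pi.single o (1 : F) : Fin b → F) (Pi.single m 1) = 0 := by
    intro m hm
    apply sf_single_eq_zero h.eb
    rw [pr_o h.eb o o' ho ho']
    exact hm
  set u := pt x₀ (Pi.single o (1 : F) : Fin b → F) with hudef
  set v := pt x₁ (Pi.single (pr h.eb l) (1 : F) : Fin b → F) with hvdef
  set v' := pt x₁ (Pi.single l (1 : F) : Fin b → F) with hv'def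
  have hu : Q u = 0 := h.pure _ _
  have hv : Q v = 0 := h.pure _ _
  have hv' : Q v' = 0 := h.pure _ _
  have huv : polar Q u v = 0 := by rw [h.pol, hoz _ hlp, mul_zero]
  have huv' : polar Q u v' = 0 := by rw [h.pol, hoz _ hl', mul_zero]
  have hvv' : polar Q v v' = 0 := by rw [h.pol, sf_self, zero_mul]
  set t : F := ν * Jm b (pr h.eb l) l with htdef
  have hsv' : Q (t • v') = 0 := by rw [QuadraticMap.map_smul, hv', smul_zero]
  have husv' : polar Q u (t • v') = 0 := by rw [polar_smul_right, huv', smul_zero]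
  have hvsv' : polar Q v (t • v') = 0 := by rw [polar_smul_right, hvv', smul_zero]
  have hsv'v : polar Q (t • v') v = 0 := by rw [polar_comm]; exact hvsv'
  have hk : (kB (Pi.single l 1) ν : GL (Idx a b) F) ∈ Cfsg.isometryGroup F ⇑Q := kB_mem_iso h _ _
  rw [commutatorElement_def, conj_rt hk]
  have e1 : mv (kB (Pi.single l 1) ν : GL (Idx a b) F) u = u := by
    rw [hudef, mv_kB_pt, hoz l hl', mul_zero, zero_smul, add_zero]
  have e2 : mv (kB (Pi.single l 1) ν : GL (Idx a b) F) v = v + t • v' := by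
    rw [hvdef, mv_kB_pt, pt_add_right, pt_smul_right, sf_single_single]
  rw [e1, e2, rt_add_right hu hv hsv' huv husv' hvsv', rt_inv]
  have hcomm : rt Q u v c₁ * rt Q u (t • v') c₁ = rt Q u (t • v') c₁ * rt Q u v c₁ := by
    rw [← rt_add_right hu hv hsv' huv husv' hvsv', ← rt_add_right hu hsv' hv husv' huv hsv'v,
      add_comm]
  rw [hcomm, mul_assoc, rt_mul, add_neg_cancel, rt_zero, mul_one, rt_smul_right hu hv' huv']

/-- (B6) a rank one block gives a T3 root element -/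
theorem rt_of_rank_one (h : MCtx a b Q M) (o o' : Fin b) (ho : o.val = 0) (ho' : o'.val = 1)
    (l : Fin b) (hl : l ≠ o) (hl' : l ≠ o') (x₀ x₁ : Fin a → F)
    (hθ : r1 x₀ x₁ ∈ SB o o' l M) :
    ∃ c : F, c ≠ 0 ∧ rt Q (pt x₀ (Pi.single o 1)) (pt x₁ (Pi.single l 1)) c ∈ M := by
  obtain ⟨g, hgM, hUg⟩ := hθ
  have hgi : g ∈ Cfsg.isometryGroup F ⇑Q := M_le_iso h hgM
  have hUd := UW_rt h.toCtx o o' ho ho' l hl hl' x₀ x₁
  have hdi := rt_mem_iso (Q := Q) (pt x₀ (Pi.single o 1)) (pt x₁ (Pi.single (pr h.eb l) 1))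
    (Jm b (pr h.eb l) l)
  have hKZ := Cfsg.Agent.Lib.Helper13.SpTNLeaf.comm_kB_eq h.toCtx o o' ho ho' hgi hdi hUg hUd
    l hl hl' 1
  rw [comm_kB_rt h.toCtx o o' ho ho' l hl hl' x₀ x₁ 1, one_mul,
    Jm_pr_left_sq h.eb l] at hKZ
  refine ⟨1, one_ne_zero, ?_⟩
  rw [← hKZ, commutatorElement_def]
  exact M.mul_mem (M.mul_mem (M.mul_mem (kB_mem h _ _) hgM) (M.inv_mem (kB_mem h _ _)))
    (M.inv_mem hgM)

/-- two root elements with mutually orthogonal vectors commute -/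
theorem rt_commute {ι : Type} [Fintype ι] [DecidableEq ι] {Q₀ : QuadraticForm F (ι → F)}
    {u v u' v' : ι → F} (hu : Q₀ u = 0) (hv : Q₀ v = 0) (huv : polar Q₀ u v = 0)
    (hu' : Q₀ u' = 0) (hv' : Q₀ v' = 0) (hu'v' : polar Q₀ u' v' = 0)
    (h1 : polar Q₀ u u' = 0) (h2 : polar Q₀ u v' = 0) (h3 : polar Q₀ v u' = 0)
    (h4 : polar Q₀ v v' = 0) (c c' : F) :
    rt Q₀ u v c * rt Q₀ u' v' c' = rt Q₀ u' v' c' * rt Q₀ u v c := by
  have h1' : polar Q₀ u' u = 0 := by rw [polar_comm]; exact h1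
  have h2' : polar Q₀ v' u = 0 := by rw [polar_comm]; exact h2
  have h3' : polar Q₀ u' v = 0 := by rw [polar_comm]; exact h3
  have h4' : polar Q₀ v' v = 0 := by rw [polar_comm]; exact h4
  apply gl_ext
  intro x
  rw [mv_mul, mv_mul, mv_rt hu hv huv, mv_rt hu' hv' hu'v', mv_rt hu hv huv, mv_rt hu' hv' hu'v']
  simp only [polar_add_right, polar_smul_right, polar_sub_right, h1, h2, h3, h4, h1', h2', h3',
    h4', smul_zero, sub_zero, add_zero, zero_smul]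
  abel

/-- (B7) a t.i. bivector block gives a double root element -/
theorem double_of_bivector (h : MCtx a b Q M) (o o' : Fin b) (ho : o.val = 0) (ho' : o'.val = 1)
    (l : Fin b) (hl : l ≠ o) (hl' : l ≠ o') (x₀ x₁ : Fin a → F) (hsf : sf x₀ x₁ = 0)
    (hθ : r1 x₀ x₁ - r1 x₁ x₀ ∈ SB o o' l M) :
    ∃ c : F, c ≠ 0 ∧ rt Q (pt x₀ (Pi.single o 1)) (pt x₁ (Pi.single l 1)) c *
      rt Q (pt x₁ (Pi.single o 1)) (pt x₀ (Pi.single l 1)) (-c) ∈ M := by
  obtain ⟨g, hgM, hUg⟩ := hθ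
  have hgi : g ∈ Cfsg.isometryGroup F ⇑Q := M_le_iso h hgM
  set J : F := Jm b (pr h.eb l) l with hJ
  set lp := pr h.eb l with hlpdef
  set d₁ := rt Q (pt x₀ (Pi.single o 1)) (pt x₁ (Pi.single lp 1)) J with hd₁
  set d₂ := rt Q (pt x₁ (Pi.single o 1)) (pt x₀ (Pi.single lp 1)) (-J) with hd₂
  have hU₁ : UW o o' d₁ (sgl l (r1 x₀ x₁)) := UW_rt h.toCtx o o' ho ho' l hl hl' x₀ x₁
  have hU₂ : UW o o' d₂ (-sgl l (r1 x₁ x₀)) := by
    have := Cfsg.Agent.Lib.Helper13.SpTNLeaf.UW_inv o o' (UW_rt h.toCtx o o' ho ho' l hl hl' x₁ x₀)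
    rw [rt_inv] at this
    exact this
  have hUd : UW o o' (d₁ * d₂) (sgl l (r1 x₀ x₁ - r1 x₁ x₀)) := by
    have := Cfsg.Agent.Lib.Helper13.SpTNLeaf.UW_mul o o' hU₁ hU₂
    have e : sgl l (r1 x₀ x₁) + -sgl l (r1 x₁ x₀) = sgl l (r1 x₀ x₁ - r1 x₁ x₀) := by
      funext k
      simp only [Pi.add_apply, Pi.neg_apply, sgl]
      split_ifs <;> simp [sub_eq_add_neg]
    rw [e] at this
    exact this
  have hdi : d₁ * d₂ ∈ Cfsg.isometryGroup F ⇑Q :=
    (Cfsg.isometryGroup F ⇑Q).mul_mem (rt_mem_iso _ _ _) (rt_mem_iso _ _ _)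
  have hKZ := Cfsg.Agent.Lib.Helper13.SpTNLeaf.comm_kB_eq h.toCtx o o' ho ho' hgi hdi hUg hUd
    l hl hl' 1
  set k : GL (Idx a b) F := kB (Pi.single l 1) 1 with hk
  have hc₁ : ⁅k, d₁⁆ = rt Q (pt x₀ (Pi.single o 1)) (pt x₁ (Pi.single l 1)) 1 := by
    rw [hd₁, comm_kB_rt h.toCtx o o' ho ho' l hl hl' x₀ x₁ 1, one_mul, Jm_pr_left_sq h.eb l]
  have hc₂ : ⁅k, d₂⁆ = rt Q (pt x₁ (Pi.single o 1)) (pt x₀ (Pi.single l 1)) (-1) := by
    rw [hd₂, comm_kB_rt h.toCtx o o' ho ho' l hl hl' x₁ x₀ 1, one_mul, mul_neg,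
      Jm_pr_left_sq h.eb l]
  have hlp : lp ≠ o' := by
    intro e
    apply hl
    rw [← pr_pr h.eb l, ← hlpdef, e, pr_o' h.eb o o' ho ho']
  have hoz : ∀ m : Fin b, m ≠ o' → sf (Pi.single o (1 : F) : Fin b → F) (Pi.single m 1) = 0 := by
    intro m hm
    apply sf_single_eq_zero h.eb
    rw [pr_o h.eb o o' ho ho']
    exact hm
  have hsf' : sf x₁ x₀ = 0 := by rw [sf_skew, hsf, neg_zero]
  have hcomm : d₁ * rt Q (pt x₁ (Pi.single o 1)) (pt x₀ (Pi.single l 1)) (-1) =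
      rt Q (pt x₁ (Pi.single o 1)) (pt x₀ (Pi.single l 1)) (-1) * d₁ := by
    apply rt_commute (h.pure _ _) (h.pure _ _) _ (h.pure _ _) (h.pure _ _)
    · rw [h.pol, hoz l hl', mul_zero]
    · rw [h.pol, hsf, zero_mul]
    · rw [h.pol, sf_self, zero_mul]
    · rw [h.pol, sf_self, zero_mul]
    · rw [h.pol, hsf', zero_mul]
    · rw [h.pol, hoz lp hlp, mul_zero]
  have hid : ⁅k, d₁ * d₂⁆ = ⁅k, d₁⁆ * (d₁ * ⁅k, d₂⁆ * d₁⁻¹) := by
    simp only [commutatorElement_def]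
    group
  refine ⟨1, one_ne_zero, ?_⟩
  have hfin : ⁅k, g⁆ = rt Q (pt x₀ (Pi.single o 1)) (pt x₁ (Pi.single l 1)) 1 *
      rt Q (pt x₁ (Pi.single o 1)) (pt x₀ (Pi.single l 1)) (-1) := by
    rw [hKZ, hid, hc₁, hc₂, hcomm, mul_assoc, mul_inv_cancel, mul_one]
  rw [← hfin, commutatorElement_def]
  exact M.mul_mem (M.mul_mem (M.mul_mem (kB_mem h _ _) hgM) (M.inv_mem (kB_mem h _ _)))
    (M.inv_mem hgM)

end Cfsg.Agent.Lib.Helper19.SpTNLeaf
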