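import Mathlib
import Cfsg.Agent.Lib.Helper25.SpTK
import Cfsg.Agent.Lib.Helper25.TensS
import Cfsg.Agent.Lib.Helper25.SpTNDefs
import Cfsg.Agent.Lib.Helper19.SpTNDefs
import Cfsg.Agent.Lib.Helper19.SpTNBridge
import Cfsg.Agent.Lib.Helper19.SpTNA1
import Cfsg.Agent.Lib.Helper19.SpTNA4B3
import Cfsg.Agent.Lib.Helper19.SpTNB67
import Cfsg.Agent.Lib.Helper13.SpTNB2
import Cfsg.Agent.Lib.Helper13.SpTNB4
import Cfsg.Agent.Lib.Helper25.SpTNB8
import Cfsg.Agent.Lib.Helper1.SpTNA2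

/-!
S5704 part (N1): the non-rigid half of Lemma N, assembled from the leaves of notes/S5704_N_leaves.lean:
`rootB_of_nonscalar` and `nonrigid_root` (helper25's interface).
-/

set_option autoImplicit false
set_option linter.unusedSectionVars false
set_option linter.unusedVariables false

namespace Cfsg.Agent.Lib.Helper19.SpTNMain
open Matrix QuadraticMap
open Cfsg.Agent.Lib.Helper25.Tens Cfsg.Agent.Lib.Helper25.TensLeaves Cfsg.Agent.Lib.Helper19.OSub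
open Cfsg.Agent.Lib.Helper25.SpT Cfsg.Agent.Lib.Helper19.SpTN
open scoped Kronecker commutatorElement

variable {F : Type*} [Field F] [Fintype F] {a b : ℕ} {Q : QuadraticForm F (Idx a b → F)}
  {M : Subgroup (GL (Idx a b) F)}

theorem pr_ne_o (eb : Even b) (o o' : Fin b) (ho : o.val = 0) (ho' : o'.val = 1) (l : Fin b)
    (hl : l ≠ o) (hl' : l ≠ o') : pr eb l ≠ o ∧ pr eb l ≠ o' := by
  constructor
  · intro e
    apply hl'
    rw [← pr_pr eb l, e, pr_o eb o o' ho ho']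
  · intro e
    apply hl
    rw [← pr_pr eb l, e, pr_o' eb o o' ho ho']

theorem linearIndependent_single_pair (o l : Fin b) (hl : l ≠ o) :
    LinearIndependent F ![(Pi.single o (1 : F) : Fin b → F), Pi.single l 1] := by
  rw [LinearIndependent.pair_iff]
  intro s t hst
  have h1 := congrFun hst o
  have h2 := congrFun hst l
  simp [hl, hl.symm] at h1 h2
  exact ⟨h1, h2⟩

/-- non-rigid case: a non-scalar block gives `RootB` -/
theorem rootB_of_nonscalar (h : MCtx a b Q M) (o o' : Fin b) (ho : o.val = 0) (ho' : o'.val = 1)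
    {g : GL (Idx a b) F} (hg : g ∈ M) {φ : Fin b → Matrix (Fin a) (Fin a) F} (hU : UW o o' g φ)
    (l₀ : Fin b) (hl : l₀ ≠ o) (hl' : l₀ ≠ o') (hns : ¬ IsScalarMat (φ l₀)) : RootB Q M := by
  obtain ⟨ε, hε, hθ⟩ := Cfsg.Agent.Lib.Helper13.SpTNLeaf.isolate h o o' ho ho' hg hU l₀ hl hl'
  set l := pr h.eb l₀ with hldef
  obtain ⟨hlo, hlo'⟩ := pr_ne_o h.eb o o' ho ho' l₀ hl hl'
  have hns' : ¬ IsScalarMat (ε • φ l₀) := by
    rintro ⟨c, hc⟩
    apply hns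
    refine ⟨ε⁻¹ * c, ?_⟩
    rw [mul_smul, ← hc, smul_smul, inv_mul_cancel₀ hε, one_smul]
  have hsfol : sf (Pi.single o (1 : F) : Fin b → F) (Pi.single l 1) = 0 := by
    apply sf_single_eq_zero h.eb
    rw [pr_o h.eb o o' ho ho']
    exact hlo'
  have key : (∃ x₀ x₁ : Fin a → F, x₀ ≠ 0 ∧ x₁ ≠ 0 ∧ r1 x₀ x₁ ∈ SB o o' l M) ∨
      (∃ x₀ x₁ : Fin a → F, LinearIndependent F ![x₀, x₁] ∧ sf x₀ x₁ = 0 ∧
        r1 x₀ x₁ - r1 x₁ x₀ ∈ SB o o' l M) := by
    by_cases hF : 3 ≤ Fintype.card F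
    · exact Cfsg.Agent.Lib.Helper19.SpTNLeaf.lemmaA hF (SB o o' l M)
        (fun θ hθ θ' hθ' => Cfsg.Agent.Lib.Helper13.SpTNLeaf.SB_add o o' l hθ hθ')
        (fun θ hθ => Cfsg.Agent.Lib.Helper13.SpTNLeaf.SB_neg o o' l hθ)
        (fun t ht θ hθ => Cfsg.Agent.Lib.Helper19.SpTNLeaf.SB_smul h o o' ho ho' l t ht hθ)
        (fun x c θ hθ => Cfsg.Agent.Lib.Helper13.SpTNLeaf.SB_conj h o o' l hθ x c) _ hθ hns'
    · have hF2 : Fintype.card F = 2 := by
        have := Fintype.one_lt_card (α := F)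
        omega
      have ha4 : 4 ≤ a := by
        have h1 := h.ha
        obtain ⟨j, hj⟩ := h.ea
        have h2 : a ≠ 2 := fun e => h.hex ⟨hF2, e⟩
        omega
      exact Cfsg.Agent.Lib.Helper1.SpTNLeaf.lemmaA2 hF2 h.ea ha4 (SB o o' l M)
        (fun θ hθ θ' hθ' => Cfsg.Agent.Lib.Helper13.SpTNLeaf.SB_add o o' l hθ hθ')
        (fun θ hθ => Cfsg.Agent.Lib.Helper13.SpTNLeaf.SB_neg o o' l hθ)
        (fun x c θ hθ => Cfsg.Agent.Lib.Helper13.SpTNLeaf.SB_conj h o o' l hθ x c) _ hθ hns'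
  rcases key with ⟨x₀, x₁, hx₀, hx₁, hr⟩ | ⟨x₀, x₁, hind, hsf, hr⟩
  · obtain ⟨c, hc, hrt⟩ :=
      Cfsg.Agent.Lib.Helper19.SpTNLeaf.rt_of_rank_one h o o' ho ho' l hlo hlo' x₀ x₁ hr
    exact ⟨x₀, x₁, Pi.single o 1, Pi.single l 1, c, hc, hx₀, hx₁,
      linearIndependent_single_pair o l hlo, by rw [hsfol, mul_zero], hrt⟩
  · obtain ⟨c, hc, hd⟩ :=
      Cfsg.Agent.Lib.Helper19.SpTNLeaf.double_of_bivector h o o' ho ho' l hlo hlo' x₀ x₁ hsf hr
    exact Cfsg.Agent.Lib.Helper25.SpTNLeaf.rootB_of_double h o o' ho ho' l hlo hlo' x₀ x₁ hind hsf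
      (Cfsg.Agent.Lib.Helper19.SpTNLeaf.four_le_of_ti_pair h.ea hind hsf) c hc hd

/-- (N1) the non-rigid half of Lemma N, in helper25's interface (`NR`, `UF` of `Helper25.SpTNDefs`) -/
theorem nonrigid_root (h : MCtx a b Q M) (o o' : Fin b) (ho : o.val = 0) (ho' : o'.val = 1)
    (hNR : NR o o' M) : RootB Q M := by
  obtain ⟨g, hgM, hUF, l, hl, hl', hns⟩ := hNR
  have hoo' : o ≠ o' := by
    intro e
    rw [e] at ho
    omega
  exact rootB_of_nonscalar h o o' ho ho' hgM (UW_of_UF o o' hoo' g hUF) l hl hl' hns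

end Cfsg.Agent.Lib.Helper19.SpTNMain
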