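/-
Helper19 library: fast encodings for kernel computations with `4 × 4` matrices over `ZMod 3` (index type
`Fin 2 ⊕ Fin 2`, as for the symplectic group) and over a concrete model `F4` of the field with four elements; a matrix
is a natural number with sixteen digits in base 4.
-/
import Mathlib
import Cfsg.Agent.Lib.Helper3.J1.EncN
import Cfsg.Agent.Lib.Helper19.G2Enc

set_option autoImplicit false

namespace Cfsg.Agent.Lib.Helper19.U4Enc

open Cfsg.Agent.Lib.Helper3.J1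

/-- the index type of the symplectic matrices. -/
abbrev I4 : Type := Fin 2 ⊕ Fin 2

/-- the position of an index. -/
def pos4 : I4 → ℕ
  | Sum.inl i => i.val
  | Sum.inr i => 2 + i.val

/-- the `c`-th digit in base 4. -/
def dq (x c : ℕ) : ℕ := x / 4 ^ c % 4

theorem dq_lt (x c : ℕ) : dq x c < 4 := Nat.mod_lt _ (by norm_num)

/-- an entry of the product over `ZMod 3`. -/
def entS (a b i j : ℕ) : ℕ :=
  (dq a (4 * i) * dq b j + dq a (4 * i + 1) * dq b (4 + j) + dq a (4 * i + 2) * dq b (8 + j) +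
    dq a (4 * i + 3) * dq b (12 + j)) % 3

/-- the entries of the product over `ZMod 3`. -/
def entLS (a b : ℕ) : List ℕ :=
  [entS a b 0 0, entS a b 0 1, entS a b 0 2, entS a b 0 3, entS a b 1 0, entS a b 1 1, entS a b 1 2,
   entS a b 1 3, entS a b 2 0, entS a b 2 1, entS a b 2 2, entS a b 2 3, entS a b 3 0, entS a b 3 1,
   entS a b 3 2, entS a b 3 3]

/-- product of encoded matrices over `ZMod 3`. -/
def mulS (a b : ℕ) : ℕ := horner 4 (entLS a b)

/-- decoding over `ZMod 3`. -/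
def decS (a : ℕ) : Matrix I4 I4 (ZMod 3) :=
  Matrix.of fun i j => ((dq a (4 * pos4 i + pos4 j) : ℕ) : ZMod 3)

theorem entS_lt (a b i j : ℕ) : entS a b i j < 4 :=
  lt_trans (Nat.mod_lt _ (by norm_num)) (by norm_num)

theorem dq_mulS (a b c : ℕ) : dq (mulS a b) c = (entLS a b).getD c 0 := by
  unfold dq mulS
  apply horner_digit 4 (by norm_num)
  intro x hx
  simp only [entLS, List.mem_cons, List.not_mem_nil, or_false] at hx
  rcases hx with rfl | rfl | rfl | rfl | rfl | rfl | rfl | rfl | rfl | rfl | rfl | rfl | rfl | rfl |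
    rfl | rfl <;> exact entS_lt _ _ _ _

theorem entLS_getD (a b : ℕ) (i j : I4) :
    (entLS a b).getD (4 * pos4 i + pos4 j) 0 = entS a b (pos4 i) (pos4 j) := by
  rcases i with i | i <;> rcases j with j | j <;> fin_cases i <;> fin_cases j <;> rfl

theorem cast_entS (a b i j : ℕ) :
    ((entS a b i j : ℕ) : ZMod 3) =
      ∑ k : I4, ((dq a (4 * i + pos4 k) : ℕ) : ZMod 3) * ((dq b (4 * pos4 k + j) : ℕ) : ZMod 3) := by
  rw [Fintype.sum_sum_type, Fin.sum_univ_two, Fin.sum_univ_two]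
  simp only [entS, ZMod.natCast_mod, pos4]
  simp only [Fin.val_zero, Fin.val_one, Nat.reduceAdd, add_zero, Nat.reduceMul, zero_add, mul_zero]
  push_cast
  ring

theorem decS_mul (a b : ℕ) : decS (mulS a b) = decS a * decS b := by
  ext i j
  rw [Matrix.mul_apply]
  simp only [decS, Matrix.of_apply]
  rw [dq_mulS, entLS_getD, cast_entS]

/-- the identity over `ZMod 3`. -/
def ONES : ℕ := 1 + 4 ^ 5 + 4 ^ 10 + 4 ^ 15

/-- minus the identity over `ZMod 3`. -/
def NEGS : ℕ := 2 * (1 + 4 ^ 5 + 4 ^ 10 + 4 ^ 15)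

theorem decS_one : decS ONES = 1 := by decide +kernel

theorem decS_neg : decS NEGS = -1 := by decide +kernel

/-- the code of a matrix over `ZMod 3`. -/
def encS (A : Matrix I4 I4 (ZMod 3)) : ℕ :=
  horner 4 [(A (Sum.inl 0) (Sum.inl 0)).val, (A (Sum.inl 0) (Sum.inl 1)).val,
    (A (Sum.inl 0) (Sum.inr 0)).val, (A (Sum.inl 0) (Sum.inr 1)).val,
    (A (Sum.inl 1) (Sum.inl 0)).val, (A (Sum.inl 1) (Sum.inl 1)).val,
    (A (Sum.inl 1) (Sum.inr 0)).val, (A (Sum.inl 1) (Sum.inr 1)).val,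
    (A (Sum.inr 0) (Sum.inl 0)).val, (A (Sum.inr 0) (Sum.inl 1)).val,
    (A (Sum.inr 0) (Sum.inr 0)).val, (A (Sum.inr 0) (Sum.inr 1)).val,
    (A (Sum.inr 1) (Sum.inl 0)).val, (A (Sum.inr 1) (Sum.inl 1)).val,
    (A (Sum.inr 1) (Sum.inr 0)).val, (A (Sum.inr 1) (Sum.inr 1)).val]

/-- the field with four elements. -/
structure F4 where
  /-- the coefficients as binary digits. -/
  v : Fin 4
  deriving DecidableEq, Fintype

/-- multiplication of the codes `0, 1, 2 = ω, 3 = ω²`. -/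
def mul4 (a b : ℕ) : ℕ := if a = 0 then 0 else if b = 0 then 0 else (a + b - 2) % 3 + 1

/-- from natural numbers. -/
def toF4 (n : ℕ) : F4 := ⟨Fin.ofNat 4 n⟩

/-- addition. -/
def F4.add (a b : F4) : F4 := toF4 (a.v.val ^^^ b.v.val)

/-- multiplication. -/
def F4.mul (a b : F4) : F4 := toF4 (mul4 a.v.val b.v.val)

instance : Zero F4 := ⟨toF4 0⟩
instance : One F4 := ⟨toF4 1⟩
instance : Add F4 := ⟨F4.add⟩
instance : Mul F4 := ⟨F4.mul⟩
instance : Neg F4 := ⟨id⟩
instance : Inv F4 := ⟨fun a => F4.mul a a⟩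

theorem add_assoc' : ∀ a b c : F4, a + b + c = a + (b + c) := by decide
theorem zero_add' : ∀ a : F4, 0 + a = a := by decide
theorem add_zero' : ∀ a : F4, a + 0 = a := by decide
theorem add_comm' : ∀ a b : F4, a + b = b + a := by decide
theorem neg_add' : ∀ a : F4, -a + a = 0 := by decide
theorem mul_assoc' : ∀ a b c : F4, a * b * c = a * (b * c) := by decide
theorem one_mul' : ∀ a : F4, 1 * a = a := by decide
theorem mul_one' : ∀ a : F4, a * 1 = a := by decide
theorem mul_comm' : ∀ a b : F4, a * b = b * a := by decide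
theorem left_distrib' : ∀ a b c : F4, a * (b + c) = a * b + a * c := by decide
theorem right_distrib' : ∀ a b c : F4, (a + b) * c = a * c + b * c := by decide
theorem zero_mul' : ∀ a : F4, 0 * a = 0 := by decide
theorem mul_zero' : ∀ a : F4, a * 0 = 0 := by decide
theorem mul_inv' : ∀ a : F4, a ≠ 0 → a * a⁻¹ = 1 := by decide
theorem inv_zero' : (0 : F4)⁻¹ = 0 := by decide

instance : Field F4 where
  add_assoc := add_assoc'
  zero_add := zero_add'
  add_zero := add_zero'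
  add_comm := add_comm'
  neg_add_cancel := neg_add'
  mul_assoc := mul_assoc'
  one_mul := one_mul'
  mul_one := mul_one'
  mul_comm := mul_comm'
  left_distrib := left_distrib'
  right_distrib := right_distrib'
  zero_mul := zero_mul'
  mul_zero := mul_zero'
  nsmul := nsmulRec
  zsmul := zsmulRec
  exists_pair_ne := ⟨0, 1, by decide⟩
  mul_inv_cancel := mul_inv'
  inv_zero := inv_zero'
  nnqsmul := _
  nnqsmul_def := fun _ _ => rfl
  qsmul := _
  qsmul_def := fun _ _ => rfl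

theorem card_F4 : Fintype.card F4 = 4 := by decide

theorem toF4_xor : ∀ x y : Fin 4, toF4 (x.val ^^^ y.val) = toF4 x.val + toF4 y.val := by decide

theorem xor_lt4 : ∀ x y : Fin 4, x.val ^^^ y.val < 4 := by decide

theorem toF4_mul4 : ∀ x y : Fin 4, toF4 (mul4 x.val y.val) = toF4 x.val * toF4 y.val := by decide

theorem mul4_lt : ∀ x y : Fin 4, mul4 x.val y.val < 4 := by decide

/-- an entry of the product over `F4`. -/
def entU (a b i j : ℕ) : ℕ :=
  mul4 (dq a (4 * i)) (dq b j) ^^^ mul4 (dq a (4 * i + 1)) (dq b (4 + j)) ^^^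
    mul4 (dq a (4 * i + 2)) (dq b (8 + j)) ^^^ mul4 (dq a (4 * i + 3)) (dq b (12 + j))

/-- the entries of the product over `F4`. -/
def entLU (a b : ℕ) : List ℕ :=
  [entU a b 0 0, entU a b 0 1, entU a b 0 2, entU a b 0 3, entU a b 1 0, entU a b 1 1, entU a b 1 2,
   entU a b 1 3, entU a b 2 0, entU a b 2 1, entU a b 2 2, entU a b 2 3, entU a b 3 0, entU a b 3 1,
   entU a b 3 2, entU a b 3 3]

/-- product of encoded matrices over `F4`. -/
def mulU (a b : ℕ) : ℕ := horner 4 (entLU a b)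

/-- decoding over `F4`. -/
def decU (a : ℕ) : Matrix (Fin 4) (Fin 4) F4 :=
  Matrix.of fun i j => toF4 (dq a (4 * i.val + j.val))

theorem toF4_xor' (x y : ℕ) (hx : x < 4) (hy : y < 4) :
    toF4 (x ^^^ y) = toF4 x + toF4 y ∧ x ^^^ y < 4 :=
  ⟨toF4_xor ⟨x, hx⟩ ⟨y, hy⟩, xor_lt4 ⟨x, hx⟩ ⟨y, hy⟩⟩

theorem toF4_mul4' (x y : ℕ) (hx : x < 4) (hy : y < 4) :
    toF4 (mul4 x y) = toF4 x * toF4 y ∧ mul4 x y < 4 :=
  ⟨toF4_mul4 ⟨x, hx⟩ ⟨y, hy⟩, mul4_lt ⟨x, hx⟩ ⟨y, hy⟩⟩

theorem entU_spec (a b i j : ℕ) :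
    toF4 (entU a b i j) = toF4 (dq a (4 * i)) * toF4 (dq b j) +
      toF4 (dq a (4 * i + 1)) * toF4 (dq b (4 + j)) + toF4 (dq a (4 * i + 2)) * toF4 (dq b (8 + j)) +
        toF4 (dq a (4 * i + 3)) * toF4 (dq b (12 + j)) ∧ entU a b i j < 4 := by
  obtain ⟨m0, l0⟩ := toF4_mul4' _ _ (dq_lt a (4 * i)) (dq_lt b j)
  obtain ⟨m1, l1⟩ := toF4_mul4' _ _ (dq_lt a (4 * i + 1)) (dq_lt b (4 + j))
  obtain ⟨m2, l2⟩ := toF4_mul4' _ _ (dq_lt a (4 * i + 2)) (dq_lt b (8 + j))
  obtain ⟨m3, l3⟩ := toF4_mul4' _ _ (dq_lt a (4 * i + 3)) (dq_lt b (12 + j))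
  obtain ⟨x1, k1⟩ := toF4_xor' _ _ l0 l1
  obtain ⟨x2, k2⟩ := toF4_xor' _ _ k1 l2
  obtain ⟨x3, k3⟩ := toF4_xor' _ _ k2 l3
  refine ⟨?_, k3⟩
  unfold entU
  rw [x3, x2, x1, m0, m1, m2, m3]

theorem dq_mulU (a b c : ℕ) : dq (mulU a b) c = (entLU a b).getD c 0 := by
  unfold dq mulU
  apply horner_digit 4 (by norm_num)
  intro x hx
  simp only [entLU, List.mem_cons, List.not_mem_nil, or_false] at hx
  rcases hx with rfl | rfl | rfl | rfl | rfl | rfl | rfl | rfl | rfl | rfl | rfl | rfl | rfl | rfl |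
    rfl | rfl <;> exact (entU_spec _ _ _ _).2

theorem entLU_getD (a b : ℕ) (i j : Fin 4) :
    (entLU a b).getD (4 * i.val + j.val) 0 = entU a b i.val j.val := by
  fin_cases i <;> fin_cases j <;> rfl

theorem decU_mul (a b : ℕ) : decU (mulU a b) = decU a * decU b := by
  ext i j
  rw [Matrix.mul_apply, Fin.sum_univ_four]
  simp only [decU, Matrix.of_apply]
  rw [dq_mulU, entLU_getD, (entU_spec a b i.val j.val).1]
  simp only [Fin.val_zero, Fin.val_one, Fin.val_two, mul_zero, zero_add, add_zero, mul_one]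
  rfl

/-- the identity over `F4`. -/
def ONEU : ℕ := 1 + 4 ^ 5 + 4 ^ 10 + 4 ^ 15

theorem decU_one : decU ONEU = 1 := by decide +kernel

/-- the code of a matrix over `F4`. -/
def encU (A : Matrix (Fin 4) (Fin 4) F4) : ℕ :=
  horner 4 [(A 0 0).v.val, (A 0 1).v.val, (A 0 2).v.val, (A 0 3).v.val, (A 1 0).v.val, (A 1 1).v.val,
    (A 1 2).v.val, (A 1 3).v.val, (A 2 0).v.val, (A 2 1).v.val, (A 2 2).v.val, (A 2 3).v.val,
    (A 3 0).v.val, (A 3 1).v.val, (A 3 2).v.val, (A 3 3).v.val]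

end Cfsg.Agent.Lib.Helper19.U4Enc
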