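/-
Helper19 library: recognising Sylow subgroups up to isomorphism: a subgroup whose order is the full power of `p`
dividing the group order is isomorphic to every Sylow `p`-subgroup; two homomorphisms with the same kernel have
isomorphic ranges.
-/
import Mathlib

set_option autoImplicit false

namespace Cfsg.Agent.Lib.Helper19.SylIso

/-- a subgroup of order `p ^ k` in a group whose order is not divisible by `p ^ (k + 1)` is isomorphic to every Sylow
`p`-subgroup. -/
theorem sylow_equiv_of_card {G : Type*} [Group G] [Finite G] {p : ℕ} [Fact p.Prime] (S : Subgroup G)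
    (k : ℕ) (hS : Nat.card S = p ^ k) (hG : ¬ p ^ (k + 1) ∣ Nat.card G) (P : Sylow p G) :
    Nonempty (P ≃* S) := by
  have hpS : IsPGroup p S := IsPGroup.of_card hS
  obtain ⟨Q, hQ⟩ := hpS.exists_le_sylow
  obtain ⟨n, hn⟩ := IsPGroup.iff_card.mp Q.isPGroup'
  have h1 : p ^ n ∣ Nat.card G := hn ▸ Subgroup.card_subgroup_dvd_card _
  have h2 : n ≤ k := by
    by_contra h
    push Not at h
    exact hG (dvd_trans (pow_dvd_pow p h) h1)
  have h3 : Nat.card S ∣ Nat.card Q := Subgroup.card_dvd_of_le hQ
  have h4 : k ≤ n := by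
    rw [hS, hn] at h3
    exact (Nat.pow_dvd_pow_iff_le_right (Fact.out : p.Prime).one_lt).mp h3
  have h5 : S = Q := by
    apply Subgroup.eq_of_le_of_card_ge hQ
    rw [hS, hn, le_antisymm h2 h4]
  exact ⟨(Sylow.equiv P Q).trans (MulEquiv.subgroupCongr h5.symm)⟩

/-- two homomorphisms with the same kernel have isomorphic ranges. -/
noncomputable def rangeEquiv {Γ A B : Type*} [Group Γ] [Group A] [Group B] (f₁ : Γ →* A) (f₂ : Γ →* B)
    (hker : f₁.ker = f₂.ker) : f₁.range ≃* f₂.range :=
  (QuotientGroup.quotientKerEquivRange f₁).symm.trans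
    ((QuotientGroup.quotientMulEquivOfEq hker).trans (QuotientGroup.quotientKerEquivRange f₂))

/-- the Sylow subgroups of two groups are isomorphic when both contain images, of the full `p`-power order, of a
group under homomorphisms with the same kernel. -/
theorem sylow_iso_of_graph {Γ A B : Type*} [Group Γ] [Group A] [Group B] [Finite A] [Finite B] {p : ℕ}
    [Fact p.Prime] (f₁ : Γ →* A) (f₂ : Γ →* B) (hker : f₁.ker = f₂.ker) (k : ℕ)
    (h₂ : Nat.card f₂.range = p ^ k) (hA : ¬ p ^ (k + 1) ∣ Nat.card A)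
    (hB : ¬ p ^ (k + 1) ∣ Nat.card B) (P : Sylow p A) (Q : Sylow p B) :
    Nonempty ((P : Subgroup A) ≃* (Q : Subgroup B)) := by
  have e : f₁.range ≃* f₂.range := rangeEquiv f₁ f₂ hker
  have h₁ : Nat.card f₁.range = p ^ k := by rw [Nat.card_congr e.toEquiv, h₂]
  obtain ⟨e1⟩ := sylow_equiv_of_card f₁.range k h₁ hA P
  obtain ⟨e2⟩ := sylow_equiv_of_card f₂.range k h₂ hB Q
  exact ⟨e1.trans (e.trans e2.symm)⟩

/-- the order of the range. -/
theorem card_range_mul_card_ker {Γ A : Type*} [Group Γ] [Group A] (f : Γ →* A) :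
    Nat.card f.ker * Nat.card f.range = Nat.card Γ := by
  rw [← Subgroup.index_ker]
  exact Subgroup.card_mul_index f.ker

end Cfsg.Agent.Lib.Helper19.SylIso
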