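/-
Helper19 library: the Sylow 2-subgroups of the alternating group of degree eight and of `PSp₄(3)` are isomorphic, from
a kernel-checked list of the 128 elements of a Sylow 2-subgroup of `Sp₄(3)` with their permutation images (kernel `±1`).
-/
import Mathlib
import Cfsg.Agent.Lib.Helper19.Syl1Check
import Cfsg.Agent.Lib.Helper19.ListClosureP
import Cfsg.Agent.Lib.Helper19.SylIso
import Cfsg.Agent.Lib.Helper14.SympCount
import Cfsg.Agent.S0246

set_option autoImplicit false

namespace Cfsg.Agent.Lib.Helper19.Syl1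

open Cfsg.Agent.Lib.Helper19.U4Enc Cfsg.Agent.Lib.Helper19.P8Enc Cfsg.Agent.Lib.Helper19.Syl1Check
open Cfsg.Agent.Lib.Helper19.ListClosureP Cfsg.Agent.Lib.Helper14

/-- the symplectic group over `ZMod 3`. -/
abbrev SpZ : Type := Matrix.symplecticGroup (Fin 2) (ZMod 3)

/-- matrices over `ZMod 3`. -/
abbrev MS : Type := Matrix I4 I4 (ZMod 3)

/-- the ambient group of the graph. -/
abbrev G1 : Type := SpZ × Equiv.Perm (Fin 8)

theorem A_mem (r : Fin 3) : decS (AE r.val) ∈ Matrix.symplecticGroup (Fin 2) (ZMod 3) := by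
  rw [SymplecticGroup.mem_iff]
  exact A_symp r.val (List.mem_range.2 r.isLt)

/-- the generators of the Sylow subgroup of `Sp₄(3)`. -/
def AG (r : Fin 3) : SpZ := ⟨decS (AE r.val), A_mem r⟩

/-- their images. -/
def PG (r : Fin 3) : Equiv.Perm (Fin 8) :=
  permOf (PE r.val) (PI r.val) (P_inv r.val (List.mem_range.2 r.isLt)).1
    (P_inv r.val (List.mem_range.2 r.isLt)).2

/-- the generating pairs. -/
def GH (r : Fin 3) : G1 := (AG r, PG r)

/-- the graph. -/
def Gam : Subgroup G1 := Subgroup.closure (Set.range GH)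

/-- the matrix and the map of a pair. -/
def code (p : G1) : MS × (Fin 8 → Fin 8) := ((p.1 : MS), ⇑p.2)

/-- the `i`-th pair. -/
def elt (i : ℕ) : MS × (Fin 8 → Fin 8) := (decS (Sc i), decP8 (Pc i))

theorem code_injective : Function.Injective code := by
  intro p q h
  exact Prod.ext (Subtype.ext (congrArg Prod.fst h)) (coe_perm_injective (congrArg Prod.snd h))

theorem GH_fin (r : Fin 3) : ∃ k : ℕ, GH r ^ (k + 1) = 1 := by
  refine ⟨orderOf (GH r) - 1, ?_⟩
  rw [Nat.sub_add_cancel (orderOf_pos (GH r))]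
  exact pow_orderOf_eq_one _

theorem certG : CertP code GH elt 128 (fun r i => Tt r.val i) par (fun i => Fin.ofNat 3 (gk i)) where
  pos := by norm_num
  one := by
    show ((1 : MS), (id : Fin 8 → Fin 8)) = (decS (Sc 0), decP8 (Pc 0))
    rw [Sc_zero, Pc_zero, decS_one, decP8_one]
  fin := GH_fin
  closed := by
    intro r i hi g hg
    obtain ⟨c1, c2, c3⟩ := closed i r.val hi r.isLt
    refine ⟨?_, c3⟩
    have h1 : ((g.1 : SpZ) : MS) = decS (Sc i) := congrArg Prod.fst hg
    have h2 : (⇑g.2 : Fin 8 → Fin 8) = decP8 (Pc i) := congrArg Prod.snd hg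
    refine Prod.ext ?_ ?_
    · show ((AG r * g.1 : SpZ) : MS) = _
      rw [Submonoid.coe_mul, h1]
      show decS (AE r.val) * decS (Sc i) = decS (Sc (Tt r.val i))
      rw [← decS_mul, c1]
    · show (⇑(PG r * g.2) : Fin 8 → Fin 8) = _
      rw [Equiv.Perm.coe_mul, h2]
      show decP8 (PE r.val) ∘ decP8 (Pc i) = decP8 (Pc (Tt r.val i))
      rw [← decP8_mul, c2]
  bfs := by
    intro i h0 hi
    obtain ⟨b1, b2, b3⟩ := bfs i h0 hi
    refine ⟨b1, ?_⟩
    show Tt (gk i % 3) (par i) = i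
    rw [Nat.mod_eq_of_lt b2, b3]

theorem decS_inj {i j : ℕ} (hi : i < 128) (hj : j < 128) (h : decS (Sc i) = decS (Sc j)) : i = j := by
  apply distinctL i (List.mem_range.2 hi) j (List.mem_range.2 hj)
  rw [← (distL i (List.mem_range.2 hi)).1, ← (distL j (List.mem_range.2 hj)).1, h]

theorem elt_inj (i j : ℕ) (hi : i < 128) (hj : j < 128) (h : elt i = elt j) : i = j :=
  decS_inj hi hj (congrArg Prod.fst h)

theorem card_Gam : Nat.card Gam = 128 := certG.card_eq code_injective elt_inj

theorem mem_Gam_index {p : G1} (hp : p ∈ Gam) :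
    ∃ i, i < 128 ∧ ((p.1 : SpZ) : MS) = decS (Sc i) ∧ (⇑p.2 : Fin 8 → Fin 8) = decP8 (Pc i) := by
  obtain ⟨i, hi, hc⟩ := certG.exists_index hp
  exact ⟨i, hi, congrArg Prod.fst hc, congrArg Prod.snd hc⟩

theorem snd_eq_one_iff {p : G1} (hp : p ∈ Gam) :
    p.2 = 1 ↔ (((p.1 : SpZ) : MS) = 1 ∨ ((p.1 : SpZ) : MS) = -1) := by
  obtain ⟨i, hi, h1, h2⟩ := mem_Gam_index hp
  have hk := kerL i (List.mem_range.2 hi)
  obtain ⟨d1, d2⟩ := distL i (List.mem_range.2 hi)
  obtain ⟨e1, e2, e3⟩ := enc_one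
  constructor
  · intro h
    have h5 : decP8 (Pc i) = decP8 ID8 := by
      rw [← h2, h, decP8_one]
      rfl
    have h3 : Pc i = ID8 := d2.symm.trans ((congrArg encP8 h5).trans e3)
    rcases hk.mp h3 with h4 | h4
    · left
      exact h1.trans ((congrArg decS h4).trans decS_one)
    · right
      exact h1.trans ((congrArg decS h4).trans decS_neg)
  · intro h
    have h3 : Sc i = ONES ∨ Sc i = NEGS := by
      rcases h with h | h
      · left
        have h5 : decS (Sc i) = decS ONES := h1.symm.trans (h.trans decS_one.symm)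
        exact d1.symm.trans ((congrArg encS h5).trans e1)
      · right
        have h5 : decS (Sc i) = decS NEGS := h1.symm.trans (h.trans decS_neg.symm)
        exact d1.symm.trans ((congrArg encS h5).trans e2)
    have h4 := hk.mpr h3
    apply coe_perm_injective
    show (⇑p.2 : Fin 8 → Fin 8) = ⇑(1 : Equiv.Perm (Fin 8))
    exact h2.trans ((congrArg decP8 h4).trans decP8_one)

theorem sign_PG (r : Fin 3) : Equiv.Perm.sign (PG r) = 1 := by
  fin_cases r <;> decide

theorem snd_even {p : G1} (hp : p ∈ Gam) : p.2 ∈ alternatingGroup (Fin 8) := by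
  have hle : Gam ≤ (alternatingGroup (Fin 8)).comap (MonoidHom.snd SpZ (Equiv.Perm (Fin 8))) := by
    apply (Subgroup.closure_le _).mpr
    rintro _ ⟨r, rfl⟩
    exact Equiv.Perm.mem_alternatingGroup.mpr (sign_PG r)
  exact hle hp

end Cfsg.Agent.Lib.Helper19.Syl1
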