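/-
Helper19 library: the Sylow 2-subgroups of the alternating group of degree eight and of `PSp₄(K)`, `|K| = 3`, are
isomorphic.
-/
import Mathlib
import Cfsg.Agent.Lib.Helper19.Syl1
import Cfsg.Prelude.Def_Classical

set_option autoImplicit false

namespace Cfsg.Agent.Lib.Helper19.Syl1

open Cfsg.Agent.Lib.Helper19.U4Enc Cfsg.Agent.Lib.Helper19.P8Enc Cfsg.Agent.Lib.Helper19.Syl1Check
open Cfsg.Agent.Lib.Helper19.ListClosureP Cfsg.Agent.Lib.Helper14 Cfsg.Agent.Lib.Helper19.SylIso

variable {K : Type*} [Field K] [Fintype K]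

/-- the symplectic group over `K`. -/
abbrev SpK (K : Type*) [Field K] : Type _ := Matrix.symplecticGroup (Fin 2) K

/-- the embedding of `ZMod 3`. -/
noncomputable def gK (hK : Fintype.card K = 3) : ZMod 3 ≃+* K :=
  ZMod.ringEquivOfPrime K Nat.prime_three hK

/-- the entrywise map between the symplectic groups. -/
noncomputable def chi (hK : Fintype.card K = 3) : SpZ →* SpK K :=
  MonoidHom.codRestrict
    ((RingHom.mapMatrix (gK hK).toRingHom).toMonoidHom.comp
      (Matrix.symplecticGroup (Fin 2) (ZMod 3)).subtype)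
    (Matrix.symplecticGroup (Fin 2) K) (fun s => SymplecticGroup.map_mem s.2 (gK hK).toRingHom)

theorem chi_val (hK : Fintype.card K = 3) (s : SpZ) :
    ((chi hK s : SpK K) : Matrix I4 I4 K) = (s : MS).map (gK hK) := rfl

theorem card_SpK (hK : Fintype.card K = 3) : Nat.card (SpK K) = 51840 := by
  rw [card_symplectic (F := K) 2, hK]
  norm_num [Finset.prod_range_succ]

theorem map_one_neg (hK : Fintype.card K = 3) :
    ((1 : MS).map (gK hK) = 1) ∧ ((-1 : MS).map (gK hK) = -1) := by
  constructor
  · ext i j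
    simp [Matrix.map_apply, Matrix.one_apply]
  · ext i j
    simp [Matrix.map_apply, Matrix.one_apply]

theorem map_inj (hK : Fintype.card K = 3) {A B : MS} (h : A.map (gK hK) = B.map (gK hK)) : A = B := by
  ext i j
  have h2 := congrFun (congrFun h i) j
  simp only [Matrix.map_apply] at h2
  exact (gK hK).injective h2

theorem central_of_val (s : SpK K)
    (h : (s : Matrix I4 I4 K) = 1 ∨ (s : Matrix I4 I4 K) = -1) :
    s ∈ Subgroup.center (SpK K) := by
  rw [Subgroup.mem_center_iff]
  intro t
  apply Subtype.ext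
  show (t : Matrix I4 I4 K) * (s : Matrix I4 I4 K) = (s : Matrix I4 I4 K) * (t : Matrix I4 I4 K)
  rcases h with h | h <;> rw [h] <;> simp

theorem chi_mem_center_iff (hK : Fintype.card K = 3) (s : SpZ) :
    chi hK s ∈ Subgroup.center (SpK K) ↔ ((s : MS) = 1 ∨ (s : MS) = -1) := by
  constructor
  · intro h
    rcases Cfsg.Agent.S0246.center_scalar 2 (by norm_num) (chi hK s) h with h1 | h1
    · left
      apply map_inj hK
      rw [← chi_val, h1, (map_one_neg hK).1]
    · right
      apply map_inj hK
      rw [← chi_val, h1, (map_one_neg hK).2]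
  · intro h
    apply central_of_val
    rw [chi_val]
    rcases h with h | h
    · left; rw [h]; exact (map_one_neg hK).1
    · right; rw [h]; exact (map_one_neg hK).2

/-- the map from the graph to `PSp₄(K)`. -/
noncomputable def f1 (hK : Fintype.card K = 3) : Gam →* Cfsg.PSp 2 K :=
  (QuotientGroup.mk' (Subgroup.center (SpK K))).comp
    ((chi hK).comp ((MonoidHom.fst SpZ (Equiv.Perm (Fin 8))).comp Gam.subtype))

/-- the map from the graph to the alternating group. -/
def f2 : Gam →* alternatingGroup (Fin 8) :=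
  ((MonoidHom.snd SpZ (Equiv.Perm (Fin 8))).comp Gam.subtype).codRestrict _ (fun x => snd_even x.2)

theorem mem_ker_f2 (x : Gam) : x ∈ f2.ker ↔ x.1.2 = 1 := by
  rw [MonoidHom.mem_ker]
  constructor
  · intro h
    exact congrArg Subtype.val h
  · intro h
    exact Subtype.ext h

theorem ker_eq (hK : Fintype.card K = 3) : (f1 hK).ker = f2.ker := by
  ext x
  rw [mem_ker_f2, snd_eq_one_iff x.2, ← chi_mem_center_iff hK, MonoidHom.mem_ker]
  show ((chi hK x.1.1 : SpK K) : Cfsg.PSp 2 K) = 1 ↔ _
  exact QuotientGroup.eq_one_iff _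

theorem neg_one_ne : (-1 : MS) ≠ 1 := by decide

theorem card_ker_le : Nat.card f2.ker ≤ 2 := by
  classical
  have hinj : Function.Injective (fun x : f2.ker => decide (((x.1.1.1 : SpZ) : MS) = 1)) := by
    intro x y h
    have hx := (mem_ker_f2 x.1).mp x.2
    have hy := (mem_ker_f2 y.1).mp y.2
    have hx' := (snd_eq_one_iff x.1.2).mp hx
    have hy' := (snd_eq_one_iff y.1.2).mp hy
    have h1 : ((x.1.1.1 : SpZ) : MS) = ((y.1.1.1 : SpZ) : MS) := by
      by_cases hc : ((x.1.1.1 : SpZ) : MS) = 1
      · have h2 : decide (((y.1.1.1 : SpZ) : MS) = 1) = true := by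
          rw [← show decide (((x.1.1.1 : SpZ) : MS) = 1) = decide (((y.1.1.1 : SpZ) : MS) = 1) from h]
          exact decide_eq_true hc
        rw [hc, of_decide_eq_true h2]
      · have h2 : decide (((y.1.1.1 : SpZ) : MS) = 1) = false := by
          rw [← show decide (((x.1.1.1 : SpZ) : MS) = 1) = decide (((y.1.1.1 : SpZ) : MS) = 1) from h]
          exact decide_eq_false hc
        have h3 := of_decide_eq_false h2
        rcases hx' with hx' | hx'
        · exact absurd hx' hc
        · rcases hy' with hy' | hy'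
          · exact absurd hy' h3
          · rw [hx', hy']
    apply Subtype.ext
    apply Subtype.ext
    exact Prod.ext (Subtype.ext h1) (hx.trans hy.symm)
  have := Nat.card_le_card_of_injective _ hinj
  rwa [Nat.card_eq_fintype_card (α := Bool), Fintype.card_bool] at this

theorem card_alt : Nat.card (alternatingGroup (Fin 8)) = 20160 := by
  have h := two_mul_nat_card_alternatingGroup (α := Fin 8)
  rw [Nat.card_perm, Nat.card_fin] at h
  have : (8 : ℕ).factorial = 40320 := by decide
  omega

theorem card_range : Nat.card f2.range = 2 ^ 6 := by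
  have h1 := card_range_mul_card_ker f2
  rw [card_Gam] at h1
  have h2 := card_ker_le
  have h3 : 0 < Nat.card f2.ker := Nat.card_pos
  have h4 : Nat.card f2.range ∣ 20160 := by
    rw [← card_alt]
    exact Subgroup.card_subgroup_dvd_card _
  have h5 : Nat.card f2.ker = 1 ∨ Nat.card f2.ker = 2 := by omega
  rcases h5 with h5 | h5
  · rw [h5] at h1
    exfalso
    have : Nat.card f2.range = 128 := by omega
    rw [this] at h4
    omega
  · rw [h5] at h1
    omega

theorem card_PSp (hK : Fintype.card K = 3) : Nat.card (Cfsg.PSp 2 K) = 25920 := by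
  have h1 : Nat.card (SpK K) = Nat.card (Cfsg.PSp 2 K) * Nat.card (Subgroup.center (SpK K)) :=
    Subgroup.card_eq_card_quotient_mul_card_subgroup (Subgroup.center (SpK K))
  rw [card_SpK hK, Cfsg.Agent.S0246.result hK 2 (by norm_num)] at h1
  have h5 : Nat.gcd 2 (3 - 1) = 2 := by norm_num
  rw [h5] at h1
  omega

theorem part1 (hK : Fintype.card K = 3) (P : Sylow 2 ↥(alternatingGroup (Fin 8)))
    (Q : Sylow 2 (Cfsg.PSp 2 K)) :
    Nonempty (↥(P : Subgroup ↥(alternatingGroup (Fin 8))) ≃* ↥(Q : Subgroup (Cfsg.PSp 2 K))) := by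
  have hfin : Finite (Cfsg.PSp 2 K) :=
    Nat.finite_of_card_ne_zero (by rw [card_PSp hK]; norm_num)
  obtain ⟨e⟩ := sylow_iso_of_graph (p := 2) (f1 hK) f2 (ker_eq hK) 6 card_range
    (by rw [card_PSp hK]; norm_num) (by rw [card_alt]; norm_num) Q P
  exact ⟨e.symm⟩

end Cfsg.Agent.Lib.Helper19.Syl1
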