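/-
Helper19 library: data for a Sylow 2-subgroup of `O₆⁻(2)` (order 128) with an isomorphism onto a Sylow 2-subgroup of the
symmetric group of degree eight: generator codes, the list of elements, multiplication tables of the generators and a
spanning tree.
-/
import Mathlib

set_option autoImplicit false

namespace Cfsg.Agent.Lib.Helper19.Syl2Data

/-- row masks of the generating matrices. -/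
def MEL : List (List ℕ) := [[1, 58, 4, 8, 24, 48], [29, 58, 4, 8, 24, 44], [59, 30, 4, 12, 20, 60]]

/-- row masks of their inverses. -/
def MIL : List (List ℕ) := [[1, 42, 4, 8, 24, 56], [21, 62, 4, 8, 24, 44], [59, 30, 4, 12, 20, 60]]

/-- the images of the generators. -/
def PEL : List (List ℕ) := [[5, 4, 6, 7, 0, 1, 2, 3], [5, 4, 7, 6, 0, 1, 2, 3], [1, 0, 2, 3, 6, 7, 4, 5]]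

/-- the inverses of the images. -/
def PIL : List (List ℕ) := [[4, 5, 6, 7, 1, 0, 2, 3], [4, 5, 6, 7, 1, 0, 3, 2], [1, 0, 2, 3, 6, 7, 4, 5]]

/-- row masks of the matrices. -/
def McL : List (List ℕ) := [[1, 2, 4, 8, 16, 32], [1, 58, 4, 8, 24, 48], [29, 58, 4, 8, 24, 44], [59, 30, 4, 12, 20, 60], [1, 26, 4, 8, 16, 40], [21, 26, 4, 8, 16, 60], [27, 46, 4, 12, 28, 36], [29, 6, 4, 8, 16, 52], [9, 6, 4, 8, 16, 32], [27, 46, 4, 12, 28, 56], [59, 58, 4, 12, 24, 40], [39, 58, 4, 12, 24, 52], [1, 42, 4, 8, 24, 56], [29, 42, 4, 8, 24, 36], [43, 6, 4, 12, 20, 52], [21, 62, 4, 8, 24, 44], [9, 62, 4, 8, 24, 48], [43, 6, 4, 12, 20, 32], [27, 26, 4, 12, 16, 56], [15, 26, 4, 12, 16, 44], [55, 26, 4, 12, 20, 40], [55, 26, 4, 12, 20, 60], [27, 6, 4, 12, 16, 36], [15,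 6, 4, 12, 16, 48], [59, 6, 4, 12, 20, 48], [61, 42, 4, 8, 28, 56], [39, 26, 4, 12, 20, 44], [61, 42, 4, 8, 28, 36], [21, 2, 4, 8, 16, 52], [3, 62, 4, 12, 28, 44], [29, 30, 4, 8, 16, 60], [9, 30, 4, 8, 16, 40], [3, 62, 4, 12, 28, 48], [43, 42, 4, 12, 24, 32], [55, 42, 4, 12, 24, 60], [23, 42, 4, 12, 28, 56], [23, 42, 4, 12, 28, 36], [43, 62, 4, 12, 24, 52], [55, 62, 4, 12, 24, 40], [27, 62, 4, 12, 28, 40], [37, 2, 4, 8, 20, 32], [15, 42, 4, 12, 28, 60], [37, 2, 4, 8, 20, 52], [27, 62, 4, 12, 28, 52], [37, 30, 4, 8, 20, 60], [15, 42, 4, 12, 28, 32], [37, 30, 4, 8, 20, 40], [59, 46, 4, 12, 24, 36], [39, 46, 4, 12, 24, 56], [21, 26, 4, 8, 16, 44], [61, 6, 4, 8, 20, 36], [45, 6, 4, 8, 20, 52], [9, 6, 4, 8, 16, 48], [61, 26, 4, 8, 20, 56], [45, 26, 4, 8, 20,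 40], [21, 46, 4, 8, 24, 36], [9, 46, 4, 8, 24, 56], [59, 30, 4, 12, 20, 40], [3, 2, 4, 12, 16, 48], [23, 2, 4, 12, 16, 36], [39, 2, 4, 12, 20, 32], [39, 2, 4, 12, 20, 52], [3, 30, 4, 12, 16, 44], [23, 30, 4, 12, 16, 56], [43, 30, 4, 12, 20, 56], [53, 58, 4, 8, 28, 48], [55, 2, 4, 12, 20, 36], [53, 58, 4, 8, 28, 44], [43, 30, 4, 12, 20, 44], [53, 46, 4, 8, 28, 36], [55, 2, 4, 12, 20, 48], [53, 46, 4, 8, 28, 56], [27, 6, 4, 12, 16, 52], [15, 6, 4, 12, 16, 32], [29, 42, 4, 8, 24, 60], [37, 62, 4, 8, 28, 52], [61, 62, 4, 8, 28, 44], [9, 62, 4, 8, 24, 40], [37, 42, 4, 8, 28, 32], [27, 26, 4, 12, 16, 40], [15, 26, 4, 12, 16, 60], [1, 42, 4, 8, 24, 32], [37, 62, 4, 8, 28, 40], [61, 62, 4, 8, 28, 48], [21, 62, 4, 8, 24, 52], [37, 42, 4, 8, 28, 60], [21, 46, 4,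 8, 24, 60], [9, 46, 4, 8, 24, 32], [3, 30, 4, 12, 16, 60], [45, 46, 4, 8, 28, 32], [3, 2, 4, 12, 16, 32], [45, 46, 4, 8, 28, 60], [15, 58, 4, 12, 28, 48], [15, 58, 4, 12, 28, 44], [59, 46, 4, 12, 24, 60], [39, 46, 4, 12, 24, 32], [3, 46, 4, 12, 28, 32], [23, 58, 4, 12, 28, 52], [45, 26, 4, 8, 20, 60], [3, 46, 4, 12, 28, 60], [23, 58, 4, 12, 28, 40], [45, 6, 4, 8, 20, 32], [43, 62, 4, 12, 24, 44], [55, 62, 4, 12, 24, 48], [21, 2, 4, 8, 16, 36], [53, 30, 4, 8, 20, 44], [9, 30, 4, 8, 16, 56], [53, 2, 4, 8, 20, 48], [43, 42, 4, 12, 24, 56], [55, 42, 4, 12, 24, 36], [1, 2, 4, 8, 16, 48], [53, 30, 4, 8, 20, 56], [29, 30, 4, 8, 16, 44], [53, 2, 4, 8, 20, 36], [29, 6, 4, 8, 16, 36], [61, 6, 4, 8, 20, 48], [59, 58, 4, 12, 24, 48], [1, 26, 4, 8, 16, 56], [61, 26,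 4, 8, 20, 44], [39, 58, 4, 12, 24, 44], [59, 6, 4, 12, 20, 36], [39, 26, 4, 12, 20, 56], [23, 30, 4, 12, 16, 40], [29, 58, 4, 8, 24, 52], [45, 58, 4, 8, 28, 40], [23, 2, 4, 12, 16, 52], [1, 58, 4, 8, 24, 40], [45, 58, 4, 8, 28, 52]]

/-- the permutations. -/
def PcL : List (List ℕ) := [[0, 1, 2, 3, 4, 5, 6, 7], [5, 4, 6, 7, 0, 1, 2, 3], [5, 4, 7, 6, 0, 1, 2, 3], [1, 0, 2, 3, 6, 7, 4, 5], [1, 0, 2, 3, 5, 4, 6, 7], [1, 0, 2, 3, 5, 4, 7, 6], [7, 6, 4, 5, 1, 0, 2, 3], [1, 0, 3, 2, 5, 4, 6, 7], [1, 0, 3, 2, 5, 4, 7, 6], [7, 6, 5, 4, 1, 0, 2, 3], [4, 5, 6, 7, 2, 3, 0, 1], [4, 5, 7, 6, 2, 3, 0, 1], [4, 5, 6, 7, 1, 0, 2, 3], [4, 5, 7, 6, 1, 0, 2, 3], [0, 1, 2, 3, 7, 6, 4, 5], [4, 5, 6, 7, 1, 0, 3, 2], [4, 5, 7, 6, 1, 0, 3, 2], [0, 1, 2, 3, 7, 6, 5, 4], [3, 2,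 0, 1, 4, 5, 6, 7], [3, 2, 0, 1, 4, 5, 7, 6], [0, 1, 3, 2, 7, 6, 4, 5], [0, 1, 3, 2, 7, 6, 5, 4], [3, 2, 1, 0, 4, 5, 6, 7], [3, 2, 1, 0, 4, 5, 7, 6], [0, 1, 2, 3, 6, 7, 5, 4], [6, 7, 4, 5, 2, 3, 1, 0], [0, 1, 3, 2, 6, 7, 5, 4], [6, 7, 5, 4, 2, 3, 1, 0], [0, 1, 2, 3, 4, 5, 7, 6], [6, 7, 4, 5, 0, 1, 2, 3], [0, 1, 3, 2, 4, 5, 6, 7], [0, 1, 3, 2, 4, 5, 7, 6], [6, 7, 5, 4, 0, 1, 2, 3], [5, 4, 6, 7, 3, 2, 0, 1], [5, 4, 7, 6, 3, 2, 0, 1], [6, 7, 4, 5, 0, 1, 3, 2], [6, 7, 5, 4, 0, 1, 3, 2], [5, 4, 6, 7, 3, 2, 1, 0], [5, 4, 7, 6, 3, 2, 1, 0], [7, 6, 5, 4, 0, 1, 2, 3], [3, 2, 1, 0, 6, 7, 4, 5], [7, 6, 5, 4, 0, 1, 3, 2], [3, 2, 1, 0, 6, 7, 5, 4], [7, 6, 4, 5, 0, 1, 2, 3], [3, 2, 0, 1, 6, 7, 4, 5], [7, 6, 4, 5, 0, 1, 3, 2], [3, 2, 0, 1, 6, 7, 5, 4], [5, 4, 6, 7, 2,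 3, 1, 0], [5, 4, 7, 6, 2, 3, 1, 0], [1, 0, 2, 3, 4, 5, 7, 6], [2, 3, 0, 1, 6, 7, 4, 5], [2, 3, 0, 1, 7, 6, 4, 5], [1, 0, 3, 2, 4, 5, 7, 6], [2, 3, 1, 0, 6, 7, 4, 5], [2, 3, 1, 0, 7, 6, 4, 5], [5, 4, 6, 7, 0, 1, 3, 2], [5, 4, 7, 6, 0, 1, 3, 2], [1, 0, 2, 3, 6, 7, 5, 4], [2, 3, 0, 1, 5, 4, 6, 7], [2, 3, 0, 1, 5, 4, 7, 6], [1, 0, 3, 2, 6, 7, 4, 5], [1, 0, 3, 2, 6, 7, 5, 4], [2, 3, 1, 0, 5, 4, 6, 7], [2, 3, 1, 0, 5, 4, 7, 6], [1, 0, 2, 3, 7, 6, 5, 4], [7, 6, 4, 5, 3, 2, 1, 0], [1, 0, 3, 2, 7, 6, 5, 4], [7, 6, 5, 4, 3, 2, 1, 0], [1, 0, 2, 3, 7, 6, 4, 5], [7, 6, 4, 5, 3, 2, 0, 1], [1, 0, 3, 2, 7, 6, 4, 5], [7, 6, 5, 4, 3, 2, 0, 1], [3, 2, 1, 0, 5, 4, 6, 7], [3, 2, 1, 0, 5, 4, 7, 6], [5, 4, 7, 6, 1, 0, 2, 3], [7, 6, 4, 5, 2, 3, 0, 1], [6, 7, 4, 5, 2, 3, 0, 1],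 [5, 4, 7, 6, 1, 0, 3, 2], [7, 6, 4, 5, 2, 3, 1, 0], [3, 2, 0, 1, 5, 4, 6, 7], [3, 2, 0, 1, 5, 4, 7, 6], [5, 4, 6, 7, 1, 0, 2, 3], [7, 6, 5, 4, 2, 3, 0, 1], [6, 7, 5, 4, 2, 3, 0, 1], [5, 4, 6, 7, 1, 0, 3, 2], [7, 6, 5, 4, 2, 3, 1, 0], [4, 5, 6, 7, 0, 1, 3, 2], [4, 5, 7, 6, 0, 1, 3, 2], [2, 3, 1, 0, 4, 5, 6, 7], [6, 7, 5, 4, 3, 2, 0, 1], [2, 3, 0, 1, 4, 5, 6, 7], [6, 7, 4, 5, 3, 2, 0, 1], [7, 6, 4, 5, 1, 0, 3, 2], [7, 6, 5, 4, 1, 0, 3, 2], [4, 5, 6, 7, 2, 3, 1, 0], [4, 5, 7, 6, 2, 3, 1, 0], [6, 7, 5, 4, 1, 0, 2, 3], [6, 7, 5, 4, 1, 0, 3, 2], [2, 3, 1, 0, 7, 6, 5, 4], [6, 7, 4, 5, 1, 0, 2, 3], [6, 7, 4, 5, 1, 0, 3, 2], [2, 3, 0, 1, 7, 6, 5, 4], [4, 5, 6, 7, 3, 2, 1, 0], [4, 5, 7, 6, 3, 2, 1, 0], [0, 1, 2, 3, 5, 4, 7, 6], [3, 2, 0, 1, 7, 6, 4, 5], [0, 1,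 3, 2, 5, 4, 7, 6], [3, 2, 1, 0, 7, 6, 4, 5], [4, 5, 6, 7, 3, 2, 0, 1], [4, 5, 7, 6, 3, 2, 0, 1], [0, 1, 2, 3, 5, 4, 6, 7], [3, 2, 0, 1, 7, 6, 5, 4], [0, 1, 3, 2, 5, 4, 6, 7], [3, 2, 1, 0, 7, 6, 5, 4], [1, 0, 3, 2, 4, 5, 6, 7], [2, 3, 0, 1, 6, 7, 5, 4], [5, 4, 6, 7, 2, 3, 0, 1], [1, 0, 2, 3, 4, 5, 6, 7], [2, 3, 1, 0, 6, 7, 5, 4], [5, 4, 7, 6, 2, 3, 0, 1], [0, 1, 2, 3, 6, 7, 4, 5], [0, 1, 3, 2, 6, 7, 4, 5], [2, 3, 1, 0, 4, 5, 7, 6], [4, 5, 7, 6, 0, 1, 2, 3], [6, 7, 4, 5, 3, 2, 1, 0], [2, 3, 0, 1, 4, 5, 7, 6], [4, 5, 6, 7, 0, 1, 2, 3], [6, 7, 5, 4, 3, 2, 1, 0]]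

/-- left multiplication tables. -/
def TL : List (List ℕ) := [[1, 4, 7, 10, 12, 15, 18, 13, 16, 22, 24, 26, 0, 30, 33, 28, 31, 37, 39, 41, 34, 38, 43, 45, 47, 50, 48, 53, 55, 58, 2, 56, 62, 64, 66, 59, 63, 68, 70, 72, 75, 73, 78, 79, 82, 80, 85, 3, 60, 86, 83, 89, 87, 76, 91, 5, 8, 94, 96, 97, 11, 95, 99, 100, 102, 105, 103, 107, 108, 111, 109, 113, 6, 92, 114, 46, 115, 52, 44, 9, 93, 117, 42, 118, 49, 40, 104, 106, 29, 98, 32, 101, 19, 23, 120, 121, 88, 122, 124, 90, 125, 127, 14, 20, 84, 71, 77, 69, 17, 21, 81, 67, 74, 65, 123, 27, 57, 126, 25, 61, 116, 119, 35, 112, 51, 36, 110, 54], [2, 5, 8, 11, 13, 16, 19, 12, 15, 23, 17, 21, 28, 31, 34, 0, 30, 38, 32, 36, 33, 37, 29, 35, 48, 51, 47, 54, 56, 59, 1, 55, 63, 57, 61, 58, 62, 3, 60, 73, 76, 72, 25,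 80, 83, 79, 27, 68, 70, 87, 82, 71, 86, 75, 69, 4, 7, 95, 9, 93, 10, 94, 6, 92, 103, 44, 102, 40, 109, 46, 108, 42, 99, 100, 52, 111, 101, 114, 105, 96, 97, 49, 113, 98, 117, 107, 110, 112, 43, 118, 39, 115, 18, 22, 14, 20, 122, 88, 65, 125, 90, 67, 120, 121, 77, 89, 84, 91, 24, 26, 74, 127, 81, 124, 126, 85, 64, 123, 78, 66, 119, 116, 45, 106, 50, 41, 104, 53], [3, 6, 9, 0, 14, 17, 1, 20, 21, 2, 25, 27, 29, 32, 4, 35, 36, 5, 40, 42, 7, 8, 44, 46, 49, 10, 52, 11, 57, 12, 60, 61, 13, 65, 67, 15, 16, 69, 71, 74, 18, 77, 19, 81, 22, 84, 23, 75, 82, 24, 88, 62, 26, 90, 58, 92, 93, 28, 54, 98, 30, 31, 51, 101, 104, 33, 106, 34, 110, 37, 112, 38, 105, 111, 39, 47, 94, 41, 116, 107, 113, 43, 48, 95, 45, 119, 100, 97, 50, 103, 53, 102, 55, 56, 76, 83, 123, 87,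 59, 126, 86, 63, 91, 89, 64, 72, 66, 79, 124, 127, 68, 73, 70, 80, 121, 122, 78, 120, 125, 85, 117, 114, 115, 96, 108, 118, 99, 109]]

/-- parents in the spanning tree. -/
def parL : List ℕ := [0, 0, 0, 0, 1, 1, 1, 2, 2, 2, 3, 3, 4, 4, 4, 5, 5, 5, 6, 6, 7, 8, 9, 9, 10, 10, 11, 11, 12, 12, 13, 13, 13, 14, 14, 15, 16, 17, 17, 18, 18, 19, 19, 22, 22, 23, 23, 24, 24, 24, 25, 25, 26, 27, 27, 28, 28, 28, 29, 29, 30, 31, 32, 32, 33, 33, 34, 34, 37, 37, 38, 38, 39, 39, 39, 40, 40, 41, 42, 43, 43, 43, 44, 44, 45, 46, 49, 49, 50, 51, 53, 54, 55, 56, 57, 57, 58, 59, 59, 62, 63, 63, 64, 64, 64, 65, 66, 67, 68, 68, 68, 69, 70, 71, 74, 76, 78, 81, 83, 85, 94, 95, 96, 96, 98, 99, 99, 101]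

/-- generator labels in the spanning tree. -/
def gkL : List ℕ := [0, 0, 1, 2, 0, 1, 2, 0, 1, 2, 0, 1, 0, 1, 2, 0, 1, 2, 0, 1, 2, 2, 0, 1, 0, 2, 0, 2, 1, 2, 0, 1, 2, 0, 1, 2, 2, 0, 1, 0, 2, 0, 2, 0, 2, 0, 2, 0, 1, 2, 0, 1, 2, 0, 1, 0, 1, 2, 0, 1, 2, 2, 0, 1, 0, 2, 0, 2, 0, 2, 0, 2, 0, 1, 2, 0, 1, 2, 0, 0, 1, 2, 0, 1, 2, 0, 0, 1, 2, 0, 2, 0, 2, 2, 0, 1, 0, 0, 2, 0, 0, 2, 0, 1, 2, 0, 2, 0, 0, 1, 2, 0, 2, 0, 0, 0, 2, 0, 0, 2, 0, 0, 1, 2, 0, 1, 2, 0]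

end Cfsg.Agent.Lib.Helper19.Syl2Data
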