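/-
Helper19 library: kernel-checked certificates for the list of 128 pairs (elements of a Sylow 2-subgroup of `O₆⁻(2)`,
permutations of eight points).
-/
import Mathlib
import Cfsg.Agent.Lib.Helper19.O6Enc
import Cfsg.Agent.Lib.Helper19.P8Enc
import Cfsg.Agent.Lib.Helper19.Syl2Data
import Cfsg.Prelude.Def_Classical

set_option autoImplicit false
set_option maxRecDepth 100000

namespace Cfsg.Agent.Lib.Helper19.Syl2Check

open Cfsg.Agent.Lib.Helper19.O6Enc Cfsg.Agent.Lib.Helper19.P8Enc Cfsg.Agent.Lib.Helper19.Syl2Data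

/-- row masks of the generating matrices. -/
def ME (r : ℕ) : List ℕ := MEL.getD r []

/-- row masks of their inverses. -/
def MI (r : ℕ) : List ℕ := MIL.getD r []

/-- the images of the generators. -/
def PE (r : ℕ) : List ℕ := PEL.getD r []

/-- the inverses of the images of the generators. -/
def PI (r : ℕ) : List ℕ := PIL.getD r []

/-- row masks of the matrices. -/
def Mc (i : ℕ) : List ℕ := McL.getD i []

/-- the permutations. -/
def Pc (i : ℕ) : List ℕ := PcL.getD i []

/-- left multiplication tables. -/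
def Tt (r i : ℕ) : ℕ := (TL.getD r []).getD i 0

/-- parents in the spanning tree. -/
def par (i : ℕ) : ℕ := parL.getD i 0

/-- generator labels in the spanning tree. -/
def gk (i : ℕ) : ℕ := gkL.getD i 0

theorem closedL : ∀ i ∈ List.range 128, ∀ r ∈ List.range 3,
    mul6 (ME r) (Mc i) = Mc (Tt r i) ∧ mulP8 (PE r) (Pc i) = Pc (Tt r i) ∧ Tt r i < 128 := by
  decide +kernel

theorem closed (i r : ℕ) (hi : i < 128) (hr : r < 3) :
    mul6 (ME r) (Mc i) = Mc (Tt r i) ∧ mulP8 (PE r) (Pc i) = Pc (Tt r i) ∧ Tt r i < 128 :=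
  closedL i (List.mem_range.2 hi) r (List.mem_range.2 hr)

theorem bfsL : ∀ i ∈ List.range 128, 0 < i → par i < i ∧ gk i < 3 ∧ Tt (gk i) (par i) = i := by
  decide +kernel

theorem bfs (i : ℕ) (h0 : 0 < i) (hi : i < 128) : par i < i ∧ gk i < 3 ∧ Tt (gk i) (par i) = i :=
  bfsL i (List.mem_range.2 hi) h0

theorem distL : ∀ i ∈ List.range 128, enc6 (dec6 (Mc i)) = Mc i ∧ encP8 (decP8 (Pc i)) = Pc i := by
  decide +kernel

theorem distinctL : ∀ i ∈ List.range 128, ∀ j ∈ List.range 128, Mc i = Mc j → i = j := by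
  decide +kernel

theorem kerL : ∀ i ∈ List.range 128, (Pc i = ID8 ↔ Mc i = ONE6) := by
  decide +kernel

theorem Mc_zero : Mc 0 = ONE6 := by decide +kernel

theorem Pc_zero : Pc 0 = ID8 := by decide +kernel

theorem enc_one : enc6 (dec6 ONE6) = ONE6 ∧ encP8 (decP8 ID8) = ID8 := by
  decide +kernel

theorem M_inv : ∀ r ∈ List.range 3, mul6 (MI r) (ME r) = ONE6 ∧ mul6 (ME r) (MI r) = ONE6 := by
  decide +kernel

theorem P_inv : ∀ r ∈ List.range 3, mulP8 (PI r) (PE r) = ID8 ∧ mulP8 (PE r) (PI r) = ID8 := by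
  decide +kernel

theorem M_isom : ∀ r ∈ List.range 3, ∀ u : J6 → ZMod 2,
    Cfsg.quadFormMinus 2 (ZMod 2) 1 1 (Matrix.mulVec (dec6 (ME r)) u) =
      Cfsg.quadFormMinus 2 (ZMod 2) 1 1 u := by
  decide +kernel

end Cfsg.Agent.Lib.Helper19.Syl2Check
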