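/-
Helper19 library: the Sylow 2-subgroups of the symmetric group of degree eight and of `O₆⁻(2)` are isomorphic, from a
kernel-checked list of the 128 elements of a Sylow 2-subgroup of `O₆⁻(2)` with their permutation images.
-/
import Mathlib
import Cfsg.Agent.Lib.Helper19.Syl2Check
import Cfsg.Agent.Lib.Helper19.ListClosureP
import Cfsg.Agent.Lib.Helper19.SylIso
import Cfsg.Agent.Lib.Helper14.OrthMinus
import Cfsg.Agent.Lib.Helper15.IsometryTransport

set_option autoImplicit false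

namespace Cfsg.Agent.Lib.Helper19.Syl2

open Cfsg.Agent.Lib.Helper19.O6Enc Cfsg.Agent.Lib.Helper19.P8Enc Cfsg.Agent.Lib.Helper19.Syl2Check
open Cfsg.Agent.Lib.Helper19.ListClosureP Cfsg.Agent.Lib.Helper19.SylIso

/-- the general linear group over `ZMod 2`. -/
abbrev GZ : Type := Matrix.GeneralLinearGroup J6 (ZMod 2)

/-- matrices over `ZMod 2`. -/
abbrev M6 : Type := Matrix J6 J6 (ZMod 2)

/-- the ambient group of the graph. -/
abbrev G2 : Type := GZ × Equiv.Perm (Fin 8)

/-- the quadratic form over `ZMod 2`. -/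
abbrev QZ : (J6 → ZMod 2) → ZMod 2 := Cfsg.quadFormMinus 2 (ZMod 2) 1 1

/-- the generators of the Sylow subgroup of `O₆⁻(2)`. -/
def MG (r : Fin 3) : GZ :=
  ⟨dec6 (ME r.val), dec6 (MI r.val),
    by rw [← dec6_mul, (M_inv r.val (List.mem_range.2 r.isLt)).2, dec6_one],
    by rw [← dec6_mul, (M_inv r.val (List.mem_range.2 r.isLt)).1, dec6_one]⟩

/-- their images. -/
def PG (r : Fin 3) : Equiv.Perm (Fin 8) :=
  permOf (PE r.val) (PI r.val) (P_inv r.val (List.mem_range.2 r.isLt)).1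
    (P_inv r.val (List.mem_range.2 r.isLt)).2

/-- the generating pairs. -/
def GH (r : Fin 3) : G2 := (MG r, PG r)

/-- the graph. -/
def Gam : Subgroup G2 := Subgroup.closure (Set.range GH)

/-- the matrix and the map of a pair. -/
def code (p : G2) : M6 × (Fin 8 → Fin 8) := ((p.1 : M6), ⇑p.2)

/-- the `i`-th pair. -/
def elt (i : ℕ) : M6 × (Fin 8 → Fin 8) := (dec6 (Mc i), decP8 (Pc i))

theorem code_injective : Function.Injective code := by
  intro p q h
  exact Prod.ext (Units.ext (congrArg Prod.fst h)) (coe_perm_injective (congrArg Prod.snd h))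

theorem GH_fin (r : Fin 3) : ∃ k : ℕ, GH r ^ (k + 1) = 1 := by
  refine ⟨orderOf (GH r) - 1, ?_⟩
  rw [Nat.sub_add_cancel (orderOf_pos (GH r))]
  exact pow_orderOf_eq_one _

theorem certG : CertP code GH elt 128 (fun r i => Tt r.val i) par (fun i => Fin.ofNat 3 (gk i)) where
  pos := by norm_num
  one := by
    show ((1 : M6), (id : Fin 8 → Fin 8)) = (dec6 (Mc 0), decP8 (Pc 0))
    rw [Mc_zero, Pc_zero, dec6_one, decP8_one]
  fin := GH_fin
  closed := by
    intro r i hi g hg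
    obtain ⟨c1, c2, c3⟩ := closed i r.val hi r.isLt
    refine ⟨?_, c3⟩
    have h1 : ((g.1 : GZ) : M6) = dec6 (Mc i) := congrArg Prod.fst hg
    have h2 : (⇑g.2 : Fin 8 → Fin 8) = decP8 (Pc i) := congrArg Prod.snd hg
    refine Prod.ext ?_ ?_
    · show ((MG r * g.1 : GZ) : M6) = _
      rw [Units.val_mul, h1]
      show dec6 (ME r.val) * dec6 (Mc i) = dec6 (Mc (Tt r.val i))
      rw [← dec6_mul, c1]
    · show (⇑(PG r * g.2) : Fin 8 → Fin 8) = _
      rw [Equiv.Perm.coe_mul, h2]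
      show decP8 (PE r.val) ∘ decP8 (Pc i) = decP8 (Pc (Tt r.val i))
      rw [← decP8_mul, c2]
  bfs := by
    intro i h0 hi
    obtain ⟨b1, b2, b3⟩ := bfs i h0 hi
    refine ⟨b1, ?_⟩
    show Tt (gk i % 3) (par i) = i
    rw [Nat.mod_eq_of_lt b2, b3]

theorem dec6_inj {i j : ℕ} (hi : i < 128) (hj : j < 128) (h : dec6 (Mc i) = dec6 (Mc j)) : i = j := by
  apply distinctL i (List.mem_range.2 hi) j (List.mem_range.2 hj)
  exact (distL i (List.mem_range.2 hi)).1.symm.trans
    ((congrArg enc6 h).trans (distL j (List.mem_range.2 hj)).1)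

theorem elt_inj (i j : ℕ) (hi : i < 128) (hj : j < 128) (h : elt i = elt j) : i = j :=
  dec6_inj hi hj (congrArg Prod.fst h)

theorem card_Gam : Nat.card Gam = 128 := certG.card_eq code_injective elt_inj

theorem mem_Gam_index {p : G2} (hp : p ∈ Gam) :
    ∃ i, i < 128 ∧ ((p.1 : GZ) : M6) = dec6 (Mc i) ∧ (⇑p.2 : Fin 8 → Fin 8) = decP8 (Pc i) := by
  obtain ⟨i, hi, hc⟩ := certG.exists_index hp
  exact ⟨i, hi, congrArg Prod.fst hc, congrArg Prod.snd hc⟩

theorem snd_eq_one_iff {p : G2} (hp : p ∈ Gam) : p.2 = 1 ↔ p.1 = 1 := by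
  obtain ⟨i, hi, h1, h2⟩ := mem_Gam_index hp
  have hk := kerL i (List.mem_range.2 hi)
  obtain ⟨d1, d2⟩ := distL i (List.mem_range.2 hi)
  obtain ⟨e1, e3⟩ := enc_one
  constructor
  · intro h
    have h5 : decP8 (Pc i) = decP8 ID8 := by
      rw [← h2, h, decP8_one]
      rfl
    have h3 : Pc i = ID8 := d2.symm.trans ((congrArg encP8 h5).trans e3)
    have h4 := hk.mp h3
    apply Units.ext
    exact h1.trans ((congrArg dec6 h4).trans dec6_one)
  · intro h
    have h3 : Mc i = ONE6 := by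
      have h5 : dec6 (Mc i) = dec6 ONE6 := by
        rw [← h1, h, dec6_one]
        rfl
      exact d1.symm.trans ((congrArg enc6 h5).trans e1)
    have h4 := hk.mpr h3
    apply coe_perm_injective
    show (⇑p.2 : Fin 8 → Fin 8) = ⇑(1 : Equiv.Perm (Fin 8))
    exact h2.trans ((congrArg decP8 h4).trans decP8_one)

theorem fst_mem {p : G2} (hp : p ∈ Gam) : p.1 ∈ Cfsg.isometryGroup (ZMod 2) QZ := by
  have hle : Gam ≤ (Cfsg.isometryGroup (ZMod 2) QZ).comap (MonoidHom.fst GZ (Equiv.Perm (Fin 8))) := by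
    apply (Subgroup.closure_le _).mpr
    rintro _ ⟨r, rfl⟩
    show MG r ∈ Cfsg.isometryGroup (ZMod 2) QZ
    rw [Cfsg.Agent.Lib.Helper15.mem_isometryGroup_iff]
    exact M_isom r.val (List.mem_range.2 r.isLt)
  exact hle hp

/-- the map from the graph to the isometry group over `ZMod 2`. -/
def f0 : Gam →* Cfsg.isometryGroup (ZMod 2) QZ :=
  ((MonoidHom.fst GZ (Equiv.Perm (Fin 8))).comp Gam.subtype).codRestrict _ (fun x => fst_mem x.2)

/-- the map from the graph to the symmetric group. -/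
def f2 : Gam →* Equiv.Perm (Fin 8) := (MonoidHom.snd GZ (Equiv.Perm (Fin 8))).comp Gam.subtype

theorem f0_inj : Function.Injective f0 := by
  rw [injective_iff_map_eq_one]
  intro x hx
  have h1 : x.1.1 = 1 := congrArg Subtype.val hx
  apply Subtype.ext
  exact Prod.ext h1 ((snd_eq_one_iff x.2).mpr h1)

theorem f2_inj : Function.Injective f2 := by
  rw [injective_iff_map_eq_one]
  intro x hx
  have h1 : x.1.2 = 1 := hx
  apply Subtype.ext
  exact Prod.ext ((snd_eq_one_iff x.2).mp h1) h1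

section

variable {K : Type*} [Field K] [Fintype K]

theorem aniso_one {a b : K} (hK : Fintype.card K = 2)
    (hab : ∀ z₁ z₂ : K, z₁ ^ 2 + a * z₁ * z₂ + b * z₂ ^ 2 = 0 → z₁ = 0 ∧ z₂ = 0) : a = 1 ∧ b = 1 := by
  classical
  have h2 : (2 : K) = 0 := by
    have := card_nsmul_eq_zero (G := K) (x := (1 : K))
    rw [hK] at this
    simpa using this
  have h01 : ∀ z : K, z = 0 ∨ z = 1 := by
    intro z
    by_contra hcon
    push Not at hcon
    have : ({0, 1, z} : Finset K).card ≤ Fintype.card K := Finset.card_le_univ _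
    rw [hK, Finset.card_insert_of_notMem, Finset.card_insert_of_notMem, Finset.card_singleton] at this
    · omega
    · simp only [Finset.mem_singleton]
      exact fun h => hcon.2 h.symm
    · simp only [Finset.mem_insert, Finset.mem_singleton, not_or]
      exact ⟨zero_ne_one, fun h => hcon.1 h.symm⟩
  have hb : b = 1 := by
    rcases h01 b with h | h
    · exfalso
      have := (hab 0 1 (by rw [h]; ring)).2
      exact one_ne_zero this
    · exact h
  have ha : a = 1 := by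
    rcases h01 a with h | h
    · exfalso
      have := (hab 1 1 (by rw [h, hb]; linear_combination h2)).2
      exact one_ne_zero this
    · exact h
  exact ⟨ha, hb⟩

theorem card_isom {a b : K} (hK : Fintype.card K = 2)
    (hab : ∀ z₁ z₂ : K, z₁ ^ 2 + a * z₁ * z₂ + b * z₂ ^ 2 = 0 → z₁ = 0 ∧ z₂ = 0) :
    Nat.card (Cfsg.isometryGroup K (Cfsg.quadFormMinus 2 K a b)) = 51840 := by
  rw [Cfsg.Agent.Lib.Helper14.OrthMinus.card_isometry_minus hab 2, hK]
  norm_num [Finset.prod_range_succ]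

theorem part2 {a b : K} (hK : Fintype.card K = 2)
    (hab : ∀ z₁ z₂ : K, z₁ ^ 2 + a * z₁ * z₂ + b * z₂ ^ 2 = 0 → z₁ = 0 ∧ z₂ = 0)
    (P' : Sylow 2 (Equiv.Perm (Fin 8)))
    (Q' : Sylow 2 ↥(Cfsg.isometryGroup K (Cfsg.quadFormMinus 2 K a b))) :
    Nonempty (↥(P' : Subgroup (Equiv.Perm (Fin 8))) ≃*
      ↥(Q' : Subgroup ↥(Cfsg.isometryGroup K (Cfsg.quadFormMinus 2 K a b)))) := by
  classical
  have hcard := card_isom hK hab
  obtain ⟨ha, hb⟩ := aniso_one hK hab
  subst ha hb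
  have : Fact (Nat.Prime 2) := ⟨Nat.prime_two⟩
  have : CharP K 2 := charP_of_card_eq_prime hK
  obtain ⟨f, -⟩ : ∃ f : ZMod 2 →+* K, True := ⟨ZMod.castHom (dvd_refl 2) K, trivial⟩
  obtain ⟨Φ, hΦ⟩ := Cfsg.Agent.Lib.Helper15.basechange_isometry f
    (Cfsg.Agent.Lib.Helper15.minusMat 2 (ZMod 2) 1 1) QZ (Cfsg.quadFormMinus 2 K 1 1)
    (Cfsg.Agent.Lib.Helper15.quadFormMinus_eq_mat 2 1 1)
    (by
      intro v
      rw [Cfsg.Agent.Lib.Helper15.minusMat_map, map_one]
      exact Cfsg.Agent.Lib.Helper15.quadFormMinus_eq_mat 2 1 1 v)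
  have hfin : Finite ↥(Cfsg.isometryGroup K (Cfsg.quadFormMinus 2 K 1 1)) :=
    Nat.finite_of_card_ne_zero (by rw [hcard]; norm_num)
  have hinj : Function.Injective (Φ.comp f0) := by
    intro x y h
    exact f0_inj (hΦ h)
  have hker : (Φ.comp f0).ker = f2.ker := by
    rw [(MonoidHom.ker_eq_bot_iff _).mpr hinj, (MonoidHom.ker_eq_bot_iff _).mpr f2_inj]
  have hrange : Nat.card f2.range = 2 ^ 7 := by
    have h1 := card_range_mul_card_ker f2
    rw [card_Gam, (MonoidHom.ker_eq_bot_iff _).mpr f2_inj, Subgroup.card_bot] at h1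
    omega
  have hperm : Nat.card (Equiv.Perm (Fin 8)) = 40320 := by
    rw [Nat.card_perm, Nat.card_fin]
    decide
  obtain ⟨e⟩ := sylow_iso_of_graph (p := 2) (Φ.comp f0) f2 hker 7 hrange
    (by rw [hcard]; norm_num) (by rw [hperm]; norm_num) Q' P'
  exact ⟨e.symm⟩

end

end Cfsg.Agent.Lib.Helper19.Syl2
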