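import Mathlib
import Cfsg.Agent.Lib.Lead.PermChar
import Cfsg.Agent.Lib.Helper24.IrrFacts
import Cfsg.Prelude.Def_DegreeGraph
/-! If the Sylow `p`-subgroups have order `p` and there are `p + 1` of them, the conjugation
action on them is 2-transitive; so there is an irreducible character of degree `p`.
Application: `5 ∈ degreePrimes A₅`. -/
set_option autoImplicit false

namespace Cfsg.Agent.Lib.Helper19

open Subgroup MulAction

section
variable {G : Type*} [Group G] [Finite G] {p : ℕ} [Fact p.Prime]

/-- a Sylow subgroup of order `p` acts transitively on the other `p` Sylow subgroups -/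
theorem sylow_exists_smul_eq (hn : Nat.card (Sylow p G) = p + 1) (P Q R : Sylow p G)
    (hP : Nat.card (P : Subgroup G) = p) (hQ : Q ≠ P) (hR : R ≠ P) :
    ∃ g : G, g • P = P ∧ g • Q = R := by
  have hp : p.Prime := Fact.out
  -- the orbit of Q under P
  have hsub : orbit (↥(P : Subgroup G)) Q ⊆ ({P} : Set (Sylow p G))ᶜ := by
    rintro S ⟨g, rfl⟩
    simp only [Set.mem_compl_iff, Set.mem_singleton_iff]
    intro h
    apply hQ
    have h1 : (g : G) • P = P := Sylow.smul_eq_iff_mem_normalizer.mpr (le_normalizer g.2)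
    have h2 : (g : G) • Q = (g : G) • P := by rw [h1]; exact h
    exact MulAction.injective (g : G) h2
  have hcompl : (({P} : Set (Sylow p G))ᶜ).ncard = p := by
    apply Set.ncard_compl_of_ncard_eq_add
    rw [Set.ncard_singleton, hn]
  have hdvd : (orbit (↥(P : Subgroup G)) Q).ncard ∣ p := by
    rw [← MulAction.index_stabilizer]
    have := Subgroup.index_dvd_card (stabilizer (↥(P : Subgroup G)) Q)
    rwa [hP] at this
  have hne1 : (orbit (↥(P : Subgroup G)) Q).ncard ≠ 1 := by
    intro h1
    apply hQ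
    have hfix : Q ∈ fixedPoints (↥(P : Subgroup G)) (Sylow p G) := by
      rw [mem_fixedPoints]
      intro g
      obtain ⟨a, ha⟩ := Set.ncard_eq_one.mp h1
      have h2 : g • Q ∈ orbit (↥(P : Subgroup G)) Q := ⟨g, rfl⟩
      have h3 : Q ∈ orbit (↥(P : Subgroup G)) Q := mem_orbit_self Q
      rw [ha, Set.mem_singleton_iff] at h2 h3
      rw [h2, h3]
    rw [P.isPGroup'.sylow_mem_fixedPoints_iff] at hfix
    exact Sylow.ext (P.is_maximal' Q.isPGroup' hfix)
  have hcard : (orbit (↥(P : Subgroup G)) Q).ncard = p := by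
    rcases (Nat.dvd_prime hp).mp hdvd with h | h
    · exact absurd h hne1
    · exact h
  have heq : orbit (↥(P : Subgroup G)) Q = ({P} : Set (Sylow p G))ᶜ :=
    Set.eq_of_subset_of_ncard_le hsub (by rw [hcompl, hcard])
  have hRm : R ∈ orbit (↥(P : Subgroup G)) Q := by
    rw [heq]; simpa using hR
  obtain ⟨g, hg⟩ := hRm
  exact ⟨(g : G), Sylow.smul_eq_iff_mem_normalizer.mpr (le_normalizer g.2), hg⟩

/-- the action on the Sylow subgroups is then 2-transitive -/
theorem sylow_isMultiplyPretransitive_two (hn : Nat.card (Sylow p G) = p + 1)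
    (hP : ∀ P : Sylow p G, Nat.card (P : Subgroup G) = p) :
    IsMultiplyPretransitive G (Sylow p G) 2 := by
  rw [MulAction.is_two_pretransitive_iff]
  intro a b c d hab hcd
  obtain ⟨g₁, hg₁⟩ := MulAction.exists_smul_eq G a c
  have h1 : g₁ • b ≠ c := by
    intro h
    apply hab
    rw [← hg₁] at h
    exact (MulAction.injective g₁ h).symm
  obtain ⟨h, hh1, hh2⟩ := sylow_exists_smul_eq hn c (g₁ • b) d (hP c) h1 (Ne.symm hcd)
  refine ⟨h * g₁, ?_, ?_⟩
  · rw [mul_smul, hg₁, hh1]
  · rw [mul_smul, hh2]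

open Cfsg Cfsg.Agent.CharLib in
/-- an irreducible character of degree `p` -/
theorem exists_irr_degree_of_sylow (hn : Nat.card (Sylow p G) = p + 1)
    (hP : ∀ P : Sylow p G, Nat.card (P : Subgroup G) = p) :
    p ∈ Cfsg.charDegrees G := by
  have hp : p.Prime := Fact.out
  have h2 := sylow_isMultiplyPretransitive_two hn hP
  have hX : 2 ≤ Nat.card (Sylow p G) := by rw [hn]; have := hp.two_le; omega
  have hirr := (isIrrCharacter_card_fixedBy_sub_one_iff (G := G) (X := Sylow p G) hX).mpr h2
  refine ⟨⟨_, hirr⟩, ?_⟩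
  have h1 := Cfsg.Agent.Lib.Helper24.irr_apply_one ⟨_, hirr⟩
  have hfix : Nat.card (MulAction.fixedBy (Sylow p G) (1 : G)) = p + 1 := by
    rw [MulAction.fixedBy_one_eq_univ, ← hn]
    exact Nat.card_congr (Equiv.Set.univ _)
  simp only [hfix] at h1
  have h3 : ((p : ℕ) : ℂ) = (charDegree (fun g : G => (Nat.card (MulAction.fixedBy (Sylow p G) g) : ℂ) - 1) : ℂ) := by
    rw [← h1]; push_cast; ring
  exact_mod_cast h3.symm

end

section A5

instance fact_prime_five' : Fact (Nat.Prime 5) := ⟨by norm_num⟩

theorem card_A5 : Nat.card (alternatingGroup (Fin 5)) = 60 := by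
  rw [nat_card_alternatingGroup, Nat.card_eq_fintype_card, Fintype.card_fin]
  decide

theorem a5_card_sylow_five_subgroup (P : Sylow 5 (alternatingGroup (Fin 5))) :
    Nat.card (P : Subgroup (alternatingGroup (Fin 5))) = 5 := by
  have h := P.card_eq_multiplicity
  rw [card_A5] at h
  have h2 : (60 : ℕ).factorization 5 = 1 := by decide +kernel
  rw [h2, pow_one] at h
  exact h

theorem a5_card_sylow_five : Nat.card (Sylow 5 (alternatingGroup (Fin 5))) = 5 + 1 := by
  let P : Sylow 5 (alternatingGroup (Fin 5)) := default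
  have hP := a5_card_sylow_five_subgroup P
  have h1 : Nat.card (Sylow 5 (alternatingGroup (Fin 5))) ≡ 1 [MOD 5] := card_sylow_modEq_one 5 _
  have h2 : Nat.card (Sylow 5 (alternatingGroup (Fin 5))) ∣
      (P : Subgroup (alternatingGroup (Fin 5))).index := P.card_dvd_index
  have h3 : (P : Subgroup (alternatingGroup (Fin 5))).index = 12 := by
    have := Subgroup.card_mul_index (P : Subgroup (alternatingGroup (Fin 5)))
    rw [hP, card_A5] at this
    omega
  rw [h3] at h2
  have hle : Nat.card (Sylow 5 (alternatingGroup (Fin 5))) ≤ 12 := Nat.le_of_dvd (by norm_num) h2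
  have hne1 : Nat.card (Sylow 5 (alternatingGroup (Fin 5))) ≠ 1 := by
    intro h
    rw [Sylow.card_eq_index_normalizer P, Subgroup.index_eq_one] at h
    have h' : (P : Subgroup (alternatingGroup (Fin 5))).Normal := by
      rw [← Subgroup.normalizer_eq_top_iff]
      exact h
    rcases h'.eq_bot_or_eq_top with h4 | h4
    · rw [h4, Subgroup.card_bot] at hP; omega
    · rw [h4, Subgroup.card_top, card_A5] at hP; omega
  unfold Nat.ModEq at h1
  generalize Nat.card (Sylow 5 (alternatingGroup (Fin 5))) = n at *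
  interval_cases n <;> omega

theorem five_mem_degreePrimes_A5 : 5 ∈ Cfsg.degreePrimes (alternatingGroup (Fin 5)) := by
  refine ⟨by norm_num, 5, ?_, dvd_rfl⟩
  exact exists_irr_degree_of_sylow (p := 5) a5_card_sylow_five a5_card_sylow_five_subgroup

end A5

end Cfsg.Agent.Lib.Helper19
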