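/-
helper19: S3797 leaf CRIT `exists_crit` (Thompson critical subgroup of a normal 2-subgroup,
transported to the ambient group).
-/
import Mathlib
import Cfsg.Prelude.Def_Local
import Cfsg.Agent.Lib.Helper25.TSDefs
import Cfsg.Agent.S0093
import Cfsg.Agent.S0121
import Cfsg.Agent.Lib.Helper1.PGroup

set_option autoImplicit false

namespace Cfsg.Agent.Lib.Helper19.TSCRIT

open Cfsg.Agent.Lib.Helper25.TS
open scoped commutatorElement

universe u

variable {G : Type u} [Group G] [Finite G]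

set_option maxHeartbeats 800000 in
/-- **G7 `exists_crit`** : Thompson's critical subgroup of the normal 2-subgroup `T`, transported
to `G`. -/
theorem exists_crit (T : Subgroup G) (hTn : T.Normal) (hT : IsPGroup 2 T) :
    ∃ C : Subgroup G, Crit T C := by
  classical
  haveI : Fact (Nat.Prime 2) := ⟨Nat.prime_two⟩
  haveI := hTn
  obtain ⟨H, hchar, hfr, hcomm, hcent⟩ := Cfsg.Agent.S0093.result (P := ↥T) (p := 2) hT
  have hmemC : ∀ x : G, x ∈ H.map T.subtype ↔ ∃ hx : x ∈ T, (⟨x, hx⟩ : T) ∈ H := by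
    intro x
    constructor
    · rintro ⟨h, hh, rfl⟩
      exact ⟨h.2, hh⟩
    · rintro ⟨hx, hh⟩
      exact ⟨⟨x, hx⟩, hh, rfl⟩
  -- elements of `H` stay in `H` under conjugation by `G`
  have hconjH : ∀ (g : G) (h : T), h ∈ H → MulAut.conjNormal g h ∈ H := by
    intro g h hh
    have := (Subgroup.characteristic_iff_map_eq.mp hchar) (MulAut.conjNormal g)
    rw [← this]
    exact ⟨h, hh, rfl⟩
  -- the square of an element of `H` is central in `H`
  have hsq : ∀ h : T, h ∈ H → ∀ k : T, k ∈ H → h ^ 2 * k = k * h ^ 2 := by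
    intro h hh k hk
    have hHp : IsPGroup 2 H := hT.to_subgroup H
    have h1 : (⟨h, hh⟩ : H) ^ 2 ∈ frattini H :=
      Cfsg.Agent.Lib.Helper1.IsPGroup.pow_mem_frattini hHp ⟨h, hh⟩
    have h2 : h ^ 2 ∈ (frattini H).map H.subtype := ⟨(⟨h, hh⟩ : H) ^ 2, h1, rfl⟩
    have h3 := hfr h2
    rw [Subgroup.mem_centralizer_iff] at h3
    exact (h3 k hk).symm
  refine ⟨H.map T.subtype, ?_, ?_, ?_, ?_, ?_, ?_⟩
  · -- le
    rintro _ ⟨h, _, rfl⟩
    exact h.2
  · -- normal
    refine ⟨fun x hx g => ?_⟩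
    obtain ⟨hxT, hxH⟩ := (hmemC x).mp hx
    have := hconjH g ⟨x, hxT⟩ hxH
    refine ⟨MulAut.conjNormal g ⟨x, hxT⟩, this, ?_⟩
    simp [MulAut.conjNormal_apply]
  · -- sq
    intro x hx y hy
    obtain ⟨hxT, hxH⟩ := (hmemC x).mp hx
    obtain ⟨hyT, hyH⟩ := (hmemC y).mp hy
    have := hsq ⟨x, hxT⟩ hxH ⟨y, hyT⟩ hyH
    exact congrArg Subtype.val this
  · -- comm
    intro t ht x hx y hy
    obtain ⟨hxT, hxH⟩ := (hmemC x).mp hx
    obtain ⟨hyT, hyH⟩ := (hmemC y).mp hy
    have h1 : ⁅(⟨x, hxT⟩ : T), (⟨t, ht⟩ : T)⁆ ∈ ⁅H, (⊤ : Subgroup T)⁆ :=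
      Subgroup.commutator_mem_commutator hxH (Subgroup.mem_top _)
    have h2 := (hcomm h1).2
    -- the inverse commutator also centralizes
    have h3 : ⁅(⟨t, ht⟩ : T), (⟨x, hxT⟩ : T)⁆ ∈ Subgroup.centralizer (H : Set T) := by
      rw [← commutatorElement_inv]
      exact Subgroup.inv_mem _ h2
    rw [Subgroup.mem_centralizer_iff] at h3
    have h4 := h3 ⟨y, hyT⟩ hyH
    have h5 := congrArg Subtype.val h4
    exact h5.symm
  · -- self_cent
    rintro g ⟨hgT, hgC⟩
    rw [hmemC]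
    refine ⟨hgT, hcent ?_⟩
    rw [Subgroup.mem_centralizer_iff]
    intro k hk
    have hgC' := Subgroup.mem_centralizer_iff.mp hgC
    have := hgC' (k : G) ⟨k, hk, rfl⟩
    exact Subtype.ext this
  · -- odd_faithful
    intro g hodd hcg t ht
    have ha : Nat.Coprime (orderOf (MulAut.conjNormal g : MulAut T)) 2 := by
      have hdvd : orderOf (MulAut.conjNormal g : MulAut T) ∣ orderOf g :=
        orderOf_map_dvd (MulAut.conjNormal (H := T)) g
      have hodd' : Odd (orderOf (MulAut.conjNormal g : MulAut T)) := hodd.of_dvd_nat hdvd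
      exact Nat.Coprime.symm (Nat.coprime_two_left.mpr hodd')
    have hfix : ∀ x ∈ H, (MulAut.conjNormal g : MulAut T) x = x := by
      intro x hx
      apply Subtype.ext
      rw [MulAut.conjNormal_apply]
      have := hcg (x : G) ⟨x, hx, rfl⟩
      rw [this, mul_assoc, mul_inv_cancel, mul_one]
    have h1 := Cfsg.Agent.S0121.result (G := ↥T) (p := 2) hT H hchar hfr hcomm hcent
      (MulAut.conjNormal g) ha hfix
    have h2 : (MulAut.conjNormal g : MulAut T) ⟨t, ht⟩ = ⟨t, ht⟩ := by rw [h1]; rfl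
    have h3 := congrArg Subtype.val h2
    rw [MulAut.conjNormal_apply] at h3
    calc g * t = g * t * g⁻¹ * g := by group
      _ = t * g := by rw [h3]

end Cfsg.Agent.Lib.Helper19.TSCRIT
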