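/-
helper19: S3797 leaf FAITH `mem_T_of_comm_mem_center` (`G / T` acts faithfully on `C / Z(C)`).
-/
import Mathlib
import Cfsg.Prelude.Def_Local
import Cfsg.Agent.Lib.Helper25.TSDefs
import Cfsg.Agent.Lib.Helper18.AbelianAut

set_option autoImplicit false

namespace Cfsg.Agent.Lib.Helper19.TSFAITH

open Cfsg.Agent.Lib.Helper25.TS
open scoped commutatorElement

universe u

variable {G : Type u} [Group G] [Finite G]

omit [Finite G] in
/-- an element killed by a power of two and by an odd number is trivial -/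
theorem eq_one_of_pow_two_pow_of_odd_pow {x : G} {b m : ℕ} (hx2 : x ^ (2 ^ b) = 1)
    (hm : Odd m) (hxm : x ^ m = 1) : x = 1 := by
  have h1 : orderOf x ∣ 2 ^ b := orderOf_dvd_of_pow_eq_one hx2
  have h2 : orderOf x ∣ m := orderOf_dvd_of_pow_eq_one hxm
  have hcop : Nat.Coprime (2 ^ b) m := Nat.Coprime.pow_left b (Nat.coprime_two_left.mpr hm)
  have h3 : orderOf x ∣ Nat.gcd (2 ^ b) m := Nat.dvd_gcd h1 h2
  rw [hcop] at h3
  exact orderOf_eq_one_iff.mp (Nat.dvd_one.mp h3)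

omit [Finite G] in
/-- Bezout: `x ^ r ∈ T`, `x ^ (2 ^ a) = 1`, `r` odd  ⟹  `x ∈ T`. -/
theorem mem_of_pow_mem_of_pow_two_pow (T : Subgroup G) {x : G} {r a : ℕ} (hr : Odd r)
    (hxr : x ^ r ∈ T) (hx2 : x ^ (2 ^ a) = 1) : x ∈ T := by
  have hcop : IsCoprime (r : ℤ) ((2 ^ a : ℕ) : ℤ) := by
    rw [Nat.isCoprime_iff_coprime]
    exact (Nat.Coprime.pow_left a (Nat.coprime_two_left.mpr hr)).symm
  obtain ⟨u, v, huv⟩ := hcop
  have : x = (x ^ r) ^ u * (x ^ (2 ^ a)) ^ v := by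
    rw [← zpow_natCast x r, ← zpow_natCast x (2 ^ a), ← zpow_mul, ← zpow_mul, ← zpow_add,
      mul_comm (r : ℤ) u, mul_comm ((2 ^ a : ℕ) : ℤ) v, huv, zpow_one]
  rw [this, hx2, one_zpow, mul_one]
  exact T.zpow_mem hxr u

set_option maxHeartbeats 1600000 in
/-- **G9 `mem_T_of_comm_mem_center`** : `G / T` acts faithfully on `C / Z(C)`. -/
theorem mem_T_of_comm_mem_center {T E K C : Subgroup G} (c : Cfg G T E) (k : KCfg T K)
    (hKE : K ≤ Subgroup.centralizer (E : Set G))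
    (h10 : ∀ g : G, (∀ x ∈ K, ⁅g, x⁆ ∈ T) → g ∈ K) (cr : Crit T C) :
    ∀ g : G, (∀ x ∈ C, ⁅g, x⁆ ∈ C ⊓ Subgroup.centralizer (C : Set G)) → g ∈ T := by
  classical
  intro g hg
  by_contra hgT
  haveI : Fact (Nat.Prime 2) := ⟨Nat.prime_two⟩
  haveI hCn : C.Normal := cr.normal
  haveI hKn : K.Normal := k.K_normal
  haveI hTn : T.Normal := c.T_normal
  set Z : Subgroup G := C ⊓ Subgroup.centralizer (C : Set G) with hZdef
  -- `Z` is normal in `G`
  have hZconj : ∀ z ∈ Z, ∀ a : G, a * z * a⁻¹ ∈ Z := by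
    intro z hz a
    obtain ⟨hzC, hzc⟩ := Subgroup.mem_inf.mp hz
    refine Subgroup.mem_inf.mpr ⟨hCn.conj_mem z hzC a, ?_⟩
    rw [Subgroup.mem_centralizer_iff]
    intro x hx
    have hx' : a⁻¹ * x * a ∈ C := by
      have := hCn.conj_mem x hx a⁻¹
      rwa [inv_inv] at this
    have h1 := (Subgroup.mem_centralizer_iff.mp hzc) _ hx'
    calc x * (a * z * a⁻¹) = a * ((a⁻¹ * x * a) * z) * a⁻¹ := by group
      _ = a * (z * (a⁻¹ * x * a)) * a⁻¹ := by rw [h1]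
      _ = a * z * a⁻¹ * x := by group
  -- the predicate `R`
  have hRmul : ∀ g₁ g₂ : G, (∀ x ∈ C, ⁅g₁, x⁆ ∈ Z) → (∀ x ∈ C, ⁅g₂, x⁆ ∈ Z) →
      ∀ x ∈ C, ⁅g₁ * g₂, x⁆ ∈ Z := by
    intro g₁ g₂ h1 h2 x hx
    have : ⁅g₁ * g₂, x⁆ = (g₁ * ⁅g₂, x⁆ * g₁⁻¹) * ⁅g₁, x⁆ := by
      simp only [commutatorElement_def]; group
    rw [this]
    exact Z.mul_mem (hZconj _ (h2 x hx) g₁) (h1 x hx)
  have hRinv : ∀ g₁ : G, (∀ x ∈ C, ⁅g₁, x⁆ ∈ Z) → ∀ x ∈ C, ⁅g₁⁻¹, x⁆ ∈ Z := by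
    intro g₁ h1 x hx
    have hy : g₁⁻¹ * x * g₁ ∈ C := by
      have := hCn.conj_mem x hx g₁⁻¹
      rwa [inv_inv] at this
    have h2 := h1 _ hy
    have : ⁅g₁⁻¹, x⁆ = (⁅g₁, g₁⁻¹ * x * g₁⁆)⁻¹ := by
      simp only [commutatorElement_def]; group
    rw [this]
    exact Z.inv_mem h2
  have hRconj : ∀ g₁ a : G, (∀ x ∈ C, ⁅g₁, x⁆ ∈ Z) → ∀ x ∈ C, ⁅a * g₁ * a⁻¹, x⁆ ∈ Z := by
    intro g₁ a h1 x hx
    have hy : a⁻¹ * x * a ∈ C := by
      have := hCn.conj_mem x hx a⁻¹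
      rwa [inv_inv] at this
    have : ⁅a * g₁ * a⁻¹, x⁆ = a * ⁅g₁, a⁻¹ * x * a⁆ * a⁻¹ := by
      simp only [commutatorElement_def]; group
    rw [this]
    exact hZconj _ (h1 _ hy) a
  have hRone : ∀ x ∈ C, ⁅(1 : G), x⁆ ∈ Z := by
    intro x _
    rw [commutatorElement_one_left]; exact Z.one_mem
  have hRpow : ∀ (g₁ : G) (n : ℕ), (∀ x ∈ C, ⁅g₁, x⁆ ∈ Z) → ∀ x ∈ C, ⁅g₁ ^ n, x⁆ ∈ Z := by
    intro g₁ n h1
    induction n with
    | zero => rw [pow_zero]; exact hRone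
    | succ n ih => rw [pow_succ]; exact hRmul _ _ ih h1
  -- Step 1: an element of `R ∩ K` outside `T`
  obtain ⟨g', hg'R, hg'K, hg'T⟩ : ∃ g' : G, (∀ x ∈ C, ⁅g', x⁆ ∈ Z) ∧ g' ∈ K ∧ g' ∉ T := by
    by_cases hall : ∀ x ∈ K, ⁅g, x⁆ ∈ T
    · exact ⟨g, hg, h10 g hall, hgT⟩
    · push_neg at hall
      obtain ⟨x, hxK, hxT⟩ := hall
      refine ⟨⁅g, x⁆, ?_, ?_, hxT⟩
      · have : ⁅g, x⁆ = g * (x * g⁻¹ * x⁻¹) := by
          simp only [commutatorElement_def]; group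
        rw [this]
        exact hRmul _ _ hg (hRconj _ x (hRinv g hg))
      · have : ⁅g, x⁆ = (g * x * g⁻¹) * x⁻¹ := by
          simp only [commutatorElement_def]
        rw [this]
        exact K.mul_mem (hKn.conj_mem x hxK g) (K.inv_mem hxK)
  -- Step 2: the odd part
  obtain ⟨a, m, hmodd, hn⟩ := Nat.exists_eq_two_pow_mul_odd (orderOf_pos g').ne'
  set h : G := g' ^ (2 ^ a) with hhdef
  have hhm : h ^ m = 1 := by
    rw [hhdef, ← pow_mul, ← hn, pow_orderOf_eq_one]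
  have hhR : ∀ x ∈ C, ⁅h, x⁆ ∈ Z := hRpow g' _ hg'R
  have hhK : h ∈ K := K.pow_mem hg'K _
  have hh1 : h ≠ 1 := by
    intro h1
    apply hg'T
    have hr : Odd (T.relIndex K) := k.odd
    have hpow : g' ^ (T.relIndex K) ∈ T := by
      haveI : (T.subgroupOf K).Normal := Subgroup.Normal.subgroupOf hTn K
      have := Subgroup.pow_index_mem (T.subgroupOf K) (⟨g', hg'K⟩ : K)
      rw [Subgroup.mem_subgroupOf] at this
      simpa [Subgroup.relIndex] using this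
    exact mem_of_pow_mem_of_pow_two_pow T hr hpow h1
  have hhodd : Odd (orderOf h) := hmodd.of_dvd_nat (orderOf_dvd_of_pow_eq_one hhm)
  -- `Z` is an abelian 2-group
  have hZT : Z ≤ T := fun z hz => cr.le (Subgroup.mem_inf.mp hz).1
  have hZ2 : IsPGroup 2 Z := c.T_two.to_le hZT
  have hZc : ∀ x ∈ Z, ∀ y ∈ Z, x * y = y * x := by
    intro x hx y hy
    obtain ⟨_, hxc⟩ := Subgroup.mem_inf.mp hx
    obtain ⟨hyC, _⟩ := Subgroup.mem_inf.mp hy
    exact ((Subgroup.mem_centralizer_iff.mp hxc) y hyC).symm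
  -- Step 3: `h` centralizes `Z`
  have hhE : ∀ e ∈ E, h * e * h⁻¹ = e := by
    intro e he
    have := (Subgroup.mem_centralizer_iff.mp (hKE hhK)) e he
    rw [← this, mul_assoc, mul_inv_cancel, mul_one]
  have hhZ : ∀ z ∈ Z, h * z * h⁻¹ = z :=
    Cfsg.Agent.Lib.Helper18.conj_eq_of_fixes_omega Z hZc hZ2 h (fun z hz => hZconj z hz h) m hhm
      (Nat.Coprime.symm (Nat.coprime_two_left.mpr hmodd))
      (fun z _ hz2 => hhE z ((c.mem_E z).mpr hz2))
  -- Step 4: `h` centralizes `C`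
  have hhC : ∀ x ∈ C, h * x = x * h := by
    intro x hx
    set z : G := ⁅h, x⁆ with hzdef
    have hzZ : z ∈ Z := hhR x hx
    have hconj : h * x * h⁻¹ = z * x := by
      rw [hzdef, commutatorElement_def]; group
    have hpow : ∀ j : ℕ, h ^ j * x * (h ^ j)⁻¹ = z ^ j * x := by
      intro j
      induction j with
      | zero => simp
      | succ j ih =>
        have hzj : h * z ^ j * h⁻¹ = z ^ j := hhZ _ (Z.pow_mem hzZ j)
        calc h ^ (j + 1) * x * (h ^ (j + 1))⁻¹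
            = h * (h ^ j * x * (h ^ j)⁻¹) * h⁻¹ := by rw [pow_succ']; group
          _ = h * (z ^ j * x) * h⁻¹ := by rw [ih]
          _ = (h * z ^ j * h⁻¹) * (h * x * h⁻¹) := by group
          _ = z ^ j * (z * x) := by rw [hzj, hconj]
          _ = z ^ (j + 1) * x := by rw [pow_succ]; group
    have hzm : z ^ m = 1 := by
      have := hpow m
      rw [hhm, one_mul, inv_one, mul_one] at this
      have h2 : z ^ m * x = 1 * x := by rw [← this, one_mul]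
      exact mul_right_cancel h2
    obtain ⟨b, hb⟩ := c.T_two ⟨z, hZT hzZ⟩
    have hzb : z ^ (2 ^ b) = 1 := by
      have := congrArg Subtype.val hb
      simpa using this
    have hz1 : z = 1 := eq_one_of_pow_two_pow_of_odd_pow hzb hmodd hzm
    rw [hzdef, commutatorElement_eq_one_iff_mul_comm] at hz1
    exact hz1
  -- Step 5
  have hhT' : ∀ t ∈ T, h * t = t * h := cr.odd_faithful h hhodd hhC
  have hhT : h ∈ T := by
    apply c.cent_T
    rw [Subgroup.mem_centralizer_iff]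
    intro t ht
    exact (hhT' t ht).symm
  obtain ⟨b, hb⟩ := c.T_two ⟨h, hhT⟩
  have hhb : h ^ (2 ^ b) = 1 := by
    have := congrArg Subtype.val hb
    simpa using this
  exact hh1 (eq_one_of_pow_two_pow_of_odd_pow hhb hmodd hhm)

end Cfsg.Agent.Lib.Helper19.TSFAITH
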