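/-
helper19: S3797 leaf SYLCE `sylow_le_centralizer`.
-/
import Mathlib
import Cfsg.Prelude.Def_Local
import Cfsg.Agent.Lib.Helper25.TSDefs
import Cfsg.Agent.Lib.Helper12.Cores
import Cfsg.Agent.Lib.Helper12.PPrimeP
import Cfsg.Agent.Lib.Helper9.PLength
import Cfsg.Agent.Lib.Helper9.PLengthFusion

set_option autoImplicit false

namespace Cfsg.Agent.Lib.Helper19.TSSYLCE

open Cfsg.Agent.Lib.Helper25.TS
open scoped commutatorElement

universe u

variable {G : Type u} [Group G] [Finite G]

/-- a `p`-group normalizing a nontrivial `p`-group has nontrivial fixed points on it -/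
theorem fixed_ne_bot {p : ℕ} [Fact p.Prime] {M P : Subgroup G}
    (hM : IsPGroup p M) (hP : IsPGroup p P) (hPM : P ≤ Subgroup.normalizer (M : Set G))
    (hM1 : M ≠ ⊥) : ∃ m ∈ M, m ≠ 1 ∧ ∀ b ∈ P, b * m = m * b := by
  let _ : MulAction ↥P ↥M := MulAction.compHom ↥M (Subgroup.inclusion hPM)
  have hp : p ∣ Nat.card ↥M := by
    obtain ⟨n, hn⟩ := hM.exists_card_eq
    rw [hn]
    rcases Nat.eq_zero_or_pos n with h0 | h0
    · exfalso
      rw [h0, pow_zero] at hn
      exact hM1 (Subgroup.card_eq_one.mp hn)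
    · exact dvd_pow_self p (by omega)
  have h1 : (1 : ↥M) ∈ MulAction.fixedPoints ↥P ↥M := by
    intro b
    apply Subtype.ext
    show (b : G) * 1 * (b : G)⁻¹ = 1
    group
  obtain ⟨m, hm, hm1⟩ := hP.exists_fixed_point_of_prime_dvd_card_of_fixed_point ↥M hp h1
  refine ⟨(m : G), m.2, fun h => hm1 (Subtype.ext h.symm), ?_⟩
  intro b hb
  have := hm ⟨b, hb⟩
  have h2 : b * (m : G) * b⁻¹ = m := congrArg Subtype.val this
  calc b * (m : G) = b * m * b⁻¹ * b := by group
    _ = m * b := by rw [h2]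

omit [Finite G] in
/-- the image in `G` of a normal subgroup of `N` is normalized by `N` -/
theorem le_normalizer_map_subtype (N : Subgroup G) (A : Subgroup N) [A.Normal] :
    N ≤ Subgroup.normalizer ((A.map N.subtype : Subgroup G) : Set G) := by
  have key : ∀ n ∈ N, ∀ x ∈ A.map N.subtype, n * x * n⁻¹ ∈ A.map N.subtype := by
    rintro n hn _ ⟨a, ha, rfl⟩
    refine ⟨⟨n, hn⟩ * a * ⟨n, hn⟩⁻¹, ?_, by simp⟩
    exact Subgroup.Normal.conj_mem inferInstance a ha _
  intro n hn
  rw [Subgroup.mem_normalizer_iff]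
  intro x
  constructor
  · exact key n hn x
  · intro hx
    have := key n⁻¹ (N.inv_mem hn) _ hx
    have e : n⁻¹ * (n * x * n⁻¹) * n⁻¹⁻¹ = x := by group
    rwa [e] at this

set_option maxHeartbeats 1600000 in
/-- **G5 `sylow_le_centralizer`** : `G = T N`, `N` of 2-length one, `K ≤ C_G(E)`  ⟹  every Sylow
2-subgroup of `G` centralizes `E`. -/
theorem sylow_le_centralizer {T E K : Subgroup G} (c : Cfg G T E) (k : KCfg T K) (N : Subgroup G)
    (hTN : T ⊔ N = ⊤) (hKE : K ≤ Subgroup.centralizer (E : Set G))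
    (hN : Cfsg.PLengthLE 2 1 ↥N) (S : Sylow 2 G) :
    (S : Subgroup G) ≤ Subgroup.centralizer (E : Set G) := by
  classical
  haveI : Fact (Nat.Prime 2) := ⟨Nat.prime_two⟩
  haveI hTn : T.Normal := c.T_normal
  haveI hEn : E.Normal := c.E_normal
  set CE : Subgroup G := Subgroup.centralizer (E : Set G) with hCEdef
  haveI hCEn : CE.Normal := Subgroup.normal_centralizer
  have hTCE : T ≤ CE := c.T_le_centralizer
  have hNnormCE : N ≤ Subgroup.normalizer (CE : Set G) := by
    rw [Subgroup.normalizer_eq_top_iff.mpr hCEn]; exact le_top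
  -- Step 1: `O_{2'}(N) ≤ C_G(E)`
  set O_N : Subgroup N := Cfsg.pPrimeCore 2 ↥N with hONdef
  haveI hONn : O_N.Normal := Cfsg.Agent.Lib.Helper12.pPrimeCore_normal' 2
  set O_G : Subgroup G := O_N.map N.subtype with hOGdef
  have hOGCE : O_G ≤ CE := by
    have hnorm : (T ⊔ O_G).Normal := by
      rw [← Subgroup.normalizer_eq_top_iff, eq_top_iff, ← hTN]
      apply sup_le
      · exact le_trans le_sup_left Subgroup.le_normalizer
      · intro n hn
        apply Subgroup.normalizer_inf_normalizer_le_normalizer_sup T O_G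
        refine ⟨?_, le_normalizer_map_subtype N O_N hn⟩
        rw [Subgroup.normalizer_eq_top_iff.mpr hTn]; exact Subgroup.mem_top n
    have hodd : Odd (T.relIndex (T ⊔ O_G)) := by
      rw [Subgroup.relIndex_sup_left]
      have h1 : T.relIndex O_G ∣ Nat.card O_G := Subgroup.relIndex_dvd_card _ _
      have h2 : Nat.card O_G = Nat.card O_N :=
        Nat.card_congr (Subgroup.equivMapOfInjective O_N N.subtype
          (Subgroup.subtype_injective N)).symm.toEquiv
      have h3 : (Nat.card O_N).Coprime 2 := Cfsg.Agent.Lib.Helper12.pPrimeCore_coprime (X := ↥N) 2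
      have h4 : Odd (Nat.card O_N) := Nat.coprime_two_right.mp h3
      rw [h2] at h1
      exact h4.of_dvd_nat h1
    have hle := k.max (T ⊔ O_G) hnorm le_sup_left hodd
    exact le_trans (le_trans le_sup_right hle) hKE
  -- Step 2: `O_{2',2}(N) ≤ C_G(E)`
  set M_N : Subgroup N := Cfsg.pPrimePCore 2 ↥N with hMNdef
  haveI hMNn : M_N.Normal := Cfsg.Agent.Lib.Helper12.pPrimePCore_normal' 2
  set M_G : Subgroup G := M_N.map N.subtype with hMGdef
  obtain ⟨S_N⟩ : Nonempty (Sylow 2 ↥N) := inferInstance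
  set P₂ : Subgroup G := (S_N : Subgroup N).map N.subtype with hP2def
  have hP2 : IsPGroup 2 P₂ := S_N.2.map N.subtype
  have hE2 : IsPGroup 2 E := c.T_two.to_le c.E_le
  have hEne : E ≠ ⊥ := by
    obtain ⟨x, hx, _, _, _, hx1, _⟩ := c.exists_two
    intro hbot
    rw [hbot] at hx
    exact hx1 (Subgroup.mem_bot.mp hx)
  have hP2E : P₂ ≤ Subgroup.normalizer (E : Set G) := by
    rw [Subgroup.normalizer_eq_top_iff.mpr hEn]; exact le_top
  obtain ⟨e₀, he₀E, he₀1, he₀P⟩ := fixed_ne_bot hE2 hP2 hP2E hEne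
  have hMGCE : M_G ≤ CE := by
    set R : Subgroup G := M_G ⊔ CE with hRdef
    have hRn : R.Normal := by
      rw [← Subgroup.normalizer_eq_top_iff, eq_top_iff, ← hTN]
      apply sup_le
      · exact le_trans (le_trans hTCE le_sup_right) Subgroup.le_normalizer
      · intro n hn
        apply Subgroup.normalizer_inf_normalizer_le_normalizer_sup M_G CE
        exact ⟨le_normalizer_map_subtype N M_N hn, hNnormCE hn⟩
    haveI := hRn
    haveI hcRn : (Subgroup.centralizer (R : Set G)).Normal := Subgroup.normal_centralizer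
    set D : Subgroup G := E ⊓ Subgroup.centralizer (R : Set G) with hDdef
    have hDn : D.Normal := Subgroup.normal_inf_normal E _
    have hDE : D ≤ E := inf_le_left
    -- `e₀ ∈ D`
    have he₀R : R ≤ Subgroup.centralizer ({e₀} : Set G) := by
      apply sup_le
      · rintro _ ⟨l, hl, rfl⟩
        obtain ⟨s, hs, o, ho, rfl⟩ :=
          Cfsg.Agent.Lib.Helper9.exists_mul_of_mem_pPrimePCore hN S_N hl
        rw [Subgroup.mem_centralizer_singleton_iff]
        have h1 : (s : G) * e₀ = e₀ * (s : G) := he₀P _ ⟨s, hs, rfl⟩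
        have h2 : (o : G) * e₀ = e₀ * (o : G) := by
          have : (o : G) ∈ CE := hOGCE ⟨o, ho, rfl⟩
          exact ((Subgroup.mem_centralizer_iff.mp this) e₀ he₀E).symm
        show ((s * o : N) : G) * e₀ = e₀ * ((s * o : N) : G)
        rw [Subgroup.coe_mul, mul_assoc, h2, ← mul_assoc, h1, mul_assoc]
      · intro x hx
        rw [Subgroup.mem_centralizer_singleton_iff]
        exact ((Subgroup.mem_centralizer_iff.mp hx) e₀ he₀E).symm
    have he₀D : e₀ ∈ D := by
      refine Subgroup.mem_inf.mpr ⟨he₀E, ?_⟩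
      rw [Subgroup.mem_centralizer_iff]
      intro x hx
      exact Subgroup.mem_centralizer_singleton_iff.mp (he₀R hx)
    have hDne : D ≠ ⊥ := by
      intro hbot
      rw [hbot] at he₀D
      exact he₀1 (Subgroup.mem_bot.mp he₀D)
    have hDeq : D = E := (c.eq_bot_or_eq_of_normal D hDn hDE).resolve_left hDne
    intro x hx
    rw [hCEdef, Subgroup.mem_centralizer_iff]
    intro e he
    have heD : e ∈ D := hDeq ▸ he
    have heC := (Subgroup.mem_inf.mp heD).2
    exact ((Subgroup.mem_centralizer_iff.mp heC) x (le_sup_left (a := M_G) hx)).symm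
  -- Step 3: `[G : C_G(E)]` is odd
  have hidx : (CE.index).Coprime 2 := by
    have htop : CE ⊔ N = ⊤ := by
      rw [eq_top_iff, ← hTN]
      exact sup_le_sup_right hTCE N
    have h1 : CE.index = CE.relIndex N := by
      rw [← Subgroup.relIndex_top_right, ← htop, Subgroup.relIndex_sup_left]
    have hle : M_N ≤ CE.subgroupOf N := by
      intro l hl
      rw [Subgroup.mem_subgroupOf]
      exact hMGCE ⟨l, hl, rfl⟩
    have h2 : (CE.subgroupOf N).index ∣ M_N.index := Subgroup.index_dvd_of_le hle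
    have h3 : (M_N.index).Coprime 2 :=
      Cfsg.Agent.Lib.Helper9.coprime_index_pPrimePCore_of_pLengthLE_one 2 hN
    rw [h1]
    exact Nat.Coprime.coprime_dvd_left h2 h3
  rw [← Subgroup.relIndex_eq_one]
  have h1 : CE.relIndex S ∣ CE.index := Subgroup.relIndex_dvd_index_of_normal _ _
  have h2 : CE.relIndex S ∣ Nat.card (S : Subgroup G) := Subgroup.relIndex_dvd_card _ _
  obtain ⟨n, hn⟩ := IsPGroup.iff_card.mp S.isPGroup'
  rw [hn] at h2
  exact Nat.eq_one_of_dvd_coprimes (hidx.pow_right n) h1 h2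

end Cfsg.Agent.Lib.Helper19.TSSYLCE
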