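import Mathlib
import Cfsg.Agent.Lib.Helper8.TW.Defs
import Cfsg.Agent.Lib.Helper20.AschA89WR
import Cfsg.Agent.Lib.Helper20.AschA89F2J
import Cfsg.Agent.Lib.Helper6.TWQa
import Cfsg.Agent.Lib.Helper6.TWT1
import Cfsg.Agent.Lib.Helper6.TWQDefs
import Cfsg.Agent.Lib.Helper23.TWG1

set_option autoImplicit false
set_option linter.unusedSectionVars false
set_option linter.unusedVariables false

namespace Cfsg.Agent.Lib.Helper19.TWQLeaf
open Matrix Cfsg.Geo Cfsg.Agent.Lib.Helper18.AschA89 Cfsg.Agent.Lib.Helper20.AschLeaf Cfsg.Agent.Lib.Helper8.TW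
open Cfsg.Agent.Lib.Helper6.TWQ (dM dGL fcube)

variable {F : Type*} [Field F] {t m : ℕ}

/-- (QB2a) normalise an involution by a pure element (ALL fields). -/
theorem normalise_involution (σ : Equiv.Perm (Fin t)) (α : Fin t → GL (Fin m) F) (hσ : σ * σ = 1)
    (hα : ∀ i, α (σ i) * α i = 1) :
    ∃ β α' : Fin t → GL (Fin m) F, (∀ i, σ i ≠ i → α' i = 1) ∧
      ptens m t (fun i => (((β i)⁻¹ : GL (Fin m) F) : Matrix (Fin m) (Fin m) F)) *
        (fperm m t σ * ptens m t (fun i => ((α i : GL (Fin m) F) : Matrix (Fin m) (Fin m) F))) *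
        ptens m t (fun i => ((β i : GL (Fin m) F) : Matrix (Fin m) (Fin m) F)) =
      fperm m t σ * ptens m t (fun i => ((α' i : GL (Fin m) F) : Matrix (Fin m) (Fin m) F)) := by
  have hσσ : ∀ i, σ (σ i) = i := fun i => by
    have := congrArg (fun p : Equiv.Perm (Fin t) => p i) hσ
    simpa using this
  let β : Fin t → GL (Fin m) F := fun i => if i < σ i then 1 else if σ i < i then α (σ i) else 1
  refine ⟨β, fun i => (β (σ i))⁻¹ * α i * β i, ?_, ?_⟩
  · intro i hi
    rcases lt_or_gt_of_ne hi with h | h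
    · -- σ i < i
      have h1 : β i = α (σ i) := by
        simp only [β]
        rw [if_neg (not_lt.2 h.le), if_pos h]
      have h2 : β (σ i) = 1 := by
        simp only [β]
        rw [hσσ, if_pos h]
      show (β (σ i))⁻¹ * α i * β i = 1
      rw [h1, h2, inv_one, one_mul]
      have := hα (σ i)
      rw [hσσ] at this
      exact this
    · -- i < σ i
      have h1 : β i = 1 := by
        simp only [β]
        rw [if_pos h]
      have h2 : β (σ i) = α i := by
        simp only [β]
        rw [hσσ, if_neg (not_lt.2 h.le), if_pos h]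
      show (β (σ i))⁻¹ * α i * β i = 1
      rw [h1, h2, mul_one, inv_mul_cancel]
  · rw [← mul_assoc, Cfsg.Agent.Lib.Helper6.TWQ.ptens_mul_fperm, mul_assoc, mul_assoc, ptens_mul, ptens_mul]
    congr 2
    funext i
    simp only [Units.val_mul, mul_assoc]

end Cfsg.Agent.Lib.Helper19.TWQLeaf
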