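import Mathlib
import Cfsg.Agent.Lib.Helper5.TWS.Defs
import Cfsg.Agent.Lib.Helper19.TWU3Defs

/-!
# S5668 (C7 symplectic, owner helper5) — STAGE III (sub-planner helper19): definitions

`vA s w = s w†` on `A = F^k` (`w† = sfv w = sf(·, w)`), `vT s w = s w†` on `V = F^(Idx t k)` (`w† = JT w = sfT(·, w)`),
`famS J y` (the factor family of `nilS J y`).  `extHom j`, `KB X j = {γ | extGL j γ ∈ X}` are the form-free ones of
`Cfsg.Agent.Lib.Helper19.TWU3Defs`.  Plan: `notes/S5668_III_plan.md`, leaves: `notes/S5668_III_leaves.lean`.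
-/

set_option autoImplicit false
set_option linter.unusedSectionVars false
set_option linter.unusedVariables false

namespace Cfsg.Agent.Lib.Helper19.TWS3
open Matrix Cfsg.Geo Cfsg.Agent.Lib.Helper18.AschA89 Cfsg.Agent.Lib.Helper8.TW
open Cfsg.Agent.Lib.Helper5.TWS
open Cfsg.Agent.Lib.Helper25.SpT (sf Jm sfv)

variable {F : Type*} [Field F] {t k : ℕ}

/-- the rank-one matrix `s w†` on `A = F^k` : `v ↦ sf v w • s` -/
def vA (s w : Fin k → F) : Matrix (Fin k) (Fin k) F := Matrix.vecMulVec s (sfv w)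

lemma vA_apply (s w : Fin k → F) (a b : Fin k) : vA s w a b = s a * sfv w b := by
  unfold vA
  rw [Matrix.vecMulVec_apply]

/-- the rank-one matrix `s w†` on `V = F^(Idx t k)` : `v ↦ sfT v w • s` -/
def vT (s w : Idx t k → F) : Matrix (Idx t k) (Idx t k) F := Matrix.vecMulVec s (JT t k F *ᵥ w)

lemma vT_apply (s w : Idx t k → F) (a b : Idx t k) : vT s w a b = s a * (JT t k F *ᵥ w) b := by
  unfold vT
  rw [Matrix.vecMulVec_apply]

/-- the factor family of `nilS J y`: `y_j y_j†` for `j ∈ J`, `1` otherwise -/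
def famS (J : Finset (Fin t)) (y : Fin t → Fin k → F) : Fin t → Matrix (Fin k) (Fin k) F :=
  fun j => if j ∈ J then vA (y j) (y j) else 1

lemma famS_mem {J : Finset (Fin t)} (y : Fin t → Fin k → F) {j : Fin t} (hj : j ∈ J) :
    famS J y j = vA (y j) (y j) := by
  unfold famS
  rw [if_pos hj]

lemma famS_not_mem {J : Finset (Fin t)} (y : Fin t → Fin k → F) {j : Fin t} (hj : j ∉ J) :
    famS J y j = 1 := by
  unfold famS
  rw [if_neg hj]

end Cfsg.Agent.Lib.Helper19.TWS3
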