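import Mathlib
import Cfsg.Agent.Lib.Helper5.TWS.Defs
import Cfsg.Agent.Lib.Helper19.TWS3Defs
import Cfsg.Agent.Lib.Helper19.TWGrow
import Cfsg.Agent.Lib.Helper20.AschA89F2J
import Cfsg.Agent.Lib.Helper6.TWT1

/-!
# S5668 (C7 symplectic), STAGE III (sub-planner helper19, `notes/S5668_III_leaves.lean`): the TOOLKIT
`nilS_eq_ptens`, `JT_eq_ptens`, `JT_mulVec_pt`, `sfT_pt`, `vT_pt`, `vA_mul_vA`, `vA_skew`, `nilS_sq_zero`, `nilS_univ`,
`sfT_mulVec_left`, `nilS_skew`, `unip_mem_GSV`, `XTS_of_GSV_le`.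
-/

set_option autoImplicit false
set_option linter.unusedSectionVars false
set_option linter.unusedVariables false

namespace Cfsg.Agent.Lib.Helper19.TWS3Leaf
open Matrix Cfsg.Geo Cfsg.Agent.Lib.Helper18.AschA89 Cfsg.Agent.Lib.Helper20.AschLeaf Cfsg.Agent.Lib.Helper8.TW
open Cfsg.Agent.Lib.Helper5.TWS Cfsg.Agent.Lib.Helper19.TWS3
open Cfsg.Agent.Lib.Helper25.SpT (sf Jm sfv)

variable {F : Type*} [Field F] {t k : ℕ}

/-- T1 -/
theorem nilS_eq_ptens (J : Finset (Fin t)) (y : Fin t → Fin k → F) :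
    nilS J y = ptens k t (famS J y) := by
  classical
  ext x x'
  rw [ptens_apply]
  unfold nilS
  have hsplit : ∏ i, famS J y i (x i) (x' i) =
      (∏ i ∈ J, famS J y i (x i) (x' i)) * ∏ i ∈ Jᶜ, famS J y i (x i) (x' i) :=
    (Finset.prod_mul_prod_compl J _).symm
  rw [hsplit]
  have h1 : ∏ i ∈ J, famS J y i (x i) (x' i) = ∏ j ∈ J, y j (x j) * sfv (y j) (x' j) := by
    apply Finset.prod_congr rfl
    intro i hi
    rw [famS_mem y hi, vA_apply]
  have h2 : ∏ i ∈ Jᶜ, famS J y i (x i) (x' i) = if ∀ j, j ∉ J → x j = x' j then 1 else 0 := by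
    have e : ∀ i ∈ Jᶜ, famS J y i (x i) (x' i) = if x i = x' i then 1 else 0 := by
      intro i hi
      rw [famS_not_mem y (Finset.mem_compl.1 hi), Matrix.one_apply]
    rw [Finset.prod_congr rfl e, Finset.prod_ite_zero]
    simp only [Finset.prod_const_one, Finset.mem_compl]
  rw [h1, h2]
  split_ifs <;> simp

/-- the Gram matrix of `sfT` is a pure tensor -/
theorem JT_eq_ptens : JT t k F = ptens k t (fun _ => (Jm k : Matrix (Fin k) (Fin k) F)) := by
  ext a b
  rw [JT_apply, ptens_apply]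

theorem JT_mulVec_pt (w : Fin t → Fin k → F) : JT t k F *ᵥ pt w = pt (fun i => sfv (w i)) := by
  rw [JT_eq_ptens, Cfsg.Agent.Lib.Helper6.TWLeaf.ptens_mulVec_pt]
  rfl

theorem dot_pt (u w : Fin t → Fin k → F) : pt u ⬝ᵥ pt w = ∏ i, u i ⬝ᵥ w i := by
  unfold pt dotProduct
  simp_rw [← Finset.prod_mul_distrib]
  rw [Finset.prod_univ_sum, Fintype.piFinset_univ]

theorem sfT_pt (u w : Fin t → Fin k → F) : sfT (pt u) (pt w) = ∏ i, sf (u i) (w i) := by
  unfold sfT
  rw [JT_mulVec_pt, dot_pt]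
  rfl

/-- T2 -/
theorem vT_pt (u w : Fin t → Fin k → F) :
    vT (pt u) (pt w) = ptens k t (fun i => vA (u i) (w i)) := by
  ext x x'
  rw [vT_apply, ptens_apply, JT_mulVec_pt]
  unfold pt
  rw [← Finset.prod_mul_distrib]
  apply Finset.prod_congr rfl
  intro i _
  rw [vA_apply]

/-- T3  `(s w†)(s' w'†) = sf(s', w) s w'†` -/
theorem vA_mul_vA (s w s' w' : Fin k → F) :
    vA s w * vA s' w' = sf s' w • vA s w' := by
  unfold vA
  rw [Matrix.vecMulVec_mul_vecMulVec, Cfsg.Agent.Lib.Helper25.SpT.sfv_dot]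
  ext a b
  simp only [Matrix.vecMulVec_apply, Matrix.smul_apply, Pi.smul_apply, smul_eq_mul]
  ring

theorem vA_sq (y : Fin k → F) : vA y y * vA y y = 0 := by
  rw [vA_mul_vA, Cfsg.Agent.Lib.Helper25.SpT.sf_self, zero_smul]

theorem vT_mul_vT (s w s' w' : Idx t k → F) :
    vT s w * vT s' w' = sfT s' w • vT s w' := by
  unfold vT
  rw [Matrix.vecMulVec_mul_vecMulVec]
  have e : (JT t k F *ᵥ w) ⬝ᵥ s' = sfT s' w := by
    unfold sfT
    rw [dotProduct_comm]
  rw [e]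
  ext a b
  simp only [Matrix.vecMulVec_apply, Matrix.smul_apply, Pi.smul_apply, smul_eq_mul]
  ring

theorem vA_mulVec (s w v : Fin k → F) : vA s w *ᵥ v = sf v w • s := by
  unfold vA
  rw [Matrix.vecMulVec_mulVec, Cfsg.Agent.Lib.Helper25.SpT.sfv_dot]
  ext a
  simp [mul_comm]

theorem vT_mulVec (s w v : Idx t k → F) : vT s w *ᵥ v = sfT v w • s := by
  unfold vT
  rw [Matrix.vecMulVec_mulVec]
  have e : (JT t k F *ᵥ w) ⬝ᵥ v = sfT v w := by
    unfold sfT
    rw [dotProduct_comm]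
  rw [e]
  ext a
  simp [mul_comm]

/-- `nilS J y` squares to zero when `J ≠ ∅` -/
theorem nilS_sq_zero (J : Finset (Fin t)) (hJ : J.Nonempty) (y : Fin t → Fin k → F) :
    nilS J y * nilS J y = 0 := by
  obtain ⟨j0, hj0⟩ := hJ
  rw [nilS_eq_ptens, ptens_mul]
  apply Cfsg.Agent.Lib.Helper19.TWGrow.ptens_eq_zero_of_factor _ j0
  show famS J y j0 * famS J y j0 = 0
  rw [famS_mem y hj0, vA_sq]

theorem nilS_univ (ys : Fin t → Fin k → F) : nilS Finset.univ ys = vT (pt ys) (pt ys) := by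
  rw [nilS_eq_ptens, vT_pt]
  congr 1
  funext i
  rw [famS_mem ys (Finset.mem_univ i)]

/-! ### skew operators -/

theorem Jm_transpose : (Jm k : Matrix (Fin k) (Fin k) F)ᵀ = - Jm k := by
  ext a b
  rw [Matrix.transpose_apply, Matrix.neg_apply, Cfsg.Agent.Lib.Helper25.SpT.Jm_swap]

/-- `y y†` is `sf`-skew, in matrix form -/
theorem vA_skew (y : Fin k → F) :
    (vA y y)ᵀ * (Jm k : Matrix (Fin k) (Fin k) F) = - ((Jm k : Matrix (Fin k) (Fin k) F) * vA y y) := by
  unfold vA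
  rw [Matrix.transpose_vecMulVec, Matrix.vecMulVec_mul, Matrix.mul_vecMulVec]
  have e : y ᵥ* (Jm k : Matrix (Fin k) (Fin k) F) = - sfv y := by
    unfold sfv
    rw [← Matrix.mulVec_transpose, Jm_transpose, Matrix.neg_mulVec]
  rw [e]
  ext a b
  simp [Matrix.vecMulVec_apply, sfv]

theorem sfT_mulVec_left (N : Matrix (Idx t k) (Idx t k) F) (u v : Idx t k → F) :
    sfT (N *ᵥ u) v = u ⬝ᵥ ((Nᵀ * JT t k F) *ᵥ v) := by
  unfold sfT
  rw [← Matrix.mulVec_mulVec, Matrix.dotProduct_mulVec u, Matrix.vecMul_transpose]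

theorem sfT_mulVec_right (N : Matrix (Idx t k) (Idx t k) F) (u v : Idx t k → F) :
    sfT u (N *ᵥ v) = u ⬝ᵥ ((JT t k F * N) *ᵥ v) := by
  unfold sfT
  rw [Matrix.mulVec_mulVec]

/-- `nilS J y` is `sfT`-skew for odd `|J|`, in matrix form -/
theorem nilS_skew_mat (J : Finset (Fin t)) (hJ : Odd J.card) (y : Fin t → Fin k → F) :
    (nilS J y)ᵀ * JT t k F = - (JT t k F * nilS J y) := by
  classical
  rw [nilS_eq_ptens, JT_eq_ptens, ptens_transpose, ptens_mul, ptens_mul]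
  have e : (fun i => (famS J y i)ᵀ * (Jm k : Matrix (Fin k) (Fin k) F)) =
      fun i => (if i ∈ J then (-1 : F) else 1) • ((Jm k : Matrix (Fin k) (Fin k) F) * famS J y i) := by
    funext i
    by_cases hi : i ∈ J
    · rw [if_pos hi, famS_mem y hi, vA_skew, neg_one_smul]
    · rw [if_neg hi, famS_not_mem y hi, Matrix.transpose_one, one_mul, mul_one, one_smul]
  rw [e, ptens_smul, Finset.prod_ite_mem, Finset.univ_inter, Finset.prod_const, hJ.neg_one_pow, neg_one_smul]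

/-- `nilS J y` is `sfT`-skew for odd `|J|` -/
theorem nilS_skew (J : Finset (Fin t)) (hJ : Odd J.card) (y : Fin t → Fin k → F) (u v : Idx t k → F) :
    sfT (nilS J y *ᵥ u) v = - sfT u (nilS J y *ᵥ v) := by
  rw [sfT_mulVec_left, sfT_mulVec_right, nilS_skew_mat J hJ, Matrix.neg_mulVec, dotProduct_neg]

/-- T5: a skew square-zero `N` gives isometries `1 + c N` -/
theorem unip_mem_GSV (N : Matrix (Idx t k) (Idx t k) F) (hsq : N * N = 0)
    (hskew : ∀ u v, sfT (N *ᵥ u) v = - sfT u (N *ᵥ v)) (c : F) (h : (c • N) * (c • N) = 0) :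
    unip (c • N) h ∈ GSV t k F := by
  rw [mem_GSV]
  intro u w
  have hval : ∀ x : Idx t k → F, mv (unip (c • N) h) x = x + c • (N *ᵥ x) := by
    intro x
    unfold mv
    rw [unip_val, Matrix.add_mulVec, Matrix.one_mulVec, Matrix.smul_mulVec]
  rw [hval, hval]
  have e2 : sfT (N *ᵥ u) (N *ᵥ w) = 0 := by
    rw [hskew, Matrix.mulVec_mulVec, hsq, Matrix.zero_mulVec, sfT_zero_right, neg_zero]
  rw [sfT_add_left, sfT_add_right, sfT_add_right, sfT_smul_left, sfT_smul_left, sfT_smul_right,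
    sfT_smul_right, e2, hskew u w]
  ring

/-- a group containing the isometry group contains all `XT_J` elements, `|J|` odd -/
theorem XTS_of_GSV_le (K : Subgroup (GL (Idx t k) F)) (h : GSV t k F ≤ K) (J : Finset (Fin t)) (hJ : Odd J.card) :
    XTS K J := by
  intro y c _
  have hJne : J.Nonempty := by
    rw [← Finset.card_pos]
    exact hJ.pos
  have hsq : nilS J y * nilS J y = 0 := nilS_sq_zero J hJne y
  have hsq' : (c • nilS J y) * (c • nilS J y) = 0 := by
    rw [Matrix.smul_mul, Matrix.mul_smul, hsq, smul_zero, smul_zero]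
  exact ⟨unip (c • nilS J y) hsq', h (unip_mem_GSV _ hsq (nilS_skew J hJ y) c hsq'), unip_val _ _⟩

end Cfsg.Agent.Lib.Helper19.TWS3Leaf
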