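import Mathlib
import Cfsg.Agent.Lib.Helper5.TWU.Defs
import Cfsg.Agent.Lib.Helper23.TWUT
import Cfsg.Agent.Lib.Helper19.TWU3Defs
import Cfsg.Agent.Lib.Helper19.TWU3Tool
import Cfsg.Agent.Lib.Helper23.TWU3A1
import Cfsg.Agent.Lib.Helper23.TWU3A4
import Cfsg.Agent.Lib.Helper6.TWU3U12
import Cfsg.Agent.Lib.Helper6.TWU3A8
import Cfsg.Agent.Lib.Helper17.TWU3A16
import Cfsg.Agent.Lib.Helper4.TWU3A2
import Cfsg.Agent.Lib.Helper4.TWU3A5
import Cfsg.Agent.Lib.Helper26.TWU3Bridge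
import Cfsg.Agent.Lib.Helper12.TWU3A1415
import Cfsg.Agent.Lib.Helper12.TWU3A7
import Cfsg.Agent.Lib.Helper12.TWU3A910
import Cfsg.Agent.Lib.Helper12.TWU3A12
import Cfsg.Agent.Lib.Helper4.TWU3U4

/-!
# S5672 (C7 unitary: GU_k wr S_t maximal in SU_n; owner helper5) — STAGE III, the ASSEMBLY (sub-planner helper19)

`stageIII_U` : `XT_J(X)`, `|J| ≥ 2`, `H ≤ X` ⟹ `SU(V) ≤ X` on `t + 1 ≥ 2` positions, given `MainTU t` for `t ≥ 2`.
Plan: `notes/S5672_III_plan.md`; leaves: `notes/S5672_III_leaves.lean` (all landed by helper4, 6, 12, 17, 19, 23, 26).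
-/

set_option autoImplicit false
set_option linter.unusedSectionVars false
set_option linter.unusedVariables false

namespace Cfsg.Agent.Lib.Helper19.TWU3Main
open Matrix Cfsg.Geo Cfsg.Agent.Lib.Helper18.AschA89 Cfsg.Agent.Lib.Helper20.AschLeaf Cfsg.Agent.Lib.Helper8.TW
open Cfsg.Agent.Lib.Helper5.TWU Cfsg.Agent.Lib.Helper19.TWU3
open Cfsg.Agent.Lib.Helper20.UT (hv)
open Cfsg.Agent.Lib.Helper23.TWUT (adjM)
open Cfsg.Agent.Lib.Helper19.TWU3Leaf (pt_eq_tens pt_ne_zero exists_iso_ne_zero)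
open Cfsg.Agent.Lib.Helper23.TWU3Leaf (hA_of_HU HU_le_KB KB_le_DUV hB_of_KB RG_of_XTU_univ not_le_Gstd_rank2)
open Cfsg.Agent.Lib.Helper6.TWU3Leaf (exists_down)
open Cfsg.Agent.Lib.Helper17.TWU3Leaf (RG_of_KB_XTU)
open Cfsg.Agent.Lib.Helper4.TWU3Leaf (XTU_inf_SUV not_le_Gstd_nilU)
open Cfsg.Agent.Lib.Helper26.TWU3Leaf (bridge_end)
open Cfsg.Agent.Lib.Helper12.TWU3Leaf (XTU_perm fperm3_mem_HU XTU_KB XTU_of_KB)
open Cfsg.Agent.Lib.Helper12.TWU3Leaf (hB_of_one)
open Cfsg.Agent.Lib.Helper4.TWU3Leaf (exists_ext_univ)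

variable {F : Type*} [Field F] [Fintype F] {t k q : ℕ}

/-! ## ASSEMBLY (helper19) -/

/-- from `InM X (ext j (1 + c • N))` to `InM (KB X j) (1 + c • N)` -/
theorem InM_KB_of_ext (X : Subgroup (GL (Idx (t + 1) k) F)) (j : Fin (t + 1)) (N : Matrix (Idx t k) (Idx t k) F)
    (hNN : N * N = 0) (c : F) (h : InM X (ext j (1 + c • N))) : InM (KB X j) (1 + c • N) := by
  obtain ⟨g, hgX, hgv⟩ := h
  have hsq : (c • N) * (c • N) = 0 := by
    rw [Matrix.smul_mul, Matrix.mul_smul, hNN, smul_zero, smul_zero]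
  refine ⟨unip (c • N) hsq, ?_, rfl⟩
  rw [mem_KB]
  have e : extGL j (unip (c • N) hsq) = g := by
    apply Units.ext
    rw [extGL_val, unip_val, hgv]
  rw [e]
  exact hgX

/-- **STAGE III (unitary)**: `XT_J(X)`, `|J| ≥ 2` ⟹ `SU(V) ≤ X`, on `t + 1 ≥ 2` positions; `MainTU t` (the induction hypothesis)
is used only for `t ≥ 2`. -/
theorem stageIII_U (hF : Fintype.card F = q ^ 2) (hk : 3 ≤ k) (hex : ¬ (q = 2 ∧ k = 3)) (t : ℕ) (ht : 1 ≤ t)
    (hind : 2 ≤ t → MainTU t k q F) (X : Subgroup (GL (Idx (t + 1) k) F)) (hHX : HU (t + 1) k q F ≤ X)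
    (J : Finset (Fin (t + 1))) (hJ : 2 ≤ J.card) (h : XTU q X J) : SUV (t + 1) k q F ≤ X := by
  have hJne : J.Nonempty := by
    rw [← Finset.card_pos]; omega
  -- WLOG `X ≤ SU(V)`
  set X' : Subgroup (GL (Idx (t + 1) k) F) := X ⊓ SUV (t + 1) k q F with hX'
  have hHX' : HU (t + 1) k q F ≤ X' := fun g hg => ⟨hHX hg, hg.2⟩
  have h' : XTU q X' J := XTU_inf_SUV hF X J hJne h
  have hXS : X' ≤ SUV (t + 1) k q F := inf_le_right
  have hXG : X' ≤ GUV (t + 1) k q F := fun g hg => (hXS hg).1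
  refine le_trans ?_ (inf_le_left : X' ≤ X)
  -- the end of the proof, given `j`, `hB` and a pure isotropic-type centre
  have hend : ∀ (j : Fin (t + 1)),
      (∀ (y : Idx t k → F) (c : F), hv q y y = 0 → c ^ q = -c → InM X' (ext j (1 + c • vv q y y))) →
      ∀ ys : Fin (t + 1) → Fin k → F, (∀ i, ys i ≠ 0 ∧ hv q (ys i) (ys i) = 0) → RG q X' (pt ys) →
        SUV (t + 1) k q F ≤ X' := by
    intro j hB ys hys hRG
    have hy₀ : pt (fun i => ys (j.succAbove i)) ≠ 0 := pt_ne_zero _ (fun i => (hys _).1)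
    have hy₀i : hv q (pt (fun i => ys (j.succAbove i))) (pt (fun i => ys (j.succAbove i))) = 0 := by
      rw [Cfsg.Agent.Lib.Helper23.TWUT.hv_pt]
      exact Finset.prod_eq_zero (Finset.mem_univ (⟨0, by omega⟩ : Fin t)) (hys _).2
    rw [pt_eq_tens j ys] at hRG
    exact bridge_end hF hk hex t ht j X' hXS (fun x c hx hc => hA_of_HU hF X' hHX' j x c hx hc) hB
      (ys j) _ (hys j).1 hy₀ (hys j).2 hy₀i hRG
  by_cases ht2 : 2 ≤ t
  · -- `t + 1 ≥ 3`
    have hMT := hind ht2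
    -- Step 1: some `K_j` is big
    have step1 : ∃ j : Fin (t + 1), SUV t k q F ≤ KB X' j := by
      by_cases hJu : J = Finset.univ
      · rw [hJu] at h'
        obtain ⟨j, N, hN0, hNN, hrk, hmem⟩ := exists_ext_univ hF hk ht2 X' hXG h'
        refine ⟨j, ?_⟩
        rcases hMT (KB X' j) (HU_le_KB hF X' hHX' j) (KB_le_DUV hF (by omega) X' hXG j) with hle | hle
        · exact absurd hle (not_le_Gstd_rank2 hF hk hex ht2 (KB X' j) N hN0 hNN hrk
            (fun c hc => InM_KB_of_ext X' j N hNN c (hmem c hc)))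
        · exact hle
      · obtain ⟨i, hi⟩ : ∃ i, i ∉ J := by
          by_contra hcon
          push Not at hcon
          exact hJu (Finset.eq_univ_iff_forall.2 hcon)
        obtain ⟨J', hJeq, hcard⟩ := exists_down i J hi
        have hJ'ne : J'.Nonempty := by
          rw [← Finset.card_pos]; omega
        have hXK : XTU q (KB X' i) J' := XTU_KB hF X' i J' hJ'ne (by rw [← hJeq]; exact h')
        refine ⟨i, ?_⟩
        rcases hMT (KB X' i) (HU_le_KB hF X' hHX' i) (KB_le_DUV hF (by omega) X' hXG i) with hle | hle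
        · exact absurd hle (not_le_Gstd_nilU hF hk hex (KB X' i) J' (by omega) hXK)
        · exact hle
    obtain ⟨j, hK⟩ := step1
    -- Step 2: `XT_{j, l'}`
    obtain ⟨l, l', hlj, hl'j, hll'⟩ : ∃ l l' : Fin (t + 1), l ≠ j ∧ l' ≠ j ∧ l ≠ l' := by
      have hcard : 2 ≤ (Finset.univ.erase j : Finset (Fin (t + 1))).card := by
        rw [Finset.card_erase_of_mem (Finset.mem_univ j), Finset.card_univ, Fintype.card_fin]; omega
      have h1 : 1 < (Finset.univ.erase j : Finset (Fin (t + 1))).card := by omega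
      rw [Finset.one_lt_card] at h1
      obtain ⟨a, ha, b, hb, hab⟩ := h1
      exact ⟨a, b, (Finset.mem_erase.1 ha).1, (Finset.mem_erase.1 hb).1, hab⟩
    have hjnot : j ∉ ({l, l'} : Finset (Fin (t + 1))) := by
      simp only [Finset.mem_insert, Finset.mem_singleton, not_or]
      exact ⟨fun e => hlj e.symm, fun e => hl'j e.symm⟩
    obtain ⟨J'', hJ''eq, hJ''card⟩ := exists_down j {l, l'} hjnot
    have hJ''ne : J''.Nonempty := by
      rw [← Finset.card_pos, hJ''card, Finset.card_pair hll']; omega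
    have hX1 : XTU q X' {l, l'} := by
      rw [hJ''eq]
      exact XTU_of_KB hF X' j hK J'' hJ''ne
    set σ : Equiv.Perm (Fin (t + 1)) := Equiv.swap l j * Equiv.swap l l' with hσ
    have h3c : σ.IsThreeCycle := Equiv.Perm.isThreeCycle_swap_mul_swap_same hlj hll' (Ne.symm hl'j)
    have h3 : σ ^ 3 = 1 := by
      rw [← h3c.orderOf]
      exact pow_orderOf_eq_one σ
    have hσl : σ l = l' := by
      rw [hσ, Equiv.Perm.mul_apply, Equiv.swap_apply_left, Equiv.swap_apply_of_ne_of_ne hll'.symm hl'j]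
    have hσl' : σ l' = j := by
      rw [hσ, Equiv.Perm.mul_apply, Equiv.swap_apply_right, Equiv.swap_apply_left]
    have hX2 : XTU q X' {j, l'} := by
      have := XTU_perm (q := q) X' σ (hHX' (fperm3_mem_HU hF σ h3)) {l, l'} hX1
      rw [Finset.map_insert, Finset.map_singleton] at this
      simp only [Equiv.coe_toEmbedding, hσl, hσl'] at this
      rw [Finset.pair_comm]
      exact this
    -- Step 3: a transvection with pure isotropic-type centre
    obtain ⟨ys, hys, hRG⟩ := RG_of_KB_XTU hF hk ht2 X' j l' (Ne.symm hl'j) hK hX2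
    -- Step 4
    exact hend j (fun y c hy hc => hB_of_KB hF X' j hK y c hy hc) ys hys hRG
  · -- two positions
    obtain rfl : t = 1 := by omega
    have hJu : J = Finset.univ := by
      apply Finset.eq_univ_of_card
      rw [Fintype.card_fin]
      have := Finset.card_le_univ J
      rw [Fintype.card_fin] at this
      omega
    rw [hJu] at h'
    obtain ⟨x, hx0, hx⟩ := exists_iso_ne_zero (k := k) hF (by omega)
    exact hend 0 (fun y c hy hc => hB_of_one hF X' hHX' 0 y c hy hc) (fun _ => x) (fun _ => ⟨hx0, hx⟩)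
      (RG_of_XTU_univ X' h' _ (fun _ => ⟨hx0, hx⟩))

end Cfsg.Agent.Lib.Helper19.TWU3Main
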