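import Mathlib
import Cfsg.Agent.Lib.Helper5.TWU.Defs
import Cfsg.Agent.Lib.Helper23.TWUT
import Cfsg.Agent.Lib.Helper23.TWUQMain
import Cfsg.Agent.Lib.Helper23.TWUQSc
import Cfsg.Agent.Lib.Helper22.TWExtMore
import Cfsg.Agent.Lib.Helper14.TWIIDefs
import Cfsg.Agent.Lib.Helper19.TWGrow
import Cfsg.Agent.Lib.Helper19.TWU3Defs
import Cfsg.Agent.Lib.Helper19.TWU3Tool
import Cfsg.Agent.Lib.Helper23.UTG

/-!
S5672 (C7 unitary), STAGE III (sub-planner helper19, `notes/S5672_III_leaves.lean`): leaf U3 `mixed_mem`, exact signature.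
By-products: `nilU_univ`, `RG_of_XTU_univ_aux` (= A13), `pt_update_apply`, `pt_update_add_smul`, `tv_mulVec`,
`vv_add_left`, `vv_add_right`.
-/

set_option autoImplicit false
set_option linter.unusedSectionVars false
set_option linter.unusedVariables false

namespace Cfsg.Agent.Lib.Helper19.TWU3Leaf
open Matrix Cfsg.Geo Cfsg.Agent.Lib.Helper18.AschA89 Cfsg.Agent.Lib.Helper20.AschLeaf Cfsg.Agent.Lib.Helper8.TW
open Cfsg.Agent.Lib.Helper5.TWU Cfsg.Agent.Lib.Helper19.TWU3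
open Cfsg.Agent.Lib.Helper20.UT (hv)
open Cfsg.Agent.Lib.Helper23.TWUT (adjM)

variable {F : Type*} [Field F] [Fintype F] {t k q : ℕ}

/-- `nilU q univ ys = (pt ys)(pt ys)†` -/
lemma nilU_univ (ys : Fin t → Fin k → F) : nilU q Finset.univ ys = vv q (pt ys) (pt ys) := by
  rw [nilU_eq_ptens, vv_pt]
  congr 1
  funext i
  unfold famU
  rw [if_pos (Finset.mem_univ i)]

/-- local form of A13 -/
lemma RG_of_XTU_univ_aux (X : Subgroup (GL (Idx t k) F)) (h : XTU q X Finset.univ) (ys : Fin t → Fin k → F)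
    (hys : ∀ i, ys i ≠ 0 ∧ hv q (ys i) (ys i) = 0) : RG q X (pt ys) := by
  intro c hc
  have := h ys c (fun j _ => hys j) hc
  rwa [nilU_univ] at this

lemma pt_update_apply (y : Fin t → Fin k → F) (p : Fin t) (a : Fin k → F) (x : Idx t k) :
    pt (Function.update y p a) x = a (x p) * ∏ i ∈ Finset.univ.erase p, y i (x i) := by
  unfold pt
  rw [← Finset.mul_prod_erase Finset.univ _ (Finset.mem_univ p), Function.update_self]
  congr 1
  apply Finset.prod_congr rfl
  intro i hi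
  rw [Function.update_of_ne (Finset.ne_of_mem_erase hi)]

lemma pt_update_add_smul (y : Fin t → Fin k → F) (p : Fin t) (a b : Fin k → F) (l : F) :
    pt (Function.update y p (a + l • b)) = pt (Function.update y p a) + l • pt (Function.update y p b) := by
  funext x
  rw [Pi.add_apply, Pi.smul_apply, pt_update_apply, pt_update_apply, pt_update_apply, Pi.add_apply, Pi.smul_apply,
    smul_eq_mul, smul_eq_mul]
  ring

/-- the action of a unitary transvection -/
lemma tv_mulVec {κ : Type} [Fintype κ] [DecidableEq κ] (c : F) (s x : κ → F) :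
    (1 + c • vv q s s) *ᵥ x = x + (c * hv q x s) • s := by
  rw [Matrix.add_mulVec, Matrix.one_mulVec, Matrix.smul_mulVec, vv_mulVec, smul_smul]

lemma vv_add_left {κ : Type} (s s' w : κ → F) : vv q (s + s') w = vv q s w + vv q s' w := by
  ext a b
  rw [Matrix.add_apply, vv_apply, vv_apply, vv_apply, Pi.add_apply]
  ring

lemma vv_add_right {κ : Type} (hF : Fintype.card F = q ^ 2) (s w w' : κ → F) :
    vv q s (w + w') = vv q s w + vv q s w' := by
  ext a b
  rw [Matrix.add_apply, vv_apply, vv_apply, vv_apply, Pi.add_apply, Cfsg.Agent.Lib.Helper20.UT.add_pow_q hF]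
  ring

/-- U3 -/
theorem mixed_mem (hF : Fintype.card F = q ^ 2) (hk : 2 ≤ k) (ht : 1 ≤ t) (X : Subgroup (GL (Idx (t + 1) k) F))
    (hXG : X ≤ GUV (t + 1) k q F) (h : XTU q X Finset.univ) (p : Fin (t + 1)) (yv yw : Fin (t + 1) → Fin k → F)
    (hv0 : ∀ i, yv i ≠ 0 ∧ hv q (yv i) (yv i) = 0) (hw0 : ∀ i, yw i ≠ 0 ∧ hv q (yw i) (yw i) = 0)
    (hp : yv p = yw p) (h1 : ∀ i, i ≠ p → hv q (yw i) (yv i) = 1) (c : F) (hc : c ^ q = -c) :
    InM X (1 + c • (vv q (pt yv) (pt yw) + vv q (pt yw) (pt yv))) := by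
  classical
  obtain ⟨s, rfl⟩ : ∃ s, t = s + 1 := ⟨t - 1, by omega⟩
  obtain ⟨i₀, hi₀⟩ := exists_ne p
  set v := pt yv with hvdef
  set w := pt yw with hwdef
  have hf := Cfsg.Agent.Lib.Helper20.UT.hv_unitary (n := k) hF
  -- the base values
  have hvv : hv q v v = 0 := by
    rw [hvdef, Cfsg.Agent.Lib.Helper23.TWUT.hv_pt]
    exact Finset.prod_eq_zero (Finset.mem_univ p) (hv0 p).2
  have hww : hv q w w = 0 := by
    rw [hwdef, Cfsg.Agent.Lib.Helper23.TWUT.hv_pt]
    exact Finset.prod_eq_zero (Finset.mem_univ p) (hw0 p).2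
  have hwv : hv q w v = 0 := by
    rw [hwdef, hvdef, Cfsg.Agent.Lib.Helper23.TWUT.hv_pt]
    refine Finset.prod_eq_zero (Finset.mem_univ p) ?_
    rw [← hp]
    exact (hv0 p).2
  have hvw : hv q v w = 0 := Cfsg.Agent.Lib.Helper20.UT.hv_symm_zero hF hwv
  have RGv : RG q X v := RG_of_XTU_univ_aux X h yv hv0
  have RGw : RG q X w := RG_of_XTU_univ_aux X h yw hw0
  -- the partner of `e = yv p`
  obtain ⟨c₀, hc₀0, hc₀⟩ := Cfsg.Agent.Lib.Helper23.UTLeaf.exists_skew hF
  obtain ⟨e', -, he'e', hee'⟩ := Cfsg.Agent.Lib.Helper5.UForm.exists_partner hf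
    (Cfsg.Agent.Lib.Helper5.UForm.ND_top hf) (Submodule.mem_top : yv p ∈ ⊤) (hv0 p).1 (hv0 p).2
  have he'e : hv q e' (yv p) = 1 := by
    rw [← Cfsg.Agent.Lib.Helper20.UT.hv_conj hF, hee', one_pow]
  have he'0 : e' ≠ 0 := by
    rintro rfl
    rw [Cfsg.Agent.Lib.Helper20.UT.hv_zero_left] at he'e
    exact zero_ne_one he'e
  set lam : F := -c₀⁻¹ with hlam
  have hlamq : lam ^ q = c₀⁻¹ := by
    rw [hlam, Cfsg.Agent.Lib.Helper20.UT.neg_pow_q hF, inv_pow, hc₀, inv_neg, neg_neg]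
  have hlamsk : lam ^ q = -lam := by rw [hlamq, hlam, neg_neg]
  set el : Fin k → F := yv p + lam • e' with hel
  have hel_iso : hv q el el = 0 := by
    rw [hel, Cfsg.Agent.Lib.Helper20.UT.hv_add_left, Cfsg.Agent.Lib.Helper20.UT.hv_add_right hF,
      Cfsg.Agent.Lib.Helper20.UT.hv_add_right hF, Cfsg.Agent.Lib.Helper20.UT.hv_smul_left,
      Cfsg.Agent.Lib.Helper20.UT.hv_smul_left, Cfsg.Agent.Lib.Helper20.UT.hv_smul_right,
      Cfsg.Agent.Lib.Helper20.UT.hv_smul_right, (hv0 p).2, hee', he'e, he'e', hlamsk]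
    ring
  have hel0 : el ≠ 0 := by
    intro h0
    have : hv q el e' = 1 := by
      rw [hel, Cfsg.Agent.Lib.Helper20.UT.hv_add_left, Cfsg.Agent.Lib.Helper20.UT.hv_smul_left, hee', he'e']
      ring
    rw [h0, Cfsg.Agent.Lib.Helper20.UT.hv_zero_left] at this
    exact zero_ne_one this
  -- the families
  set ys' : Fin (s + 1 + 1) → Fin k → F := Function.update yv p e' with hys'
  set ysl : Fin (s + 1 + 1) → Fin k → F := Function.update yv p el with hysl
  have hys'0 : ∀ i, ys' i ≠ 0 ∧ hv q (ys' i) (ys' i) = 0 := by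
    intro i
    by_cases hi : i = p
    · subst hi
      rw [hys', Function.update_self]
      exact ⟨he'0, he'e'⟩
    · rw [hys', Function.update_of_ne hi]
      exact hv0 i
  have hysl0 : ∀ i, ysl i ≠ 0 ∧ hv q (ysl i) (ysl i) = 0 := by
    intro i
    by_cases hi : i = p
    · subst hi
      rw [hysl, Function.update_self]
      exact ⟨hel0, hel_iso⟩
    · rw [hysl, Function.update_of_ne hi]
      exact hv0 i
  set v' := pt ys' with hv'def
  set vl := pt ysl with hvldef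
  have hvl : vl = v + lam • v' := by
    rw [hvldef, hysl, hel, pt_update_add_smul, Function.update_eq_self]
  have RGv' : RG q X v' := RG_of_XTU_univ_aux X h ys' hys'0
  have RGvl : RG q X vl := RG_of_XTU_univ_aux X h ysl hysl0
  have hwv' : hv q w v' = 1 := by
    rw [hwdef, hv'def, Cfsg.Agent.Lib.Helper23.TWUT.hv_pt]
    apply Finset.prod_eq_one
    intro i _
    by_cases hi : i = p
    · subst hi
      rw [hys', Function.update_self, ← hp]
      exact hee'
    · rw [hys', Function.update_of_ne hi]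
      exact h1 i hi
  have hv'v : hv q v' v = 0 := by
    rw [hv'def, hvdef, Cfsg.Agent.Lib.Helper23.TWUT.hv_pt]
    refine Finset.prod_eq_zero (Finset.mem_univ i₀) ?_
    rw [hys', Function.update_of_ne hi₀]
    exact (hv0 i₀).2
  have hv'v' : hv q v' v' = 0 := by
    rw [hv'def, Cfsg.Agent.Lib.Helper23.TWUT.hv_pt]
    refine Finset.prod_eq_zero (Finset.mem_univ i₀) ?_
    rw [hys', Function.update_of_ne hi₀]
    exact (hv0 i₀).2
  -- the element `D`
  have hsk1 : (-(c₀ * lam * lam ^ q)) ^ q = -(-(c₀ * lam * lam ^ q)) := by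
    rw [Cfsg.Agent.Lib.Helper20.UT.neg_pow_q hF, mul_pow, mul_pow, Cfsg.Agent.Lib.Helper20.UT.pow_q_pow_q' hF, hc₀]
    ring
  have hsk2 : (-c₀) ^ q = -(-c₀) := by
    rw [Cfsg.Agent.Lib.Helper20.UT.neg_pow_q hF, hc₀]
  obtain ⟨g₁, hg₁X, hg₁⟩ := RGv' _ hsk1
  obtain ⟨g₂, hg₂X, hg₂⟩ := RGv _ hsk2
  obtain ⟨g₃, hg₃X, hg₃⟩ := RGvl _ hc₀
  have hD : mv (g₃ * g₂ * g₁) w = w + v := by
    have e1 : (g₁ : Matrix _ _ F) *ᵥ w = w + (-(c₀ * lam * lam ^ q)) • v' := by
      rw [hg₁, tv_mulVec, hwv', mul_one]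
    have e2 : (g₂ : Matrix _ _ F) *ᵥ (w + (-(c₀ * lam * lam ^ q)) • v') = w + (-(c₀ * lam * lam ^ q)) • v' := by
      rw [hg₂, tv_mulVec, Cfsg.Agent.Lib.Helper20.UT.hv_add_left, Cfsg.Agent.Lib.Helper20.UT.hv_smul_left, hwv, hv'v,
        mul_zero, add_zero, mul_zero, zero_smul, add_zero]
    have e3 : (g₃ : Matrix _ _ F) *ᵥ (w + (-(c₀ * lam * lam ^ q)) • v') = w + v := by
      rw [hg₃, tv_mulVec, Cfsg.Agent.Lib.Helper20.UT.hv_add_left, Cfsg.Agent.Lib.Helper20.UT.hv_smul_left, hvl,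
        Cfsg.Agent.Lib.Helper20.UT.hv_add_right hF, Cfsg.Agent.Lib.Helper20.UT.hv_add_right hF,
        Cfsg.Agent.Lib.Helper20.UT.hv_smul_right, Cfsg.Agent.Lib.Helper20.UT.hv_smul_right, hwv, hwv', hv'v, hv'v',
        hlamq]
      funext x
      simp only [Pi.add_apply, Pi.smul_apply, smul_eq_mul]
      field_simp
      ring
    show ((g₃ * g₂ * g₁ : GL _ F) : Matrix _ _ F) *ᵥ w = w + v
    rw [Units.val_mul, Units.val_mul, ← Matrix.mulVec_mulVec, ← Matrix.mulVec_mulVec, e1, e2, e3]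
  have RGwv : RG q X (w + v) := by
    rw [← hD]
    exact RG_move hF X hXG _ (X.mul_mem (X.mul_mem hg₃X hg₂X) hg₁X) w RGw
  -- the product of three transvections
  have hcn : (-c) ^ q = -(-c) := by
    rw [Cfsg.Agent.Lib.Helper20.UT.neg_pow_q hF, hc]
  set S : Fin 3 → (Idx (s + 1 + 1) k → F) := ![w + v, w, v] with hS
  set cs : Fin 3 → F := ![c, -c, -c] with hcs
  have hperp : ∀ a b : Fin 3, hv q (S a) (S b) = 0 := by
    intro a b
    fin_cases a <;> fin_cases b <;>
      simp [hS, Cfsg.Agent.Lib.Helper20.UT.hv_add_left, Cfsg.Agent.Lib.Helper20.UT.hv_add_right hF, hvv, hww, hwv, hvw]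
  have hmem : ∀ a : Fin 3, InM X (1 + cs a • vv q (S a) (S a)) := by
    intro a
    fin_cases a
    · exact RGwv c hc
    · exact RGw (-c) hcn
    · exact RGv (-c) hcn
  have key := sum_mem_of_annihilate X (fun a : Fin 3 => cs a • vv q (S a) (S a))
    (fun a b => by
      rw [Matrix.smul_mul, Matrix.mul_smul, vv_mul_vv, hperp b a, zero_smul, smul_zero, smul_zero]) hmem
  have hsum : ∑ a : Fin 3, cs a • vv q (S a) (S a) = c • (vv q v w + vv q w v) := by
    rw [Fin.sum_univ_three]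
    simp only [hS, hcs, Matrix.cons_val_zero, Matrix.cons_val_one, Matrix.cons_val_two, Matrix.head_cons,
      Matrix.tail_cons]
    rw [vv_add_left, vv_add_right hF, vv_add_right hF]
    ext a b
    simp only [Matrix.add_apply, Matrix.smul_apply, smul_eq_mul]
    ring
  rw [hsum] at key
  exact key

end Cfsg.Agent.Lib.Helper19.TWU3Leaf
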