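/-
helper19: lemma L3 of helper20's `typeV_alt` farm-out.  In a `p`-group `P` (`p` odd) with an element
`x` of order `p` and a central subgroup `Z₀` of order `p` such that `Ω₁(C_P(x)) ≤ ⟨x⟩ Z₀` and
`⟨x⟩ Z₀` is not normal in `P`, there is a unique normal elementary abelian subgroup of order `p ^ 2`;
it contains `Z₀` and is invariant under `N_G(P)`.
-/
import Mathlib
import Cfsg.Agent.Lib.Helper8.Conj
import Cfsg.Agent.Lib.Helper1.Coprime
import Cfsg.Agent.Lib.Helper11.UniqueSubgroup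
import Cfsg.Agent.Lib.Helper12.Basic
import Cfsg.Agent.Lib.Helper17.BGUniqG

set_option autoImplicit false

namespace Cfsg.Agent.Lib.Helper19.TypeVL3

open Cfsg.Agent.Lib.Helper8 (mem_map_conj conj_mem_map_conj map_conj_map_conj map_conj_one
  card_map_conj map_conj_eq_of_le mem_normalizer_iff_map_conj)

variable {G : Type*} [Group G]

/-- elements of the join of two elementwise commuting subgroups. -/
theorem exists_mul_of_mem_sup {A B : Subgroup G}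
    (hc : ∀ a ∈ A, ∀ b ∈ B, a * b = b * a) {z : G} (hz : z ∈ A ⊔ B) :
    ∃ a ∈ A, ∃ b ∈ B, z = a * b := by
  have hnorm : B ≤ Subgroup.normalizer (A : Set G) := by
    refine le_trans ?_ (Subgroup.centralizer_le_normalizer _)
    intro b hb
    rw [Subgroup.mem_centralizer_iff]
    intro a ha
    exact hc a ha b hb
  rw [← SetLike.mem_coe, Subgroup.coe_mul_of_right_le_normalizer_left A B hnorm,
    Set.mem_mul] at hz
  obtain ⟨a, ha, b, hb, rfl⟩ := hz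
  exact ⟨a, ha, b, hb, rfl⟩

/-- a nontrivial element of a subgroup of prime order generates it. -/
theorem zpowers_eq_of_card_prime [Finite G] {p : ℕ} [Fact p.Prime] {Z : Subgroup G} {c : G}
    (hZ : Nat.card Z = p) (hc : c ∈ Z) (hc1 : c ≠ 1) : Subgroup.zpowers c = Z := by
  have hp : p.Prime := Fact.out
  have hle : Subgroup.zpowers c ≤ Z := Subgroup.zpowers_le.mpr hc
  apply Subgroup.eq_of_le_of_card_ge hle
  rw [Nat.card_zpowers, hZ]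
  have h1 : orderOf c ∣ p := by
    rw [← hZ]
    exact Subgroup.orderOf_dvd_natCard Z hc
  rcases (Nat.dvd_prime hp).mp h1 with h | h
  · exact absurd (orderOf_eq_one_iff.mp h) hc1
  · exact h.ge

theorem mem_zpowers_of_mem_zpowers [Finite G] {p : ℕ} [Fact p.Prime] {x a : G}
    (hx : orderOf x = p) (ha : a ∈ Subgroup.zpowers x) (ha1 : a ≠ 1) :
    x ∈ Subgroup.zpowers a := by
  have h := zpowers_eq_of_card_prime (p := p) (Z := Subgroup.zpowers x)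
    (by rw [Nat.card_zpowers, hx]) ha ha1
  rw [h]
  exact Subgroup.mem_zpowers x

/-- the order of `⟨b⟩ Z` for `Z` of order `p` and `b ∉ Z` of order `p` centralizing `Z`. -/
theorem card_zpowers_sup [Finite G] {p : ℕ} [Fact p.Prime] {Z : Subgroup G} {b : G}
    (hZ : Nat.card Z = p) (hbZ : b ∉ Z) (hbp : b ^ p = 1) (hc : ∀ z ∈ Z, b * z = z * b) :
    Nat.card ↥(Subgroup.zpowers b ⊔ Z) = p ^ 2 := by
  have hp : p.Prime := Fact.out
  have hb1 : b ≠ 1 := fun h => hbZ (h ▸ Z.one_mem)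
  have hob : orderOf b = p := orderOf_eq_prime hbp hb1
  have hcb : Nat.card (Subgroup.zpowers b) = p := by rw [Nat.card_zpowers, hob]
  have hd : Disjoint (Subgroup.zpowers b) Z := by
    rw [disjoint_iff, Subgroup.eq_bot_iff_forall]
    intro y hy
    by_contra hy1
    obtain ⟨hyb, hyZ⟩ := Subgroup.mem_inf.mp hy
    exact hbZ (Subgroup.zpowers_le.mpr hyZ (mem_zpowers_of_mem_zpowers hob hyb hy1))
  have hnorm : Z ≤ Subgroup.normalizer ((Subgroup.zpowers b : Subgroup G) : Set G) := by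
    refine le_trans ?_ (Subgroup.centralizer_le_normalizer _)
    intro z hz
    rw [Subgroup.mem_centralizer_iff]
    intro a ha
    obtain ⟨k, rfl⟩ := Subgroup.mem_zpowers_iff.mp ha
    have : Commute b z := hc z hz
    exact (this.zpow_left k).eq
  have h := (Cfsg.Agent.Lib.Helper1.isComplIn_sup hnorm hd).card_mul_card
  rw [← h, hcb, hZ, sq]

/-- a subgroup of order `p ^ 2` containing `Z` and `b` is `⟨b⟩ Z`. -/
theorem eq_zpowers_sup [Finite G] {p : ℕ} [Fact p.Prime] {Z S : Subgroup G} {b : G}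
    (hZ : Nat.card Z = p) (hS : Nat.card S = p ^ 2) (hZS : Z ≤ S) (hbS : b ∈ S) (hbZ : b ∉ Z)
    (hbp : b ^ p = 1) (hc : ∀ z ∈ Z, b * z = z * b) : Subgroup.zpowers b ⊔ Z = S := by
  apply Subgroup.eq_of_le_of_card_ge (sup_le (Subgroup.zpowers_le.mpr hbS) hZS)
  rw [card_zpowers_sup hZ hbZ hbp hc, hS]

/-- `i ^ (p ^ k) ≡ i` modulo `p`. -/
theorem pow_pow_mod (p : ℕ) [Fact p.Prime] (i k : ℕ) : (i ^ p ^ k) % p = i % p := by
  rw [← ZMod.natCast_eq_natCast_iff']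
  push_cast
  exact ZMod.pow_card_pow (i : ZMod p)

/-- a `p`-element normalizing an elementary abelian group `E` of order `p ^ 2` and centralizing a
subgroup `Z` of order `p` of `E` acts trivially on `E / Z`. -/
theorem conj_mul_inv_mem [Finite G] {p : ℕ} [Fact p.Prime] {Z E : Subgroup G} {g : G}
    (hZ : Nat.card Z = p) (hE : Nat.card E = p ^ 2) (hZE : Z ≤ E)
    (hEc : ∀ a ∈ E, ∀ b ∈ E, a * b = b * a) (hEe : ∀ a ∈ E, a ^ p = 1)
    (hgE : ∀ e ∈ E, g * e * g⁻¹ ∈ E) (hgZ : ∀ z ∈ Z, g * z = z * g) {k : ℕ}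
    (hg : g ^ (p ^ k) = 1) : ∀ b ∈ E, g * b * g⁻¹ * b⁻¹ ∈ Z := by
  intro b hb
  by_cases hbZ : b ∈ Z
  · have : g * b * g⁻¹ * b⁻¹ = 1 := by
      rw [hgZ b hbZ, mul_inv_cancel_right, mul_inv_cancel]
    rw [this]; exact Z.one_mem
  · have hbc : ∀ z ∈ Z, b * z = z * b := fun z hz => hEc b hb z (hZE hz)
    have hsup : Subgroup.zpowers b ⊔ Z = E := eq_zpowers_sup hZ hE hZE hb hbZ (hEe b hb) hbc
    have h1 : g * b * g⁻¹ ∈ Subgroup.zpowers b ⊔ Z := hsup ▸ hgE b hb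
    have hcomm : ∀ a ∈ Subgroup.zpowers b, ∀ z ∈ Z, a * z = z * a := by
      intro a ha z hz
      exact hEc a (hsup ▸ (le_sup_left : Subgroup.zpowers b ≤ _) ha) z (hZE hz)
    obtain ⟨a, ha, z, hz, haz⟩ := exists_mul_of_mem_sup hcomm h1
    obtain ⟨i, hi⟩ := (mem_powers_iff_mem_zpowers (x := b) (y := a)).mpr ha
    simp only at hi
    rw [← hi] at haz
    have hgz : g * z * g⁻¹ = z := by rw [hgZ z hz, mul_inv_cancel_right]
    have hbz : Commute b z := hbc z hz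
    have key : ∀ n : ℕ, ∃ s : ℕ, g ^ n * b * (g ^ n)⁻¹ = b ^ (i ^ n) * z ^ s := by
      intro n
      induction n with
      | zero => exact ⟨0, by simp⟩
      | succ n ih =>
        obtain ⟨s, hs⟩ := ih
        refine ⟨i ^ n + s, ?_⟩
        have e1 : g ^ (n + 1) * b * (g ^ (n + 1))⁻¹ = g * (g ^ n * b * (g ^ n)⁻¹) * g⁻¹ := by
          rw [pow_succ']; group
        rw [e1, hs]
        have e2 : g * (b ^ (i ^ n) * z ^ s) * g⁻¹ = (g * b * g⁻¹) ^ (i ^ n) * (g * z * g⁻¹) ^ s := by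
          rw [conj_pow, conj_pow, conj_mul]
        rw [e2, haz, hgz, (hbz.pow_left i).mul_pow, ← pow_mul, pow_succ, mul_assoc, ← pow_add, mul_comm i]
    obtain ⟨s, hs⟩ := key (p ^ k)
    rw [hg, one_mul, inv_one, mul_one] at hs
    have hbi : b ^ (i ^ p ^ k) = b ^ i := by
      rw [pow_eq_pow_mod (i ^ p ^ k) (hEe b hb), pow_pow_mod, ← pow_eq_pow_mod i (hEe b hb)]
    rw [hbi] at hs
    -- `b = b ^ i * z ^ s`, so `g b g⁻¹ b⁻¹ = (z ^ s)⁻¹ z`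
    have hzs : z ^ s ∈ Z := Z.pow_mem hz s
    have hw : (z ^ s)⁻¹ * z ∈ Z := Z.mul_mem (Z.inv_mem hzs) hz
    have hbi' : b ^ i = b * (z ^ s)⁻¹ := by
      rw [eq_mul_inv_iff_mul_eq]; exact hs.symm
    have : g * b * g⁻¹ * b⁻¹ = (z ^ s)⁻¹ * z := by
      rw [haz, hbi', mul_assoc b, hbc _ hw, mul_inv_cancel_right]
    rw [this]; exact hw

/-- **L3.** -/
theorem exists_invariant_normal_sq [Finite G] {p : ℕ} [Fact p.Prime] (hp2 : p ≠ 2)
    {P Z₀ : Subgroup G} {x : G} (hP : IsPGroup p P) (hxP : x ∈ P) (hxo : orderOf x = p)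
    (hZ₀ : Z₀ ≤ P ⊓ Subgroup.centralizer (P : Set G)) (hZ₀card : Nat.card Z₀ = p)
    (hΩ : ∀ d ∈ P ⊓ Subgroup.centralizer ({x} : Set G), d ^ p = 1 →
      d ∈ Subgroup.zpowers x ⊔ Z₀)
    (hAn : ¬ P ≤ Subgroup.normalizer ((Subgroup.zpowers x ⊔ Z₀ : Subgroup G) : Set G)) :
    ∃ B : Subgroup G, B ≤ P ∧ Nat.card B = p ^ 2 ∧ Z₀ ≤ B ∧
      Subgroup.normalizer (P : Set G) ≤ Subgroup.normalizer (B : Set G) ∧
      Subgroup.normalizer (P : Set G) ≤ Subgroup.normalizer (Z₀ : Set G) := by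
  have hp : p.Prime := Fact.out
  have hZP : Z₀ ≤ P := fun z hz => (Subgroup.mem_inf.mp (hZ₀ hz)).1
  have hZc : ∀ z ∈ Z₀, ∀ y ∈ P, y * z = z * y := fun z hz y hy =>
    (Subgroup.mem_centralizer_iff.mp (Subgroup.mem_inf.mp (hZ₀ hz)).2) y hy
  have hZp : ∀ z ∈ Z₀, z ^ p = 1 := by
    intro z hz
    have h := pow_card_eq_one' (G := Z₀) (x := ⟨z, hz⟩)
    rw [hZ₀card] at h
    simpa using congrArg Subtype.val h
  have hxp : x ^ p = 1 := by rw [← hxo]; exact pow_orderOf_eq_one x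
  -- F1 : `x` is not central in `P`
  have hF1 : ¬ ∀ y ∈ P, y * x = x * y := by
    intro h
    apply hAn
    have h1 : Subgroup.zpowers x ⊔ Z₀ ≤ Subgroup.centralizer (P : Set G) := by
      refine sup_le (Subgroup.zpowers_le.mpr ?_) (fun z hz => (Subgroup.mem_inf.mp (hZ₀ hz)).2)
      rw [Subgroup.mem_centralizer_iff]
      exact h
    exact le_trans (Subgroup.le_centralizer_iff.mp h1) (Subgroup.centralizer_le_normalizer _)
  have hxZ : x ∉ Z₀ := fun h => hF1 (hZc x h)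
  -- F2 : central elements of order dividing `p` lie in `Z₀`
  have hF2 : ∀ d ∈ P, (∀ y ∈ P, y * d = d * y) → d ^ p = 1 → d ∈ Z₀ := by
    intro d hdP hdc hdp
    have hdA : d ∈ Subgroup.zpowers x ⊔ Z₀ :=
      hΩ d (Subgroup.mem_inf.mpr ⟨hdP, Subgroup.mem_centralizer_singleton_iff.mpr
        (hdc x hxP).symm⟩) hdp
    have hcomm : ∀ a ∈ Subgroup.zpowers x, ∀ z ∈ Z₀, a * z = z * a := fun a ha z hz =>
      hZc z hz a (Subgroup.zpowers_le.mpr hxP ha)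
    obtain ⟨a, ha, z, hz, rfl⟩ := exists_mul_of_mem_sup hcomm hdA
    have haP : a ∈ P := Subgroup.zpowers_le.mpr hxP ha
    have hac : ∀ y ∈ P, y * a = a * y := by
      intro y hy
      have e1 := hdc y hy
      have e2 := hZc z hz y hy
      calc y * a = y * (a * z) * z⁻¹ := by group
        _ = a * z * y * z⁻¹ := by rw [e1]
        _ = a * (y * z) * z⁻¹ := by rw [mul_assoc a z y, ← e2]
        _ = a * y := by group
    by_cases ha1 : a = 1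
    · rw [ha1, one_mul]; exact hz
    · exfalso
      apply hF1
      have hxa := mem_zpowers_of_mem_zpowers hxo ha ha1
      obtain ⟨k, hk⟩ := Subgroup.mem_zpowers_iff.mp hxa
      intro y hy
      rw [← hk]
      have : Commute y a := hac y hy
      exact (this.zpow_right k).eq
  -- F3 : `N(P) ≤ N(Z₀)`
  have hF3 : Subgroup.normalizer (P : Set G) ≤ Subgroup.normalizer (Z₀ : Set G) := by
    intro g hg
    rw [mem_normalizer_iff_map_conj]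
    apply map_conj_eq_of_le
    intro y hy
    rw [mem_map_conj] at hy
    have hyP : y ∈ P := by
      have := (Subgroup.mem_normalizer_iff.mp hg _).mp (hZP hy)
      have e : g * (g⁻¹ * y * g) * g⁻¹ = y := by group
      rwa [e] at this
    apply hF2 y hyP
    · intro w hw
      have hw' : g⁻¹ * w * g ∈ P := (Subgroup.mem_normalizer_iff''.mp hg w).mp hw
      have e := hZc _ hy _ hw'
      calc w * y = g * ((g⁻¹ * w * g) * (g⁻¹ * y * g)) * g⁻¹ := by group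
        _ = g * ((g⁻¹ * y * g) * (g⁻¹ * w * g)) * g⁻¹ := by rw [e]
        _ = y * w := by group
    · have e := hZp _ hy
      have e2 : y = g * (g⁻¹ * y * g) * g⁻¹ := by group
      rw [e2, conj_pow, e]; group
  -- F4 : `P` is not cyclic
  have hF4 : ¬ IsCyclic ↥P := by
    intro hcyc
    apply hF1
    intro y hy
    have := (IsCyclic.isMulCommutative (α := ↥P)).is_comm.comm ⟨y, hy⟩ ⟨x, hxP⟩
    exact congrArg Subtype.val this
  obtain ⟨E, hEP, hEn, hEc, hEe, hEcard⟩ :=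
    Cfsg.Agent.Lib.Helper17.BGU.exists_normal_elemAb_sq_in hp2 hP hF4
  -- the good subgroups
  let Good : Subgroup G → Prop := fun E => E ≤ P ∧ P ≤ Subgroup.normalizer (E : Set G) ∧
    (∀ a ∈ E, ∀ b ∈ E, a * b = b * a) ∧ (∀ a ∈ E, a ^ p = 1) ∧ Nat.card E = p ^ 2
  have hGoodE : Good E := ⟨hEP, hEn, hEc, hEe, hEcard⟩
  -- F6 : a good subgroup contains `Z₀`
  have hF6 : ∀ E, Good E → Z₀ ≤ E := by
    rintro E ⟨hEP, hEn, hEc, hEe, hEcard⟩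
    haveI : (E.subgroupOf P).Normal := (Subgroup.normal_subgroupOf_iff_le_normalizer hEP).mpr hEn
    have hne : E.subgroupOf P ≠ ⊥ := by
      intro h
      rw [Subgroup.subgroupOf_eq_bot] at h
      have : E = ⊥ := by
        rw [eq_bot_iff]
        exact h le_rfl hEP
      rw [this, Subgroup.card_bot] at hEcard
      have : 1 < p ^ 2 := Nat.one_lt_pow (by norm_num) hp.one_lt
      omega
    obtain ⟨c, hcE, hc1, hcZ⟩ :=
      Cfsg.Agent.Lib.Helper12.exists_ne_one_mem_center_of_normal hP (E.subgroupOf P) hne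
    rw [Subgroup.mem_subgroupOf] at hcE
    rw [Subgroup.mem_center_iff] at hcZ
    have hcZ₀ : (c : G) ∈ Z₀ := by
      apply hF2 _ c.2
      · intro y hy
        exact congrArg Subtype.val (hcZ ⟨y, hy⟩)
      · exact hEe _ hcE
    have hc1' : (c : G) ≠ 1 := fun h => hc1 (Subtype.ext h)
    rw [← zpowers_eq_of_card_prime hZ₀card hcZ₀ hc1']
    exact Subgroup.zpowers_le.mpr hcE
  -- F7 : `[P, E] ≤ Z₀`
  have hF7 : ∀ E, Good E → ∀ g ∈ P, ∀ b ∈ E, g * b * g⁻¹ * b⁻¹ ∈ Z₀ := by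
    intro E hE g hg
    have hZE := hF6 E hE
    obtain ⟨hEP, hEn, hEc, hEe, hEcard⟩ := hE
    obtain ⟨k, hk⟩ := hP ⟨g, hg⟩
    have hk' : g ^ p ^ k = 1 := by simpa using congrArg Subtype.val hk
    exact conj_mul_inv_mem hZ₀card hEcard hZE hEc hEe
      (fun e he => (Subgroup.mem_normalizer_iff.mp (hEn hg) e).mp he)
      (fun z hz => hZc z hz g hg) hk'
  -- the order of `A`
  have hAcard : Nat.card ↥(Subgroup.zpowers x ⊔ Z₀) = p ^ 2 :=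
    card_zpowers_sup hZ₀card hxZ hxp (fun z hz => hZc z hz x hxP)
  -- F8 : noncentral elements of a good subgroup do not commute with `x`
  have hF8 : ∀ E, Good E → ∀ b ∈ E, b ∉ Z₀ → x * b ≠ b * x := by
    intro E hE b hb hbZ hcomm
    have hZE := hF6 E hE
    obtain ⟨hEP, hEn, hEc, hEe, hEcard⟩ := hE
    have hbA : b ∈ Subgroup.zpowers x ⊔ Z₀ :=
      hΩ b (Subgroup.mem_inf.mpr ⟨hEP hb, Subgroup.mem_centralizer_singleton_iff.mpr hcomm.symm⟩)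
        (hEe b hb)
    have hbc : ∀ z ∈ Z₀, b * z = z * b := fun z hz => hZc z hz b (hEP hb)
    have e1 := eq_zpowers_sup hZ₀card hAcard le_sup_right hbA hbZ (hEe b hb) hbc
    have e2 := eq_zpowers_sup hZ₀card hEcard hZE hb hbZ (hEe b hb) hbc
    apply hAn
    rw [← e1, e2]
    exact hEn
  -- uniqueness
  have hU : ∀ E₁ E₂, Good E₁ → Good E₂ → E₂ ≤ E₁ := by
    intro E₁ E₂ h₁ h₂
    have hZE₁ := hF6 E₁ h₁
    have hZE₂ := hF6 E₂ h₂
    have hF7₁ := hF7 E₁ h₁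
    have hF7₂ := hF7 E₂ h₂
    have hF8₁ := hF8 E₁ h₁
    obtain ⟨hE₁P, hE₁n, hE₁c, hE₁e, hE₁card⟩ := h₁
    obtain ⟨hE₂P, hE₂n, hE₂c, hE₂e, hE₂card⟩ := h₂
    obtain ⟨b₁, hb₁, hb₁Z⟩ : ∃ b ∈ E₁, b ∉ Z₀ := by
      by_contra h
      push_neg at h
      have hle : E₁ ≤ Z₀ := h
      have := Subgroup.card_le_of_le hle
      rw [hE₁card, hZ₀card] at this
      have h2 := hp.two_le
      nlinarith
    have hc₁Z : x * b₁ * x⁻¹ * b₁⁻¹ ∈ Z₀ := hF7₁ x hxP b₁ hb₁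
    have hc₁1 : x * b₁ * x⁻¹ * b₁⁻¹ ≠ 1 := by
      intro h
      apply hF8₁ b₁ hb₁ hb₁Z
      have := mul_inv_eq_one.mp h
      exact mul_inv_eq_iff_eq_mul.mp this
    have hZgen := zpowers_eq_of_card_prime hZ₀card hc₁Z hc₁1
    intro b₂ hb₂
    have hc₂Z : x * b₂ * x⁻¹ * b₂⁻¹ ∈ Z₀ := hF7₂ x hxP b₂ hb₂
    rw [← hZgen] at hc₂Z
    obtain ⟨j, hj⟩ := Subgroup.mem_zpowers_iff.mp hc₂Z
    have hu : b₁ ^ (-j) ∈ E₁ := E₁.zpow_mem hb₁ _
    have hb₂P : b₂ ∈ P := hE₂P hb₂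
    have hbP : b₂ * b₁ ^ (-j) ∈ P := P.mul_mem hb₂P (hE₁P hu)
    -- `b := b₂ * b₁ ^ (-j)` commutes with `x`
    have hbx : x * (b₂ * b₁ ^ (-j)) = (b₂ * b₁ ^ (-j)) * x := by
      have e1 : x * b₁ * x⁻¹ = (x * b₁ * x⁻¹ * b₁⁻¹) * b₁ := by group
      have hcb : Commute (x * b₁ * x⁻¹ * b₁⁻¹) b₁ := (hZc _ hc₁Z b₁ (hE₁P hb₁)).symm
      have e2 : x * b₁ ^ (-j) * x⁻¹ = (x * b₂ * x⁻¹ * b₂⁻¹)⁻¹ * b₁ ^ (-j) := by
        rw [← conj_zpow, e1, hcb.mul_zpow, zpow_neg, hj, zpow_neg]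
      have hc₂Z' : x * b₂ * x⁻¹ * b₂⁻¹ ∈ Z₀ := hF7₂ x hxP b₂ hb₂
      have e3 : (x * b₂ * x⁻¹ * b₂⁻¹)⁻¹ * b₂ = b₂ * (x * b₂ * x⁻¹ * b₂⁻¹)⁻¹ :=
        (hZc _ (Z₀.inv_mem hc₂Z') b₂ hb₂P).symm
      have e4 : x * (b₂ * b₁ ^ (-j)) * x⁻¹ = b₂ * b₁ ^ (-j) := by
        calc x * (b₂ * b₁ ^ (-j)) * x⁻¹ = (x * b₂ * x⁻¹) * (x * b₁ ^ (-j) * x⁻¹) := by group
          _ = (x * b₂ * x⁻¹) * ((x * b₂ * x⁻¹ * b₂⁻¹)⁻¹ * b₁ ^ (-j)) := by rw [e2]
          _ = (x * b₂ * x⁻¹ * b₂⁻¹) * (b₂ * (x * b₂ * x⁻¹ * b₂⁻¹)⁻¹) * b₁ ^ (-j) := by group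
          _ = (x * b₂ * x⁻¹ * b₂⁻¹) * ((x * b₂ * x⁻¹ * b₂⁻¹)⁻¹ * b₂) * b₁ ^ (-j) := by rw [e3]
          _ = b₂ * b₁ ^ (-j) := by group
      exact mul_inv_eq_iff_eq_mul.mp e4
    -- `b ^ p = 1`
    have hbp : (b₂ * b₁ ^ (-j)) ^ p = 1 := by
      have hw : b₂⁻¹ * b₁ ^ (-j) * b₂⁻¹⁻¹ * (b₁ ^ (-j))⁻¹ ∈ Z₀ :=
        hF7₁ b₂⁻¹ (P.inv_mem hb₂P) _ hu
      rw [inv_inv] at hw
      have hz : (b₁ ^ (-j))⁻¹ * b₂⁻¹ * b₁ ^ (-j) * b₂ = b₂⁻¹ * b₁ ^ (-j) * b₂ * (b₁ ^ (-j))⁻¹ := by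
        have := hZc _ hw _ (hE₁P hu)
        calc (b₁ ^ (-j))⁻¹ * b₂⁻¹ * b₁ ^ (-j) * b₂
            = (b₁ ^ (-j))⁻¹ * ((b₂⁻¹ * b₁ ^ (-j) * b₂ * (b₁ ^ (-j))⁻¹) * b₁ ^ (-j)) := by group
          _ = (b₁ ^ (-j))⁻¹ * (b₁ ^ (-j) * (b₂⁻¹ * b₁ ^ (-j) * b₂ * (b₁ ^ (-j))⁻¹)) := by
              rw [← this]
          _ = b₂⁻¹ * b₁ ^ (-j) * b₂ * (b₁ ^ (-j))⁻¹ := by group
      have hzZ : (b₁ ^ (-j))⁻¹ * b₂⁻¹ * b₁ ^ (-j) * b₂ ∈ Z₀ := hz ▸ hw
      have h1 : b₁ ^ (-j) * b₂ = b₂ * b₁ ^ (-j) * ((b₁ ^ (-j))⁻¹ * b₂⁻¹ * b₁ ^ (-j) * b₂) := by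
        group
      have h2 : Commute ((b₁ ^ (-j))⁻¹ * b₂⁻¹ * b₁ ^ (-j) * b₂) b₂ :=
        (hZc _ hzZ b₂ hb₂P).symm
      have h3 : Commute ((b₁ ^ (-j))⁻¹ * b₂⁻¹ * b₁ ^ (-j) * b₂) (b₁ ^ (-j)) :=
        (hZc _ hzZ _ (hE₁P hu)).symm
      rw [Cfsg.Agent.Lib.Helper11.mul_pow_of_commutator_central h1 h2 h3 p, hE₂e b₂ hb₂,
        hE₁e _ hu, one_mul, one_mul]
      have hlt : 2 < p := lt_of_le_of_ne hp.two_le (Ne.symm hp2)
      obtain ⟨m, hm⟩ := hp.dvd_choose_self (k := 2) (by norm_num) hlt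
      rw [hm, pow_mul, hZp _ hzZ, one_pow]
    have hbA : b₂ * b₁ ^ (-j) ∈ Subgroup.zpowers x ⊔ Z₀ :=
      hΩ _ (Subgroup.mem_inf.mpr ⟨hbP, Subgroup.mem_centralizer_singleton_iff.mpr hbx.symm⟩) hbp
    by_cases hbZ : b₂ * b₁ ^ (-j) ∈ Z₀
    · have : b₂ = (b₂ * b₁ ^ (-j)) * (b₁ ^ (-j))⁻¹ := by group
      rw [this]
      exact E₁.mul_mem (hZE₁ hbZ) (E₁.inv_mem hu)
    · exfalso
      apply hAn
      have hbc : ∀ z ∈ Z₀, (b₂ * b₁ ^ (-j)) * z = z * (b₂ * b₁ ^ (-j)) :=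
        fun z hz => hZc z hz _ hbP
      have hA := eq_zpowers_sup hZ₀card hAcard le_sup_right hbA hbZ hbp hbc
      intro g hg
      rw [mem_normalizer_iff_map_conj]
      apply map_conj_eq_of_le
      rw [← hA, Subgroup.map_sup, sup_le_iff]
      constructor
      · rw [MonoidHom.map_zpowers, Subgroup.zpowers_le]
        show g * (b₂ * b₁ ^ (-j)) * g⁻¹ ∈ _
        have hw₂ : g * b₂ * g⁻¹ * b₂⁻¹ ∈ Z₀ := hF7₂ g hg b₂ hb₂
        have hw₁ : g * b₁ ^ (-j) * g⁻¹ * (b₁ ^ (-j))⁻¹ ∈ Z₀ := hF7₁ g hg _ hu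
        have e := hZc _ hw₁ b₂ hb₂P
        have e5 : g * (b₂ * b₁ ^ (-j)) * g⁻¹ =
            (g * b₂ * g⁻¹ * b₂⁻¹) * (g * b₁ ^ (-j) * g⁻¹ * (b₁ ^ (-j))⁻¹) * (b₂ * b₁ ^ (-j)) := by
          calc g * (b₂ * b₁ ^ (-j)) * g⁻¹
              = (g * b₂ * g⁻¹ * b₂⁻¹) * (b₂ * (g * b₁ ^ (-j) * g⁻¹ * (b₁ ^ (-j))⁻¹)) *
                  b₁ ^ (-j) := by group
            _ = (g * b₂ * g⁻¹ * b₂⁻¹) * ((g * b₁ ^ (-j) * g⁻¹ * (b₁ ^ (-j))⁻¹) * b₂) *
                  b₁ ^ (-j) := by rw [e]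
            _ = _ := by group
        rw [e5]
        exact Subgroup.mul_mem _ (le_sup_right (a := Subgroup.zpowers (b₂ * b₁ ^ (-j)))
          (Z₀.mul_mem hw₂ hw₁)) (le_sup_left (b := Z₀) (Subgroup.mem_zpowers _))
      · rintro _ ⟨z, hz, rfl⟩
        show g * z * g⁻¹ ∈ _
        rw [hZc z hz g hg, mul_inv_cancel_right]
        exact le_sup_right (a := Subgroup.zpowers (b₂ * b₁ ^ (-j))) hz
  -- conclusion
  refine ⟨E, hEP, hEcard, hF6 E hGoodE, ?_, hF3⟩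
  intro g hg
  rw [mem_normalizer_iff_map_conj]
  apply map_conj_eq_of_le
  apply hU E _ hGoodE
  refine ⟨?_, ?_, ?_, ?_, ?_⟩
  · rintro _ ⟨e, he, rfl⟩
    show g * e * g⁻¹ ∈ P
    exact (Subgroup.mem_normalizer_iff.mp hg e).mp (hEP he)
  · intro h hh
    rw [mem_normalizer_iff_map_conj, map_conj_map_conj]
    have h' : g⁻¹ * h * g ∈ P := (Subgroup.mem_normalizer_iff''.mp hg h).mp hh
    have e : h * g = g * (g⁻¹ * h * g) := by group
    rw [e, ← map_conj_map_conj, mem_normalizer_iff_map_conj.mp (hEn h')]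
  · rintro _ ⟨a, ha, rfl⟩ _ ⟨b, hb, rfl⟩
    rw [← map_mul, ← map_mul, hEc a ha b hb]
  · rintro _ ⟨a, ha, rfl⟩
    rw [← map_pow, hEe a ha, map_one]
  · rw [card_map_conj]; exact hEcard

end Cfsg.Agent.Lib.Helper19.TypeVL3
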