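/-
Helper19 library: explicit matrices in `SU₄(3)` over `K9 = 𝔽₃[√-1]`: an element `G0` of order 7, an element `N0`
of order 3 with `N0 * G0 = G0 ^ 2 * N0`, a cyclic basis for `G0`.
-/
import Mathlib
import Cfsg.Agent.Lib.Helper19.PSU33Spec

set_option autoImplicit false

namespace Cfsg.Agent.Lib.Helper19.U43Model

open Cfsg.Agent.Lib.Helper19.PSU33Spec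

/-- `4 × 4` matrices over the field with nine elements. -/
abbrev M4 : Type := Matrix (Fin 4) (Fin 4) K9
def G0 : M4 := !![⟨0, 0⟩, ⟨2, 2⟩, ⟨2, 1⟩, ⟨0, 0⟩; ⟨0, 0⟩, ⟨1, 2⟩, ⟨1, 1⟩, ⟨0, 0⟩; ⟨0, 1⟩, ⟨0, 0⟩, ⟨0, 0⟩, ⟨0, 0⟩; ⟨0, 0⟩, ⟨0, 0⟩, ⟨0, 0⟩, ⟨1, 0⟩]
def G2 : M4 := !![⟨2, 2⟩, ⟨1, 0⟩, ⟨0, 1⟩, ⟨0, 0⟩; ⟨2, 1⟩, ⟨0, 1⟩, ⟨2, 0⟩, ⟨0, 0⟩; ⟨0, 0⟩, ⟨1, 2⟩, ⟨2, 2⟩, ⟨0, 0⟩; ⟨0, 0⟩, ⟨0, 0⟩, ⟨0, 0⟩, ⟨1, 0⟩]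
def G3 : M4 := !![⟨2, 0⟩, ⟨1, 1⟩, ⟨0, 1⟩, ⟨0, 0⟩; ⟨0, 2⟩, ⟨0, 1⟩, ⟨2, 2⟩, ⟨0, 0⟩; ⟨1, 2⟩, ⟨0, 1⟩, ⟨2, 0⟩, ⟨0, 0⟩; ⟨0, 0⟩, ⟨0, 0⟩, ⟨0, 0⟩, ⟨1, 0⟩]
def G4 : M4 := !![⟨2, 0⟩, ⟨0, 1⟩, ⟨1, 1⟩, ⟨0, 0⟩; ⟨1, 2⟩, ⟨0, 2⟩, ⟨0, 2⟩, ⟨0, 0⟩; ⟨0, 2⟩, ⟨2, 1⟩, ⟨2, 0⟩, ⟨0, 0⟩; ⟨0, 0⟩, ⟨0, 0⟩, ⟨0, 0⟩, ⟨1, 0⟩]
def G5 : M4 := !![⟨2, 1⟩, ⟨2, 2⟩, ⟨0, 0⟩, ⟨0, 0⟩; ⟨1, 0⟩, ⟨0, 2⟩, ⟨1, 1⟩, ⟨0, 0⟩; ⟨0, 2⟩, ⟨2, 0⟩, ⟨2, 1⟩, ⟨0, 0⟩; ⟨0, 0⟩, ⟨0, 0⟩, ⟨0, 0⟩, ⟨1, 0⟩]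
def G6 : M4 := !![⟨0, 0⟩, ⟨0, 0⟩, ⟨0, 2⟩, ⟨0, 0⟩; ⟨2, 1⟩, ⟨1, 1⟩, ⟨0, 0⟩, ⟨0, 0⟩; ⟨2, 2⟩, ⟨1, 2⟩, ⟨0, 0⟩, ⟨0, 0⟩; ⟨0, 0⟩, ⟨0, 0⟩, ⟨0, 0⟩, ⟨1, 0⟩]
def N0 : M4 := !![⟨0, 1⟩, ⟨2, 0⟩, ⟨2, 1⟩, ⟨0, 0⟩; ⟨1, 2⟩, ⟨0, 1⟩, ⟨0, 1⟩, ⟨0, 0⟩; ⟨1, 0⟩, ⟨1, 1⟩, ⟨0, 1⟩, ⟨0, 0⟩; ⟨0, 0⟩, ⟨0, 0⟩, ⟨0, 0⟩, ⟨1, 0⟩]
def B0 : M4 := !![⟨1, 0⟩, ⟨0, 0⟩, ⟨2, 2⟩, ⟨2, 0⟩; ⟨0, 0⟩, ⟨0, 0⟩, ⟨2, 1⟩, ⟨0, 2⟩; ⟨0, 0⟩, ⟨0, 1⟩, ⟨0, 0⟩, ⟨1, 2⟩; ⟨1, 0⟩, ⟨1, 0⟩, ⟨1, 0⟩, ⟨1, 0⟩]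
def Binv : M4 := !![⟨1, 1⟩, ⟨0, 0⟩, ⟨1, 0⟩, ⟨0, 2⟩; ⟨1, 2⟩, ⟨1, 2⟩, ⟨2, 1⟩, ⟨2, 1⟩; ⟨1, 1⟩, ⟨2, 2⟩, ⟨1, 2⟩, ⟨2, 2⟩; ⟨0, 2⟩, ⟨0, 2⟩, ⟨2, 0⟩, ⟨0, 1⟩]

/-- the cyclic vector. -/
def v0 : Fin 4 → K9 := ![1, 0, 0, 1]

/-- the powers of `G0`. -/
def powG : Fin 7 → M4 := ![1, G0, G2, G3, G4, G5, G6]

/-- polynomials of degree `< 4` in `G0`. -/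
def poly (c0 c1 c2 c3 : K9) : M4 := c0 • (1 : M4) + c1 • G0 + c2 • G2 + c3 • G3

set_option maxRecDepth 100000

theorem det_G0 : G0.det = 1 := by decide +kernel
theorem det_N0 : N0.det = 1 := by decide +kernel
theorem uni_G0 : G0.transpose * G0.map (fun x => x ^ 3) = 1 := by decide +kernel
theorem uni_N0 : N0.transpose * N0.map (fun x => x ^ 3) = 1 := by decide +kernel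
theorem G2_eq : G0 * G0 = G2 := by decide +kernel
theorem G3_eq : G2 * G0 = G3 := by decide +kernel
theorem G4_eq : G3 * G0 = G4 := by decide +kernel
theorem G5_eq : G4 * G0 = G5 := by decide +kernel
theorem G6_eq : G5 * G0 = G6 := by decide +kernel
theorem G7_eq : G6 * G0 = 1 := by decide +kernel
theorem G0_ne_one : G0 ≠ 1 := by decide +kernel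
theorem N0_G0 : N0 * G0 = G2 * N0 := by decide +kernel
theorem N0_sq : ∃ N2 : M4, N0 * N0 = N2 ∧ N2 * N0 = 1 := ⟨N0 * N0, rfl, by decide +kernel⟩
theorem B0_mul_Binv : B0 * Binv = 1 := by decide +kernel
theorem B0_col : ∀ j : Fin 4, ∀ i : Fin 4, B0 i j = (powG (Fin.castLE (by norm_num) j)).mulVec v0 i := by
  decide +kernel
theorem trace_powG : ∀ k : Fin 7, (powG k).trace = G0.trace → k = 1 ∨ k = 2 ∨ k = 4 := by decide +kernel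

theorem pow_G0 : ∀ k : Fin 7, G0 ^ (k : ℕ) = powG k := by
  have h2 : G0 ^ 2 = G2 := by rw [pow_two, G2_eq]
  have h3 : G0 ^ 3 = G3 := by rw [pow_succ, h2, G3_eq]
  have h4 : G0 ^ 4 = G4 := by rw [pow_succ, h3, G4_eq]
  have h5 : G0 ^ 5 = G5 := by rw [pow_succ, h4, G5_eq]
  have h6 : G0 ^ 6 = G6 := by rw [pow_succ, h5, G6_eq]
  intro k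
  fin_cases k
  · exact pow_zero _
  · exact pow_one _
  · exact h2
  · exact h3
  · exact h4
  · exact h5
  · exact h6

theorem G0_pow7 : G0 ^ 7 = 1 := by
  have h6 : G0 ^ 6 = G6 := pow_G0 6
  rw [pow_succ, h6, G7_eq]

end Cfsg.Agent.Lib.Helper19.U43Model
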