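/-
Helper19 library: the predicate for the enumeration of the unitary determinant-one polynomials in `G0`.
-/
import Mathlib
import Cfsg.Agent.Lib.Helper19.U43Model

set_option autoImplicit false

namespace Cfsg.Agent.Lib.Helper19.U43Model

open Cfsg.Agent.Lib.Helper19.PSU33Spec

/-- a unitary matrix of determinant one is a scalar multiple of a power of `G0`. -/
def Good (P : M4) : Prop :=
  P.transpose * P.map (fun x => x ^ 3) = 1 → P.det = 1 →
    ∃ a : Fin 7, ∃ x y : ZMod 3, P = (⟨x, y⟩ : K9) • powG a

instance : DecidablePred Good := fun P => by unfold Good; infer_instance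

end Cfsg.Agent.Lib.Helper19.U43Model
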