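/-
Helper19 library: enumeration of the unitary determinant-one polynomials in `G0` (chunks with real part 2
of the last coefficient).
-/
import Mathlib
import Cfsg.Agent.Lib.Helper19.U43EnumDef

set_option autoImplicit false

namespace Cfsg.Agent.Lib.Helper19.U43Model

open Cfsg.Agent.Lib.Helper19.PSU33Spec

set_option maxRecDepth 100000

theorem enum_20 : ∀ x0 y0 x1 y1 x2 y2 : ZMod 3,
    Good (poly ⟨x0, y0⟩ ⟨x1, y1⟩ ⟨x2, y2⟩ ⟨2, 0⟩) := by decide +kernel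

theorem enum_21 : ∀ x0 y0 x1 y1 x2 y2 : ZMod 3,
    Good (poly ⟨x0, y0⟩ ⟨x1, y1⟩ ⟨x2, y2⟩ ⟨2, 1⟩) := by decide +kernel

theorem enum_22 : ∀ x0 y0 x1 y1 x2 y2 : ZMod 3,
    Good (poly ⟨x0, y0⟩ ⟨x1, y1⟩ ⟨x2, y2⟩ ⟨2, 2⟩) := by decide +kernel

end Cfsg.Agent.Lib.Helper19.U43Model
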