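/-
Helper19 library: in `PSU₄(3)` a subgroup of order 7 has normalizer of order 21 and is self-centralizing.
-/
import Mathlib
import Cfsg.Agent.Lib.Helper14.Unitary3
import Cfsg.Agent.Lib.Helper19.U43Enum0
import Cfsg.Agent.Lib.Helper19.U43Enum1
import Cfsg.Agent.Lib.Helper19.U43Enum2
import Cfsg.Agent.Lib.Helper19.N7Abs

set_option autoImplicit false

namespace Cfsg.Agent.Lib.Helper19.U43Main

open Cfsg.Agent.Lib.Helper14 Cfsg.Agent.Lib.Helper19.PSU33Spec Cfsg.Agent.Lib.Helper19.U43Model

section generic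

/-- a matrix commuting with a matrix `A` that has a cyclic vector is a polynomial in `A`. -/
theorem cyclic {R : Type*} [CommRing R] {n : ℕ} (A h B Binv : Matrix (Fin n) (Fin n) R)
    (v : Fin n → R) (hB : ∀ i j, B i j = (A ^ (j : ℕ)).mulVec v i) (hinv : B * Binv = 1)
    (hcomm : h * A = A * h) : ∃ c : Fin n → R, h = ∑ j, c j • A ^ (j : ℕ) := by
  refine ⟨Binv.mulVec (h.mulVec v), ?_⟩
  set c := Binv.mulVec (h.mulVec v) with hc
  set P := ∑ j, c j • A ^ (j : ℕ) with hP
  have h1 : B.mulVec c = h.mulVec v := by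
    rw [hc, Matrix.mulVec_mulVec, hinv, Matrix.one_mulVec]
  have h2 : P.mulVec v = B.mulVec c := by
    ext i
    show ∑ k, P i k * v k = ∑ j, B i j * c j
    have e1 : ∀ k, P i k = ∑ j, c j * (A ^ (j : ℕ)) i k := by
      intro k
      rw [hP, Matrix.sum_apply]
      rfl
    simp_rw [e1, Finset.sum_mul]
    rw [Finset.sum_comm]
    apply Finset.sum_congr rfl
    intro j _
    rw [hB i j]
    show _ = (∑ k, (A ^ (j : ℕ)) i k * v k) * c j
    rw [Finset.sum_mul]
    apply Finset.sum_congr rfl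
    intro k _
    ring
  have hcP : ∀ j : ℕ, P * A ^ j = A ^ j * P := by
    intro j
    have : Commute P (A ^ j) := by
      rw [hP]
      apply Commute.sum_left
      intro i _
      exact (Commute.pow_pow_self A _ _).smul_left _
    exact this.eq
  have hch : ∀ j : ℕ, h * A ^ j = A ^ j * h := by
    intro j
    have : Commute h A := hcomm
    exact (this.pow_right j).eq
  have h3 : P * B = h * B := by
    ext i j
    have e : ∀ M : Matrix (Fin n) (Fin n) R, (M * B) i j = (M.mulVec ((A ^ (j : ℕ)).mulVec v)) i := by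
      intro M
      rw [Matrix.mul_apply]
      show _ = ∑ k, M i k * ((A ^ (j : ℕ)).mulVec v) k
      apply Finset.sum_congr rfl
      intro k _
      rw [hB k j]
    rw [e, e, Matrix.mulVec_mulVec, Matrix.mulVec_mulVec, hcP, hch, ← Matrix.mulVec_mulVec,
      ← Matrix.mulVec_mulVec, h2, h1]
  calc h = h * (B * Binv) := by rw [hinv, mul_one]
    _ = P * B * Binv := by rw [← mul_assoc, h3]
    _ = P := by rw [mul_assoc, hinv, mul_one]

variable {F : Type*} [Field F] [Fintype F] [DecidableEq F] {q n : ℕ}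

theorem orthoN_of_isUni (hF : Fintype.card F = q ^ 2) (M : Matrix (Fin n) (Fin n) F)
    (hU : IsUni F q n M) : OrthoN F q n n (fun j i => M i j) := by
  intro j l
  have := hU (Pi.single j 1) (Pi.single l 1)
  rw [hermForm_single hF, Matrix.mulVec_single_one, Matrix.mulVec_single_one] at this
  exact this

theorem mul_eq_one_of_isUni (hF : Fintype.card F = q ^ 2) (M : Matrix (Fin n) (Fin n) F)
    (hU : IsUni F q n M) : M.transpose * M.map (fun x => x ^ q) = 1 :=
  transpose_mul_map_of_orthoN M (orthoN_of_isUni hF M hU)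

theorem isUni_of_mul_eq_one (hF : Fintype.card F = q ^ 2) (M : Matrix (Fin n) (Fin n) F)
    (h : M.transpose * M.map (fun x => x ^ q) = 1) : IsUni F q n M := by
  intro u v
  apply hermForm_mulVec_of_orthoN hF M
  intro j l
  have h1 := congrFun (congrFun h j) l
  rw [Matrix.mul_apply, Matrix.one_apply] at h1
  unfold Cfsg.hermForm
  simpa using h1

end generic

theorem hF9 : Fintype.card K9 = 3 ^ 2 := by rw [card_K9]; norm_num

/-- the group `SU₄(3)` over the model field. -/
abbrev S9 : Type := Cfsg.SU 4 K9 3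

/-- the underlying matrix. -/
def val (x : S9) : M4 := (x.1 : Matrix (Fin 4) (Fin 4) K9)

theorem val_injective : Function.Injective val := by
  intro x y h
  apply Subtype.ext
  apply Subtype.ext
  exact h

theorem val_mul (x y : S9) : val (x * y) = val x * val y := rfl

theorem val_one : val 1 = 1 := rfl

theorem val_pow (x : S9) (k : ℕ) : val (x ^ k) = val x ^ k := by
  induction k with
  | zero => rfl
  | succ k ih => rw [pow_succ, pow_succ, val_mul, ih]

theorem val_inv_mul (x : S9) : val x⁻¹ * val x = 1 := by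
  rw [← val_mul, inv_mul_cancel, val_one]

theorem val_mul_inv (x : S9) : val x * val x⁻¹ = 1 := by
  rw [← val_mul, mul_inv_cancel, val_one]

theorem det_val (x : S9) : (val x).det = 1 := x.1.2

theorem uni_val (x : S9) : (val x).transpose * (val x).map (fun a => a ^ 3) = 1 :=
  mul_eq_one_of_isUni hF9 _ ((mem_SU_iff x.1).mp x.2)

/-- a unitary matrix of determinant one as an element of the group. -/
def mkSU (M : M4) (hdet : M.det = 1) (hU : M.transpose * M.map (fun x => x ^ 3) = 1) : S9 :=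
  ⟨⟨M, hdet⟩, (mem_SU_iff _).mpr (isUni_of_mul_eq_one hF9 M hU)⟩

theorem val_mkSU (M : M4) (hdet : M.det = 1) (hU : M.transpose * M.map (fun x => x ^ 3) = 1) :
    val (mkSU M hdet hU) = M := rfl

/-- the element of order 7. -/
def g0 : S9 := mkSU G0 det_G0 uni_G0

/-- the element of order 3. -/
def n0 : S9 := mkSU N0 det_N0 uni_N0

theorem val_g0 : val g0 = G0 := rfl
theorem val_n0 : val n0 = N0 := rfl

theorem G0_pow (k : ℕ) : G0 ^ k = powG ⟨k % 7, Nat.mod_lt _ (by norm_num)⟩ := by
  rw [pow_eq_pow_mod k G0_pow7]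
  exact pow_G0 ⟨k % 7, Nat.mod_lt _ (by norm_num)⟩

theorem enum_all (c0 c1 c2 c3 : K9) : Good (poly c0 c1 c2 c3) := by
  obtain ⟨x0, y0⟩ := c0
  obtain ⟨x1, y1⟩ := c1
  obtain ⟨x2, y2⟩ := c2
  obtain ⟨x3, y3⟩ := c3
  fin_cases x3 <;> fin_cases y3
  · exact enum_00 x0 y0 x1 y1 x2 y2
  · exact enum_01 x0 y0 x1 y1 x2 y2
  · exact enum_02 x0 y0 x1 y1 x2 y2
  · exact enum_10 x0 y0 x1 y1 x2 y2
  · exact enum_11 x0 y0 x1 y1 x2 y2
  · exact enum_12 x0 y0 x1 y1 x2 y2
  · exact enum_20 x0 y0 x1 y1 x2 y2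
  · exact enum_21 x0 y0 x1 y1 x2 y2
  · exact enum_22 x0 y0 x1 y1 x2 y2

theorem centralizer_val (h : S9) (hcomm : h * g0 = g0 * h) :
    ∃ (a : ℕ) (s : K9), val h = s • val (g0 ^ a) := by
  have hc : val h * G0 = G0 * val h := by
    rw [← val_g0, ← val_mul, ← val_mul, hcomm]
  have hB : ∀ i j : Fin 4, B0 i j = (G0 ^ (j : ℕ)).mulVec v0 i := by
    intro i j
    rw [B0_col j i, ← pow_G0]
    rfl
  obtain ⟨c, hc'⟩ := cyclic G0 (val h) B0 Binv v0 hB B0_mul_Binv hc
  have hpoly : val h = poly (c 0) (c 1) (c 2) (c 3) := by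
    rw [hc', Fin.sum_univ_four]
    unfold poly
    have e2 : G0 ^ ((2 : Fin 4) : ℕ) = G2 := pow_G0 2
    have e3 : G0 ^ ((3 : Fin 4) : ℕ) = G3 := pow_G0 3
    rw [e2, e3]
    simp
  have hgood := enum_all (c 0) (c 1) (c 2) (c 3)
  rw [← hpoly] at hgood
  obtain ⟨a, x, y, hxy⟩ := hgood (uni_val h) (det_val h)
  refine ⟨(a : ℕ), ⟨x, y⟩, ?_⟩
  rw [hxy, val_pow, val_g0, pow_G0]

theorem hyp : N7Abs.Hyp g0 n0 where
  hg7 := by
    apply val_injective
    rw [val_pow, val_g0, G0_pow7, val_one]
  hg1 := by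
    intro h
    have := congrArg val h
    rw [val_g0, val_one] at this
    exact G0_ne_one this
  hn3 := by
    apply val_injective
    rw [val_pow, val_n0, val_one]
    obtain ⟨N2, h1, h2⟩ := N0_sq
    rw [pow_succ, pow_two, h1, h2]
  hng := by
    rw [mul_inv_eq_iff_eq_mul]
    apply val_injective
    rw [val_mul, val_mul, val_pow, val_g0, val_n0, pow_two, G2_eq, N0_G0]
  hZ := by
    intro z hz
    have hcard : Nat.card (Subgroup.center S9) = 4 := by
      have := card_center_SU hF9 4 (by norm_num)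
      rw [this]
      rfl
    have h1 : (⟨z, hz⟩ : Subgroup.center S9) ^ Nat.card (Subgroup.center S9) = 1 :=
      pow_card_eq_one'
    rw [hcard] at h1
    exact congrArg Subtype.val h1
  hC := by
    intro h hcomm
    obtain ⟨a, s, hs⟩ := centralizer_val h hcomm
    refine ⟨a, ?_⟩
    have hw : val ((g0 ^ a)⁻¹ * h) = s • (1 : M4) := by
      rw [val_mul, hs, Matrix.mul_smul, val_inv_mul]
    rw [Subgroup.mem_center_iff]
    intro t
    apply val_injective
    rw [val_mul t, val_mul _ t, hw, Matrix.mul_smul, Matrix.smul_mul, mul_one, one_mul]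
  hT := by
    intro y k hk
    have h1 := congrArg val hk
    rw [val_mul, val_mul, val_pow, val_g0] at h1
    have h2 : (G0 ^ k).trace = G0.trace := by
      rw [← h1, Matrix.trace_mul_comm, ← mul_assoc, val_inv_mul, one_mul]
    rw [G0_pow] at h2
    rcases trace_powG _ h2 with h3 | h3 | h3
    · left; exact congrArg Fin.val h3
    · right; left; exact congrArg Fin.val h3
    · right; right; exact congrArg Fin.val h3

theorem card_GU43 : Nat.card (Cfsg.GU 4 K9 3) = 52254720 := by
  rw [card_GU hF9 4]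
  decide

theorem card_SU43 : Nat.card S9 = 13063680 := by
  have h : (3 + 1) * Nat.card S9 = Nat.card (Cfsg.GU 4 K9 3) := card_SU_mul hF9 4 (by norm_num)
  rw [card_GU43] at h
  omega

theorem card_PSU43 : Nat.card (Cfsg.PSU 4 K9 3) = 3265920 := by
  have h1 : Nat.card (Subgroup.center S9) = 4 := by
    have := card_center_SU hF9 4 (by norm_num)
    rw [this]
    rfl
  have h2 := Subgroup.card_eq_card_quotient_mul_card_subgroup (Subgroup.center S9)
  rw [card_SU43, h1] at h2
  have h3 : Nat.card (Cfsg.PSU 4 K9 3) = Nat.card (S9 ⧸ Subgroup.center S9) := rfl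
  omega

theorem main_K9 (X : Subgroup (Cfsg.PSU 4 K9 3)) (hX : Nat.card X = 7) :
    Nat.card (Subgroup.normalizer (X : Set (Cfsg.PSU 4 K9 3))) = 21 ∧
      Subgroup.centralizer (X : Set (Cfsg.PSU 4 K9 3)) = X := by
  apply hyp.main _ X hX
  have h3 : Nat.card (S9 ⧸ Subgroup.center S9) = 3265920 := card_PSU43
  rw [h3]
  norm_num

/-- the statement over any field with nine elements. -/
theorem main (K : Type) [Field K] [Fintype K] (hK : Fintype.card K = 9)
    (X : Subgroup (Cfsg.PSU 4 K 3)) (hX : Nat.card X = 7) :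
    Nat.card (Subgroup.normalizer (X : Set (Cfsg.PSU 4 K 3))) = 21 ∧
      Subgroup.centralizer (X : Set (Cfsg.PSU 4 K 3)) = X := by
  let e : Cfsg.PSU 4 K9 3 ≃* Cfsg.PSU 4 K 3 := SUCongr.psuCongr (phi hK)
  set X' : Subgroup (Cfsg.PSU 4 K9 3) := X.comap e.toMonoidHom with hX'
  have h1 : X'.map e.toMonoidHom = X := Subgroup.map_comap_eq_self_of_surjective e.surjective X
  have h2 : Nat.card X' = 7 := by
    rw [← hX, ← h1]
    exact (Subgroup.card_map_of_injective e.injective).symm
  have h3 := SUCongr.transport e X' 21 (main_K9 X' h2)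
  rw [h1] at h3
  exact h3

end Cfsg.Agent.Lib.Helper19.U43Main
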