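/-
Helper19 library (generated data): the 51840 elements of `Sp₄(3)` (sixteen entries packed in base 4) together with
their images in `SU₄(2)` under a homomorphism with kernel `±1` (entries of the field with four elements packed in
base 4), the table of left multiplication by the two generators, a spanning tree and a search tree.
-/
import Mathlib
import Cfsg.Agent.Lib.Helper19.U4Data0
import Cfsg.Agent.Lib.Helper19.U4Data1
import Cfsg.Agent.Lib.Helper19.U4Data2
import Cfsg.Agent.Lib.Helper19.U4Data3
import Cfsg.Agent.Lib.Helper19.U4Data4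
import Cfsg.Agent.Lib.Helper19.U4Data5
import Cfsg.Agent.Lib.Helper19.U4Data6
import Cfsg.Agent.Lib.Helper19.U4Data7
import Cfsg.Agent.Lib.Helper19.U4Tree0
import Cfsg.Agent.Lib.Helper19.U4Tree1
import Cfsg.Agent.Lib.Helper19.U4Tree2
import Cfsg.Agent.Lib.Helper19.U4Tree3
import Cfsg.Agent.Lib.Helper19.U4Tree4
import Cfsg.Agent.Lib.Helper19.U4Tree5
import Cfsg.Agent.Lib.Helper19.U4Tree6
import Cfsg.Agent.Lib.Helper19.U4Tree7

set_option autoImplicit false

namespace Cfsg.Agent.Lib.Helper19.U4Data

open Cfsg.Agent.Lib.Helper19.B2Enc Cfsg.Agent.Lib.Helper19.G2Enc Cfsg.Agent.Lib.Helper19.U4Enc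

/-- the data tree. -/
def ET : BT (List ℕ) :=
  .node (.node (.node ET0 ET4) (.node ET2 ET6)) (.node (.node ET1 ET5) (.node ET3 ET7))

/-- the search tree. -/
def STree : KT :=
  (.node (.node (.node ST0 302252416 38550 ST1) 604242561 8414 (.node ST2 1157694504 40011 ST3)) 1443234178 22751 (.node (.node ST4 1745158786 48133 ST5) 2298546212 9430 (.node ST6 2584019329 20684 ST7)))

/-- the two generators of `Sp₄(3)`. -/
def AL : List ℕ := [562561544, 1214850577]

/-- their images in `SU₄(2)`. -/
def BL : List ℕ := [1073808400, 493014372]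

/-- the `i`-th entry. -/
def En (i : ℕ) : List ℕ := ET.get i

/-- the `i`-th element of `Sp₄(3)`. -/
def Sc (i : ℕ) : ℕ := (En i).getD 0 0

/-- the image of the `i`-th element. -/
def Uc (i : ℕ) : ℕ := (En i).getD 1 0

/-- the table. -/
def Tt (r i : ℕ) : ℕ := (En i).getD (2 + r) 0

/-- the parent in the spanning tree. -/
def par (i : ℕ) : ℕ := (En i).getD 4 0

/-- the generator leading from the parent. -/
def gk (i : ℕ) : ℕ := (En i).getD 5 0

/-- the `r`-th generator. -/
def AE (r : ℕ) : ℕ := AL.getD r 0

/-- the image of the `r`-th generator. -/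
def BE (r : ℕ) : ℕ := BL.getD r 0

/-- the index of minus the identity. -/
def iNeg : ℕ := 13070

end Cfsg.Agent.Lib.Helper19.U4Data
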