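/-
Helper19 library: kernel-checked closure of the list of pairs under left multiplication by the generators (part 1).
-/
import Mathlib
import Cfsg.Agent.Lib.Helper19.U4Data

set_option autoImplicit false
set_option maxRecDepth 100000

namespace Cfsg.Agent.Lib.Helper19.U4Check

open Cfsg.Agent.Lib.Helper19.B2Enc Cfsg.Agent.Lib.Helper19.G2Enc Cfsg.Agent.Lib.Helper19.U4Enc
open Cfsg.Agent.Lib.Helper19.U4Data

theorem closedC6 : ∀ i ∈ List.range' 6000 1000, ∀ r ∈ List.range 2,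
    mulS (AE r) (Sc i) = Sc (Tt r i) ∧ mulU (BE r) (Uc i) = Uc (Tt r i) ∧ Tt r i < 51840 := by
  decide +kernel

theorem closedC7 : ∀ i ∈ List.range' 7000 1000, ∀ r ∈ List.range 2,
    mulS (AE r) (Sc i) = Sc (Tt r i) ∧ mulU (BE r) (Uc i) = Uc (Tt r i) ∧ Tt r i < 51840 := by
  decide +kernel

theorem closedC8 : ∀ i ∈ List.range' 8000 1000, ∀ r ∈ List.range 2,
    mulS (AE r) (Sc i) = Sc (Tt r i) ∧ mulU (BE r) (Uc i) = Uc (Tt r i) ∧ Tt r i < 51840 := by
  decide +kernel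

theorem closedC9 : ∀ i ∈ List.range' 9000 1000, ∀ r ∈ List.range 2,
    mulS (AE r) (Sc i) = Sc (Tt r i) ∧ mulU (BE r) (Uc i) = Uc (Tt r i) ∧ Tt r i < 51840 := by
  decide +kernel

theorem closedC10 : ∀ i ∈ List.range' 10000 1000, ∀ r ∈ List.range 2,
    mulS (AE r) (Sc i) = Sc (Tt r i) ∧ mulU (BE r) (Uc i) = Uc (Tt r i) ∧ Tt r i < 51840 := by
  decide +kernel

theorem closedC11 : ∀ i ∈ List.range' 11000 1000, ∀ r ∈ List.range 2,
    mulS (AE r) (Sc i) = Sc (Tt r i) ∧ mulU (BE r) (Uc i) = Uc (Tt r i) ∧ Tt r i < 51840 := by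
  decide +kernel

theorem closedF1 (i r : ℕ) (h1 : 6000 ≤ i) (h2 : i < 12000) (hr : r < 2) :
    mulS (AE r) (Sc i) = Sc (Tt r i) ∧ mulU (BE r) (Uc i) = Uc (Tt r i) ∧ Tt r i < 51840 := by
  have hr' : r ∈ List.range 2 := List.mem_range.2 hr
  by_cases h6 : i < 7000
  · exact closedC6 i (List.mem_range'_1.2 ⟨by omega, by omega⟩) r hr'
  by_cases h7 : i < 8000
  · exact closedC7 i (List.mem_range'_1.2 ⟨by omega, by omega⟩) r hr'
  by_cases h8 : i < 9000
  · exact closedC8 i (List.mem_range'_1.2 ⟨by omega, by omega⟩) r hr'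
  by_cases h9 : i < 10000
  · exact closedC9 i (List.mem_range'_1.2 ⟨by omega, by omega⟩) r hr'
  by_cases h10 : i < 11000
  · exact closedC10 i (List.mem_range'_1.2 ⟨by omega, by omega⟩) r hr'
  exact closedC11 i (List.mem_range'_1.2 ⟨by omega, by omega⟩) r hr'

end Cfsg.Agent.Lib.Helper19.U4Check
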