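/-
Helper19 library: kernel-checked closure of the list of pairs under left multiplication by the generators (part 3).
-/
import Mathlib
import Cfsg.Agent.Lib.Helper19.U4Data

set_option autoImplicit false
set_option maxRecDepth 100000

namespace Cfsg.Agent.Lib.Helper19.U4Check

open Cfsg.Agent.Lib.Helper19.B2Enc Cfsg.Agent.Lib.Helper19.G2Enc Cfsg.Agent.Lib.Helper19.U4Enc
open Cfsg.Agent.Lib.Helper19.U4Data

theorem closedC18 : ∀ i ∈ List.range' 18000 1000, ∀ r ∈ List.range 2,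
    mulS (AE r) (Sc i) = Sc (Tt r i) ∧ mulU (BE r) (Uc i) = Uc (Tt r i) ∧ Tt r i < 51840 := by
  decide +kernel

theorem closedC19 : ∀ i ∈ List.range' 19000 1000, ∀ r ∈ List.range 2,
    mulS (AE r) (Sc i) = Sc (Tt r i) ∧ mulU (BE r) (Uc i) = Uc (Tt r i) ∧ Tt r i < 51840 := by
  decide +kernel

theorem closedC20 : ∀ i ∈ List.range' 20000 1000, ∀ r ∈ List.range 2,
    mulS (AE r) (Sc i) = Sc (Tt r i) ∧ mulU (BE r) (Uc i) = Uc (Tt r i) ∧ Tt r i < 51840 := by
  decide +kernel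

theorem closedC21 : ∀ i ∈ List.range' 21000 1000, ∀ r ∈ List.range 2,
    mulS (AE r) (Sc i) = Sc (Tt r i) ∧ mulU (BE r) (Uc i) = Uc (Tt r i) ∧ Tt r i < 51840 := by
  decide +kernel

theorem closedC22 : ∀ i ∈ List.range' 22000 1000, ∀ r ∈ List.range 2,
    mulS (AE r) (Sc i) = Sc (Tt r i) ∧ mulU (BE r) (Uc i) = Uc (Tt r i) ∧ Tt r i < 51840 := by
  decide +kernel

theorem closedC23 : ∀ i ∈ List.range' 23000 1000, ∀ r ∈ List.range 2,
    mulS (AE r) (Sc i) = Sc (Tt r i) ∧ mulU (BE r) (Uc i) = Uc (Tt r i) ∧ Tt r i < 51840 := by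
  decide +kernel

theorem closedF3 (i r : ℕ) (h1 : 18000 ≤ i) (h2 : i < 24000) (hr : r < 2) :
    mulS (AE r) (Sc i) = Sc (Tt r i) ∧ mulU (BE r) (Uc i) = Uc (Tt r i) ∧ Tt r i < 51840 := by
  have hr' : r ∈ List.range 2 := List.mem_range.2 hr
  by_cases h18 : i < 19000
  · exact closedC18 i (List.mem_range'_1.2 ⟨by omega, by omega⟩) r hr'
  by_cases h19 : i < 20000
  · exact closedC19 i (List.mem_range'_1.2 ⟨by omega, by omega⟩) r hr'
  by_cases h20 : i < 21000
  · exact closedC20 i (List.mem_range'_1.2 ⟨by omega, by omega⟩) r hr'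
  by_cases h21 : i < 22000
  · exact closedC21 i (List.mem_range'_1.2 ⟨by omega, by omega⟩) r hr'
  by_cases h22 : i < 23000
  · exact closedC22 i (List.mem_range'_1.2 ⟨by omega, by omega⟩) r hr'
  exact closedC23 i (List.mem_range'_1.2 ⟨by omega, by omega⟩) r hr'

end Cfsg.Agent.Lib.Helper19.U4Check
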