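/-
Helper19 library: kernel-checked closure of the list of pairs under left multiplication by the generators (part 4).
-/
import Mathlib
import Cfsg.Agent.Lib.Helper19.U4Data

set_option autoImplicit false
set_option maxRecDepth 100000

namespace Cfsg.Agent.Lib.Helper19.U4Check

open Cfsg.Agent.Lib.Helper19.B2Enc Cfsg.Agent.Lib.Helper19.G2Enc Cfsg.Agent.Lib.Helper19.U4Enc
open Cfsg.Agent.Lib.Helper19.U4Data

theorem closedC24 : ∀ i ∈ List.range' 24000 1000, ∀ r ∈ List.range 2,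
    mulS (AE r) (Sc i) = Sc (Tt r i) ∧ mulU (BE r) (Uc i) = Uc (Tt r i) ∧ Tt r i < 51840 := by
  decide +kernel

theorem closedC25 : ∀ i ∈ List.range' 25000 1000, ∀ r ∈ List.range 2,
    mulS (AE r) (Sc i) = Sc (Tt r i) ∧ mulU (BE r) (Uc i) = Uc (Tt r i) ∧ Tt r i < 51840 := by
  decide +kernel

theorem closedC26 : ∀ i ∈ List.range' 26000 1000, ∀ r ∈ List.range 2,
    mulS (AE r) (Sc i) = Sc (Tt r i) ∧ mulU (BE r) (Uc i) = Uc (Tt r i) ∧ Tt r i < 51840 := by
  decide +kernel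

theorem closedC27 : ∀ i ∈ List.range' 27000 1000, ∀ r ∈ List.range 2,
    mulS (AE r) (Sc i) = Sc (Tt r i) ∧ mulU (BE r) (Uc i) = Uc (Tt r i) ∧ Tt r i < 51840 := by
  decide +kernel

theorem closedC28 : ∀ i ∈ List.range' 28000 1000, ∀ r ∈ List.range 2,
    mulS (AE r) (Sc i) = Sc (Tt r i) ∧ mulU (BE r) (Uc i) = Uc (Tt r i) ∧ Tt r i < 51840 := by
  decide +kernel

theorem closedC29 : ∀ i ∈ List.range' 29000 1000, ∀ r ∈ List.range 2,
    mulS (AE r) (Sc i) = Sc (Tt r i) ∧ mulU (BE r) (Uc i) = Uc (Tt r i) ∧ Tt r i < 51840 := by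
  decide +kernel

theorem closedF4 (i r : ℕ) (h1 : 24000 ≤ i) (h2 : i < 30000) (hr : r < 2) :
    mulS (AE r) (Sc i) = Sc (Tt r i) ∧ mulU (BE r) (Uc i) = Uc (Tt r i) ∧ Tt r i < 51840 := by
  have hr' : r ∈ List.range 2 := List.mem_range.2 hr
  by_cases h24 : i < 25000
  · exact closedC24 i (List.mem_range'_1.2 ⟨by omega, by omega⟩) r hr'
  by_cases h25 : i < 26000
  · exact closedC25 i (List.mem_range'_1.2 ⟨by omega, by omega⟩) r hr'
  by_cases h26 : i < 27000
  · exact closedC26 i (List.mem_range'_1.2 ⟨by omega, by omega⟩) r hr'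
  by_cases h27 : i < 28000
  · exact closedC27 i (List.mem_range'_1.2 ⟨by omega, by omega⟩) r hr'
  by_cases h28 : i < 29000
  · exact closedC28 i (List.mem_range'_1.2 ⟨by omega, by omega⟩) r hr'
  exact closedC29 i (List.mem_range'_1.2 ⟨by omega, by omega⟩) r hr'

end Cfsg.Agent.Lib.Helper19.U4Check
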