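/-
Helper19 library: kernel-checked closure of the list of pairs under left multiplication by the generators (part 5).
-/
import Mathlib
import Cfsg.Agent.Lib.Helper19.U4Data

set_option autoImplicit false
set_option maxRecDepth 100000

namespace Cfsg.Agent.Lib.Helper19.U4Check

open Cfsg.Agent.Lib.Helper19.B2Enc Cfsg.Agent.Lib.Helper19.G2Enc Cfsg.Agent.Lib.Helper19.U4Enc
open Cfsg.Agent.Lib.Helper19.U4Data

theorem closedC30 : ∀ i ∈ List.range' 30000 1000, ∀ r ∈ List.range 2,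
    mulS (AE r) (Sc i) = Sc (Tt r i) ∧ mulU (BE r) (Uc i) = Uc (Tt r i) ∧ Tt r i < 51840 := by
  decide +kernel

theorem closedC31 : ∀ i ∈ List.range' 31000 1000, ∀ r ∈ List.range 2,
    mulS (AE r) (Sc i) = Sc (Tt r i) ∧ mulU (BE r) (Uc i) = Uc (Tt r i) ∧ Tt r i < 51840 := by
  decide +kernel

theorem closedC32 : ∀ i ∈ List.range' 32000 1000, ∀ r ∈ List.range 2,
    mulS (AE r) (Sc i) = Sc (Tt r i) ∧ mulU (BE r) (Uc i) = Uc (Tt r i) ∧ Tt r i < 51840 := by
  decide +kernel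

theorem closedC33 : ∀ i ∈ List.range' 33000 1000, ∀ r ∈ List.range 2,
    mulS (AE r) (Sc i) = Sc (Tt r i) ∧ mulU (BE r) (Uc i) = Uc (Tt r i) ∧ Tt r i < 51840 := by
  decide +kernel

theorem closedC34 : ∀ i ∈ List.range' 34000 1000, ∀ r ∈ List.range 2,
    mulS (AE r) (Sc i) = Sc (Tt r i) ∧ mulU (BE r) (Uc i) = Uc (Tt r i) ∧ Tt r i < 51840 := by
  decide +kernel

theorem closedC35 : ∀ i ∈ List.range' 35000 1000, ∀ r ∈ List.range 2,
    mulS (AE r) (Sc i) = Sc (Tt r i) ∧ mulU (BE r) (Uc i) = Uc (Tt r i) ∧ Tt r i < 51840 := by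
  decide +kernel

theorem closedF5 (i r : ℕ) (h1 : 30000 ≤ i) (h2 : i < 36000) (hr : r < 2) :
    mulS (AE r) (Sc i) = Sc (Tt r i) ∧ mulU (BE r) (Uc i) = Uc (Tt r i) ∧ Tt r i < 51840 := by
  have hr' : r ∈ List.range 2 := List.mem_range.2 hr
  by_cases h30 : i < 31000
  · exact closedC30 i (List.mem_range'_1.2 ⟨by omega, by omega⟩) r hr'
  by_cases h31 : i < 32000
  · exact closedC31 i (List.mem_range'_1.2 ⟨by omega, by omega⟩) r hr'
  by_cases h32 : i < 33000
  · exact closedC32 i (List.mem_range'_1.2 ⟨by omega, by omega⟩) r hr'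
  by_cases h33 : i < 34000
  · exact closedC33 i (List.mem_range'_1.2 ⟨by omega, by omega⟩) r hr'
  by_cases h34 : i < 35000
  · exact closedC34 i (List.mem_range'_1.2 ⟨by omega, by omega⟩) r hr'
  exact closedC35 i (List.mem_range'_1.2 ⟨by omega, by omega⟩) r hr'

end Cfsg.Agent.Lib.Helper19.U4Check
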