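/-
Helper19 library: kernel-checked closure of the list of pairs under left multiplication by the generators (part 6).
-/
import Mathlib
import Cfsg.Agent.Lib.Helper19.U4Data

set_option autoImplicit false
set_option maxRecDepth 100000

namespace Cfsg.Agent.Lib.Helper19.U4Check

open Cfsg.Agent.Lib.Helper19.B2Enc Cfsg.Agent.Lib.Helper19.G2Enc Cfsg.Agent.Lib.Helper19.U4Enc
open Cfsg.Agent.Lib.Helper19.U4Data

theorem closedC36 : ∀ i ∈ List.range' 36000 1000, ∀ r ∈ List.range 2,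
    mulS (AE r) (Sc i) = Sc (Tt r i) ∧ mulU (BE r) (Uc i) = Uc (Tt r i) ∧ Tt r i < 51840 := by
  decide +kernel

theorem closedC37 : ∀ i ∈ List.range' 37000 1000, ∀ r ∈ List.range 2,
    mulS (AE r) (Sc i) = Sc (Tt r i) ∧ mulU (BE r) (Uc i) = Uc (Tt r i) ∧ Tt r i < 51840 := by
  decide +kernel

theorem closedC38 : ∀ i ∈ List.range' 38000 1000, ∀ r ∈ List.range 2,
    mulS (AE r) (Sc i) = Sc (Tt r i) ∧ mulU (BE r) (Uc i) = Uc (Tt r i) ∧ Tt r i < 51840 := by
  decide +kernel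

theorem closedC39 : ∀ i ∈ List.range' 39000 1000, ∀ r ∈ List.range 2,
    mulS (AE r) (Sc i) = Sc (Tt r i) ∧ mulU (BE r) (Uc i) = Uc (Tt r i) ∧ Tt r i < 51840 := by
  decide +kernel

theorem closedC40 : ∀ i ∈ List.range' 40000 1000, ∀ r ∈ List.range 2,
    mulS (AE r) (Sc i) = Sc (Tt r i) ∧ mulU (BE r) (Uc i) = Uc (Tt r i) ∧ Tt r i < 51840 := by
  decide +kernel

theorem closedC41 : ∀ i ∈ List.range' 41000 1000, ∀ r ∈ List.range 2,
    mulS (AE r) (Sc i) = Sc (Tt r i) ∧ mulU (BE r) (Uc i) = Uc (Tt r i) ∧ Tt r i < 51840 := by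
  decide +kernel

theorem closedF6 (i r : ℕ) (h1 : 36000 ≤ i) (h2 : i < 42000) (hr : r < 2) :
    mulS (AE r) (Sc i) = Sc (Tt r i) ∧ mulU (BE r) (Uc i) = Uc (Tt r i) ∧ Tt r i < 51840 := by
  have hr' : r ∈ List.range 2 := List.mem_range.2 hr
  by_cases h36 : i < 37000
  · exact closedC36 i (List.mem_range'_1.2 ⟨by omega, by omega⟩) r hr'
  by_cases h37 : i < 38000
  · exact closedC37 i (List.mem_range'_1.2 ⟨by omega, by omega⟩) r hr'
  by_cases h38 : i < 39000
  · exact closedC38 i (List.mem_range'_1.2 ⟨by omega, by omega⟩) r hr'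
  by_cases h39 : i < 40000
  · exact closedC39 i (List.mem_range'_1.2 ⟨by omega, by omega⟩) r hr'
  by_cases h40 : i < 41000
  · exact closedC40 i (List.mem_range'_1.2 ⟨by omega, by omega⟩) r hr'
  exact closedC41 i (List.mem_range'_1.2 ⟨by omega, by omega⟩) r hr'

end Cfsg.Agent.Lib.Helper19.U4Check
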