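/-
Helper19 library: kernel-checked closure of the list of pairs under left multiplication by the generators (part 7).
-/
import Mathlib
import Cfsg.Agent.Lib.Helper19.U4Data

set_option autoImplicit false
set_option maxRecDepth 100000

namespace Cfsg.Agent.Lib.Helper19.U4Check

open Cfsg.Agent.Lib.Helper19.B2Enc Cfsg.Agent.Lib.Helper19.G2Enc Cfsg.Agent.Lib.Helper19.U4Enc
open Cfsg.Agent.Lib.Helper19.U4Data

theorem closedC42 : ∀ i ∈ List.range' 42000 1000, ∀ r ∈ List.range 2,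
    mulS (AE r) (Sc i) = Sc (Tt r i) ∧ mulU (BE r) (Uc i) = Uc (Tt r i) ∧ Tt r i < 51840 := by
  decide +kernel

theorem closedC43 : ∀ i ∈ List.range' 43000 1000, ∀ r ∈ List.range 2,
    mulS (AE r) (Sc i) = Sc (Tt r i) ∧ mulU (BE r) (Uc i) = Uc (Tt r i) ∧ Tt r i < 51840 := by
  decide +kernel

theorem closedC44 : ∀ i ∈ List.range' 44000 1000, ∀ r ∈ List.range 2,
    mulS (AE r) (Sc i) = Sc (Tt r i) ∧ mulU (BE r) (Uc i) = Uc (Tt r i) ∧ Tt r i < 51840 := by
  decide +kernel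

theorem closedC45 : ∀ i ∈ List.range' 45000 1000, ∀ r ∈ List.range 2,
    mulS (AE r) (Sc i) = Sc (Tt r i) ∧ mulU (BE r) (Uc i) = Uc (Tt r i) ∧ Tt r i < 51840 := by
  decide +kernel

theorem closedC46 : ∀ i ∈ List.range' 46000 1000, ∀ r ∈ List.range 2,
    mulS (AE r) (Sc i) = Sc (Tt r i) ∧ mulU (BE r) (Uc i) = Uc (Tt r i) ∧ Tt r i < 51840 := by
  decide +kernel

theorem closedC47 : ∀ i ∈ List.range' 47000 1000, ∀ r ∈ List.range 2,
    mulS (AE r) (Sc i) = Sc (Tt r i) ∧ mulU (BE r) (Uc i) = Uc (Tt r i) ∧ Tt r i < 51840 := by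
  decide +kernel

theorem closedF7 (i r : ℕ) (h1 : 42000 ≤ i) (h2 : i < 48000) (hr : r < 2) :
    mulS (AE r) (Sc i) = Sc (Tt r i) ∧ mulU (BE r) (Uc i) = Uc (Tt r i) ∧ Tt r i < 51840 := by
  have hr' : r ∈ List.range 2 := List.mem_range.2 hr
  by_cases h42 : i < 43000
  · exact closedC42 i (List.mem_range'_1.2 ⟨by omega, by omega⟩) r hr'
  by_cases h43 : i < 44000
  · exact closedC43 i (List.mem_range'_1.2 ⟨by omega, by omega⟩) r hr'
  by_cases h44 : i < 45000
  · exact closedC44 i (List.mem_range'_1.2 ⟨by omega, by omega⟩) r hr'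
  by_cases h45 : i < 46000
  · exact closedC45 i (List.mem_range'_1.2 ⟨by omega, by omega⟩) r hr'
  by_cases h46 : i < 47000
  · exact closedC46 i (List.mem_range'_1.2 ⟨by omega, by omega⟩) r hr'
  exact closedC47 i (List.mem_range'_1.2 ⟨by omega, by omega⟩) r hr'

end Cfsg.Agent.Lib.Helper19.U4Check
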