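/-
Helper19 library: kernel-checked distinctness of the listed matrices (part 0).
-/
import Mathlib
import Cfsg.Agent.Lib.Helper19.U4Data

set_option autoImplicit false
set_option maxRecDepth 100000

namespace Cfsg.Agent.Lib.Helper19.U4Check

open Cfsg.Agent.Lib.Helper19.B2Enc Cfsg.Agent.Lib.Helper19.G2Enc Cfsg.Agent.Lib.Helper19.U4Enc
open Cfsg.Agent.Lib.Helper19.U4Data

theorem distC0 : ∀ i ∈ List.range' 0 1000,
    encS (decS (Sc i)) = Sc i ∧ STree.find (Sc i) = i ∧ encU (decU (Uc i)) = Uc i := by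
  decide +kernel

theorem distC1 : ∀ i ∈ List.range' 1000 1000,
    encS (decS (Sc i)) = Sc i ∧ STree.find (Sc i) = i ∧ encU (decU (Uc i)) = Uc i := by
  decide +kernel

theorem distC2 : ∀ i ∈ List.range' 2000 1000,
    encS (decS (Sc i)) = Sc i ∧ STree.find (Sc i) = i ∧ encU (decU (Uc i)) = Uc i := by
  decide +kernel

theorem distC3 : ∀ i ∈ List.range' 3000 1000,
    encS (decS (Sc i)) = Sc i ∧ STree.find (Sc i) = i ∧ encU (decU (Uc i)) = Uc i := by
  decide +kernel

theorem distC4 : ∀ i ∈ List.range' 4000 1000,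
    encS (decS (Sc i)) = Sc i ∧ STree.find (Sc i) = i ∧ encU (decU (Uc i)) = Uc i := by
  decide +kernel

theorem distC5 : ∀ i ∈ List.range' 5000 1000,
    encS (decS (Sc i)) = Sc i ∧ STree.find (Sc i) = i ∧ encU (decU (Uc i)) = Uc i := by
  decide +kernel

theorem distC6 : ∀ i ∈ List.range' 6000 1000,
    encS (decS (Sc i)) = Sc i ∧ STree.find (Sc i) = i ∧ encU (decU (Uc i)) = Uc i := by
  decide +kernel

theorem distC7 : ∀ i ∈ List.range' 7000 1000,
    encS (decS (Sc i)) = Sc i ∧ STree.find (Sc i) = i ∧ encU (decU (Uc i)) = Uc i := by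
  decide +kernel

theorem distC8 : ∀ i ∈ List.range' 8000 1000,
    encS (decS (Sc i)) = Sc i ∧ STree.find (Sc i) = i ∧ encU (decU (Uc i)) = Uc i := by
  decide +kernel

theorem distC9 : ∀ i ∈ List.range' 9000 1000,
    encS (decS (Sc i)) = Sc i ∧ STree.find (Sc i) = i ∧ encU (decU (Uc i)) = Uc i := by
  decide +kernel

theorem distC10 : ∀ i ∈ List.range' 10000 1000,
    encS (decS (Sc i)) = Sc i ∧ STree.find (Sc i) = i ∧ encU (decU (Uc i)) = Uc i := by
  decide +kernel

theorem distC11 : ∀ i ∈ List.range' 11000 1000,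
    encS (decS (Sc i)) = Sc i ∧ STree.find (Sc i) = i ∧ encU (decU (Uc i)) = Uc i := by
  decide +kernel

theorem distC12 : ∀ i ∈ List.range' 12000 1000,
    encS (decS (Sc i)) = Sc i ∧ STree.find (Sc i) = i ∧ encU (decU (Uc i)) = Uc i := by
  decide +kernel

theorem distF0 (i : ℕ) (h1 : 0 ≤ i) (h2 : i < 13000) :
    encS (decS (Sc i)) = Sc i ∧ STree.find (Sc i) = i ∧ encU (decU (Uc i)) = Uc i := by
  by_cases h0 : i < 1000
  · exact distC0 i (List.mem_range'_1.2 ⟨by omega, by omega⟩)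
  by_cases h1 : i < 2000
  · exact distC1 i (List.mem_range'_1.2 ⟨by omega, by omega⟩)
  by_cases h2 : i < 3000
  · exact distC2 i (List.mem_range'_1.2 ⟨by omega, by omega⟩)
  by_cases h3 : i < 4000
  · exact distC3 i (List.mem_range'_1.2 ⟨by omega, by omega⟩)
  by_cases h4 : i < 5000
  · exact distC4 i (List.mem_range'_1.2 ⟨by omega, by omega⟩)
  by_cases h5 : i < 6000
  · exact distC5 i (List.mem_range'_1.2 ⟨by omega, by omega⟩)
  by_cases h6 : i < 7000
  · exact distC6 i (List.mem_range'_1.2 ⟨by omega, by omega⟩)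
  by_cases h7 : i < 8000
  · exact distC7 i (List.mem_range'_1.2 ⟨by omega, by omega⟩)
  by_cases h8 : i < 9000
  · exact distC8 i (List.mem_range'_1.2 ⟨by omega, by omega⟩)
  by_cases h9 : i < 10000
  · exact distC9 i (List.mem_range'_1.2 ⟨by omega, by omega⟩)
  by_cases h10 : i < 11000
  · exact distC10 i (List.mem_range'_1.2 ⟨by omega, by omega⟩)
  by_cases h11 : i < 12000
  · exact distC11 i (List.mem_range'_1.2 ⟨by omega, by omega⟩)
  exact distC12 i (List.mem_range'_1.2 ⟨by omega, by omega⟩)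

end Cfsg.Agent.Lib.Helper19.U4Check
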