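/-
Helper19 library: kernel-checked distinctness of the listed matrices (part 1).
-/
import Mathlib
import Cfsg.Agent.Lib.Helper19.U4Data

set_option autoImplicit false
set_option maxRecDepth 100000

namespace Cfsg.Agent.Lib.Helper19.U4Check

open Cfsg.Agent.Lib.Helper19.B2Enc Cfsg.Agent.Lib.Helper19.G2Enc Cfsg.Agent.Lib.Helper19.U4Enc
open Cfsg.Agent.Lib.Helper19.U4Data

theorem distC13 : ∀ i ∈ List.range' 13000 1000,
    encS (decS (Sc i)) = Sc i ∧ STree.find (Sc i) = i ∧ encU (decU (Uc i)) = Uc i := by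
  decide +kernel

theorem distC14 : ∀ i ∈ List.range' 14000 1000,
    encS (decS (Sc i)) = Sc i ∧ STree.find (Sc i) = i ∧ encU (decU (Uc i)) = Uc i := by
  decide +kernel

theorem distC15 : ∀ i ∈ List.range' 15000 1000,
    encS (decS (Sc i)) = Sc i ∧ STree.find (Sc i) = i ∧ encU (decU (Uc i)) = Uc i := by
  decide +kernel

theorem distC16 : ∀ i ∈ List.range' 16000 1000,
    encS (decS (Sc i)) = Sc i ∧ STree.find (Sc i) = i ∧ encU (decU (Uc i)) = Uc i := by
  decide +kernel

theorem distC17 : ∀ i ∈ List.range' 17000 1000,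
    encS (decS (Sc i)) = Sc i ∧ STree.find (Sc i) = i ∧ encU (decU (Uc i)) = Uc i := by
  decide +kernel

theorem distC18 : ∀ i ∈ List.range' 18000 1000,
    encS (decS (Sc i)) = Sc i ∧ STree.find (Sc i) = i ∧ encU (decU (Uc i)) = Uc i := by
  decide +kernel

theorem distC19 : ∀ i ∈ List.range' 19000 1000,
    encS (decS (Sc i)) = Sc i ∧ STree.find (Sc i) = i ∧ encU (decU (Uc i)) = Uc i := by
  decide +kernel

theorem distC20 : ∀ i ∈ List.range' 20000 1000,
    encS (decS (Sc i)) = Sc i ∧ STree.find (Sc i) = i ∧ encU (decU (Uc i)) = Uc i := by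
  decide +kernel

theorem distC21 : ∀ i ∈ List.range' 21000 1000,
    encS (decS (Sc i)) = Sc i ∧ STree.find (Sc i) = i ∧ encU (decU (Uc i)) = Uc i := by
  decide +kernel

theorem distC22 : ∀ i ∈ List.range' 22000 1000,
    encS (decS (Sc i)) = Sc i ∧ STree.find (Sc i) = i ∧ encU (decU (Uc i)) = Uc i := by
  decide +kernel

theorem distC23 : ∀ i ∈ List.range' 23000 1000,
    encS (decS (Sc i)) = Sc i ∧ STree.find (Sc i) = i ∧ encU (decU (Uc i)) = Uc i := by
  decide +kernel

theorem distC24 : ∀ i ∈ List.range' 24000 1000,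
    encS (decS (Sc i)) = Sc i ∧ STree.find (Sc i) = i ∧ encU (decU (Uc i)) = Uc i := by
  decide +kernel

theorem distC25 : ∀ i ∈ List.range' 25000 1000,
    encS (decS (Sc i)) = Sc i ∧ STree.find (Sc i) = i ∧ encU (decU (Uc i)) = Uc i := by
  decide +kernel

theorem distF1 (i : ℕ) (h1 : 13000 ≤ i) (h2 : i < 26000) :
    encS (decS (Sc i)) = Sc i ∧ STree.find (Sc i) = i ∧ encU (decU (Uc i)) = Uc i := by
  by_cases h13 : i < 14000
  · exact distC13 i (List.mem_range'_1.2 ⟨by omega, by omega⟩)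
  by_cases h14 : i < 15000
  · exact distC14 i (List.mem_range'_1.2 ⟨by omega, by omega⟩)
  by_cases h15 : i < 16000
  · exact distC15 i (List.mem_range'_1.2 ⟨by omega, by omega⟩)
  by_cases h16 : i < 17000
  · exact distC16 i (List.mem_range'_1.2 ⟨by omega, by omega⟩)
  by_cases h17 : i < 18000
  · exact distC17 i (List.mem_range'_1.2 ⟨by omega, by omega⟩)
  by_cases h18 : i < 19000
  · exact distC18 i (List.mem_range'_1.2 ⟨by omega, by omega⟩)
  by_cases h19 : i < 20000
  · exact distC19 i (List.mem_range'_1.2 ⟨by omega, by omega⟩)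
  by_cases h20 : i < 21000
  · exact distC20 i (List.mem_range'_1.2 ⟨by omega, by omega⟩)
  by_cases h21 : i < 22000
  · exact distC21 i (List.mem_range'_1.2 ⟨by omega, by omega⟩)
  by_cases h22 : i < 23000
  · exact distC22 i (List.mem_range'_1.2 ⟨by omega, by omega⟩)
  by_cases h23 : i < 24000
  · exact distC23 i (List.mem_range'_1.2 ⟨by omega, by omega⟩)
  by_cases h24 : i < 25000
  · exact distC24 i (List.mem_range'_1.2 ⟨by omega, by omega⟩)
  exact distC25 i (List.mem_range'_1.2 ⟨by omega, by omega⟩)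

end Cfsg.Agent.Lib.Helper19.U4Check
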