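/-
Helper19 library: kernel-checked distinctness of the listed matrices (part 2).
-/
import Mathlib
import Cfsg.Agent.Lib.Helper19.U4Data

set_option autoImplicit false
set_option maxRecDepth 100000

namespace Cfsg.Agent.Lib.Helper19.U4Check

open Cfsg.Agent.Lib.Helper19.B2Enc Cfsg.Agent.Lib.Helper19.G2Enc Cfsg.Agent.Lib.Helper19.U4Enc
open Cfsg.Agent.Lib.Helper19.U4Data

theorem distC26 : ∀ i ∈ List.range' 26000 1000,
    encS (decS (Sc i)) = Sc i ∧ STree.find (Sc i) = i ∧ encU (decU (Uc i)) = Uc i := by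
  decide +kernel

theorem distC27 : ∀ i ∈ List.range' 27000 1000,
    encS (decS (Sc i)) = Sc i ∧ STree.find (Sc i) = i ∧ encU (decU (Uc i)) = Uc i := by
  decide +kernel

theorem distC28 : ∀ i ∈ List.range' 28000 1000,
    encS (decS (Sc i)) = Sc i ∧ STree.find (Sc i) = i ∧ encU (decU (Uc i)) = Uc i := by
  decide +kernel

theorem distC29 : ∀ i ∈ List.range' 29000 1000,
    encS (decS (Sc i)) = Sc i ∧ STree.find (Sc i) = i ∧ encU (decU (Uc i)) = Uc i := by
  decide +kernel

theorem distC30 : ∀ i ∈ List.range' 30000 1000,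
    encS (decS (Sc i)) = Sc i ∧ STree.find (Sc i) = i ∧ encU (decU (Uc i)) = Uc i := by
  decide +kernel

theorem distC31 : ∀ i ∈ List.range' 31000 1000,
    encS (decS (Sc i)) = Sc i ∧ STree.find (Sc i) = i ∧ encU (decU (Uc i)) = Uc i := by
  decide +kernel

theorem distC32 : ∀ i ∈ List.range' 32000 1000,
    encS (decS (Sc i)) = Sc i ∧ STree.find (Sc i) = i ∧ encU (decU (Uc i)) = Uc i := by
  decide +kernel

theorem distC33 : ∀ i ∈ List.range' 33000 1000,
    encS (decS (Sc i)) = Sc i ∧ STree.find (Sc i) = i ∧ encU (decU (Uc i)) = Uc i := by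
  decide +kernel

theorem distC34 : ∀ i ∈ List.range' 34000 1000,
    encS (decS (Sc i)) = Sc i ∧ STree.find (Sc i) = i ∧ encU (decU (Uc i)) = Uc i := by
  decide +kernel

theorem distC35 : ∀ i ∈ List.range' 35000 1000,
    encS (decS (Sc i)) = Sc i ∧ STree.find (Sc i) = i ∧ encU (decU (Uc i)) = Uc i := by
  decide +kernel

theorem distC36 : ∀ i ∈ List.range' 36000 1000,
    encS (decS (Sc i)) = Sc i ∧ STree.find (Sc i) = i ∧ encU (decU (Uc i)) = Uc i := by
  decide +kernel

theorem distC37 : ∀ i ∈ List.range' 37000 1000,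
    encS (decS (Sc i)) = Sc i ∧ STree.find (Sc i) = i ∧ encU (decU (Uc i)) = Uc i := by
  decide +kernel

theorem distC38 : ∀ i ∈ List.range' 38000 1000,
    encS (decS (Sc i)) = Sc i ∧ STree.find (Sc i) = i ∧ encU (decU (Uc i)) = Uc i := by
  decide +kernel

theorem distF2 (i : ℕ) (h1 : 26000 ≤ i) (h2 : i < 39000) :
    encS (decS (Sc i)) = Sc i ∧ STree.find (Sc i) = i ∧ encU (decU (Uc i)) = Uc i := by
  by_cases h26 : i < 27000
  · exact distC26 i (List.mem_range'_1.2 ⟨by omega, by omega⟩)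
  by_cases h27 : i < 28000
  · exact distC27 i (List.mem_range'_1.2 ⟨by omega, by omega⟩)
  by_cases h28 : i < 29000
  · exact distC28 i (List.mem_range'_1.2 ⟨by omega, by omega⟩)
  by_cases h29 : i < 30000
  · exact distC29 i (List.mem_range'_1.2 ⟨by omega, by omega⟩)
  by_cases h30 : i < 31000
  · exact distC30 i (List.mem_range'_1.2 ⟨by omega, by omega⟩)
  by_cases h31 : i < 32000
  · exact distC31 i (List.mem_range'_1.2 ⟨by omega, by omega⟩)
  by_cases h32 : i < 33000
  · exact distC32 i (List.mem_range'_1.2 ⟨by omega, by omega⟩)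
  by_cases h33 : i < 34000
  · exact distC33 i (List.mem_range'_1.2 ⟨by omega, by omega⟩)
  by_cases h34 : i < 35000
  · exact distC34 i (List.mem_range'_1.2 ⟨by omega, by omega⟩)
  by_cases h35 : i < 36000
  · exact distC35 i (List.mem_range'_1.2 ⟨by omega, by omega⟩)
  by_cases h36 : i < 37000
  · exact distC36 i (List.mem_range'_1.2 ⟨by omega, by omega⟩)
  by_cases h37 : i < 38000
  · exact distC37 i (List.mem_range'_1.2 ⟨by omega, by omega⟩)
  exact distC38 i (List.mem_range'_1.2 ⟨by omega, by omega⟩)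

end Cfsg.Agent.Lib.Helper19.U4Check
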