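/-
Helper19 library: kernel-checked distinctness of the listed matrices (part 3).
-/
import Mathlib
import Cfsg.Agent.Lib.Helper19.U4Data

set_option autoImplicit false
set_option maxRecDepth 100000

namespace Cfsg.Agent.Lib.Helper19.U4Check

open Cfsg.Agent.Lib.Helper19.B2Enc Cfsg.Agent.Lib.Helper19.G2Enc Cfsg.Agent.Lib.Helper19.U4Enc
open Cfsg.Agent.Lib.Helper19.U4Data

theorem distC39 : ∀ i ∈ List.range' 39000 1000,
    encS (decS (Sc i)) = Sc i ∧ STree.find (Sc i) = i ∧ encU (decU (Uc i)) = Uc i := by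
  decide +kernel

theorem distC40 : ∀ i ∈ List.range' 40000 1000,
    encS (decS (Sc i)) = Sc i ∧ STree.find (Sc i) = i ∧ encU (decU (Uc i)) = Uc i := by
  decide +kernel

theorem distC41 : ∀ i ∈ List.range' 41000 1000,
    encS (decS (Sc i)) = Sc i ∧ STree.find (Sc i) = i ∧ encU (decU (Uc i)) = Uc i := by
  decide +kernel

theorem distC42 : ∀ i ∈ List.range' 42000 1000,
    encS (decS (Sc i)) = Sc i ∧ STree.find (Sc i) = i ∧ encU (decU (Uc i)) = Uc i := by
  decide +kernel

theorem distC43 : ∀ i ∈ List.range' 43000 1000,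
    encS (decS (Sc i)) = Sc i ∧ STree.find (Sc i) = i ∧ encU (decU (Uc i)) = Uc i := by
  decide +kernel

theorem distC44 : ∀ i ∈ List.range' 44000 1000,
    encS (decS (Sc i)) = Sc i ∧ STree.find (Sc i) = i ∧ encU (decU (Uc i)) = Uc i := by
  decide +kernel

theorem distC45 : ∀ i ∈ List.range' 45000 1000,
    encS (decS (Sc i)) = Sc i ∧ STree.find (Sc i) = i ∧ encU (decU (Uc i)) = Uc i := by
  decide +kernel

theorem distC46 : ∀ i ∈ List.range' 46000 1000,
    encS (decS (Sc i)) = Sc i ∧ STree.find (Sc i) = i ∧ encU (decU (Uc i)) = Uc i := by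
  decide +kernel

theorem distC47 : ∀ i ∈ List.range' 47000 1000,
    encS (decS (Sc i)) = Sc i ∧ STree.find (Sc i) = i ∧ encU (decU (Uc i)) = Uc i := by
  decide +kernel

theorem distC48 : ∀ i ∈ List.range' 48000 1000,
    encS (decS (Sc i)) = Sc i ∧ STree.find (Sc i) = i ∧ encU (decU (Uc i)) = Uc i := by
  decide +kernel

theorem distC49 : ∀ i ∈ List.range' 49000 1000,
    encS (decS (Sc i)) = Sc i ∧ STree.find (Sc i) = i ∧ encU (decU (Uc i)) = Uc i := by
  decide +kernel

theorem distC50 : ∀ i ∈ List.range' 50000 1000,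
    encS (decS (Sc i)) = Sc i ∧ STree.find (Sc i) = i ∧ encU (decU (Uc i)) = Uc i := by
  decide +kernel

theorem distC51 : ∀ i ∈ List.range' 51000 840,
    encS (decS (Sc i)) = Sc i ∧ STree.find (Sc i) = i ∧ encU (decU (Uc i)) = Uc i := by
  decide +kernel

theorem distF3 (i : ℕ) (h1 : 39000 ≤ i) (h2 : i < 51840) :
    encS (decS (Sc i)) = Sc i ∧ STree.find (Sc i) = i ∧ encU (decU (Uc i)) = Uc i := by
  by_cases h39 : i < 40000
  · exact distC39 i (List.mem_range'_1.2 ⟨by omega, by omega⟩)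
  by_cases h40 : i < 41000
  · exact distC40 i (List.mem_range'_1.2 ⟨by omega, by omega⟩)
  by_cases h41 : i < 42000
  · exact distC41 i (List.mem_range'_1.2 ⟨by omega, by omega⟩)
  by_cases h42 : i < 43000
  · exact distC42 i (List.mem_range'_1.2 ⟨by omega, by omega⟩)
  by_cases h43 : i < 44000
  · exact distC43 i (List.mem_range'_1.2 ⟨by omega, by omega⟩)
  by_cases h44 : i < 45000
  · exact distC44 i (List.mem_range'_1.2 ⟨by omega, by omega⟩)
  by_cases h45 : i < 46000
  · exact distC45 i (List.mem_range'_1.2 ⟨by omega, by omega⟩)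
  by_cases h46 : i < 47000
  · exact distC46 i (List.mem_range'_1.2 ⟨by omega, by omega⟩)
  by_cases h47 : i < 48000
  · exact distC47 i (List.mem_range'_1.2 ⟨by omega, by omega⟩)
  by_cases h48 : i < 49000
  · exact distC48 i (List.mem_range'_1.2 ⟨by omega, by omega⟩)
  by_cases h49 : i < 50000
  · exact distC49 i (List.mem_range'_1.2 ⟨by omega, by omega⟩)
  by_cases h50 : i < 51000
  · exact distC50 i (List.mem_range'_1.2 ⟨by omega, by omega⟩)
  exact distC51 i (List.mem_range'_1.2 ⟨by omega, by omega⟩)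

end Cfsg.Agent.Lib.Helper19.U4Check
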