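/-
Helper19 library: kernel-checked spanning tree and kernel of the list of pairs (part 0).
-/
import Mathlib
import Cfsg.Agent.Lib.Helper19.U4Data

set_option autoImplicit false
set_option maxRecDepth 100000

namespace Cfsg.Agent.Lib.Helper19.U4Check

open Cfsg.Agent.Lib.Helper19.B2Enc Cfsg.Agent.Lib.Helper19.G2Enc Cfsg.Agent.Lib.Helper19.U4Enc
open Cfsg.Agent.Lib.Helper19.U4Data

theorem bfsC0 : ∀ i ∈ List.range' 1 6479, par i < i ∧ gk i < 2 ∧ Tt (gk i) (par i) = i := by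
  decide +kernel

theorem kerC0 : ∀ i ∈ List.range' 0 6480, Uc i = ONEU → (Sc i = ONES ∨ Sc i = NEGS) := by
  decide +kernel

theorem bfsC1 : ∀ i ∈ List.range' 6480 6480, par i < i ∧ gk i < 2 ∧ Tt (gk i) (par i) = i := by
  decide +kernel

theorem kerC1 : ∀ i ∈ List.range' 6480 6480, Uc i = ONEU → (Sc i = ONES ∨ Sc i = NEGS) := by
  decide +kernel

theorem bfsC2 : ∀ i ∈ List.range' 12960 6480, par i < i ∧ gk i < 2 ∧ Tt (gk i) (par i) = i := by
  decide +kernel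

theorem kerC2 : ∀ i ∈ List.range' 12960 6480, Uc i = ONEU → (Sc i = ONES ∨ Sc i = NEGS) := by
  decide +kernel

theorem bfsC3 : ∀ i ∈ List.range' 19440 6480, par i < i ∧ gk i < 2 ∧ Tt (gk i) (par i) = i := by
  decide +kernel

theorem kerC3 : ∀ i ∈ List.range' 19440 6480, Uc i = ONEU → (Sc i = ONES ∨ Sc i = NEGS) := by
  decide +kernel

theorem bfsF0 (i : ℕ) (h0 : 0 < i) (h1 : 0 ≤ i) (h2 : i < 25920) : par i < i ∧ gk i < 2 ∧ Tt (gk i) (par i) = i := by
  by_cases h0 : i < 6480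
  · exact bfsC0 i (List.mem_range'_1.2 ⟨by omega, by omega⟩)
  by_cases h1 : i < 12960
  · exact bfsC1 i (List.mem_range'_1.2 ⟨by omega, by omega⟩)
  by_cases h2 : i < 19440
  · exact bfsC2 i (List.mem_range'_1.2 ⟨by omega, by omega⟩)
  exact bfsC3 i (List.mem_range'_1.2 ⟨by omega, by omega⟩)

theorem kerF0 (i : ℕ) (h1 : 0 ≤ i) (h2 : i < 25920) : Uc i = ONEU → (Sc i = ONES ∨ Sc i = NEGS) := by
  by_cases h0 : i < 6480
  · exact kerC0 i (List.mem_range'_1.2 ⟨by omega, by omega⟩)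
  by_cases h1 : i < 12960
  · exact kerC1 i (List.mem_range'_1.2 ⟨by omega, by omega⟩)
  by_cases h2 : i < 19440
  · exact kerC2 i (List.mem_range'_1.2 ⟨by omega, by omega⟩)
  exact kerC3 i (List.mem_range'_1.2 ⟨by omega, by omega⟩)

end Cfsg.Agent.Lib.Helper19.U4Check
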