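/-
Helper19 library: kernel-checked spanning tree and kernel of the list of pairs (part 1).
-/
import Mathlib
import Cfsg.Agent.Lib.Helper19.U4Data

set_option autoImplicit false
set_option maxRecDepth 100000

namespace Cfsg.Agent.Lib.Helper19.U4Check

open Cfsg.Agent.Lib.Helper19.B2Enc Cfsg.Agent.Lib.Helper19.G2Enc Cfsg.Agent.Lib.Helper19.U4Enc
open Cfsg.Agent.Lib.Helper19.U4Data

theorem bfsC4 : ∀ i ∈ List.range' 25920 6480, par i < i ∧ gk i < 2 ∧ Tt (gk i) (par i) = i := by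
  decide +kernel

theorem kerC4 : ∀ i ∈ List.range' 25920 6480, Uc i = ONEU → (Sc i = ONES ∨ Sc i = NEGS) := by
  decide +kernel

theorem bfsC5 : ∀ i ∈ List.range' 32400 6480, par i < i ∧ gk i < 2 ∧ Tt (gk i) (par i) = i := by
  decide +kernel

theorem kerC5 : ∀ i ∈ List.range' 32400 6480, Uc i = ONEU → (Sc i = ONES ∨ Sc i = NEGS) := by
  decide +kernel

theorem bfsC6 : ∀ i ∈ List.range' 38880 6480, par i < i ∧ gk i < 2 ∧ Tt (gk i) (par i) = i := by
  decide +kernel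

theorem kerC6 : ∀ i ∈ List.range' 38880 6480, Uc i = ONEU → (Sc i = ONES ∨ Sc i = NEGS) := by
  decide +kernel

theorem bfsC7 : ∀ i ∈ List.range' 45360 6480, par i < i ∧ gk i < 2 ∧ Tt (gk i) (par i) = i := by
  decide +kernel

theorem kerC7 : ∀ i ∈ List.range' 45360 6480, Uc i = ONEU → (Sc i = ONES ∨ Sc i = NEGS) := by
  decide +kernel

theorem bfsF1 (i : ℕ) (h0 : 0 < i) (h1 : 25920 ≤ i) (h2 : i < 51840) : par i < i ∧ gk i < 2 ∧ Tt (gk i) (par i) = i := by
  by_cases h4 : i < 32400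
  · exact bfsC4 i (List.mem_range'_1.2 ⟨by omega, by omega⟩)
  by_cases h5 : i < 38880
  · exact bfsC5 i (List.mem_range'_1.2 ⟨by omega, by omega⟩)
  by_cases h6 : i < 45360
  · exact bfsC6 i (List.mem_range'_1.2 ⟨by omega, by omega⟩)
  exact bfsC7 i (List.mem_range'_1.2 ⟨by omega, by omega⟩)

theorem kerF1 (i : ℕ) (h1 : 25920 ≤ i) (h2 : i < 51840) : Uc i = ONEU → (Sc i = ONES ∨ Sc i = NEGS) := by
  by_cases h4 : i < 32400
  · exact kerC4 i (List.mem_range'_1.2 ⟨by omega, by omega⟩)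
  by_cases h5 : i < 38880
  · exact kerC5 i (List.mem_range'_1.2 ⟨by omega, by omega⟩)
  by_cases h6 : i < 45360
  · exact kerC6 i (List.mem_range'_1.2 ⟨by omega, by omega⟩)
  exact kerC7 i (List.mem_range'_1.2 ⟨by omega, by omega⟩)

end Cfsg.Agent.Lib.Helper19.U4Check
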