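/-
Helper19 library: assembled kernel-checked certificates for the list of 51840 pairs (elements of `Sp₄(3)`, images in
`SU₄(2)`), and the facts on the generators.
-/
import Mathlib
import Cfsg.Agent.Lib.Helper19.U4CheckA0
import Cfsg.Agent.Lib.Helper19.U4CheckA1
import Cfsg.Agent.Lib.Helper19.U4CheckA2
import Cfsg.Agent.Lib.Helper19.U4CheckA3
import Cfsg.Agent.Lib.Helper19.U4CheckA4
import Cfsg.Agent.Lib.Helper19.U4CheckA5
import Cfsg.Agent.Lib.Helper19.U4CheckA6
import Cfsg.Agent.Lib.Helper19.U4CheckA7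
import Cfsg.Agent.Lib.Helper19.U4CheckA8
import Cfsg.Agent.Lib.Helper19.U4CheckD0
import Cfsg.Agent.Lib.Helper19.U4CheckD1
import Cfsg.Agent.Lib.Helper19.U4CheckD2
import Cfsg.Agent.Lib.Helper19.U4CheckD3
import Cfsg.Agent.Lib.Helper19.U4CheckE0
import Cfsg.Agent.Lib.Helper19.U4CheckE1

set_option autoImplicit false
set_option maxRecDepth 100000

namespace Cfsg.Agent.Lib.Helper19.U4Check

open Cfsg.Agent.Lib.Helper19.B2Enc Cfsg.Agent.Lib.Helper19.G2Enc Cfsg.Agent.Lib.Helper19.U4Enc
open Cfsg.Agent.Lib.Helper19.U4Data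

theorem closed (i r : ℕ) (hi : i < 51840) (hr : r < 2) :
    mulS (AE r) (Sc i) = Sc (Tt r i) ∧ mulU (BE r) (Uc i) = Uc (Tt r i) ∧ Tt r i < 51840 := by
  by_cases h0 : i < 6000
  · exact closedF0 i r (by omega) (by omega) hr
  by_cases h1 : i < 12000
  · exact closedF1 i r (by omega) (by omega) hr
  by_cases h2 : i < 18000
  · exact closedF2 i r (by omega) (by omega) hr
  by_cases h3 : i < 24000
  · exact closedF3 i r (by omega) (by omega) hr
  by_cases h4 : i < 30000
  · exact closedF4 i r (by omega) (by omega) hr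
  by_cases h5 : i < 36000
  · exact closedF5 i r (by omega) (by omega) hr
  by_cases h6 : i < 42000
  · exact closedF6 i r (by omega) (by omega) hr
  by_cases h7 : i < 48000
  · exact closedF7 i r (by omega) (by omega) hr
  exact closedF8 i r (by omega) (by omega) hr

theorem distinct (i : ℕ) (hi : i < 51840) :
    encS (decS (Sc i)) = Sc i ∧ STree.find (Sc i) = i ∧ encU (decU (Uc i)) = Uc i := by
  by_cases h0 : i < 13000
  · exact distF0 i (by omega) (by omega)
  by_cases h1 : i < 26000
  · exact distF1 i (by omega) (by omega)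
  by_cases h2 : i < 39000
  · exact distF2 i (by omega) (by omega)
  exact distF3 i (by omega) (by omega)

theorem bfs (i : ℕ) (h0 : 0 < i) (hi : i < 51840) : par i < i ∧ gk i < 2 ∧ Tt (gk i) (par i) = i := by
  by_cases h : i < 25920
  · exact bfsF0 i h0 (by omega) (by omega)
  · exact bfsF1 i h0 (by omega) (by omega)

theorem ker (i : ℕ) (hi : i < 51840) : Uc i = ONEU → (Sc i = ONES ∨ Sc i = NEGS) := by
  by_cases h : i < 25920
  · exact kerF0 i (by omega) (by omega)
  · exact kerF1 i (by omega) (by omega)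

theorem Sc_zero : Sc 0 = ONES := by decide +kernel

theorem Uc_zero : Uc 0 = ONEU := by decide +kernel

theorem neg_cert : iNeg < 51840 ∧ Sc iNeg = NEGS ∧ Uc iNeg = ONEU := by decide +kernel

theorem A_symp : ∀ r ∈ List.range 2,
    decS (AE r) * Matrix.J (Fin 2) (ZMod 3) * (decS (AE r)).transpose = Matrix.J (Fin 2) (ZMod 3) := by
  decide +kernel

theorem A0_pow : mulS (AE 0) (AE 0) = ONES := by decide +kernel

theorem A1_pow : mulS (AE 1) (mulS (AE 1) (mulS (AE 1) (mulS (AE 1) (AE 1)))) = ONES := by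
  decide +kernel

theorem B0_pow : mulU (BE 0) (BE 0) = ONEU := by decide +kernel

theorem B1_pow : mulU (BE 1) (mulU (BE 1) (mulU (BE 1) (mulU (BE 1) (BE 1)))) = ONEU := by
  decide +kernel

theorem B_det : ∀ r ∈ List.range 2, (decU (BE r)).det = 1 := by decide +kernel

theorem B_uni : ∀ r ∈ List.range 2,
    (decU (BE r)).transpose * (decU (BE r)).map (fun x => x ^ 2) = 1 := by decide +kernel

end Cfsg.Agent.Lib.Helper19.U4Check
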