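/-
Helper19 library: the graph of a homomorphism from `Sp₄(3)` (over `ZMod 3`) onto a subgroup of `SL₄` over the model
`F4` of the field with four elements, with kernel `±1`, obtained from the kernel-checked list of 51840 pairs.
-/
import Mathlib
import Cfsg.Agent.Lib.Helper19.U4CheckB
import Cfsg.Agent.Lib.Helper19.ListClosureP

set_option autoImplicit false

namespace Cfsg.Agent.Lib.Helper19.U4Graph

open Cfsg.Agent.Lib.Helper19.B2Enc Cfsg.Agent.Lib.Helper19.G2Enc Cfsg.Agent.Lib.Helper19.U4Enc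
open Cfsg.Agent.Lib.Helper19.U4Data Cfsg.Agent.Lib.Helper19.U4Check
open Cfsg.Agent.Lib.Helper19.ListClosureP

/-- the symplectic group over `ZMod 3`. -/
abbrev SpZ : Type := Matrix.symplecticGroup (Fin 2) (ZMod 3)

/-- `SL₄` over the model of the field with four elements. -/
abbrev SLF : Type := Matrix.SpecialLinearGroup (Fin 4) F4

/-- matrices over `ZMod 3`. -/
abbrev MS : Type := Matrix I4 I4 (ZMod 3)

/-- matrices over `F4`. -/
abbrev MU : Type := Matrix (Fin 4) (Fin 4) F4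

theorem A_mem (r : Fin 2) : decS (AE r.val) ∈ Matrix.symplecticGroup (Fin 2) (ZMod 3) := by
  rw [SymplecticGroup.mem_iff]
  exact A_symp r.val (List.mem_range.2 r.isLt)

/-- the generators of `Sp₄(3)`. -/
def AG (r : Fin 2) : SpZ := ⟨decS (AE r.val), A_mem r⟩

/-- their images. -/
def BG (r : Fin 2) : SLF := ⟨decU (BE r.val), B_det r.val (List.mem_range.2 r.isLt)⟩

/-- the generating pairs. -/
def GH (r : Fin 2) : SpZ × SLF := (AG r, BG r)

/-- the graph of the homomorphism. -/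
def Gam : Subgroup (SpZ × SLF) := Subgroup.closure (Set.range GH)

/-- the matrices of a pair. -/
def code (p : SpZ × SLF) : MS × MU := ((p.1 : MS), (p.2 : MU))

/-- the `i`-th pair of matrices. -/
def elt (i : ℕ) : MS × MU := (decS (Sc i), decU (Uc i))

theorem code_injective : Function.Injective code := by
  intro p q h
  exact Prod.ext (Subtype.ext (congrArg Prod.fst h)) (Subtype.ext (congrArg Prod.snd h))

theorem AG0_sq : AG 0 * AG 0 = 1 := by
  apply Subtype.ext
  show decS (AE 0) * decS (AE 0) = 1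
  rw [← decS_mul, A0_pow, decS_one]

theorem BG0_sq : BG 0 * BG 0 = 1 := by
  apply Subtype.ext
  show decU (BE 0) * decU (BE 0) = 1
  rw [← decU_mul, B0_pow, decU_one]

theorem AG1_pow : AG 1 * (AG 1 * (AG 1 * (AG 1 * AG 1))) = 1 := by
  apply Subtype.ext
  show decS (AE 1) * (decS (AE 1) * (decS (AE 1) * (decS (AE 1) * decS (AE 1)))) = 1
  rw [← decS_mul, ← decS_mul, ← decS_mul, ← decS_mul, A1_pow, decS_one]

theorem BG1_pow : BG 1 * (BG 1 * (BG 1 * (BG 1 * BG 1))) = 1 := by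
  apply Subtype.ext
  show decU (BE 1) * (decU (BE 1) * (decU (BE 1) * (decU (BE 1) * decU (BE 1)))) = 1
  rw [← decU_mul, ← decU_mul, ← decU_mul, ← decU_mul, B1_pow, decU_one]

theorem GH_fin (r : Fin 2) : ∃ k : ℕ, GH r ^ (k + 1) = 1 := by
  fin_cases r
  · refine ⟨1, ?_⟩
    show GH 0 ^ 2 = 1
    rw [pow_two]
    exact Prod.ext AG0_sq BG0_sq
  · refine ⟨4, ?_⟩
    show GH 1 ^ 5 = 1
    have : GH 1 ^ 5 = GH 1 * (GH 1 * (GH 1 * (GH 1 * GH 1))) := by
      simp only [pow_succ, pow_zero, one_mul, mul_assoc]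
    rw [this]
    exact Prod.ext AG1_pow BG1_pow

theorem certG : CertP code GH elt 51840 (fun r i => Tt r.val i) par (fun i => Fin.ofNat 2 (gk i)) where
  pos := by norm_num
  one := by
    show ((1 : MS), (1 : MU)) = (decS (Sc 0), decU (Uc 0))
    rw [Sc_zero, Uc_zero, decS_one, decU_one]
  fin := GH_fin
  closed := by
    intro r i hi g hg
    obtain ⟨c1, c2, c3⟩ := closed i r.val hi r.isLt
    refine ⟨?_, c3⟩
    have h1 : ((g.1 : SpZ) : MS) = decS (Sc i) := congrArg Prod.fst hg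
    have h2 : ((g.2 : SLF) : MU) = decU (Uc i) := congrArg Prod.snd hg
    refine Prod.ext ?_ ?_
    · show ((AG r * g.1 : SpZ) : MS) = _
      rw [Submonoid.coe_mul, h1]
      show decS (AE r.val) * decS (Sc i) = decS (Sc (Tt r.val i))
      rw [← decS_mul, c1]
    · show ((BG r * g.2 : SLF) : MU) = _
      rw [Matrix.SpecialLinearGroup.coe_mul, h2]
      show decU (BE r.val) * decU (Uc i) = decU (Uc (Tt r.val i))
      rw [← decU_mul, c2]
  bfs := by
    intro i h0 hi
    obtain ⟨b1, b2, b3⟩ := bfs i h0 hi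
    refine ⟨b1, ?_⟩
    show Tt (gk i % 2) (par i) = i
    rw [Nat.mod_eq_of_lt b2, b3]

theorem decS_inj {i j : ℕ} (hi : i < 51840) (hj : j < 51840) (h : decS (Sc i) = decS (Sc j)) :
    i = j := by
  obtain ⟨a1, a2, _⟩ := distinct i hi
  obtain ⟨b1, b2, _⟩ := distinct j hj
  rw [← a2, ← b2, ← a1, ← b1, h]

theorem elt_inj (i j : ℕ) (hi : i < 51840) (hj : j < 51840) (h : elt i = elt j) : i = j :=
  decS_inj hi hj (congrArg Prod.fst h)

theorem card_Gam : Nat.card Gam = 51840 := certG.card_eq code_injective elt_inj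

theorem mem_Gam_index {p : SpZ × SLF} (hp : p ∈ Gam) :
    ∃ i, i < 51840 ∧ ((p.1 : SpZ) : MS) = decS (Sc i) ∧ ((p.2 : SLF) : MU) = decU (Uc i) := by
  obtain ⟨i, hi, hc⟩ := certG.exists_index hp
  exact ⟨i, hi, congrArg Prod.fst hc, congrArg Prod.snd hc⟩

theorem snd_eq_one {p : SpZ × SLF} (hp : p ∈ Gam) (h : p.1 = 1) : p.2 = 1 := by
  obtain ⟨i, hi, h1, h2⟩ := mem_Gam_index hp
  have h3 : i = 0 := by
    apply decS_inj hi (by norm_num)
    rw [← h1, h, Sc_zero, decS_one]
    rfl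
  apply Subtype.ext
  rw [h2, h3, Uc_zero, decU_one]
  rfl

theorem fst_of_snd_eq_one {p : SpZ × SLF} (hp : p ∈ Gam) (h : p.2 = 1) :
    ((p.1 : SpZ) : MS) = 1 ∨ ((p.1 : SpZ) : MS) = -1 := by
  obtain ⟨i, hi, h1, h2⟩ := mem_Gam_index hp
  have h3 : Uc i = ONEU := by
    obtain ⟨_, _, a3⟩ := distinct i hi
    have h4 : decU (Uc i) = decU ONEU := by
      rw [← h2, h, decU_one]
      rfl
    have h5 : encU (decU ONEU) = ONEU := by decide +kernel
    rw [← a3, h4, h5]
  rcases ker i hi h3 with h6 | h6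
  · left; rw [h1, h6, decS_one]
  · right; rw [h1, h6, decS_neg]

theorem exists_neg : ∃ p : SpZ × SLF, p ∈ Gam ∧ ((p.1 : SpZ) : MS) = -1 ∧ p.2 = 1 := by
  obtain ⟨n1, n2, n3⟩ := neg_cert
  obtain ⟨p, hp, hc⟩ := certG.exists_mem iNeg n1
  refine ⟨p, hp, ?_, ?_⟩
  · have : ((p.1 : SpZ) : MS) = decS (Sc iNeg) := congrArg Prod.fst hc
    rw [this, n2, decS_neg]
  · have : ((p.2 : SLF) : MU) = decU (Uc iNeg) := congrArg Prod.snd hc
    apply Subtype.ext
    rw [this, n3, decU_one]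
    rfl

/-- first projection. -/
def f1 : Gam →* SpZ := (MonoidHom.fst SpZ SLF).comp Gam.subtype

/-- second projection. -/
def f2 : Gam →* SLF := (MonoidHom.snd SpZ SLF).comp Gam.subtype

theorem f1_inj : Function.Injective f1 := by
  rw [injective_iff_map_eq_one]
  intro x hx
  apply Subtype.ext
  exact Prod.ext hx (snd_eq_one x.2 hx)

end Cfsg.Agent.Lib.Helper19.U4Graph
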