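/-
Helper19 library: `PSU₄(2) ≅ PSp₄(3)`, from the kernel-checked graph of a homomorphism of `Sp₄(3)` onto `SU₄(2)` with
kernel `±1`.
-/
import Mathlib
import Cfsg.Agent.Lib.Helper19.U4Graph
import Cfsg.Agent.Lib.Helper14.SympCount
import Cfsg.Agent.Lib.Helper14.Unitary3
import Cfsg.Agent.S0246

set_option autoImplicit false

namespace Cfsg.Agent.Lib.Helper19.U4Iso

open Cfsg.Agent.Lib.Helper19.U4Enc Cfsg.Agent.Lib.Helper19.U4Data Cfsg.Agent.Lib.Helper19.U4Check
open Cfsg.Agent.Lib.Helper19.U4Graph Cfsg.Agent.Lib.Helper14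

variable {F K : Type*} [Field F] [Fintype F] [Field K] [Fintype K]

/-- the symplectic group over `K`. -/
abbrev SpK (K : Type*) [Field K] : Type _ := Matrix.symplecticGroup (Fin 2) K

/-- the embedding of `ZMod 3`. -/
noncomputable def gK (hK : Fintype.card K = 3) : ZMod 3 ≃+* K :=
  ZMod.ringEquivOfPrime K Nat.prime_three hK

/-- the isomorphism from the model of the field with four elements. -/
noncomputable def gF (hF : Fintype.card F = 4) : F4 ≃+* F :=
  FiniteField.ringEquivOfCardEq (by rw [card_F4, hF])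

/-- the entrywise map between the symplectic groups. -/
noncomputable def chi (hK : Fintype.card K = 3) : SpZ →* SpK K :=
  MonoidHom.codRestrict
    ((RingHom.mapMatrix (gK hK).toRingHom).toMonoidHom.comp
      (Matrix.symplecticGroup (Fin 2) (ZMod 3)).subtype)
    (Matrix.symplecticGroup (Fin 2) K) (fun s => SymplecticGroup.map_mem s.2 (gK hK).toRingHom)

theorem chi_val (hK : Fintype.card K = 3) (s : SpZ) :
    ((chi hK s : SpK K) : Matrix I4 I4 K) = (s : MS).map (gK hK) := rfl

theorem chi_injective (hK : Fintype.card K = 3) : Function.Injective (chi hK) := by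
  intro s t h
  apply Subtype.ext
  have h1 : (s : MS).map (gK hK) = (t : MS).map (gK hK) := by
    rw [← chi_val, ← chi_val, h]
  ext i j
  have h2 := congrFun (congrFun h1 i) j
  simp only [Matrix.map_apply] at h2
  exact (gK hK).injective h2

/-- the map from the graph to the symplectic group over `K`. -/
noncomputable def Xi (hK : Fintype.card K = 3) : Gam →* SpK K := (chi hK).comp f1

theorem card_SpK (hK : Fintype.card K = 3) : Nat.card (SpK K) = 51840 := by
  rw [card_symplectic (F := K) 2, hK]
  norm_num [Finset.prod_range_succ]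

theorem Xi_bijective (hK : Fintype.card K = 3) : Function.Bijective (Xi hK) := by
  have : Finite (SpK K) := Nat.finite_of_card_ne_zero (by rw [card_SpK hK]; norm_num)
  apply Function.Injective.bijective_of_nat_card_le
  · exact (chi_injective hK).comp f1_inj
  · rw [card_SpK hK, card_Gam]

theorem hF' (hF : Fintype.card F = 4) : Fintype.card F = 2 ^ 2 := by rw [hF]; norm_num

theorem isUni_of_mul_eq_one (hF : Fintype.card F = 4) (M : Matrix (Fin 4) (Fin 4) F)
    (h : M.transpose * M.map (fun x => x ^ 2) = 1) : IsUni F 2 4 M := by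
  classical
  intro u v
  refine hermForm_mulVec_of_orthoN (hF' hF) M ?_ u v
  intro j l
  have h1 := congrFun (congrFun h j) l
  rw [Matrix.mul_apply, Matrix.one_apply] at h1
  unfold Cfsg.hermForm
  simpa using h1

theorem map_uni (hF : Fintype.card F = 4) (c : MU)
    (hc : c.transpose * c.map (fun x => x ^ 2) = 1) :
    (c.map (gF hF)).transpose * (c.map (gF hF)).map (fun x => x ^ 2) = 1 := by
  have h := congrArg (fun X : MU => X.map (gF hF)) hc
  simp only [Matrix.map_mul, Matrix.transpose_map] at h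
  have e : ((c.map fun x => x ^ 2).map (gF hF)) = (c.map (gF hF)).map (fun x => x ^ 2) := by
    ext i j
    simp [Matrix.map_apply]
  rw [e] at h
  rw [h]
  ext i j
  simp [Matrix.map_apply, Matrix.one_apply]

/-- the entrywise map of `SL₄`. -/
noncomputable def mu (hF : Fintype.card F = 4) : SLF →* Matrix.SpecialLinearGroup (Fin 4) F :=
  Matrix.SpecialLinearGroup.map (gF hF).toRingHom

theorem mu_injective (hF : Fintype.card F = 4) : Function.Injective (mu hF) := by
  intro A B h
  apply Subtype.ext
  refine Matrix.ext fun i j => ?_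
  have h1 := congrArg
    (fun X : Matrix.SpecialLinearGroup (Fin 4) F => (X : Matrix (Fin 4) (Fin 4) F) i j) h
  simp only [mu, Matrix.SpecialLinearGroup.map_apply_coe, RingHom.mapMatrix_apply,
    Matrix.map_apply] at h1
  exact (gF hF).injective h1

theorem mu_mem_SU (hF : Fintype.card F = 4) (p : SpZ × SLF) (hp : p ∈ Gam) :
    mu hF p.2 ∈ Cfsg.SU 4 F 2 := by
  have hle : Gam ≤ (Cfsg.SU 4 F 2).comap ((mu hF).comp (MonoidHom.snd SpZ SLF)) := by
    apply (Subgroup.closure_le _).mpr
    rintro _ ⟨r, rfl⟩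
    exact (mem_SU_iff _).mpr (isUni_of_mul_eq_one hF _
      (map_uni hF (decU (BE r.val)) (B_uni r.val (List.mem_range.2 r.isLt))))
  exact hle hp

/-- the map from the graph to the special unitary group over `F`. -/
noncomputable def Theta (hF : Fintype.card F = 4) : Gam →* Cfsg.SU 4 F 2 :=
  ((mu hF).comp f2).codRestrict (Cfsg.SU 4 F 2) (fun x => mu_mem_SU hF x.1 x.2)

theorem Theta_eq_one (hF : Fintype.card F = 4) (x : Gam) : Theta hF x = 1 ↔ x.1.2 = 1 := by
  constructor
  · intro h
    have h1 : mu hF x.1.2 = 1 := congrArg Subtype.val h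
    exact mu_injective hF (h1.trans (map_one (mu hF)).symm)
  · intro h
    apply Subtype.ext
    show mu hF x.1.2 = 1
    rw [h, map_one]

/-- the isomorphism from the graph onto the symplectic group over `K`. -/
noncomputable def XiE (hK : Fintype.card K = 3) : Gam ≃* SpK K :=
  MulEquiv.ofBijective (Xi hK) (Xi_bijective hK)

/-- the homomorphism from `Sp₄(K)` to `SU₄(F)`. -/
noncomputable def Phi (hF : Fintype.card F = 4) (hK : Fintype.card K = 3) : SpK K →* Cfsg.SU 4 F 2 :=
  (Theta hF).comp (XiE hK).symm.toMonoidHom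

theorem map_one_neg (hK : Fintype.card K = 3) :
    ((1 : MS).map (gK hK) = 1) ∧ ((-1 : MS).map (gK hK) = -1) := by
  constructor
  · ext i j
    simp [Matrix.map_apply, Matrix.one_apply]
  · ext i j
    simp [Matrix.map_apply, Matrix.one_apply]

theorem central_of_val (s : SpK K)
    (h : (s : Matrix I4 I4 K) = 1 ∨ (s : Matrix I4 I4 K) = -1) :
    s ∈ Subgroup.center (SpK K) := by
  rw [Subgroup.mem_center_iff]
  intro t
  apply Subtype.ext
  show (t : Matrix I4 I4 K) * (s : Matrix I4 I4 K) = (s : Matrix I4 I4 K) * (t : Matrix I4 I4 K)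
  rcases h with h | h <;> rw [h] <;> simp

theorem ker_Phi (hF : Fintype.card F = 4) (hK : Fintype.card K = 3) :
    (Phi hF hK).ker = Subgroup.center (SpK K) := by
  ext s
  rw [MonoidHom.mem_ker]
  constructor
  · intro h
    set x : Gam := (XiE hK).symm s with hx
    have h1 : Theta hF x = 1 := h
    have h2 : x.1.2 = 1 := (Theta_eq_one hF x).mp h1
    have h3 := fst_of_snd_eq_one x.2 h2
    have h4 : s = chi hK x.1.1 := by
      have : (XiE hK) x = s := (XiE hK).apply_symm_apply s
      rw [← this]
      rfl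
    apply central_of_val
    rw [h4, chi_val]
    rcases h3 with h3 | h3
    · left; rw [h3]; exact (map_one_neg hK).1
    · right; rw [h3]; exact (map_one_neg hK).2
  · intro h
    rcases Cfsg.Agent.S0246.center_scalar 2 (by norm_num) s h with h1 | h1
    · have : s = 1 := Subtype.ext h1
      rw [this, map_one]
    · obtain ⟨p, hp, hp1, hp2⟩ := exists_neg
      have h2 : s = (XiE hK) ⟨p, hp⟩ := by
        apply Subtype.ext
        show (s : Matrix I4 I4 K) = ((chi hK p.1 : SpK K) : Matrix I4 I4 K)
        rw [chi_val, hp1, h1]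
        exact (map_one_neg hK).2.symm
      show Theta hF ((XiE hK).symm s) = 1
      rw [h2, MulEquiv.symm_apply_apply]
      exact (Theta_eq_one hF _).mpr hp2

theorem card_SU (hF : Fintype.card F = 4) : Nat.card (Cfsg.SU 4 F 2) = 25920 := by
  classical
  have h1 := card_SU_mul (hF' hF) 4 (by norm_num)
  rw [card_GU (hF' hF) 4] at h1
  have h2 : (2 ^ (4 * (4 - 1) / 2) * ∏ i ∈ Finset.range 4,
      (if Even i then 2 ^ (i + 1) + 1 else 2 ^ (i + 1) - 1) : ℕ) = 77760 := by
    simp only [Finset.prod_range_succ, Finset.prod_range_zero]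
    norm_num [Nat.even_add_one]
  rw [h2] at h1
  omega

theorem Phi_surjective (hF : Fintype.card F = 4) (hK : Fintype.card K = 3) :
    Function.Surjective (Phi hF hK) := by
  classical
  have : Finite (SpK K) := Nat.finite_of_card_ne_zero (by rw [card_SpK hK]; norm_num)
  have : Finite (Cfsg.SU 4 F 2) := Nat.finite_of_card_ne_zero (by rw [card_SU hF]; norm_num)
  rw [← MonoidHom.range_eq_top, ← Subgroup.card_eq_iff_eq_top, card_SU hF]
  have h1 := Subgroup.card_mul_index (Phi hF hK).ker
  rw [Subgroup.index_ker, ker_Phi hF hK, Cfsg.Agent.S0246.result hK 2 (by norm_num),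
    card_SpK hK] at h1
  have h5 : Nat.gcd 2 (3 - 1) = 2 := by norm_num
  rw [h5] at h1
  omega

theorem center_SU (hF : Fintype.card F = 4) : Subgroup.center (Cfsg.SU 4 F 2) = ⊥ := by
  classical
  rw [← Subgroup.card_eq_one, card_center_SU (hF' hF) 4 (by norm_num)]
  norm_num

theorem nonempty_iso (hF : Fintype.card F = 4) (hK : Fintype.card K = 3) :
    Nonempty (Cfsg.PSU 4 F 2 ≃* Cfsg.PSp 2 K) := by
  have e1 : SpK K ⧸ (Phi hF hK).ker ≃* Cfsg.SU 4 F 2 :=
    QuotientGroup.quotientKerEquivOfSurjective (Phi hF hK) (Phi_surjective hF hK)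
  have e2 : SpK K ⧸ (Phi hF hK).ker ≃* Cfsg.PSp 2 K :=
    QuotientGroup.quotientMulEquivOfEq (ker_Phi hF hK)
  have e3 : Cfsg.PSU 4 F 2 ≃* Cfsg.SU 4 F 2 :=
    (QuotientGroup.quotientMulEquivOfEq (center_SU hF)).trans QuotientGroup.quotientBot
  exact ⟨(e3.trans e1.symm).trans e2⟩

end Cfsg.Agent.Lib.Helper19.U4Iso
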