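import Mathlib
import Cfsg.Agent.Lib.Helper15.AschUCtx
import Cfsg.Agent.Lib.Helper18.AschA89Defs
import Cfsg.Agent.Lib.Helper17.UAE3Defs
import Cfsg.Agent.Lib.Helper24.AschUNIL
import Cfsg.Agent.Lib.Helper17.UAE3W
import Cfsg.Agent.Lib.Helper19.UAE3R3Core
import Cfsg.Agent.Lib.Helper23.UAE3R1

/-!
S5663 SUB-BLOCK E3 (sub-planner helper17), packet E3-R3 (helper19): the EXACT leaves R3a `pow_three_Rstd` and
R3c `cyclic_of_char_Rstd` (signatures of `notes/S5663_E3_leaves.lean`), wired from the cores of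
`Cfsg.Agent.Lib.Helper19.UAE3R3Core` on helper23's E3-R1 and helper9's E3-R2.  (R3b `slotFo_conj` is in `UAE3R3Core`.)
-/

set_option autoImplicit false
set_option linter.unusedSectionVars false
set_option linter.unusedVariables false

namespace Cfsg.Agent.Lib.Helper19.UAE3Leaf
open Matrix Cfsg Cfsg.Geo Cfsg.Agent.Lib.Helper20.Asch
open Cfsg.Agent.Lib.Helper15.AschU Cfsg.Agent.Lib.Helper15.AschForm Cfsg.Agent.Lib.Helper18.AschA89
open Cfsg.Agent.Lib.Helper17.E3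

variable {F : Type*} [Field F] [Fintype F]

/-- R3a: every element has order dividing 3 -/
theorem pow_three_Rstd (hF : Fintype.card F = 2 ^ 2) {ω : F} (hω : ω ^ 2 + ω + 1 = 0) {t : ℕ} (ht : 1 ≤ t)
    (g : Rstd ω t) : g ^ 3 = 1 :=
  pow_three_Rstd_core (fun g hg => (Cfsg.Agent.Lib.Helper23.UAE3Leaf.mem_Rstd_iff hF hω ht g).mp hg) (Cfsg.Agent.Lib.Helper23.UAE3Leaf.T_mul hω) (Cfsg.Agent.Lib.Helper23.UAE3Leaf.T_one ω) g

end Cfsg.Agent.Lib.Helper19.UAE3Leaf
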