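import Mathlib
import Cfsg.Agent.Lib.Helper19.DerInv
import Cfsg.Agent.Lib.Helper19.MinNormalPower
import Cfsg.Agent.Lib.Helper19.PrimSocle
import Cfsg.Agent.Lib.Helper5.FrobCount

set_option autoImplicit false
set_option linter.unusedSectionVars false
set_option linter.style.haveILetI false

namespace Cfsg.Agent.Lib.Helper19.UniqueDer

open MulAction Finset
open Cfsg.Agent.Lib.Helper19.DerInv
open Cfsg.Agent.Lib.Helper19

/-- Jordan: a finite transitive group on at least two points has a derangement. -/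
theorem exists_derangement {T S : Type*} [Group T] [MulAction T S] [Finite T] [Finite S]
    [IsPretransitive T S] (h : 2 ≤ Nat.card S) : ∃ t : T, ∀ s : S, t • s ≠ s := by
  classical
  haveI := Fintype.ofFinite T
  haveI := Fintype.ofFinite S
  haveI : Nonempty S := by
    rw [← Finite.card_pos_iff]; omega
  by_contra hcon
  push Not at hcon
  have hsum := sum_card_Fix (G := T) (Ω := S)
  have h1 : ∀ t : T, 1 ≤ (Fix (Ω := S) t).card := by
    intro t
    obtain ⟨s, hs⟩ := hcon t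
    exact Finset.card_pos.2 ⟨s, mem_Fix.2 hs⟩
  have h2 : 2 ≤ (Fix (Ω := S) (1 : T)).card := by
    have : Fix (Ω := S) (1 : T) = Finset.univ := by
      ext s; simp [mem_Fix]
    rw [this, Finset.card_univ, ← Nat.card_eq_fintype_card]; exact h
  have hlt : ∑ _t : T, 1 < ∑ t : T, (Fix (Ω := S) t).card := by
    apply Finset.sum_lt_sum
    · intro t _; exact h1 t
    · exact ⟨1, Finset.mem_univ _, by omega⟩
  rw [hsum] at hlt
  simp at hlt

/-- Coset averaging: if `N` is transitive and every element of the coset `g N` has a fixed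
point, then every element of `g N` has exactly one fixed point. -/
theorem card_Fix_coset_eq_one {G Ω : Type*} [Group G] [MulAction G Ω] [Fintype G] [Fintype Ω]
    [DecidableEq Ω] [DecidableEq G] (N : Subgroup G) [IsPretransitive N Ω] (g : G)
    (h : ∀ x ∈ N, ∃ ω : Ω, (g * x) • ω = ω) :
    ∀ x ∈ N, (Fix (Ω := Ω) (g * x)).card = 1 := by
  classical
  rcases isEmpty_or_nonempty Ω with hΩ | hΩ
  · intro x hx
    obtain ⟨ω, _⟩ := h x hx
    exact (hΩ.false ω).elim
  -- choice of movers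
  have hmov : ∀ ω : Ω, ∃ x : N, (x : G) • ω = g⁻¹ • ω := fun ω => by
    obtain ⟨x, hx⟩ := exists_smul_eq N ω (g⁻¹ • ω)
    exact ⟨x, hx⟩
  choose mv hmv using hmov
  let P : Finset (Σ _ : N, Ω) := univ.sigma (fun x : N => Fix (Ω := Ω) (g * (x : G)))
  let Q : Finset (Σ _ : N, Ω) := univ.sigma (fun y : N => Fix (Ω := Ω) y)
  have hP : P.card = ∑ x : N, (Fix (Ω := Ω) (g * (x : G))).card := by
    simp [P, Finset.card_sigma]
  have hQ : Q.card = Fintype.card N := by
    have := sum_card_Fix (G := N) (Ω := Ω)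
    simp only [Q, Finset.card_sigma]
    rw [← this]
  have hPQ : P.card = Q.card := by
    apply Finset.card_bij (fun (p : Σ _ : N, Ω) _ => (⟨(mv p.2)⁻¹ * p.1, p.2⟩ : Σ _ : N, Ω))
    · rintro ⟨x, ω⟩ hp
      simp only [P, Finset.mem_sigma, Finset.mem_univ, true_and, mem_Fix] at hp
      simp only [Q, Finset.mem_sigma, Finset.mem_univ, true_and, mem_Fix]
      show ((mv ω)⁻¹ * x : N) • ω = ω
      rw [mul_smul]
      have h1 : (x : G) • ω = g⁻¹ • ω := by
        rw [mul_smul] at hp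
        rw [← hp, inv_smul_smul, hp]
      have h2 : x • ω = (mv ω) • ω := by
        show (x : G) • ω = ((mv ω : N) : G) • ω
        rw [h1, hmv]
      rw [h2, inv_smul_smul]
    · rintro ⟨x, ω⟩ _ ⟨x', ω'⟩ _ heq
      simp only [Sigma.mk.injEq, heq_eq_eq] at heq
      obtain ⟨h1, h2⟩ := heq
      subst h2
      rw [mul_left_cancel h1]
    · rintro ⟨y, ω⟩ hq
      simp only [Q, Finset.mem_sigma, Finset.mem_univ, true_and, mem_Fix] at hq
      refine ⟨⟨mv ω * y, ω⟩, ?_, ?_⟩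
      · simp only [P, Finset.mem_sigma, Finset.mem_univ, true_and, mem_Fix]
        show (g * ((mv ω * y : N) : G)) • ω = ω
        rw [Subgroup.coe_mul, mul_smul, mul_smul]
        have : (y : G) • ω = ω := hq
        rw [this, hmv, smul_inv_smul]
      · simp
  have hsum : ∑ x : N, (Fix (Ω := Ω) (g * (x : G))).card = ∑ _x : N, 1 := by
    rw [← hP, hPQ, hQ]; simp
  have hge : ∀ x : N, 1 ≤ (Fix (Ω := Ω) (g * (x : G))).card := by
    intro x
    obtain ⟨ω, hω⟩ := h x x.2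
    exact Finset.card_pos.2 ⟨ω, mem_Fix.2 hω⟩
  intro x hx
  by_contra hne
  have hlt : ∑ _x : N, 1 < ∑ x : N, (Fix (Ω := Ω) (g * (x : G))).card := by
    apply Finset.sum_lt_sum
    · intro y _; exact hge y
    · refine ⟨⟨x, hx⟩, Finset.mem_univ _, ?_⟩
      have := hge ⟨x, hx⟩
      simp only at this ⊢
      omega
  rw [hsum] at hlt
  exact lt_irrefl _ hlt

section commuting

variable {G Ω : Type*} [Group G] [MulAction G Ω] [Finite G] [Finite Ω]

/-- `T` contains a derangement, when `T C` is transitive, `C` centralizes `T` and `T ≠ 1`. -/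
theorem exists_derangement_of_commuting [FaithfulSMul G Ω]
    (T C : Subgroup G) (hcomm : ∀ t ∈ T, ∀ c ∈ C, t * c = c * t)
    (htr : ∀ ω ω' : Ω, ∃ t ∈ T, ∃ c ∈ C, (t * c) • ω = ω') (hT : T ≠ ⊥) :
    ∃ t ∈ T, ∀ ω : Ω, t • ω ≠ ω := by
  classical
  obtain ⟨t₀, ht₀T, ht₀⟩ : ∃ t₀ : G, t₀ ∈ T ∧ t₀ ≠ 1 := by
    by_contra hcon
    push Not at hcon
    exact hT ((Subgroup.eq_bot_iff_forall _).2 hcon)
  obtain ⟨ω₀, hω₀⟩ : ∃ ω₀ : Ω, t₀ • ω₀ ≠ ω₀ := by
    by_contra hcon
    push Not at hcon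
    exact ht₀ (FaithfulSMul.eq_of_smul_eq_smul (α := Ω) (fun ω => by rw [hcon, one_smul]))
  have h2 : 2 ≤ Nat.card (orbit T ω₀) := by
    have hnt : Nontrivial (orbit T ω₀) :=
      ⟨⟨⟨ω₀, mem_orbit_self ω₀⟩, ⟨t₀ • ω₀, ⟨⟨t₀, ht₀T⟩, rfl⟩⟩, fun e => hω₀ (congrArg Subtype.val e).symm⟩⟩
    have := (Finite.one_lt_card_iff_nontrivial).2 hnt
    omega
  obtain ⟨t, ht⟩ := exists_derangement (T := T) (S := orbit T ω₀) h2
  refine ⟨t, t.2, fun ω hω => ?_⟩
  obtain ⟨t', ht', c, hc, hω'⟩ := htr ω₀ ω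
  have e1 : ω = c • (t' • ω₀) := by
    rw [← hω', hcomm t' ht' c hc, mul_smul]
  have e2 : (t : G) • (t' • ω₀) = t' • ω₀ := by
    have h1 : (t : G) • (c • (t' • ω₀)) = c • (t' • ω₀) := by rw [← e1]; exact hω
    rw [← mul_smul, hcomm t t.2 c hc, mul_smul] at h1
    exact smul_left_cancel c h1
  apply ht ⟨t' • ω₀, ⟨⟨t', ht'⟩, rfl⟩⟩
  apply Subtype.ext
  exact e2

open Pointwise in
/-- `T` is transitive, when `T C` is transitive, `C` centralizes `T` and every element of `C`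
fixes some `T`-orbit. -/
theorem transitive_of_commuting
    (T C : Subgroup G) (hcomm : ∀ t ∈ T, ∀ c ∈ C, t * c = c * t)
    (htr : ∀ ω ω' : Ω, ∃ t ∈ T, ∃ c ∈ C, (t * c) • ω = ω')
    (hfix : ∀ c ∈ C, ∃ ω : Ω, ∃ t ∈ T, c • ω = t • ω) :
    ∀ ω ω' : Ω, ∃ t ∈ T, t • ω = ω' := by
  classical
  intro ω₀ ω'
  -- orbits
  let orb : Ω → Set Ω := fun ω => orbit T ω
  have hmem : ∀ ω x : Ω, x ∈ orb ω ↔ ∃ t ∈ T, t • ω = x := by
    intro ω x
    constructor
    · rintro ⟨t, rfl⟩; exact ⟨t, t.2, rfl⟩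
    · rintro ⟨t, ht, rfl⟩; exact ⟨⟨t, ht⟩, rfl⟩
  have horb_smul : ∀ t ∈ T, ∀ ω, orb (t • ω) = orb ω := by
    intro t ht ω
    exact orbit_smul (⟨t, ht⟩ : T) ω
  have hc_orb : ∀ (c : C) (ω : Ω), c • orb ω = orb ((c : G) • ω) := by
    intro c ω
    ext x
    rw [hmem]
    constructor
    · rintro ⟨y, hy, rfl⟩
      obtain ⟨t, ht, rfl⟩ := (hmem ω y).1 hy
      refine ⟨t, ht, ?_⟩
      show t • (c : G) • ω = (c : G) • t • ω
      rw [← mul_smul, hcomm t ht c c.2, mul_smul]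
    · rintro ⟨t, ht, rfl⟩
      refine ⟨t • ω, (hmem ω _).2 ⟨t, ht, rfl⟩, ?_⟩
      show (c : G) • t • ω = t • (c : G) • ω
      rw [← mul_smul, ← hcomm t ht c c.2, mul_smul]
  let O₀ : Set Ω := orb ω₀
  -- every element of C fixes a point of the C-orbit of O₀
  have hfix' : ∀ c : C, ∃ s : orbit C O₀, c • s = s := by
    intro c
    obtain ⟨ω, t, ht, hω⟩ := hfix c c.2
    obtain ⟨t', ht', c', hc', hω'⟩ := htr ω₀ ω
    have e1 : orb ω = (⟨c', hc'⟩ : C) • O₀ := by
      rw [hc_orb ⟨c', hc'⟩ ω₀, ← hω', hcomm t' ht' c' hc', mul_smul]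
      show orb (c' • t' • ω₀) = orb (c' • ω₀)
      rw [← hc_orb ⟨c', hc'⟩ (t' • ω₀), ← hc_orb ⟨c', hc'⟩ ω₀, horb_smul t' ht']
    refine ⟨⟨orb ω, ?_⟩, ?_⟩
    · rw [e1]; exact ⟨⟨c', hc'⟩, rfl⟩
    · apply Subtype.ext
      show c • orb ω = orb ω
      rw [hc_orb c ω, hω, horb_smul t ht]
  have hcard : Nat.card (orbit C O₀) ≤ 1 := by
    by_contra hgt
    obtain ⟨c, hc⟩ := exists_derangement (T := C) (S := orbit C O₀) (by omega)
    obtain ⟨s, hs⟩ := hfix' c
    exact hc s hs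
  have hsub : Subsingleton (orbit C O₀) := (Finite.card_le_one_iff_subsingleton).1 hcard
  have hCfix : ∀ c : C, c • O₀ = O₀ := by
    intro c
    have := hsub.elim (⟨c • O₀, ⟨c, rfl⟩⟩ : orbit C O₀) ⟨O₀, mem_orbit_self _⟩
    exact congrArg Subtype.val this
  obtain ⟨t, ht, c, hc, hω⟩ := htr ω₀ ω'
  have h1 : c • ω₀ ∈ O₀ := by
    have := hCfix ⟨c, hc⟩
    rw [hc_orb ⟨c, hc⟩] at this
    rw [← this]
    exact (hmem _ _).2 ⟨1, T.one_mem, one_smul _ _⟩
  obtain ⟨t'', ht'', e⟩ := (hmem ω₀ _).1 h1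
  refine ⟨t * t'', T.mul_mem ht ht'', ?_⟩
  rw [mul_smul, e, ← mul_smul, hω]

end commuting

section caseB

variable {G Ω : Type*} [Group G] [MulAction G Ω] [Finite G] [Finite Ω] [FaithfulSMul G Ω]

theorem caseB [Nonempty Ω] (N : Subgroup G) [N.Normal]
    (hmin : ∀ M : Subgroup G, M.Normal → M ≤ N → M = ⊥ ∨ M = N)
    (hNtr : ∀ ω ω' : Ω, ∃ n ∈ N, n • ω = ω')
    (x₀ : G) (hD : ∀ y : G, (∀ ω : Ω, y • ω ≠ ω) → ∃ g : G, y = g * x₀ * g⁻¹)
    (hnonab : ¬ ∀ a ∈ N, ∀ b ∈ N, a * b = b * a)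
    (T : Subgroup G) (hT : Minimal (NInv N) T) (hTN : T ≠ N) : False := by
  classical
  have hTleN : T ≤ N := hT.1.1
  have hTne : T ≠ ⊥ := hT.1.2.1
  have hTinv : Inv N T := hT.1.2.2
  set C : Subgroup G := Subgroup.centralizer (T : Set G) ⊓ N with hC
  have hcomm : ∀ t ∈ T, ∀ c ∈ C, t * c = c * t := by
    intro t ht c hc
    exact (Subgroup.mem_centralizer_iff.1 hc.1 t ht)
  -- B1
  have hB1 : ∀ g : G, cj g T = T ∨ cj g T ≤ C := by
    intro g
    have hK := minimal_ninv_cj hT g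
    rcases minimal_ninv_le_or_disjoint hK hTinv with h | h
    · left
      exact le_antisymm h (hT.2 hK.1 h)
    · right
      have hc := commute_of_inv_disjoint hK.1.2.2 hTinv hK.1.1 hTleN h
      intro u hu
      refine Subgroup.mem_inf.2 ⟨?_, hK.1.1 hu⟩
      rw [Subgroup.mem_centralizer_iff]
      intro w hw
      exact ((hc u hu w hw).eq).symm
  -- B2
  have hB2 : ∀ n ∈ N, ∃ t ∈ T, ∃ c ∈ C, n = t * c := by
    let P : Subgroup G :=
      { carrier := {x | ∃ t ∈ T, ∃ c ∈ C, x = t * c}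
        one_mem' := ⟨1, T.one_mem, 1, C.one_mem, by simp⟩
        mul_mem' := by
          rintro _ _ ⟨t, ht, c, hc, rfl⟩ ⟨t', ht', c', hc', rfl⟩
          refine ⟨t * t', T.mul_mem ht ht', c * c', C.mul_mem hc hc', ?_⟩
          calc t * c * (t' * c') = t * (c * t') * c' := by group
            _ = t * (t' * c) * c' := by rw [hcomm t' ht' c hc]
            _ = t * t' * (c * c') := by group
        inv_mem' := by
          rintro _ ⟨t, ht, c, hc, rfl⟩
          refine ⟨t⁻¹, T.inv_mem ht, c⁻¹, C.inv_mem hc, ?_⟩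
          rw [mul_inv_rev, hcomm t⁻¹ (T.inv_mem ht) c⁻¹ (C.inv_mem hc)] }
    have hTP : T ≤ P := fun t ht => ⟨t, ht, 1, C.one_mem, by simp⟩
    have hCP : C ≤ P := fun c hc => ⟨1, T.one_mem, c, hc, by simp⟩
    have hJ := iSup_cj_eq hmin hT.1
    intro n hn
    have : n ∈ P := by
      have h1 : (⨆ h : G, cj h T) ≤ P := by
        apply iSup_le
        intro g
        rcases hB1 g with h | h
        · rw [h]; exact hTP
        · exact h.trans hCP
      rw [hJ] at h1
      exact h1 hn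
    exact this
  -- Inv N C
  have hCinv : Inv N C := by
    intro n hn x hx
    rw [mem_cj] at hx
    have hxN : x ∈ N := by
      have h1 := hx.2
      have h2 := N.mul_mem (N.mul_mem hn h1) (N.inv_mem hn)
      have e : n * (n⁻¹ * x * n) * n⁻¹ = x := by group
      rwa [e] at h2
    refine Subgroup.mem_inf.2 ⟨?_, hxN⟩
    rw [Subgroup.mem_centralizer_iff]
    intro t ht
    have ht' : n⁻¹ * t * n ∈ T := by
      have : t ∈ cj n T := by rw [hTinv.cj_eq hn]; exact ht
      exact mem_cj.1 this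
    have h1 := Subgroup.mem_centralizer_iff.1 hx.1 _ ht'
    -- h1 : (n⁻¹ t n) * (n⁻¹ x n) = (n⁻¹ x n) * (n⁻¹ t n)
    have e1 : t * x = n * ((n⁻¹ * t * n) * (n⁻¹ * x * n)) * n⁻¹ := by group
    have e2 : x * t = n * ((n⁻¹ * x * n) * (n⁻¹ * t * n)) * n⁻¹ := by group
    rw [e1, e2, h1]
  -- B3
  have hB3 : T ⊓ C = ⊥ := by
    rcases minimal_ninv_le_or_disjoint hT hCinv with h | h
    · exfalso
      apply hnonab
      -- N ≤ centralizer T, so T ≤ Z := centralizer N ⊓ N
      have hNC : ∀ n ∈ N, ∀ t ∈ T, t * n = n * t := by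
        intro n hn t ht
        obtain ⟨t', ht', c, hc, rfl⟩ := hB2 n hn
        have h1 : t * t' = t' * t := by
          have := (h ht').1
          exact (Subgroup.mem_centralizer_iff.1 this t ht)
        have h2 := hcomm t ht c hc
        calc t * (t' * c) = (t * t') * c := by group
          _ = (t' * t) * c := by rw [h1]
          _ = t' * (t * c) := by group
          _ = t' * (c * t) := by rw [h2]
          _ = t' * c * t := by group
      let Z : Subgroup G := Subgroup.centralizer (N : Set G) ⊓ N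
      have hZn : Z.Normal := inferInstance
      have hTZ : T ≤ Z := by
        intro t ht
        refine Subgroup.mem_inf.2 ⟨?_, hTleN ht⟩
        rw [Subgroup.mem_centralizer_iff]
        intro n hn
        exact (hNC n hn t ht).symm
      have hZ : Z = N := by
        rcases hmin Z hZn inf_le_right with h0 | h0
        · exfalso
          apply hTne
          rw [eq_bot_iff, ← h0]
          exact hTZ
        · exact h0
      intro a ha b hb
      have : a ∈ Z := by rw [hZ]; exact ha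
      exact (Subgroup.mem_centralizer_iff.1 this.1 b hb).symm
    · exact h
  -- transitivity of T C
  have htr : ∀ ω ω' : Ω, ∃ t ∈ T, ∃ c ∈ C, (t * c) • ω = ω' := by
    intro ω ω'
    obtain ⟨n, hn, hnω⟩ := hNtr ω ω'
    obtain ⟨t, ht, c, hc, rfl⟩ := hB2 n hn
    exact ⟨t, ht, c, hc, hnω⟩
  -- B5: every derangement lies in a conjugate of T
  obtain ⟨t₁, ht₁, hder₁⟩ := exists_derangement_of_commuting T C hcomm htr hTne
  obtain ⟨g₁, hg₁⟩ := hD t₁ hder₁
  have hB5 : ∀ y : G, (∀ ω : Ω, y • ω ≠ ω) → ∃ k : G, y ∈ cj k T := by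
    intro y hy
    obtain ⟨h, rfl⟩ := hD y hy
    refine ⟨h * g₁⁻¹, ?_⟩
    rw [mem_cj]
    have : (h * g₁⁻¹)⁻¹ * (h * x₀ * h⁻¹) * (h * g₁⁻¹) = g₁ * x₀ * g₁⁻¹ := by group
    rw [this, ← hg₁]
    exact ht₁
  have hone : ¬ ∀ ω : Ω, (1 : G) • ω ≠ ω := by
    intro h
    obtain ⟨ω⟩ := ‹Nonempty Ω›
    exact h ω (one_smul _ _)
  -- B6
  have hB6 : ∀ t ∈ T, ∀ c ∈ C, t ≠ 1 → c ≠ 1 → ∃ ω : Ω, (t * c) • ω = ω := by
    intro t ht c hc ht1 hc1
    by_contra hcon
    push Not at hcon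
    obtain ⟨k, hk⟩ := hB5 (t * c) hcon
    rcases hB1 k with h | h
    · rw [h] at hk
      have : c ∈ T := by
        have := T.mul_mem (T.inv_mem ht) hk
        rwa [inv_mul_cancel_left] at this
      have : c ∈ T ⊓ C := ⟨this, hc⟩
      rw [hB3, Subgroup.mem_bot] at this
      exact hc1 this
    · have h1 := h hk
      have : t ∈ C := by
        have := C.mul_mem h1 (C.inv_mem hc)
        rwa [mul_inv_cancel_right] at this
      have : t ∈ T ⊓ C := ⟨ht, this⟩
      rw [hB3, Subgroup.mem_bot] at this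
      exact ht1 this
  have ht₁1 : t₁ ≠ 1 := by
    rintro rfl
    exact hone hder₁
  -- B7
  have hTtr : ∀ ω ω' : Ω, ∃ t ∈ T, t • ω = ω' := by
    apply transitive_of_commuting T C hcomm htr
    intro c hc
    by_cases hc1 : c = 1
    · obtain ⟨ω⟩ := ‹Nonempty Ω›
      exact ⟨ω, 1, T.one_mem, by rw [hc1]⟩
    · obtain ⟨ω, hω⟩ := hB6 t₁ ht₁ c hc ht₁1 hc1
      refine ⟨ω, t₁⁻¹, T.inv_mem ht₁, ?_⟩
      rw [mul_smul] at hω
      rw [← hω, inv_smul_smul, hω]
  -- B8
  obtain ⟨g, hg⟩ : ∃ g : G, cj g T ≠ T := by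
    by_contra hcon
    push Not at hcon
    have hTn : T.Normal := by
      constructor
      intro n hn k
      have : k * n * k⁻¹ ∈ cj k T := by
        rw [mem_cj]
        have e : k⁻¹ * (k * n * k⁻¹) * k = n := by group
        rw [e]; exact hn
      rwa [hcon k] at this
    rcases hmin T hTn hTleN with h | h
    · exact hTne h
    · exact hTN h
  have hT₂C : cj g T ≤ C := (hB1 g).resolve_left hg
  have hT₂tr : ∀ ω ω' : Ω, ∃ u ∈ cj g T, u • ω = ω' := by
    intro ω ω'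
    obtain ⟨t, ht, htω⟩ := hTtr (g⁻¹ • ω) (g⁻¹ • ω')
    refine ⟨g * t * g⁻¹, ?_, ?_⟩
    · rw [mem_cj]
      have e : g⁻¹ * (g * t * g⁻¹) * g = t := by group
      rw [e]; exact ht
    · rw [mul_smul, mul_smul, htω, smul_inv_smul]
  -- B9
  have hTsemi : ∀ t ∈ T, ∀ ω : Ω, t • ω = ω → t = 1 := by
    intro t ht ω hω
    apply FaithfulSMul.eq_of_smul_eq_smul (α := Ω)
    intro ω'
    obtain ⟨u, hu, huω⟩ := hT₂tr ω ω'
    rw [one_smul, ← huω, ← mul_smul, hcomm t ht u (hT₂C hu), mul_smul, hω]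
  have hT₂ne : cj g T ≠ ⊥ := by rw [Ne, cj_eq_bot_iff]; exact hTne
  -- B11
  haveI : Nontrivial (cj g T) := (Subgroup.nontrivial_iff_ne_bot _).2 hT₂ne
  have hcard : 1 < Nat.card (cj g T) := Finite.one_lt_card
  set q := (Nat.card (cj g T)).minFac with hq
  have hqp : q.Prime := Nat.minFac_prime (by omega)
  haveI : Fact q.Prime := ⟨hqp⟩
  obtain ⟨u, hu⟩ := exists_prime_orderOf_dvd_card' (G := cj g T) q (Nat.minFac_dvd _)
  have hu1 : (u : G) ≠ 1 := by
    intro e
    have : u = 1 := Subtype.ext e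
    rw [this, orderOf_one] at hu
    exact hqp.one_lt.ne hu
  have huq : (u : G) ^ q = 1 := by
    have := pow_orderOf_eq_one u
    rw [hu] at this
    exact congrArg Subtype.val this
  obtain ⟨t, ht, htq⟩ : ∃ t ∈ T, t ^ q ≠ 1 := by
    by_contra hcon
    push Not at hcon
    haveI : Nontrivial T := (Subgroup.nontrivial_iff_ne_bot _).2 hTne
    have hp : IsPGroup q T := by
      intro t
      refine ⟨1, ?_⟩
      apply Subtype.ext
      rw [pow_one]
      exact hcon t t.2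
    haveI := hp.center_nontrivial
    obtain ⟨z, hz⟩ := exists_ne (1 : Subgroup.center T)
    have hzT : ((z : T) : G) ∈ T ⊓ C := by
      refine Subgroup.mem_inf.2 ⟨(z : T).2, Subgroup.mem_inf.2 ⟨?_, hTleN (z : T).2⟩⟩
      rw [Subgroup.mem_centralizer_iff]
      intro w hw
      have := Subgroup.mem_center_iff.1 z.2 ⟨w, hw⟩
      exact congrArg Subtype.val this
    rw [hB3, Subgroup.mem_bot] at hzT
    apply hz
    apply Subtype.ext
    apply Subtype.ext
    exact hzT
  have ht1 : t ≠ 1 := by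
    rintro rfl
    exact htq (one_pow q)
  obtain ⟨ω, hω⟩ := hB6 t ht u (hT₂C u.2) ht1 hu1
  have hpow : (t * (u : G)) ^ q = t ^ q := by
    rw [(Commute.mul_pow (hcomm t ht u (hT₂C u.2)) q), huq, mul_one]
  have hfixq : (t ^ q) • ω = ω := by
    rw [← hpow]
    have hmem : t * (u : G) ∈ MulAction.stabilizer G ω := MulAction.mem_stabilizer_iff.2 hω
    exact MulAction.mem_stabilizer_iff.1 (Subgroup.pow_mem _ hmem q)
  exact htq (hTsemi (t ^ q) (T.pow_mem ht q) ω hfixq)

end caseB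


theorem forward {G Ω : Type*} [Group G] [Finite G] [Finite Ω] [MulAction G Ω] [FaithfulSMul G Ω]
    (hΩ : 2 ≤ Nat.card Ω) (hprim : IsPreprimitive G Ω)
    (hnas : ¬ ∃ T : Subgroup G, T.Normal ∧ IsSimpleGroup T ∧ ¬ IsMulCommutative T ∧
      Subgroup.centralizer (T : Set G) = ⊥)
    (x₀ : G) (hx₀ : ∀ ω : Ω, x₀ • ω ≠ ω)
    (hD : ∀ y : G, (∀ ω : Ω, y • ω ≠ ω) → ∃ g : G, y = g * x₀ * g⁻¹) :
    (∀ a b c : Ω, b ≠ a → c ≠ a → ∃ h : G, h • a = a ∧ h • b = c) ∧
    (∀ g : G, g ≠ 1 → ∀ a b : Ω, a ≠ b → g • a = a → g • b ≠ b) := by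
  classical
  haveI : Nonempty Ω := by rw [← Finite.card_pos_iff]; omega
  letI := Fintype.ofFinite G
  letI := Fintype.ofFinite Ω
  have hone : ¬ ∀ ω : Ω, (1 : G) • ω ≠ ω := by
    intro h
    obtain ⟨ω⟩ := ‹Nonempty Ω›
    exact h ω (one_smul _ _)
  have hx₀1 : x₀ ≠ 1 := by rintro rfl; exact hone hx₀
  haveI : Nontrivial G := ⟨⟨x₀, 1, hx₀1⟩⟩
  -- nontrivial normal subgroups are transitive
  have hnormal_tr : ∀ M : Subgroup G, M.Normal → M ≠ ⊥ → ∀ ω ω' : Ω, ∃ m ∈ M, m • ω = ω' := by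
    intro M hM hMne ω ω'
    haveI := hM
    have hfp : fixedPoints M Ω ≠ Set.univ := by
      intro h
      apply hMne
      rw [Subgroup.eq_bot_iff_forall]
      intro m hm
      apply FaithfulSMul.eq_of_smul_eq_smul (α := Ω)
      intro ω
      rw [one_smul]
      have : ω ∈ fixedPoints M Ω := by rw [h]; trivial
      exact this ⟨m, hm⟩
    haveI : IsPretransitive M Ω := IsQuasiPreprimitive.isPretransitive_of_normal (G := G) hfp
    obtain ⟨m, hm⟩ := exists_smul_eq M ω ω'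
    exact ⟨m, m.2, hm⟩
  have hconj_der : ∀ (g y : G), (∀ ω : Ω, y • ω ≠ ω) → ∀ ω : Ω, (g * y * g⁻¹) • ω ≠ ω := by
    intro g y hy ω hω
    apply hy (g⁻¹ • ω)
    rw [mul_smul, mul_smul] at hω
    have := congrArg (fun z => g⁻¹ • z) hω
    simpa only [inv_smul_smul] using this
  have hnormal_D : ∀ M : Subgroup G, M.Normal → M ≠ ⊥ → ∀ y : G, (∀ ω : Ω, y • ω ≠ ω) → y ∈ M := by
    intro M hM hMne y hy
    have htr := hnormal_tr M hM hMne
    haveI : IsPretransitive M Ω := ⟨fun ω ω' => by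
      obtain ⟨m, hm, h⟩ := htr ω ω'
      exact ⟨⟨m, hm⟩, h⟩⟩
    obtain ⟨m, hmder⟩ := exists_derangement (T := M) (S := Ω) hΩ
    obtain ⟨g, hg⟩ := hD (m : G) hmder
    have hx₀M : x₀ ∈ M := by
      have := hM.conj_mem (m : G) m.2 g⁻¹
      rw [hg] at this
      have e : g⁻¹ * (g * x₀ * g⁻¹) * g⁻¹⁻¹ = x₀ := by group
      rwa [e] at this
    obtain ⟨h, rfl⟩ := hD y hy
    exact hM.conj_mem x₀ hx₀M h
  -- minimal normal subgroup
  obtain ⟨N, hNn, hNne, hmin⟩ := exists_isMinN (G := G)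
  haveI := hNn
  have hNtr := hnormal_tr N hNn hNne
  have hDN := hnormal_D N hNn hNne
  by_cases hab : ∀ a ∈ N, ∀ b ∈ N, a * b = b * a
  · -- abelian case
    have hsemi : ∀ n ∈ N, ∀ ω : Ω, n • ω = ω → n = 1 := by
      intro n hn ω hω
      apply FaithfulSMul.eq_of_smul_eq_smul (α := Ω)
      intro ω'
      obtain ⟨m, hm, rfl⟩ := hNtr ω ω'
      rw [one_smul, ← mul_smul, hab n hn m hm, mul_smul, hω]
    have hN1D : ∀ n ∈ N, n ≠ 1 → ∀ ω : Ω, n • ω ≠ ω := fun n hn hn1 ω hω => hn1 (hsemi n hn ω hω)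
    refine ⟨?_, ?_⟩
    · intro a b c hba hca
      obtain ⟨x, hx, hxa⟩ := hNtr a b
      obtain ⟨y, hy, hya⟩ := hNtr a c
      have hx1 : x ≠ 1 := by rintro rfl; rw [one_smul] at hxa; exact hba hxa.symm
      have hy1 : y ≠ 1 := by rintro rfl; rw [one_smul] at hya; exact hca hya.symm
      obtain ⟨g₁, hg₁⟩ := hD x (hN1D x hx hx1)
      obtain ⟨g₂, hg₂⟩ := hD y (hN1D y hy hy1)
      obtain ⟨g, hg⟩ : ∃ g : G, g = g₂ * g₁⁻¹ := ⟨_, rfl⟩
      have hyx : y = g * x * g⁻¹ := by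
        rw [hg₂, hg₁, hg]; group
      obtain ⟨m, hm, hma⟩ := hNtr a (g • a)
      obtain ⟨h, hh⟩ : ∃ h : G, h = m⁻¹ * g := ⟨_, rfl⟩
      have hha : h • a = a := by
        rw [hh, mul_smul, ← hma, inv_smul_smul]
      have hconjN : h * x * h⁻¹ ∈ N := hNn.conj_mem x hx h
      have hyh : y = h * x * h⁻¹ := by
        have e : g * x * g⁻¹ = m * (h * x * h⁻¹) * m⁻¹ := by rw [hh]; group
        rw [hyx, e, hab m hm _ hconjN, mul_inv_cancel_right]
      refine ⟨h, hha, ?_⟩
      have hinv : h⁻¹ • a = a := by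
        have := congrArg (fun z => h⁻¹ • z) hha
        simpa only [inv_smul_smul] using this.symm
      calc h • b = h • x • a := by rw [hxa]
        _ = h • x • h⁻¹ • a := by rw [hinv]
        _ = (h * x * h⁻¹) • a := by rw [mul_smul, mul_smul]
        _ = y • a := by rw [← hyh]
        _ = c := hya
    · intro g hg1 a b hab' hga hgb
      by_cases hgN : g ∈ N
      · exact hg1 (hsemi g hgN a hga)
      · haveI : IsPretransitive N Ω := ⟨fun ω ω' => by
          obtain ⟨m, hm, h⟩ := hNtr ω ω'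
          exact ⟨⟨m, hm⟩, h⟩⟩
        have hcos : ∀ x ∈ N, ∃ ω : Ω, (g * x) • ω = ω := by
          intro x hx
          by_contra hcon
          push Not at hcon
          have := hDN (g * x) hcon
          apply hgN
          have h2 := N.mul_mem this (N.inv_mem hx)
          rwa [mul_inv_cancel_right] at h2
        have := card_Fix_coset_eq_one N g hcos 1 N.one_mem
        rw [mul_one] at this
        exact hab' (Finset.card_le_one.1 this.le a (mem_Fix.2 hga) b (mem_Fix.2 hgb))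
  · -- nonabelian case
    exfalso
    have hNN : NInv N N := by
      refine ⟨le_rfl, hNne, ?_⟩
      intro a _
      exact cj_le_of_normal le_rfl a
    obtain ⟨T, -, hT⟩ := Finite.exists_le_minimal (p := NInv N) hNN
    by_cases hTN : T = N
    · have hsimple : IsSimpleGroup ↥N := by
        have := isSimpleGroup_of_minimal_ninv hmin hT
        rwa [hTN] at this
      apply hnas
      refine ⟨N, hNn, hsimple, ?_, ?_⟩
      · intro hc
        apply hab
        intro a ha b hb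
        have := hc.is_comm.comm ⟨a, ha⟩ ⟨b, hb⟩
        exact congrArg Subtype.val this
      · by_contra hne
        have hCn : (Subgroup.centralizer (N : Set G)).Normal := inferInstance
        have h1 := hnormal_D _ hCn hne x₀ hx₀
        have h2 := hDN x₀ hx₀
        let Z : Subgroup G := Subgroup.centralizer (N : Set G) ⊓ N
        have hZn : Z.Normal := inferInstance
        rcases hmin Z hZn inf_le_right with h0 | h0
        · have : x₀ ∈ Z := Subgroup.mem_inf.2 ⟨h1, h2⟩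
          rw [h0, Subgroup.mem_bot] at this
          exact hx₀1 this
        · apply hab
          intro a ha b hb
          have : a ∈ Z := by rw [h0]; exact ha
          exact (Subgroup.mem_centralizer_iff.1 (Subgroup.mem_inf.1 this).1 b hb).symm
    · exact caseB N hmin hNtr x₀ hD hab T hT hTN

theorem backward {G Ω : Type*} [Group G] [Finite G] [Finite Ω] [MulAction G Ω]
    (hΩ : 2 ≤ Nat.card Ω) [IsPretransitive G Ω]
    (h2 : ∀ a b c : Ω, b ≠ a → c ≠ a → ∃ h : G, h • a = a ∧ h • b = c)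
    (hs : ∀ g : G, g ≠ 1 → ∀ a b : Ω, a ≠ b → g • a = a → g • b ≠ b) :
    ∃ x₀ : G, (∀ ω : Ω, x₀ • ω ≠ ω) ∧
      ∀ y : G, (∀ ω : Ω, y • ω ≠ ω) → ∃ g : G, y = g * x₀ * g⁻¹ := by
  classical
  haveI : Nonempty Ω := by rw [← Finite.card_pos_iff]; omega
  have hcount := Cfsg.Agent.Lib.Helper5.frobenius_kernel_count (K := G) (X := Ω)
    (fun k hk x y hx hy => by
      by_contra hxy
      exact hs k hk x y hxy hx hy)
  set D : Set G := {k : G | ∀ x : Ω, k • x ≠ x} with hDdef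
  have hins : {k : G | k = 1 ∨ ∀ x : Ω, k • x ≠ x} = insert 1 D := by
    ext k; simp [hDdef]
  have h1D : (1 : G) ∉ D := by
    intro h
    obtain ⟨ω⟩ := ‹Nonempty Ω›
    exact h ω (one_smul _ _)
  have hDcard : D.ncard + 1 = Nat.card Ω := by
    rw [hins, Set.ncard_insert_of_notMem h1D (Set.toFinite D)] at hcount
    exact hcount
  have hDne : D.Nonempty := by
    rw [← Set.ncard_pos (Set.toFinite D)]
    omega
  obtain ⟨x₀, hx₀⟩ := hDne
  refine ⟨x₀, hx₀, ?_⟩
  obtain ⟨a⟩ := ‹Nonempty Ω›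
  -- the stabilizer has at least n - 1 elements
  have hb : ∃ b : Ω, b ≠ a := by
    by_contra hcon
    push Not at hcon
    have : Nat.card Ω ≤ 1 := by
      rw [Finite.card_le_one_iff_subsingleton]
      exact ⟨fun x y => by rw [hcon x, hcon y]⟩
    omega
  obtain ⟨b, hba⟩ := hb
  let ψ : stabilizer G a → {c : Ω // c ≠ a} := fun h => ⟨(h : G) • b, by
    intro hcon
    apply hba
    have := h.2
    rw [mem_stabilizer_iff] at this
    have e : (h : G) • b = (h : G) • a := by rw [hcon, this]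
    exact smul_left_cancel _ e⟩
  have hψ : Function.Surjective ψ := by
    rintro ⟨c, hc⟩
    obtain ⟨h, hha, hhb⟩ := h2 a b c hba hc
    exact ⟨⟨h, hha⟩, Subtype.ext hhb⟩
  have hcardH : Nat.card {c : Ω // c ≠ a} ≤ Nat.card (stabilizer G a) :=
    Nat.card_le_card_of_surjective ψ hψ
  have hcompl : Nat.card {c : Ω // c ≠ a} + 1 = Nat.card Ω := by
    letI := Fintype.ofFinite Ω
    rw [Nat.card_eq_fintype_card, Nat.card_eq_fintype_card, Fintype.card_subtype_compl,
      Fintype.card_subtype_eq]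
    have : 0 < Fintype.card Ω := Fintype.card_pos
    omega
  let φ : stabilizer G a → G := fun h => (h : G) * x₀ * (h : G)⁻¹
  have hφinj : Function.Injective φ := by
    intro h h' hhh
    have hk : ((h' : G)⁻¹ * (h : G)) * x₀ = x₀ * ((h' : G)⁻¹ * (h : G)) := by
      have : (h : G) * x₀ * (h : G)⁻¹ = (h' : G) * x₀ * (h' : G)⁻¹ := hhh
      have e1 : (h : G) * x₀ = (h' : G) * x₀ * (h' : G)⁻¹ * (h : G) := by
        rw [← this]; group
      calc ((h' : G)⁻¹ * (h : G)) * x₀ = (h' : G)⁻¹ * ((h : G) * x₀) := by group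
        _ = (h' : G)⁻¹ * ((h' : G) * x₀ * (h' : G)⁻¹ * (h : G)) := by rw [e1]
        _ = x₀ * ((h' : G)⁻¹ * (h : G)) := by group
    have hka : ((h' : G)⁻¹ * (h : G)) • a = a := by
      have := (stabilizer G a).mul_mem ((stabilizer G a).inv_mem h'.2) h.2
      exact this
    have hkxa : ((h' : G)⁻¹ * (h : G)) • (x₀ • a) = x₀ • a := by
      rw [← mul_smul, hk, mul_smul, hka]
    have hk1 : (h' : G)⁻¹ * (h : G) = 1 := by
      by_contra hne
      exact hs _ hne a (x₀ • a) (hx₀ a).symm hka hkxa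
    apply Subtype.ext
    have := inv_mul_eq_one.1 hk1
    exact this.symm
  have hφD : Set.range φ ⊆ D := by
    rintro _ ⟨h, rfl⟩ ω hω
    apply hx₀ ((h : G)⁻¹ • ω)
    have hω' : (h : G) • x₀ • (h : G)⁻¹ • ω = ω := by
      rw [← mul_smul, ← mul_smul]; exact hω
    have := congrArg (fun z => (h : G)⁻¹ • z) hω'
    simpa only [inv_smul_smul] using this
  have hrange : (Set.range φ).ncard = Nat.card (stabilizer G a) := by
    rw [← Set.image_univ, Set.ncard_image_of_injective _ hφinj, Set.ncard_univ]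
  have heq : Set.range φ = D := by
    apply Set.eq_of_subset_of_ncard_le hφD _ (Set.toFinite D)
    rw [hrange]
    omega
  intro y hy
  have : y ∈ Set.range φ := by rw [heq]; exact hy
  obtain ⟨h, rfl⟩ := this
  exact ⟨h, rfl⟩

end Cfsg.Agent.Lib.Helper19.UniqueDer
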