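import Mathlib

/-!
helper19: the metacyclic presented group `⟨x, y | x^n, y^m, x⁻¹ y x = y^r⟩` (on `Fin 2`) has at most
`n * m` elements, and is isomorphic to any group of order `n * m` generated by two elements satisfying
the relations.
-/

set_option autoImplicit false

namespace Cfsg.Agent.Lib.Helper19.ZPres

/-- the relators -/
abbrev zrels (n m r : ℕ) : Set (FreeGroup (Fin 2)) :=
  ({FreeGroup.of (0 : Fin 2) ^ n, FreeGroup.of (1 : Fin 2) ^ m,
    (FreeGroup.of (0 : Fin 2))⁻¹ * FreeGroup.of 1 * FreeGroup.of 0 * (FreeGroup.of (1 : Fin 2) ^ r)⁻¹} :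
    Set (FreeGroup (Fin 2)))

variable {n m r : ℕ}

/-- the generator `x` -/
def gx : PresentedGroup (zrels n m r) := PresentedGroup.of 0
/-- the generator `y` -/
def gy : PresentedGroup (zrels n m r) := PresentedGroup.of 1

theorem gx_pow : (gx : PresentedGroup (zrels n m r)) ^ n = 1 := by
  have h : (FreeGroup.of (0 : Fin 2) ^ n) ∈ zrels n m r := by simp [zrels]
  have := PresentedGroup.one_of_mem h
  simpa [gx, PresentedGroup.of] using this

theorem gy_pow : (gy : PresentedGroup (zrels n m r)) ^ m = 1 := by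
  have h : (FreeGroup.of (1 : Fin 2) ^ m) ∈ zrels n m r := by simp [zrels]
  have := PresentedGroup.one_of_mem h
  simpa [gy, PresentedGroup.of] using this

theorem g_conj : (gx : PresentedGroup (zrels n m r))⁻¹ * gy * gx = gy ^ r := by
  have h : ((FreeGroup.of (0 : Fin 2))⁻¹ * FreeGroup.of 1 * FreeGroup.of 0 *
      (FreeGroup.of (1 : Fin 2) ^ r)⁻¹) ∈ zrels n m r := by simp [zrels]
  have := PresentedGroup.one_of_mem h
  have h2 : (gx : PresentedGroup (zrels n m r))⁻¹ * gy * gx * (gy ^ r)⁻¹ = 1 := by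
    simpa [gx, gy, PresentedGroup.of] using this
  exact mul_inv_eq_one.mp h2

theorem inv_conj_pow {Γ : Type*} [Group Γ] (x y : Γ) (j : ℕ) :
    x⁻¹ * y ^ j * x = (x⁻¹ * y * x) ^ j := by
  have := conj_pow (a := x⁻¹) (b := y) (i := j)
  rw [inv_inv] at this
  exact this.symm

theorem inv_conj_zpow {Γ : Type*} [Group Γ] (x y : Γ) (j : ℤ) :
    x⁻¹ * y ^ j * x = (x⁻¹ * y * x) ^ j := by
  have := conj_zpow (a := x⁻¹) (b := y) (i := j)
  rw [inv_inv] at this
  exact this.symm

/-- iterated conjugation -/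
theorem conj_pow_pow {Γ : Type*} [Group Γ] {x y : Γ} {r : ℕ} (h : x⁻¹ * y * x = y ^ r) (k : ℕ) :
    (x⁻¹) ^ k * y * x ^ k = y ^ (r ^ k) := by
  induction k with
  | zero => simp
  | succ k ih =>
    have h1 : (x⁻¹) ^ (k + 1) * y * x ^ (k + 1) = x⁻¹ * ((x⁻¹) ^ k * y * x ^ k) * x := by
      rw [pow_succ' x⁻¹ k, pow_succ x k]; group
    rw [h1, ih]
    have h2 : x⁻¹ * y ^ r ^ k * x = (x⁻¹ * y * x) ^ r ^ k := inv_conj_pow x y _
    rw [h2, h, ← pow_mul, pow_succ']

theorem conj_pow_pow' {Γ : Type*} [Group Γ] {x y : Γ} {r : ℕ} (h : x⁻¹ * y * x = y ^ r) (k j : ℕ) :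
    (x⁻¹) ^ k * y ^ j * x ^ k = y ^ (r ^ k * j) := by
  have h2 : (x⁻¹) ^ k * y ^ j * x ^ k = ((x⁻¹) ^ k * y * x ^ k) ^ j := by
    have := inv_conj_pow (x ^ k) y j
    rwa [← inv_pow] at this
  rw [h2, conj_pow_pow h, ← pow_mul]

/-- `x y x⁻¹` is again a power of `y` when `x` has finite order -/
theorem conj_inv_mem {Γ : Type*} [Group Γ] {x y : Γ} {r n : ℕ} (hn : 0 < n) (hx : x ^ n = 1)
    (h : x⁻¹ * y * x = y ^ r) : x * y * x⁻¹ = y ^ (r ^ (n - 1)) := by
  have h1 := conj_pow_pow h (n - 1)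
  have h2 : x⁻¹ ^ (n - 1) = x := by
    have : x⁻¹ ^ (n - 1) * x⁻¹ = 1 := by
      rw [← pow_succ, Nat.sub_add_cancel hn, inv_pow, hx, inv_one]
    exact eq_inv_of_mul_eq_one_left this |>.trans (inv_inv x)
  have h3 : x ^ (n - 1) = x⁻¹ := by
    have : x ^ (n - 1) * x = 1 := by rw [← pow_succ, Nat.sub_add_cancel hn, hx]
    exact eq_inv_of_mul_eq_one_left this
  rwa [h2, h3] at h1

/-- `⟨y⟩` is normalised by `x` -/
theorem mem_normalizer_zpowers {Γ : Type*} [Group Γ] {x y : Γ} {r n : ℕ} (hn : 0 < n)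
    (hx : x ^ n = 1) (h : x⁻¹ * y * x = y ^ r) :
    x ∈ Subgroup.normalizer (Subgroup.zpowers y : Set Γ) := by
  have h' := conj_inv_mem hn hx h
  rw [Subgroup.mem_normalizer_iff]
  intro g
  constructor
  · intro hg
    obtain ⟨k, rfl⟩ := Subgroup.mem_zpowers_iff.mp hg
    have : x * y ^ k * x⁻¹ = (x * y * x⁻¹) ^ k := (conj_zpow).symm
    rw [this, h']
    exact Subgroup.zpow_mem _ (Subgroup.pow_mem _ (Subgroup.mem_zpowers y) _) _
  · intro hg
    obtain ⟨k, hk⟩ := Subgroup.mem_zpowers_iff.mp hg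
    have h1 : g = x⁻¹ * (y ^ k) * x := by rw [hk]; group
    have : x⁻¹ * y ^ k * x = (x⁻¹ * y * x) ^ k := inv_conj_zpow x y k
    rw [h1, this, h]
    exact Subgroup.zpow_mem _ (Subgroup.pow_mem _ (Subgroup.mem_zpowers y) _) _

/-- a group generated by `x, y` with `x^n = 1`, `y^m = 1`, `x⁻¹ y x = y^r` is finite of order at most `n m` -/
theorem card_le_of_rel {Γ : Type*} [Group Γ] {x y : Γ} {r n m : ℕ} (hn : 0 < n) (hm : 0 < m)
    (hx : x ^ n = 1) (hy : y ^ m = 1) (h : x⁻¹ * y * x = y ^ r)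
    (hgen : Subgroup.closure ({x, y} : Set Γ) = ⊤) :
    Finite Γ ∧ Nat.card Γ ≤ n * m := by
  set Y : Subgroup Γ := Subgroup.zpowers y with hY
  have hYn : Y.Normal := by
    rw [← Subgroup.normalizer_eq_top_iff, eq_top_iff, ← hgen, Subgroup.closure_le]
    intro g hg
    rcases hg with rfl | hg
    · exact mem_normalizer_zpowers hn hx h
    · rw [Set.mem_singleton_iff] at hg
      subst hg
      exact Subgroup.le_normalizer (Subgroup.mem_zpowers _)
  have hyo : 0 < orderOf y := orderOf_pos_iff.mpr (isOfFinOrder_iff_pow_eq_one.mpr ⟨m, hm, hy⟩)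
  have hYfin : Finite Y := by
    rw [hY]
    exact (orderOf_pos_iff.mp hyo).finite_zpowers
  have hYcard : Nat.card Y ≤ m := by
    rw [hY, Nat.card_zpowers]
    exact orderOf_le_of_pow_eq_one hm hy
  -- quotient generated by the image of x
  set xb : Γ ⧸ Y := QuotientGroup.mk' Y x with hxb
  have hxbn : xb ^ n = 1 := by rw [hxb, ← map_pow, hx, map_one]
  have htop : ∀ q : Γ ⧸ Y, q ∈ Subgroup.zpowers xb := by
    have h1 : (Subgroup.zpowers xb).comap (QuotientGroup.mk' Y) = ⊤ := by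
      rw [eq_top_iff, ← hgen, Subgroup.closure_le]
      intro g hg
      rcases hg with rfl | hg
      · exact Subgroup.mem_zpowers _
      · rw [Set.mem_singleton_iff] at hg
        subst hg
        show QuotientGroup.mk' Y g ∈ Subgroup.zpowers xb
        have : QuotientGroup.mk' Y g = 1 := by
          rw [QuotientGroup.mk'_apply, QuotientGroup.eq_one_iff]
          exact Subgroup.mem_zpowers _
        rw [this]; exact Subgroup.one_mem _
    intro q
    obtain ⟨g, rfl⟩ := QuotientGroup.mk'_surjective Y q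
    have : g ∈ (Subgroup.zpowers xb).comap (QuotientGroup.mk' Y) := by rw [h1]; trivial
    exact this
  have hxbo : 0 < orderOf xb := orderOf_pos_iff.mpr (isOfFinOrder_iff_pow_eq_one.mpr ⟨n, hn, hxbn⟩)
  have hQfin : Finite (Γ ⧸ Y) := by
    have h1 : Finite (Subgroup.zpowers xb) := (orderOf_pos_iff.mp hxbo).finite_zpowers
    have h2 : (Subgroup.zpowers xb) = ⊤ := eq_top_iff.mpr (fun q _ => htop q)
    rw [h2] at h1
    exact Finite.of_equiv _ Subgroup.topEquiv.toEquiv
  have hQcard : Nat.card (Γ ⧸ Y) ≤ n := by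
    have h2 : (Subgroup.zpowers xb) = ⊤ := eq_top_iff.mpr (fun q _ => htop q)
    have h3 : Nat.card (Subgroup.zpowers xb) = Nat.card (Γ ⧸ Y) := by
      rw [h2]; exact Nat.card_congr Subgroup.topEquiv.toEquiv
    rw [← h3, Nat.card_zpowers]
    exact orderOf_le_of_pow_eq_one hn hxbn
  have hfin : Finite Γ := Finite.of_subgroup_quotient Y
  refine ⟨hfin, ?_⟩
  rw [Subgroup.card_eq_card_quotient_mul_card_subgroup Y]
  exact Nat.mul_le_mul hQcard hYcard

theorem pg_gen : Subgroup.closure ({gx, gy} : Set (PresentedGroup (zrels n m r))) = ⊤ := by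
  have h := PresentedGroup.closure_range_of (zrels n m r)
  rw [eq_top_iff, ← h, Subgroup.closure_le]
  rintro _ ⟨i, rfl⟩
  apply Subgroup.subset_closure
  fin_cases i
  · left; rfl
  · right; rfl

theorem pg_card (hn : 0 < n) (hm : 0 < m) :
    Finite (PresentedGroup (zrels n m r)) ∧ Nat.card (PresentedGroup (zrels n m r)) ≤ n * m :=
  card_le_of_rel hn hm gx_pow gy_pow g_conj pg_gen

/-- recognition: a group of order `n m` generated by `x, y` with the relations is the presented group -/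
theorem nonempty_mulEquiv {X : Type*} [Group X] [Finite X] {x y : X} (hn : 0 < n) (hm : 0 < m)
    (hx : x ^ n = 1) (hy : y ^ m = 1) (h : x⁻¹ * y * x = y ^ r)
    (hgen : Subgroup.closure ({x, y} : Set X) = ⊤) (hcard : n * m ≤ Nat.card X) :
    Nonempty (X ≃* PresentedGroup (zrels n m r)) := by
  let f : Fin 2 → X := ![x, y]
  have hf : ∀ w ∈ zrels n m r, FreeGroup.lift f w = 1 := by
    intro w hw
    simp only [zrels, Set.mem_insert_iff, Set.mem_singleton_iff] at hw
    rcases hw with rfl | rfl | rfl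
    · simp [f, hx]
    · simp [f, hy]
    · simp only [map_mul, map_inv, map_pow, FreeGroup.lift_apply_of, f, Matrix.cons_val_zero,
        Matrix.cons_val_one, h]
      simp
  let φ : PresentedGroup (zrels n m r) →* X := PresentedGroup.toGroup hf
  have hφx : φ gx = x := by simp [φ, gx, f]
  have hφy : φ gy = y := by simp [φ, gy, f]
  have hsurj : Function.Surjective φ := by
    rw [← MonoidHom.range_eq_top, eq_top_iff, ← hgen, Subgroup.closure_le]
    intro g hg
    rcases hg with rfl | hg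
    · exact ⟨gx, hφx⟩
    · rw [Set.mem_singleton_iff] at hg
      subst hg
      exact ⟨gy, hφy⟩
  obtain ⟨hfin, hle⟩ := pg_card (r := r) hn hm
  have hbij : Function.Bijective φ :=
    Function.Surjective.bijective_of_nat_card_le hsurj (hle.trans hcard)
  exact ⟨(MulEquiv.ofBijective φ hbij).symm⟩

end Cfsg.Agent.Lib.Helper19.ZPres
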