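import Mathlib
import Cfsg.Agent.Lib.Helper19.ZPresA

/-!
helper19: finite Z-groups (all Sylow subgroups cyclic) are metacyclic with the classical presentation
`⟨x, y | x^n, y^m, x⁻¹ y x = y^r⟩`, `gcd(n, m) = gcd(r - 1, m) = 1`; if moreover elements of prime order
normalising a subgroup of prime order centralise it (Frobenius complements), then `r^(n/n') ≡ 1 (mod m)`.
-/

set_option autoImplicit false

namespace Cfsg.Agent.Lib.Helper19.ZPres

/-- number theory: `u ≡ 1` modulo every prime divisor of `m` and `u^p ≡ 1 (mod m)`, `p ∤ m` prime,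
force `u ≡ 1 (mod m)`. -/
theorem modEq_one_of_pow_prime {m u p : ℕ} (hp : p.Prime) (hpm : Nat.Coprime p m)
    (hup : u ^ p ≡ 1 [MOD m]) (hq : ∀ q : ℕ, q.Prime → q ∣ m → u ≡ 1 [MOD q]) : u ≡ 1 [MOD m] := by
  have key : ∀ q k : ℕ, q.Prime → q ^ k ∣ m → u ≡ 1 [MOD q ^ k] := by
    intro q k hqp hqk
    rcases Nat.eq_zero_or_pos k with rfl | hk
    · rw [pow_zero]; exact Nat.modEq_one
    obtain ⟨j, rfl⟩ : ∃ j, k = j + 1 := ⟨k - 1, by omega⟩
    have hqm : q ∣ m := (dvd_pow_self q (by omega)).trans hqk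
    have hne : q ≠ p := by
      rintro rfl
      have := Nat.Coprime.eq_one_of_dvd hpm hqm
      exact hqp.one_lt.ne' this
    have h1 : ((q : ℕ) : ℤ) ∣ (u : ℤ) - 1 := by
      have := (Nat.modEq_iff_dvd.mp (hq q hqp hqm).symm)
      simpa using this
    have h2 := dvd_sub_pow_of_dvd_sub h1 j
    rw [one_pow] at h2
    haveI : NeZero (q ^ (j + 1)) := ⟨(pow_pos hqp.pos _).ne'⟩
    have h3 : ((u : ZMod (q ^ (j + 1)))) ^ (q ^ j) = 1 := by
      have h4 : (((u : ℤ) ^ q ^ j - 1 : ℤ) : ZMod (q ^ (j + 1))) = 0 := by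
        rw [ZMod.intCast_zmod_eq_zero_iff_dvd]
        exact_mod_cast h2
      push_cast at h4
      exact sub_eq_zero.mp h4
    have h5 : ((u : ZMod (q ^ (j + 1)))) ^ p = 1 := by
      have h6 : u ^ p ≡ 1 [MOD q ^ (j + 1)] := hup.of_dvd hqk
      have := (ZMod.natCast_eq_natCast_iff _ _ _).mpr h6
      simpa using this
    have h7 : orderOf (u : ZMod (q ^ (j + 1))) = 1 := by
      have ha := orderOf_dvd_of_pow_eq_one h3
      have hb := orderOf_dvd_of_pow_eq_one h5
      have hc : Nat.Coprime (q ^ j) p :=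
        Nat.Coprime.pow_left j ((Nat.coprime_primes hqp hp).mpr hne)
      exact Nat.eq_one_of_dvd_coprimes hc ha hb
    have h8 : (u : ZMod (q ^ (j + 1))) = 1 := orderOf_eq_one_iff.mp h7
    apply (ZMod.natCast_eq_natCast_iff _ _ _).mp
    simpa using h8
  rw [Nat.modEq_iff_dvd]
  rw [Int.natCast_dvd]
  rw [Nat.dvd_iff_prime_pow_dvd_dvd]
  intro q k hqp hqk
  have := Nat.modEq_iff_dvd.mp (key q k hqp hqk)
  rw [Int.natCast_dvd] at this
  exact this

/-- number theory: a divisor of all `n / p`, `p ∣ n` prime, divides `n / rad n`. -/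
theorem dvd_div_rad {n t : ℕ} (hn : 0 < n) (ht : ∀ p ∈ n.primeFactors, t ∣ n / p) (htn : t ∣ n) :
    t ∣ n / ∏ p ∈ n.primeFactors, p := by
  obtain ⟨c, hc⟩ := htn
  have ht0 : 0 < t := by
    rcases Nat.eq_zero_or_pos t with rfl | h
    · simp at hc; omega
    · exact h
  have hpc : ∀ p ∈ n.primeFactors, p ∣ c := by
    intro p hp
    have hpn : p ∣ n := Nat.dvd_of_mem_primeFactors hp
    obtain ⟨d, hd⟩ := ht p hp
    have h1 : n = n / p * p := (Nat.div_mul_cancel hpn).symm
    rw [hd] at h1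
    have h2 : t * c = t * (d * p) := by rw [← hc, h1, mul_assoc]
    have h3 : c = d * p := Nat.eq_of_mul_eq_mul_left ht0 h2
    exact ⟨d, by rw [h3, mul_comm]⟩
  have hprod : (∏ p ∈ n.primeFactors, p) ∣ c :=
    Finset.prod_primes_dvd c (fun p hp => (Nat.prime_of_mem_primeFactors hp).prime) hpc
  obtain ⟨e, he⟩ := hprod
  have hpos : 0 < ∏ p ∈ n.primeFactors, p :=
    Finset.prod_pos (fun p hp => (Nat.prime_of_mem_primeFactors hp).pos)
  refine ⟨e, ?_⟩
  have hn' : n = (∏ p ∈ n.primeFactors, p) * (t * e) := by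
    calc n = t * c := hc
      _ = t * ((∏ p ∈ n.primeFactors, p) * e) := by rw [← he]
      _ = (∏ p ∈ n.primeFactors, p) * (t * e) := by ring
  exact Nat.div_eq_of_eq_mul_right hpos hn'


/-- the image of a generator of a cyclic subgroup generates it -/
theorem zpowers_coe_generator {X : Type*} [Group X] (K : Subgroup X) (g : K)
    (hg : ∀ k : K, k ∈ Subgroup.zpowers g) : Subgroup.zpowers (g : X) = K := by
  ext z
  constructor
  · intro hz
    obtain ⟨k, rfl⟩ := Subgroup.mem_zpowers_iff.mp hz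
    exact K.zpow_mem g.2 k
  · intro hz
    obtain ⟨k, hk⟩ := Subgroup.mem_zpowers_iff.mp (hg ⟨z, hz⟩)
    refine Subgroup.mem_zpowers_iff.mpr ⟨k, ?_⟩
    have := congrArg Subtype.val hk
    simpa using this

/-- structure of finite Z-groups -/
theorem zgroup_data (X : Type*) [Group X] [Finite X] [IsZGroup X] :
    ∃ (x y : X) (n m r : ℕ), 0 < n ∧ 0 < m ∧ orderOf x = n ∧ orderOf y = m ∧ n * m = Nat.card X ∧
      Nat.Coprime n m ∧ Subgroup.closure ({x, y} : Set X) = ⊤ ∧ x⁻¹ * y * x = y ^ r ∧ 1 ≤ r ∧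
      Nat.Coprime (r - 1) m := by
  have hcyc : IsCyclic (commutator X) := IsZGroup.isCyclic_commutator X
  obtain ⟨y0, hy0⟩ := IsCyclic.exists_generator (α := commutator X)
  have hcop := IsZGroup.coprime_commutator_index X
  obtain ⟨H, hH⟩ := Subgroup.exists_right_complement'_of_coprime hcop
  have e1 : Abelianization X ≃* H := hH.symm.QuotientMulEquiv
  haveI : IsCyclic H := isCyclic_of_surjective _ e1.surjective
  obtain ⟨x0, hx0⟩ := IsCyclic.exists_generator (α := H)
  obtain ⟨x, hxdef⟩ : ∃ x : X, x = (x0 : X) := ⟨_, rfl⟩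
  obtain ⟨y, hydef⟩ : ∃ y : X, y = (y0 : X) := ⟨_, rfl⟩
  have hzy : Subgroup.zpowers y = commutator X := by
    rw [hydef]; exact zpowers_coe_generator _ y0 hy0
  have hzx : Subgroup.zpowers x = H := by
    rw [hxdef]; exact zpowers_coe_generator _ x0 hx0
  have hyn : (commutator X).Normal := inferInstance
  set n := orderOf x with hn
  set m := orderOf y with hm
  have hn0 : 0 < n := orderOf_pos x
  have hm0 : 0 < m := orderOf_pos y
  have hnc : n = Nat.card H := by rw [hn, ← Nat.card_zpowers, hzx]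
  have hmc : m = Nat.card (commutator X) := by rw [hm, ← Nat.card_zpowers, hzy]
  have hcard : n * m = Nat.card X := by
    rw [hnc, hmc, mul_comm]; exact hH.card_mul_card
  have hcop' : Nat.Coprime n m := by
    have h1 : (commutator X).index = Nat.card H := by
      have h2 := hH.card_mul_card
      have h3 := (commutator X).card_mul_index
      have hpos : 0 < Nat.card (commutator X) := Nat.card_pos
      rw [← h3] at h2
      exact (Nat.eq_of_mul_eq_mul_left hpos h2).symm
    rw [hnc, hmc, ← h1]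
    exact hcop.symm
  have hgen : Subgroup.closure ({x, y} : Set X) = ⊤ := by
    rw [eq_top_iff, ← hH.sup_eq_top, sup_le_iff]
    constructor
    · rw [← hzy, Subgroup.zpowers_eq_closure]
      exact Subgroup.closure_mono (by intro z hz; rw [Set.mem_singleton_iff] at hz; rw [hz]; simp)
    · rw [← hzx, Subgroup.zpowers_eq_closure]
      exact Subgroup.closure_mono (by intro z hz; rw [Set.mem_singleton_iff] at hz; rw [hz]; simp)
  -- the conjugation exponent
  have hconj : x⁻¹ * y * x ∈ Subgroup.zpowers y := by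
    rw [hzy]
    have hy : y ∈ commutator X := by rw [← hzy]; exact Subgroup.mem_zpowers y
    have := hyn.conj_mem y hy x⁻¹
    simpa using this
  obtain ⟨k, hk⟩ := Subgroup.mem_zpowers_iff.mp hconj
  obtain ⟨r, hr1, hr⟩ : ∃ r : ℕ, 1 ≤ r ∧ x⁻¹ * y * x = y ^ r := by
    refine ⟨(k % (m : ℤ)).toNat + m, by omega, ?_⟩
    rw [pow_add, hm, pow_orderOf_eq_one, mul_one, ← hk, ← zpow_natCast]
    rw [Int.toNat_of_nonneg (Int.emod_nonneg _ (by exact_mod_cast hm0.ne'))]
    exact (zpow_mod_orderOf y k).symm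
  refine ⟨x, y, n, m, r, hn0, hm0, rfl, rfl, hcard, hcop', hgen, hr, hr1, ?_⟩
  -- coprimality of r - 1 and m
  set w : X := y ^ (r - 1) with hw
  have hyr : y ^ r = y * w := by rw [hw, ← pow_succ', Nat.sub_add_cancel hr1]
  have hxn : x ^ n = 1 := pow_orderOf_eq_one x
  have hym : y ^ m = 1 := pow_orderOf_eq_one y
  have hwx : x⁻¹ * w * x = w ^ r := by
    rw [hw, inv_conj_pow, hr, ← pow_mul, ← pow_mul, mul_comm]
  have hwy : y⁻¹ * w * y = w ^ 1 := by
    rw [pow_one, hw]
    have : Commute y (y ^ (r - 1)) := (Commute.refl y).pow_right _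
    rw [mul_assoc, ← this.eq, ← mul_assoc, inv_mul_cancel, one_mul]
  set N : Subgroup X := Subgroup.zpowers w with hN
  have hNn : N.Normal := by
    rw [← Subgroup.normalizer_eq_top_iff, eq_top_iff, ← hgen, Subgroup.closure_le]
    intro g hg
    rcases hg with rfl | hg
    · exact mem_normalizer_zpowers hn0 hxn hwx
    · rw [Set.mem_singleton_iff] at hg
      subst hg
      exact mem_normalizer_zpowers hm0 hym hwy
  -- the quotient is commutative
  have hab : (QuotientGroup.mk' N x) * (QuotientGroup.mk' N y) =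
      (QuotientGroup.mk' N y) * (QuotientGroup.mk' N x) := by
    rw [← map_mul, ← map_mul, QuotientGroup.mk'_apply, QuotientGroup.mk'_apply, QuotientGroup.eq]
    have : (x * y)⁻¹ * (y * x) = w := by
      have h1 : (x * y)⁻¹ * (y * x) = y⁻¹ * (x⁻¹ * y * x) := by group
      rw [h1, hr, hyr, ← mul_assoc, inv_mul_cancel, one_mul]
    rw [this]
    exact Subgroup.mem_zpowers w
  set a := QuotientGroup.mk' N x with ha
  set b := QuotientGroup.mk' N y with hb
  have hgenQ : Subgroup.closure ({a, b} : Set (X ⧸ N)) = ⊤ := by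
    have h1 := MonoidHom.map_closure (QuotientGroup.mk' N) ({x, y} : Set X)
    rw [hgen, Subgroup.map_top_of_surjective _ (QuotientGroup.mk'_surjective N), Set.image_pair] at h1
    exact h1.symm
  have hcen : ∀ g : X ⧸ N, g * a = a * g ∧ g * b = b * g := by
    intro g
    have hg : g ∈ Subgroup.closure ({a, b} : Set (X ⧸ N)) := by rw [hgenQ]; trivial
    have hle : Subgroup.closure ({a, b} : Set (X ⧸ N)) ≤
        Subgroup.centralizer ({a, b} : Set (X ⧸ N)) := by
      rw [Subgroup.closure_le]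
      intro z hz
      rw [SetLike.mem_coe, Subgroup.mem_centralizer_iff]
      intro h hh
      rcases hz with rfl | hz <;> rcases hh with rfl | hh
      · rfl
      · rw [Set.mem_singleton_iff] at hh; subst hh; exact hab.symm
      · rw [Set.mem_singleton_iff] at hz; subst hz; exact hab
      · rw [Set.mem_singleton_iff] at hz hh; subst hz; subst hh; rfl
    have := Subgroup.mem_centralizer_iff.mp (hle hg)
    exact ⟨(this a (by simp)).symm, (this b (by simp)).symm⟩
  have hcomm : IsMulCommutative (X ⧸ N) := by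
    refine ⟨⟨fun g h => ?_⟩⟩
    have hh : h ∈ Subgroup.closure ({a, b} : Set (X ⧸ N)) := by rw [hgenQ]; trivial
    have hle : Subgroup.closure ({a, b} : Set (X ⧸ N)) ≤ Subgroup.centralizer ({g} : Set (X ⧸ N)) := by
      rw [Subgroup.closure_le]
      intro z hz
      rw [SetLike.mem_coe, Subgroup.mem_centralizer_singleton_iff]
      rcases hz with rfl | hz
      · exact ((hcen g).1).symm
      · rw [Set.mem_singleton_iff] at hz; subst hz; exact ((hcen g).2).symm
    have := Subgroup.mem_centralizer_singleton_iff.mp (hle hh)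
    exact this.symm
  have hle : commutator X ≤ N := Subgroup.Normal.quotient_commutative_iff_commutator_le.mp hcomm
  have hyN : y ∈ N := hle (by rw [← hzy]; exact Subgroup.mem_zpowers y)
  obtain ⟨j, hj⟩ := Subgroup.mem_zpowers_iff.mp hyN
  -- y = y^((r-1) j)
  have h1 : y ^ (((r - 1 : ℕ) : ℤ) * j - 1) = 1 := by
    rw [zpow_sub, zpow_mul, zpow_natCast, zpow_one, ← hw, hj, mul_inv_cancel]
  have h2 : ((m : ℕ) : ℤ) ∣ ((r - 1 : ℕ) : ℤ) * j - 1 := by
    rw [hm]; exact orderOf_dvd_iff_zpow_eq_one.mpr h1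
  have h3 : IsCoprime (((r - 1 : ℕ)) : ℤ) ((m : ℕ) : ℤ) := by
    obtain ⟨c, hc⟩ := h2
    refine ⟨j, -c, ?_⟩
    linarith
  exact Int.isCoprime_iff_gcd_eq_one.mp h3 |> fun h => by simpa [Int.gcd_natCast_natCast] using h


/-- the Frobenius-complement condition on a metacyclic group forces `r^(n/n') ≡ 1 (mod m)` -/
theorem pow_modEq_one_of_fc {X : Type*} [Group X] [Finite X] {x y : X} {n m r : ℕ}
    (hn0 : 0 < n) (hm0 : 0 < m) (hx : orderOf x = n) (hy : orderOf y = m) (hcop : Nat.Coprime n m)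
    (hr : x⁻¹ * y * x = y ^ r)
    (hpq : ∀ (p q : ℕ), p.Prime → q.Prime → p ≠ q → ∀ a b : X, orderOf a = q → orderOf b = p →
      b * a * b⁻¹ ∈ Subgroup.zpowers a → b * a * b⁻¹ = a) :
    r ^ (n / ∏ p ∈ n.primeFactors, p) % m = 1 % m := by
  have hxn : x ^ n = 1 := by rw [← hx]; exact pow_orderOf_eq_one x
  -- r^n ≡ 1
  have hrn : r ^ n ≡ 1 [MOD m] := by
    have h1 := conj_pow_pow hr n
    rw [inv_pow, hxn, inv_one, one_mul, mul_one] at h1
    have h2 : y ^ (r ^ n) = y ^ 1 := by rw [pow_one]; exact h1.symm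
    rw [pow_eq_pow_iff_modEq, hy] at h2
    exact h2
  -- r^(n/p) ≡ 1 for each prime p ∣ n
  have hstep : ∀ p ∈ n.primeFactors, r ^ (n / p) ≡ 1 [MOD m] := by
    intro p hp
    have hpp : p.Prime := Nat.prime_of_mem_primeFactors hp
    have hpn : p ∣ n := Nat.dvd_of_mem_primeFactors hp
    have hpm : Nat.Coprime p m := Nat.Coprime.coprime_dvd_left hpn hcop
    apply modEq_one_of_pow_prime hpp hpm
    · rw [← pow_mul, Nat.div_mul_cancel hpn]; exact hrn
    · intro q hq hqm
      have hne : p ≠ q := by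
        rintro rfl
        have := Nat.Coprime.eq_one_of_dvd hpm hqm
        exact hpp.one_lt.ne' this
      set k := n / p with hk
      have hk0 : k ≠ 0 := by
        rw [hk]
        exact (Nat.div_pos (Nat.le_of_dvd hn0 hpn) hpp.pos).ne'
      have hkn : k ∣ n := Nat.div_dvd_of_dvd hpn
      set a : X := y ^ (m / q) with ha
      set b : X := (x⁻¹) ^ k with hb
      have hmq0 : m / q ≠ 0 := (Nat.div_pos (Nat.le_of_dvd hm0 hqm) hq.pos).ne'
      have hao : orderOf a = q := by
        rw [ha, orderOf_pow_of_dvd hmq0 (by rw [hy]; exact Nat.div_dvd_of_dvd hqm), hy,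
          Nat.div_div_self hqm hm0.ne']
      have hbo : orderOf b = p := by
        rw [hb, orderOf_pow_of_dvd hk0 (by rw [orderOf_inv, hx]; exact hkn), orderOf_inv, hx, hk,
          Nat.div_div_self hpn hn0.ne']
      have hbab : b * a * b⁻¹ = a ^ (r ^ k) := by
        have h1 := conj_pow_pow' hr k (m / q)
        rw [hb, ha, inv_pow, inv_inv, ← inv_pow, h1, ← pow_mul, mul_comm]
      have h2 := hpq p q hpp hq hne a b hao hbo (by rw [hbab]; exact Subgroup.pow_mem _ (Subgroup.mem_zpowers a) _)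
      rw [hbab] at h2
      have h3 : a ^ (r ^ k) = a ^ 1 := by rw [pow_one]; exact h2
      rw [pow_eq_pow_iff_modEq, hao] at h3
      exact h3
  -- order of r modulo m
  set t := orderOf ((r : ℕ) : ZMod m) with ht
  have htn : t ∣ n := by
    apply orderOf_dvd_of_pow_eq_one
    have := (ZMod.natCast_eq_natCast_iff _ _ _).mpr hrn
    simpa using this
  have htp : ∀ p ∈ n.primeFactors, t ∣ n / p := by
    intro p hp
    apply orderOf_dvd_of_pow_eq_one
    have := (ZMod.natCast_eq_natCast_iff _ _ _).mpr (hstep p hp)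
    simpa using this
  have hfin := dvd_div_rad hn0 htp htn
  have h4 : ((r : ℕ) : ZMod m) ^ (n / ∏ p ∈ n.primeFactors, p) = 1 :=
    orderOf_dvd_iff_pow_eq_one.mp hfin
  have h5 : r ^ (n / ∏ p ∈ n.primeFactors, p) ≡ 1 [MOD m] := by
    apply (ZMod.natCast_eq_natCast_iff _ _ _).mp
    simpa using h4
  exact h5


/-- **Presentation of Z-groups satisfying the Frobenius-complement condition.** -/
theorem zgroup_presentation (X : Type*) [Group X] [Finite X] [IsZGroup X]
    (hpq : ∀ (p q : ℕ), p.Prime → q.Prime → p ≠ q → ∀ a b : X, orderOf a = q → orderOf b = p →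
      b * a * b⁻¹ ∈ Subgroup.zpowers a → b * a * b⁻¹ = a) :
    ∃ n m r : ℕ, 0 < n ∧ 0 < m ∧ Nat.Coprime (r - 1) m ∧ Nat.Coprime n m ∧ 1 ≤ r ∧
      r ^ (n / ∏ p ∈ n.primeFactors, p) % m = 1 % m ∧
      Nonempty (X ≃* PresentedGroup (zrels n m r)) := by
  obtain ⟨x, y, n, m, r, hn0, hm0, hx, hy, hcard, hcop, hgen, hr, hr1, hrm⟩ := zgroup_data X
  refine ⟨n, m, r, hn0, hm0, hrm, hcop, hr1, pow_modEq_one_of_fc hn0 hm0 hx hy hcop hr hpq, ?_⟩
  exact nonempty_mulEquiv hn0 hm0 (by rw [← hx]; exact pow_orderOf_eq_one x)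
    (by rw [← hy]; exact pow_orderOf_eq_one y) hr hgen hcard.le

end Cfsg.Agent.Lib.Helper19.ZPres
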